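import Cfsg.Agent.Helper29.TwoDegMain
import Cfsg.Agent.Helper24.Taketa
import Cfsg.Agent.Helper24.Monomial
import Cfsg.Agent.Helper24.LinUnits

set_option autoImplicit false

namespace Cfsg.Agent.Helper29.TwoDeg

open Cfsg Cfsg.Agent.Helper24
open scoped commutatorElement

universe u

section TaketaStep

variable {G : Type u} [Group G] [Fintype G]

/-- One step of Taketa's argument: if a monomial irreducible character `χ` is such that the normal
subgroup `D` lies in the kernel of all irreducible characters of smaller degree, then `[D, D]` lies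
in the kernel of `χ`. -/
theorem taketa_step [Fintype (IrrCharacter G)] (χ : IrrCharacter G)
    (hM : ∃ (H : Subgroup G) (lam : H →* ℂˣ), (χ : G → ℂ) = indFun H (fun h => (lam h : ℂ)))
    (D : Subgroup G) [hDn : D.Normal]
    (hsmall : ∀ θ : IrrCharacter G, irrDeg θ < irrDeg χ → ∀ y ∈ D,
      (θ : G → ℂ) y = (θ : G → ℂ) 1) :
    ∀ g ∈ ⁅D, D⁆, (χ : G → ℂ) g = (χ : G → ℂ) 1 := by
  classical
  intro g hg
  obtain ⟨H, lam, hχ⟩ := hM
  haveI : Fintype H := Fintype.ofFinite H
  have hdegH : H.index = irrDeg χ := by
    have h1 := Helper5.indFun_apply_one H (fun h => (lam h : ℂ))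
    rw [← hχ, irrDeg_spec, map_one, Units.val_one, mul_one] at h1
    exact_mod_cast h1.symm
  have hDH : D ≤ H := by
    by_cases hH : H = ⊤
    · rw [hH]; exact le_top
    · have hπc : IsCharacter G (indFun H (fun _ => (1 : ℂ))) :=
        isCharacter_indFun H isCharacter_const_one
      obtain ⟨m, hm⟩ := IsCharacter.exists_nat_coeff hπc
      have hmθ : ∀ θ : IrrCharacter G,
          classInner (indFun H (fun _ => (1 : ℂ))) (θ : G → ℂ) = m θ := by
        intro θ
        rw [hm]
        exact classInner_sum_irr _ θ
      have hdeg1 : irrDeg (trivIrr G) = 1 := by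
        rw [irrDeg_eq_one_iff]; rfl
      have hm1 : m (trivIrr G) = 1 := by
        have h1 := Helper8.frobenius_reciprocity H (fun _ => (1:ℂ)) (trivIrr G : G → ℂ)
          (fun _ _ => rfl)
        rw [hmθ] at h1
        have h2 : classInner (fun _ : H => (1:ℂ)) (fun h : H => (trivIrr G : G → ℂ) h) = 1 := by
          unfold classInner
          have hH0 : (Nat.card H : ℂ) ≠ 0 := by
            have := Nat.card_pos (α := H)
            exact_mod_cast this.ne'
          simp only [trivIrr_apply, map_one, mul_one, Finset.sum_const, Finset.card_univ,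
            nsmul_eq_mul]
          rw [← Nat.card_eq_fintype_card]
          exact inv_mul_cancel₀ hH0
        rw [h2] at h1
        exact_mod_cast h1
      have hsum : H.index = ∑ θ : IrrCharacter G, m θ * irrDeg θ := by
        have h1 := Helper5.indFun_apply_one H (fun _ => (1:ℂ))
        have h2 := congrFun hm 1
        rw [Finset.sum_apply, h1, mul_one] at h2
        have h3 : ∀ θ : IrrCharacter G,
            ((m θ : ℂ) • (θ : G → ℂ)) 1 = ((m θ * irrDeg θ : ℕ) : ℂ) := by
          intro θ
          rw [Pi.smul_apply, irrDeg_spec, smul_eq_mul]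
          push_cast
          rfl
        simp_rw [h3] at h2
        rw [← Nat.cast_sum] at h2
        exact_mod_cast h2
      have hindex : 2 ≤ H.index := by
        have h1 : H.index ≠ 1 := fun h => hH (Subgroup.index_eq_one.mp h)
        have h0 : H.index ≠ 0 := Subgroup.index_ne_zero_of_finite
        omega
      intro y hy
      have hy1 : indFun H (fun _ => (1 : ℂ)) y = indFun H (fun _ => (1 : ℂ)) 1 := by
        apply IsCharacter.apply_eq_apply_one_of_constituents hπc
        intro θ hθ
        rw [hmθ] at hθ
        have hmθ' : m θ ≠ 0 := by exact_mod_cast hθ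
        apply hsmall θ _ y hy
        by_cases ht : θ = trivIrr G
        · rw [ht, hdeg1]
          omega
        · have h5 : m (trivIrr G) * irrDeg (trivIrr G) + m θ * irrDeg θ ≤
              ∑ θ : IrrCharacter G, m θ * irrDeg θ := by
            rw [← Finset.sum_pair (f := fun θ => m θ * irrDeg θ) (Ne.symm ht)]
            exact Finset.sum_le_sum_of_subset (Finset.subset_univ _)
          rw [hm1, hdeg1, ← hsum] at h5
          have h6 : irrDeg θ ≤ m θ * irrDeg θ :=
            Nat.le_mul_of_pos_left _ (Nat.pos_of_ne_zero hmθ')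
          omega
      have := mem_of_indFun_one_eq H y hy1 1
      simpa using this
  rw [hχ]
  apply indFun_eq_of_conj_mem_ker
  intro x
  have hx : x⁻¹ * g * x ∈ ⁅D, D⁆ := by
    have hN : (⁅D, D⁆ : Subgroup G).Normal := inferInstance
    have := hN.conj_mem g hg x⁻¹
    simpa using this
  exact lam_eq_one_of_mem_commutator H D hDH lam _ hx

omit [Fintype G] in
/-- Linear characters are trivial on the commutator subgroup. -/
theorem linear_apply_commutator (θ : IrrCharacter G) (h1 : irrDeg θ = 1) (y : G)
    (hy : y ∈ commutator G) : (θ : G → ℂ) y = (θ : G → ℂ) 1 := by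
  have hθ1 : (θ : G → ℂ) 1 = 1 := (irrDeg_eq_one_iff θ).mp h1
  have hc : IsCharacter G (θ : G → ℂ) := IsIrrCharacter.isCharacter θ.2
  have hker := Abelianization.commutator_subset_ker (linUnits hc hθ1)
  have h2 := MonoidHom.mem_ker.mp (hker hy)
  have h3 := linUnits_apply hc hθ1 y
  rw [h2] at h3
  rw [hθ1, ← h3]; rfl

/-- If every irreducible character takes its degree at `g`, then `g = 1`. -/
theorem eq_one_of_forall_irr [Fintype (IrrCharacter G)] (g : G)
    (h : ∀ χ : IrrCharacter G, (χ : G → ℂ) g = (χ : G → ℂ) 1) : g = 1 := by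
  by_contra hne
  have h1 := sum_irr_one_mul_eq_zero hne
  have h2 : ∀ χ : IrrCharacter G, (χ : G → ℂ) 1 * (χ : G → ℂ) g = ((irrDeg χ ^ 2 : ℕ) : ℂ) := by
    intro χ
    rw [h χ, irrDeg_spec]
    push_cast
    ring
  simp_rw [h2] at h1
  rw [← Nat.cast_sum] at h1
  have h3 : ∑ χ : IrrCharacter G, irrDeg χ ^ 2 = 0 := by exact_mod_cast h1
  have h4 := (Finset.sum_eq_zero_iff.mp h3) (trivIrr G) (Finset.mem_univ _)
  have := irrDeg_pos (trivIrr G)
  have : irrDeg (trivIrr G) ^ 2 ≠ 0 := by positivity
  exact this h4

/-- An M-group with character degrees `1` and `m` has abelian commutator subgroup. -/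
theorem commutator_comm_of_monomial {m : ℕ} (h : TwoDegrees G m)
    (hM : ∀ χ : G → ℂ, IsIrrCharacter G χ → ∃ (H : Subgroup G) (lam : H →* ℂˣ),
      χ = indFun H (fun h => (lam h : ℂ))) :
    ∀ a ∈ commutator G, ∀ b ∈ commutator G, a * b = b * a := by
  classical
  have : Fintype (IrrCharacter G) := Fintype.ofFinite _
  intro a ha b hb
  have hmem : ⁅a, b⁆ ∈ ⁅commutator G, commutator G⁆ :=
    Subgroup.commutator_mem_commutator ha hb
  have h1 : ⁅a, b⁆ = 1 := by
    apply eq_one_of_forall_irr
    intro χ
    rcases h.irrDeg_cases χ with h1 | h1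
    · apply linear_apply_commutator χ h1
      exact Subgroup.commutator_le_left _ _ hmem
    · refine taketa_step χ (hM χ χ.2) (commutator G) ?_ _ hmem
      intro θ hθ y hy
      rcases h.irrDeg_cases θ with h2 | h2
      · exact linear_apply_commutator θ h2 y hy
      · omega
  exact commutatorElement_eq_one_iff_commute.mp h1

end TaketaStep

end Cfsg.Agent.Helper29.TwoDeg
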