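import Mathlib
import Cfsg.Agent.Helper14.SylowIn

set_option autoImplicit false
open Pointwise

namespace Cfsg.Agent.Helper29

open Subgroup
open Cfsg.Agent.Helper14 (cj IsSylowIn)

universe u

section Commute

/-- In a nilpotent group, elements of coprime orders commute. -/
theorem commute_of_nilpotent_of_coprime_orderOf (X : Type*) [Group X] [Group.IsNilpotent X] :
    ∀ s t : X, (orderOf s).Coprime (orderOf t) → Commute s t := by
  refine Group.nilpotent_center_quotient_ind
    (P := fun X _ _ => ∀ s t : X, (orderOf s).Coprime (orderOf t) → Commute s t) X ?_ ?_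
  · intro X _ _ s t _
    exact Subsingleton.elim _ _
  · intro X _ _ ih s t hst
    have h1 : (orderOf (QuotientGroup.mk' (center X) s)).Coprime
        (orderOf (QuotientGroup.mk' (center X) t)) :=
      Nat.Coprime.coprime_dvd_left (orderOf_map_dvd _ s)
        (Nat.Coprime.coprime_dvd_right (orderOf_map_dvd _ t) hst)
    have h2 := ih _ _ h1
    set z : X := s * t * s⁻¹ * t⁻¹ with hz
    have hzc : z ∈ center X := by
      rw [← QuotientGroup.eq_one_iff (N := center X)]
      have h3 : (QuotientGroup.mk' (center X) s) * (QuotientGroup.mk' (center X) t) =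
          (QuotientGroup.mk' (center X) t) * (QuotientGroup.mk' (center X) s) := h2.eq
      have : ((z : X) : X ⧸ center X) = (QuotientGroup.mk' (center X) s) *
          (QuotientGroup.mk' (center X) t) * (QuotientGroup.mk' (center X) s)⁻¹ *
          (QuotientGroup.mk' (center X) t)⁻¹ := by
        simp [hz]
      rw [this, h3]
      group
    have hzcomm : ∀ y : X, Commute z y := fun y => (Subgroup.mem_center_iff.mp hzc y).symm
    -- z ^ orderOf t = 1
    have e1 : z ^ orderOf t = 1 := by
      have h4 : s * t * s⁻¹ = z * t := by rw [hz]; group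
      have h5 : (s * t * s⁻¹) ^ orderOf t = 1 := by
        rw [conj_pow, pow_orderOf_eq_one]; group
      rw [h4, (hzcomm t).mul_pow, pow_orderOf_eq_one, mul_one] at h5
      exact h5
    have e2 : z ^ orderOf s = 1 := by
      have h4 : t * s * t⁻¹ = z⁻¹ * s := by rw [hz]; group
      have h5 : (t * s * t⁻¹) ^ orderOf s = 1 := by
        rw [conj_pow, pow_orderOf_eq_one]; group
      rw [h4, ((hzcomm s).inv_left).mul_pow, pow_orderOf_eq_one, mul_one, inv_pow,
        inv_eq_one] at h5
      exact h5
    have h6 : orderOf z ∣ 1 := by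
      have := Nat.dvd_gcd (orderOf_dvd_of_pow_eq_one e2) (orderOf_dvd_of_pow_eq_one e1)
      rwa [Nat.Coprime.gcd_eq_one hst] at this
    have hz1 : z = 1 := orderOf_eq_one_iff.mp (Nat.dvd_one.mp h6)
    have : s * t = z * (t * s) := by rw [hz]; group
    rw [hz1, one_mul] at this
    exact this

/-- In a nilpotent group, a `p`-subgroup and a subgroup of order prime to `p` commute
elementwise. -/
theorem commute_of_pgroup_of_coprime {X : Type*} [Group X] [Group.IsNilpotent X]
    {A B : Subgroup X} {p : ℕ} [Fact p.Prime] (hA : IsPGroup p A) [Finite B]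
    (hB : (Nat.card B).Coprime p) : ∀ a ∈ A, ∀ b ∈ B, a * b = b * a := by
  intro a ha b hb
  have hcop : (orderOf a).Coprime (orderOf b) := by
    obtain ⟨k, hk⟩ := hA ⟨a, ha⟩
    have h1 : orderOf a ∣ p ^ k := by
      apply orderOf_dvd_of_pow_eq_one
      exact congrArg Subtype.val hk
    have h2 : orderOf b ∣ Nat.card B := by
      have := orderOf_dvd_natCard (⟨b, hb⟩ : B)
      rwa [Subgroup.orderOf_mk] at this
    exact Nat.Coprime.coprime_dvd_left h1
      (Nat.Coprime.coprime_dvd_right h2 (Nat.Coprime.pow_left k hB.symm))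
  exact (commute_of_nilpotent_of_coprime_orderOf X _ _ hcop).eq

variable {G : Type*} [Group G]

theorem nilpotent_of_le {L H' : Subgroup G} (h : L ≤ H') (hH' : Group.IsNilpotent H') :
    Group.IsNilpotent L :=
  Group.nilpotent_of_mulEquiv (Subgroup.subgroupOfEquivOfLe h)

theorem nilpotent_conj_smul (x : G) {H : Subgroup G} (hH : Group.IsNilpotent H) :
    Group.IsNilpotent (MulAut.conj x • H : Subgroup G) :=
  Group.nilpotent_of_mulEquiv
    (H.equivMapOfInjective (MulAut.conj x).toMonoidHom (MulAut.conj x).injective)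

theorem le_normalizer_of_conj_mem {K T : Subgroup G}
    (h : ∀ k ∈ K, ∀ x ∈ T, k * x * k⁻¹ ∈ T) : K ≤ normalizer (T : Set G) := by
  intro k hk
  rw [mem_normalizer_iff]
  intro x
  constructor
  · exact h k hk x
  · intro hx
    have := h k⁻¹ (K.inv_mem hk) _ hx
    simpa [mul_assoc] using this

/-- Inside a nilpotent subgroup, a `p`-subgroup and a subgroup of order prime to `p` commute
elementwise. -/
theorem commute_of_le_nilpotent_of_coprime {H A B : Subgroup G} (hH : Group.IsNilpotent H)
    (hAH : A ≤ H) (hBH : B ≤ H) {p : ℕ} [Fact p.Prime] (hA : IsPGroup p A) [Finite B]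
    (hB : (Nat.card B).Coprime p) : ∀ a ∈ A, ∀ b ∈ B, a * b = b * a := by
  intro a ha b hb
  have hcop : (orderOf a).Coprime (orderOf b) := by
    obtain ⟨k, hk⟩ := hA ⟨a, ha⟩
    have h1 : orderOf a ∣ p ^ k := by
      apply orderOf_dvd_of_pow_eq_one
      exact congrArg Subtype.val hk
    have h2 : orderOf b ∣ Nat.card B := by
      have := orderOf_dvd_natCard (⟨b, hb⟩ : B)
      rwa [Subgroup.orderOf_mk] at this
    exact Nat.Coprime.coprime_dvd_left h1
      (Nat.Coprime.coprime_dvd_right h2 (Nat.Coprime.pow_left k hB.symm))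
  have hcop' : (orderOf (⟨a, hAH ha⟩ : H)).Coprime (orderOf (⟨b, hBH hb⟩ : H)) := by
    rwa [Subgroup.orderOf_mk, Subgroup.orderOf_mk]
  have := commute_of_nilpotent_of_coprime_orderOf H _ _ hcop'
  exact congrArg Subtype.val this.eq

end Commute

section Hall

variable {G : Type*} [Group G] [Finite G]

/-- A Sylow `p`-subgroup of a Hall subgroup `H` (with `p ∣ |H|`) is a Sylow `p`-subgroup of `G`. -/
theorem exists_sylow_eq_map_of_hall {H : Subgroup G} (hHall : (Nat.card H).Coprime H.index)
    {p : ℕ} [Fact p.Prime] (hp : p ∣ Nat.card H) (S : Sylow p H) :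
    ∃ S' : Sylow p G, (S' : Subgroup G) = (S : Subgroup H).map H.subtype := by
  have hcard : Nat.card ((S : Subgroup H).map H.subtype) = p ^ (Nat.card G).factorization p := by
    rw [Subgroup.card_subtype, S.card_eq_multiplicity]
    congr 1
    have h1 : Nat.card G = Nat.card H * H.index := (Subgroup.card_mul_index H).symm
    have hidx : H.index ≠ 0 := Subgroup.index_ne_zero_of_finite
    rw [h1, Nat.factorization_mul Nat.card_pos.ne' hidx]
    have h2 : (H.index).factorization p = 0 := by
      apply Nat.factorization_eq_zero_of_not_dvd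
      intro h
      have := Nat.dvd_gcd hp h
      rw [Nat.Coprime.gcd_eq_one hHall] at this
      exact (Fact.out : p.Prime).one_lt.ne' (Nat.dvd_one.mp this)
    simp [h2]
  exact ⟨Sylow.ofCard _ hcard, Sylow.coe_ofCard _ hcard⟩

omit [Finite G] in
/-- A Sylow `p`-subgroup of `G` contained in `N` is Sylow in `N`. -/
theorem isSylowIn_of_sylow_le {p : ℕ} [Fact p.Prime] (S : Sylow p G) {N : Subgroup G}
    (h : (S : Subgroup G) ≤ N) : IsSylowIn p (S : Subgroup G) N := by
  refine ⟨h, S.isPGroup', ?_⟩
  intro Q _ hQp hle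
  exact S.is_maximal' hQp hle

/-- Sylow: a `p`-subgroup `P` of `N` can be conjugated by an element of `N` into a given
Sylow `p`-subgroup of `G` lying in `N`. -/
theorem exists_conj_le_sylow {p : ℕ} [Fact p.Prime] (S : Sylow p G) {N P : Subgroup G}
    (hSN : (S : Subgroup G) ≤ N) (hPN : P ≤ N) (hP : IsPGroup p P) :
    ∃ x ∈ N, MulAut.conj x • P ≤ (S : Subgroup G) := by
  obtain ⟨U, hU, hPU⟩ := Cfsg.Agent.Helper14.exists_isSylowIn_ge hPN hP
  obtain ⟨g, hgN, hg⟩ := hU.exists_conj (isSylowIn_of_sylow_le S hSN)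
  refine ⟨g, hgN, ?_⟩
  rw [hg]
  exact Subgroup.map_mono hPU

end Hall

end Cfsg.Agent.Helper29
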