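import Mathlib
import Cfsg.Prelude.Def_SolvableStructure
import Cfsg.Agent.S0589

set_option autoImplicit false
open Pointwise

namespace Cfsg.Agent.Helper29

open Subgroup
open scoped commutatorElement

universe u

section Basic
variable {G : Type*} [Group G]

/-- Normalizers grow in nilpotent subgroups (ambient form). -/
theorem exists_mem_normalizer_not_mem {D M : Subgroup G} (hM : Group.IsNilpotent M)
    (hDM : D < M) : ∃ x ∈ M, x ∈ normalizer (D : Set G) ∧ x ∉ D := by
  have hnc := Group.normalizerCondition_of_isNilpotent (G := M)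
  have hlt : D.subgroupOf M < ⊤ := by
    rw [lt_top_iff_ne_top, Ne, subgroupOf_eq_top]
    exact not_le_of_gt hDM
  have h1 := hnc _ hlt
  obtain ⟨x, hxN, hxD⟩ := SetLike.exists_of_lt h1
  refine ⟨x, x.2, ?_, ?_⟩
  · rw [← subgroupOf_normalizer_eq hDM.le] at hxN
    exact hxN
  · exact hxD

theorem mem_conj_smul_iff' (g x : G) (H : Subgroup G) :
    x ∈ MulAut.conj g • H ↔ g⁻¹ * x * g ∈ H := by
  rw [Subgroup.mem_pointwise_smul_iff_inv_smul_mem]
  simp [MulAut.smul_def]

/-- `x` fixes a point of `G ⧸ M` iff it lies in a conjugate of `M`. -/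
theorem exists_fixed_iff (M : Subgroup G) (x : G) :
    (∃ a : G ⧸ M, x • a = a) ↔ ∃ g : G, x ∈ MulAut.conj g • M := by
  constructor
  · rintro ⟨a, ha⟩
    induction a using QuotientGroup.induction_on with
    | H g =>
    refine ⟨g, ?_⟩
    rw [MulAction.Quotient.smul_mk, QuotientGroup.eq] at ha
    rw [mem_conj_smul_iff']
    have := M.inv_mem ha
    simpa [smul_eq_mul, mul_assoc] using this
  · rintro ⟨g, hg⟩
    refine ⟨(g : G ⧸ M), ?_⟩
    rw [MulAction.Quotient.smul_mk, QuotientGroup.eq]
    rw [mem_conj_smul_iff'] at hg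
    have := M.inv_mem hg
    simpa [smul_eq_mul, mul_assoc] using this

/-- Counting the nonidentity elements in the conjugates of a TI self-normalizing subgroup. -/
theorem card_conj_union [Finite G] (M : Subgroup G)
    (hM : ∀ g : G, g ∉ M → M ⊓ (MulAut.conj g • M) = ⊥) :
    Nat.card {x : G // x ≠ 1 ∧ ∃ g : G, x ∈ MulAut.conj g • M} + M.index = Nat.card G := by
  have h0 := Cfsg.Agent.S0589.burnside_dvd (L := G) (X := G ⧸ M)
    (fun x hx a b ha hb => Cfsg.Agent.S0589.fixed_unique M hM x hx a b ha hb)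
  have e : Nat.card {x : G // x ≠ 1 ∧ ∃ a : G ⧸ M, x • a = a} =
      Nat.card {x : G // x ≠ 1 ∧ ∃ g : G, x ∈ MulAut.conj g • M} := by
    simp_rw [exists_fixed_iff]
  rw [e] at h0
  have h1 : Nat.card {x : G // x ≠ 1 ∧ ∃ g : G, x ∈ MulAut.conj g • M} + 1 ≤ Nat.card G := by
    rw [← Cfsg.Agent.S0589.card_ne_add_one (1 : G)]
    apply Nat.add_le_add_right
    apply Nat.card_le_card_of_injective
      (fun x : {x : G // x ≠ 1 ∧ ∃ g : G, x ∈ MulAut.conj g • M} =>
        (⟨x.1, x.2.1⟩ : {x : G // x ≠ 1}))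
    intro x y hxy
    apply Subtype.ext
    exact congrArg (fun z : {x : G // x ≠ 1} => z.1) hxy
  have h2 : M.index ≤ Nat.card G := Nat.le_of_dvd Nat.card_pos (Subgroup.index_dvd_card M)
  have h3 : 0 < M.index := Nat.pos_of_ne_zero Subgroup.index_ne_zero_of_finite
  rw [← Subgroup.index_eq_card] at h0
  obtain ⟨c, hc⟩ := h0
  have hpos : 0 < Nat.card G := Nat.card_pos
  have hc1 : c = 1 := by
    rcases c with _ | _ | c
    · omega
    · rfl
    · exfalso; nlinarith
  subst hc1
  omega

theorem smul_top_eq {α : Type*} [Group α] [MulDistribMulAction α G] (a : α) :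
    a • (⊤ : Subgroup G) = ⊤ := by
  ext x
  rw [mem_pointwise_smul_iff_inv_smul_mem]
  simp

theorem isCoatom_smul {α : Type*} [Group α] [MulDistribMulAction α G] {M : Subgroup G}
    (hM : IsCoatom M) (a : α) : IsCoatom (a • M) := by
  refine ⟨fun h => hM.1 ?_, fun K hK => ?_⟩
  · have := congrArg (fun K => a⁻¹ • K) h
    simpa [smul_top_eq] using this
  · have h1 : M ≤ a⁻¹ • K := pointwise_smul_subset_iff.mp hK.le
    have h2 : M ≠ a⁻¹ • K := by
      intro h
      apply hK.ne
      rw [h, smul_inv_smul]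
    have h3 := hM.2 _ (lt_of_le_of_ne h1 h2)
    have h4 := congrArg (fun K => a • K) h3
    simpa [smul_top_eq] using h4

theorem mem_normalizer_of_conj_smul_eq' {A : Subgroup G} {y : G} (h : MulAut.conj y • A = A) :
    y ∈ normalizer (A : Set G) := by
  rw [mem_normalizer_iff]
  intro a
  constructor
  · intro ha
    have : y * a * y⁻¹ ∈ MulAut.conj y • A := by
      rw [mem_conj_smul_iff']; simpa [mul_assoc] using ha
    rwa [h] at this
  · intro ha
    rw [← h, mem_conj_smul_iff'] at ha
    simpa [mul_assoc] using ha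

theorem card_add_card_le_of_disjoint {α : Type*} [Finite α] (p q r : α → Prop)
    (hp : ∀ x, p x → r x) (hq : ∀ x, q x → r x) (hpq : ∀ x, p x → q x → False) :
    Nat.card {x // p x} + Nat.card {x // q x} ≤ Nat.card {x // r x} := by
  rw [← Nat.card_sum]
  apply Nat.card_le_card_of_injective
    (fun s : {x // p x} ⊕ {x // q x} => (Sum.elim (fun x => ⟨x.1, hp _ x.2⟩)
      (fun x => ⟨x.1, hq _ x.2⟩) s : {x // r x}))
  rintro (x | x) (y | y) hxy
  · have : (x.1 : α) = y.1 := congrArg (fun z : {x // r x} => z.1) hxy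
    rw [Subtype.ext this]
  · have : (x.1 : α) = y.1 := congrArg (fun z : {x // r x} => z.1) hxy
    exact (hpq _ x.2 (this ▸ y.2)).elim
  · have : (x.1 : α) = y.1 := congrArg (fun z : {x // r x} => z.1) hxy
    exact (hpq _ (this ▸ y.2) x.2).elim
  · have : (x.1 : α) = y.1 := congrArg (fun z : {x // r x} => z.1) hxy
    rw [Subtype.ext this]

/-- A finite group with all proper subgroups nilpotent and no nontrivial proper normal
subgroup is solvable. -/
theorem solvable_of_simple_proper_nilpotent [Finite G]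
    (hnil : ∀ H : Subgroup G, H ≠ ⊤ → Group.IsNilpotent H)
    (hsimple : ∀ N : Subgroup G, N.Normal → N = ⊥ ∨ N = ⊤) : Group.IsSolvable G := by
  by_contra hns
  have hnc : ¬ ∀ a b : G, a * b = b * a := fun h => hns (Group.isSolvable_of_comm h)
  -- cyclic groups are excluded
  have hncyc : ∀ x : G, zpowers x ≠ ⊤ := by
    intro x hx
    apply hnc
    intro a b
    have ha : a ∈ zpowers x := hx ▸ mem_top a
    have hb : b ∈ zpowers x := hx ▸ mem_top b
    obtain ⟨i, rfl⟩ := mem_zpowers_iff.mp ha
    obtain ⟨j, rfl⟩ := mem_zpowers_iff.mp hb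
    rw [← zpow_add, ← zpow_add, add_comm]
  have hcoatom_ne_bot : ∀ M : Subgroup G, IsCoatom M → M ≠ ⊥ := by
    rintro M hM rfl
    apply hnc
    intro a b
    by_cases ha : a = 1
    · subst ha; simp
    · have h1 : (⊥ : Subgroup G) < zpowers a := by
        rw [bot_lt_iff_ne_bot, Ne, zpowers_eq_bot]
        exact ha
      exact absurd (hM.2 _ h1) (hncyc a)
  -- distinct maximal subgroups intersect trivially
  have hTI : ∀ M₁ M₂ : Subgroup G, IsCoatom M₁ → IsCoatom M₂ → M₁ ≠ M₂ → M₁ ⊓ M₂ = ⊥ := by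
    by_contra hcon
    push Not at hcon
    let S : Set (Subgroup G × Subgroup G) :=
      {P | IsCoatom P.1 ∧ IsCoatom P.2 ∧ P.1 ≠ P.2 ∧ P.1 ⊓ P.2 ≠ ⊥}
    have hSne : S.Nonempty := by
      obtain ⟨M₁, M₂, h1, h2, h3, h4⟩ := hcon
      exact ⟨(M₁, M₂), h1, h2, h3, h4⟩
    obtain ⟨⟨M₁, M₂⟩, ⟨h1, h2, h3, h4⟩, hmax⟩ :=
      Set.exists_max_image S (fun P => Nat.card (P.1 ⊓ P.2 : Subgroup G)) (Set.toFinite S) hSne
    simp only at h1 h2 h3 h4 hmax
    set D := M₁ ⊓ M₂ with hD
    have hDn : normalizer (D : Set G) ≠ ⊤ := by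
      intro h
      rw [normalizer_eq_top_iff] at h
      rcases hsimple D h with h' | h'
      · exact h4 h'
      · exact h1.1 (top_le_iff.mp (h' ▸ inf_le_left))
    obtain ⟨M, hMco, hNM⟩ := (eq_top_or_exists_le_coatom _).resolve_left hDn
    have hDM : D ≤ M := le_trans le_normalizer hNM
    have key : ∀ M' : Subgroup G, IsCoatom M' → D < M' →
        (M ≠ M' → Nat.card (M ⊓ M' : Subgroup G) ≤ Nat.card D) → M = M' := by
      intro M' hM' hDM' hle
      by_contra hne
      obtain ⟨x, hxM', hxN, hxD⟩ := exists_mem_normalizer_not_mem (hnil M' hM'.1) hDM'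
      have hlt : D < M ⊓ M' := by
        refine lt_of_le_of_ne (le_inf hDM hDM'.le) ?_
        intro h
        apply hxD
        rw [h]
        exact Subgroup.mem_inf.mpr ⟨hNM hxN, hxM'⟩
      have := hle hne
      have h5 : Nat.card D < Nat.card (M ⊓ M' : Subgroup G) := by
        rcases eq_or_lt_of_le (Subgroup.card_le_of_le hlt.le) with he | hl
        · exact absurd (Subgroup.eq_of_le_of_card_ge hlt.le he.ge) hlt.ne
        · exact hl
      omega
    have hD1 : D < M₁ := by
      refine lt_of_le_of_ne inf_le_left ?_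
      intro h
      have h12 : M₁ ≤ M₂ := h ▸ inf_le_right
      rcases eq_or_lt_of_le h12 with he | hl
      · exact h3 he
      · exact h2.1 (h1.2 _ hl)
    have hD2 : D < M₂ := by
      refine lt_of_le_of_ne inf_le_right ?_
      intro h
      have h21 : M₂ ≤ M₁ := h ▸ inf_le_left
      rcases eq_or_lt_of_le h21 with he | hl
      · exact h3 he.symm
      · exact h1.1 (h2.2 _ hl)
    have e1 : M = M₁ := key M₁ h1 hD1 (fun hne => by
      have hne' : M ⊓ M₁ ≠ ⊥ := fun hb => h4 (le_bot_iff.mp (hb ▸ le_inf hDM hD1.le))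
      exact hmax (M, M₁) ⟨hMco, h1, hne, hne'⟩)
    have e2 : M = M₂ := key M₂ h2 hD2 (fun hne => by
      have hne' : M ⊓ M₂ ≠ ⊥ := fun hb => h4 (le_bot_iff.mp (hb ▸ le_inf hDM hD2.le))
      exact hmax (M, M₂) ⟨hMco, h2, hne, hne'⟩)
    exact h3 (e1.symm.trans e2)
  -- every maximal subgroup is TI and self-normalizing
  have hfrob : ∀ M : Subgroup G, IsCoatom M → ∀ g : G, g ∉ M →
      M ⊓ (MulAut.conj g • M) = ⊥ := by
    intro M hM g hg
    apply hTI M _ hM (isCoatom_smul hM _)
    intro h
    have hgN : g ∈ normalizer (M : Set G) := mem_normalizer_of_conj_smul_eq' h.symm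
    have hN : normalizer (M : Set G) = M := by
      rcases eq_or_lt_of_le (le_normalizer : M ≤ normalizer (M : Set G)) with he | hl
      · exact he.symm
      · exfalso
        have := hM.2 _ hl
        rw [normalizer_eq_top_iff] at this
        rcases hsimple M this with h' | h'
        · exact hcoatom_ne_bot M hM h'
        · exact hM.1 h'
    rw [hN] at hgN
    exact hg hgN
  have hidx : ∀ M : Subgroup G, IsCoatom M → 2 * M.index ≤ Nat.card G := by
    intro M hM
    have h1 : 1 < Nat.card M := by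
      rw [Subgroup.one_lt_card_iff_ne_bot]
      exact hcoatom_ne_bot M hM
    have h2 := Subgroup.card_mul_index M
    have h3 : 0 < M.index := Nat.pos_of_ne_zero Subgroup.index_ne_zero_of_finite
    nlinarith
  -- a first maximal subgroup
  have hbt : (⊥ : Subgroup G) ≠ ⊤ := by
    intro h
    apply hnc
    intro a b
    have ha : a ∈ (⊥ : Subgroup G) := h ▸ mem_top a
    have hb : b ∈ (⊥ : Subgroup G) := h ▸ mem_top b
    rw [mem_bot] at ha hb
    rw [ha, hb]
  obtain ⟨M₁, hM₁, -⟩ := (eq_top_or_exists_le_coatom (⊥ : Subgroup G)).resolve_left hbt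
  have hc1 := card_conj_union M₁ (hfrob M₁ hM₁)
  -- an element outside all conjugates of M₁
  have hex : ∃ x : G, x ≠ 1 ∧ ∀ g : G, x ∉ MulAut.conj g • M₁ := by
    by_contra hno
    push Not at hno
    have e : Nat.card {x : G // x ≠ 1 ∧ ∃ g : G, x ∈ MulAut.conj g • M₁} =
        Nat.card {x : G // x ≠ 1} := by
      apply Nat.card_congr
      exact Equiv.subtypeEquivRight (fun x => ⟨fun h => h.1, fun h => ⟨h, hno x h⟩⟩)
    have h2 := Cfsg.Agent.S0589.card_ne_add_one (1 : G)
    have h3 : M₁.index ≠ 1 := by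
      rw [Ne, Subgroup.index_eq_one]
      exact hM₁.1
    omega
  obtain ⟨x, hx1, hxM₁⟩ := hex
  obtain ⟨M₂, hM₂, hxM₂⟩ := (eq_top_or_exists_le_coatom (zpowers x)).resolve_left (hncyc x)
  have hc2 := card_conj_union M₂ (hfrob M₂ hM₂)
  have hnconj : ∀ g₁ g₂ : G, MulAut.conj g₁ • M₁ ≠ MulAut.conj g₂ • M₂ := by
    intro g₁ g₂ h
    have h1 : MulAut.conj (g₂⁻¹ * g₁) • M₁ = M₂ := by
      rw [map_mul, mul_smul, h, ← mul_smul, ← map_mul, inv_mul_cancel, map_one, one_smul]
    apply hxM₁ (g₂⁻¹ * g₁)
    rw [h1]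
    exact hxM₂ (mem_zpowers x)
  have hdisj := card_add_card_le_of_disjoint
    (fun x : G => x ≠ 1 ∧ ∃ g : G, x ∈ MulAut.conj g • M₁)
    (fun x : G => x ≠ 1 ∧ ∃ g : G, x ∈ MulAut.conj g • M₂)
    (fun x : G => x ≠ 1) (fun _ h => h.1) (fun _ h => h.1)
    (by
      rintro y ⟨hy1, g₁, hg₁⟩ ⟨-, g₂, hg₂⟩
      have := hTI _ _ (isCoatom_smul hM₁ (MulAut.conj g₁)) (isCoatom_smul hM₂ (MulAut.conj g₂))
        (hnconj g₁ g₂)
      have hy : y ∈ (MulAut.conj g₁ • M₁) ⊓ (MulAut.conj g₂ • M₂) :=
        Subgroup.mem_inf.mpr ⟨hg₁, hg₂⟩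
      rw [this, mem_bot] at hy
      exact hy1 hy)
  have h2 := Cfsg.Agent.S0589.card_ne_add_one (1 : G)
  have h3 := hidx M₁ hM₁
  have h4 := hidx M₂ hM₂
  omega

end Basic

section Solvable

theorem solvable_of_proper_nilpotent_aux (n : ℕ) : ∀ {G : Type u} [Group G] [Finite G],
    Nat.card G = n → (∀ H : Subgroup G, H ≠ ⊤ → Group.IsNilpotent H) → Group.IsSolvable G := by
  induction n using Nat.strong_induction_on with
  | _ n ih =>
    intro G _ _ hn hnil
    by_cases hN : ∃ N : Subgroup G, N.Normal ∧ N ≠ ⊥ ∧ N ≠ ⊤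
    · obtain ⟨N, hNn, hNb, hNt⟩ := hN
      have hNnil : Group.IsNilpotent N := hnil N hNt
      have hNsol : Group.IsSolvable N := inferInstance
      have hlt : Nat.card (G ⧸ N) < n := by
        have h1 : 1 < Nat.card N := by
          rw [Subgroup.one_lt_card_iff_ne_bot]
          exact hNb
        have h2 := Subgroup.card_eq_card_quotient_mul_card_subgroup N
        rw [hn] at h2
        have h3 : 0 < Nat.card (G ⧸ N) := Nat.card_pos
        nlinarith
      have hQ : Group.IsSolvable (G ⧸ N) := ih _ hlt rfl (by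
        intro K hK
        have hf : Function.Surjective (QuotientGroup.mk' N) := QuotientGroup.mk'_surjective N
        have hK' : K.comap (QuotientGroup.mk' N) ≠ ⊤ := by
          intro h
          apply hK
          have := congrArg (Subgroup.map (QuotientGroup.mk' N)) h
          rwa [map_comap_eq_self_of_surjective hf, ← MonoidHom.range_eq_map,
            MonoidHom.range_eq_top.mpr hf] at this
        have hnilK := hnil _ hK'
        have : Group.IsNilpotent ((K.comap (QuotientGroup.mk' N)).map (QuotientGroup.mk' N)) :=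
          Group.nilpotent_of_surjective
            ((QuotientGroup.mk' N).subgroupMap (K.comap (QuotientGroup.mk' N)))
            ((QuotientGroup.mk' N).subgroupMap_surjective _)
        rwa [map_comap_eq_self_of_surjective hf] at this)
      exact Group.isSolvable_of_ker_le_range N.subtype (QuotientGroup.mk' N) (by simp)
    · push Not at hN
      apply solvable_of_simple_proper_nilpotent hnil
      intro N hNn
      by_cases hb : N = ⊥
      · left; exact hb
      · right; exact hN N hNn hb

/-- **Schmidt**: a finite group all of whose proper subgroups are nilpotent is solvable. -/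
theorem solvable_of_proper_nilpotent {G : Type u} [Group G] [Finite G]
    (hnil : ∀ H : Subgroup G, H ≠ ⊤ → Group.IsNilpotent H) : Group.IsSolvable G :=
  solvable_of_proper_nilpotent_aux _ rfl hnil

end Solvable

section Structure

variable {G : Type u} [Group G]

theorem isSimpleGroup_quotient_of_isCoatom' (M : Subgroup G) [M.Normal]
    (hM : IsCoatom M) : IsSimpleGroup (G ⧸ M) := by
  have : Nontrivial (G ⧸ M) := by
    rw [QuotientGroup.nontrivial_iff]
    exact hM.1
  refine ⟨fun H _ => ?_⟩
  have hle : M ≤ H.comap (QuotientGroup.mk' M) := by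
    conv_lhs => rw [← QuotientGroup.ker_mk' M]
    exact MonoidHom.ker_le_comap _ _
  rcases eq_or_lt_of_le hle with h | h
  · left
    rw [← Subgroup.map_comap_eq_self_of_surjective (QuotientGroup.mk'_surjective M) H, ← h]
    simp
  · right
    have := hM.2 _ h
    rw [← Subgroup.map_comap_eq_self_of_surjective (QuotientGroup.mk'_surjective M) H, this]
    rw [← MonoidHom.range_eq_map, MonoidHom.range_eq_top]
    exact QuotientGroup.mk'_surjective M

open scoped IsMulCommutative in
/-- A nontrivial finite solvable group has a normal subgroup of prime index. -/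
theorem exists_normal_prime_index [Finite G] [Group.IsSolvable G] [Nontrivial G] :
    ∃ M : Subgroup G, M.Normal ∧ M.index.Prime := by
  have hlt : commutator G < ⊤ := Group.IsSolvable.commutator_lt_top_of_nontrivial G
  obtain ⟨M, hMco, hKM⟩ := (eq_top_or_exists_le_coatom (commutator G)).resolve_left hlt.ne
  have hMn : M.Normal := by
    constructor
    intro x hx g
    have h1 : ⁅g, x⁆ ∈ commutator G := Subgroup.commutator_mem_commutator (mem_top g) (mem_top x)
    have h2 : g * x * g⁻¹ = ⁅g, x⁆ * x := by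
      rw [commutatorElement_def]; group
    rw [h2]
    exact M.mul_mem (hKM h1) hx
  refine ⟨M, hMn, ?_⟩
  have := isSimpleGroup_quotient_of_isCoatom' M hMco
  have : IsMulCommutative (G ⧸ M) :=
    Subgroup.Normal.quotient_commutative_iff_commutator_le.mpr hKM
  rw [Subgroup.index_eq_card]
  exact IsSimpleGroup.prime_card

/-- In a nilpotent subgroup, a `p`-subgroup and a `q`-subgroup commute elementwise. -/
theorem commute_of_nilpotent_of_pgroups [Finite G] {H A B : Subgroup G}
    (hH : Group.IsNilpotent H) (hAH : A ≤ H) (hBH : B ≤ H) {p q : ℕ} [Fact p.Prime] [Fact q.Prime]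
    (hpq : p ≠ q) (hA : IsPGroup p A) (hB : IsPGroup q B) :
    ∀ a ∈ A, ∀ b ∈ B, a * b = b * a := by
  intro a ha b hb
  have hA' : IsPGroup p (A.subgroupOf H) := hA.comap_subtype
  have hB' : IsPGroup q (B.subgroupOf H) := hB.comap_subtype
  obtain ⟨S, hS⟩ := hA'.exists_le_sylow
  obtain ⟨T, hT⟩ := hB'.exists_le_sylow
  have hSn : (S : Subgroup H).Normal := inferInstance
  have hTn : (T : Subgroup H).Normal := inferInstance
  have hdis : Disjoint (S : Subgroup H) (T : Subgroup H) :=
    IsPGroup.disjoint_of_ne p q hpq _ _ S.isPGroup' T.isPGroup'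
  have := Subgroup.commute_of_normal_of_disjoint _ _ hSn hTn hdis
    (⟨a, hAH ha⟩ : H) ⟨b, hBH hb⟩ (hS (mem_subgroupOf.mpr ha)) (hT (mem_subgroupOf.mpr hb))
  exact congrArg Subtype.val this.eq

/-- A subgroup containing a Sylow `r`-subgroup for every prime `r` is everything. -/
theorem eq_top_of_forall_sylow_le [Finite G] (K : Subgroup G)
    (h : ∀ r : ℕ, ∀ _ : Fact r.Prime, ∃ R : Sylow r G, (R : Subgroup G) ≤ K) : K = ⊤ := by
  have hK0 : Nat.card K ≠ 0 := Nat.card_pos.ne'
  have hG0 : Nat.card G ≠ 0 := Nat.card_pos.ne'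
  have hdvd : Nat.card G ∣ Nat.card K := by
    rw [← Nat.factorization_le_iff_dvd hG0 hK0, Finsupp.le_def]
    intro r
    by_cases hr : r.Prime
    · have : Fact r.Prime := ⟨hr⟩
      obtain ⟨R, hR⟩ := h r this
      have h1 : Nat.card R ∣ Nat.card K := Subgroup.card_dvd_of_le hR
      rw [R.card_eq_multiplicity] at h1
      exact (hr.pow_dvd_iff_le_factorization hK0).mp h1
    · rw [Nat.factorization_eq_zero_of_not_prime _ hr]
      exact Nat.zero_le _
  have hle : Nat.card G ≤ Nat.card K := Nat.le_of_dvd Nat.card_pos hdvd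
  exact Subgroup.eq_top_of_le_card K hle

theorem le_normalizer_of_commute {P Q : Subgroup G}
    (h : ∀ a ∈ P, ∀ b ∈ Q, a * b = b * a) : Q ≤ normalizer (P : Set G) := by
  refine le_trans ?_ (centralizer_le_normalizer (P : Set G))
  intro b hb
  rw [mem_centralizer_iff]
  intro a ha
  exact h a ha b hb

/-- **Schmidt's theorem** on the structure of minimal non-nilpotent groups. -/
theorem schmidt_structure [Finite G] (hG : Cfsg.IsMinimalNonNilpotent G) :
    ∃ p q : ℕ, p.Prime ∧ q.Prime ∧ p ≠ q ∧ ∃ (P : Sylow p G) (Q : Sylow q G),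
      IsCyclic P ∧ (Q : Subgroup G).Normal ∧ (P : Subgroup G) ⊔ Q = ⊤ := by
  obtain ⟨hnn, hnil⟩ := hG
  have hsol : Group.IsSolvable G := solvable_of_proper_nilpotent hnil
  have hnt : Nontrivial G := by
    by_contra h
    rw [not_nontrivial_iff_subsingleton] at h
    exact hnn inferInstance
  obtain ⟨M, hMn, hMp⟩ := exists_normal_prime_index (G := G)
  have hMtop : M ≠ ⊤ := by
    intro h
    rw [h, index_top] at hMp
    exact Nat.not_prime_one hMp
  have hMnil : Group.IsNilpotent M := hnil M hMtop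
  have hnormal : ∀ r : ℕ, ∀ _ : Fact r.Prime, r ≠ M.index →
      ∀ R : Sylow r G, (R : Subgroup G).Normal := by
    intro r hr hrp R
    obtain ⟨R₀⟩ : Nonempty (Sylow r M) := inferInstance
    have hR₀n : (R₀ : Subgroup M).Normal := inferInstance
    have hR₀c : (R₀ : Subgroup M).Characteristic := R₀.characteristic_of_normal hR₀n
    have hRn : ((R₀ : Subgroup M).map M.subtype).Normal :=
      ConjAct.normal_of_characteristic_of_normal
    have hcard : Nat.card ((R₀ : Subgroup M).map M.subtype) =
        r ^ (Nat.card G).factorization r := by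
      rw [Subgroup.card_subtype, R₀.card_eq_multiplicity]
      congr 1
      have h1 : Nat.card G = Nat.card M * M.index := (Subgroup.card_mul_index M).symm
      rw [h1, Nat.factorization_mul Nat.card_pos.ne' hMp.ne_zero]
      have h2 : (M.index).factorization r = 0 := by
        rw [hMp.factorization]
        simp [Ne.symm hrp]
      simp [h2]
    have hR₁n : ((Sylow.ofCard _ hcard : Sylow r G) : Subgroup G).Normal := by
      rw [Sylow.coe_ofCard]; exact hRn
    have := Sylow.unique_of_normal (Sylow.ofCard _ hcard : Sylow r G) hR₁n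
    have e : R = Sylow.ofCard _ hcard := Subsingleton.elim _ _
    rw [e]
    exact hR₁n
  have htfae : Group.IsNilpotent G ↔
      ∀ (p : ℕ) (_hp : Fact p.Prime) (P : Sylow p G), (↑P : Subgroup G).Normal :=
    (Group.isNilpotent_of_finite_tfae (G := G)).out 0 3
  rw [htfae] at hnn
  push Not at hnn
  obtain ⟨p, hpF, P, hPnn⟩ := hnn
  have hpM : p = M.index := by
    by_contra h
    exact hPnn (hnormal p hpF h P)
  have hq : ∃ q : ℕ, ∃ _ : Fact q.Prime, q ≠ p ∧ ∃ Q : Sylow q G,
      (P : Subgroup G) ⊔ Q = ⊤ := by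
    by_contra hno
    push Not at hno
    apply hPnn
    rw [← normalizer_eq_top_iff]
    apply eq_top_of_forall_sylow_le
    intro r hr
    by_cases hrp : r = p
    · subst hrp
      exact ⟨P, le_normalizer⟩
    · obtain ⟨Q⟩ : Nonempty (Sylow r G) := inferInstance
      refine ⟨Q, ?_⟩
      have hne := hno r hr hrp Q
      have hnilH := hnil _ hne
      exact le_normalizer_of_commute
        (commute_of_nilpotent_of_pgroups hnilH le_sup_left le_sup_right (Ne.symm hrp)
          P.isPGroup' Q.isPGroup')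
  obtain ⟨q, hqF, hqp, Q, hPQ⟩ := hq
  have hQn : (Q : Subgroup G).Normal := hnormal q hqF (hpM ▸ hqp) Q
  refine ⟨p, q, hpF.out, hqF.out, hqp.symm, P, Q, ?_, hQn, hPQ⟩
  by_contra hncyc
  apply hPnn
  have hdis : Disjoint (P : Subgroup G) (Q : Subgroup G) :=
    IsPGroup.disjoint_of_ne p q hqp.symm _ _ P.isPGroup' Q.isPGroup'
  have hcent : ∀ x ∈ (P : Subgroup G), ∀ b ∈ (Q : Subgroup G), x * b = b * x := by
    intro x hx
    have hzP : zpowers x ≤ (P : Subgroup G) := (zpowers_le).mpr hx
    have hne : zpowers x ⊔ (Q : Subgroup G) ≠ ⊤ := by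
      intro htop
      apply hncyc
      have hPx : ∀ y ∈ (P : Subgroup G), y ∈ zpowers x := by
        intro y hy
        have hy' : y ∈ zpowers x ⊔ (Q : Subgroup G) := htop ▸ mem_top y
        obtain ⟨a, ha, c, hc, rfl⟩ := mem_sup_of_normal_right.mp hy'
        have hcP : c ∈ (P : Subgroup G) := by
          have : c = a⁻¹ * (a * c) := by group
          rw [this]
          exact mul_mem (inv_mem (hzP ha)) hy
        have hc1 : c = 1 := by
          have := hdis.le_bot (Subgroup.mem_inf.mpr ⟨hcP, hc⟩)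
          simpa using this
        rw [hc1, mul_one]
        exact ha
      rw [isCyclic_iff_exists_zpowers_eq_top]
      refine ⟨⟨x, hx⟩, ?_⟩
      rw [eq_top_iff]
      rintro ⟨y, hy⟩ -
      obtain ⟨k, hk⟩ := mem_zpowers_iff.mp (hPx y hy)
      rw [mem_zpowers_iff]
      exact ⟨k, Subtype.ext (by simpa using hk)⟩
    have hnilH := hnil _ hne
    have hzp : IsPGroup p (zpowers x) := P.isPGroup'.to_le hzP
    exact fun b hb => commute_of_nilpotent_of_pgroups hnilH le_sup_left le_sup_right hqp.symm
      hzp Q.isPGroup' x (mem_zpowers x) b hb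
  rw [← normalizer_eq_top_iff, eq_top_iff, ← hPQ]
  exact sup_le le_normalizer (le_normalizer_of_commute hcent)

end Structure

end Cfsg.Agent.Helper29
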