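import Mathlib
import Cfsg.Agent.Helper29.Schmidt

set_option autoImplicit false
open Pointwise

namespace Cfsg.Agent.Helper29

open Subgroup
open scoped commutatorElement

universe u

section
variable {G : Type u} [Group G]

/-- A finite nilpotent group all of whose Sylow subgroups are commutative is commutative. -/
theorem comm_of_nilpotent_of_sylow_comm [Finite G] (hnil : Group.IsNilpotent G)
    (h : ∀ (p : ℕ) (_ : Fact p.Prime) (P : Sylow p G), ∀ a ∈ P, ∀ b ∈ P, a * b = b * a) :
    ∀ a b : G, a * b = b * a := by
  have htfae : Group.IsNilpotent G ↔ Nonempty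
      ((∀ p : (Nat.card G).primeFactors, ∀ P : Sylow p G, (↑P : Subgroup G)) ≃* G) :=
    (Group.isNilpotent_of_finite_tfae (G := G)).out 0 4
  obtain ⟨e⟩ := htfae.mp hnil
  intro a b
  obtain ⟨a', rfl⟩ := e.surjective a
  obtain ⟨b', rfl⟩ := e.surjective b
  rw [← map_mul, ← map_mul]
  congr 1
  funext p P
  have hp : Fact (p : ℕ).Prime := ⟨Nat.prime_of_mem_primeFactors p.2⟩
  apply Subtype.ext
  exact h p hp P _ (a' p P).2 _ (b' p P).2

/-- If a normal `p`-subgroup and a normal `q`-subgroup (`p ≠ q`) generate a finite group,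
the group is nilpotent. -/
theorem isNilpotent_of_normal_pgroups_sup [Finite G] {P Q : Subgroup G} {p q : ℕ}
    [Fact p.Prime] [Fact q.Prime] (hpq : p ≠ q) (hP : IsPGroup p P) (hQ : IsPGroup q Q)
    (hPn : P.Normal) (hQn : Q.Normal) (h : P ⊔ Q = ⊤) : Group.IsNilpotent G := by
  have hdis : Disjoint P Q := IsPGroup.disjoint_of_ne p q hpq _ _ hP hQ
  have comm : ∀ (m : P) (n : Q), Commute (P.subtype m) (Q.subtype n) := fun m n =>
    Subgroup.commute_of_normal_of_disjoint P Q hPn hQn hdis m n m.2 n.2
  have hPnil : Group.IsNilpotent P := hP.isNilpotent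
  have hQnil : Group.IsNilpotent Q := hQ.isNilpotent
  have hsurj : Function.Surjective (MonoidHom.noncommCoprod P.subtype Q.subtype comm) := by
    rw [← MonoidHom.range_eq_top, MonoidHom.noncommCoprod_range, range_subtype, range_subtype, h]
  exact Group.nilpotent_of_surjective _ hsurj

/-- A subgroup containing the commutator subgroup is normal. -/
theorem normal_of_commutator_le {M : Subgroup G} (h : commutator G ≤ M) : M.Normal := by
  constructor
  intro x hx g
  have h1 : ⁅g, x⁆ ∈ commutator G := Subgroup.commutator_mem_commutator (mem_top g) (mem_top x)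
  have h2 : g * x * g⁻¹ = ⁅g, x⁆ * x := by
    rw [commutatorElement_def]; group
  rw [h2]
  exact M.mul_mem (h h1) hx

open scoped IsMulCommutative in
/-- In a finite nilpotent group the commutator subgroup lies in the Frattini subgroup. -/
theorem commutator_le_frattini_of_nilpotent [Finite G] [Group.IsNilpotent G] :
    commutator G ≤ frattini G := by
  unfold frattini Order.radical
  rw [le_iInf₂_iff]
  intro M hM
  have htfae : Group.IsNilpotent G ↔ ∀ H : Subgroup G, IsCoatom H → H.Normal :=
    (Group.isNilpotent_of_finite_tfae (G := G)).out 0 2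
  have hMn : M.Normal := htfae.mp ‹Group.IsNilpotent G› M hM
  have := isSimpleGroup_quotient_of_isCoatom' M hM
  rw [← Subgroup.Normal.quotient_commutative_iff_commutator_le]
  infer_instance

/-- If the commutator subgroup lies in the Frattini subgroup, the finite group is nilpotent. -/
theorem isNilpotent_of_commutator_le_frattini [Finite G] (h : commutator G ≤ frattini G) :
    Group.IsNilpotent G := by
  have htfae : Group.IsNilpotent G ↔ ∀ H : Subgroup G, IsCoatom H → H.Normal :=
    (Group.isNilpotent_of_finite_tfae (G := G)).out 0 2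
  rw [htfae]
  intro M hM
  exact normal_of_commutator_le (h.trans (frattini_le_coatom hM))

/-- `|P|·|Q| = |G|` if `P ⊓ Q = ⊥`, `P ⊔ Q = ⊤`, `Q` normal. -/
theorem card_mul_card_of_sup_eq_top [Finite G] {P Q : Subgroup G} [Q.Normal]
    (hd : Disjoint P Q) (h : P ⊔ Q = ⊤) : Nat.card P * Nat.card Q = Nat.card G := by
  have : IsComplement' P Q := by
    apply isComplement'_of_disjoint_and_mul_eq_univ hd
    rw [← mul_normal, h, coe_top]
  exact this.card_mul_card

end

end Cfsg.Agent.Helper29
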