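import Mathlib
import Cfsg.Prelude.Def_Characters
import Cfsg.Prelude.Def_Blocks
import Cfsg.Agent.Helper24.Abelian
import Cfsg.Agent.Helper24.Gagola
import Cfsg.Agent.Helper24.GagolaCentral
import Cfsg.Agent.Helper24.Codegree
import Cfsg.Agent.Helper24.GlaubCyc
import Cfsg.Agent.Helper24.Orthogonality
import Cfsg.Agent.Helper8.CharVal
import Cfsg.Agent.Helper8.CoherenceKernel
import Cfsg.Agent.Helper12.ExtraspecialChar
import Cfsg.Agent.Helper29.TwoDegF

/-!
Character-theoretic preliminaries for `p`-groups whose nonlinear irreducible characters of equal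
degree are Galois conjugate (S4845).
-/

set_option autoImplicit false

namespace Cfsg.Agent.Helper29.GalConj

open Cfsg Cfsg.Agent.Helper24
open scoped commutatorElement

universe u

section Vanish

variable {G : Type u} [Group G] [Finite G]

/-- If `⁅a, b⁆` is central and not in the kernel of the irreducible character `χ`, then
`χ b = 0`. -/
theorem irr_eq_zero_of_comm (χ : IrrCharacter G) (a b : G)
    (hz : ⁅a, b⁆ ∈ Subgroup.center G) (hk : (χ : G → ℂ) ⁅a, b⁆ ≠ (χ : G → ℂ) 1) :
    (χ : G → ℂ) b = 0 := by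
  have hz' : ∀ d : G, d * ⁅a, b⁆ = ⁅a, b⁆ * d := fun d => (Subgroup.mem_center_iff.mp hz d)
  obtain ⟨ω, -, hω⟩ := exists_central_scalar χ ⁅a, b⁆ hz'
  have h1 := hω 1 1
  rw [pow_one, pow_one, one_mul] at h1
  have hω1 : ω ≠ 1 := by
    intro h
    rw [h, one_mul] at h1
    exact hk h1
  have h2 := hω b 1
  rw [pow_one, pow_one] at h2
  have h3 : (χ : G → ℂ) (b * ⁅a, b⁆) = (χ : G → ℂ) b := by
    rw [hz' b]
    have : ⁅a, b⁆ * b = a * b * a⁻¹ := by rw [commutatorElement_def]; group
    rw [this]
    exact isClassFunction_irr χ b a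
  rw [h3] at h2
  have h4 : (1 - ω) * (χ : G → ℂ) b = 0 := by rw [sub_mul, one_mul, ← h2, sub_self]
  rcases mul_eq_zero.mp h4 with h | h
  · exact absurd (sub_eq_zero.mp h).symm hω1
  · exact h

/-- The sum of the squared norms of the values of an irreducible character is the group order. -/
theorem sum_normSq_irr [Fintype G] (χ : IrrCharacter G) :
    ∑ g : G, Complex.normSq ((χ : G → ℂ) g) = (Nat.card G : ℝ) := by
  have hinner := classInner_irr_self χ
  unfold classInner at hinner
  have hGne : (Nat.card G : ℂ) ≠ 0 := by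
    have : Nat.card G ≠ 0 := Nat.card_pos.ne'
    exact_mod_cast this
  have hsum : ∑ g : G, (χ : G → ℂ) g * (starRingEnd ℂ) ((χ : G → ℂ) g) = (Nat.card G : ℂ) := by
    field_simp at hinner
    exact hinner
  have h1 : ((∑ g : G, Complex.normSq ((χ : G → ℂ) g) : ℝ) : ℂ) = (Nat.card G : ℂ) := by
    rw [← hsum]
    push_cast
    refine Finset.sum_congr rfl fun g _ => ?_
    rw [Complex.mul_conj]
  exact_mod_cast h1

/-- The values of an irreducible character are bounded by its degree. -/
theorem normSq_irr_le (χ : IrrCharacter G) (g : G) :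
    Complex.normSq ((χ : G → ℂ) g) ≤ (irrDeg χ : ℝ) ^ 2 := by
  obtain ⟨n, h1, h2⟩ := Helper8.char_norm_le (IsIrrCharacter.isCharacter χ.2)
  have hn : n = irrDeg χ := by
    have := irrDeg_spec χ
    rw [h1] at this
    exact_mod_cast this
  rw [Complex.normSq_eq_norm_sq]
  have := h2 g
  rw [hn] at this
  exact pow_le_pow_left₀ (norm_nonneg _) this 2

/-- If an irreducible character vanishes off the subgroup `A` then `|G| ≤ |A| χ(1)²`. -/
theorem card_le_of_vanish_off (χ : IrrCharacter G) (A : Subgroup G)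
    (h : ∀ g : G, g ∉ A → (χ : G → ℂ) g = 0) :
    Nat.card G ≤ Nat.card A * irrDeg χ ^ 2 := by
  classical
  have : Fintype G := Fintype.ofFinite G
  have hsum := sum_normSq_irr χ
  have h1 : ∑ g : G, Complex.normSq ((χ : G → ℂ) g) =
      ∑ g ∈ Finset.univ.filter (fun g : G => g ∈ A), Complex.normSq ((χ : G → ℂ) g) := by
    symm
    apply Finset.sum_subset (Finset.filter_subset _ _)
    intro g _ hg
    have : g ∉ A := by
      intro hgA
      exact hg (Finset.mem_filter.mpr ⟨Finset.mem_univ _, hgA⟩)
    rw [h g this, map_zero]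
  have h2 : ∑ g ∈ Finset.univ.filter (fun g : G => g ∈ A), Complex.normSq ((χ : G → ℂ) g) ≤
      ∑ _g ∈ Finset.univ.filter (fun g : G => g ∈ A), (irrDeg χ : ℝ) ^ 2 :=
    Finset.sum_le_sum (fun g _ => normSq_irr_le χ g)
  rw [Finset.sum_const, nsmul_eq_mul] at h2
  have h3 : (Finset.univ.filter (fun g : G => g ∈ A)).card = Nat.card A := by
    rw [Nat.card_eq_fintype_card, Fintype.card_subtype]
  rw [h3, ← h1, hsum] at h2
  have : (Nat.card G : ℝ) ≤ ((Nat.card A * irrDeg χ ^ 2 : ℕ) : ℝ) := by
    push_cast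
    exact h2
  exact_mod_cast this

/-- If an irreducible character vanishes off the centre then `χ(1)² |Z(G)| = |G|`. -/
theorem irrDeg_sq_mul_card_center_eq (χ : IrrCharacter G)
    (h : ∀ g : G, g ∉ Subgroup.center G → (χ : G → ℂ) g = 0) :
    irrDeg χ ^ 2 * Nat.card (Subgroup.center G) = Nat.card G := by
  apply le_antisymm (Helper12.irrDeg_sq_mul_card_center_le χ)
  rw [mul_comm]
  exact card_le_of_vanish_off χ _ h

/-- A nonidentity element lies outside the kernel of some irreducible character. -/
theorem exists_irr_ne (g : G) (hg : g ≠ 1) :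
    ∃ χ : IrrCharacter G, (χ : G → ℂ) g ≠ (χ : G → ℂ) 1 := by
  classical
  have : Fintype G := Fintype.ofFinite G
  have : Fintype (IrrCharacter G) := Fintype.ofFinite _
  by_contra hcon
  push Not at hcon
  exact hg (TwoDeg.eq_one_of_forall_irr g hcon)

/-- An irreducible character is linear iff the commutator subgroup lies in its kernel. -/
theorem irrDeg_eq_one_iff_commutator_le (χ : IrrCharacter G) :
    irrDeg χ = 1 ↔ commutator G ≤ irrKer χ := by
  constructor
  · intro h y hy
    rw [mem_irrKer]
    haveI : Fintype G := Fintype.ofFinite G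
    exact TwoDeg.linear_apply_commutator χ h y hy
  · intro h
    rw [irrDeg_eq_one_iff]
    apply Helper8.irr_degree_one_of_commutator_le_ker χ
    intro a ha
    exact (mem_irrKer χ a).mp (h ha)

end Vanish

end Cfsg.Agent.Helper29.GalConj
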