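import Mathlib
import Cfsg.Agent.Helper10.PGroupBasic
import Cfsg.Agent.Helper1.PrimeGraph
import Cfsg.Agent.Helper1.AbelianIndexP

/-!
Group-theoretic preliminaries for S4845: commutator homomorphisms, counting lemmas and the
preimage of the centre of a central quotient.
-/

set_option autoImplicit false

namespace Cfsg.Agent.Helper29.GalConj

open scoped commutatorElement

universe u

section Generic

variable {G : Type u} [Group G]

/-- A subgroup of prime order is either contained in, or meets trivially, any other subgroup. -/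
theorem le_or_inf_eq_bot_of_card_prime [Finite G] {p : ℕ} (hp : p.Prime) (K L : Subgroup G)
    (hK : Nat.card K = p) : K ≤ L ∨ K ⊓ L = ⊥ := by
  have h1 : Nat.card (K ⊓ L : Subgroup G) ∣ p := hK ▸ Subgroup.card_dvd_of_le inf_le_left
  rcases (Nat.dvd_prime hp).mp h1 with h | h
  · right
    exact Subgroup.card_eq_one.mp h
  · left
    have h2 : (K ⊓ L : Subgroup G) = K := by
      apply Subgroup.eq_of_le_of_card_ge inf_le_left
      rw [h, hK]
    rw [← h2]
    exact inf_le_right

/-- A nontrivial element of a subgroup of prime order generates it. -/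
theorem zpowers_eq_of_card_prime [Finite G] {p : ℕ} (hp : p.Prime) (K : Subgroup G)
    (hK : Nat.card K = p) (x : G) (hx : x ∈ K) (hx1 : x ≠ 1) : Subgroup.zpowers x = K := by
  have hle : Subgroup.zpowers x ≤ K := (Subgroup.zpowers_le).mpr hx
  rcases le_or_inf_eq_bot_of_card_prime hp K (Subgroup.zpowers x) hK with h | h
  · exact le_antisymm hle h
  · exfalso
    apply hx1
    have : x ∈ K ⊓ Subgroup.zpowers x := ⟨hx, Subgroup.mem_zpowers x⟩
    rw [h, Subgroup.mem_bot] at this
    exact this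

/-- `⁅g, a * b⁆ = ⁅g, a⁆ * ⁅g, b⁆` when `a` commutes with `⁅g, b⁆`. -/
theorem commutatorElement_mul_right_of_commute (g a b : G) (h : a * ⁅g, b⁆ = ⁅g, b⁆ * a) :
    ⁅g, a * b⁆ = ⁅g, a⁆ * ⁅g, b⁆ := by
  have h2 : ⁅g, b⁆ * a⁻¹ = a⁻¹ * ⁅g, b⁆ := by
    calc ⁅g, b⁆ * a⁻¹ = a⁻¹ * (a * ⁅g, b⁆) * a⁻¹ := by group
      _ = a⁻¹ * (⁅g, b⁆ * a) * a⁻¹ := by rw [h]
      _ = a⁻¹ * ⁅g, b⁆ := by group
  calc ⁅g, a * b⁆ = g * a * g⁻¹ * (⁅g, b⁆ * a⁻¹) := by
        simp only [commutatorElement_def]; group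
    _ = g * a * g⁻¹ * (a⁻¹ * ⁅g, b⁆) := by rw [h2]
    _ = ⁅g, a⁆ * ⁅g, b⁆ := by
        simp only [commutatorElement_def]; group

theorem comm_mul_left_drop (u y g : G) (h1 : Commute u y) (h2 : Commute u g) :
    ⁅u * y, g⁆ = ⁅y, g⁆ := by
  have hc : Commute u ⁅y, g⁆ := by
    rw [commutatorElement_def]
    exact ((h1.mul_right h2).mul_right h1.inv_right).mul_right h2.inv_right
  have e : ⁅u * y, g⁆ = u * ⁅y, g⁆ * u⁻¹ * ⁅u, g⁆ := by
    simp only [commutatorElement_def]; group
  rw [e, commutatorElement_eq_one_iff_commute.mpr h2, mul_one, hc.eq, mul_inv_cancel_right]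

theorem comm_mul_right_drop (y v g : G) (h1 : Commute v y) (h2 : Commute v g) :
    ⁅y, v * g⁆ = ⁅y, g⁆ := by
  rw [← commutatorElement_inv, comm_mul_left_drop v g y h2 h1, commutatorElement_inv]

/-- `x ↦ ⁅g, x⁆` is a homomorphism on a subgroup `A` whose elements commute with all the
commutators `⁅g, y⁆`, `y ∈ A`. -/
def commHomLeft (A : Subgroup G) (g : G)
    (h : ∀ x ∈ A, ∀ y ∈ A, Commute x ⁅g, y⁆) : A →* G where
  toFun x := ⁅g, (x : G)⁆
  map_one' := by simp [commutatorElement_def]
  map_mul' := by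
    intro x y
    rw [Subgroup.coe_mul]
    exact commutatorElement_mul_right_of_commute g x y (h x x.2 y y.2)

theorem commHomLeft_apply (A : Subgroup G) (g : G)
    (h : ∀ x ∈ A, ∀ y ∈ A, Commute x ⁅g, y⁆) (x : A) :
    commHomLeft A g h x = ⁅g, (x : G)⁆ := rfl

/-- Counting through a homomorphism: if `φ : A → G` has image in `R` and kernel in `K`, then
`|A| ≤ |R| |K|`. -/
theorem card_le_of_hom [Finite G] (A K R : Subgroup G) (φ : A →* G)
    (hR : ∀ x : A, φ x ∈ R) (hK : ∀ x : A, φ x = 1 → (x : G) ∈ K) :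
    Nat.card A ≤ Nat.card R * Nat.card K := by
  have h1 := Subgroup.card_mul_index φ.ker
  rw [Subgroup.index_ker] at h1
  have h2 : Nat.card φ.range ≤ Nat.card R := by
    apply Subgroup.card_le_of_le
    rintro _ ⟨x, rfl⟩
    exact hR x
  have h3 : Nat.card φ.ker ≤ Nat.card K := by
    apply Nat.card_le_card_of_injective (fun x : φ.ker => (⟨((x : A) : G), hK x x.2⟩ : K))
    intro x y hxy
    have : ((x : A) : G) = ((y : A) : G) := congrArg (fun k : K => (k : G)) hxy
    exact Subtype.ext (Subtype.ext this)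
  calc Nat.card A = Nat.card φ.ker * Nat.card φ.range := h1.symm
    _ ≤ Nat.card K * Nat.card R := Nat.mul_le_mul h3 h2
    _ = Nat.card R * Nat.card K := mul_comm _ _

/-- Counting through a cover by cosets. -/
theorem card_le_of_cover [Finite G] (S K : Subgroup G) (t : G) (m : ℕ)
    (h : ∀ c ∈ S, ∃ r < m, ∃ z ∈ K, c = t ^ r * z) : Nat.card S ≤ m * Nat.card K := by
  choose r hr z hz hc using h
  have hinj : Function.Injective
      (fun c : S => ((⟨r c c.2, hr c c.2⟩ : Fin m), (⟨z c c.2, hz c c.2⟩ : K))) := by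
    intro c c' hcc
    have h1 : r c c.2 = r c' c'.2 := congrArg (fun x => (x.1 : ℕ)) hcc
    have h2 : z c c.2 = z c' c'.2 := congrArg (fun x => ((x.2 : K) : G)) hcc
    apply Subtype.ext
    rw [hc c c.2, hc c' c'.2, h1, h2]
  have := Nat.card_le_card_of_injective _ hinj
  rwa [Nat.card_prod, Nat.card_fin] at this

end Generic

section Quot

variable {P : Type u} [Group P]

/-- Membership in the preimage of the centre of a quotient. -/
theorem mem_comap_center_iff (N : Subgroup P) [N.Normal] (c : P) :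
    c ∈ (Subgroup.center (P ⧸ N)).comap (QuotientGroup.mk' N) ↔ ∀ g : P, ⁅g, c⁆ ∈ N := by
  rw [Subgroup.mem_comap, Subgroup.mem_center_iff]
  constructor
  · intro h g
    rw [← QuotientGroup.eq_one_iff, ← QuotientGroup.mk'_apply, map_commutatorElement,
      commutatorElement_eq_one_iff_commute]
    exact h _
  · intro h q
    obtain ⟨g, rfl⟩ := QuotientGroup.mk'_surjective N q
    have := h g
    rw [← QuotientGroup.eq_one_iff, ← QuotientGroup.mk'_apply, map_commutatorElement,
      commutatorElement_eq_one_iff_commute] at this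
    exact this

end Quot

section CenQuot

variable {P : Type u} [Group P]

/-- `x ↦ ⁅t, x⁆` as an endomorphism-valued homomorphism when all `⁅t, y⁆` are central. -/
def commHomTop (t : P) (h : ∀ y : P, ⁅t, y⁆ ∈ Subgroup.center P) : P →* P where
  toFun x := ⁅t, x⁆
  map_one' := by simp [commutatorElement_def]
  map_mul' := by
    intro x y
    exact commutatorElement_mul_right_of_commute t x y ((Subgroup.mem_center_iff.mp (h y) x))

theorem commHomTop_apply (t : P) (h : ∀ y : P, ⁅t, y⁆ ∈ Subgroup.center P) (x : P) :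
    commHomTop t h x = ⁅t, x⁆ := rfl

theorem ker_commHomTop (t : P) (h : ∀ y : P, ⁅t, y⁆ ∈ Subgroup.center P) :
    (commHomTop t h).ker = Subgroup.centralizer {t} := by
  ext x
  rw [MonoidHom.mem_ker, commHomTop_apply, commutatorElement_eq_one_iff_commute,
    Subgroup.mem_centralizer_iff]
  constructor
  · intro hc y hy
    rw [Set.mem_singleton_iff] at hy
    rw [hy]; exact hc
  · intro hc
    exact hc t (Set.mem_singleton t)

/-- The data of a central subgroup `N` of prime order `p` such that the preimage of the centre of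
`P ⧸ N` is generated modulo `N` by one element `t`. -/
structure CenQuot (p : ℕ) (N : Subgroup P) (t : P) : Prop where
  hN : N ≤ Subgroup.center P
  hNp : Nat.card N = p
  ht : ∀ g : P, ⁅g, t⁆ ∈ N
  hgen : ∀ c : P, (∀ g : P, ⁅g, c⁆ ∈ N) → ∃ j : ℤ, ∃ n ∈ N, c = t ^ j * n

theorem exists_cenQuot (p : ℕ) (N : Subgroup P) [N.Normal] (hN : N ≤ Subgroup.center P)
    (hNp : Nat.card N = p) (hcyc : IsCyclic (Subgroup.center (P ⧸ N))) :
    ∃ t : P, CenQuot p N t := by
  obtain ⟨⟨τ, hτ⟩, hgen⟩ := hcyc.exists_generator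
  obtain ⟨t, rfl⟩ := QuotientGroup.mk'_surjective N τ
  refine ⟨t, hN, hNp, ?_, ?_⟩
  · exact (mem_comap_center_iff N t).mp hτ
  · intro c hc
    have hc' : (QuotientGroup.mk' N c) ∈ Subgroup.center (P ⧸ N) :=
      (mem_comap_center_iff N c).mpr hc
    obtain ⟨j, hj⟩ := Subgroup.mem_zpowers_iff.mp (hgen ⟨_, hc'⟩)
    have hj' : (QuotientGroup.mk' N t) ^ j = QuotientGroup.mk' N c := by
      have := congrArg Subtype.val hj
      simpa using this
    rw [← map_zpow] at hj'
    have hmem : (t ^ j)⁻¹ * c ∈ N := by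
      rw [← QuotientGroup.eq]
      exact hj'
    exact ⟨j, _, hmem, by group⟩

variable {p : ℕ} {N : Subgroup P} {t : P}

theorem CenQuot.comm_left (h : CenQuot p N t) (g : P) : ⁅t, g⁆ ∈ N := by
  have := N.inv_mem (h.ht g)
  rwa [commutatorElement_inv] at this

theorem CenQuot.comm_mem_center (h : CenQuot p N t) (g : P) : ⁅t, g⁆ ∈ Subgroup.center P :=
  h.hN (h.comm_left g)

/-- Elements of the preimage of the centre commute with the centralizer of `t`. -/
theorem CenQuot.commute_of_mem (h : CenQuot p N t) (c : P) (hc : ∀ g : P, ⁅g, c⁆ ∈ N)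
    (y : P) (hy : y ∈ Subgroup.centralizer {t}) : Commute c y := by
  obtain ⟨j, n, hn, rfl⟩ := h.hgen c hc
  have h1 : Commute t y := by
    have := Subgroup.mem_centralizer_iff.mp hy t (Set.mem_singleton t)
    exact this
  have h2 : Commute n y := (Subgroup.mem_center_iff.mp (h.hN hn) y).symm
  exact (h1.zpow_left j).mul_left h2

/-- The preimage of the centre of `P ⧸ N`. -/
abbrev zTwo (N : Subgroup P) [N.Normal] : Subgroup P :=
  (Subgroup.center (P ⧸ N)).comap (QuotientGroup.mk' N)

theorem mem_zTwo [N.Normal] (c : P) : c ∈ zTwo N ↔ ∀ g : P, ⁅g, c⁆ ∈ N :=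
  mem_comap_center_iff N c

theorem center_le_zTwo [N.Normal] : Subgroup.center P ≤ zTwo N := by
  intro c hc
  rw [mem_zTwo]
  intro g
  have : ⁅g, c⁆ = 1 := by
    rw [commutatorElement_eq_one_iff_commute]
    exact (Subgroup.mem_center_iff.mp hc g)
  rw [this]; exact N.one_mem

theorem commutator_le_zTwo [N.Normal]
    (hc : commutator (P ⧸ N) ≤ Subgroup.center (P ⧸ N)) : commutator P ≤ zTwo N := by
  intro x hx
  rw [Subgroup.mem_comap]
  apply hc
  rw [commutator_def] at hx ⊢
  have := Subgroup.mem_map_of_mem (QuotientGroup.mk' N) hx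
  rw [Subgroup.map_commutator] at this
  have htop : (⊤ : Subgroup P).map (QuotientGroup.mk' N) = ⊤ := by
    rw [← MonoidHom.range_eq_map, MonoidHom.range_eq_top]
    exact QuotientGroup.mk'_surjective N
  rwa [htop] at this

theorem CenQuot.mem_zTwo [N.Normal] (h : CenQuot p N t) : t ∈ zTwo N :=
  (Cfsg.Agent.Helper29.GalConj.mem_zTwo t).mpr h.ht

/-- The `p`-th power of the generator is central. -/
theorem CenQuot.pow_mem_center [Finite P] [N.Normal] (h : CenQuot p N t) :
    t ^ p ∈ Subgroup.center P := by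
  rw [Subgroup.mem_center_iff]
  intro g
  have hcomm : ∀ x ∈ zTwo N, ∀ y ∈ zTwo N, Commute x ⁅g, y⁆ := by
    intro x _ y hy
    exact (Subgroup.mem_center_iff.mp (h.hN ((Cfsg.Agent.Helper29.GalConj.mem_zTwo y).mp hy g)) x)
  have h1 := map_pow (commHomLeft (zTwo N) g hcomm) ⟨t, h.mem_zTwo⟩ p
  rw [commHomLeft_apply, commHomLeft_apply] at h1
  have h2 : ⁅g, t⁆ ^ p = 1 := by
    rw [← orderOf_dvd_iff_pow_eq_one, ← h.hNp]
    exact Subgroup.orderOf_dvd_natCard N (h.ht g)
  rw [h2] at h1
  have h3 : ⁅g, t ^ p⁆ = 1 := by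
    rw [← h1]; rfl
  exact (commutatorElement_eq_one_iff_commute.mp h3)

/-- `|Z₂| ≤ p |Z(P)|`. -/
theorem CenQuot.card_zTwo_le [Finite P] [N.Normal] (h : CenQuot p N t) (hp : 0 < p) :
    Nat.card (zTwo N) ≤ p * Nat.card (Subgroup.center P) := by
  apply card_le_of_cover (zTwo N) (Subgroup.center P) t p
  intro c hc
  obtain ⟨j, n, hn, rfl⟩ := h.hgen c ((Cfsg.Agent.Helper29.GalConj.mem_zTwo c).mp hc)
  have hp' : (p : ℤ) ≠ 0 := by exact_mod_cast hp.ne'
  have h0 : 0 ≤ j % (p : ℤ) := Int.emod_nonneg j hp'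
  have h1 : j % (p : ℤ) < p := Int.emod_lt_of_pos j (by exact_mod_cast hp)
  refine ⟨(j % (p : ℤ)).toNat, ?_, (t ^ p) ^ (j / (p : ℤ)) * n, ?_, ?_⟩
  · have := (Int.toNat_lt h0).mpr h1
    exact this
  · exact Subgroup.mul_mem _ (Subgroup.zpow_mem _ h.pow_mem_center _) (h.hN hn)
  · have h2 : t ^ j = t ^ (j % (p : ℤ)).toNat * (t ^ p) ^ (j / (p : ℤ)) := by
      rw [← zpow_natCast t (j % (p : ℤ)).toNat, Int.toNat_of_nonneg h0, ← zpow_natCast t p,
        ← zpow_mul, ← zpow_add, Int.emod_add_mul_ediv]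
    rw [h2, mul_assoc]

/-- The centralizer of the generator has index `1` or `p`. -/
theorem CenQuot.index_centralizer [Finite P] (h : CenQuot p N t) (hp : p.Prime) :
    (Subgroup.centralizer {t}).index = 1 ∨ (Subgroup.centralizer {t}).index = p := by
  rw [← ker_commHomTop t h.comm_mem_center, Subgroup.index_ker]
  have hle : (commHomTop t h.comm_mem_center).range ≤ N := by
    rintro _ ⟨x, rfl⟩
    rw [commHomTop_apply]
    exact h.comm_left x
  have := Subgroup.card_dvd_of_le hle
  rw [h.hNp] at this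
  exact (Nat.dvd_prime hp).mp this

/-- The centre of the centralizer of `t`, as a subgroup of `P`. -/
def cenA (t : P) : Subgroup P :=
  Subgroup.centralizer {t} ⊓ Subgroup.centralizer (Subgroup.centralizer {t} : Set P)

theorem cenA_eq_center (hC : Subgroup.centralizer {t} = ⊤) : cenA t = Subgroup.center P := by
  unfold cenA
  rw [hC, Subgroup.coe_top, Subgroup.centralizer_univ, top_inf_eq]

/-- If `C_P(t) ≠ P` then `|Z(C_P(t))| ≤ |P'| |Z(P)|`. -/
theorem CenQuot.card_cenA_le [Finite P] [N.Normal] (h : CenQuot p N t) (hp : p.Prime)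
    (hcomm : commutator P ≤ zTwo N) (hC : Subgroup.centralizer {t} ≠ ⊤) :
    Nat.card (cenA t) ≤ Nat.card (commutator P) * Nat.card (Subgroup.center P) := by
  have hidx : (Subgroup.centralizer {t}).index = p := by
    rcases h.index_centralizer hp with h1 | h1
    · exact absurd (Subgroup.index_eq_one.mp h1) hC
    · exact h1
  obtain ⟨g₁, hg₁⟩ : ∃ g₁ : P, g₁ ∉ Subgroup.centralizer {t} := by
    by_contra hcon
    push Not at hcon
    exact hC (eq_top_iff.mpr (fun x _ => hcon x))
  have hmemc : ∀ x y : P, ⁅x, y⁆ ∈ commutator P := by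
    intro x y
    rw [commutator_def]
    exact Subgroup.commutator_mem_commutator (Subgroup.mem_top x) (Subgroup.mem_top y)
  have hyp : ∀ x ∈ cenA t, ∀ y ∈ cenA t, Commute x ⁅g₁, y⁆ := by
    intro x hx y _
    have h1 : ⁅g₁, y⁆ ∈ zTwo N := hcomm (hmemc g₁ y)
    exact (h.commute_of_mem _ ((Cfsg.Agent.Helper29.GalConj.mem_zTwo _).mp h1) x hx.1).symm
  apply card_le_of_hom (cenA t) (Subgroup.center P) (commutator P) (commHomLeft (cenA t) g₁ hyp)
  · intro x
    rw [commHomLeft_apply]
    exact hmemc _ _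
  · intro x hx
    rw [commHomLeft_apply, commutatorElement_eq_one_iff_commute] at hx
    have hsup : Subgroup.centralizer {t} ⊔ Subgroup.zpowers g₁ = ⊤ := by
      apply Cfsg.Agent.Helper1.AbIdxP.sup_eq_top_of_index_prime hp hidx
      intro hle
      exact hg₁ (hle (Subgroup.mem_zpowers g₁))
    have hle : Subgroup.centralizer {t} ⊔ Subgroup.zpowers g₁ ≤ Subgroup.centralizer {(x : P)} := by
      apply sup_le
      · intro c hc
        rw [Subgroup.mem_centralizer_iff]
        intro y hy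
        rw [Set.mem_singleton_iff] at hy
        rw [hy]
        exact (Subgroup.mem_centralizer_iff.mp x.2.2 c hc).symm
      · rw [Subgroup.zpowers_le, Subgroup.mem_centralizer_iff]
        intro y hy
        rw [Set.mem_singleton_iff] at hy
        rw [hy]
        exact hx.symm
    rw [hsup] at hle
    rw [Subgroup.mem_center_iff]
    intro g
    have := Subgroup.mem_centralizer_iff.mp (hle (Subgroup.mem_top g)) x (Set.mem_singleton _)
    exact this.symm

/-- Commutators of elements of `C_P(t)` are central in `P`. -/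
theorem CenQuot.comm_mem_center_of_mem [N.Normal] (h : CenQuot p N t)
    (hcomm : commutator P ≤ zTwo N) (y g : P) (hy : y ∈ Subgroup.centralizer {t})
    (hg : g ∈ Subgroup.centralizer {t}) : ⁅y, g⁆ ∈ Subgroup.center P := by
  have hmemc : ∀ a b : P, ⁅a, b⁆ ∈ zTwo N := by
    intro a b
    apply hcomm
    rw [commutator_def]
    exact Subgroup.commutator_mem_commutator (Subgroup.mem_top a) (Subgroup.mem_top b)
  have hcm : ∀ c ∈ zTwo N, ∀ w ∈ Subgroup.centralizer {t}, Commute c w := fun c hc w hw =>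
    h.commute_of_mem c ((Cfsg.Agent.Helper29.GalConj.mem_zTwo c).mp hc) w hw
  have hzC : ∀ c ∈ zTwo N, c ∈ Subgroup.centralizer {t} := by
    intro c hc
    rw [Subgroup.mem_centralizer_iff]
    intro w hw
    rw [Set.mem_singleton_iff] at hw
    rw [hw]
    have : t ∈ Subgroup.centralizer {t} := by
      rw [Subgroup.mem_centralizer_iff]
      intro w hw
      rw [Set.mem_singleton_iff] at hw
      rw [hw]
    exact (hcm c hc t this).symm
  rw [Subgroup.mem_center_iff]
  intro x
  have h1 : x * ⁅y, g⁆ * x⁻¹ = ⁅⁅x, y⁆ * y, ⁅x, g⁆ * g⁆ := by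
    simp only [commutatorElement_def]; group
  have hu := hmemc x y
  have hv := hmemc x g
  have h2 : ⁅⁅x, y⁆ * y, ⁅x, g⁆ * g⁆ = ⁅y, g⁆ := by
    rw [comm_mul_left_drop _ _ _ (hcm _ hu y hy)
      ((hcm _ hu _ (hzC _ hv)).mul_right (hcm _ hu g hg)),
      comm_mul_right_drop _ _ _ (hcm _ hv y hy) (hcm _ hv g hg)]
  rw [h2] at h1
  calc x * ⁅y, g⁆ = x * ⁅y, g⁆ * x⁻¹ * x := by group
    _ = ⁅y, g⁆ * x := by rw [h1]

end CenQuot

end Cfsg.Agent.Helper29.GalConj
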