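import Mathlib
import Cfsg.Agent.Helper29.GalConjA
import Cfsg.Agent.Helper29.GalConjB

/-!
S4845, forward direction: the kernel condition `SameKer`, the degree formula for groups with
derived subgroup of prime order, and the degree comparison in the cyclic-centre case.
-/

set_option autoImplicit false

namespace Cfsg.Agent.Helper29.GalConj

open Cfsg Cfsg.Agent.Helper24
open scoped commutatorElement

universe u

section SameKer

variable {P : Type u} [Group P] [Finite P]

/-- Nonlinear irreducible characters of equal degree have equal kernels. -/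
def SameKer (P : Type u) [Group P] [Finite P] : Prop :=
  ∀ χ ψ : IrrCharacter P, irrDeg χ ≠ 1 → irrDeg χ = irrDeg ψ → irrKer χ = irrKer ψ

theorem sameKer_of_galConj
    (h : ∀ χ ψ : IrrCharacter P, charDegree (χ : P → ℂ) ≠ 1 →
      charDegree (χ : P → ℂ) = charDegree (ψ : P → ℂ) →
      ∃ k : ℕ, Nat.Coprime k (Nat.card P) ∧ ∀ g : P, (ψ : P → ℂ) g = (χ : P → ℂ) (g ^ k)) :
    SameKer P := by
  intro χ ψ h1 h2
  obtain ⟨k, hk, hg⟩ := h χ ψ (by rwa [charDegree_irr]) (by rw [charDegree_irr, charDegree_irr]; exact h2)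
  have h11 : (ψ : P → ℂ) 1 = (χ : P → ℂ) 1 := by rw [hg 1, one_pow]
  ext g
  rw [mem_irrKer, mem_irrKer]
  constructor
  · intro hx
    have : g ^ k ∈ irrKer χ := Subgroup.pow_mem _ ((mem_irrKer χ g).mpr hx) k
    rw [hg g, h11]
    exact (mem_irrKer χ _).mp this
  · intro hx
    rw [hg g, h11] at hx
    have h3 : g ^ k ∈ irrKer χ := (mem_irrKer χ _).mpr hx
    have hcop : Nat.Coprime k (orderOf g) :=
      Nat.Coprime.coprime_dvd_right (orderOf_dvd_natCard g) hk
    obtain ⟨m, hm⟩ := exists_pow_eq_self_of_coprime hcop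
    have h4 : g ∈ irrKer χ := by
      rw [← hm]
      exact Subgroup.pow_mem _ h3 m
    exact (mem_irrKer χ g).mp h4

theorem irrDeg_irrInflate [Fintype P] (N : Subgroup P) [N.Normal] (θ : IrrCharacter (P ⧸ N)) :
    irrDeg (irrInflate N θ) = irrDeg θ := by
  have h1 := irrDeg_spec (irrInflate N θ)
  have h2 := irrDeg_spec θ
  have h3 : ((irrInflate N θ : IrrCharacter P) : P → ℂ) 1 = (θ : P ⧸ N → ℂ) 1 := rfl
  rw [h3, h2] at h1
  exact_mod_cast h1.symm

theorem mem_irrKer_irrInflate [Fintype P] (N : Subgroup P) [N.Normal] (θ : IrrCharacter (P ⧸ N))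
    (g : P) : g ∈ irrKer (irrInflate N θ) ↔ (QuotientGroup.mk g : P ⧸ N) ∈ irrKer θ := by
  rw [mem_irrKer, mem_irrKer]
  rfl

theorem le_irrKer_irrInflate [Fintype P] (N : Subgroup P) [N.Normal] (θ : IrrCharacter (P ⧸ N)) :
    N ≤ irrKer (irrInflate N θ) := by
  intro n hn
  rw [mem_irrKer_irrInflate, (QuotientGroup.eq_one_iff n).mpr hn]
  exact (irrKer θ).one_mem

theorem SameKer.quot (h : SameKer P) (N : Subgroup P) [N.Normal] : SameKer (P ⧸ N) := by
  haveI : Fintype P := Fintype.ofFinite P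
  intro χ ψ h1 h2
  have h3 := h (irrInflate N χ) (irrInflate N ψ) (by rwa [irrDeg_irrInflate])
    (by rw [irrDeg_irrInflate, irrDeg_irrInflate]; exact h2)
  ext q
  obtain ⟨g, rfl⟩ := QuotientGroup.mk_surjective q
  rw [← mem_irrKer_irrInflate, ← mem_irrKer_irrInflate, h3]

end SameKer

section Degree

variable {H : Type u} [Group H] [Finite H]

/-- If `H' ≤ Z(H)` has prime order, every nonlinear irreducible character vanishes off the
centre. -/
theorem vanish_off_center_of_prime {p : ℕ} (hp : p.Prime)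
    (hc : commutator H ≤ Subgroup.center H) (hcard : Nat.card (commutator H) = p)
    (θ : IrrCharacter H) (hθ : irrDeg θ ≠ 1) :
    ∀ g : H, g ∉ Subgroup.center H → (θ : H → ℂ) g = 0 := by
  intro g hg
  rw [Subgroup.mem_center_iff] at hg
  push Not at hg
  obtain ⟨y, hy⟩ := hg
  have hne : ⁅y, g⁆ ≠ 1 := by
    intro h1
    exact hy (commutatorElement_eq_one_iff_commute.mp h1)
  have hmem : ⁅y, g⁆ ∈ commutator H := by
    rw [commutator_def]
    exact Subgroup.commutator_mem_commutator (Subgroup.mem_top y) (Subgroup.mem_top g)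
  apply irr_eq_zero_of_comm θ y g (hc hmem)
  intro hk
  have hker : ⁅y, g⁆ ∈ irrKer θ := (mem_irrKer θ _).mpr hk
  rcases le_or_inf_eq_bot_of_card_prime hp (commutator H) (irrKer θ) hcard with h1 | h1
  · exact hθ ((irrDeg_eq_one_iff_commutator_le θ).mpr h1)
  · have : ⁅y, g⁆ ∈ commutator H ⊓ irrKer θ := ⟨hmem, hker⟩
    rw [h1, Subgroup.mem_bot] at this
    exact hne this

/-- If `H' ≤ Z(H)` has prime order, every nonlinear irreducible character has degree
`√|H : Z(H)|`. -/
theorem irrDeg_sq_mul_card_center_of_prime {p : ℕ} (hp : p.Prime)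
    (hc : commutator H ≤ Subgroup.center H) (hcard : Nat.card (commutator H) = p)
    (θ : IrrCharacter H) (hθ : irrDeg θ ≠ 1) :
    irrDeg θ ^ 2 * Nat.card (Subgroup.center H) = Nat.card H :=
  irrDeg_sq_mul_card_center_eq θ (vanish_off_center_of_prime hp hc hcard θ hθ)

end Degree

section CaseB

variable {P : Type u} [Group P] [Finite P]

theorem exists_irrDeg_pow {p : ℕ} [hp : Fact p.Prime] (hP : IsPGroup p P) (χ : IrrCharacter P) :
    ∃ δ : ℕ, irrDeg χ = p ^ δ := by
  haveI : Fintype P := Fintype.ofFinite P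
  obtain ⟨n, hn⟩ := IsPGroup.iff_card.mp hP
  have h1 := TwoDeg.irrDeg_dvd_card χ
  rw [hn] at h1
  obtain ⟨δ, -, hδ⟩ := (Nat.dvd_prime_pow hp.out).mp h1
  exact ⟨δ, hδ⟩

theorem exists_card_pow {p : ℕ} [Fact p.Prime] (hP : IsPGroup p P) (K : Subgroup P) :
    ∃ k : ℕ, Nat.card K = p ^ k :=
  IsPGroup.iff_card.mp (hP.to_subgroup K)

variable {p : ℕ} {N : Subgroup P} {t : P}

/-- A character nontrivial on every nonidentity central element vanishes off `Z(C_P(t))`. -/
theorem CenQuot.vanish_off_cenA [N.Normal] (h : CenQuot p N t)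
    (hcomm : commutator P ≤ zTwo N) (χ : IrrCharacter P)
    (hNK : ∀ c ∈ Subgroup.center P, c ≠ 1 → (χ : P → ℂ) c ≠ (χ : P → ℂ) 1) :
    ∀ g : P, g ∉ cenA t → (χ : P → ℂ) g = 0 := by
  intro g hg
  by_cases hgC : g ∈ Subgroup.centralizer {t}
  · have hg2 : g ∉ Subgroup.centralizer (Subgroup.centralizer {t} : Set P) := fun h2 => hg ⟨hgC, h2⟩
    rw [Subgroup.mem_centralizer_iff] at hg2
    push Not at hg2
    obtain ⟨y, hy, hyg⟩ := hg2
    have hne : ⁅y, g⁆ ≠ 1 := fun h1 => hyg (commutatorElement_eq_one_iff_commute.mp h1)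
    have hcen := h.comm_mem_center_of_mem hcomm y g hy hgC
    exact irr_eq_zero_of_comm χ y g hcen (hNK _ hcen hne)
  · have hne : ⁅t, g⁆ ≠ 1 := by
      intro h1
      apply hgC
      rw [Subgroup.mem_centralizer_iff]
      intro w hw
      rw [Set.mem_singleton_iff] at hw
      rw [hw]
      exact commutatorElement_eq_one_iff_commute.mp h1
    have hcen := h.comm_mem_center g
    exact irr_eq_zero_of_comm χ t g hcen (hNK _ hcen hne)

/-- Degree comparison in the cyclic-centre case. -/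
theorem CenQuot.deg_eq [hp : Fact p.Prime] [N.Normal] (h : CenQuot p N t) (hP : IsPGroup p P)
    (hcH : commutator (P ⧸ N) ≤ Subgroup.center (P ⧸ N))
    (hcard : Nat.card (commutator (P ⧸ N)) = p)
    (hcP : Nat.card (commutator P) = p ^ 2)
    (χ : IrrCharacter P)
    (hNK : ∀ c ∈ Subgroup.center P, c ≠ 1 → (χ : P → ℂ) c ≠ (χ : P → ℂ) 1)
    (θ : IrrCharacter (P ⧸ N)) (hθ : irrDeg θ ≠ 1) : irrDeg χ = irrDeg θ := by
  have hp1 : 1 < p := hp.out.one_lt
  have hcomm : commutator P ≤ zTwo N := commutator_le_zTwo hcH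
  obtain ⟨n, hn⟩ := IsPGroup.iff_card.mp hP
  obtain ⟨a, ha⟩ := exists_card_pow hP (Subgroup.center P)
  obtain ⟨b, hb⟩ := exists_card_pow hP (zTwo N)
  obtain ⟨δ, hδ⟩ := exists_irrDeg_pow hP χ
  have hPq : IsPGroup p (P ⧸ N) := hP.to_quotient N
  obtain ⟨ε, hε⟩ := exists_irrDeg_pow hPq θ
  -- `e² |Z₂| = |P|`
  have h1 := irrDeg_sq_mul_card_center_of_prime hp.out hcH hcard θ hθ
  have h2 : Nat.card (zTwo N) = Nat.card (Subgroup.center (P ⧸ N)) * Nat.card N :=
    Cfsg.Agent.Helper1.PrimeGraph.card_comap_mk N _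
  have h3 := Subgroup.card_eq_card_quotient_mul_card_subgroup N
  have h4 : irrDeg θ ^ 2 * Nat.card (zTwo N) = Nat.card P := by
    rw [h2, ← mul_assoc, h1, h3]
  rw [hε, hb, hn, ← pow_mul, ← pow_add] at h4
  have e1 : ε * 2 + b = n := Nat.pow_right_injective hp1 h4
  -- `a ≤ b ≤ a + 1`
  have h5 : a ≤ b := by
    have := Subgroup.card_le_of_le (center_le_zTwo (N := N))
    rw [ha, hb] at this
    exact (Nat.pow_le_pow_iff_right hp1).mp this
  have h6 : b ≤ a + 1 := by
    have := h.card_zTwo_le hp.out.pos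
    rw [ha, hb, ← pow_succ'] at this
    exact (Nat.pow_le_pow_iff_right hp1).mp this
  -- upper bound
  have h7 : δ * 2 + a ≤ n := by
    have := Helper12.irrDeg_sq_mul_card_center_le χ
    rw [hδ, ha, hn, ← pow_mul, ← pow_add] at this
    exact (Nat.pow_le_pow_iff_right hp1).mp this
  -- lower bound
  have h8 := card_le_of_vanish_off χ (cenA t) (h.vanish_off_cenA hcomm χ hNK)
  by_cases hC : Subgroup.centralizer {t} = ⊤
  · rw [cenA_eq_center hC, ha, hδ, hn, ← pow_mul, ← pow_add] at h8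
    have h9 : n ≤ a + δ * 2 := (Nat.pow_le_pow_iff_right hp1).mp h8
    have : δ = ε := by omega
    rw [hδ, hε, this]
  · have h9 := h.card_cenA_le hp.out hcomm hC
    rw [hcP, ha] at h9
    have h10 : Nat.card P ≤ p ^ 2 * p ^ a * irrDeg χ ^ 2 :=
      le_trans h8 (Nat.mul_le_mul_right _ h9)
    rw [hδ, hn, ← pow_mul, ← pow_add, ← pow_add] at h10
    have h11 : n ≤ 2 + a + δ * 2 := (Nat.pow_le_pow_iff_right hp1).mp h10
    have hab : a ≠ b := by
      intro hab
      apply hC
      have heq : Subgroup.center P = zTwo N := by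
        apply Subgroup.eq_of_le_of_card_ge center_le_zTwo
        rw [ha, hb, hab]
      have ht : t ∈ Subgroup.center P := by rw [heq]; exact h.mem_zTwo
      rw [eq_top_iff]
      intro x _
      rw [Subgroup.mem_centralizer_iff]
      intro w hw
      rw [Set.mem_singleton_iff] at hw
      rw [hw]
      exact (Subgroup.mem_center_iff.mp ht x).symm
    have : δ = ε := by omega
    rw [hδ, hε, this]

end CaseB

end Cfsg.Agent.Helper29.GalConj
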