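import Cfsg.Agent.Helper29.BGb
import Cfsg.Agent.Helper29.GalConjC

set_option autoImplicit false

namespace Cfsg.Agent.Helper29.BG

open Cfsg Cfsg.Agent.Helper24

universe u

section Aux

theorem isNilpotent_of_injective' {X Y : Type*} [Group X] [Group Y] [hY : Group.IsNilpotent Y]
    (f : X →* Y) (hf : Function.Injective f) : Group.IsNilpotent X := by
  haveI : Group.IsNilpotent f.range := inferInstance
  exact Group.nilpotent_of_mulEquiv (MonoidHom.ofInjective hf).symm

/-- Nilpotency of a section pulls back along a homomorphism. -/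
theorem quot_comap_nilpotent {G H : Type*} [Group G] [Group H] (f : G →* H) (A B : Subgroup H)
    (hn : (B.subgroupOf A).Normal) (hnil : Group.IsNilpotent (↥A ⧸ B.subgroupOf A))
    (hn' : ((B.comap f).subgroupOf (A.comap f)).Normal) :
    Group.IsNilpotent (↥(A.comap f) ⧸ (B.comap f).subgroupOf (A.comap f)) := by
  let φ : ↥(A.comap f) →* ↥A ⧸ B.subgroupOf A :=
    (QuotientGroup.mk' (B.subgroupOf A)).comp (f.subgroupComap A)
  have hker : ∀ x : ↥(A.comap f), φ x = 1 ↔ x ∈ (B.comap f).subgroupOf (A.comap f) := by
    intro x
    show QuotientGroup.mk' (B.subgroupOf A) (f.subgroupComap A x) = 1 ↔ _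
    rw [QuotientGroup.mk'_apply, QuotientGroup.eq_one_iff, Subgroup.mem_subgroupOf,
      Subgroup.mem_subgroupOf, Subgroup.mem_comap]
    rfl
  let ψ : ↥(A.comap f) ⧸ (B.comap f).subgroupOf (A.comap f) →* ↥A ⧸ B.subgroupOf A :=
    QuotientGroup.lift _ φ (fun x hx => (hker x).mpr hx)
  apply isNilpotent_of_injective' ψ
  rw [injective_iff_map_eq_one]
  intro q
  obtain ⟨x, rfl⟩ := QuotientGroup.mk'_surjective _ q
  intro hq
  have : φ x = 1 := hq
  rw [QuotientGroup.mk'_apply, QuotientGroup.eq_one_iff]
  exact (hker x).mp this

end Aux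

section Degrees

/-- The set of irreducible character degrees. -/
def cdSet (G : Type u) [Group G] : Set ℕ :=
  {d | ∃ χ : IrrCharacter G, charDegree (χ : G → ℂ) = d}

variable {G : Type u} [Group G] [Finite G]

theorem cdSet_finite : (cdSet G).Finite := by
  have : cdSet G = Set.range (fun χ : IrrCharacter G => charDegree (χ : G → ℂ)) := by
    ext d
    simp [cdSet]
  rw [this]
  exact Set.finite_range _

theorem one_le_ncard_cdSet : 1 ≤ (cdSet G).ncard := by
  rw [Nat.one_le_iff_ne_zero, Ne, Set.ncard_eq_zero cdSet_finite]
  intro h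
  have : charDegree ((trivIrr G : IrrCharacter G) : G → ℂ) ∈ cdSet G := ⟨trivIrr G, rfl⟩
  rw [h] at this
  exact this

/-- Passing to the Fitting quotient of a non-nilpotent solvable group loses a degree. -/
theorem ncard_cdSet_quot_lt [Group.IsSolvable G] (hF : fittingSubgroup G ≠ ⊤) :
    (cdSet (G ⧸ fittingSubgroup G)).ncard < (cdSet G).ncard := by
  classical
  haveI : Fintype G := Fintype.ofFinite G
  haveI : Fintype (G ⧸ fittingSubgroup G) := Fintype.ofFinite _
  haveI : Nonempty (IrrCharacter (G ⧸ fittingSubgroup G)) := ⟨trivIrr _⟩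
  obtain ⟨χb, hmax⟩ := Finite.exists_max
    (fun η : IrrCharacter (G ⧸ fittingSubgroup G) => irrDeg η)
  obtain ⟨χ, hχ⟩ : ∃ χ : IrrCharacter G, χ = irrInflate (fittingSubgroup G) χb := ⟨_, rfl⟩
  have hle : fittingSubgroup G ≤ irrKer χ := by
    rw [hχ]; exact GalConj.le_irrKer_irrInflate _ χb
  have hdeg : irrDeg χ = irrDeg χb := by
    rw [hχ]; exact GalConj.irrDeg_irrInflate _ χb
  have hBG : ∃ ψ : IrrCharacter G, irrDeg χ < irrDeg ψ ∧ irrKer ψ < irrKer χ := by
    by_cases hK : irrKer χ = fittingSubgroup G
    · exact caseB χ hK inferInstance (by rw [hK]; exact hF)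
    · apply caseA χ
      intro hnil
      apply hK
      exact le_antisymm (Cfsg.Agent.Helper7.le_fittingSubgroup inferInstance hnil) hle
  obtain ⟨ψ, hψ, -⟩ := hBG
  apply Set.ncard_lt_ncard _ cdSet_finite
  rw [Set.ssubset_iff_of_subset]
  · refine ⟨irrDeg ψ, ⟨ψ, charDegree_irr ψ⟩, ?_⟩
    rintro ⟨η, hη⟩
    rw [charDegree_irr] at hη
    have := hmax η
    omega
  · rintro d ⟨η, hη⟩
    refine ⟨irrInflate (fittingSubgroup G) η, ?_⟩
    rw [← hη]
    unfold charDegree
    rfl

end Degrees

section Chain

/-- A normal series of length `n` with nilpotent factors. -/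
def HasChain (G : Type u) [Group G] (n : ℕ) : Prop :=
  ∃ N : Fin (n + 1) → Subgroup G, N 0 = ⊥ ∧ N (Fin.last n) = ⊤ ∧ Monotone N ∧
    (∀ i, (N i).Normal) ∧
    ∀ i : Fin n, ∀ h : ((N i.castSucc).subgroupOf (N i.succ)).Normal,
      Group.IsNilpotent (↥(N i.succ) ⧸ (N i.castSucc).subgroupOf (N i.succ))

theorem nilpotent_section_congr {G : Type u} [Group G] (A B A' B' : Subgroup G) (hA : A = A')
    (hB : B = B')
    (H : ∀ h' : (B'.subgroupOf A').Normal, Group.IsNilpotent (↥A' ⧸ B'.subgroupOf A')) :
    ∀ h : (B.subgroupOf A).Normal, Group.IsNilpotent (↥A ⧸ B.subgroupOf A) := by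
  subst hA
  subst hB
  exact H

theorem chain_aux : ∀ (k : ℕ) (G : Type u) [Group G] [Finite G], Nat.card G = k →
    Group.IsSolvable G → ∀ n : ℕ, (cdSet G).ncard ≤ n → HasChain G n := by
  intro k
  induction k using Nat.strong_induction_on with
  | _ k ih =>
    intro G _ _ hk hsolv n hn
    have hn1 : 1 ≤ n := le_trans one_le_ncard_cdSet hn
    by_cases hF : fittingSubgroup G = ⊤
    · -- nilpotent case
      haveI hnil : Group.IsNilpotent G := by
        have h1 : Group.IsNilpotent (fittingSubgroup G) :=
          Cfsg.Agent.Helper7.fittingSubgroup_isNilpotent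
        rw [hF] at h1
        exact Group.nilpotent_of_mulEquiv Subgroup.topEquiv
      refine ⟨fun i => if i = 0 then ⊥ else ⊤, by simp, ?_, ?_, ?_, ?_⟩
      · show (if Fin.last n = 0 then (⊥ : Subgroup G) else ⊤) = ⊤
        rw [if_neg]
        intro h
        have := congrArg Fin.val h
        simp at this
        omega
      · intro i j hij
        by_cases hi : i = 0
        · simp [hi]
        · have hj : j ≠ 0 := by
            intro hj
            apply hi
            rw [hj] at hij
            exact Fin.le_zero_iff.mp hij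
          simp [hi, hj]
      · intro i
        by_cases hi : i = 0
        · simp only [hi, if_true]; infer_instance
        · simp only [hi, if_false]; infer_instance
      · intro i h
        infer_instance
    · -- reduce to the Fitting quotient
      have hlt := ncard_cdSet_quot_lt hF
      obtain ⟨m, rfl⟩ : ∃ m, n = m + 1 := ⟨n - 1, by omega⟩
      have hm : (cdSet (G ⧸ fittingSubgroup G)).ncard ≤ m := by omega
      have hFne : fittingSubgroup G ≠ ⊥ := by
        intro hbot
        apply hF
        have h1 := Cfsg.Agent.S0044.result (G := G)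
        rw [hbot] at h1
        have h2 : Subgroup.centralizer ((⊥ : Subgroup G) : Set G) = ⊤ := by
          rw [eq_top_iff]
          intro g _
          rw [Subgroup.mem_centralizer_iff]
          intro x hx
          have : x = 1 := hx
          rw [this, one_mul, mul_one]
        rw [h2] at h1
        rw [hbot]
        exact (le_antisymm h1 bot_le).symm
      have hcard : Nat.card (G ⧸ fittingSubgroup G) < k := by
        have h1 := Subgroup.card_eq_card_quotient_mul_card_subgroup (fittingSubgroup G)
        have h2 : 1 < Nat.card (fittingSubgroup G) := (Subgroup.one_lt_card_iff_ne_bot _).mpr hFne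
        have h3 : 0 < Nat.card (G ⧸ fittingSubgroup G) := Nat.card_pos
        rw [← hk, h1]
        nlinarith
      obtain ⟨Nb, h0, hlast, hmono, hnorm, hquot⟩ :=
        ih _ hcard (G ⧸ fittingSubgroup G) rfl inferInstance m hm
      refine ⟨Fin.cons ⊥ (fun j => (Nb j).comap (QuotientGroup.mk' (fittingSubgroup G))),
        Fin.cons_zero _ _, ?_, ?_, ?_, ?_⟩
      · rw [← Fin.succ_last, Fin.cons_succ, hlast, Subgroup.comap_top]
      · rw [Fin.monotone_iff_le_succ]
        intro i
        refine Fin.cases ?_ ?_ i
        · rw [Fin.castSucc_zero, Fin.cons_zero]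
          exact bot_le
        · intro j
          rw [← Fin.succ_castSucc, Fin.cons_succ, Fin.cons_succ]
          exact Subgroup.comap_mono (hmono (Fin.castSucc_le_succ j))
      · intro i
        refine Fin.cases ?_ ?_ i
        · rw [Fin.cons_zero]; infer_instance
        · intro j
          rw [Fin.cons_succ]
          exact (hnorm j).comap _
      · intro i
        refine Fin.cases ?_ ?_ i
        · apply nilpotent_section_congr _ _ (fittingSubgroup G) ⊥
          · rw [Fin.cons_succ, h0]
            ext x
            rw [Subgroup.mem_comap, Subgroup.mem_bot, QuotientGroup.mk'_apply,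
              QuotientGroup.eq_one_iff]
          · rw [Fin.castSucc_zero, Fin.cons_zero]
          · intro h'
            haveI : Group.IsNilpotent (fittingSubgroup G) :=
              Cfsg.Agent.Helper7.fittingSubgroup_isNilpotent
            infer_instance
        · intro j
          apply nilpotent_section_congr _ _
            ((Nb j.succ).comap (QuotientGroup.mk' (fittingSubgroup G)))
            ((Nb j.castSucc).comap (QuotientGroup.mk' (fittingSubgroup G)))
          · rw [Fin.cons_succ]
          · rw [← Fin.succ_castSucc, Fin.cons_succ]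
          · intro h'
            have hn'' : ((Nb j.castSucc).subgroupOf (Nb j.succ)).Normal := by
              haveI := hnorm j.castSucc
              infer_instance
            exact quot_comap_nilpotent _ _ _ hn'' (hquot j hn'') h'

end Chain

end Cfsg.Agent.Helper29.BG
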