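import Cfsg.Agent.Helper29.TwoDegE2

set_option autoImplicit false

namespace Cfsg.Agent.Helper29.TwoDeg

open Cfsg Cfsg.Agent.Helper24
open scoped commutatorElement

universe u v

section CaseIFinal

variable {G : Type u} [Group G] [Fintype G]

omit [Fintype G] in
theorem card_dual [Finite G] (H : Subgroup G) (hHab : ∀ a ∈ H, ∀ b ∈ H, a * b = b * a) :
    Nat.card (H →* ℂˣ) = Nat.card H := by
  let _ : CommGroup H := { (inferInstance : Group H) with
    mul_comm := fun a b => Subtype.ext (hHab a a.2 b b.2) }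
  have : HasEnoughRootsOfUnity ℂ (Monoid.exponent H) := by
    have : NeZero ((Monoid.exponent H : ℕ) : ℂ) :=
      ⟨Nat.cast_ne_zero.mpr Monoid.exponent_ne_zero_of_finite⟩
    infer_instance
  exact CommGroup.card_monoidHom_of_hasEnoughRootsOfUnity H ℂ

/-- Case I of the two-degrees theorem: `m` is a power of the prime `p`. -/
theorem caseI {m : ℕ} (h : TwoDegrees G m) (hm2 : 2 ≤ m) (p e : ℕ) (hp : p.Prime)
    (hme : m = p ^ e) :
    (∃ A : Subgroup G, A.Normal ∧ (∀ a ∈ A, ∀ b ∈ A, a * b = b * a) ∧ A.index = m) ∨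
    ∃ P A : Subgroup G, P.Normal ∧ A.Normal ∧ IsPGroup p P ∧
      (∀ a ∈ A, ∀ b ∈ A, a * b = b * a) ∧ P ⊓ A = ⊥ ∧ P ⊔ A = ⊤ := by
  classical
  have he : e ≠ 0 := by
    intro h0
    rw [h0, pow_zero] at hme
    omega
  have hpm : p ∣ m := by rw [hme]; exact dvd_pow_self p he
  have hdeg : ∀ χ : IrrCharacter G, charDegree (χ : G → ℂ) ≠ 1 →
      p ∣ charDegree (χ : G → ℂ) := by
    intro χ hχ
    rcases h χ with h1 | h1
    · exact absurd h1 hχ
    · rw [h1]; exact hpm
  obtain ⟨H, hHn, hcopp, k, hk⟩ := normal_pComplement_of_dvd_nonlinear p hp hdeg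
  have : Fintype H := Fintype.ofFinite _
  have hcop : (Nat.card H).Coprime H.index := by rw [hk]; exact hcopp.pow_right k
  -- H is abelian
  have hHab : ∀ a ∈ H, ∀ b ∈ H, a * b = b * a := by
    have hlin : ∀ ψ : IrrCharacter H, (ψ : H → ℂ) 1 = 1 := by
      intro ψ
      have h1 : irrDeg ψ ∣ m := h.irrDeg_dvd H ψ
      have h2 : irrDeg ψ ∣ Nat.card H := irrDeg_dvd_card ψ
      have h3 : irrDeg ψ ∣ Nat.gcd (Nat.card H) m := Nat.dvd_gcd h2 h1
      have h4 : Nat.gcd (Nat.card H) m = 1 := by rw [hme]; exact hcopp.pow_right e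
      rw [h4] at h3
      exact (irrDeg_eq_one_iff ψ).mp (Nat.dvd_one.mp h3)
    have hcomm := (comm_iff_forall_irr_one (G := H)).mpr hlin
    intro a ha b hb
    exact congrArg Subtype.val (hcomm ⟨a, ha⟩ ⟨b, hb⟩)
  by_cases hall : ∀ L : H →* ℂˣ, stabHom H L = ⊤
  · right
    have hcen : H ≤ Subgroup.center G := by
      intro x hx
      rw [Subgroup.mem_center_iff]
      intro g
      have hg : g ∈ Subgroup.centralizer (H : Set G) :=
        mem_centralizer_of_forall_stab H hHab g (fun L => by rw [hall L]; exact Subgroup.mem_top g)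
      exact ((Subgroup.mem_centralizer_iff.mp hg) x hx).symm
    obtain ⟨P, hPn, hPp, hinf, hsup⟩ := exists_normal_complement_of_central H hcen hcop p k hk
    exact ⟨P, H, hPn, hHn, hPp, hHab, hinf, hsup⟩
  · left
    push Not at hall
    obtain ⟨L₀, hL₀⟩ := hall
    have hstab : ∀ L : H →* ℂˣ, stabHom H L ≠ ⊤ → (stabHom H L).index = m ∧
        ∀ a ∈ stabHom H L, ∀ b ∈ stabHom H L, a * b * a⁻¹ * b⁻¹ ∈ H :=
      fun L hL => stab_props h H hcop L hL
    have hcomm := commutator_le_centralizer h H hHab p k hp hk hstab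
    set C := Subgroup.centralizer (H : Set G) with hC
    have hCn : C.Normal := inferInstance
    -- the dual action
    have hfinD : Finite (Dual H) := by
      apply Nat.finite_of_card_ne_zero
      have : Nat.card (Dual H) = Nat.card (H →* ℂˣ) := rfl
      rw [this, card_dual H hHab]; exact Nat.card_pos.ne'
    have hCker : C ≤ (dualAct H).ker := by
      intro g hg
      rw [MonoidHom.mem_ker]
      ext μ : 1
      exact (dualAct_eq_iff H g μ).mpr (centralizer_le_stabHom H μ.toHom hg)
    have hHC : H ≤ C := by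
      intro x hx
      rw [hC, Subgroup.mem_centralizer_iff]
      intro y hy
      exact hHab y hy x hx
    have hcop' : (Nat.card (Dual H)).Coprime (dualAct H).ker.index := by
      have h1 : Nat.card (Dual H) = Nat.card H := by
        have : Nat.card (Dual H) = Nat.card (H →* ℂˣ) := rfl
        rw [this, card_dual H hHab]
      rw [h1]
      exact Nat.Coprime.coprime_dvd_right (Subgroup.index_dvd_of_le (hHC.trans hCker)) hcop
    have hSC : stabHom H L₀ ≤ C := by
      intro s hs
      apply mem_centralizer_of_forall_stab H hHab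
      intro μ
      exact abstract_stab_le (dualAct H) (fun ν => stabHom H ν.toHom) (dualAct_eq_iff H) hcop'
        (hcomm.trans hCker) (fun ν hν => (hstab ν.toHom hν).1) (Dual.ofHom L₀) hL₀
        (Dual.ofHom μ) hs
    have hCS : C ≤ stabHom H L₀ := centralizer_le_stabHom H L₀
    have hCeq : C = stabHom H L₀ := le_antisymm hCS hSC
    have hCab : ∀ a ∈ C, ∀ b ∈ C, a * b = b * a :=
      centralizer_comm H hcop (fun x hx y hy => (hstab L₀ hL₀).2 x (hCS hx) y (hCS hy))
    refine ⟨C, hCn, hCab, ?_⟩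
    rw [hCeq]
    exact (hstab L₀ hL₀).1

end CaseIFinal

end Cfsg.Agent.Helper29.TwoDeg
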