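import Cfsg.Agent.Helper29.TwoDegC
import Cfsg.Agent.Helper29.TwoDegE3

set_option autoImplicit false

namespace Cfsg.Agent.Helper29.TwoDeg

open Cfsg Cfsg.Agent.Helper24
open scoped commutatorElement

universe u

/-- Isaacs 12.5: the structure of groups with two character degrees. -/
theorem two_degrees_structure {G : Type u} [Group G] [Finite G] (m : ℕ)
    (hcd : ∀ χ : IrrCharacter G, charDegree (χ : G → ℂ) = 1 ∨ charDegree (χ : G → ℂ) = m)
    (hm : ∃ χ : IrrCharacter G, charDegree (χ : G → ℂ) = m) (hm1 : m ≠ 1) :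
    (∃ A : Subgroup G, A.Normal ∧ (∀ a ∈ A, ∀ b ∈ A, a * b = b * a) ∧ A.index = m) ∨
    ∃ p e : ℕ, p.Prime ∧ m = p ^ e ∧ ∃ P A : Subgroup G, P.Normal ∧ A.Normal ∧ IsPGroup p P ∧
      (∀ a ∈ A, ∀ b ∈ A, a * b = b * a) ∧ P ⊓ A = ⊥ ∧ P ⊔ A = ⊤ := by
  classical
  have : Fintype G := Fintype.ofFinite G
  have h : TwoDegrees G m := hcd
  obtain ⟨χ₀, hχ₀⟩ := hm
  have hG : ¬ commutator G ≤ (⊥ : Subgroup G) := by
    intro hle
    have hcomm : ∀ a b : G, a * b = b * a := by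
      intro a b
      have : ⁅a, b⁆ ∈ commutator G :=
        Subgroup.commutator_mem_commutator (Subgroup.mem_top _) (Subgroup.mem_top _)
      have := hle this
      rw [Subgroup.mem_bot, commutatorElement_eq_one_iff_commute] at this
      exact this
    have h1 := (comm_iff_forall_irr_one (G := G)).mp hcomm χ₀
    have h2 : irrDeg χ₀ = 1 := (irrDeg_eq_one_iff χ₀).mpr h1
    rw [charDegree_irr, h2] at hχ₀
    exact hm1 hχ₀.symm
  have hm2 : 2 ≤ m := (h.exists_deg hG).2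
  obtain ⟨K, hKn, hKc, hKmax⟩ := exists_max_normal hG
  have : Fintype (G ⧸ K) := Fintype.ofFinite _
  have hmin := quot_min K hKmax
  have hna := quot_nonabelian K hKc
  have hab := commutator_comm_of_twoDegrees (h.quot K) hmin hna
  by_cases hZ : Subgroup.center (G ⧸ K) = ⊥
  · left
    exact caseII h K hna hab (fpf_of_center_eq_bot hmin hab hZ)
  · obtain ⟨p, hp, hpg⟩ := isPGroup_of_center_ne_bot hmin hna hZ
    obtain ⟨⟨χ, hχ⟩, -⟩ := (h.quot K).exists_deg hna
    have : Fact p.Prime := ⟨hp⟩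
    obtain ⟨n, hn⟩ := IsPGroup.iff_card.mp hpg
    have hdvd : m ∣ p ^ n := by
      rw [← hχ, ← hn]; exact irrDeg_dvd_card χ
    obtain ⟨e, -, hme⟩ := (Nat.dvd_prime_pow hp).mp hdvd
    rcases caseI h hm2 p e hp hme with hA | ⟨P, A, hPn, hAn, hPp, hAab, hinf, hsup⟩
    · left; exact hA
    · right
      exact ⟨p, e, hp, hme, P, A, hPn, hAn, hPp, hAab, hinf, hsup⟩

end Cfsg.Agent.Helper29.TwoDeg
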