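import Cfsg.Agent.Helper5.TDDefs

set_option autoImplicit false

/-!
# S4460 piece DY2A: `caseY_pquot`
-/

namespace Cfsg.Agent.Helper29.TD

open Cfsg Cfsg.Agent.Helper24 Cfsg.Agent.Helper29.TwoDeg
open Cfsg.Agent.Helper5.TD
open scoped ComplexConjugate commutatorElement

universe u

variable {G : Type u} [Group G] [Finite G]

theorem caseY_pquot {m n p : ℕ} (td : ThreeDeg G m n) (hp : p.Prime)
    (P : Subgroup G) [P.Normal] (hpm : p ∣ m)
    (A : Subgroup G) [A.Normal] (hPA : P ≤ A) (hGA : commutator G ≤ A)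
    (hAp : (P.relIndex A).Coprime p)
    (hquot : ∀ χ : IrrCharacter G, P ≤ irrKer χ → irrDeg χ = 1 ∨ irrDeg χ = m)
    (K : Subgroup G) [K.Normal] (hPK : P ≤ K) (hna : ¬ commutator G ≤ K)
    (r : ℕ) (hr : r.Prime) (hX : IsPGroup r (G ⧸ K)) : False := by
  classical
  haveI : Fintype G := Fintype.ofFinite G
  haveI : Fact r.Prime := ⟨hr⟩
  -- G/K is nonabelian
  have hX' : ¬ commutator (G ⧸ K) ≤ (⊥ : Subgroup (G ⧸ K)) := by
    intro h
    apply hna
    have h1 := commutator_le_preComm K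
    intro g hg
    have h2 := h1 hg
    unfold preComm at h2
    rw [Subgroup.mem_comap] at h2
    have h3 := h h2
    rw [Subgroup.mem_bot] at h3
    exact (QuotientGroup.eq_one_iff g).mp h3
  obtain ⟨η, hη⟩ := exists_nonlinear hX'
  -- inflate
  have hdeg : irrDeg (irrInflate K η) = irrDeg η := Cfsg.Agent.Helper29.GalConj.irrDeg_irrInflate K η
  have hker : K ≤ irrKer (irrInflate K η) := Cfsg.Agent.Helper29.GalConj.le_irrKer_irrInflate K η
  have hm : irrDeg η = m := by
    rcases hquot (irrInflate K η) (hPK.trans hker) with h | h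
    · rw [hdeg] at h; exact absurd h hη
    · rw [hdeg] at h; exact h
  -- m divides |G/K| = r^k
  have hdvd : irrDeg η ∣ Nat.card (G ⧸ K) := Cfsg.Agent.Helper29.TwoDeg.irrDeg_dvd_card η
  obtain ⟨k, hk⟩ := (IsPGroup.iff_card.mp hX)
  rw [hm, hk] at hdvd
  have hpr : p ∣ r ^ k := hpm.trans hdvd
  have hpr' : p = r := (Nat.prime_dvd_prime_iff_eq hp hr).mp (hp.dvd_of_dvd_pow hpr)
  subst hpr'
  -- A ≤ K
  have hAK : A ≤ K := by
    intro a ha
    have h1 : (⟨a, ha⟩ : A) ^ (P.subgroupOf A).index ∈ P.subgroupOf A := by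
      haveI : (P.subgroupOf A).Normal := Subgroup.Normal.subgroupOf inferInstance A
      exact Subgroup.pow_index_mem _ _
    have h2 : a ^ P.relIndex A ∈ K := by
      apply hPK
      have := Subgroup.mem_subgroupOf.mp h1
      simpa [Subgroup.relIndex] using this
    have h3 : ((QuotientGroup.mk a : G ⧸ K)) ^ P.relIndex A = 1 := by
      rw [← QuotientGroup.mk_pow]
      exact (QuotientGroup.eq_one_iff _).mpr h2
    have h4 : ((QuotientGroup.mk a : G ⧸ K)) ^ Nat.card (G ⧸ K) = 1 := pow_card_eq_one'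
    have h5 := pow_gcd_eq_one.mpr ⟨h3, h4⟩
    have h6 : Nat.gcd (P.relIndex A) (Nat.card (G ⧸ K)) = 1 := by
      rw [hk]
      exact Nat.Coprime.pow_right k hAp
    rw [h6, pow_one] at h5
    exact (QuotientGroup.eq_one_iff a).mp h5
  exact hna (hGA.trans hAK)

end Cfsg.Agent.Helper29.TD
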