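import Cfsg.Agent.Helper5.TDDefs

set_option autoImplicit false

/-!
# S4460 piece DY2B: `caseY_frob`
-/

namespace Cfsg.Agent.Helper29.TD

open Cfsg Cfsg.Agent.Helper24 Cfsg.Agent.Helper29.TwoDeg
open Cfsg.Agent.Helper5.TD
open scoped ComplexConjugate commutatorElement

universe u

variable {G : Type u} [Group G] [Finite G]

/-- a nonlinear irreducible character of a `p`-group has degree divisible by `p`. -/
theorem dvd_irrDeg_of_isPGroup {H : Type u} [Group H] [Finite H] {p : ℕ} (hp : p.Prime)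
    (hH : IsPGroup p H) (θ : IrrCharacter H) (hθ : irrDeg θ ≠ 1) : p ∣ irrDeg θ := by
  haveI : Fact p.Prime := ⟨hp⟩
  haveI : Fintype H := Fintype.ofFinite H
  obtain ⟨k, hk⟩ := IsPGroup.iff_card.mp hH
  have h1 : irrDeg θ ∣ p ^ k := hk ▸ Cfsg.Agent.Helper29.TwoDeg.irrDeg_dvd_card θ
  obtain ⟨j, _, hj⟩ := (Nat.dvd_prime_pow hp).mp h1
  rw [hj]
  rcases Nat.eq_zero_or_pos j with h0 | h0
  · rw [h0, pow_zero] at hj; exact absurd hj hθ
  · exact dvd_pow_self p (Nat.pos_iff_ne_zero.mp h0)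

theorem caseY_frob {m n p : ℕ} (td : ThreeDeg G m n) (hp : p.Prime)
    (P : Subgroup G) [P.Normal] (hPp : IsPGroup p P) (hpm : p ∣ m) (hpn : ¬ p ∣ n)
    (hnb : ¬ ∀ a ∈ P, ∀ b ∈ P, a * b = b * a)
    (hquot : ∀ χ : IrrCharacter G, P ≤ irrKer χ → irrDeg χ = 1 ∨ irrDeg χ = m)
    (K : Subgroup G) [K.Normal] (hPK : P ≤ K)
    (hnum : (∃ η : IrrCharacter (G ⧸ K), irrDeg η = (commutator (G ⧸ K)).index) ∧
      ((commutator (G ⧸ K)).index).Coprime (Nat.card (commutator (G ⧸ K))) ∧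
      1 < (commutator (G ⧸ K)).index)
    (hext : ∀ ψ : IrrCharacter (preComm K),
      (irrDeg ψ).Coprime (Nat.card (commutator (G ⧸ K))) →
      ∃ χ : IrrCharacter G, irrDeg χ = (commutator (G ⧸ K)).index * irrDeg ψ) : False := by
  classical
  haveI : Fintype G := Fintype.ofFinite G
  obtain ⟨⟨η, hη⟩, hcop, hf1⟩ := hnum
  -- Step 1: f = m
  have hfm : (commutator (G ⧸ K)).index = m := by
    have hdeg : irrDeg (irrInflate K η) = irrDeg η :=
      Cfsg.Agent.Helper29.GalConj.irrDeg_irrInflate K η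
    have hker : K ≤ irrKer (irrInflate K η) :=
      Cfsg.Agent.Helper29.GalConj.le_irrKer_irrInflate K η
    rcases hquot (irrInflate K η) (hPK.trans hker) with h | h
    · rw [hdeg, hη] at h; omega
    · rw [hdeg, hη] at h; exact h
  -- Step 2: a nonlinear character of P.subgroupOf L
  have hPL : P ≤ preComm K := hPK.trans (le_preComm K)
  haveI hnorm : (P.subgroupOf (preComm K)).Normal := Subgroup.Normal.subgroupOf inferInstance _
  have hPLp : IsPGroup p (P.subgroupOf (preComm K)) :=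
    hPp.of_equiv (Subgroup.subgroupOfEquivOfLe hPL).symm
  have hnab : ¬ commutator (P.subgroupOf (preComm K)) ≤
      (⊥ : Subgroup (P.subgroupOf (preComm K))) := by
    intro h
    apply hnb
    intro a ha b hb
    have ha' : (⟨a, hPL ha⟩ : preComm K) ∈ P.subgroupOf (preComm K) :=
      Subgroup.mem_subgroupOf.mpr ha
    have hb' : (⟨b, hPL hb⟩ : preComm K) ∈ P.subgroupOf (preComm K) :=
      Subgroup.mem_subgroupOf.mpr hb
    have hc : ⁅(⟨_, ha'⟩ : P.subgroupOf (preComm K)), ⟨_, hb'⟩⁆ ∈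
        commutator (P.subgroupOf (preComm K)) :=
      Subgroup.commutator_mem_commutator (Subgroup.mem_top _) (Subgroup.mem_top _)
    have h1 := h hc
    rw [Subgroup.mem_bot, commutatorElement_eq_one_iff_mul_comm] at h1
    have h2 := congrArg (fun x : P.subgroupOf (preComm K) => ((x : preComm K) : G)) h1
    simpa using h2
  obtain ⟨θ, hθ⟩ := exists_nonlinear hnab
  have hpθ : p ∣ irrDeg θ := dvd_irrDeg_of_isPGroup hp hPLp θ hθ
  haveI : Fintype (P.subgroupOf (preComm K)) := Fintype.ofFinite _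
  haveI : Fintype (preComm K) := Fintype.ofFinite _
  obtain ⟨φ, hφ⟩ := exists_irr_over (P.subgroupOf (preComm K)) θ
  obtain ⟨e, he, _⟩ := irrDeg_dvd_of_over (P.subgroupOf (preComm K)) φ θ hφ
  have hpφ : p ∣ irrDeg φ := by rw [he]; exact Dvd.dvd.mul_left hpθ e
  obtain ⟨χ, hχ⟩ := exists_irr_over (preComm K) φ
  obtain ⟨e', he', _⟩ := irrDeg_dvd_of_over (preComm K) χ φ hχ
  have hpχ : p ∣ irrDeg χ := by rw [he']; exact Dvd.dvd.mul_left hpφ e'
  have hχm : irrDeg χ = m := by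
    rcases td.cases χ with h | h | h
    · rw [h] at hpχ; exact absurd (Nat.le_of_dvd one_pos hpχ) (by have := hp.two_le; omega)
    · exact h
    · rw [h] at hpχ; exact absurd hpχ hpn
  have hφm : irrDeg φ ∣ m := by rw [← hχm, he']; exact Dvd.intro_left e' rfl
  have hφcop : (irrDeg φ).Coprime (Nat.card (commutator (G ⧸ K))) := by
    rw [hfm] at hcop
    exact Nat.Coprime.coprime_dvd_left hφm hcop
  obtain ⟨χ', hχ'⟩ := hext φ hφcop
  rw [hfm] at hχ'
  have hφ2 : 2 ≤ irrDeg φ := le_trans hp.two_le (Nat.le_of_dvd (irrDeg_pos φ) hpφ)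
  have hm1 := td.one_lt
  have hbig : m < m * irrDeg φ := by nlinarith
  rcases td.cases χ' with h | h | h
  · rw [h] at hχ'; omega
  · rw [h] at hχ'; omega
  · rw [h] at hχ'
    apply hpn
    rw [hχ']
    exact Dvd.dvd.mul_left hpφ m

end Cfsg.Agent.Helper29.TD
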