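import Mathlib
import Cfsg.Prelude.Def_Characters
import Cfsg.Agent.Helper8.GaloisChar
import Cfsg.Agent.Helper24.CharBasic
import Cfsg.Agent.Helper24.Expansion
import Cfsg.Agent.Helper8.Ind

set_option autoImplicit false

/-!
Galois orbits of characters (for the refined Schur bound for `p`-groups, S4489).
-/

namespace Cfsg.Agent.Helper29.SchurP

open Cfsg Cfsg.Agent.Helper24 Cfsg.Agent.Helper8 Cfsg.Agent.Helper23

universe u

section Basic

variable {G : Type u} [Group G] [Finite G]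

theorem char_star_eq_inv {χ : G → ℂ} (hχ : IsCharacter G χ) (g : G) :
    (starRingEnd ℂ) (χ g) = χ g⁻¹ := by
  obtain ⟨n, ρ, rfl⟩ := hχ
  exact (char_inv ρ g).symm

/-- applying an automorphism of `ℂ` to an irreducible character gives an irreducible character -/
theorem isIrrCharacter_ringEquiv_comp (τ : ℂ ≃+* ℂ) {χ : G → ℂ} (hχ : IsIrrCharacter G χ) :
    IsIrrCharacter G (fun g => τ (χ g)) := by
  have fG : Fintype G := Fintype.ofFinite G
  have fI : Fintype (IrrCharacter G) := Fintype.ofFinite _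
  have hχc := IsIrrCharacter.isCharacter hχ
  have hτc : IsCharacter G (fun g => τ (χ g)) := isCharacter_ringHom_comp (τ : ℂ →+* ℂ) hχc
  rw [isIrrCharacter_iff_classInner_self]
  refine ⟨hτc, ?_⟩
  have h1 := (isIrrCharacter_iff_classInner_self.mp hχ).2
  unfold classInner at h1 ⊢
  have h2 : ∀ g : G, τ (χ g) * (starRingEnd ℂ) (τ (χ g)) = τ (χ g * (starRingEnd ℂ) (χ g)) := by
    intro g
    rw [char_star_eq_inv hτc g, char_star_eq_inv hχc g, map_mul]
  rw [Finset.sum_congr rfl (fun g _ => h2 g), ← map_sum]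
  have h3 : ((Nat.card G : ℂ))⁻¹ = τ ((Nat.card G : ℂ))⁻¹ := by
    rw [map_inv₀, map_natCast]
  rw [h3, ← map_mul, h1, map_one]

end Basic


section Orbit

variable {G : Type u} [Group G] [Finite G]

/-- the orbit of a function under the automorphisms of `ℂ` -/
def galOrb (χ : G → ℂ) : Set (G → ℂ) := {ψ | ∃ τ : ℂ ≃+* ℂ, ψ = fun g => τ (χ g)}

omit [Finite G] in
theorem self_mem_galOrb (χ : G → ℂ) : χ ∈ galOrb χ :=
  ⟨RingEquiv.refl ℂ, rfl⟩

omit [Finite G] in
theorem comp_mem_galOrb (χ : G → ℂ) (τ : ℂ ≃+* ℂ) : (fun g => τ (χ g)) ∈ galOrb χ :=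
  ⟨τ, rfl⟩

theorem galOrb_subset_irr {χ : G → ℂ} (hχ : IsIrrCharacter G χ) :
    galOrb χ ⊆ {ψ | IsIrrCharacter G ψ} := by
  rintro ψ ⟨τ, rfl⟩
  exact isIrrCharacter_ringEquiv_comp τ hχ

theorem galOrb_finite {χ : G → ℂ} (hχ : IsIrrCharacter G χ) : (galOrb χ).Finite := by
  have h1 : ({ψ | IsIrrCharacter G ψ} : Set (G → ℂ)).Finite := by
    have : Finite (IrrCharacter G) := inferInstance
    exact Set.finite_coe_iff.mp this
  exact h1.subset (galOrb_subset_irr hχ)

theorem finiteDimensional_adjoin_range {χ : G → ℂ} (hχ : IsCharacter G χ) :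
    FiniteDimensional ℚ (IntermediateField.adjoin ℚ (Set.range χ)) := by
  haveI : Finite (Set.range χ) := (Set.finite_range χ).to_subtype
  apply IntermediateField.finiteDimensional_adjoin
  rintro x ⟨g, rfl⟩
  obtain ⟨n, ρ, rfl⟩ := hχ
  exact (char_isIntegral ρ g).tower_top

/-- the Galois orbit of a character is at most as large as the degree of its field of values -/
theorem galOrb_ncard_le {χ : G → ℂ} (hχ : IsCharacter G χ) (hfin : (galOrb χ).Finite) :
    (galOrb χ).ncard ≤ Module.finrank ℚ (IntermediateField.adjoin ℚ (Set.range χ)) := by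
  classical
  set K := IntermediateField.adjoin ℚ (Set.range χ) with hK
  haveI : FiniteDimensional ℚ K := finiteDimensional_adjoin_range hχ
  have hmem : ∀ g : G, χ g ∈ K := fun g =>
    IntermediateField.subset_adjoin ℚ _ ⟨g, rfl⟩
  rw [← AlgHom.natCard_of_splits ℚ K ℂ (fun _ => IsAlgClosed.splits _)]
  rw [← Nat.card_coe_set_eq]
  haveI : Finite (galOrb χ) := hfin.to_subtype
  let F : galOrb χ → (K →ₐ[ℚ] ℂ) := fun ψ =>
    (((Classical.choose ψ.2 : ℂ ≃+* ℂ) : ℂ →+* ℂ).comp (algebraMap K ℂ)).toRatAlgHom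
  have hF : ∀ (ψ : galOrb χ) (g : G), F ψ ⟨χ g, hmem g⟩ = (ψ : G → ℂ) g := by
    intro ψ g
    have h := Classical.choose_spec ψ.2
    have h2 := congrFun h g
    rw [h2]
    rfl
  apply Nat.card_le_card_of_injective F
  intro ψ ψ' h
  apply Subtype.ext
  funext g
  rw [← hF ψ g, ← hF ψ' g, h]

end Orbit


section Ind

variable {G : Type u} [Group G] [Fintype G]

theorem ringEquiv_ebz (H : Subgroup G) (θ : H → ℂ) (τ : ℂ ≃+* ℂ) (g : G) :
    τ (extendByZero H θ g) = extendByZero H (fun h => τ (θ h)) g := by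
  by_cases hg : g ∈ H
  · rw [ebz_mem H _ hg, ebz_mem H _ hg]
  · rw [ebz_not_mem H _ hg, ebz_not_mem H _ hg, map_zero]

/-- induction commutes with field automorphisms -/
theorem ringEquiv_indFun (H : Subgroup G) (θ : H → ℂ) (τ : ℂ ≃+* ℂ) :
    (fun g => τ (indFun H θ g)) = indFun H (fun h => τ (θ h)) := by
  funext g
  rw [indFun_def, indFun_def, map_mul, map_inv₀, map_natCast, map_sum]
  congr 1
  apply Finset.sum_congr rfl
  intro x _
  exact ringEquiv_ebz H θ τ _

end Ind

end Cfsg.Agent.Helper29.SchurP
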