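import Mathlib
import Cfsg.Agent.Helper29.SchurPA
import Cfsg.Agent.Helper12.ExtraspecialInd

set_option autoImplicit false

/-!
Base case of the refined Schur bound: faithful linear characters of cyclic `p`-groups.
-/

namespace Cfsg.Agent.Helper29.SchurP

open Cfsg Cfsg.Agent.Helper24 Cfsg.Agent.Helper8 Cfsg.Agent.Helper23

universe u

theorem base_case (p : ℕ) [hp : Fact p.Prime] {P : Type u} [Group P] [Finite P] (a : ℕ)
    (hP : Nat.card P = p ^ a) (ha : 0 < a) (χ : P → ℂ) (hχ : IsCharacter P χ) (h1 : χ 1 = 1)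
    (hfaith : ∀ g : P, χ g = χ 1 → g = 1) (hfin : (galOrb χ).Finite) :
    (p - 1) * p ^ (a - 1) ≤ (galOrb χ).ncard := by
  classical
  obtain ⟨φ, hφ⟩ := Cfsg.Agent.Helper12.exists_monoidHom_of_isCharacter_one hχ h1
  have hne : ∀ g : P, φ g ≠ 0 := by
    intro g h
    have : φ g * φ g⁻¹ = 1 := by rw [← map_mul, mul_inv_cancel, map_one]
    rw [h, zero_mul] at this
    exact zero_ne_one this
  have hinj : Function.Injective φ := by
    intro g g' h
    have h2 : φ (g⁻¹ * g') = 1 := by
      have : φ g * φ (g⁻¹ * g') = φ g * 1 := by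
        rw [← map_mul, mul_inv_cancel_left, mul_one, h]
      exact mul_left_cancel₀ (hne g) this
    have h3 : g⁻¹ * g' = 1 := by
      apply hfaith
      rw [hφ, hφ, h2, map_one]
    exact inv_mul_eq_one.mp h3
  haveI : IsCyclic P := isCyclic_of_subgroup_isDomain φ hinj
  obtain ⟨x, hx⟩ := IsCyclic.exists_generator (α := P)
  have hox : orderOf x = p ^ a := by
    rw [← hP]
    exact orderOf_eq_card_of_forall_mem_zpowers hx
  set S := (Finset.range (p ^ a)).filter (fun k => (p ^ a).Coprime k) with hS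
  have hScard : S.card = (p - 1) * p ^ (a - 1) := by
    rw [hS, ← Nat.totient_eq_card_coprime, Nat.totient_prime_pow hp.out ha, mul_comm]
  rw [← hScard, Set.ncard_eq_toFinset_card _ hfin]
  apply Finset.card_le_card_of_injOn (fun k => fun g => χ (g ^ k))
  · intro k hk
    rw [Finset.mem_coe, hS, Finset.mem_filter] at hk
    rw [Finset.mem_coe, Set.Finite.mem_toFinset]
    obtain ⟨τ, -, hτ⟩ := exists_complex_aut_char P k (by rw [hP]; exact hk.2.symm)
    refine ⟨τ, ?_⟩
    funext g
    exact (hτ χ hχ g).symm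
  · intro k hk k' hk' h
    rw [Finset.mem_coe, hS, Finset.mem_filter, Finset.mem_range] at hk hk'
    have h2 := congrFun h x
    simp only at h2
    rw [hφ, hφ] at h2
    have h3 : x ^ k = x ^ k' := hinj h2
    rw [pow_eq_pow_iff_modEq, hox] at h3
    exact Nat.ModEq.eq_of_lt_of_lt h3 hk.1 hk'.1

end Cfsg.Agent.Helper29.SchurP
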