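import Mathlib
import Cfsg.Agent.Helper29.SchurPA
import Cfsg.Agent.Helper8.PosDef
import Cfsg.Agent.Helper8.IndTrans
import Cfsg.Agent.Helper5.IndFun
import Cfsg.Agent.Helper24.Induced
import Cfsg.Agent.Helper24.Monomial
import Cfsg.Agent.Helper24.IndMore
import Cfsg.Agent.Helper8.CharComp

set_option autoImplicit false

/-!
A nonlinear irreducible character of a `p`-group is induced from a maximal subgroup.
-/

namespace Cfsg.Agent.Helper29.SchurP

open Cfsg Cfsg.Agent.Helper24 Cfsg.Agent.Helper8 Cfsg.Agent.Helper23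

universe u

section Irr

variable {G : Type u} [Group G] [Fintype G]

/-- if a sum of two characters is irreducible and the first is nonzero, the second vanishes -/
theorem eq_zero_of_add_irr {A B : G → ℂ} (hA : IsCharacter G A) (hB : IsCharacter G B)
    (hirr : IsIrrCharacter G (A + B)) (hA0 : A ≠ 0) : B = 0 := by
  haveI : Fintype (IrrCharacter G) := Fintype.ofFinite _
  have h1 := (isIrrCharacter_iff_classInner_self.mp hirr).2
  rw [Helper24.classInner_add_left, Helper24.classInner_add_right, Helper24.classInner_add_right] at h1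
  obtain ⟨a, ha⟩ := IsCharacter.classInner_nat hA hA
  obtain ⟨b, hb⟩ := IsCharacter.classInner_nat hA hB
  obtain ⟨b', hb'⟩ := IsCharacter.classInner_nat hB hA
  obtain ⟨c, hc⟩ := IsCharacter.classInner_nat hB hB
  rw [ha, hb, hb', hc] at h1
  have h2 : a + b + (b' + c) = 1 := by exact_mod_cast h1
  have ha0 : a ≠ 0 := by
    intro h
    apply hA0
    apply eq_zero_of_classInner_self_eq_zero
    rw [ha, h]; simp
  have hc0 : c = 0 := by omega
  apply eq_zero_of_classInner_self_eq_zero
  rw [hc, hc0]; simp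

omit [Fintype G] in
theorem eq_zero_of_apply_one_eq_zero [Finite G] {A : G → ℂ} (hA : IsCharacter G A) (h : A 1 = 0) :
    A = 0 := by
  obtain ⟨n, ρ, rfl⟩ := hA
  funext g
  have h1 := norm_char_le ρ g
  rw [Representation.char_one] at h
  have h2 : (Module.finrank ℂ (Fin n → ℂ) : ℝ) = 0 := by exact_mod_cast h
  rw [h2] at h1
  exact norm_le_zero_iff.mp h1

/-- if the induced character of a character is irreducible, so is the character -/
theorem irr_of_indFun_irr (H : Subgroup G) {θ : H → ℂ} (hθ : IsCharacter H θ)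
    (hirr : IsIrrCharacter G (indFun H θ)) : IsIrrCharacter H θ := by
  classical
  haveI : Fintype H := Fintype.ofFinite H
  haveI : Fintype (IrrCharacter H) := Fintype.ofFinite _
  haveI : Fintype (IrrCharacter G) := Fintype.ofFinite _
  have hθ0 : θ ≠ 0 := by
    intro h
    rw [h, indFun_zero] at hirr
    exact irr_one_ne_zero ⟨0, hirr⟩ rfl
  obtain ⟨ψ₀, hψ₀⟩ := IsCharacter.exists_irr_constituent hθ hθ0
  obtain ⟨n, hn⟩ := IsCharacter.exists_nat_coeff hθ
  have hn0 : n ψ₀ ≠ 0 := by
    intro h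
    apply hψ₀
    rw [hn, classInner_sum_irr, h]; simp
  let n' : IrrCharacter H → ℕ := fun ψ => if ψ = ψ₀ then n ψ - 1 else n ψ
  set θ' : H → ℂ := ∑ ψ : IrrCharacter H, (n' ψ : ℂ) • (ψ : H → ℂ) with hθ'
  have hθ'c : IsCharacter H θ' := isCharacter_sum_nat_smul n'
  have hsplit : θ = (ψ₀ : H → ℂ) + θ' := by
    rw [hn, hθ']
    have h1 : ∀ ψ : IrrCharacter H, (n ψ : ℂ) • (ψ : H → ℂ) =
        (if ψ = ψ₀ then (ψ₀ : H → ℂ) else 0) + (n' ψ : ℂ) • (ψ : H → ℂ) := by
      intro ψ
      by_cases h : ψ = ψ₀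
      · subst h
        simp only [if_true, n']
        have : (n ψ : ℂ) = 1 + ((n ψ - 1 : ℕ) : ℂ) := by
          have : 1 ≤ n ψ := Nat.one_le_iff_ne_zero.mpr hn0
          push_cast [Nat.cast_sub this]
          ring
        rw [this, add_smul, one_smul]
      · simp only [if_neg h, n', zero_add]
    rw [Finset.sum_congr rfl (fun ψ _ => h1 ψ), Finset.sum_add_distrib]
    congr 1
    simp
  have hind : indFun H θ = indFun H (ψ₀ : H → ℂ) + indFun H θ' := by
    rw [hsplit, indFun_add]
  have hA : IsCharacter G (indFun H (ψ₀ : H → ℂ)) :=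
    isCharacter_indFun H (IsIrrCharacter.isCharacter ψ₀.2)
  have hB : IsCharacter G (indFun H θ') := isCharacter_indFun H hθ'c
  have hA0 : indFun H (ψ₀ : H → ℂ) ≠ 0 := by
    intro h
    have h1 := congrFun h 1
    rw [Cfsg.Agent.Helper5.indFun_apply_one] at h1
    simp only [Pi.zero_apply, mul_eq_zero] at h1
    rcases h1 with h1 | h1
    · have : H.index ≠ 0 := Subgroup.index_ne_zero_of_finite
      exact this (by exact_mod_cast h1)
    · exact irr_one_ne_zero ψ₀ h1
  rw [hind] at hirr
  have hB0 := eq_zero_of_add_irr hA hB hirr hA0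
  have hθ'1 : θ' 1 = 0 := by
    have h1 := congrFun hB0 1
    rw [Cfsg.Agent.Helper5.indFun_apply_one] at h1
    simp only [Pi.zero_apply, mul_eq_zero] at h1
    rcases h1 with h1 | h1
    · have : H.index ≠ 0 := Subgroup.index_ne_zero_of_finite
      exact absurd (by exact_mod_cast h1) this
    · exact h1
  have hθ'0 : θ' = 0 := eq_zero_of_apply_one_eq_zero hθ'c hθ'1
  rw [hsplit, hθ'0, add_zero]
  exact ψ₀.2

end Irr


section Max

/-- a nonlinear irreducible character of a `p`-group is induced from a normal subgroup of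
index `p` -/
theorem exists_max_ind (p : ℕ) [hp : Fact p.Prime] {P : Type u} [Group P] [Fintype P] (a : ℕ)
    (hP : Nat.card P = p ^ a) (χ : P → ℂ) (hχ : IsIrrCharacter P χ) (hdeg : χ 1 ≠ 1) :
    ∃ (M : Subgroup P) (_ : M.Normal) (θ : M → ℂ), M.index = p ∧ IsIrrCharacter M θ ∧
      χ = indFun M θ := by
  classical
  have hPG : IsPGroup p P := IsPGroup.of_card hP
  haveI : Group.IsNilpotent P := hPG.isNilpotent
  obtain ⟨H, lam, hχH⟩ := isMonomial_of_nilpotent_aux (Nat.card P) P rfl χ hχ
  obtain ⟨n, hn⟩ := (hPG.to_subgroup H).exists_card_eq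
  have hidx : H.index ≠ 1 := by
    intro h
    apply hdeg
    rw [hχH, Cfsg.Agent.Helper5.indFun_apply_one, h]
    simp
  have hna : n < a := by
    by_contra hcon
    push Not at hcon
    apply hidx
    have h1 := H.card_mul_index
    rw [hn, hP] at h1
    have h2 : p ^ a ∣ p ^ n := pow_dvd_pow p hcon
    have h3 : p ^ n ∣ p ^ a := Dvd.intro _ h1
    have h4 : p ^ n = p ^ a := Nat.dvd_antisymm h3 h2
    rw [h4] at h1
    have hpos : 0 < p ^ a := pow_pos hp.out.pos a
    exact Nat.eq_of_mul_eq_mul_left hpos (by rw [h1, mul_one])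
  have hdvd : p ^ (a - 1) ∣ Nat.card P := by
    rw [hP]; exact pow_dvd_pow p (Nat.sub_le a 1)
  obtain ⟨M, hMcard, hHM⟩ := Sylow.exists_subgroup_card_pow_prime_le p hdvd H hn (by omega)
  have hMidx : M.index = p := by
    have h1 := M.card_mul_index
    rw [hMcard, hP] at h1
    have h2 : p ^ a = p ^ (a - 1) * p := by
      rw [← pow_succ]; congr 1; omega
    rw [h2] at h1
    have hpos : 0 < p ^ (a - 1) := pow_pos hp.out.pos _
    exact Nat.eq_of_mul_eq_mul_left hpos h1
  have hMn : M.Normal := by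
    apply Subgroup.normal_of_index_eq_minFac_card
    rw [hMidx, hP, Nat.Prime.pow_minFac hp.out (by omega)]
  haveI : Fintype M := Fintype.ofFinite M
  set θ : M → ℂ := indFun (H.subgroupOf M) (toSubgroupOf H M (fun h => (lam h : ℂ))) with hθ
  have htrans : indFun M θ = χ := by
    rw [hθ, indFun_trans H M hHM, hχH]
  have hlamc : IsCharacter (H.subgroupOf M) (toSubgroupOf H M (fun h => (lam h : ℂ))) := by
    let φ : H →* ℂ := (Units.coeHom ℂ).comp lam
    have h1 : IsCharacter H (fun h => (lam h : ℂ)) := isCharacter_of_monoidHom φ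
    exact isCharacter_comp (Subgroup.subgroupOfEquivOfLe hHM).toMonoidHom h1
  have hθc : IsCharacter M θ := isCharacter_indFun _ hlamc
  refine ⟨M, hMn, θ, hMidx, ?_, htrans.symm⟩
  apply irr_of_indFun_irr M hθc
  rw [htrans]
  exact hχ

end Max

end Cfsg.Agent.Helper29.SchurP
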