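import Mathlib
import Cfsg.Agent.Helper29.SchurPA
import Cfsg.Agent.Helper24.InducedNormal
import Cfsg.Agent.Helper5.CharKer

set_option autoImplicit false

/-!
Galois orbits and induction from a normal subgroup of prime index.
-/

namespace Cfsg.Agent.Helper29.SchurP

open Cfsg Cfsg.Agent.Helper24 Cfsg.Agent.Helper8 Cfsg.Agent.Helper23

universe u

section Conj

variable {L : Type u} [Group L] [Fintype L] (K : Subgroup L) [hK : K.Normal]

/-- irreducible characters of a normal subgroup inducing the same function are conjugate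
(as in `Helper8.exists_conj_of_indFun_eq`, restated with light imports) -/
theorem exists_conj_of_indFun_eq' {θ θ' : K → ℂ} (hθ : IsIrrCharacter K θ)
    (hθ' : IsIrrCharacter K θ') (h : indFun K θ = indFun K θ') :
    ∃ x : L, θ = conjFun K θ' x := by
  classical
  haveI : Fintype K := Fintype.ofFinite K
  by_contra hcon
  push Not at hcon
  have h1 := classInner_indFun_indFun_normal K θ θ'
  have h2 : ∀ x : L, classInner θ (conjFun K θ' x) = 0 := by
    intro x
    rw [classInner_of_isIrrCharacter hθ (isIrrCharacter_conjFun K hθ' x), if_neg (hcon x)]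
  rw [Finset.sum_congr rfl (fun x _ => h2 x), Finset.sum_const_zero, mul_zero, ← h] at h1
  have h3 := card_mul_classInner_indFun_self K θ hθ
  rw [h1, mul_zero] at h3
  have hne : Nonempty {g : L // ∀ h : K, θ ⟨g * h * g⁻¹, hK.conj_mem h h.2 g⟩ = θ h} := by
    refine ⟨⟨1, ?_⟩⟩
    intro k
    have e : (⟨1 * (k : L) * 1⁻¹, hK.conj_mem k k.2 1⟩ : K) = k := Subtype.ext (by simp)
    rw [e]
  have h4 : (Nat.card {g : L // ∀ h : K, θ ⟨g * h * g⁻¹, hK.conj_mem h h.2 g⟩ = θ h} : ℂ) ≠ 0 :=
    Nat.cast_ne_zero.mpr Nat.card_pos.ne'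
  exact h4 h3.symm

omit [Fintype L] in
/-- conjugating by an element of the subgroup does not change a class function -/
theorem conjFun_mul_mem {ψ : K → ℂ} (hψ : IsClassFunction K ψ) (y : L) (m : K) :
    conjFun K ψ (y * (m : L)) = conjFun K ψ y := by
  funext h
  rw [conjFun_apply, conjFun_apply]
  have h1 := hψ ⟨y * (h : L) * y⁻¹, hK.conj_mem h h.2 y⟩ ⟨y * (m : L) * y⁻¹, hK.conj_mem m m.2 y⟩
  rw [← h1]
  congr 1
  apply Subtype.ext
  simp only [Subgroup.coe_mul, Subgroup.coe_inv]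
  group

omit [Fintype L] in
theorem conjFun_mem_mul {ψ : K → ℂ} (hψ : IsClassFunction K ψ) (y : L) (m : K) :
    conjFun K ψ ((m : L) * y) = conjFun K ψ y := by
  funext h
  rw [conjFun_apply, conjFun_apply]
  have h1 := hψ ⟨y * (h : L) * y⁻¹, hK.conj_mem h h.2 y⟩ m
  rw [← h1]
  congr 1
  apply Subtype.ext
  simp only [Subgroup.coe_mul, Subgroup.coe_inv]
  group

omit [Fintype L] in
theorem conjFun_out {ψ : K → ℂ} (hψ : IsClassFunction K ψ) (y : L) :
    conjFun K ψ ((QuotientGroup.mk y : L ⧸ K).out) = conjFun K ψ y := by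
  obtain ⟨m, hm⟩ := QuotientGroup.mk_out_eq_mul K y
  rw [hm, conjFun_mul_mem K hψ]

end Conj


section OrbitInd

variable {L : Type u} [Group L] [Fintype L] (K : Subgroup L) [hK : K.Normal]

theorem indFun_mem_galOrb {θ ψ : K → ℂ} (hψ : ψ ∈ galOrb θ) :
    indFun K ψ ∈ galOrb (indFun K θ) := by
  obtain ⟨τ, rfl⟩ := hψ
  exact ⟨τ, (ringEquiv_indFun K θ τ).symm⟩

/-- the Galois orbit of `θ` is at most `|L : K|` times larger than that of `θ^L` -/
theorem galOrb_ncard_le_mul {θ : K → ℂ} (hθ : IsIrrCharacter K θ)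
    (hirr : IsIrrCharacter L (indFun K θ)) :
    (galOrb θ).ncard ≤ K.index * (galOrb (indFun K θ)).ncard := by
  classical
  have hf1 := galOrb_finite hθ
  have hf2 := galOrb_finite hirr
  rw [Set.ncard_eq_toFinset_card _ hf1, Set.ncard_eq_toFinset_card _ hf2]
  have h1 : hf1.toFinset.card ≤ K.index * (hf1.toFinset.image (indFun K)).card := by
    apply Finset.card_le_mul_card_image
    intro χ' hχ'
    rw [Finset.mem_image] at hχ'
    obtain ⟨ψ₁, hψ₁, rfl⟩ := hχ'
    rw [Set.Finite.mem_toFinset] at hψ₁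
    have hψ₁i : IsIrrCharacter K ψ₁ := galOrb_subset_irr hθ hψ₁
    have hcf : IsClassFunction K ψ₁ := IsCharacter.isClassFunction (IsIrrCharacter.isCharacter hψ₁i)
    have hsub : hf1.toFinset.filter (fun x => indFun K x = indFun K ψ₁) ⊆
        Finset.univ.image (fun q : L ⧸ K => conjFun K ψ₁ q.out) := by
      intro ψ hψ
      rw [Finset.mem_filter, Set.Finite.mem_toFinset] at hψ
      have hψi : IsIrrCharacter K ψ := galOrb_subset_irr hθ hψ.1
      obtain ⟨x, hx⟩ := exists_conj_of_indFun_eq' K hψi hψ₁i hψ.2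
      rw [Finset.mem_image]
      refine ⟨QuotientGroup.mk x, Finset.mem_univ _, ?_⟩
      rw [conjFun_out K hcf, hx]
    calc (hf1.toFinset.filter (fun x => indFun K x = indFun K ψ₁)).card
        ≤ (Finset.univ.image (fun q : L ⧸ K => conjFun K ψ₁ q.out)).card :=
          Finset.card_le_card hsub
      _ ≤ (Finset.univ : Finset (L ⧸ K)).card := Finset.card_image_le
      _ = K.index := by
          rw [Finset.card_univ, Subgroup.index, Nat.card_eq_fintype_card]
  refine le_trans h1 (Nat.mul_le_mul_left _ (Finset.card_le_card ?_))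
  intro χ' hχ'
  rw [Finset.mem_image] at hχ'
  obtain ⟨ψ, hψ, rfl⟩ := hχ'
  rw [Set.Finite.mem_toFinset] at hψ ⊢
  exact indFun_mem_galOrb K hψ

/-- if every automorphism fixing `θ^L` fixes `θ`, the orbit of `θ` is not larger -/
theorem galOrb_ncard_le_of_fix {θ : K → ℂ} (hθ : IsIrrCharacter K θ)
    (hirr : IsIrrCharacter L (indFun K θ))
    (hfix : ∀ τ : ℂ ≃+* ℂ, (fun g => τ (indFun K θ g)) = indFun K θ → (fun h => τ (θ h)) = θ) :
    (galOrb θ).ncard ≤ (galOrb (indFun K θ)).ncard := by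
  classical
  have hf1 := galOrb_finite hθ
  have hf2 := galOrb_finite hirr
  apply Set.ncard_le_ncard_of_injOn (indFun K) _ _ hf2
  · intro ψ hψ
    exact indFun_mem_galOrb K hψ
  · rintro ψ ⟨τ₁, rfl⟩ ψ' ⟨τ₂, rfl⟩ h
    rw [← ringEquiv_indFun, ← ringEquiv_indFun] at h
    have h2 : (fun g => (τ₂.trans τ₁.symm) (indFun K θ g)) = indFun K θ := by
      funext g
      have h3 := congrFun h g
      rw [RingEquiv.trans_apply, ← h3, RingEquiv.symm_apply_apply]
    have h4 := hfix _ h2
    funext k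
    have h5 := congrFun h4 k
    rw [RingEquiv.trans_apply, RingEquiv.symm_apply_eq] at h5
    exact h5.symm

end OrbitInd


section Kernel

variable {L : Type u} [Group L] [Fintype L] (K : Subgroup L) [hK : K.Normal]

/-- an element of `K` all of whose conjugates lie in the kernel of `θ` lies in the kernel of
`θ^L` -/
theorem eq_one_of_forall_conj {θ : K → ℂ}
    (hfaith : ∀ g : L, indFun K θ g = indFun K θ 1 → g = 1) (z : K)
    (hz : ∀ x : L, θ ⟨x * (z : L) * x⁻¹, hK.conj_mem z z.2 x⟩ = θ 1) : z = 1 := by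
  have h1 := indFun_normal_apply K θ z
  have h2 : indFun K θ (1 : L) = (Nat.card K : ℂ)⁻¹ *
      ∑ x : L, θ ⟨x * ((1 : K) : L) * x⁻¹, hK.conj_mem _ (1 : K).2 x⟩ :=
    indFun_normal_apply K θ 1
  have h3 : ∀ x : L, θ ⟨x * ((1 : K) : L) * x⁻¹, hK.conj_mem _ (1 : K).2 x⟩ = θ 1 := by
    intro x
    have e : (⟨x * ((1 : K) : L) * x⁻¹, hK.conj_mem _ (1 : K).2 x⟩ : K) = 1 :=
      Subtype.ext (by simp)
    rw [e]
  rw [Finset.sum_congr rfl (fun x _ => hz x)] at h1
  rw [Finset.sum_congr rfl (fun x _ => h3 x)] at h2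
  have h4 : (z : L) = 1 := hfaith _ (h1.trans h2.symm)
  exact Subtype.ext h4

/-- `K` embeds in a product of `|L : K|` copies of `K ⧸ N`, `N` the kernel of `θ` -/
theorem card_le_pow_of_faithful {θ : K → ℂ} (hθ : IsClassFunction K θ)
    (hfaith : ∀ g : L, indFun K θ g = indFun K θ 1 → g = 1) (N : Subgroup K) [hN : N.Normal]
    (hmem : ∀ m : K, m ∈ N ↔ θ m = θ 1) :
    Nat.card K ≤ Nat.card (K ⧸ N) ^ K.index := by
  classical
  let c : L → K → K := fun x m => ⟨x * (m : L) * x⁻¹, hK.conj_mem m m.2 x⟩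
  have hc_mul : ∀ x m m', c x (m * m') = c x m * c x m' := by
    intro x m m'
    apply Subtype.ext
    simp only [c, Subgroup.coe_mul]
    group
  have hc_inv : ∀ x m, c x m⁻¹ = (c x m)⁻¹ := by
    intro x m
    apply Subtype.ext
    simp only [c, Subgroup.coe_inv]
    group
  let F : K → (L ⧸ K → K ⧸ N) := fun m q => QuotientGroup.mk (c q.out m)
  have hF : Function.Injective F := by
    intro m m' h
    have hz : ∀ q : L ⧸ K, θ (c q.out (m⁻¹ * m')) = θ 1 := by
      intro q
      have h1 := congrFun h q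
      simp only [F] at h1
      rw [QuotientGroup.eq] at h1
      rw [hc_mul, hc_inv]
      exact (hmem _).mp h1
    have hz' : ∀ x : L, θ (c x (m⁻¹ * m')) = θ 1 := by
      intro x
      obtain ⟨k, hk⟩ := QuotientGroup.mk_out_eq_mul K x
      have hk' : x * ((QuotientGroup.mk x : L ⧸ K).out)⁻¹ ∈ K := by
        have h1 : x * ((QuotientGroup.mk x : L ⧸ K).out)⁻¹ = x * ((k⁻¹ : K) : L) * x⁻¹ := by
          rw [hk]; simp [mul_assoc]
        rw [h1]
        exact hK.conj_mem _ (k⁻¹).2 x
      rw [← hz (QuotientGroup.mk x)]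
      have e : c x (m⁻¹ * m') =
          ⟨_, hk'⟩ * c (QuotientGroup.mk x : L ⧸ K).out (m⁻¹ * m') * ⟨_, hk'⟩⁻¹ := by
        apply Subtype.ext
        simp only [c, Subgroup.coe_mul, Subgroup.coe_inv]
        group
      rw [e]
      exact hθ _ _
    have h5 := eq_one_of_forall_conj K hfaith (m⁻¹ * m') hz'
    exact inv_mul_eq_one.mp h5
  have h1 := Nat.card_le_card_of_injective F hF
  rw [Nat.card_fun] at h1
  exact h1

end Kernel


section Faithful

variable {L : Type u} [Group L] [Fintype L] (K : Subgroup L) [hK : K.Normal]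

omit [Fintype L] in
theorem conjFun_of_mem {θ : K → ℂ} (hθ : IsClassFunction K θ) (y : L) (hy : y ∈ K) :
    conjFun K θ y = θ := by
  funext h
  rw [conjFun_apply]
  have h1 := hθ h ⟨y, hy⟩
  rw [← h1]
  congr 1

/-- if a Galois conjugate of `θ` is a conjugate of `θ` different from `θ`, and `θ^L` is faithful
with `|L : K|` prime, then `θ` is faithful -/
theorem faithful_of_galois_conj {p : ℕ} (hp : p.Prime) (hidx : K.index = p) {θ : K → ℂ}
    (hθ : IsIrrCharacter K θ)
    (hfaith : ∀ g : L, indFun K θ g = indFun K θ 1 → g = 1) (τ : ℂ ≃+* ℂ) (y : L)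
    (hy : (fun h => τ (θ h)) = conjFun K θ y) (hne : (fun h => τ (θ h)) ≠ θ) :
    ∀ m : K, θ m = θ 1 → m = 1 := by
  classical
  have hcf : IsClassFunction K θ := IsCharacter.isClassFunction (IsIrrCharacter.isCharacter hθ)
  let θ' : IrrCharacter K := ⟨θ, hθ⟩
  set N' : Subgroup L := (Cfsg.Agent.Helper5.charKer θ').map K.subtype with hN'
  have memN' : ∀ x : L, x ∈ N' ↔ ∃ h : x ∈ K, θ ⟨x, h⟩ = θ 1 := by
    intro x
    rw [hN', Subgroup.mem_map]
    constructor
    · rintro ⟨n, hn, rfl⟩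
      exact ⟨n.2, (Cfsg.Agent.Helper5.mem_charKer θ' n).mp hn⟩
    · rintro ⟨h, hx⟩
      exact ⟨⟨x, h⟩, (Cfsg.Agent.Helper5.mem_charKer θ' _).mpr hx, rfl⟩
  have hτ1 : τ (θ 1) = θ 1 := by
    have h1 := congrFun hy 1
    rw [conjFun_apply] at h1
    rw [h1]
    congr 1
    apply Subtype.ext
    simp
  have hyS : y ∈ Subgroup.normalizer (N' : Set L) := by
    rw [Subgroup.mem_normalizer_iff]
    intro n
    rw [memN', memN']
    constructor
    · rintro ⟨hn, h1⟩
      refine ⟨hK.conj_mem n hn y, ?_⟩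
      have h2 := congrFun hy ⟨n, hn⟩
      rw [conjFun_apply] at h2
      rw [← h2, h1, hτ1]
    · rintro ⟨hn', h1⟩
      have hn : n ∈ K := by
        have := hK.conj_mem _ hn' y⁻¹
        simpa [mul_assoc] using this
      refine ⟨hn, ?_⟩
      have h2 := congrFun hy ⟨n, hn⟩
      rw [conjFun_apply] at h2
      have h3 : τ (θ ⟨n, hn⟩) = τ (θ 1) := by
        rw [h2, hτ1]
        exact h1
      exact τ.injective h3
  have hKS : K ≤ Subgroup.normalizer (N' : Set L) := by
    intro k hk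
    rw [Subgroup.mem_normalizer_iff]
    intro n
    rw [memN', memN']
    constructor
    · rintro ⟨hn, h1⟩
      refine ⟨hK.conj_mem n hn k, ?_⟩
      rw [← h1, ← hcf ⟨n, hn⟩ ⟨k, hk⟩]
      congr 1
    · rintro ⟨hn', h1⟩
      have hn : n ∈ K := by
        have := hK.conj_mem _ hn' k⁻¹
        simpa [mul_assoc] using this
      refine ⟨hn, ?_⟩
      rw [← h1, ← hcf ⟨n, hn⟩ ⟨k, hk⟩]
      congr 1
  have hyK : y ∉ K := by
    intro h
    apply hne
    rw [hy, conjFun_of_mem K hcf y h]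
  have hStop : Subgroup.normalizer (N' : Set L) = ⊤ := by
    have h1 := Subgroup.relIndex_mul_index hKS
    rw [hidx] at h1
    have h2 : (Subgroup.normalizer (N' : Set L)).index ∣ p := Dvd.intro_left _ h1
    rcases (Nat.dvd_prime hp).mp h2 with h3 | h3
    · exact Subgroup.index_eq_one.mp h3
    · exfalso
      rw [h3] at h1
      have h4 : K.relIndex (Subgroup.normalizer (N' : Set L)) = 1 := by
        have hp0 : 0 < p := hp.pos
        exact Nat.eq_of_mul_eq_mul_right hp0 (by rw [h1, one_mul])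
      exact hyK (Subgroup.relIndex_eq_one.mp h4 hyS)
  intro m hm
  apply eq_one_of_forall_conj K hfaith m
  intro x
  have hx : x ∈ Subgroup.normalizer (N' : Set L) := by rw [hStop]; trivial
  have h1 := ((Subgroup.mem_normalizer_iff.mp hx) (m : L)).mp ((memN' _).mpr ⟨m.2, hm⟩)
  obtain ⟨h', h2⟩ := (memN' _).mp h1
  exact h2

end Faithful

end Cfsg.Agent.Helper29.SchurP
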