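import Mathlib
import Cfsg.Agent.Helper29.SchurPA
import Cfsg.Agent.Helper29.SchurPB
import Cfsg.Agent.Helper29.SchurPC
import Cfsg.Agent.Helper29.SchurPD
import Cfsg.Agent.Helper8.CharComp
import Cfsg.Agent.Helper24.Regular
import Cfsg.Prelude.Def_Blocks

set_option autoImplicit false

/-!
The refined Schur bound for faithful irreducible characters of `p`-groups (S4489).
-/

namespace Cfsg.Agent.Helper29.SchurP

open Cfsg Cfsg.Agent.Helper24 Cfsg.Agent.Helper8 Cfsg.Agent.Helper23

universe u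

/-- An irreducible character with `N` in its kernel comes from `G ⧸ N`
(as `Helper23.PB.exists_irr_quotient`, restated here with light imports). -/
theorem exists_irr_quot {G : Type*} [Group G] [Finite G] (N : Subgroup G) [hN : N.Normal]
    (χ : IrrCharacter G) (h : ∀ n ∈ N, (χ : G → ℂ) n = (χ : G → ℂ) 1) :
    ∃ ψ : IrrCharacter (G ⧸ N),
      ∀ g : G, (ψ : G ⧸ N → ℂ) (QuotientGroup.mk' N g) = (χ : G → ℂ) g := by
  obtain ⟨m, ρ, hρ, hχ⟩ := χ.2
  have hker : N ≤ MonoidHom.ker ρ := by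
    intro n hn
    rw [MonoidHom.mem_ker]
    have h1 := h n hn
    rw [← hχ, Representation.char_one] at h1
    have := (char_eq_finrank_iff ρ n).mp h1
    rw [this]; rfl
  let ρ' : Representation ℂ (G ⧸ N) (Fin m → ℂ) := QuotientGroup.lift N ρ hker
  have hcomp : (MonoidHom.comp ρ' (QuotientGroup.mk' N) :
      Representation ℂ G (Fin m → ℂ)) = ρ := by
    ext g v
    rfl
  have hρ' : ρ'.IsIrreducible := by
    have h1 : Representation.IsIrreducible (MonoidHom.comp ρ'
        (QuotientGroup.mk' N) : Representation ℂ G (Fin m → ℂ)) := by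
      rw [hcomp]; exact hρ
    exact (OrderIso.isSimpleOrder_iff (Helper8.subrepCompOrderIso ρ'
      (QuotientGroup.mk' N) (QuotientGroup.mk'_surjective _))).mpr h1
  refine ⟨⟨ρ'.character, m, ρ', hρ', rfl⟩, ?_⟩
  intro g
  rw [← hχ]
  rfl

theorem arith_case2 (p a a1 g t : ℕ) (hp : 2 ≤ p) (hg : 1 ≤ g)
    (h1 : (p - 1) * a1 ≤ (g - 1) + (p - 1) * (t + 1) * g) (h2 : a - 1 ≤ a1 * p) :
    (p - 1) * a ≤ (p * g - 1) + (p - 1) * (t + 1) * (p * g) := by
  obtain ⟨q, rfl⟩ : ∃ q, p = q + 1 := ⟨p - 1, by omega⟩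
  obtain ⟨g', rfl⟩ : ∃ g', g = g' + 1 := ⟨g - 1, by omega⟩
  simp only [Nat.add_sub_cancel] at h1 ⊢
  have h3 : (q + 1) * (g' + 1) - 1 = q * g' + q + g' := by
    have : (q + 1) * (g' + 1) = q * g' + q + g' + 1 := by ring
    omega
  rw [h3]
  have h2' : a ≤ a1 * (q + 1) + 1 := by omega
  have h4 := Nat.mul_le_mul_left q h2'
  have h5 := Nat.mul_le_mul_left (q + 1) h1
  nlinarith [h4, h5]

theorem arith_case1 (p a g t : ℕ) (hp : 2 ≤ p) (hg : 1 ≤ g)
    (h1 : (p - 1) * (a - 1) ≤ (g - 1) + (p - 1) * (t + 1 + 1) * g) :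
    (p - 1) * a ≤ (p * g - 1) + (p - 1) * (t + 1) * (p * g) := by
  obtain ⟨q, rfl⟩ : ∃ q, p = q + 1 := ⟨p - 1, by omega⟩
  obtain ⟨g', rfl⟩ : ∃ g', g = g' + 1 := ⟨g - 1, by omega⟩
  simp only [Nat.add_sub_cancel] at h1 ⊢
  have h3 : (q + 1) * (g' + 1) - 1 = q * g' + q + g' := by
    have : (q + 1) * (g' + 1) = q * g' + q + g' + 1 := by ring
    omega
  rw [h3]
  have hq : 1 ≤ q := by omega
  have h4 : q * a ≤ q * (a - 1) + q := by
    rcases Nat.eq_zero_or_pos a with h | h
    · subst h; simp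
    · have : a = (a - 1) + 1 := by omega
      apply le_of_eq
      calc q * a = q * ((a - 1) + 1) := by rw [← this]
        _ = q * (a - 1) + q := by ring
  have h5 : q * (t + 1 + 1) * (g' + 1) ≤ q * g' + q * (t + 1) * ((q + 1) * (g' + 1)) := by
    have : (t + 1 + 1) * (g' + 1) ≤ g' + (t + 1) * ((q + 1) * (g' + 1)) := by
      have h6 : (t + 1) * (2 * (g' + 1)) ≤ (t + 1) * ((q + 1) * (g' + 1)) := by
        apply Nat.mul_le_mul_left
        apply Nat.mul_le_mul_right
        omega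
      nlinarith [h6]
    calc q * (t + 1 + 1) * (g' + 1) = q * ((t + 1 + 1) * (g' + 1)) := by ring
      _ ≤ q * (g' + (t + 1) * ((q + 1) * (g' + 1))) := Nat.mul_le_mul_left _ this
      _ = q * g' + q * (t + 1) * ((q + 1) * (g' + 1)) := by ring
  linarith [h4, h5, h1]


/-- the orbit of a character of a quotient is not larger than that of its inflation -/
theorem galOrb_ncard_quot_le {G : Type u} [Group G] [Finite G] (N : Subgroup G) [N.Normal]
    (θ : G → ℂ) (hθ : IsIrrCharacter G θ) (ψ : G ⧸ N → ℂ)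
    (h : ∀ g : G, ψ (QuotientGroup.mk' N g) = θ g) :
    (galOrb ψ).ncard ≤ (galOrb θ).ncard := by
  apply Set.ncard_le_ncard_of_injOn (fun φ : G ⧸ N → ℂ => fun g => φ (QuotientGroup.mk' N g)) _ _
    (galOrb_finite hθ)
  · rintro φ ⟨τ, rfl⟩
    refine ⟨τ, ?_⟩
    funext g
    simp only
    rw [h]
  · intro φ _ φ' _ hφ
    funext q
    obtain ⟨g, rfl⟩ := QuotientGroup.mk'_surjective N q
    exact congrFun hφ g

theorem schur_pgroup (p : ℕ) [hp : Fact p.Prime] : ∀ (a : ℕ) (P : Type u) [Group P] [Finite P],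
    Nat.card P = p ^ a → 0 < a → ∀ (χ : P → ℂ), IsIrrCharacter P χ →
    (∀ g : P, χ g = χ 1 → g = 1) →
    ∀ (f t : ℕ), χ 1 = (f : ℂ) → (galOrb χ).ncard ≤ (p - 1) * p ^ t →
      (p - 1) * a ≤ (f - 1) + (p - 1) * (t + 1) * f := by
  intro a
  induction a using Nat.strong_induction_on with
  | _ a ih =>
  intro P _ _ hP ha χ hχ hfaith f t hf horb
  classical
  haveI : Fintype P := Fintype.ofFinite P
  have hp2 : 2 ≤ p := hp.out.two_le
  by_cases hf1 : f = 1
  · subst hf1
    have h1 := base_case p a hP ha χ (IsIrrCharacter.isCharacter hχ) (by simpa using hf) hfaith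
      (galOrb_finite hχ)
    have h2 : (p - 1) * p ^ (a - 1) ≤ (p - 1) * p ^ t := le_trans h1 horb
    have hp1 : 0 < p - 1 := by omega
    have h3 : p ^ (a - 1) ≤ p ^ t := Nat.le_of_mul_le_mul_left h2 hp1
    have h4 : a - 1 ≤ t := (Nat.pow_le_pow_iff_right hp.out.one_lt).mp h3
    have h5 : a ≤ t + 1 := by omega
    calc (p - 1) * a ≤ (p - 1) * (t + 1) := Nat.mul_le_mul_left _ h5
      _ = (1 - 1) + (p - 1) * (t + 1) * 1 := by simp
  · obtain ⟨M, hMn, θ, hMidx, hθ, hχθ⟩ := exists_max_ind p a hP χ hχ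
      (by rw [hf]; exact_mod_cast hf1)
    subst hχθ
    haveI := hMn
    obtain ⟨g, hgpos, hg⟩ := isIrrCharacter_one hθ
    have hfg : f = p * g := by
      rw [Cfsg.Agent.Helper5.indFun_apply_one, hMidx, hg] at hf
      exact_mod_cast hf.symm
    have hMcard : Nat.card M = p ^ (a - 1) := by
      have h1 := M.card_mul_index
      rw [hMidx, hP] at h1
      have h2 : p ^ a = p ^ (a - 1) * p := by
        rw [← pow_succ]; congr 1; omega
      rw [h2] at h1
      exact Nat.eq_of_mul_eq_mul_right hp.out.pos h1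
    subst hfg
    by_cases hfix : ∀ τ : ℂ ≃+* ℂ, (fun x => τ (indFun M θ x)) = indFun M θ →
        (fun h => τ (θ h)) = θ
    · -- case 2
      have horbθ : (galOrb θ).ncard ≤ (p - 1) * p ^ t :=
        le_trans (galOrb_ncard_le_of_fix M hθ hχ hfix) horb
      let θ' : IrrCharacter M := ⟨θ, hθ⟩
      set N := Cfsg.Agent.Helper5.charKer θ' with hN
      obtain ⟨θq, hθq⟩ := exists_irr_quot N θ' (fun n hn =>
        (Cfsg.Agent.Helper5.mem_charKer θ' n).mp hn)
      obtain ⟨a1, ha1le, ha1⟩ := (Nat.dvd_prime_pow hp.out).mp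
        (hMcard ▸ Subgroup.card_quotient_dvd_card N)
      have hkey : (p - 1) * a1 ≤ (g - 1) + (p - 1) * (t + 1) * g := by
        rcases Nat.eq_zero_or_pos a1 with h0 | hpos
        · rw [h0]; simp
        · apply ih a1 (by omega) (M ⧸ N) ha1 hpos (θq : M ⧸ N → ℂ) θq.2 _ g t _ _
          · intro q hq
            obtain ⟨m, rfl⟩ := QuotientGroup.mk'_surjective N q
            have h1 : (θq : M ⧸ N → ℂ) 1 = θ 1 := by
              have h0 := hθq 1
              rw [map_one] at h0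
              exact h0
            rw [hθq, h1] at hq
            exact (QuotientGroup.eq_one_iff m).mpr ((Cfsg.Agent.Helper5.mem_charKer θ' m).mpr hq)
          · have h0 := hθq 1
            rw [map_one] at h0
            rw [h0]
            exact hg
          · exact le_trans (galOrb_ncard_quot_le N θ hθ _ hθq) horbθ
      have hcard := card_le_pow_of_faithful M
        (IsCharacter.isClassFunction (IsIrrCharacter.isCharacter hθ)) hfaith N
        (fun m => Cfsg.Agent.Helper5.mem_charKer θ' m)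
      rw [hMcard, ha1, hMidx, ← pow_mul] at hcard
      have h2 : a - 1 ≤ a1 * p := (Nat.pow_le_pow_iff_right hp.out.one_lt).mp hcard
      exact arith_case2 p a a1 g t hp2 hgpos hkey h2
    · -- case 1
      push Not at hfix
      obtain ⟨τ, hτχ, hτθ⟩ := hfix
      have hτirr : IsIrrCharacter M (fun h => τ (θ h)) := isIrrCharacter_ringEquiv_comp τ hθ
      have hind : indFun M (fun h => τ (θ h)) = indFun M θ := by
        rw [← ringEquiv_indFun, hτχ]
      obtain ⟨y, hy⟩ := exists_conj_of_indFun_eq' M hτirr hθ hind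
      have hθfaith := faithful_of_galois_conj M hp.out hMidx hθ hfaith τ y hy hτθ
      have horbθ : (galOrb θ).ncard ≤ (p - 1) * p ^ (t + 1) := by
        have h1 := galOrb_ncard_le_mul M hθ hχ
        rw [hMidx] at h1
        calc (galOrb θ).ncard ≤ p * (galOrb (indFun M θ)).ncard := h1
          _ ≤ p * ((p - 1) * p ^ t) := Nat.mul_le_mul_left _ horb
          _ = (p - 1) * p ^ (t + 1) := by ring
      have hkey : (p - 1) * (a - 1) ≤ (g - 1) + (p - 1) * (t + 1 + 1) * g := by
        rcases Nat.eq_zero_or_pos (a - 1) with h0 | hpos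
        · rw [h0]; simp
        · exact ih (a - 1) (by omega) M hMcard hpos θ hθ hθfaith g (t + 1) hg horbθ
      exact arith_case1 p a g t hp2 hgpos hkey


/-- S4489 -/
theorem schur_pgroup_field {P : Type u} [Group P] [Finite P] (p a : ℕ) (hp : p.Prime) (ha : 0 < a)
    (hP : Nat.card P = p ^ a) (χ : IrrCharacter P)
    (hfaith : ∀ g : P, (χ : P → ℂ) g = (χ : P → ℂ) 1 → g = 1) (f t : ℕ)
    (hf : charDegree (χ : P → ℂ) = f)
    (hfield : Module.finrank ℚ (IntermediateField.adjoin ℚ (Set.range (χ : P → ℂ))) =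
      (p - 1) * p ^ t) :
    (p - 1) * a ≤ (f - 1) + (p - 1) * (t + 1) * f := by
  haveI : Fact p.Prime := ⟨hp⟩
  obtain ⟨n, -, hn⟩ := isIrrCharacter_one χ.2
  have hfn : (χ : P → ℂ) 1 = (f : ℂ) := by
    rw [← hf]
    unfold charDegree
    rw [hn]
    simp
  have horb : (galOrb (χ : P → ℂ)).ncard ≤ (p - 1) * p ^ t := by
    rw [← hfield]
    exact galOrb_ncard_le (IsIrrCharacter.isCharacter χ.2) (galOrb_finite χ.2)
  exact schur_pgroup p a P hP ha (χ : P → ℂ) χ.2 hfaith f t hfn horb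

end Cfsg.Agent.Helper29.SchurP
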