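import Mathlib

set_option autoImplicit false

/-!
# Groups with two character degrees: the group-theoretic skeleton

A maximal normal subgroup `K` with `G ⧸ K` nonabelian; structure of `X = G ⧸ K`:
either `X` is a `p`-group or every element outside `X'` acts fixed-point-freely on `X'`.
-/

namespace Cfsg.Agent.Helper29.TwoDeg

open scoped commutatorElement

variable {G : Type*} [Group G]

/-- A maximal normal subgroup with nonabelian quotient. -/
theorem exists_max_normal [Finite G] (hG : ¬ commutator G ≤ (⊥ : Subgroup G)) :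
    ∃ K : Subgroup G, K.Normal ∧ ¬ commutator G ≤ K ∧
      ∀ L : Subgroup G, L.Normal → K < L → commutator G ≤ L := by
  classical
  let S : Set (Subgroup G) := {K | K.Normal ∧ ¬ commutator G ≤ K}
  have hfin : S.Finite := Set.toFinite S
  have hne : S.Nonempty := ⟨⊥, inferInstance, hG⟩
  obtain ⟨K, ⟨hKn, hKc⟩, hmax⟩ := hfin.exists_maximal hne
  refine ⟨K, hKn, hKc, ?_⟩
  intro L hLn hKL
  by_contra hL
  have := hmax ⟨hLn, hL⟩ hKL.le
  exact absurd hKL (not_lt_of_ge this)

/-- The quotient by such a `K`: every nontrivial normal subgroup contains the commutator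
subgroup. -/
theorem quot_min (K : Subgroup G) [K.Normal]
    (hmax : ∀ L : Subgroup G, L.Normal → K < L → commutator G ≤ L)
    (Lb : Subgroup (G ⧸ K)) (hLn : Lb.Normal) (hL : Lb ≠ ⊥) : commutator (G ⧸ K) ≤ Lb := by
  have hsurj : Function.Surjective (QuotientGroup.mk' K) := QuotientGroup.mk'_surjective K
  set L := Lb.comap (QuotientGroup.mk' K) with hLdef
  have hLnorm : L.Normal := hLn.comap _
  have hKL : K ≤ L := by
    intro k hk
    rw [hLdef, Subgroup.mem_comap]
    have : (QuotientGroup.mk' K) k = 1 := (QuotientGroup.eq_one_iff k).mpr hk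
    rw [this]; exact Lb.one_mem
  have hmap : L.map (QuotientGroup.mk' K) = Lb := Subgroup.map_comap_eq_self_of_surjective hsurj Lb
  have hne : K ≠ L := by
    intro h
    apply hL
    rw [← hmap, ← h, eq_bot_iff]
    rintro _ ⟨k, hk, rfl⟩
    exact (QuotientGroup.eq_one_iff k).mpr hk
  have h1 := hmax L hLnorm (lt_of_le_of_ne hKL hne)
  have h2 : commutator (G ⧸ K) = (commutator G).map (QuotientGroup.mk' K) := by
    rw [commutator_def, commutator_def, Subgroup.map_commutator,
      Subgroup.map_top_of_surjective _ hsurj]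
  rw [h2, ← hmap]
  exact Subgroup.map_mono h1

/-- The quotient is nonabelian. -/
theorem quot_nonabelian (K : Subgroup G) [K.Normal] (hK : ¬ commutator G ≤ K) :
    ¬ commutator (G ⧸ K) ≤ (⊥ : Subgroup (G ⧸ K)) := by
  intro h
  apply hK
  intro g hg
  have hsurj : Function.Surjective (QuotientGroup.mk' K) := QuotientGroup.mk'_surjective K
  have h2 : commutator (G ⧸ K) = (commutator G).map (QuotientGroup.mk' K) := by
    rw [commutator_def, commutator_def, Subgroup.map_commutator,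
      Subgroup.map_top_of_surjective _ hsurj]
  have : (QuotientGroup.mk' K) g ∈ commutator (G ⧸ K) := by
    rw [h2]; exact Subgroup.mem_map_of_mem _ hg
  have := h this
  rw [Subgroup.mem_bot] at this
  exact (QuotientGroup.eq_one_iff g).mp this

section Structure



variable {X : Type*} [Group X]

/-- conj of an element commuting with `g` and with the commutator subgroup still commutes
with `g`. -/
theorem conj_commute_aux (g y d : X) (hdg : d * g = g * d)
    (hdc : ∀ c ∈ commutator X, d * c = c * d) : (y * d * y⁻¹) * g = g * (y * d * y⁻¹) := by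
  have hc : g⁻¹ * y⁻¹ * g * y ∈ commutator X := by
    have : g⁻¹ * y⁻¹ * g * y = ⁅g⁻¹, y⁻¹⁆ := by
      rw [commutatorElement_def]; group
    rw [this]
    exact Subgroup.commutator_mem_commutator (Subgroup.mem_top _) (Subgroup.mem_top _)
  have h1 := hdc _ hc
  have h2 : y⁻¹ * g * y = g * (g⁻¹ * y⁻¹ * g * y) := by group
  have h3 : d * (y⁻¹ * g * y) = (y⁻¹ * g * y) * d := by
    rw [h2]
    calc d * (g * (g⁻¹ * y⁻¹ * g * y)) = (d * g) * (g⁻¹ * y⁻¹ * g * y) := (mul_assoc _ _ _).symm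
      _ = g * (d * (g⁻¹ * y⁻¹ * g * y)) := by rw [hdg]; exact mul_assoc _ _ _
      _ = g * (g⁻¹ * y⁻¹ * g * y) * d := by rw [h1]; exact (mul_assoc _ _ _).symm
  calc (y * d * y⁻¹) * g = y * (d * (y⁻¹ * g * y)) * y⁻¹ := by group
    _ = y * ((y⁻¹ * g * y) * d) * y⁻¹ := by rw [h3]
    _ = g * (y * d * y⁻¹) := by group

/-- Case II structure: fixed-point-free action on the commutator subgroup. -/
theorem fpf_of_center_eq_bot [Finite X]
    (hmin : ∀ L : Subgroup X, L.Normal → L ≠ ⊥ → commutator X ≤ L)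
    (hab : ∀ a ∈ commutator X, ∀ b ∈ commutator X, a * b = b * a)
    (hZ : Subgroup.center X = ⊥) :
    ∀ g : X, g ∉ commutator X → ∀ x ∈ commutator X, g * x = x * g → x = 1 := by
  classical
  set M := commutator X with hM
  have hMn : M.Normal := inferInstance
  -- the centralizer in M of g
  let CM : X → Subgroup X := fun g => M ⊓ Subgroup.centralizer ({g} : Set X)
  have hCMmem : ∀ g d, d ∈ CM g ↔ d ∈ M ∧ g * d = d * g := by
    intro g d
    simp only [CM, Subgroup.mem_inf, Subgroup.mem_centralizer_iff, Set.mem_singleton_iff,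
      forall_eq]
  have hCMn : ∀ g, (CM g).Normal := by
    intro g
    refine ⟨fun d hd y => ?_⟩
    rw [hCMmem] at hd ⊢
    refine ⟨hMn.conj_mem d hd.1 y, ?_⟩
    exact (conj_commute_aux g y d hd.2.symm (fun c hc => hab d hd.1 c hc)).symm
  -- for g outside the centralizer of M, CM g = ⊥
  have hCMbot : ∀ g, (∃ x ∈ M, g * x ≠ x * g) → CM g = ⊥ := by
    intro g hg
    by_contra hne
    have h1 := hmin (CM g) (hCMn g) hne
    obtain ⟨x, hx, hxg⟩ := hg
    exact hxg ((hCMmem g x).mp (h1 hx)).2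
  intro g hgM x hx hgx
  by_cases hMbot : M = ⊥
  · rw [hMbot, Subgroup.mem_bot] at hx; exact hx
  -- an element outside the centralizer of M
  obtain ⟨g₀, x₀, hx₀, hg₀⟩ : ∃ g₀ : X, ∃ x ∈ M, g₀ * x ≠ x * g₀ := by
    by_contra hcon
    push Not at hcon
    apply hMbot
    rw [eq_bot_iff, ← hZ]
    intro x hx
    rw [Subgroup.mem_center_iff]
    intro g
    exact hcon g x hx
  have hbot₀ : CM g₀ = ⊥ := hCMbot g₀ ⟨x₀, hx₀, hg₀⟩
  -- D = C_{C(M)}(g₀)
  let D : Subgroup X := Subgroup.centralizer (M : Set X) ⊓ Subgroup.centralizer ({g₀} : Set X)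
  have hDmem : ∀ d, d ∈ D ↔ (∀ c ∈ M, c * d = d * c) ∧ g₀ * d = d * g₀ := by
    intro d
    simp only [D, Subgroup.mem_inf, Subgroup.mem_centralizer_iff, Set.mem_singleton_iff,
      forall_eq, SetLike.mem_coe]
  have hDn : D.Normal := by
    refine ⟨fun d hd y => ?_⟩
    rw [hDmem] at hd ⊢
    refine ⟨?_, ?_⟩
    · intro c hc
      have hc' : y⁻¹ * c * y ∈ M := by
        have := hMn.conj_mem c hc y⁻¹
        simpa using this
      have h1 := hd.1 _ hc'
      calc c * (y * d * y⁻¹) = y * ((y⁻¹ * c * y) * d) * y⁻¹ := by group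
        _ = y * (d * (y⁻¹ * c * y)) * y⁻¹ := by rw [h1]
        _ = y * d * y⁻¹ * c := by group
    · exact (conj_commute_aux g₀ y d hd.2.symm (fun c hc => (hd.1 c hc).symm)).symm
  have hDbot : D = ⊥ := by
    by_contra hne
    have h1 := hmin D hDn hne
    apply hMbot
    rw [eq_bot_iff, ← hbot₀]
    intro x hx
    rw [hCMmem]
    exact ⟨hx, ((hDmem x).mp (h1 hx)).2⟩
  -- the commutator map on M
  have hcommM : ∀ x : X, x * g₀ * x⁻¹ * g₀⁻¹ ∈ M := by
    intro x
    have : x * g₀ * x⁻¹ * g₀⁻¹ = ⁅x, g₀⁆ := by rw [commutatorElement_def]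
    rw [this]
    exact Subgroup.commutator_mem_commutator (Subgroup.mem_top _) (Subgroup.mem_top _)
  let φ : M → M := fun x => ⟨(x : X) * g₀ * (x : X)⁻¹ * g₀⁻¹, hcommM x⟩
  have hφinj : Function.Injective φ := by
    intro x x' h
    have h1 : (x : X) * g₀ * (x : X)⁻¹ * g₀⁻¹ = (x' : X) * g₀ * (x' : X)⁻¹ * g₀⁻¹ :=
      congrArg Subtype.val h
    have h2 : (x' : X)⁻¹ * x ∈ CM g₀ := by
      rw [hCMmem]
      refine ⟨M.mul_mem (M.inv_mem x'.2) x.2, ?_⟩
      have h3 : (x : X) * g₀ * (x : X)⁻¹ = (x' : X) * g₀ * (x' : X)⁻¹ := by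
        have := congrArg (· * g₀) h1
        simpa using this
      calc g₀ * ((x' : X)⁻¹ * x) = (x' : X)⁻¹ * ((x' : X) * g₀ * (x' : X)⁻¹) * x := by group
        _ = (x' : X)⁻¹ * ((x : X) * g₀ * (x : X)⁻¹) * x := by rw [h3]
        _ = (x' : X)⁻¹ * x * g₀ := by group
    rw [hbot₀, Subgroup.mem_bot] at h2
    apply Subtype.ext
    have := eq_of_inv_mul_eq_one h2   -- x' = x
    exact this.symm
  have hφsurj : Function.Surjective φ := Finite.surjective_of_injective hφinj
  -- centralizer of M is M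
  have hCeq : ∀ c : X, (∀ m ∈ M, c * m = m * c) → c ∈ M := by
    intro c hc
    obtain ⟨x, hx⟩ := hφsurj ⟨c * g₀ * c⁻¹ * g₀⁻¹, hcommM c⟩
    have h1 : (x : X) * g₀ * (x : X)⁻¹ * g₀⁻¹ = c * g₀ * c⁻¹ * g₀⁻¹ := congrArg Subtype.val hx
    have h3 : (x : X) * g₀ * (x : X)⁻¹ = c * g₀ * c⁻¹ := by
      have := congrArg (· * g₀) h1
      simpa using this
    have h2 : (x : X)⁻¹ * c ∈ D := by
      rw [hDmem]
      refine ⟨?_, ?_⟩
      · intro m hm
        have e1 : m * (x : X)⁻¹ = (x : X)⁻¹ * m := by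
          have := hab m hm (x : X)⁻¹ (M.inv_mem x.2)
          exact this
        rw [← mul_assoc, e1, mul_assoc, ← hc m hm, mul_assoc]
      · calc g₀ * ((x : X)⁻¹ * c) = (x : X)⁻¹ * ((x : X) * g₀ * (x : X)⁻¹) * c := by group
          _ = (x : X)⁻¹ * (c * g₀ * c⁻¹) * c := by rw [h3]
          _ = (x : X)⁻¹ * c * g₀ := by group
    rw [hDbot, Subgroup.mem_bot] at h2
    have := eq_of_inv_mul_eq_one h2  -- x = c
    rw [← this]; exact x.2
  -- conclusion
  have hg : ∃ x ∈ M, g * x ≠ x * g := by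
    by_contra hcon
    push Not at hcon
    exact hgM (hCeq g hcon)
  have := hCMbot g hg
  have hx' : x ∈ CM g := (hCMmem g x).mpr ⟨hx, hgx⟩
  rw [this, Subgroup.mem_bot] at hx'
  exact hx'


end Structure

section PGroupCase



variable {X : Type*} [Group X]

/-- Case I structure: if the centre is nontrivial, the group is a `p`-group. -/
theorem isPGroup_of_center_ne_bot [Finite X]
    (hmin : ∀ L : Subgroup X, L.Normal → L ≠ ⊥ → commutator X ≤ L)
    (hna : ¬ commutator X ≤ (⊥ : Subgroup X))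
    (hZ : Subgroup.center X ≠ ⊥) : ∃ p : ℕ, p.Prime ∧ IsPGroup p X := by
  classical
  have hMZ : commutator X ≤ Subgroup.center X := hmin _ inferInstance hZ
  -- nilpotent
  have hnil : Group.IsNilpotent X := by
    refine ⟨⟨2, ?_⟩⟩
    rw [eq_top_iff]
    intro x _
    rw [show (2 : ℕ) = 1 + 1 from rfl, Subgroup.mem_upperCentralSeries_succ_iff]
    intro y
    rw [Subgroup.upperCentralSeries_one]
    apply hMZ
    exact Subgroup.commutator_mem_commutator (Subgroup.mem_top _) (Subgroup.mem_top _)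
  have hsyl : ∀ (p : ℕ) (_hp : Fact p.Prime) (P : Sylow p X), (P : Subgroup X).Normal :=
    ((Group.isNilpotent_of_finite_tfae (G := X)).out 0 3).mp hnil
  -- a prime dividing |X|
  have hcard : Nat.card X ≠ 1 := by
    intro h1
    apply hZ
    have : Subsingleton X := (Nat.card_eq_one_iff_unique.mp h1).1
    exact Subsingleton.elim _ _
  obtain ⟨p, hp, hpdvd⟩ := Nat.exists_prime_and_dvd hcard
  refine ⟨p, hp, ?_⟩
  have hP : ∀ (r : ℕ) (hr : r.Prime), r ∣ Nat.card X → ∃ R : Subgroup X, IsPGroup r R ∧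
      commutator X ≤ R := by
    intro r hr hrdvd
    have : Fact r.Prime := ⟨hr⟩
    let R : Sylow r X := default
    have hRn : (R : Subgroup X).Normal := hsyl r ⟨hr⟩ R
    have hRne : (R : Subgroup X) ≠ ⊥ := Sylow.ne_bot_of_dvd_card R hrdvd
    exact ⟨R, R.isPGroup', hmin _ hRn hRne⟩
  obtain ⟨P, hPp, hMP⟩ := hP p hp hpdvd
  have hall : ∀ {r : ℕ}, r.Prime → r ∣ Nat.card X → r = p := by
    intro r hr hrdvd
    by_contra hne
    obtain ⟨R, hRr, hMR⟩ := hP r hr hrdvd
    have : Fact r.Prime := ⟨hr⟩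
    have : Fact p.Prime := ⟨hp⟩
    have hdisj : Disjoint R P := IsPGroup.disjoint_of_ne r p hne R P hRr hPp
    apply hna
    rw [← hdisj.eq_bot]
    exact le_inf hMR hMP
  have hpow := Nat.eq_prime_pow_of_unique_prime_dvd (Nat.card_pos (α := X)).ne' hall
  exact IsPGroup.of_card hpow


end PGroupCase

section Transfer



variable {G : Type*} [Group G]

/-- The preimage in `G` of the commutator subgroup of `G ⧸ K`. -/
def preComm (K : Subgroup G) [K.Normal] : Subgroup G :=
  (commutator (G ⧸ K)).comap (QuotientGroup.mk' K)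

instance preComm_normal (K : Subgroup G) [K.Normal] : (preComm K).Normal :=
  Subgroup.Normal.comap inferInstance _

theorem le_preComm (K : Subgroup G) [K.Normal] : K ≤ preComm K := by
  intro k hk
  unfold preComm
  rw [Subgroup.mem_comap]
  have : (QuotientGroup.mk' K) k = 1 := (QuotientGroup.eq_one_iff k).mpr hk
  rw [this]; exact Subgroup.one_mem _

theorem commutator_le_preComm (K : Subgroup G) [K.Normal] : commutator G ≤ preComm K := by
  unfold preComm
  rw [← Subgroup.map_le_iff_le_comap, commutator_def, Subgroup.map_commutator, commutator_def]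
  exact Subgroup.commutator_mono le_top le_top

theorem index_preComm (K : Subgroup G) [K.Normal] :
    (preComm K).index = (commutator (G ⧸ K)).index :=
  Subgroup.index_comap_of_surjective _ (QuotientGroup.mk'_surjective K)

theorem relIndex_preComm [Finite G] (K : Subgroup G) [K.Normal] :
    K.relIndex (preComm K) = Nat.card (commutator (G ⧸ K)) := by
  have h1 := Subgroup.relIndex_mul_index (le_preComm K)
  rw [index_preComm, Subgroup.index_eq_card K] at h1
  have h2 := Subgroup.card_mul_index (commutator (G ⧸ K))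
  have h3 : (commutator (G ⧸ K)).index ≠ 0 := Subgroup.index_ne_zero_of_finite
  exact Nat.eq_of_mul_eq_mul_right (Nat.pos_of_ne_zero h3) (h1.trans h2.symm)

/-- Transfer of the fixed-point-free action: modulo `K`, every element of `N` is a commutator
`[g, x]` with `x ∈ N`. -/
theorem fpf_transfer [Finite G] (K : Subgroup G) [K.Normal]
    (hfpf : ∀ g : G ⧸ K, g ∉ commutator (G ⧸ K) → ∀ x ∈ commutator (G ⧸ K),
      g * x = x * g → x = 1)
    (g : G) (hg : g ∉ preComm K) (n : G) (hn : n ∈ preComm K) :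
    ∃ x ∈ preComm K, (g * x * g⁻¹ * x⁻¹)⁻¹ * n ∈ K := by
  classical
  set M := commutator (G ⧸ K) with hM
  have hMn : M.Normal := inferInstance
  set gb : G ⧸ K := QuotientGroup.mk' K g with hgb
  have hgb' : gb ∉ M := hg
  let φ : M → M := fun x => ⟨gb * x * gb⁻¹ * (x : G ⧸ K)⁻¹,
    M.mul_mem (hMn.conj_mem x x.2 gb) (M.inv_mem x.2)⟩
  have hφinj : Function.Injective φ := by
    intro x y h
    have h1 : gb * x * gb⁻¹ * (x : G ⧸ K)⁻¹ = gb * y * gb⁻¹ * (y : G ⧸ K)⁻¹ :=
      congrArg Subtype.val h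
    have hz : (y : G ⧸ K)⁻¹ * x ∈ M := M.mul_mem (M.inv_mem y.2) x.2
    have h2 : gb * ((y : G ⧸ K)⁻¹ * x) = ((y : G ⧸ K)⁻¹ * x) * gb := by
      have e1 : (gb * y * gb⁻¹)⁻¹ * (gb * x * gb⁻¹) = (y : G ⧸ K)⁻¹ * x := by
        have := congrArg (fun t => (gb * y * gb⁻¹)⁻¹ * t * x) h1
        calc (gb * y * gb⁻¹)⁻¹ * (gb * x * gb⁻¹)
            = (gb * y * gb⁻¹)⁻¹ * (gb * x * gb⁻¹ * (x : G ⧸ K)⁻¹) * x := by group
          _ = (gb * y * gb⁻¹)⁻¹ * (gb * y * gb⁻¹ * (y : G ⧸ K)⁻¹) * x := this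
          _ = (y : G ⧸ K)⁻¹ * x := by group
      calc gb * ((y : G ⧸ K)⁻¹ * x) = ((gb * y * gb⁻¹)⁻¹ * (gb * x * gb⁻¹)) * gb := by group
        _ = ((y : G ⧸ K)⁻¹ * x) * gb := by rw [e1]
    have h3 := hfpf gb hgb' _ hz h2
    apply Subtype.ext
    exact (eq_of_inv_mul_eq_one h3).symm
  have hφsurj : Function.Surjective φ := Finite.surjective_of_injective hφinj
  obtain ⟨xb, hxb⟩ := hφsurj ⟨QuotientGroup.mk' K n, hn⟩
  obtain ⟨x, hx⟩ := QuotientGroup.mk'_surjective K (xb : G ⧸ K)
  refine ⟨x, ?_, ?_⟩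
  · show (QuotientGroup.mk' K) x ∈ M
    rw [hx]; exact xb.2
  · have h1 : gb * xb * gb⁻¹ * (xb : G ⧸ K)⁻¹ = QuotientGroup.mk' K n := congrArg Subtype.val hxb
    rw [← QuotientGroup.eq_one_iff]
    have : ((QuotientGroup.mk' K) ((g * x * g⁻¹ * x⁻¹)⁻¹ * n)) =
        (gb * xb * gb⁻¹ * (xb : G ⧸ K)⁻¹)⁻¹ * QuotientGroup.mk' K n := by
      rw [← hx, hgb]
      simp only [map_mul, map_inv]
    have h2 : (((g * x * g⁻¹ * x⁻¹)⁻¹ * n : G) : G ⧸ K) =
        (QuotientGroup.mk' K) ((g * x * g⁻¹ * x⁻¹)⁻¹ * n) := rfl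
    rw [h2, this, h1, inv_mul_cancel]


end Transfer

end Cfsg.Agent.Helper29.TwoDeg
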