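import Mathlib
import Cfsg.Prelude.Def_Characters
import Cfsg.Prelude.Def_Blocks
import Cfsg.Agent.Helper24.ThompsonDegrees
import Cfsg.Agent.Helper24.Abelian
import Cfsg.Agent.Helper24.Ito
import Cfsg.Agent.Helper24.DegreeRatio
import Cfsg.Agent.Helper24.GagolaCentral
import Cfsg.Agent.Helper24.Codegree
import Cfsg.Agent.Helper24.Restrict
import Cfsg.Agent.Helper29.TwoDegA
import Cfsg.Agent.Helper24.InducedNormal
import Cfsg.Agent.Helper24.Expansion
import Cfsg.Agent.Helper24.Linear
import Cfsg.Agent.Helper5.IndFun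

set_option autoImplicit false

namespace Cfsg.Agent.Helper29.TwoDeg

open Cfsg Cfsg.Agent.Helper24

universe u

/-- All irreducible character degrees are `1` or `m`. -/
def TwoDegrees (G : Type u) [Group G] (m : ℕ) : Prop :=
  ∀ χ : IrrCharacter G, charDegree (χ : G → ℂ) = 1 ∨ charDegree (χ : G → ℂ) = m

section Basic

variable {G : Type u} [Group G] [Fintype G]

theorem TwoDegrees.quot {m : ℕ} (h : TwoDegrees G m) (K : Subgroup G) [K.Normal] :
    TwoDegrees (G ⧸ K) m := by
  intro ψ
  have h1 := h (irrInflate K ψ)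
  have h2 : charDegree ((irrInflate K ψ : IrrCharacter G) : G → ℂ) =
      charDegree (ψ : G ⧸ K → ℂ) := by
    unfold charDegree
    rfl
  rwa [h2] at h1

theorem TwoDegrees.irrDeg_cases {m : ℕ} (h : TwoDegrees G m) (χ : IrrCharacter G) :
    irrDeg χ = 1 ∨ irrDeg χ = m := by
  have := h χ
  rwa [charDegree_irr] at this

/-- Nonabelian groups have a nonlinear irreducible character. -/
theorem exists_nonlinear (hG : ¬ commutator G ≤ (⊥ : Subgroup G)) :
    ∃ χ : IrrCharacter G, irrDeg χ ≠ 1 := by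
  by_contra hcon
  push Not at hcon
  apply hG
  have h1 : ∀ a b : G, a * b = b * a := by
    rw [comm_iff_forall_irr_one]
    intro χ
    exact (irrDeg_eq_one_iff χ).mp (hcon χ)
  rw [commutator_def, Subgroup.commutator_le]
  intro a _ b _
  rw [Subgroup.mem_bot, commutatorElement_eq_one_iff_commute]
  exact h1 a b

theorem TwoDegrees.exists_deg {m : ℕ} (h : TwoDegrees G m)
    (hG : ¬ commutator G ≤ (⊥ : Subgroup G)) :
    (∃ χ : IrrCharacter G, irrDeg χ = m) ∧ 2 ≤ m := by
  obtain ⟨χ, hχ⟩ := exists_nonlinear hG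
  have h1 := h.irrDeg_cases χ
  have h2 := irrDeg_pos χ
  rcases h1 with h1 | h1
  · exact absurd h1 hχ
  · refine ⟨⟨χ, h1⟩, ?_⟩
    omega

/-- Every irreducible character of a subgroup lies under an irreducible character of `G`. -/
theorem exists_irr_over (N : Subgroup G) [Fintype N] (ψ : IrrCharacter N) :
    ∃ χ : IrrCharacter G, classInner (fun n : N => (χ : G → ℂ) n) (ψ : N → ℂ) ≠ 0 := by
  classical
  have : Fintype (IrrCharacter G) := Fintype.ofFinite _
  have hc : IsCharacter G (indFun N (ψ : N → ℂ)) :=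
    isCharacter_indFun N (IsIrrCharacter.isCharacter ψ.2)
  have h0 : indFun N (ψ : N → ℂ) ≠ 0 := by
    intro h
    have h1 := congrFun h 1
    rw [Helper5.indFun_apply_one, irrDeg_spec] at h1
    have h2 : (N.index : ℂ) ≠ 0 := Nat.cast_ne_zero.mpr Subgroup.index_ne_zero_of_finite
    have h3 : ((irrDeg ψ : ℕ) : ℂ) ≠ 0 := Nat.cast_ne_zero.mpr (irrDeg_pos ψ).ne'
    exact mul_ne_zero h2 h3 h1
  obtain ⟨χ, hχ⟩ := IsCharacter.exists_irr_constituent hc h0
  refine ⟨χ, ?_⟩
  rw [Helper8.frobenius_reciprocity N _ _ (isClassFunction_irr χ)] at hχ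
  intro h
  apply hχ
  rw [← classInner_conj_symm, h, map_zero]

/-- The degree of a constituent of the restriction to a normal subgroup divides the degree. -/
theorem irrDeg_dvd_of_over (N : Subgroup G) [N.Normal] [Fintype N] (χ : IrrCharacter G) (ψ : IrrCharacter N)
    (h : classInner (fun n : N => (χ : G → ℂ) n) (ψ : N → ℂ) ≠ 0) :
    ∃ e : ℕ, irrDeg χ = e * irrDeg ψ ∧ e ∣ N.index := by
  obtain ⟨e, he, hdvd⟩ := degree_ratio_dvd_index N (χ : G → ℂ) χ.2 (ψ : N → ℂ) ψ.2 h
  refine ⟨e, ?_, hdvd⟩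
  rw [irrDeg_spec, irrDeg_spec] at he
  exact_mod_cast he

theorem TwoDegrees.irrDeg_dvd {m : ℕ} (h : TwoDegrees G m) (N : Subgroup G) [N.Normal] [Fintype N]
    (ψ : IrrCharacter N) : irrDeg ψ ∣ m := by
  obtain ⟨χ, hχ⟩ := exists_irr_over N ψ
  obtain ⟨e, he, -⟩ := irrDeg_dvd_of_over N χ ψ hχ
  rcases h.irrDeg_cases χ with h1 | h1
  · rw [h1] at he
    have : irrDeg ψ = 1 := Nat.eq_one_of_mul_eq_one_left he.symm
    rw [this]; exact one_dvd _
  · rw [← h1, he]; exact dvd_mul_left _ _

/-- The degree of an irreducible character divides the group order. -/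
theorem irrDeg_dvd_card (χ : IrrCharacter G) : irrDeg χ ∣ Nat.card G := by
  obtain ⟨d, hd, hdvd⟩ := ito_character (⊥ : Subgroup G)
    (by intro a ha b hb; rw [Subgroup.mem_bot] at ha hb; rw [ha, hb]) (χ : G → ℂ) χ.2
  rw [Subgroup.index_bot] at hdvd
  rw [irrDeg_spec] at hd
  have : irrDeg χ = d := by exact_mod_cast hd
  rw [this]; exact hdvd

end Basic



section CommAb

variable {X : Type u} [Group X] [Fintype X]

/-- With two character degrees and all proper quotients abelian, the commutator subgroup is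
abelian (via Thompson's normal `p`-complement theorem). -/
theorem commutator_comm_of_twoDegrees {m : ℕ} (h : TwoDegrees X m)
    (hmin : ∀ L : Subgroup X, L.Normal → L ≠ ⊥ → commutator X ≤ L)
    (hna : ¬ commutator X ≤ (⊥ : Subgroup X)) :
    ∀ a ∈ commutator X, ∀ b ∈ commutator X, a * b = b * a := by
  classical
  obtain ⟨⟨χ₀, hχ₀⟩, hm2⟩ := h.exists_deg hna
  set M := commutator X with hM
  have : Fintype M := Fintype.ofFinite _
  have hstep : ∀ p : ℕ, p.Prime → p ∣ m →
      (∀ a ∈ M, ∀ b ∈ M, a * b = b * a) ∨ (Nat.card M).Coprime p := by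
    intro p hp hpm
    have hdeg : ∀ χ : IrrCharacter X, charDegree (χ : X → ℂ) ≠ 1 →
        p ∣ charDegree (χ : X → ℂ) := by
      intro χ hχ
      rcases h χ with h1 | h1
      · exact absurd h1 hχ
      · rw [h1]; exact hpm
    obtain ⟨Nb, hNn, hcop, k, hk⟩ := normal_pComplement_of_dvd_nonlinear p hp hdeg
    by_cases hNb : Nb = ⊥
    · left
      have hcard : Nat.card X = p ^ k := by rw [← hk, hNb, Subgroup.index_bot]
      have hpg : IsPGroup p X := IsPGroup.of_card hcard
      have : Fact p.Prime := ⟨hp⟩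
      have hnt : Nontrivial X := by
        by_contra hnt
        rw [not_nontrivial_iff_subsingleton] at hnt
        apply hna
        intro x _
        rw [Subgroup.mem_bot]
        exact Subsingleton.elim _ _
      have hZ : Subgroup.center X ≠ ⊥ := by
        have := hpg.center_nontrivial
        exact (Subgroup.nontrivial_iff_ne_bot _).mp this
      have hMZ := hmin _ inferInstance hZ
      intro a ha b _
      have := (Subgroup.mem_center_iff.mp (hMZ ha)) b
      exact this.symm
    · right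
      have hMN := hmin Nb hNn hNb
      exact Nat.Coprime.coprime_dvd_left (Subgroup.card_dvd_of_le hMN) hcop
  by_contra hcon
  have hall : ∀ p : ℕ, p.Prime → p ∣ m → (Nat.card M).Coprime p := by
    intro p hp hpm
    rcases hstep p hp hpm with h1 | h1
    · exact absurd h1 hcon
    · exact h1
  have hcopm : Nat.Coprime m (Nat.card M) := by
    apply Nat.coprime_of_dvd
    intro k hk hkm hkM
    have := hall k hk hkm
    have h2 : k ∣ Nat.gcd (Nat.card M) k := Nat.dvd_gcd hkM dvd_rfl
    rw [this] at h2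
    exact hk.one_lt.ne' (Nat.dvd_one.mp h2)
  have hlin : ∀ ψ : IrrCharacter M, (ψ : M → ℂ) 1 = 1 := by
    intro ψ
    have h1 : irrDeg ψ ∣ m := h.irrDeg_dvd M ψ
    have h2 : irrDeg ψ ∣ Nat.card M := irrDeg_dvd_card ψ
    have h3 : irrDeg ψ ∣ Nat.gcd m (Nat.card M) := Nat.dvd_gcd h1 h2
    rw [hcopm] at h3
    exact (irrDeg_eq_one_iff ψ).mp (Nat.dvd_one.mp h3)
  have hcomm := (comm_iff_forall_irr_one (G := M)).mpr hlin
  apply hcon
  intro a ha b hb
  have := hcomm ⟨a, ha⟩ ⟨b, hb⟩
  exact congrArg Subtype.val this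

end CommAb



section IndIrr

variable {G : Type u} [Group G] [Fintype G]

/-- If the inertia group of `θ ∈ Irr(N)` is `N` itself, then `θ^G` is irreducible. -/
theorem isIrrCharacter_indFun_of_inertia (N : Subgroup G) [hN : N.Normal] (θ : N → ℂ)
    (hθ : IsIrrCharacter N θ)
    (hI : ∀ g : G, (∀ n : N, θ ⟨g * n * g⁻¹, hN.conj_mem n n.2 g⟩ = θ n) → g ∈ N) :
    IsIrrCharacter G (indFun N θ) := by
  classical
  have : Fintype (IrrCharacter G) := Fintype.ofFinite _
  have hc : IsCharacter G (indFun N θ) := isCharacter_indFun N (IsIrrCharacter.isCharacter hθ)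
  refine IsCharacter.isIrrCharacter_of_classInner_self hc ?_
  have h1 := card_mul_classInner_indFun_self N θ hθ
  have hcf : IsClassFunction N θ := IsCharacter.isClassFunction (IsIrrCharacter.isCharacter hθ)
  have h2 : Nat.card {g : G // ∀ h : N, θ ⟨g * h * g⁻¹, hN.conj_mem h h.2 g⟩ = θ h} =
      Nat.card N := by
    apply Nat.card_congr
    refine Equiv.subtypeEquivRight ?_
    intro g
    constructor
    · exact hI g
    · intro hg n
      exact hcf n ⟨g, hg⟩
  rw [h2] at h1
  have hN0 : (Nat.card N : ℂ) ≠ 0 := Nat.cast_ne_zero.mpr Nat.card_pos.ne'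
  have h3 : (Nat.card N : ℂ) * classInner (indFun N θ) (indFun N θ) = (Nat.card N : ℂ) * 1 := by
    rw [h1, mul_one]
  exact mul_left_cancel₀ hN0 h3

end IndIrr

section Fpf

variable {X : Type u} [Group X]

/-- A fixed-point-free element induces a surjective commutator map on a finite normal
subgroup. -/
theorem fpf_surj [Finite X] (M : Subgroup X) [hMn : M.Normal] (g : X)
    (hfpf : ∀ x ∈ M, g * x = x * g → x = 1) (y : X) (hy : y ∈ M) :
    ∃ x ∈ M, g * x * g⁻¹ * x⁻¹ = y := by
  classical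
  let φ : M → M := fun x => ⟨g * x * g⁻¹ * (x : X)⁻¹,
    M.mul_mem (hMn.conj_mem x x.2 g) (M.inv_mem x.2)⟩
  have hφinj : Function.Injective φ := by
    intro x y h
    have h1 : g * x * g⁻¹ * (x : X)⁻¹ = g * y * g⁻¹ * (y : X)⁻¹ :=
      congrArg Subtype.val h
    have hz : (y : X)⁻¹ * x ∈ M := M.mul_mem (M.inv_mem y.2) x.2
    have h2 : g * ((y : X)⁻¹ * x) = ((y : X)⁻¹ * x) * g := by
      have e1 : (g * y * g⁻¹)⁻¹ * (g * x * g⁻¹) = (y : X)⁻¹ * x := by
        have := congrArg (fun t => (g * y * g⁻¹)⁻¹ * t * x) h1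
        calc (g * y * g⁻¹)⁻¹ * (g * x * g⁻¹)
            = (g * y * g⁻¹)⁻¹ * (g * x * g⁻¹ * (x : X)⁻¹) * x := by group
          _ = (g * y * g⁻¹)⁻¹ * (g * y * g⁻¹ * (y : X)⁻¹) * x := this
          _ = (y : X)⁻¹ * x := by group
      calc g * ((y : X)⁻¹ * x) = ((g * y * g⁻¹)⁻¹ * (g * x * g⁻¹)) * g := by group
        _ = ((y : X)⁻¹ * x) * g := by rw [e1]
    have h3 := hfpf _ hz h2
    apply Subtype.ext
    exact (eq_of_inv_mul_eq_one h3).symm
  have hφsurj : Function.Surjective φ := Finite.surjective_of_injective hφinj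
  obtain ⟨x, hx⟩ := hφsurj ⟨y, hy⟩
  exact ⟨x, x.2, congrArg Subtype.val hx⟩

end Fpf

section Numerics

variable {X : Type u} [Group X] [Fintype X]

/-- A linear character of a normal subgroup on which `g` acts fixed-point-freely is not
`g`-invariant unless it is trivial. -/
theorem hom_eq_one_of_fpf_invariant (M : Subgroup X) [hMn : M.Normal] (g : X)
    (hfpf : ∀ x ∈ M, g * x = x * g → x = 1) (L : M →* ℂˣ)
    (hinv : ∀ n : M, L ⟨g * n * g⁻¹, hMn.conj_mem n n.2 g⟩ = L n) : L = 1 := by
  ext y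
  obtain ⟨x, hx, hxy⟩ := fpf_surj M g hfpf y y.2
  have : y = (⟨g * x * g⁻¹, hMn.conj_mem x hx g⟩ : M) * (⟨x, hx⟩ : M)⁻¹ := by
    apply Subtype.ext
    simp only [Subgroup.coe_mul, Subgroup.coe_inv]
    exact hxy.symm
  rw [this, map_mul, map_inv, hinv ⟨x, hx⟩, mul_inv_cancel]
  rfl

theorem caseII_numerics {m : ℕ} (h : TwoDegrees X m)
    (hna : ¬ commutator X ≤ (⊥ : Subgroup X))
    (hab : ∀ a ∈ commutator X, ∀ b ∈ commutator X, a * b = b * a)
    (hfpf : ∀ g : X, g ∉ commutator X → ∀ x ∈ commutator X, g * x = x * g → x = 1) :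
    (commutator X).index = m ∧ Nat.Coprime m (Nat.card (commutator X)) ∧
      m ≤ Nat.card (commutator X) := by
  classical
  have : Fintype (IrrCharacter X) := Fintype.ofFinite _
  obtain ⟨⟨χ₀, hχ₀⟩, hm2⟩ := h.exists_deg hna
  set M := commutator X with hM
  have hMn : M.Normal := inferInstance
  have : Fintype M := Fintype.ofFinite _
  let _ : CommGroup M := { (inferInstance : Group M) with
    mul_comm := fun a b => Subtype.ext (hab a a.2 b b.2) }
  -- a nontrivial linear character of M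
  have hMne : M ≠ ⊥ := fun h0 => hna (by rw [h0])
  obtain ⟨a, ha, ha1⟩ : ∃ a ∈ M, a ≠ 1 := by
    by_contra hcon
    push Not at hcon
    apply hMne
    rw [eq_bot_iff]
    intro x hx
    rw [Subgroup.mem_bot]; exact hcon x hx
  have : HasEnoughRootsOfUnity ℂ (Monoid.exponent M) := by
    have : NeZero ((Monoid.exponent M : ℕ) : ℂ) :=
      ⟨Nat.cast_ne_zero.mpr Monoid.exponent_ne_zero_of_finite⟩
    infer_instance
  obtain ⟨L, hL⟩ := CommGroup.exists_apply_ne_one_of_hasEnoughRootsOfUnity M ℂ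
    (a := ⟨a, ha⟩) (fun h0 => ha1 (congrArg Subtype.val h0))
  set θ : M → ℂ := fun x => ((L x : ℂˣ) : ℂ) with hθ
  have hθirr : IsIrrCharacter M θ := isIrrCharacter_of_monoidHom ((Units.coeHom ℂ).comp L)
  have hI : ∀ g : X, (∀ n : M, θ ⟨g * n * g⁻¹, hMn.conj_mem n n.2 g⟩ = θ n) → g ∈ M := by
    intro g hg
    by_contra hgM
    have := hom_eq_one_of_fpf_invariant M g (hfpf g hgM) L
      (fun n => Units.ext (hg n))
    apply hL
    rw [this]; rfl
  have hirr := isIrrCharacter_indFun_of_inertia M θ hθirr hI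
  have hdeg : indFun M θ 1 = (M.index : ℂ) := by
    rw [Helper5.indFun_apply_one, hθ]
    simp
  have hidx : M.index = m := by
    have h1 := h.irrDeg_cases ⟨indFun M θ, hirr⟩
    have h2 : irrDeg ⟨indFun M θ, hirr⟩ = M.index := by
      have := irrDeg_spec ⟨indFun M θ, hirr⟩
      have h3 : indFun M θ 1 = ((irrDeg ⟨indFun M θ, hirr⟩ : ℕ) : ℂ) := this
      rw [hdeg] at h3
      exact_mod_cast h3.symm
    rw [h2] at h1
    rcases h1 with h1 | h1
    · exfalso
      have htop : M = ⊤ := Subgroup.index_eq_one.mp h1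
      apply hna
      rw [hM, commutator_def, Subgroup.commutator_le]
      intro x _ y _
      rw [Subgroup.mem_bot, commutatorElement_eq_one_iff_commute]
      have hx : x ∈ M := by rw [htop]; exact Subgroup.mem_top x
      have hy : y ∈ M := by rw [htop]; exact Subgroup.mem_top y
      exact hab x hx y hy
    · exact h1
  -- counting
  have hsum := sum_irrDeg_sq (G := X)
  have hlin := card_linear_irr (G := X)
  rw [← hM, hidx] at hlin
  have hterm : ∀ χ : IrrCharacter X, irrDeg χ ^ 2 =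
      if (χ : X → ℂ) 1 = 1 then 1 else m ^ 2 := by
    intro χ
    split_ifs with h1
    · rw [(irrDeg_eq_one_iff χ).mpr h1, one_pow]
    · rcases h.irrDeg_cases χ with h2 | h2
      · exact absurd ((irrDeg_eq_one_iff χ).mp h2) h1
      · rw [h2]
  rw [Finset.sum_congr rfl (fun χ _ => hterm χ), Finset.sum_ite, Finset.sum_const,
    Finset.sum_const, smul_eq_mul, smul_eq_mul, mul_one] at hsum
  have hA : (Finset.univ.filter (fun χ : IrrCharacter X => (χ : X → ℂ) 1 = 1)).card = m := by
    rw [← hlin, Nat.card_eq_fintype_card, Fintype.card_subtype]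
  rw [hA] at hsum
  set b := (Finset.univ.filter (fun χ : IrrCharacter X => ¬ (χ : X → ℂ) 1 = 1)).card with hb
  have hbpos : 1 ≤ b := by
    rw [hb]
    apply Finset.card_pos.mpr
    refine ⟨χ₀, ?_⟩
    rw [Finset.mem_filter]
    refine ⟨Finset.mem_univ _, ?_⟩
    intro h1
    have := (irrDeg_eq_one_iff χ₀).mpr h1
    omega
  have hXM : Nat.card X = Nat.card M * m := by
    rw [← hidx]; exact (Subgroup.card_mul_index M).symm
  have hMcard : Nat.card M = 1 + b * m := by
    have h1 : Nat.card M * m = (1 + b * m) * m := by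
      rw [← hXM, ← hsum]; ring
    exact Nat.eq_of_mul_eq_mul_right (by omega) h1
  refine ⟨hidx, ?_, ?_⟩
  · rw [hMcard]
    exact (Nat.coprime_add_mul_right_right m 1 b).mpr (Nat.coprime_one_right m)
  · rw [hMcard]
    nlinarith

end Numerics

end Cfsg.Agent.Helper29.TwoDeg
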