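import Mathlib
import Cfsg.Prelude.Def_Local

/-!
# B&G Theorem 3.6 (S1444): the end configuration

`EndCfg V Q P R₀ p q r` packages the final configuration `V ⋊ (Q ⋊ P)` with `R₀` of prime order `r`
acting, reached in the minimal counterexample to Bender–Glauberman Theorem 3.6.  The two endgame
lemmas (abelian / nonabelian `Q`) derive `False` from it.
-/

set_option autoImplicit false
open Subgroup

namespace Cfsg.Agent.Helper29.BG36

variable {X : Type*} [Group X]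

/-- Common end-configuration of B&G Theorem 3.6: `V ⋊ (Q ⋊ P)` with `R₀` of prime order `r` acting. -/
structure EndCfg (V Q P R₀ : Subgroup X) (p q r : ℕ) : Prop where
  hp : p.Prime
  hq : q.Prime
  hr : r.Prime
  hpq : p ≠ q
  hpr : p ≠ r
  hqr : q ≠ r
  hr3 : 3 ≤ r
  hpodd : Odd p
  Vcomm : ∀ a ∈ V, ∀ b ∈ V, a * b = b * a
  Vexp : ∀ a ∈ V, a ^ p = 1
  hQ : IsPGroup q Q
  hP : IsPGroup p P
  hR₀ : Nat.card R₀ = r
  QV : Q ≤ normalizer (V : Set X)
  PV : P ≤ normalizer (V : Set X)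
  RV : R₀ ≤ normalizer (V : Set X)
  PQ : P ≤ normalizer (Q : Set X)
  RQ : R₀ ≤ normalizer (Q : Set X)
  RP : R₀ ≤ normalizer (P : Set X)
  CQV : Q ⊓ centralizer (V : Set X) = ⊥
  CPV : P ⊓ centralizer (V : Set X) = ⊥
  CPQ : P ⊓ centralizer (Q : Set X) = ⊥
  CVQ : V ⊓ centralizer (Q : Set X) = ⊥
  CVR : Nat.card ↥(V ⊓ centralizer (R₀ : Set X)) = p
  CQR : IsCyclic ↥(Q ⊓ centralizer (R₀ : Set X))
  CPR : P ⊓ centralizer (R₀ : Set X) = ⊥
  P1 : P ≠ ⊥
  QP : ⁅Q, P⁆ = Q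

end Cfsg.Agent.Helper29.BG36
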