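import Cfsg.Agent.Helper29.BG36I
import Cfsg.Agent.Helper4.BG36L2
import Cfsg.Agent.Helper26.BG36L3

/-!
# B&G Theorem 3.6 (S1444), part J: the contradiction and the induction
-/

set_option autoImplicit false

namespace Cfsg.Agent.Helper29.BG36

open Subgroup Cfsg.Agent.Lead
open scoped commutatorElement Pointwise

universe u

section
variable {X : Type*} [Group X] [Finite X] [Group.IsSolvable X] {p q : ℕ} [hp : Fact p.Prime]
  {H R R₀ Q P : Subgroup X}

theorem Cfg2.false (c : Cfg2 p q H R R₀ Q P) (hodd : Odd (Nat.card X)) : False := by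
  have h := c.endCfg hodd
  by_cases hcomm : ∀ a ∈ Q, ∀ b ∈ Q, a * b = b * a
  · exact Cfsg.Agent.Helper4.BG36L2.endCfg_abelian_false _ _ _ _ _ _ _ h hcomm (c.Qexp hcomm)
  · exact Cfsg.Agent.Helper26.BG36L3.endCfg_nonabelian_false _ _ _ _ _ _ _ h hcomm (c.PZ hcomm)
      c.Qcl c.Qpow

theorem Ctx.false (c : Ctx p H R R₀) (hodd : Odd (Nat.card X)) : False := by
  obtain ⟨q, Q, P, hq, hQH, hPH, hQ, hQcop, hP, hRQ, hRP, hPQ, hfac⟩ := c.exists_QP
  exact (Cfg2.mk c hq hQH hPH hQ hQcop hP hRQ hRP hPQ hfac).false hodd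

end

/-- B&G Theorem 3.6, relative form, by induction on `|H|`. -/
theorem thm36_aux (p : ℕ) [hp : Fact p.Prime] (n : ℕ) :
    ∀ (X : Type u) [Group X] [Finite X] [Group.IsSolvable X], Odd (Nat.card X) →
      ∀ H R R₀ : Subgroup X, Nat.card H = n → Hyp H R R₀ →
        Cfsg.PLengthLE p 1 ↥(⁅H, R⁆ : Subgroup X) := by
  induction n using Nat.strong_induction_on with
  | _ n ih =>
    intro X _ _ _ hodd H R R₀ hn hyp
    by_contra bad
    have c : Ctx p H R R₀ :=
      { hyp := hyp
        IHs := by
          intro H₁ h₁ hR hne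
          have hlt : Nat.card H₁ < n := by
            rw [← hn]
            apply lt_of_le_of_ne (card_le_of_le h₁)
            intro h
            exact hne (Subgroup.eq_of_le_of_card_ge h₁ h.ge)
          exact ih (Nat.card H₁) hlt X hodd H₁ R R₀ rfl (hyp.sub h₁ hR)
        IHq := by
          intro N hNH hN hHN hRN
          have hlt : Nat.card (bar N H) < n := by
            rw [← hn, ← card_bar_mul N hHN hNH]
            have h1 : 1 < Nat.card N := by
              rw [Subgroup.one_lt_card_iff_ne_bot]; exact hN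
            have h2 : 0 < Nat.card (bar N H) := Nat.card_pos
            nlinarith
          have hodd' : Odd (Nat.card (RelQ N)) := by
            apply Odd.of_dvd_nat hodd
            exact (Subgroup.card_quotient_dvd_card _).trans (card_subgroup_dvd_card _)
          exact ih (Nat.card (bar N H)) hlt (RelQ N) hodd' (bar N H) (bar N R) (bar N R₀) rfl
            (hyp.bar N hNH hHN hRN)
        bad := bad }
    exact c.false hodd

end Cfsg.Agent.Helper29.BG36
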