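import Mathlib
import Cfsg.Prelude.Def_OddOrderLocal
import Cfsg.Agent.Helper21.BG12f
import Cfsg.Agent.Helper9.BG12g
import Cfsg.Agent.Helper10.BG16B
import Cfsg.Agent.Helper4.BG12SD
import Cfsg.Agent.Helper16.BG11a
import Cfsg.Agent.Lead.PiHall
import Cfsg.Agent.Lead.CoprimeSylow

/-!
# B&G Lemma 14.6 (`σ`-partition, S1378) from the statements of 12.14, 12.15, 12.17, 14.1, 14.2, 14.3
-/

set_option autoImplicit false
set_option linter.unusedSectionVars false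
set_option linter.unusedVariables false
set_option linter.style.haveILetI false

namespace Cfsg.Agent.Helper29.BG14

open Subgroup Cfsg
open Cfsg.Agent.Helper14 (IsSylowIn cj map_cj_le_iff map_cj_mul map_cj_one map_cj_normalizer
  mem_normalizer_iff_map_cj map_cj_eq_self_of_mem le_normalizer_of_map_cj_le mem_map_cj
  exists_isSylowIn_ge exists_isSylowIn isSylowIn_of_sylow isSylowIn_iff)
open Cfsg.Agent.H9.BG12 (St1423)
open Cfsg.Agent.Helper10.BG16 (St1430 St1431 St1432)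

universe u

/-- frozen statement S1424 -/
def St1424 (G : Type u) [Group G] : Prop :=
  ∀ (M : Subgroup G), IsCoatom M → ∀ (q : ℕ) [Fact q.Prime], q ∈ Cfsg.sigma M → ∀ (X : Subgroup G),
    IsPGroup q X → X ≠ ⊥ → X ≤ M →
    ∀ (Mstar : Subgroup G), IsCoatom Mstar → Mstar ≠ M → Subgroup.normalizer (X : Set G) ≤ Mstar →
    ∀ (S : Sylow q ↥(M ⊓ Mstar)), X ≤ (S : Subgroup ↥(M ⊓ Mstar)).map (M ⊓ Mstar).subtype →
    (∀ g : G, Mstar ≠ M.map (MulAut.conj g).toMonoidHom) ∧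
      Subgroup.normalizer (((S : Subgroup ↥(M ⊓ Mstar)).map (M ⊓ Mstar).subtype : Subgroup G) : Set G) ≤ M ∧
      ¬ q ∣ ((S : Subgroup ↥(M ⊓ Mstar)).map (M ⊓ Mstar).subtype).relIndex Mstar

/-- frozen statement S1426 -/
def St1426 (G : Type u) [Group G] : Prop :=
  ∀ (M : Subgroup G), IsCoatom M → ∀ (E : Subgroup G), Cfsg.IsComplIn E (Cfsg.sigmaCore M) M →
    Cfsg.sigmaCore M ⊓ Subgroup.centralizer (E : Set G) ≤ ⁅Cfsg.sigmaCore M, Cfsg.sigmaCore M⁆ ∧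
      ⁅Cfsg.sigmaCore M, E⁆ = Cfsg.sigmaCore M ∧
      ∀ g : G, g ∉ M → IsCyclic ↥(Cfsg.sigmaCore M ⊓ M.map (MulAut.conj g).toMonoidHom) ∧
        (∀ p : ℕ, p.Prime → p ∣ Nat.card ↥(Cfsg.sigmaCore M ⊓ M.map (MulAut.conj g).toMonoidHom) → p ∉ Cfsg.beta M) ∧
        Cfsg.sigmaCore M ⊓ M.map (MulAut.conj g).toMonoidHom ⊓ ⁅Cfsg.sigmaCore M, Cfsg.sigmaCore M⁆ = ⊥

/-- frozen statement S1429 -/
def St1429 (G : Type u) [Group G] : Prop :=
  ∀ (M : Subgroup G), IsCoatom M →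
    ¬ (∀ q : ℕ, q.Prime → q ∣ Nat.card M → q ∉ Cfsg.sigma M → q ∈ Cfsg.kappa M) →
    ∀ (p : ℕ) [Fact p.Prime], p ∣ Nat.card M → p ∉ Cfsg.sigma M ∪ Cfsg.kappa M → ∀ (S : Sylow p M),
    Nat.card ↥(Subgroup.closure {x : G | x ∈ (S : Subgroup M).map M.subtype ∧ x ^ p = 1}) ≤ p ^ 2 ∧
      Cfsg.sigmaCore M ⊓ Subgroup.centralizer ((Subgroup.closure {x : G | x ∈ (S : Subgroup M).map M.subtype ∧ x ^ p = 1} : Subgroup G) : Set G) = ⊥ ∧
      Group.IsNilpotent (Cfsg.sigmaCore M)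

variable {G : Type u} [Group G] [Finite G]

/-- if `M_σ` is not nilpotent, every prime of `|M|` outside `σ(M)` lies in `κ(M)` (from 14.1) -/
theorem all_kappa_of_not_nilpotent (h1429 : St1429 G) {M : Subgroup G} (hM : IsCoatom M)
    (hnn : ¬ Group.IsNilpotent ↥(Cfsg.sigmaCore M)) :
    ∀ q : ℕ, q.Prime → q ∣ Nat.card M → q ∉ Cfsg.sigma M → q ∈ Cfsg.kappa M := by
  by_contra h
  have h' := h
  push Not at h'
  obtain ⟨p, hp, hpM, hpσ, hpκ⟩ := h'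
  haveI : Fact p.Prime := ⟨hp⟩
  obtain ⟨S⟩ : Nonempty (Sylow p ↥M) := inferInstance
  have := h1429 M hM h p hpM (by
    intro hmem
    rcases hmem with h1 | h1
    · exact hpσ h1
    · exact hpκ h1) S
  exact hnn this.2.2

theorem st1350 (hG : Cfsg.IsMinSimpleOddOrder G) : Cfsg.Agent.H9.BG12.St1350 G :=
  fun M hM => Cfsg.Agent.S1350.result hG M hM

/-- a complement of `M_σ` in `M` is not trivial -/
theorem compl_ne_bot (hG : Cfsg.IsMinSimpleOddOrder G) {M K : Subgroup G} (hM : IsCoatom M)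
    (hK : Cfsg.IsComplIn K (Cfsg.sigmaCore M) M) : K ≠ ⊥ := by
  intro h0
  have h1 : M ≤ Cfsg.sigmaCore M := by
    intro m hm
    obtain ⟨a, ha, b, hb, rfl⟩ := hK.2.2.2 m hm
    rw [h0, Subgroup.mem_bot] at ha
    rw [ha, one_mul]; exact hb
  have h2 := Cfsg.Agent.Helper21.BG10.sigmaCore_le_commutator hG (Cfsg.Agent.Helper21.BG12.ctl hG) hM
  have h3 : M ≤ ⁅M, M⁆ := h1.trans h2
  have hne := Cfsg.Agent.Helper10.BG16.sigmaCore_ne_bot hG (Cfsg.Agent.Helper21.BG12.st1350 hG)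
    (Cfsg.Agent.Helper21.BG12.uniq96 hG) hM
  haveI : Group.IsSolvable ↥M := hG.2.2.2 M hM.1
  haveI : Nontrivial ↥M := by
    rw [Subgroup.nontrivial_iff_ne_bot]
    intro hb
    apply hne
    rw [eq_bot_iff, ← hb]
    exact Cfsg.Agent.H9.BG12.sigmaCore_le M
  have h4 : commutator ↥M < ⊤ := Group.IsSolvable.commutator_lt_top_of_nontrivial ↥M
  apply h4.ne
  rw [eq_top_iff]
  intro x _
  have hx : (x : G) ∈ ⁅M, M⁆ := h3 x.2
  rw [← Subgroup.map_subtype_commutator] at hx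
  obtain ⟨y, hy, hyx⟩ := hx
  have : y = x := Subtype.ext hyx
  rw [← this]; exact hy

/-- type `P₁`: if `M_σ` is not nilpotent, a complement `K` of `M_σ` in `M` is a nontrivial Hall
`κ(M)`-subgroup -/
theorem exists_P1 (hG : Cfsg.IsMinSimpleOddOrder G) (h1429 : St1429 G) {M : Subgroup G}
    (hM : IsCoatom M) (hnn : ¬ Group.IsNilpotent ↥(Cfsg.sigmaCore M)) {K : Subgroup G}
    (hK : Cfsg.IsComplIn K (Cfsg.sigmaCore M) M) :
    Cfsg.IsPiHallOf (Cfsg.kappa M) K M ∧ K ≠ ⊥ := by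
  have hall := all_kappa_of_not_nilpotent h1429 hM hnn
  have hH := Cfsg.Agent.H9.BG12.isPiHallOf_compl (st1350 hG) hM hK
  refine ⟨⟨hH.1, ?_, ?_⟩, compl_ne_bot hG hM hK⟩
  · intro p hp hd
    exact hall p hp (hd.trans (Subgroup.card_dvd_of_le hH.1)) (hH.2.1 p hp hd)
  · intro p hp hpκ
    exact hH.2.2 p hp hpκ.2.2.1

theorem centralizer_zpowers (y : G) :
    centralizer ((zpowers y : Subgroup G) : Set G) = centralizer ({y} : Set G) := by
  apply le_antisymm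
  · apply Subgroup.centralizer_le
    rw [Set.singleton_subset_iff]
    exact mem_zpowers y
  · intro z hz
    rw [mem_centralizer_iff] at hz ⊢
    intro w hw
    obtain ⟨k, rfl⟩ := mem_zpowers_iff.mp hw
    have h1 : y * z = z * y := hz y rfl
    exact (Commute.zpow_left (show Commute y z from h1) k).eq

theorem card_ne_one_of_ne_bot {X : Subgroup G} (h : X ≠ ⊥) : Nat.card X ≠ 1 :=
  fun h1 => h (Subgroup.card_eq_one.mp h1)

/-- a subgroup of prime order `s` with a chosen generator inside a subgroup whose order is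
divisible by `s` -/
theorem exists_zpowers_of_dvd {A : Subgroup G} {s : ℕ} [hs : Fact s.Prime] (hd : s ∣ Nat.card A) :
    ∃ y ∈ A, orderOf y = s ∧ y ≠ 1 ∧ Nat.card (zpowers y) = s ∧ zpowers y ≤ A := by
  obtain ⟨y, hy⟩ := exists_prime_orderOf_dvd_card' s hd
  have h1 : orderOf (y : G) = s := by rw [Subgroup.orderOf_coe]; exact hy
  refine ⟨y, y.2, h1, ?_, ?_, ?_⟩
  · intro h; rw [h, orderOf_one] at h1; exact hs.out.one_lt.ne h1
  · rw [Nat.card_zpowers, h1]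
  · rw [zpowers_le]; exact y.2

theorem isPGroup_of_card_prime {s : ℕ} [hs : Fact s.Prime] {Y : Subgroup G} (h : Nat.card Y = s) :
    IsPGroup s Y := IsPGroup.of_card (n := 1) (by rw [h, pow_one])

theorem ne_bot_of_card_prime {s : ℕ} [hs : Fact s.Prime] {Y : Subgroup G} (h : Nat.card Y = s) :
    Y ≠ ⊥ := by
  intro h0
  rw [h0, Subgroup.card_bot] at h
  exact hs.out.one_lt.ne h

/-- **Lemma N**: subgroups of prime order of `K* = C_{B_σ}(K)` (`K` a complement of `B_σ`) have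
their normalizer in `B` and `𝓜(C_G(Y)) = {B}` -/
theorem normalizer_le_of_kstar (hG : Cfsg.IsMinSimpleOddOrder G) (h1423 : St1423 G)
    (h1426 : St1426 G) {B K : Subgroup G} (hB : IsCoatom B)
    (hK : Cfsg.IsComplIn K (Cfsg.sigmaCore B) B) {s : ℕ} [hs : Fact s.Prime] {Y : Subgroup G}
    (hY : Y ≤ Cfsg.sigmaCore B ⊓ centralizer (K : Set G)) (hYs : Nat.card Y = s) :
    s ∈ Cfsg.sigma B ∧ normalizer (Y : Set G) ≤ B ∧
      ∀ L : Subgroup G, IsCoatom L → centralizer (Y : Set G) ≤ L → L = B := by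
  have hYσ : Y ≤ Cfsg.sigmaCore B := hY.trans inf_le_left
  have hYB : Y ≤ B := hYσ.trans (Cfsg.Agent.H9.BG12.sigmaCore_le B)
  have hsσ : s ∈ Cfsg.sigma B :=
    Cfsg.Agent.H9.BG12.mem_sigma_of_dvd_card_sigmaCore hs.out
      (hYs ▸ Subgroup.card_dvd_of_le hYσ)
  obtain ⟨P⟩ : Nonempty (Sylow s ↥(Cfsg.sigmaCore B)) := inferInstance
  have h1 := (h1423 B hB s hsσ Y hYB hYs P (Or.inr (hY.trans (h1426 B hB K hK).1))).1
  refine ⟨hsσ, ?_, h1.2⟩
  have hY1 : Y ≠ ⊥ := ne_bot_of_card_prime hYs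
  have hYt : Y ≠ ⊤ := fun h => hB.1 (top_le_iff.mp (h ▸ hYB))
  have hN := Cfsg.Agent.Lead.TT.normalizer_ne_top_of_simple hG.2.1 hY1 hYt
  obtain ⟨L, hL, hNL⟩ := (eq_top_or_exists_le_coatom _).resolve_left hN
  have := h1.2 L hL ((Subgroup.centralizer_le_normalizer _).trans hNL)
  rw [← this]; exact hNL

/-- **Lemma U**: `A ≠ B` maximal, `K` a nontrivial Hall `κ(B)`-subgroup of `B`, `s ∈ σ(A)` a prime
dividing `|C_{B_σ}(K)|`, `Y ≠ 1` an `s`-subgroup of `A` with `N_G(Y) ≤ B`: impossible. -/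
theorem false_of_sigma_kstar (hG : Cfsg.IsMinSimpleOddOrder G) (h1424 : St1424 G)
    (h1431 : St1431 G) {A B K : Subgroup G} (hA : IsCoatom A) (hB : IsCoatom B) (hAB : A ≠ B)
    (hK : Cfsg.IsPiHallOf (Cfsg.kappa B) K B) (hK1 : K ≠ ⊥) {s : ℕ} [hs : Fact s.Prime]
    (hsA : s ∈ Cfsg.sigma A)
    (hsK : s ∣ Nat.card ↥(Cfsg.sigmaCore B ⊓ centralizer (K : Set G)))
    {Y : Subgroup G} (hYs : IsPGroup s Y) (hY1 : Y ≠ ⊥) (hYA : Y ≤ A)
    (hNY : normalizer (Y : Set G) ≤ B) : False := by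
  have hYB : Y ≤ B := Subgroup.le_normalizer.trans hNY
  obtain ⟨S₁, hS₁, hYS₁⟩ := exists_isSylowIn_ge (le_inf hYA hYB) hYs
  have h1 := h1424 A hA s hsA Y hYs hY1 hYA B hB (Ne.symm hAB) hNY hS₁.toSylow
    (by rw [hS₁.toSylow_map]; exact hYS₁)
  rw [hS₁.toSylow_map] at h1
  have hS₁B : IsSylowIn s S₁ B :=
    Cfsg.Agent.Helper10.isSylowIn_of_not_dvd_relIndex (hS₁.1.trans inf_le_right) hS₁.2.1 h1.2.2
  have hsB : s ∈ Cfsg.sigma B :=
    Cfsg.Agent.H9.BG12.mem_sigma_of_dvd_card_sigmaCore hs.out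
      (hsK.trans (Subgroup.card_dvd_of_le inf_le_left))
  have hS₁σ : S₁ ≤ Cfsg.sigmaCore B :=
    Cfsg.Agent.Helper4.BG12SD.isSylowIn_le_sigmaCore hG hB hsB hS₁B
  have hS₁σ' : IsSylowIn s S₁ (Cfsg.sigmaCore B) :=
    ⟨hS₁σ, hS₁.2.1, fun Q hQ hQs hle =>
      hS₁B.2.2 Q (hQ.trans (Cfsg.Agent.H9.BG12.sigmaCore_le B)) hQs hle⟩
  have h2 := ((h1431 B hB K hK hK1).2.2.1 s hs.out hsK hS₁σ'.toSylow).1
  rw [hS₁σ'.toSylow_map] at h2
  exact hAB (h2.unique ⟨hA, hS₁.1.trans inf_le_left⟩ ⟨hB, hS₁.1.trans inf_le_right⟩)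

/-- **Lemma κ**: `x₁ ∈ A_σ^#`, `y ∈ C_A(x₁)` of prime order `s ∉ σ(A)` with `C_G(y) ≤ B ≠ A`:
then `s ∈ κ(A)`. -/
theorem mem_kappa_of_centralizer_le (h1432 : St1432 G) {A B : Subgroup G} (hA : IsCoatom A)
    (hB : IsCoatom B) (hAB : A ≠ B) {x₁ : G} (hx₁ : x₁ ∈ Cfsg.sigmaCore A) (hx₁1 : x₁ ≠ 1)
    {y : G} (hyA : y ∈ A) (hyx : y * x₁ = x₁ * y) {s : ℕ} [hs : Fact s.Prime]
    (hys : orderOf y = s) (hsA : s ∉ Cfsg.sigma A)
    (hCy : centralizer ({y} : Set G) ≤ B) : s ∈ Cfsg.kappa A := by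
  have hy1 : y ≠ 1 := by
    intro h; rw [h, orderOf_one] at hys; exact hs.out.one_lt.ne hys
  have hmem : y ∈ A ⊓ centralizer ({x₁} : Set G) := by
    refine ⟨hyA, ?_⟩
    show y ∈ centralizer _
    rw [mem_centralizer_iff]
    intro z hz
    rw [Set.mem_singleton_iff] at hz
    subst hz
    exact hyx.symm
  have hσ : ∀ p : ℕ, p.Prime → p ∣ orderOf y → p ∉ Cfsg.sigma A := by
    intro p hp hd
    rw [hys] at hd
    rw [(Nat.prime_dvd_prime_iff_eq hp hs.out).mp hd]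
    exact hsA
  rcases h1432 A hA x₁ hx₁ hx₁1 y hmem hy1 hσ with h | h
  · exact h.1 s hs.out (by rw [hys])
  · exact absurd (h.2.2.2 B hB hCy).symm hAB

/-- if `H` has a normal `q`-complement, a `q'`-element of `H` normalizing a `q`-subgroup `S ≤ H`
centralizes it -/
theorem commute_of_hasNormalPComplement {H S : Subgroup G} {q : ℕ} [hq : Fact q.Prime]
    (hW : Cfsg.HasNormalPComplement q ↥H) (hSH : S ≤ H) (hS : IsPGroup q S) {x : G} (hxH : x ∈ H)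
    (hxq : (orderOf x).Coprime q) (hxS : x ∈ normalizer (S : Set G)) :
    ∀ s ∈ S, s * x = x * s := by
  obtain ⟨P, W, hWn, hWc⟩ := hW
  haveI := hWn
  have hidx : W.index = Nat.card P := hWc.symm.index_eq_card
  have hidx' : P.index = Nat.card W := hWc.index_eq_card
  obtain ⟨n, hn⟩ := IsPGroup.iff_card.mp P.isPGroup'
  have hx'W : (⟨x, hxH⟩ : ↥H) ∈ W := by
    have h1 : zpowers (⟨x, hxH⟩ : ↥H) ≤ W := Cfsg.Agent.H9.BG12.le_of_coprime_card_index (by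
      rw [Nat.card_zpowers, hidx, hn]
      have h2 : orderOf (⟨x, hxH⟩ : ↥H) = orderOf x := (Subgroup.orderOf_coe (⟨x, hxH⟩ : ↥H)).symm
      rw [h2]; exact Nat.Coprime.pow_right n hxq)
    exact h1 (mem_zpowers _)
  intro s hs
  have hc'W : (⟨s, hSH hs⟩ : ↥H) * ⟨x, hxH⟩ * (⟨s, hSH hs⟩ : ↥H)⁻¹ * (⟨x, hxH⟩ : ↥H)⁻¹ ∈ W :=
    W.mul_mem (hWn.conj_mem _ hx'W _) (W.inv_mem hx'W)
  have hcS : s * x * s⁻¹ * x⁻¹ ∈ S := by
    have h1 : x * s⁻¹ * x⁻¹ ∈ S := (mem_normalizer_iff.mp hxS s⁻¹).mp (S.inv_mem hs)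
    have h2 := S.mul_mem hs h1
    have h3 : s * (x * s⁻¹ * x⁻¹) = s * x * s⁻¹ * x⁻¹ := by group
    rw [← h3]; exact h2
  have hc1 : s * x * s⁻¹ * x⁻¹ = 1 := by
    have ho1 : orderOf (s * x * s⁻¹ * x⁻¹) ∣ Nat.card W := by
      have h1 := orderOf_dvd_natCard (⟨_, hc'W⟩ : ↥W)
      rw [← Subgroup.orderOf_coe, ← Subgroup.orderOf_coe] at h1
      exact h1
    obtain ⟨k, hk⟩ := hS ⟨_, hcS⟩
    have ho2 : orderOf (s * x * s⁻¹ * x⁻¹) ∣ q ^ k := by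
      apply orderOf_dvd_of_pow_eq_one
      have := congrArg (fun z : ↥S => (z : G)) hk
      simpa using this
    have hcop : (q ^ k).Coprime (Nat.card W) := by
      apply Nat.Coprime.pow_left
      rw [Nat.Prime.coprime_iff_not_dvd hq.out, ← hidx']
      exact P.not_dvd_index
    have := Nat.eq_one_of_dvd_coprimes hcop ho2 ho1
    exact orderOf_eq_one_iff.mp this
  have : s * x = (s * x * s⁻¹ * x⁻¹) * (x * s) := by group
  rw [this, hc1, one_mul]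

theorem mem_centralizer_singleton {x y : G} : y ∈ centralizer ({x} : Set G) ↔ x * y = y * x := by
  rw [mem_centralizer_iff]
  constructor
  · intro h; exact h x rfl
  · intro h z hz
    rw [Set.mem_singleton_iff] at hz
    subst hz; exact h

/-- core of the `σ`-partition argument: `q ∈ σ(M)`, `K` a complement of `M_σ` in `M` normalizing
the Sylow `q`-subgroup `S` of `M_σ`, and `N_G(S) ≤ L` for a maximal subgroup `L` not conjugate to
`M`: impossible. -/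
theorem core (hG : Cfsg.IsMinSimpleOddOrder G) (h1423 : St1423 G) (h1424 : St1424 G)
    (h1426 : St1426 G) (h1429 : St1429 G) (h1430 : St1430 G) (h1431 : St1431 G) (h1432 : St1432 G)
    {M L : Subgroup G} (hM : IsCoatom M) (hL : IsCoatom L) (hnc : ∀ g : G, L ≠ M.map (cj g))
    {q : ℕ} [hq : Fact q.Prime] (hqM : q ∈ Cfsg.sigma M) {K : Subgroup G}
    (hKc : Cfsg.IsComplIn K (Cfsg.sigmaCore M) M) {S : Subgroup G}
    (hS : IsSylowIn q S (Cfsg.sigmaCore M)) (hKS : K ≤ normalizer (S : Set G))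
    (hNSL : normalizer (S : Set G) ≤ L) : False := by
  have h1350 := st1350 hG
  have hU := Cfsg.Agent.Helper21.BG12.uniq hG
  have hML : M ≠ L := by
    intro h; apply hnc 1; rw [map_cj_one]; exact h.symm
  have hnc' : ∀ g : G, M ≠ L.map (cj g) := by
    intro g h
    apply hnc g⁻¹
    rw [h, Cfsg.Agent.Helper14.map_cj_map_cj_inv]
  -- facts on `S`
  have hSM : IsSylowIn q S M :=
    Cfsg.Agent.Helper4.BG12SD.isSylowIn_of_isSylowIn_sigmaCore hG hM hqM hS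
  have hStop : IsSylowIn q S ⊤ := Cfsg.Agent.Helper4.BG10.sigma_isSylowIn_top hqM hSM
  have hS1 : S ≠ ⊥ := Cfsg.Agent.Helper4.BG10.sigma_ne_bot hqM hSM
  have hSL : S ≤ L := Subgroup.le_normalizer.trans hNSL
  have hSL' : IsSylowIn q S L :=
    ⟨hSL, hS.2.1, fun Q hQ hQq hle => hStop.2.2 Q le_top hQq hle⟩
  have hqL : q ∈ Cfsg.sigma L := Cfsg.Agent.Helper16.BG11.mem_sigma_of_isSylowIn hSL' hS1 hNSL
  -- `M_σ`, `L_σ` are not nilpotent
  have hnnM : ¬ Group.IsNilpotent ↥(Cfsg.sigmaCore M) := fun hnil =>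
    Cfsg.Agent.Helper4.BG12SD.sigma_disjoint_of_nilpotent hG hL hM hnc' hnil hqM hqL
  have hnnL : ¬ Group.IsNilpotent ↥(Cfsg.sigmaCore L) := fun hnil =>
    Cfsg.Agent.Helper4.BG12SD.sigma_disjoint_of_nilpotent hG hM hL hnc hnil hqL hqM
  obtain ⟨hKH, hK1⟩ := exists_P1 hG h1429 hM hnnM hKc
  have hKM : K ≤ M := hKc.1
  have hKL : K ≤ L := hKS.trans hNSL
  -- (2) `q ∤ |K*|`
  have hqK : ¬ q ∣ Nat.card ↥(Cfsg.sigmaCore M ⊓ centralizer (K : Set G)) := by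
    intro hd
    have h2 := ((h1431 M hM K hKH hK1).2.2.1 q hq.out hd hS.toSylow).1
    rw [hS.toSylow_map] at h2
    exact hML (h2.unique ⟨hM, hSM.1⟩ ⟨hL, hSL⟩)
  have hSK : S ⊓ (Cfsg.sigmaCore M ⊓ centralizer (K : Set G)) = ⊥ := by
    apply Cfsg.Agent.Helper16.BG11.inf_eq_bot_of_primes
    intro r hr h1 h2
    have := Cfsg.Agent.Helper10.BG16.prime_eq_of_dvd_card_pGroup hS.2.1 hr h1
    subst this
    exact hqK h2
  have hSk : ∀ k ∈ K, k ≠ 1 → S ⊓ centralizer ({k} : Set G) = ⊥ := by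
    intro k hk hk1
    have h1 := (h1430 M hM K hKH hK1).1 k hk hk1
    rw [eq_bot_iff, ← hSK]
    intro z hz
    refine ⟨hz.1, ?_⟩
    rw [← h1]
    exact ⟨hS.1 hz.1, hz.2⟩
  -- (3) `π(K) ∩ σ(L) = ∅`
  have h3 : ∀ p₁ : ℕ, p₁.Prime → p₁ ∣ Nat.card K → p₁ ∉ Cfsg.sigma L := by
    intro p₁ hp₁ hd hp₁L
    haveI : Fact p₁.Prime := ⟨hp₁⟩
    obtain ⟨x, hxK, hxo, hx1, hXcard, hXK⟩ := exists_zpowers_of_dvd hd
    have hXL : zpowers x ≤ Cfsg.sigmaCore L :=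
      Cfsg.Agent.H9.BG12.le_sigmaCore_of_isPGroup h1350 hL hp₁L (hXK.trans hKL)
        (isPGroup_of_card_prime hXcard)
    have hxLσ : x ∈ Cfsg.sigmaCore L := hXL (mem_zpowers x)
    have hSLσ : S ≤ Cfsg.sigmaCore L :=
      Cfsg.Agent.H9.BG12.le_sigmaCore_of_isPGroup h1350 hL hqL hSL hS.2.1
    have hqβ : q ∉ Cfsg.beta L := fun hb =>
      Cfsg.Agent.H9.BG12.not_mem_sigma_of_mem_beta hG hU hM hL hnc hb hqM
    have hW := ((Cfsg.Agent.S1414.result hG L hL).2.2.2.2 q hq.out hqL.2.1 hqβ).2.1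
    have hne : p₁ ≠ q := by
      rintro rfl; exact (hKH.2.1 p₁ hp₁ hd).2.2.1 hqM
    have hcomm := commute_of_hasNormalPComplement hW hSLσ hS.2.1 hxLσ
      (by rw [hxo]; exact (Nat.coprime_primes hp₁ hq.out).mpr hne) (hKS hxK)
    apply hS1
    rw [eq_bot_iff, ← hSk x hxK hx1]
    intro s hs
    exact ⟨hs, mem_centralizer_singleton.mpr (hcomm s hs).symm⟩
  -- (4) the maximal subgroup `M*`
  obtain ⟨p₁, hp₁, hd₁⟩ := Nat.exists_prime_and_dvd (card_ne_one_of_ne_bot hK1)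
  haveI : Fact p₁.Prime := ⟨hp₁⟩
  obtain ⟨x₁, hx₁K, hx₁o, hx₁1, hX₁card, hX₁K⟩ := exists_zpowers_of_dvd hd₁
  have hX₁1 : zpowers x₁ ≠ ⊥ := ne_bot_of_card_prime hX₁card
  have hX₁t : zpowers x₁ ≠ ⊤ := fun h => hM.1 (top_le_iff.mp (h ▸ hX₁K.trans hKM))
  obtain ⟨Ms, hMs, hNMs⟩ := (eq_top_or_exists_le_coatom _).resolve_left
    (Cfsg.Agent.Lead.TT.normalizer_ne_top_of_simple hG.2.1 hX₁1 hX₁t)
  have hX₁σ : zpowers x₁ ≤ Cfsg.sigmaCore Ms :=
    ((h1430 M hM K hKH hK1).2.2 (zpowers x₁) hX₁K (hX₁card ▸ hp₁)).2.2 Ms hMs hNMs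
  have hp₁Ms : p₁ ∈ Cfsg.sigma Ms :=
    Cfsg.Agent.H9.BG12.mem_sigma_of_dvd_card_sigmaCore hp₁
      (hX₁card ▸ Subgroup.card_dvd_of_le hX₁σ)
  have hp₁M : p₁ ∉ Cfsg.sigma M := (hKH.2.1 p₁ hp₁ hd₁).2.2.1
  have hMsM : Ms ≠ M := by rintro rfl; exact hp₁M hp₁Ms
  have hMsL : Ms ≠ L := by rintro rfl; exact h3 p₁ hp₁ hd₁ hp₁Ms
  have hCX₁ : centralizer ((zpowers x₁ : Subgroup G) : Set G) ≤ Ms :=
    (Subgroup.centralizer_le_normalizer _).trans hNMs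
  -- the complement `K_L ≥ K` of `L_σ` in `L`
  have hKLσ : K ⊓ Cfsg.sigmaCore L = ⊥ := by
    apply Cfsg.Agent.Helper16.BG11.inf_eq_bot_of_primes
    intro r hr h1 h2
    exact h3 r hr h1 (Cfsg.Agent.H9.BG12.mem_sigma_of_dvd_card_sigmaCore hr h2)
  obtain ⟨KL, hKLc, hKKL⟩ :=
    Cfsg.Agent.Helper21.BG12.exists_complIn_sigmaCore_ge hG hL hKL hKLσ
  obtain ⟨hKLH, hKL1⟩ := exists_P1 hG h1429 hL hnnL hKLc
  have hKst1 : Cfsg.sigmaCore M ⊓ centralizer (K : Set G) ≠ ⊥ :=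
    Cfsg.Agent.Helper10.BG16.kstar_ne_bot h1430 hM hKH hK1
  have hKLst1 : Cfsg.sigmaCore L ⊓ centralizer (KL : Set G) ≠ ⊥ :=
    Cfsg.Agent.Helper10.BG16.kstar_ne_bot h1430 hL hKLH hKL1
  have hKstMs : Cfsg.sigmaCore M ⊓ centralizer (K : Set G) ≤ Ms :=
    (inf_le_right.trans (Subgroup.centralizer_le (by exact_mod_cast hX₁K))).trans hCX₁
  have hKLstMs : Cfsg.sigmaCore L ⊓ centralizer (KL : Set G) ≤ Ms :=
    (inf_le_right.trans (Subgroup.centralizer_le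
      (by exact_mod_cast hX₁K.trans hKKL))).trans hCX₁
  have hx₁Msσ : x₁ ∈ Cfsg.sigmaCore Ms := hX₁σ (mem_zpowers x₁)
  -- (5) the primes of `K*` and `K_L*` lie in `κ(M*)`
  have h5M : ∀ s : ℕ, s.Prime → s ∣ Nat.card ↥(Cfsg.sigmaCore M ⊓ centralizer (K : Set G)) →
      s ∈ Cfsg.kappa Ms := by
    intro s hs hd
    haveI : Fact s.Prime := ⟨hs⟩
    obtain ⟨y, hyK, hyo, hy1, hYcard, hYK⟩ := exists_zpowers_of_dvd hd
    obtain ⟨hsM, hNY, huniq⟩ := normalizer_le_of_kstar hG h1423 h1426 hM hKc hYK hYcard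
    have hsMs : s ∉ Cfsg.sigma Ms := fun hsMs =>
      false_of_sigma_kstar hG h1424 h1431 hMs hM hMsM hKH hK1 hsMs hd
        (isPGroup_of_card_prime hYcard) (ne_bot_of_card_prime hYcard) (hYK.trans hKstMs) hNY
    refine mem_kappa_of_centralizer_le h1432 hMs hM hMsM hx₁Msσ hx₁1 (hKstMs hyK) ?_ hyo hsMs ?_
    · have := (mem_centralizer_iff.mp hyK.2) x₁ hx₁K
      exact this.symm
    · rw [← centralizer_zpowers]
      exact (Subgroup.centralizer_le_normalizer _).trans hNY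
  have h5L : ∀ s : ℕ, s.Prime → s ∣ Nat.card ↥(Cfsg.sigmaCore L ⊓ centralizer (KL : Set G)) →
      s ∈ Cfsg.kappa Ms := by
    intro s hs hd
    haveI : Fact s.Prime := ⟨hs⟩
    obtain ⟨y, hyK, hyo, hy1, hYcard, hYK⟩ := exists_zpowers_of_dvd hd
    obtain ⟨hsM, hNY, huniq⟩ := normalizer_le_of_kstar hG h1423 h1426 hL hKLc hYK hYcard
    have hsMs : s ∉ Cfsg.sigma Ms := fun hsMs =>
      false_of_sigma_kstar hG h1424 h1431 hMs hL hMsL hKLH hKL1 hsMs hd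
        (isPGroup_of_card_prime hYcard) (ne_bot_of_card_prime hYcard) (hYK.trans hKLstMs) hNY
    refine mem_kappa_of_centralizer_le h1432 hMs hL hMsL hx₁Msσ hx₁1 (hKLstMs hyK) ?_ hyo hsMs ?_
    · have := (mem_centralizer_iff.mp hyK.2) x₁ (hKKL hx₁K)
      exact this.symm
    · rw [← centralizer_zpowers]
      exact (Subgroup.centralizer_le_normalizer _).trans hNY
  -- (6) the Hall `κ(M*)`-subgroup `K♯ ≥ K*`
  have hsolvMs : Group.IsSolvable ↥Ms := hG.2.2.2 Ms hMs.1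
  obtain ⟨Ksh, hKsh, hKstKsh⟩ :=
    Cfsg.Agent.Lead.exists_isPiHallOf_ge (π := Cfsg.kappa Ms) hsolvMs hKstMs h5M
  have hKsh1 : Ksh ≠ ⊥ := fun h => hKst1 (eq_bot_iff.mpr (h ▸ hKstKsh))
  obtain ⟨s, hs, hds⟩ := Nat.exists_prime_and_dvd (card_ne_one_of_ne_bot hKst1)
  haveI : Fact s.Prime := ⟨hs⟩
  obtain ⟨y, hyK, hyo, hy1, hYcard, hYK⟩ := exists_zpowers_of_dvd hds
  obtain ⟨hsM, hNY, -⟩ := normalizer_le_of_kstar hG h1423 h1426 hM hKc hYK hYcard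
  have h6 := ((h1430 Ms hMs Ksh hKsh hKsh1).2.2 (zpowers y) (hYK.trans hKstKsh)
    (hYcard ▸ hs)).1
  have hKshM : Ksh ≤ M := by
    have h7 : Ksh ≤ Ms ⊓ normalizer ((zpowers y : Subgroup G) : Set G) := by
      rw [h6]; exact le_sup_left
    exact (h7.trans inf_le_right).trans hNY
  obtain ⟨m, hm, hmle⟩ :=
    Cfsg.Agent.H9.BG12.exists_conj_le_of_hall hsolvMs hKsh hKLstMs h5L
  obtain ⟨s', hs', hds'⟩ := Nat.exists_prime_and_dvd (card_ne_one_of_ne_bot hKLst1)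
  haveI : Fact s'.Prime := ⟨hs'⟩
  obtain ⟨y', hy'K, hy'o, hy'1, hY'card, hY'K⟩ := exists_zpowers_of_dvd hds'
  obtain ⟨hs'L, hNY', -⟩ := normalizer_le_of_kstar hG h1423 h1426 hL hKLc hY'K hY'card
  have hM₁ : IsCoatom (M.map (cj m⁻¹)) := Cfsg.Agent.Lead.BG9.isCoatom_map_cj hM m⁻¹
  have hY'M : (zpowers y').map (cj m) ≤ M := ((Subgroup.map_mono hY'K).trans hmle).trans hKshM
  have hY'M₁ : zpowers y' ≤ M.map (cj m⁻¹) := (map_cj_le_iff _ _ _).mp hY'M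
  have hs'dM : s' ∣ Nat.card M := by
    have h8 := Subgroup.card_dvd_of_le hY'M
    rw [Cfsg.Agent.Helper16.BG11.card_map_cj, hY'card] at h8
    exact h8
  have hs'K : ¬ s' ∣ Nat.card K := fun hd => h3 s' hs' hd hs'L
  have hs'M : s' ∈ Cfsg.sigma M := by
    have hcard := Cfsg.Agent.H9.BG12.card_mul_of_isComplIn hKc
    rw [← hcard] at hs'dM
    rcases (Nat.Prime.dvd_mul hs').1 hs'dM with h | h
    · exact absurd h hs'K
    · exact Cfsg.Agent.H9.BG12.mem_sigma_of_dvd_card_sigmaCore hs' h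
  have hs'M₁ : s' ∈ Cfsg.sigma (M.map (cj m⁻¹)) :=
    Cfsg.Agent.Helper16.BG11.mem_sigma_map_cj m⁻¹ hs'M
  have hM₁L : M.map (cj m⁻¹) ≠ L := fun h => hnc m⁻¹ h.symm
  exact false_of_sigma_kstar hG h1424 h1431 hM₁ hL hM₁L hKLH hKL1 hs'M₁ hds'
    (isPGroup_of_card_prime hY'card) (ne_bot_of_card_prime hY'card) hY'M₁ hNY'

/-- **B&G Lemma 14.6 (`σ`-partition)**, from the statements of 12.14, 12.15, 12.17, 14.1, 14.2, 14.3:
maximal subgroups `M`, `L` with a common prime in `σ(M) ∩ σ(L)` are conjugate. -/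
theorem sigma_partition (hG : Cfsg.IsMinSimpleOddOrder G) (h1423 : St1423 G) (h1424 : St1424 G)
    (h1426 : St1426 G) (h1429 : St1429 G) (h1430 : St1430 G) (h1431 : St1431 G) (h1432 : St1432 G)
    {M L : Subgroup G} (hM : IsCoatom M) (hL : IsCoatom L) {q : ℕ} (hqM : q ∈ Cfsg.sigma M)
    (hqL : q ∈ Cfsg.sigma L) : ∃ g : G, L = M.map (cj g) := by
  by_contra hnc
  push Not at hnc
  haveI : Fact q.Prime := ⟨hqM.1⟩
  have h1350 := st1350 hG
  obtain ⟨K, hKc⟩ := Cfsg.Agent.H9.BG12.exists_complIn_sigmaCore h1350 hM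
  have hKN : K ≤ normalizer (Cfsg.sigmaCore M : Set G) :=
    hKc.1.trans (Cfsg.Agent.H9.BG12.le_normalizer_sigmaCore M)
  have hKH := Cfsg.Agent.H9.BG12.isPiHallOf_compl h1350 hM hKc
  have hcop : (Nat.card K).Coprime (Nat.card (Cfsg.sigmaCore M)) := by
    apply Nat.coprime_of_dvd
    intro r hr h1 h2
    exact hKH.2.1 r hr h1 (Cfsg.Agent.H9.BG12.mem_sigma_of_dvd_card_sigmaCore hr h2)
  have hKt : K ≠ ⊤ := fun h => hM.1 (top_le_iff.mp (h ▸ hKc.1))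
  have hsolv : Group.IsSolvable ↥K ∨ Group.IsSolvable ↥(Cfsg.sigmaCore M) :=
    Or.inl (hG.2.2.2 K hKt)
  obtain ⟨P, hP⟩ :=
    Cfsg.Agent.Lead.coprime_exists_invariant_sylow K (Cfsg.sigmaCore M) hKN hcop hsolv q
  have hS : IsSylowIn q ((P : Subgroup ↥(Cfsg.sigmaCore M)).map (Cfsg.sigmaCore M).subtype)
      (Cfsg.sigmaCore M) := isSylowIn_of_sylow P
  obtain ⟨T, hT⟩ := exists_isSylowIn (p := q) L
  have hTtop := Cfsg.Agent.Helper4.BG10.sigma_isSylowIn_top hqL hT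
  have hNT := Cfsg.Agent.Helper4.BG10.sigma_normalizer_le hqL hT
  have hSM := Cfsg.Agent.Helper4.BG12SD.isSylowIn_of_isSylowIn_sigmaCore hG hM hqM hS
  have hStop := Cfsg.Agent.Helper4.BG10.sigma_isSylowIn_top hqM hSM
  obtain ⟨g, -, hg⟩ := hTtop.exists_conj hStop
  have hL₁ := Cfsg.Agent.Lead.BG9.isCoatom_map_cj hL g
  have hNS : normalizer (((P : Subgroup ↥(Cfsg.sigmaCore M)).map
      (Cfsg.sigmaCore M).subtype : Subgroup G) : Set G) ≤ L.map (cj g) := by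
    rw [hg, ← map_cj_normalizer]; exact Subgroup.map_mono hNT
  have hnc₁ : ∀ g' : G, L.map (cj g) ≠ M.map (cj g') := by
    intro g' h
    apply hnc (g⁻¹ * g')
    rw [← map_cj_mul, ← h, Cfsg.Agent.Helper14.map_cj_map_cj_inv]
  exact core hG h1423 h1424 h1426 h1429 h1430 h1431 h1432 hM hL₁ hnc₁ hqM hKc hS hP hNS

/-- every prime divisor of `|G|` lies in `σ(M)` for some maximal subgroup `M` -/
theorem exists_mem_sigma (hG : Cfsg.IsMinSimpleOddOrder G) {p : ℕ} (hp : p.Prime)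
    (hd : p ∣ Nat.card G) : ∃ M : Subgroup G, IsCoatom M ∧ p ∈ Cfsg.sigma M := by
  haveI : Fact p.Prime := ⟨hp⟩
  haveI : IsSimpleGroup G := hG.2.1
  obtain ⟨P, hP⟩ := exists_isSylowIn (p := p) (⊤ : Subgroup G)
  have hP1 : P ≠ ⊥ := by
    intro h0
    obtain ⟨x, hx⟩ := exists_prime_orderOf_dvd_card' p hd
    have h1 : zpowers x ≤ ⊤ := le_top
    have h2 : IsPGroup p (zpowers x) := IsPGroup.of_card (n := 1) (by rw [Nat.card_zpowers, hx, pow_one])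
    obtain ⟨Q, hQ, hle⟩ := exists_isSylowIn_ge h1 h2
    obtain ⟨g, -, hg⟩ := hP.exists_conj hQ
    rw [h0, Subgroup.map_bot] at hg
    rw [hg, le_bot_iff, zpowers_eq_bot] at hle
    rw [hle, orderOf_one] at hx
    exact hp.one_lt.ne hx
  have hPt : P ≠ ⊤ := by
    intro ht
    have hpg : IsPGroup p G := by
      intro g
      obtain ⟨k, hk⟩ := hP.2.1 ⟨g, ht ▸ mem_top g⟩
      exact ⟨k, by simpa using congrArg (fun z : ↥P => (z : G)) hk⟩
    have hc : Nontrivial (center G) := hpg.center_nontrivial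
    have hct : center G = ⊤ := by
      rcases (inferInstance : (center G).Normal).eq_bot_or_eq_top with h | h
      · exact absurd h ((Subgroup.nontrivial_iff_ne_bot _).mp hc)
      · exact h
    apply hG.2.2.1
    refine ⟨⟨fun a b => ?_⟩⟩
    have ha : a ∈ center G := hct ▸ mem_top a
    exact (Subgroup.mem_center_iff.mp ha b).symm
  obtain ⟨M, hM, hNM⟩ := (eq_top_or_exists_le_coatom _).resolve_left
    (Cfsg.Agent.Lead.TT.normalizer_ne_top_of_simple hG.2.1 hP1 hPt)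
  have hPM : P ≤ M := Subgroup.le_normalizer.trans hNM
  have hPM' : IsSylowIn p P M := ⟨hPM, hP.2.1, fun Q hQ hQp hle => hP.2.2 Q le_top hQp hle⟩
  exact ⟨M, hM, Cfsg.Agent.Helper16.BG11.mem_sigma_of_isSylowIn hPM' hP1 hNM⟩

end Cfsg.Agent.Helper29.BG14
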