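import Mathlib
import Cfsg.Prelude.Def_OddOrderLocal
import Cfsg.Agent.Helper29.BG14SP
import Cfsg.Agent.Lead.BG143b

/-!
# B&G Theorem 14.4 (Theorem D), from the statements of sections 12 and 14.1-14.3
-/

set_option autoImplicit false
set_option linter.unusedSectionVars false
set_option linter.unusedVariables false
set_option linter.style.haveILetI false

namespace Cfsg.Agent.Helper29.BG14

open Subgroup Cfsg
open Cfsg.Agent.Helper14 (IsSylowIn cj map_cj_le_iff map_cj_mul map_cj_one map_cj_normalizer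
  mem_normalizer_iff_map_cj map_cj_eq_self_of_mem le_normalizer_of_map_cj_le mem_map_cj
  exists_isSylowIn_ge exists_isSylowIn isSylowIn_of_sylow isSylowIn_iff)
open Cfsg.Agent.H9.BG12 (St1423 St1420)
open Cfsg.Agent.Helper21.BG12 (St1417 St1418)
open Cfsg.Agent.Helper10.BG16 (St1430 St1431 St1432)
open Cfsg.Agent.Lead.BG143 (ppart orderOf_ppart ppart_ne_one ppart_mem ppart_comm)

universe u

/-- the frozen statements of B&G sections 12-14 used for Theorem D -/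
structure Hyp (G : Type u) [Group G] : Prop where
  hG : Cfsg.IsMinSimpleOddOrder G
  h1417 : St1417 G
  h1418 : St1418 G
  h1420 : St1420 G
  h1423 : St1423 G
  h1424 : St1424 G
  h1426 : St1426 G
  h1429 : St1429 G
  h1430 : St1430 G
  h1431 : St1431 G
  h1432 : St1432 G

variable {G : Type u} [Group G] [Finite G]

/-- decomposition of the centralizer of an element of a complement -/
theorem cent_decomp {E N L : Subgroup G} (hc : Cfsg.IsComplIn E N L)
    (hLN : L ≤ normalizer (N : Set G)) {x c : G} (hx : x ∈ E) (hcL : c ∈ L)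
    (hcx : c * x = x * c) :
    ∃ e ∈ E, ∃ n ∈ N, c = e * n ∧ e * x = x * e ∧ n * x = x * n := by
  obtain ⟨e, he, n, hn, rfl⟩ := hc.2.2.2 c hcL
  have hxL : x ∈ L := hc.1 hx
  -- w = n x n⁻¹ x⁻¹ ∈ N ∩ E
  have hwN : n * x * n⁻¹ * x⁻¹ ∈ N := by
    have h1 : x * n⁻¹ * x⁻¹ ∈ N := (mem_normalizer_iff.mp (hLN hxL) n⁻¹).mp (N.inv_mem hn)
    have h2 := N.mul_mem hn h1
    have h3 : n * (x * n⁻¹ * x⁻¹) = n * x * n⁻¹ * x⁻¹ := by group
    rw [← h3]; exact h2
  have hnx : n * x * n⁻¹ = e⁻¹ * x * e := by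
    have h1 : e * n * x = x * (e * n) := hcx
    have h2 : n * x * n⁻¹ = e⁻¹ * (e * n * x) * n⁻¹ := by group
    rw [h2, h1]; group
  have hwE : n * x * n⁻¹ * x⁻¹ ∈ E := by
    rw [hnx]
    exact E.mul_mem (E.mul_mem (E.mul_mem (E.inv_mem he) hx) he) (E.inv_mem hx)
  have hw1 : n * x * n⁻¹ * x⁻¹ = 1 := by
    have : n * x * n⁻¹ * x⁻¹ ∈ E ⊓ N := ⟨hwE, hwN⟩
    rw [hc.2.2.1, Subgroup.mem_bot] at this
    exact this
  have hnx' : n * x = x * n := by
    have h1 : n * x = (n * x * n⁻¹ * x⁻¹) * (x * n) := by group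
    rw [h1, hw1, one_mul]
  refine ⟨e, he, n, hn, rfl, ?_, hnx'⟩
  have h1 : e * n * x = x * (e * n) := hcx
  have h2 : e * x * n = x * e * n := by
    calc e * x * n = e * (x * n) := by group
      _ = e * (n * x) := by rw [hnx']
      _ = e * n * x := by group
      _ = x * (e * n) := h1
      _ = x * e * n := by group
  exact mul_right_cancel h2

/-- an element of the normal complement conjugating `x ∈ E` into `E` centralizes `x` -/
theorem comm_of_conj_mem {E N L : Subgroup G} (hc : Cfsg.IsComplIn E N L)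
    (hLN : L ≤ normalizer (N : Set G)) {x r : G} (hx : x ∈ E) (hr : r ∈ N)
    (hrx : r⁻¹ * x * r ∈ E) : r * x = x * r := by
  have hxL : x ∈ L := hc.1 hx
  have hwE : r⁻¹ * x * r * x⁻¹ ∈ E := E.mul_mem hrx (E.inv_mem hx)
  have hwN : r⁻¹ * x * r * x⁻¹ ∈ N := by
    have h1 : x * r * x⁻¹ ∈ N := (mem_normalizer_iff.mp (hLN hxL) r).mp hr
    have h2 := N.mul_mem (N.inv_mem hr) h1
    have h3 : r⁻¹ * (x * r * x⁻¹) = r⁻¹ * x * r * x⁻¹ := by group
    rw [← h3]; exact h2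
  have hw1 : r⁻¹ * x * r * x⁻¹ = 1 := by
    have : r⁻¹ * x * r * x⁻¹ ∈ E ⊓ N := ⟨hwE, hwN⟩
    rw [hc.2.2.1, Subgroup.mem_bot] at this
    exact this
  have h1 : x * r = r * (r⁻¹ * x * r * x⁻¹) * x := by group
  rw [h1, hw1, mul_one]

theorem sigma_partition' (h : Hyp G) {M L : Subgroup G} (hM : IsCoatom M) (hL : IsCoatom L) {q : ℕ}
    (hqM : q ∈ Cfsg.sigma M) (hqL : q ∈ Cfsg.sigma L) : ∃ g : G, L = M.map (cj g) :=
  sigma_partition h.hG h.h1423 h.h1424 h.h1426 h.h1429 h.h1430 h.h1431 h.h1432 hM hL hqM hqL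

/-- a maximal subgroup is self-normalizing -/
theorem normalizer_coatom (hG : Cfsg.IsMinSimpleOddOrder G) {M : Subgroup G} (hM : IsCoatom M) :
    normalizer (M : Set G) = M := by
  have hne := Cfsg.Agent.Helper10.BG16.sigmaCore_ne_bot hG (Cfsg.Agent.Helper21.BG12.st1350 hG)
    (Cfsg.Agent.Helper21.BG12.uniq96 hG) hM
  have hM1 : M ≠ ⊥ := by
    intro hb
    apply hne
    rw [eq_bot_iff, ← hb]
    exact Cfsg.Agent.H9.BG12.sigmaCore_le M
  exact Cfsg.Agent.Lead.BG9.eq_of_coatom_le hM Subgroup.le_normalizer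
    (Cfsg.Agent.Lead.TT.normalizer_ne_top_of_simple hG.2.1 hM1 hM.1)

theorem mem_of_map_cj_eq (hG : Cfsg.IsMinSimpleOddOrder G) {M : Subgroup G} (hM : IsCoatom M)
    {r : G} (hr : M.map (cj r) = M) : r ∈ M := by
  have : r ∈ normalizer (M : Set G) := mem_normalizer_iff_map_cj.mpr hr
  rw [normalizer_coatom hG hM] at this
  exact this

/-- the configuration of Theorem D for the pair `(M, L)` -/
structure DCfg (M L : Subgroup G) (q : ℕ) : Prop where
  hM : IsCoatom M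
  hL : IsCoatom L
  hnc : ∀ g : G, L ≠ M.map (cj g)
  hq : q ∈ Cfsg.tau2 L
  compl : Cfsg.IsComplIn (M ⊓ L) (Cfsg.sigmaCore L) L
  nil : Group.IsNilpotent ↥(Cfsg.sigmaCore L)

/-- **Theorem D, elements of prime order**: `y ∈ M` of prime order `q ∈ σ(M)` with
`C_G(y) ⊄ M`. -/
theorem thmD_prime (h : Hyp G) {M : Subgroup G} (hM : IsCoatom M) {q : ℕ} [hq : Fact q.Prime]
    (hqM : q ∈ Cfsg.sigma M) {y : G} (hyM : y ∈ M) (hyo : orderOf y = q)
    (hyC : ¬ centralizer ({y} : Set G) ≤ M) :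
    ∃ L : Subgroup G, DCfg M L q ∧ normalizer ((zpowers y : Subgroup G) : Set G) ≤ L := by
  have hYcard : Nat.card (zpowers y) = q := by rw [Nat.card_zpowers, hyo]
  have hY1 : zpowers y ≠ ⊥ := ne_bot_of_card_prime hYcard
  have hYM : zpowers y ≤ M := zpowers_le.mpr hyM
  have hYt : zpowers y ≠ ⊤ := fun h' => hM.1 (top_le_iff.mp (h' ▸ hYM))
  have hYp : IsPGroup q (zpowers y) := isPGroup_of_card_prime hYcard
  obtain ⟨L, hL, hNL⟩ := (eq_top_or_exists_le_coatom _).resolve_left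
    (Cfsg.Agent.Lead.TT.normalizer_ne_top_of_simple h.hG.2.1 hY1 hYt)
  have hLM : L ≠ M := by
    rintro rfl
    apply hyC
    rw [← centralizer_zpowers]
    exact (Subgroup.centralizer_le_normalizer _).trans hNL
  obtain ⟨S, hS, hYS⟩ := exists_isSylowIn_ge (le_inf hYM (Subgroup.le_normalizer.trans hNL)) hYp
  have h24 := h.h1424 M hM q hqM (zpowers y) hYp hY1 hYM L hL hLM hNL hS.toSylow
    (by rw [hS.toSylow_map]; exact hYS)
  have hnc := h24.1
  have hqL : q ∉ Cfsg.sigma L := fun hqL => by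
    obtain ⟨g, hg⟩ := sigma_partition' h hM hL hqM hqL
    exact hnc g hg
  have hNC := Cfsg.Agent.H9.BG12.nc1210_of (st1350 h.hG) h.h1420
  obtain ⟨hτ, hcompl, A, hAS, hAe, hAc⟩ := Cfsg.Agent.Helper21.BG12.lem_12_15_e13 h.hG h.h1417
    h.h1418 hNC hM hL hLM hqM hYp hY1 hYM hNL hS hYS hqL
  have hAL : A ≤ L := (hAS.trans hS.1).trans inf_le_right
  have hnil := (h.h1417 L hL q hτ A ⟨hAL, hAe, hAc⟩).1
  exact ⟨L, ⟨hM, hL, hnc, hτ, hcompl, hnil⟩, hNL⟩

namespace DCfg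

variable {M L : Subgroup G} {q : ℕ}

theorem hLN (c : DCfg M L q) : L ≤ normalizer (Cfsg.sigmaCore L : Set G) :=
  Cfsg.Agent.H9.BG12.le_normalizer_sigmaCore L

theorem inf_sigmaCore (c : DCfg M L q) : M ⊓ Cfsg.sigmaCore L = ⊥ := by
  rw [eq_bot_iff, ← c.compl.2.2.1]
  intro z hz
  exact ⟨⟨hz.1, Cfsg.Agent.H9.BG12.sigmaCore_le L hz.2⟩, hz.2⟩

theorem hML (c : DCfg M L q) : L ≠ M := by
  intro h; apply c.hnc 1; rw [map_cj_one]; exact h

/-- fusion: a conjugate of `M` by an element of `L_σ` containing `x ∈ M ∩ L` -/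
theorem comm_of_mem_conj (c : DCfg M L q) {x r : G} (hx : x ∈ M ⊓ L)
    (hr : r ∈ Cfsg.sigmaCore L) (hxr : x ∈ M.map (cj r)) : r * x = x * r := by
  apply comm_of_conj_mem c.compl c.hLN hx hr
  rw [mem_map_cj] at hxr
  exact ⟨hxr, L.mul_mem (L.mul_mem (L.inv_mem (Cfsg.Agent.H9.BG12.sigmaCore_le L hr)) hx.2)
    (Cfsg.Agent.H9.BG12.sigmaCore_le L hr)⟩

end DCfg

namespace DCfg

variable {M L : Subgroup G} {q : ℕ}

/-- fusion in the configuration of Theorem D -/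
theorem fusion (c : DCfg M L q) (hG : Cfsg.IsMinSimpleOddOrder G) [hq : Fact q.Prime]
    (hqM : q ∈ Cfsg.sigma M) {y x : G}
    (hy : y ∈ M ⊓ L) (hyo : orderOf y = q) (hCy : centralizer ({y} : Set G) ≤ L)
    (hx : x ∈ M ⊓ L) (hyx : y ∈ zpowers x) {g : G} (hxg : x ∈ M.map (cj g)) :
    ∃ r ∈ Cfsg.sigmaCore L ⊓ centralizer ({x} : Set G), M.map (cj r) = M.map (cj g) := by
  have hYcard : Nat.card (zpowers y) = q := by rw [Nat.card_zpowers, hyo]
  have hY1 : zpowers y ≠ ⊥ := ne_bot_of_card_prime hYcard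
  have hYM : zpowers y ≤ M := zpowers_le.mpr hy.1
  have hYp : IsPGroup q (zpowers y) := isPGroup_of_card_prime hYcard
  have hyg : y ∈ M.map (cj g) := (zpowers_le.mpr hxg) hyx
  have hle : (zpowers y).map (cj g⁻¹) ≤ M := by
    rw [map_cj_le_iff, inv_inv, zpowers_le]; exact hyg
  obtain ⟨m, hm, c', hc', hgc⟩ := (Cfsg.Agent.S1404.result hG M c.hM q hqM (zpowers y) hYp hY1 hYM).1
    g⁻¹ hle
  rw [centralizer_zpowers] at hc'
  have hc'L : c' ∈ L := hCy hc'
  have hc'y : c' * y = y * c' := (mem_centralizer_singleton.mp hc').symm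
  obtain ⟨e, he, n, hn, hcen, -, -⟩ := cent_decomp c.compl c.hLN hy hc'L hc'y
  have hg : g = n⁻¹ * (e⁻¹ * m⁻¹) := by
    have h1 : g = (g⁻¹)⁻¹ := (inv_inv g).symm
    rw [h1, hgc, hcen]; group
  have hem : e⁻¹ * m⁻¹ ∈ M := M.mul_mem (M.inv_mem he.1) (M.inv_mem hm)
  have hMg : M.map (cj n⁻¹) = M.map (cj g) := by
    rw [hg, ← map_cj_mul, map_cj_eq_self_of_mem hem]
  have hnσ : n⁻¹ ∈ Cfsg.sigmaCore L := (Cfsg.sigmaCore L).inv_mem hn
  refine ⟨n⁻¹, ⟨hnσ, ?_⟩, hMg⟩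
  apply mem_centralizer_singleton.mpr
  exact (c.comm_of_mem_conj hx hnσ (hMg ▸ hxg)).symm

end DCfg

theorem mem_normalizer_inf {A B : Subgroup G} {c : G} (hA : c ∈ normalizer (A : Set G))
    (hB : c ∈ normalizer (B : Set G)) : c ∈ normalizer ((A ⊓ B : Subgroup G) : Set G) := by
  rw [mem_normalizer_iff] at hA hB ⊢
  intro z
  rw [Subgroup.mem_inf, Subgroup.mem_inf, hA z, hB z]

namespace DCfg

variable {M L : Subgroup G} {q : ℕ}

/-- `C_G(x) = C_M(x) C_{L_σ}(x)` -/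
theorem cent_compl (c : DCfg M L q) {x : G} (hx : x ∈ M ⊓ L)
    (hCL : centralizer ({x} : Set G) ≤ L) :
    Cfsg.IsComplIn (M ⊓ centralizer ({x} : Set G)) (Cfsg.sigmaCore L ⊓ centralizer ({x} : Set G))
      (centralizer ({x} : Set G)) := by
  refine ⟨inf_le_right, inf_le_right, ?_, ?_⟩
  · rw [eq_bot_iff, ← c.inf_sigmaCore]
    intro z hz
    exact ⟨hz.1.1, hz.2.1⟩
  · intro z hz
    have hzx : z * x = x * z := (mem_centralizer_singleton.mp hz).symm
    obtain ⟨e, he, n, hn, hzen, hex, hnx⟩ := cent_decomp c.compl c.hLN hx (hCL hz) hzx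
    exact ⟨e, ⟨he.1, mem_centralizer_singleton.mpr hex.symm⟩, n,
      ⟨hn, mem_centralizer_singleton.mpr hnx.symm⟩, hzen⟩

theorem cent_normal (c : DCfg M L q) {x : G} (hCL : centralizer ({x} : Set G) ≤ L) :
    centralizer ({x} : Set G) ≤
      normalizer ((Cfsg.sigmaCore L ⊓ centralizer ({x} : Set G) : Subgroup G) : Set G) := by
  intro z hz
  exact mem_normalizer_inf (c.hLN (hCL hz)) (Subgroup.le_normalizer hz)

/-- the two factors have coprime orders -/
theorem cent_coprime (c : DCfg M L q) (hG : Cfsg.IsMinSimpleOddOrder G) {x : G}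
    (hCL : centralizer ({x} : Set G) ≤ L) :
    (Nat.card ↥(M ⊓ centralizer ({x} : Set G))).Coprime
      (Nat.card ↥(Cfsg.sigmaCore L ⊓ centralizer ({x} : Set G))) := by
  have hH := Cfsg.Agent.H9.BG12.isPiHallOf_compl (st1350 hG) c.hL c.compl
  apply Nat.coprime_of_dvd
  intro r hr h1 h2
  have h3 : r ∣ Nat.card ↥(M ⊓ L) :=
    h1.trans (Subgroup.card_dvd_of_le (le_inf inf_le_left (inf_le_right.trans hCL)))
  have h4 : r ∣ Nat.card ↥(Cfsg.sigmaCore L) := h2.trans (Subgroup.card_dvd_of_le inf_le_left)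
  exact hH.2.1 r hr h3 (Cfsg.Agent.H9.BG12.mem_sigma_of_dvd_card_sigmaCore hr h4)

/-- uniqueness of the element of `L_σ` conjugating `M` to a given conjugate -/
theorem conj_unique (c : DCfg M L q) (hG : Cfsg.IsMinSimpleOddOrder G) {r r' : G}
    (hr : r ∈ Cfsg.sigmaCore L) (hr' : r' ∈ Cfsg.sigmaCore L)
    (h : M.map (cj r) = M.map (cj r')) : r = r' := by
  have h1 : M.map (cj (r'⁻¹ * r)) = M := by
    rw [← map_cj_mul, h, Cfsg.Agent.Helper14.map_cj_map_cj_inv]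
  have h2 : r'⁻¹ * r ∈ M := mem_of_map_cj_eq hG c.hM h1
  have h3 : r'⁻¹ * r ∈ M ⊓ Cfsg.sigmaCore L :=
    ⟨h2, (Cfsg.sigmaCore L).mul_mem ((Cfsg.sigmaCore L).inv_mem hr') hr⟩
  rw [c.inf_sigmaCore, Subgroup.mem_bot] at h3
  have : r = r' * (r'⁻¹ * r) := by group
  rw [this, h3, mul_one]

end DCfg

theorem centralizer_le_of_mem_zpowers {x y : G} (hy : y ∈ zpowers x) :
    centralizer ({x} : Set G) ≤ centralizer ({y} : Set G) := by
  intro z hz
  rw [mem_centralizer_singleton] at hz ⊢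
  obtain ⟨k, rfl⟩ := mem_zpowers_iff.mp hy
  exact (Commute.zpow_left (show Commute x z from hz) k).eq

theorem ppart_mem_zpowers (x : G) (q : ℕ) : ppart x q ∈ zpowers x :=
  Subgroup.pow_mem _ (mem_zpowers x) _

/-- **Theorem D (a)** -/
theorem thmD_a (h : Hyp G) {M : Subgroup G} (hM : IsCoatom M) {x : G}
    (hx : x ∈ Cfsg.sigmaCore M) (hx1 : x ≠ 1) :
    (centralizer ({x} : Set G) ≤ M ∧ ∀ g : G, x ∈ M.map (cj g) → M.map (cj g) = M) ∨
    ∃ (L : Subgroup G) (q : ℕ), DCfg M L q ∧ x ∈ M ⊓ L ∧ centralizer ({x} : Set G) ≤ L ∧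
      q ∣ orderOf x ∧ ∀ g : G, x ∈ M.map (cj g) →
        ∃ r ∈ Cfsg.sigmaCore L ⊓ centralizer ({x} : Set G), M.map (cj r) = M.map (cj g) := by
  have hxM : x ∈ M := Cfsg.Agent.H9.BG12.sigmaCore_le M hx
  have ho1 : orderOf x ≠ 1 := fun h' => hx1 (orderOf_eq_one_iff.mp h')
  have hqp : (orderOf x).minFac.Prime := Nat.minFac_prime ho1
  have hqd : (orderOf x).minFac ∣ orderOf x := Nat.minFac_dvd _
  set q := (orderOf x).minFac with hqdef
  haveI : Fact q.Prime := ⟨hqp⟩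
  have hyo : orderOf (ppart x q) = q := orderOf_ppart hqd
  have hyσ : ppart x q ∈ Cfsg.sigmaCore M := ppart_mem hx q
  have hyM : ppart x q ∈ M := ppart_mem hxM q
  have hyz : ppart x q ∈ zpowers x := ppart_mem_zpowers x q
  have hqM : q ∈ Cfsg.sigma M := by
    apply Cfsg.Agent.H9.BG12.mem_sigma_of_dvd_card_sigmaCore hqp
    rw [← hyo]
    exact Subgroup.orderOf_dvd_natCard _ hyσ
  have hCxy := centralizer_le_of_mem_zpowers hyz
  by_cases hyC : centralizer ({ppart x q} : Set G) ≤ M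
  · left
    refine ⟨hCxy.trans hyC, ?_⟩
    intro g hxg
    have hYcard : Nat.card (zpowers (ppart x q)) = q := by rw [Nat.card_zpowers, hyo]
    have hY1 : zpowers (ppart x q) ≠ ⊥ := ne_bot_of_card_prime hYcard
    have hYM : zpowers (ppart x q) ≤ M := zpowers_le.mpr hyM
    have hYp : IsPGroup q (zpowers (ppart x q)) := isPGroup_of_card_prime hYcard
    have hyg : ppart x q ∈ M.map (cj g) := (zpowers_le.mpr hxg) hyz
    have hle : (zpowers (ppart x q)).map (cj g⁻¹) ≤ M := by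
      rw [map_cj_le_iff, inv_inv, zpowers_le]; exact hyg
    obtain ⟨m, hm, c', hc', hgc⟩ :=
      (Cfsg.Agent.S1404.result h.hG M hM q hqM (zpowers (ppart x q)) hYp hY1 hYM).1 g⁻¹ hle
    rw [centralizer_zpowers] at hc'
    have hgM : g ∈ M := by
      have h1 : g = (g⁻¹)⁻¹ := (inv_inv g).symm
      rw [h1, hgc]
      exact M.inv_mem (M.mul_mem hm (hyC hc'))
    exact map_cj_eq_self_of_mem hgM
  · right
    obtain ⟨L, c, hNL⟩ := thmD_prime h hM hqM hyM hyo hyC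
    have hCyL : centralizer ({ppart x q} : Set G) ≤ L := by
      rw [← centralizer_zpowers]
      exact (Subgroup.centralizer_le_normalizer _).trans hNL
    have hxL : x ∈ L := by
      apply hCyL
      rw [mem_centralizer_singleton]
      exact ppart_comm rfl q
    have hyL : ppart x q ∈ L := ppart_mem hxL q
    refine ⟨L, q, c, ⟨hxM, hxL⟩, hCxy.trans hCyL, hqd, ?_⟩
    intro g hxg
    exact c.fusion h.hG hqM ⟨hyM, hyL⟩ hyo hCyL ⟨hxM, hxL⟩ hyz hxg

/-- **S1374** from the hypotheses -/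
theorem s1374_of (h : Hyp G) (M : Subgroup G) (hM : IsCoatom M) (x : G)
    (hx : x ∈ Cfsg.sigmaCore M) (hx1 : x ≠ 1) :
    (Nat.card ↥(M ⊓ Subgroup.centralizer ({x} : Set G))).Coprime ((M ⊓ Subgroup.centralizer ({x} : Set G)).relIndex (Subgroup.centralizer ({x} : Set G))) ∧
      ∃ R : Subgroup G, Subgroup.centralizer ({x} : Set G) ≤ Subgroup.normalizer (R : Set G) ∧ Cfsg.IsComplIn (M ⊓ Subgroup.centralizer ({x} : Set G)) R (Subgroup.centralizer ({x} : Set G)) ∧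
        ∀ g : G, x ∈ M.map (MulAut.conj g).toMonoidHom → ∃! r : G, r ∈ R ∧ M.map (MulAut.conj r).toMonoidHom = M.map (MulAut.conj g).toMonoidHom := by
  rcases thmD_a h hM hx hx1 with ⟨hCM, hfus⟩ | ⟨L, q, c, hxL, hCL, hqd, hfus⟩
  · have heq : M ⊓ centralizer ({x} : Set G) = centralizer ({x} : Set G) := inf_eq_right.mpr hCM
    refine ⟨?_, ⊥, ?_, ⟨inf_le_right, bot_le, inf_bot_eq _, ?_⟩, ?_⟩
    · rw [heq, Subgroup.relIndex_self]; exact Nat.coprime_one_right _
    · intro z _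
      rw [mem_normalizer_iff]
      intro w; simp
    · intro m hm
      exact ⟨m, ⟨hCM hm, hm⟩, 1, Subgroup.one_mem _, (mul_one m).symm⟩
    · intro g hxg
      refine ⟨1, ⟨Subgroup.one_mem _, ?_⟩, ?_⟩
      · show M.map (cj 1) = M.map (cj g)
        rw [map_cj_one, hfus g hxg]
      · rintro r ⟨hr, -⟩
        exact Subgroup.mem_bot.mp hr
  · have hcompl := c.cent_compl hxL hCL
    have hcard := Cfsg.Agent.H9.BG12.card_mul_of_isComplIn hcompl
    have hrel := Cfsg.Agent.Lead.relIndex_mul_card'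
      (inf_le_right : M ⊓ centralizer ({x} : Set G) ≤ centralizer ({x} : Set G))
    have hrelR : (M ⊓ centralizer ({x} : Set G)).relIndex (centralizer ({x} : Set G)) =
        Nat.card ↥(Cfsg.sigmaCore L ⊓ centralizer ({x} : Set G)) := by
      have h0 : 0 < Nat.card ↥(M ⊓ centralizer ({x} : Set G)) := Nat.card_pos
      have : (M ⊓ centralizer ({x} : Set G)).relIndex (centralizer ({x} : Set G)) *
          Nat.card ↥(M ⊓ centralizer ({x} : Set G)) =
          Nat.card ↥(Cfsg.sigmaCore L ⊓ centralizer ({x} : Set G)) *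
          Nat.card ↥(M ⊓ centralizer ({x} : Set G)) := by
        rw [hrel, ← hcard, mul_comm]
      exact Nat.eq_of_mul_eq_mul_right h0 this
    refine ⟨?_, Cfsg.sigmaCore L ⊓ centralizer ({x} : Set G), c.cent_normal hCL, hcompl, ?_⟩
    · rw [hrelR]; exact c.cent_coprime h.hG hCL
    · intro g hxg
      obtain ⟨r, hr, hrg⟩ := hfus g hxg
      refine ⟨r, ⟨hr, hrg⟩, ?_⟩
      rintro r' ⟨hr', hr'g⟩
      exact c.conj_unique h.hG hr'.1 hr.1 (hr'g.trans hrg.symm)

end Cfsg.Agent.Helper29.BG14
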