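import Mathlib
import Cfsg.Prelude.Def_OddOrderLocal
import Cfsg.Agent.Helper29.BG14D
import Cfsg.Agent.Helper10.BG16G

/-!
# B&G Theorem 14.4 (b): S1375
-/

set_option autoImplicit false
set_option linter.unusedSectionVars false
set_option linter.unusedVariables false
set_option linter.style.haveILetI false

namespace Cfsg.Agent.Helper29.BG14

open Subgroup Cfsg
open Cfsg.Agent.Helper14 (IsSylowIn cj map_cj_le_iff map_cj_mul map_cj_one map_cj_normalizer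
  mem_normalizer_iff_map_cj map_cj_eq_self_of_mem le_normalizer_of_map_cj_le mem_map_cj
  exists_isSylowIn_ge exists_isSylowIn isSylowIn_of_sylow isSylowIn_iff)
open Cfsg.Agent.Lead.BG143 (ppart orderOf_ppart ppart_ne_one ppart_mem ppart_comm)

universe u

variable {G : Type u} [Group G] [Finite G]

/-- `M_F ≤ M_σ` for a maximal subgroup `M` -/
theorem fittingHallOf_le_sigmaCore (hG : Cfsg.IsMinSimpleOddOrder G) {L : Subgroup G}
    (hL : IsCoatom L) : Cfsg.fittingHallOf L ≤ Cfsg.sigmaCore L := by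
  have hFL : Cfsg.fittingHallOf L ≤ L := Cfsg.Agent.Helper23.fittingHallOf_le L
  have hnil := Cfsg.Agent.Helper10.BG16.fittingHallOf_isNilpotent L
  have hcop := Cfsg.Agent.Helper10.BG16.fittingHallOf_coprime_relIndex L
  have hLF : L ≤ normalizer (Cfsg.fittingHallOf L : Set G) :=
    Cfsg.Agent.Helper23.le_normalizer_fittingHallOf L
  apply Cfsg.Agent.Helper10.BG16.le_sigmaCore_of_pi (st1350 hG) hL hFL
  intro p hp hd
  haveI : Fact p.Prime := ⟨hp⟩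
  obtain ⟨P, hP⟩ := exists_isSylowIn (p := p) (Cfsg.fittingHallOf L)
  have hndvd : ¬ p ∣ (Cfsg.fittingHallOf L).relIndex L := by
    intro h'
    exact hp.one_lt.ne' (Nat.eq_one_of_dvd_coprimes hcop hd h')
  have hPL : IsSylowIn p P L :=
    Cfsg.Agent.Helper10.BG16.isSylowIn_of_not_dvd_relIndex' hP hFL hndvd
  have hP1 : P ≠ ⊥ := by
    intro h0
    obtain ⟨x, hx⟩ := exists_prime_orderOf_dvd_card' p hd
    have h2 : IsPGroup p (zpowers (x : G)) := IsPGroup.of_card (n := 1) (by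
      rw [Nat.card_zpowers, Subgroup.orderOf_coe, hx, pow_one])
    obtain ⟨Q, hQ, hle⟩ := exists_isSylowIn_ge (zpowers_le.mpr x.2) h2
    obtain ⟨g, -, hg⟩ := hP.exists_conj hQ
    rw [h0, Subgroup.map_bot] at hg
    rw [hg, le_bot_iff, zpowers_eq_bot] at hle
    rw [← Subgroup.orderOf_coe, hle, orderOf_one] at hx
    exact hp.one_lt.ne hx
  have hLP : L ≤ normalizer (P : Set G) :=
    Cfsg.Agent.H9.BG12.le_normalizer_sylow_of_nilpotent hnil hLF hP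
  have hPt : P ≠ ⊤ := fun h' => hL.1 (top_le_iff.mp (h' ▸ hPL.1))
  have hN : normalizer (P : Set G) = L :=
    Cfsg.Agent.Lead.BG9.eq_of_coatom_le hL hLP
      (Cfsg.Agent.Lead.TT.normalizer_ne_top_of_simple hG.2.1 hP1 hPt)
  exact Cfsg.Agent.Helper16.BG11.mem_sigma_of_isSylowIn hPL hP1 hN.le

/-- if `M_σ` is nilpotent then `M_σ = M_F` -/
theorem sigmaCore_eq_fittingHallOf (hG : Cfsg.IsMinSimpleOddOrder G) {L : Subgroup G}
    (hL : IsCoatom L) (hnil : Group.IsNilpotent ↥(Cfsg.sigmaCore L)) :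
    Cfsg.sigmaCore L = Cfsg.fittingHallOf L := by
  apply le_antisymm _ (fittingHallOf_le_sigmaCore hG hL)
  have hH := (st1350 hG L hL).1
  apply Cfsg.Agent.Helper10.BG16.le_fittingHallOf hH.1
    (Cfsg.Agent.H9.BG12.le_normalizer_sigmaCore L) hnil
  apply Nat.coprime_of_dvd
  intro p hp h1 h2
  exact hH.2.2 p hp (hH.2.1 p hp h1) h2

/-- **Theorem D (b)**: data when `C_G(x) ⊄ M` -/
theorem thmD_b (h : Hyp G) {M : Subgroup G} (hM : IsCoatom M) {x : G}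
    (hx : x ∈ Cfsg.sigmaCore M) (hx1 : x ≠ 1) (hxM : ¬ centralizer ({x} : Set G) ≤ M) :
    ∃ (L : Subgroup G) (q : ℕ), DCfg M L q ∧ x ∈ M ⊓ L ∧ centralizer ({x} : Set G) ≤ L ∧
      q ∣ orderOf x ∧
      (∀ L' : Subgroup G, IsCoatom L' → centralizer ({x} : Set G) ≤ L' → L' = L) ∧
      (∀ p : ℕ, p.Prime → p ∣ orderOf x → p ∈ Cfsg.tau2 L) ∧
      Cfsg.sigmaCore L ⊓ centralizer ({x} : Set G) ≠ ⊥ ∧
      ∀ g : G, x ∈ M.map (cj g) →
        ∃ r ∈ Cfsg.sigmaCore L ⊓ centralizer ({x} : Set G), M.map (cj r) = M.map (cj g) := by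
  rcases thmD_a h hM hx hx1 with ⟨hCM, -⟩ | ⟨L, q, c, hxL, hCL, hqd, hfus⟩
  · exact absurd hCM hxM
  have hcompl := c.cent_compl hxL hCL
  have hR1 : Cfsg.sigmaCore L ⊓ centralizer ({x} : Set G) ≠ ⊥ := by
    intro h0
    apply hxM
    intro z hz
    obtain ⟨a, ha, b, hb, rfl⟩ := hcompl.2.2.2 z hz
    rw [h0, Subgroup.mem_bot] at hb
    rw [hb, mul_one]; exact ha.1
  obtain ⟨r, hr, hr1⟩ := (Subgroup.ne_bot_iff_exists_ne_one.mp hR1 |>
    fun ⟨a, ha⟩ => (⟨a.1, a.2, fun h0 => ha (Subtype.ext h0)⟩ :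
      ∃ r, r ∈ Cfsg.sigmaCore L ⊓ centralizer ({x} : Set G) ∧ r ≠ 1))
  have hH := Cfsg.Agent.H9.BG12.isPiHallOf_compl (st1350 h.hG) c.hL c.compl
  have hσ : ∀ p : ℕ, p.Prime → p ∣ orderOf x → p ∉ Cfsg.sigma L := by
    intro p hp hd
    exact hH.2.1 p hp (hd.trans (Subgroup.orderOf_dvd_natCard _ hxL))
  have hxr : x ∈ L ⊓ centralizer ({r} : Set G) :=
    ⟨hxL.2, mem_centralizer_singleton.mpr (mem_centralizer_singleton.mp hr.2).symm⟩
  rcases h.h1432 L c.hL r hr.1 hr1 x hxr hx1 hσ with h1 | h1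
  · have hqp : q.Prime := c.hq.1
    exact absurd (h1.1 q hqp hqd) (Cfsg.Agent.Lead.BG143.not_mem_kappa_of_mem_tau2 c.hq)
  · exact ⟨L, q, c, hxL, hCL, hqd, h1.2.2.2, h1.1, hR1, hfus⟩

/-- in a standard factorisation `M = K U M_σ`, the `κ(M)'`-elements of `M` lie in `U M_σ` -/
theorem mem_U_sup_sigmaCore (hG : Cfsg.IsMinSimpleOddOrder G) {L K' U' : Subgroup G}
    (hL : IsCoatom L) (hKU : Cfsg.IsSigmaDecomposition L K' U') {x : G} (hxL : x ∈ L)
    (hxκ : ∀ p : ℕ, p.Prime → p ∣ orderOf x → p ∉ Cfsg.kappa L) :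
    x ∈ U' ⊔ Cfsg.sigmaCore L := by
  have h1350 := st1350 hG
  have hWL : U' ⊔ Cfsg.sigmaCore L ≤ L := Cfsg.Agent.Helper10.BG16.sd_U_sup_sigma_le hKU
  have hKL : K' ≤ L := hKU.hall.1
  have hKN : K' ≤ normalizer ((U' ⊔ Cfsg.sigmaCore L : Subgroup G) : Set G) := fun k hk =>
    Cfsg.Agent.Helper10.BG16.mem_normalizer_sup (hKU.normal hk)
      (Cfsg.Agent.H9.BG12.le_normalizer_sigmaCore L (hKL hk))
  have hLN : L ≤ normalizer ((U' ⊔ Cfsg.sigmaCore L : Subgroup G) : Set G) := by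
    intro l hl
    obtain ⟨u, hu, z, hz, rfl⟩ := hKU.compl.2.2.2 l hl
    apply Subgroup.mul_mem
    · exact Subgroup.le_normalizer (le_sup_left (a := U') hu)
    · have : K' ⊔ Cfsg.sigmaCore L ≤ normalizer ((U' ⊔ Cfsg.sigmaCore L : Subgroup G) : Set G) :=
        sup_le hKN (le_sup_right.trans Subgroup.le_normalizer)
      exact this hz
  have hrel : (U' ⊔ Cfsg.sigmaCore L).relIndex L = Nat.card K' := by
    have h1 := Cfsg.Agent.Lead.relIndex_mul_card' hWL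
    rw [Cfsg.Agent.Helper10.BG16.sd_card_U_sup_sigma hKU,
      Cfsg.Agent.Helper10.BG16.sd_card h1350 hL hKU] at h1
    have h0 : 0 < Nat.card U' * Nat.card (Cfsg.sigmaCore L) :=
      Nat.mul_pos Nat.card_pos Nat.card_pos
    apply Nat.eq_of_mul_eq_mul_right h0
    rw [h1]; ring
  haveI hn : ((U' ⊔ Cfsg.sigmaCore L).subgroupOf L).Normal :=
    Subgroup.normal_subgroupOf_of_le_normalizer hLN
  have hcop : (Nat.card (zpowers (⟨x, hxL⟩ : ↥L))).Coprime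
      ((U' ⊔ Cfsg.sigmaCore L).subgroupOf L).index := by
    have h2 : ((U' ⊔ Cfsg.sigmaCore L).subgroupOf L).index = Nat.card K' := hrel
    rw [h2, Nat.card_zpowers]
    have h3 : orderOf (⟨x, hxL⟩ : ↥L) = orderOf x := (Subgroup.orderOf_coe (⟨x, hxL⟩ : ↥L)).symm
    rw [h3]
    apply Nat.coprime_of_dvd
    intro p hp hd1 hd2
    exact hxκ p hp hd1 (hKU.hall.2.1 p hp hd2)
  have h4 := Cfsg.Agent.H9.BG12.le_of_coprime_card_index hcop (mem_zpowers _)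
  exact Subgroup.mem_subgroupOf.mp h4

/-- **S1375** from the hypotheses -/
theorem s1375_of (h : Hyp G) (M : Subgroup G) (hM : IsCoatom M) (x : G)
    (hx : x ∈ Cfsg.sigmaCore M) (hx1 : x ≠ 1) (hxM : ¬ Subgroup.centralizer ({x} : Set G) ≤ M) :
    ∃ N : Subgroup G, (IsCoatom N ∧ Subgroup.centralizer ({x} : Set G) ≤ N) ∧ (∀ L : Subgroup G, IsCoatom L → Subgroup.centralizer ({x} : Set G) ≤ L → L = N) ∧
        Cfsg.sigmaCore N = Cfsg.fittingHallOf N ∧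
        Subgroup.centralizer ({x} : Set G) ≤ Subgroup.normalizer ((Cfsg.sigmaCore N ⊓ Subgroup.centralizer ({x} : Set G) : Subgroup G) : Set G) ∧
        Cfsg.IsComplIn (M ⊓ Subgroup.centralizer ({x} : Set G)) (Cfsg.sigmaCore N ⊓ Subgroup.centralizer ({x} : Set G)) (Subgroup.centralizer ({x} : Set G)) ∧
        Cfsg.IsComplIn (M ⊓ N) (Cfsg.sigmaCore N) N ∧
        ∀ K' U' : Subgroup G, Cfsg.IsSigmaDecomposition N K' U' → U' ≠ ⊥ ∧ x ∈ Cfsg.sigmaA N U' ∧ x ∉ Cfsg.sigmaCore N := by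
  obtain ⟨L, q, c, hxL, hCL, hqd, huniq, hτ, hR1, hfus⟩ := thmD_b h hM hx hx1 hxM
  refine ⟨L, ⟨c.hL, hCL⟩, huniq, sigmaCore_eq_fittingHallOf h.hG c.hL c.nil, c.cent_normal hCL,
    c.cent_compl hxL hCL, c.compl, ?_⟩
  intro K' U' hKU
  have hqp : q.Prime := c.hq.1
  refine ⟨?_, ⟨?_, ?_⟩, ?_⟩
  · intro h0
    have hcard := Cfsg.Agent.Helper10.BG16.sd_card (st1350 h.hG) c.hL hKU
    rw [h0, Subgroup.card_bot, one_mul] at hcard
    have hqL : q ∣ Nat.card L := hqd.trans (Subgroup.orderOf_dvd_natCard _ hxL.2)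
    rw [hcard] at hqL
    rcases (Nat.Prime.dvd_mul hqp).1 hqL with h1 | h1
    · exact Cfsg.Agent.Lead.BG143.not_mem_kappa_of_mem_tau2 c.hq (hKU.hall.2.1 q hqp h1)
    · exact c.hq.2.1 (Cfsg.Agent.H9.BG12.mem_sigma_of_dvd_card_sigmaCore hqp h1)
  · obtain ⟨r, hr, hr1⟩ := (Subgroup.ne_bot_iff_exists_ne_one.mp hR1 |>
      fun ⟨a, ha⟩ => (⟨a.1, a.2, fun h0 => ha (Subtype.ext h0)⟩ :
        ∃ r, r ∈ Cfsg.sigmaCore L ⊓ centralizer ({x} : Set G) ∧ r ≠ 1))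
    exact ⟨hxL.2, r, hr.1, hr1, mem_centralizer_singleton.mp hr.2⟩
  · exact mem_U_sup_sigmaCore h.hG c.hL hKU hxL.2 (fun p hp hd =>
      Cfsg.Agent.Lead.BG143.not_mem_kappa_of_mem_tau2 (hτ p hp hd))
  · intro hxσ
    have : x ∈ M ⊓ Cfsg.sigmaCore L := ⟨hxL.1, hxσ⟩
    rw [c.inf_sigmaCore, Subgroup.mem_bot] at this
    exact hx1 this

end Cfsg.Agent.Helper29.BG14
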