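import Mathlib
import Cfsg.Prelude.Def_OddOrderLocal
import Cfsg.Agent.Helper29.BG14E

/-!
# B&G 14.5, 14.8: the sets `M̃`; equivariance, uniqueness of the decomposition `x r` (S1433)
-/

set_option autoImplicit false
set_option linter.unusedSectionVars false
set_option linter.unusedVariables false
set_option linter.style.haveILetI false

namespace Cfsg.Agent.Helper29.BG14

open Subgroup Cfsg
open Cfsg.Agent.Helper14 (IsSylowIn cj map_cj_le_iff map_cj_mul map_cj_one map_cj_normalizer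
  mem_normalizer_iff_map_cj map_cj_eq_self_of_mem le_normalizer_of_map_cj_le mem_map_cj
  exists_isSylowIn_ge exists_isSylowIn isSylowIn_of_sylow isSylowIn_iff)
open Cfsg.Agent.Lead (IsPiNum)

universe u

variable {G : Type u} [Group G] [Finite G]

theorem mem_sigma_map_cj_iff {L : Subgroup G} {p : ℕ} (y : G) :
    p ∈ Cfsg.sigma (L.map (cj y)) ↔ p ∈ Cfsg.sigma L := by
  constructor
  · intro h
    haveI : Fact p.Prime := ⟨h.1⟩
    have := Cfsg.Agent.Helper16.BG11.mem_sigma_map_cj y⁻¹ h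
    rwa [Cfsg.Agent.Helper14.map_cj_map_cj_inv] at this
  · intro h
    haveI : Fact p.Prime := ⟨h.1⟩
    exact Cfsg.Agent.Helper16.BG11.mem_sigma_map_cj y h

theorem relIndex_map_cj (A B : Subgroup G) (y : G) :
    (A.map (cj y)).relIndex (B.map (cj y)) = A.relIndex B := by
  have h := Subgroup.relIndex_map_map_of_injective (f := cj y) A B
    (Cfsg.Agent.Helper14.cj_injective y)
  exact h

/-- conjugation-equivariance of `M_σ` -/
theorem sigmaCore_map_cj (hG : Cfsg.IsMinSimpleOddOrder G) {L : Subgroup G} (hL : IsCoatom L)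
    (y : G) : Cfsg.sigmaCore (L.map (cj y)) = (Cfsg.sigmaCore L).map (cj y) := by
  have hL' := Cfsg.Agent.Lead.BG9.isCoatom_map_cj hL y
  have hH := (st1350 hG L hL).1
  symm
  apply (st1350 hG _ hL').2.2
  · rw [← map_cj_normalizer]
    exact Subgroup.map_mono (Cfsg.Agent.H9.BG12.le_normalizer_sigmaCore L)
  · refine ⟨Subgroup.map_mono hH.1, ?_, ?_⟩
    · intro p hp hd
      rw [Cfsg.Agent.Helper16.BG11.card_map_cj] at hd
      exact (mem_sigma_map_cj_iff y).mpr (hH.2.1 p hp hd)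
    · intro p hp hpσ
      rw [relIndex_map_cj]
      exact hH.2.2 p hp ((mem_sigma_map_cj_iff y).mp hpσ)

theorem centralizer_singleton_map_cj (x y : G) :
    centralizer ({y * x * y⁻¹} : Set G) = (centralizer ({x} : Set G)).map (cj y) := by
  ext z
  rw [mem_map_cj, mem_centralizer_singleton, mem_centralizer_singleton]
  constructor
  · intro h
    have : x * (y⁻¹ * z * y) = y⁻¹ * (y * x * y⁻¹ * z) * y := by group
    rw [this, h]; group
  · intro h
    have : y * x * y⁻¹ * z = y * (x * (y⁻¹ * z * y)) * y⁻¹ := by group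
    rw [this, h]; group

/-! ### the subgroup `R(x)` -/

theorem supportR_eq_bot_of_le {M : Subgroup G} {x : G} (h : centralizer ({x} : Set G) ≤ M) :
    Cfsg.supportR M x = ⊥ := by
  unfold Cfsg.supportR
  rw [dif_neg]
  intro h'
  exact h'.1 h

theorem supportR_eq {M L : Subgroup G} {x : G} (hnot : ¬ centralizer ({x} : Set G) ≤ M)
    (hL : IsCoatom L) (hCL : centralizer ({x} : Set G) ≤ L)
    (huniq : ∀ L' : Subgroup G, IsCoatom L' → centralizer ({x} : Set G) ≤ L' → L' = L) :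
    Cfsg.supportR M x = Cfsg.fittingHallOf L ⊓ centralizer ({x} : Set G) := by
  have hex : ∃! L' : Subgroup G, IsCoatom L' ∧ centralizer ({x} : Set G) ≤ L' :=
    ⟨L, ⟨hL, hCL⟩, fun L' h => huniq L' h.1 h.2⟩
  unfold Cfsg.supportR
  rw [dif_pos ⟨hnot, hex⟩]
  have : Classical.choose hex.exists = L :=
    huniq _ (Classical.choose_spec hex.exists).1 (Classical.choose_spec hex.exists).2
  rw [this]

/-- **description of `R(x)`** for `x ∈ M_σ^#` (Theorem D) -/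
theorem supportR_cases (h : Hyp G) {M : Subgroup G} (hM : IsCoatom M) {x : G}
    (hx : x ∈ Cfsg.sigmaCore M) (hx1 : x ≠ 1) :
    (centralizer ({x} : Set G) ≤ M ∧ Cfsg.supportR M x = ⊥ ∧
      ∀ g : G, x ∈ M.map (cj g) → M.map (cj g) = M) ∨
    (¬ centralizer ({x} : Set G) ≤ M ∧ ∃ (L : Subgroup G) (q : ℕ), DCfg M L q ∧ x ∈ M ⊓ L ∧
      centralizer ({x} : Set G) ≤ L ∧
      (∀ L' : Subgroup G, IsCoatom L' → centralizer ({x} : Set G) ≤ L' → L' = L) ∧
      (∀ p : ℕ, p.Prime → p ∣ orderOf x → p ∈ Cfsg.tau2 L) ∧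
      Cfsg.supportR M x = Cfsg.sigmaCore L ⊓ centralizer ({x} : Set G) ∧
      Cfsg.supportR M x ≠ ⊥ ∧
      ∀ g : G, x ∈ M.map (cj g) → ∃ r ∈ Cfsg.supportR M x, M.map (cj r) = M.map (cj g)) := by
  by_cases hC : centralizer ({x} : Set G) ≤ M
  · left
    refine ⟨hC, supportR_eq_bot_of_le hC, ?_⟩
    rcases thmD_a h hM hx hx1 with ⟨-, hfus⟩ | ⟨L, q, c, hxL, hCL, hqd, hfus⟩
    · exact hfus
    · intro g hxg
      obtain ⟨r, hr, hrg⟩ := hfus g hxg
      have : r ∈ M ⊓ Cfsg.sigmaCore L := ⟨hC hr.2, hr.1⟩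
      rw [c.inf_sigmaCore, Subgroup.mem_bot] at this
      rw [← hrg, this, map_cj_one]
  · right
    refine ⟨hC, ?_⟩
    obtain ⟨L, q, c, hxL, hCL, hqd, huniq, hτ, hR1, hfus⟩ := thmD_b h hM hx hx1 hC
    have hS : Cfsg.supportR M x = Cfsg.sigmaCore L ⊓ centralizer ({x} : Set G) := by
      rw [supportR_eq hC c.hL hCL huniq, sigmaCore_eq_fittingHallOf h.hG c.hL c.nil]
    refine ⟨L, q, c, hxL, hCL, huniq, hτ, hS, hS ▸ hR1, ?_⟩
    rw [hS]; exact hfus

/-! ### `π`-parts of commuting elements -/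

theorem mem_zpowers_mul_of_coprime {x r : G} (hc : x * r = r * x)
    (hcop : (orderOf x).Coprime (orderOf r)) : x ∈ zpowers (x * r) := by
  have h1 : (x * r) ^ orderOf r = x ^ orderOf r := by
    rw [(show Commute x r from hc).mul_pow, pow_orderOf_eq_one, mul_one]
  obtain ⟨m, hm⟩ := exists_pow_eq_self_of_coprime (x := x) hcop.symm
  have h2 : ((x * r) ^ orderOf r) ^ m ∈ zpowers (x * r) :=
    Subgroup.pow_mem _ (Subgroup.pow_mem _ (mem_zpowers (x * r)) _) _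
  rw [h1, hm] at h2
  exact h2

theorem mem_zpowers_mul_of_coprime' {x r : G} (hc : x * r = r * x)
    (hcop : (orderOf x).Coprime (orderOf r)) : r ∈ zpowers (x * r) := by
  rw [hc]
  exact mem_zpowers_mul_of_coprime hc.symm hcop.symm

/-- if `x r = y s` (commuting pairs), `x` a power of `x r`, and `o(x)` prime to `o(y)`, then `x` is
a power of `s` -/
theorem mem_zpowers_of_mul_eq {x r y s : G} (hxg : x ∈ zpowers (x * r)) (hys : y * s = s * y)
    (heq : x * r = y * s) (hcop : (orderOf y).Coprime (orderOf x)) : x ∈ zpowers s := by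
  obtain ⟨k, hk⟩ := mem_zpowers_iff.mp hxg
  have h1 : (y * s) ^ orderOf y = s ^ orderOf y := by
    rw [(show Commute y s from hys).mul_pow, pow_orderOf_eq_one, one_mul]
  have h2 : x ^ orderOf y ∈ zpowers s := by
    rw [← hk, heq, ← zpow_natCast, ← zpow_mul, mul_comm, zpow_mul, zpow_natCast, h1]
    exact Subgroup.zpow_mem _ (Subgroup.pow_mem _ (mem_zpowers _) _) _
  obtain ⟨m, hm⟩ := exists_pow_eq_self_of_coprime (x := x) hcop
  rw [← hm]
  exact Subgroup.pow_mem _ h2 _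

theorem isPiNum_lcm {π : Set ℕ} {a b : ℕ} (ha : IsPiNum π a) (hb : IsPiNum π b) :
    IsPiNum π (Nat.lcm a b) := by
  intro p hp hd
  rcases (Nat.Prime.dvd_mul hp).1 (hd.trans (Nat.lcm_dvd_mul a b)) with h1 | h1
  · exact ha p hp h1
  · exact hb p hp h1

/-- uniqueness of the decomposition into commuting `π`- and `π'`-parts -/
theorem pi_parts_unique {π : Set ℕ} {x r y s : G} (hxr : x * r = r * x) (hys : y * s = s * y)
    (heq : x * r = y * s) (hx : IsPiNum π (orderOf x)) (hy : IsPiNum π (orderOf y))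
    (hr : IsPiNum πᶜ (orderOf r)) (hs : IsPiNum πᶜ (orderOf s)) : x = y := by
  have hx' := mem_zpowers_mul_of_coprime hxr (hx.coprime hr)
  have hr' := mem_zpowers_mul_of_coprime' hxr (hx.coprime hr)
  have hy' := mem_zpowers_mul_of_coprime hys (hy.coprime hs)
  have hs' := mem_zpowers_mul_of_coprime' hys (hy.coprime hs)
  rw [← heq] at hy' hs'
  obtain ⟨a, ha⟩ := mem_zpowers_iff.mp hx'
  obtain ⟨b, hb⟩ := mem_zpowers_iff.mp hr'
  obtain ⟨c, hc⟩ := mem_zpowers_iff.mp hy'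
  obtain ⟨d, hd⟩ := mem_zpowers_iff.mp hs'
  have hcomm : ∀ i j : ℤ, Commute ((x * r) ^ i) ((x * r) ^ j) := fun i j =>
    (Commute.refl (x * r)).zpow_zpow i j
  have hyx : Commute y⁻¹ x := by rw [← ha, ← hc]; exact (hcomm c a).inv_left
  have hsr : Commute s r⁻¹ := by rw [← hb, ← hd]; exact (hcomm d b).inv_right
  have hkey : y⁻¹ * x = s * r⁻¹ := by
    have : y⁻¹ * (x * r) * r⁻¹ = y⁻¹ * (y * s) * r⁻¹ := by rw [heq]
    have h1 : y⁻¹ * (x * r) * r⁻¹ = y⁻¹ * x := by group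
    have h2 : y⁻¹ * (y * s) * r⁻¹ = s * r⁻¹ := by group
    rw [h1, h2] at this; exact this
  have ho1 : IsPiNum π (orderOf (y⁻¹ * x)) :=
    (isPiNum_lcm (by rw [orderOf_inv]; exact hy) hx).of_dvd hyx.orderOf_mul_dvd_lcm
  have ho2 : IsPiNum πᶜ (orderOf (y⁻¹ * x)) := by
    rw [hkey]
    exact (isPiNum_lcm hs (by rw [orderOf_inv]; exact hr)).of_dvd hsr.orderOf_mul_dvd_lcm
  have h1 : orderOf (y⁻¹ * x) = 1 := Nat.Coprime.eq_one_of_dvd (ho1.coprime ho2) dvd_rfl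
  have h2 : y⁻¹ * x = 1 := orderOf_eq_one_iff.mp h1
  have : x = y * (y⁻¹ * x) := by group
  rw [this, h2, mul_one]

theorem isPiNum_of_mem_sigmaCore {M : Subgroup G} {x : G} (hx : x ∈ Cfsg.sigmaCore M) :
    IsPiNum (Cfsg.sigma M) (orderOf x) := by
  intro p hp hd
  exact Cfsg.Agent.H9.BG12.mem_sigma_of_dvd_card_sigmaCore hp
    (hd.trans (Subgroup.orderOf_dvd_natCard _ hx))

theorem exists_prime_dvd_orderOf {x : G} (hx1 : x ≠ 1) : ∃ p : ℕ, p.Prime ∧ p ∣ orderOf x :=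
  Nat.exists_prime_and_dvd (fun h => hx1 (orderOf_eq_one_iff.mp h))

/-- the data attached to an element `r ∈ R(x)` -/
theorem pair_data (h : Hyp G) {M : Subgroup G} (hM : IsCoatom M) {x : G}
    (hx : x ∈ Cfsg.sigmaCore M) (hx1 : x ≠ 1) {r : G} (hr : r ∈ Cfsg.supportR M x) :
    x * r = r * x ∧ IsPiNum (Cfsg.sigma M)ᶜ (orderOf r) ∧
    (r = 1 ∨ ∃ (L : Subgroup G) (q : ℕ), DCfg M L q ∧ x ∈ M ⊓ L ∧
      (∀ L' : Subgroup G, IsCoatom L' → centralizer ({x} : Set G) ≤ L' → L' = L) ∧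
      r ∈ Cfsg.sigmaCore L) := by
  rcases supportR_cases h hM hx hx1 with ⟨-, hS, -⟩ | ⟨hC, L, q, c, hxL, hCL, huniq, hτ, hS, -, -⟩
  · rw [hS, Subgroup.mem_bot] at hr
    subst hr
    refine ⟨by rw [mul_one, one_mul], ?_, Or.inl rfl⟩
    rw [orderOf_one]; exact Cfsg.Agent.Lead.isPiNum_one _
  · rw [hS] at hr
    refine ⟨mem_centralizer_singleton.mp hr.2, ?_, Or.inr ⟨L, q, c, hxL, huniq, hr.1⟩⟩
    intro p hp hd hpM
    have hpL : p ∈ Cfsg.sigma L := isPiNum_of_mem_sigmaCore hr.1 p hp hd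
    obtain ⟨g, hg⟩ := sigma_partition' h hM c.hL hpM hpL
    exact c.hnc g hg

/-- **S1433** from the hypotheses: uniqueness of the decomposition `x r` -/
theorem s1433_of (h : Hyp G) (M N : Subgroup G) (hM : IsCoatom M) (hN : IsCoatom N) (x y : G)
    (hx : x ∈ Cfsg.sigmaCore M) (hy : y ∈ Cfsg.sigmaCore N) (hx1 : x ≠ 1) (hy1 : y ≠ 1)
    (hxy : x ≠ y) :
    ∀ r ∈ Cfsg.supportR M x, ∀ s ∈ Cfsg.supportR N y, x * r ≠ y * s := by
  intro r hr s hs heq
  obtain ⟨hxr, hrπ, hrd⟩ := pair_data h hM hx hx1 hr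
  obtain ⟨hys, hsπ, hsd⟩ := pair_data h hN hy hy1 hs
  have hxπ := isPiNum_of_mem_sigmaCore hx
  have hyπ := isPiNum_of_mem_sigmaCore hy
  by_cases hconj : ∃ g : G, N = M.map (cj g)
  · obtain ⟨g, rfl⟩ := hconj
    have hyπ' : IsPiNum (Cfsg.sigma M) (orderOf y) := fun p hp hd =>
      (mem_sigma_map_cj_iff g).mp (hyπ p hp hd)
    have hsπ' : IsPiNum (Cfsg.sigma M)ᶜ (orderOf s) := fun p hp hd hpM =>
      hsπ p hp hd ((mem_sigma_map_cj_iff g).mpr hpM)
    exact hxy (pi_parts_unique hxr hys heq hxπ hyπ' hrπ hsπ')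
  · have hdisj : ∀ p : ℕ, p ∈ Cfsg.sigma M → p ∈ Cfsg.sigma N → False := fun p h1 h2 =>
      hconj (sigma_partition' h hM hN h1 h2)
    have hcop : (orderOf y).Coprime (orderOf x) :=
      Nat.coprime_of_dvd fun p hp h1 h2 => hdisj p (hxπ p hp h2) (hyπ p hp h1)
    have hxg : x ∈ zpowers (x * r) := mem_zpowers_mul_of_coprime hxr (hxπ.coprime hrπ)
    have hyg : y ∈ zpowers (y * s) := mem_zpowers_mul_of_coprime hys (hyπ.coprime hsπ)
    have hxs : x ∈ zpowers s := mem_zpowers_of_mul_eq hxg hys heq hcop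
    have hyr : y ∈ zpowers r := mem_zpowers_of_mul_eq hyg hxr heq.symm hcop.symm
    rcases hrd with rfl | ⟨L, q, c, hxL, huniqx, hrL⟩
    · rw [zpowers_one_eq_bot, Subgroup.mem_bot] at hyr
      exact hy1 hyr
    rcases hsd with rfl | ⟨L', q', c', hyL', huniqy, hsL'⟩
    · rw [zpowers_one_eq_bot, Subgroup.mem_bot] at hxs
      exact hx1 hxs
    have hxL'σ : x ∈ Cfsg.sigmaCore L' := (zpowers_le.mpr hsL') hxs
    have hyLσ : y ∈ Cfsg.sigmaCore L := (zpowers_le.mpr hrL) hyr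
    obtain ⟨p, hp, hpd⟩ := exists_prime_dvd_orderOf hx1
    obtain ⟨g₁, hg₁⟩ := sigma_partition' h hM c'.hL (hxπ p hp hpd)
      (isPiNum_of_mem_sigmaCore hxL'σ p hp hpd)
    obtain ⟨p', hp', hpd'⟩ := exists_prime_dvd_orderOf hy1
    obtain ⟨g₂, hg₂⟩ := sigma_partition' h hN c.hL (hyπ p' hp' hpd')
      (isPiNum_of_mem_sigmaCore hyLσ p' hp' hpd')
    have hLL' : L' ≠ L := by
      intro heq'
      apply hconj
      refine ⟨g₂⁻¹ * g₁, ?_⟩
      rw [← map_cj_mul, ← hg₁, heq', hg₂, Cfsg.Agent.Helper14.map_cj_map_cj_inv]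
    have hCL' : ¬ centralizer ({x} : Set G) ≤ L' := fun hle => hLL' (huniqx L' c'.hL hle)
    obtain ⟨L₂, q₂, c₂, -, hCL₂, -⟩ := thmD_b h c'.hL hxL'σ hx1 hCL'
    have hL₂ : L₂ = L := huniqx L₂ c₂.hL hCL₂
    subst hL₂
    have : y ∈ L' ⊓ Cfsg.sigmaCore L₂ := ⟨hyL'.2, hyLσ⟩
    rw [c₂.inf_sigmaCore, Subgroup.mem_bot] at this
    exact hy1 this

end Cfsg.Agent.Helper29.BG14
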