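import Mathlib
import Cfsg.Prelude.Def_OddOrderLocal
import Cfsg.Agent.Helper29.BG14F

/-!
# B&G 14.5 / Theorem E: equivariance of `R(x)`, description of `M̃`, disjointness of `M̃`, `Ñ`
-/

set_option autoImplicit false
set_option linter.unusedSectionVars false
set_option linter.unusedVariables false
set_option linter.style.haveILetI false

namespace Cfsg.Agent.Helper29.BG14

open Subgroup Cfsg
open Cfsg.Agent.Helper14 (IsSylowIn cj map_cj_le_iff map_cj_mul map_cj_one map_cj_normalizer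
  mem_normalizer_iff_map_cj map_cj_eq_self_of_mem le_normalizer_of_map_cj_le mem_map_cj
  exists_isSylowIn_ge exists_isSylowIn isSylowIn_of_sylow isSylowIn_iff)
open Cfsg.Agent.Lead (IsPiNum)

universe u

variable {G : Type u} [Group G] [Finite G]

theorem conj_mem_map_cj {H : Subgroup G} {x : G} (y : G) :
    y * x * y⁻¹ ∈ H.map (cj y) ↔ x ∈ H := by
  rw [mem_map_cj]
  have : y⁻¹ * (y * x * y⁻¹) * y = x := by group
  rw [this]

theorem conj_ne_one {x : G} (y : G) (hx1 : x ≠ 1) : y * x * y⁻¹ ≠ 1 := by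
  intro h
  apply hx1
  have : x = y⁻¹ * (y * x * y⁻¹) * y := by group
  rw [this, h]; group

/-- equivariance of `R(x)` under simultaneous conjugation -/
theorem supportR_map_cj (h : Hyp G) {M : Subgroup G} (hM : IsCoatom M) {x : G}
    (hx : x ∈ Cfsg.sigmaCore M) (hx1 : x ≠ 1) (y : G) :
    Cfsg.supportR (M.map (cj y)) (y * x * y⁻¹) = (Cfsg.supportR M x).map (cj y) := by
  have hM' := Cfsg.Agent.Lead.BG9.isCoatom_map_cj hM y
  rcases supportR_cases h hM hx hx1 with ⟨hC, hS, -⟩ | ⟨hC, L, q, c, hxL, hCL, huniq, -, hS, -, -⟩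
  · rw [hS, Subgroup.map_bot]
    apply supportR_eq_bot_of_le
    rw [centralizer_singleton_map_cj]
    exact Subgroup.map_mono hC
  · have hL' := Cfsg.Agent.Lead.BG9.isCoatom_map_cj c.hL y
    have hx' : y * x * y⁻¹ ∈ Cfsg.sigmaCore (M.map (cj y)) := by
      rw [sigmaCore_map_cj h.hG hM, conj_mem_map_cj]; exact hx
    have hx1' := conj_ne_one y hx1
    rcases supportR_cases h hM' hx' hx1' with ⟨hC', -, -⟩ |
      ⟨-, L', q', c', -, hCL', huniq', -, hS', -, -⟩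
    · exfalso
      apply hC
      rw [centralizer_singleton_map_cj] at hC'
      intro z hz
      have := hC' (Subgroup.mem_map_of_mem (cj y) hz)
      rw [mem_map_cj] at this
      have h2 : y⁻¹ * (cj y) z * y = z := by
        show y⁻¹ * (y * z * y⁻¹) * y = z
        group
      rwa [h2] at this
    · have hLL : L.map (cj y) = L' := by
        apply huniq' _ hL'
        rw [centralizer_singleton_map_cj]
        exact Subgroup.map_mono hCL
      rw [hS', hS, ← hLL, sigmaCore_map_cj h.hG c.hL, centralizer_singleton_map_cj]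
      rw [Subgroup.map_inf _ _ _ (Cfsg.Agent.Helper14.cj_injective y)]

/-- `R(z)` does not depend on the conjugate of `M` containing `z` -/
theorem supportR_eq_of_conj (h : Hyp G) {M : Subgroup G} (hM : IsCoatom M) {z : G}
    (hz : z ∈ Cfsg.sigmaCore M) (hz1 : z ≠ 1) (g : G)
    (hzg : z ∈ Cfsg.sigmaCore (M.map (cj g))) :
    Cfsg.supportR (M.map (cj g)) z = Cfsg.supportR M z := by
  have hM' := Cfsg.Agent.Lead.BG9.isCoatom_map_cj hM g
  rcases supportR_cases h hM hz hz1 with ⟨hC, hS, hf⟩ | ⟨hC, L, q, c, hxL, hCL, huniq, -, hS, -, -⟩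
  · rw [hf g (Cfsg.Agent.H9.BG12.sigmaCore_le _ hzg)]
  · rcases supportR_cases h hM' hzg hz1 with ⟨hC', -, hf'⟩ |
      ⟨-, L', q', c', -, hCL', huniq', -, hS', -, -⟩
    · exfalso
      have h1 : (M.map (cj g)).map (cj g⁻¹) = M.map (cj g) := by
        apply hf'
        rw [Cfsg.Agent.Helper14.map_cj_map_cj_inv]
        exact Cfsg.Agent.H9.BG12.sigmaCore_le _ hz
      rw [Cfsg.Agent.Helper14.map_cj_map_cj_inv] at h1
      rw [← h1] at hC'
      exact hC hC'
    · have : L' = L := huniq L' c'.hL hCL'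
      rw [hS', hS, this]


/-- description of `M̃` -/
theorem mem_tildeOf_iff (h : Hyp G) {M : Subgroup G} (hM : IsCoatom M) (g : G) :
    g ∈ Cfsg.tildeOf M ((Cfsg.sigmaCore M : Set G) \ {1}) ↔
      ∃ y z ρ, z ∈ Cfsg.sigmaCore (M.map (cj y)) ∧ z ≠ 1 ∧
        ρ ∈ Cfsg.supportR (M.map (cj y)) z ∧ g = z * ρ := by
  constructor
  · rintro ⟨a, ⟨ha, ha1⟩, r, hr, y, rfl⟩
    have ha1' : a ≠ 1 := fun h0 => ha1 (by rw [h0]; rfl)
    refine ⟨y, y * a * y⁻¹, y * r * y⁻¹, ?_, conj_ne_one y ha1', ?_, by group⟩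
    · rw [sigmaCore_map_cj h.hG hM, conj_mem_map_cj]; exact ha
    · rw [supportR_map_cj h hM ha ha1', conj_mem_map_cj]; exact hr
  · rintro ⟨y, z, ρ, hz, hz1, hρ, rfl⟩
    rw [sigmaCore_map_cj h.hG hM, mem_map_cj] at hz
    have ha1 : y⁻¹ * z * y ≠ 1 := by
      have := conj_ne_one y⁻¹ hz1
      rwa [inv_inv] at this
    have hzz : z = y * (y⁻¹ * z * y) * y⁻¹ := by group
    rw [hzz, supportR_map_cj h hM hz ha1, mem_map_cj] at hρ
    refine ⟨y⁻¹ * z * y, ⟨hz, fun h0 => ha1 h0⟩, y⁻¹ * ρ * y, hρ, y, by group⟩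

/-- **B&G 14.5/Theorem E (2)**: `M̃ ∩ Ñ = ∅` for non-conjugate maximal subgroups -/
theorem tilde_disjoint (h : Hyp G) {M N : Subgroup G} (hM : IsCoatom M) (hN : IsCoatom N)
    (hnc : ∀ g : G, N ≠ M.map (cj g)) :
    Cfsg.tildeOf M ((Cfsg.sigmaCore M : Set G) \ {1}) ∩
      Cfsg.tildeOf N ((Cfsg.sigmaCore N : Set G) \ {1}) = ∅ := by
  rw [Set.eq_empty_iff_forall_notMem]
  rintro g ⟨hgM, hgN⟩
  obtain ⟨y, z, ρ, hz, hz1, hρ, rfl⟩ := (mem_tildeOf_iff h hM g).mp hgM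
  obtain ⟨y', z', ρ', hz', hz1', hρ', heq⟩ := (mem_tildeOf_iff h hN _).mp hgN
  have hM' := Cfsg.Agent.Lead.BG9.isCoatom_map_cj hM y
  have hN' := Cfsg.Agent.Lead.BG9.isCoatom_map_cj hN y'
  by_cases hzz : z = z'
  · subst hzz
    obtain ⟨p, hp, hpd⟩ := exists_prime_dvd_orderOf hz1
    have h1 : p ∈ Cfsg.sigma M :=
      (mem_sigma_map_cj_iff y).mp (isPiNum_of_mem_sigmaCore hz p hp hpd)
    have h2 : p ∈ Cfsg.sigma N :=
      (mem_sigma_map_cj_iff y').mp (isPiNum_of_mem_sigmaCore hz' p hp hpd)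
    obtain ⟨g, hg⟩ := sigma_partition' h hM hN h1 h2
    exact hnc g hg
  · exact s1433_of h _ _ hM' hN' z z' hz hz' hz1 hz1' hzz ρ hρ ρ' hρ' heq

/-- regular action of `R(z)` on the conjugates of `N` containing `z` -/
theorem supportR_regular (h : Hyp G) {N : Subgroup G} (hN : IsCoatom N) {z : G}
    (hz : z ∈ Cfsg.sigmaCore N) (hz1 : z ≠ 1) :
    (∀ g : G, z ∈ N.map (cj g) → ∃ r ∈ Cfsg.supportR N z, N.map (cj r) = N.map (cj g)) ∧
    (∀ r ∈ Cfsg.supportR N z, ∀ r' ∈ Cfsg.supportR N z,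
      N.map (cj r) = N.map (cj r') → r = r') := by
  rcases supportR_cases h hN hz hz1 with ⟨hC, hS, hf⟩ | ⟨hC, L, q, c, hxL, hCL, huniq, -, hS, -, hf⟩
  · refine ⟨fun g hg => ⟨1, Subgroup.one_mem _, ?_⟩, fun r hr r' hr' _ => ?_⟩
    · rw [map_cj_one, hf g hg]
    · rw [hS, Subgroup.mem_bot] at hr hr'
      rw [hr, hr']
  · refine ⟨hf, fun r hr r' hr' he => ?_⟩
    rw [hS] at hr hr'
    exact c.conj_unique h.hG hr.1 hr'.1 he

end Cfsg.Agent.Helper29.BG14
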