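import Mathlib
import Cfsg.Prelude.Def_OddOrderLocal
import Cfsg.Agent.Helper29.BG14G

/-!
# B&G 14.5(a) / Theorem E (1): `|M̃| = (|M_σ| - 1) |G : M|` (S1377)
-/

set_option autoImplicit false
set_option linter.unusedSectionVars false
set_option linter.unusedVariables false
set_option linter.style.haveILetI false

namespace Cfsg.Agent.Helper29.BG14

open Subgroup Cfsg
open Cfsg.Agent.Helper14 (IsSylowIn cj map_cj_le_iff map_cj_mul map_cj_one map_cj_normalizer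
  mem_normalizer_iff_map_cj map_cj_eq_self_of_mem le_normalizer_of_map_cj_le mem_map_cj
  exists_isSylowIn_ge exists_isSylowIn isSylowIn_of_sylow isSylowIn_iff)
open Cfsg.Agent.Lead (IsPiNum)

universe u

variable {G : Type u} [Group G] [Finite G]

/-- the union of the `R(z)` over the conjugates of `M` containing `z` (they all coincide) -/
def Rset (M : Subgroup G) (z : G) : Set G :=
  {ρ | ∃ y : G, z ∈ (Cfsg.sigmaCore M).map (cj y) ∧ ρ ∈ Cfsg.supportR (M.map (cj y)) z}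

/-- the cosets `c` of `M` with `z ∈ (M_σ)^c` -/
def Cset (M : Subgroup G) (z : G) : Set (G ⧸ M) :=
  {c | z ∈ (Cfsg.sigmaCore M).map (cj c.out)}

theorem mem_tildeOf_iff' (h : Hyp G) {M : Subgroup G} (hM : IsCoatom M) (g : G) :
    g ∈ Cfsg.tildeOf M ((Cfsg.sigmaCore M : Set G) \ {1}) ↔
      ∃ z ρ, z ≠ 1 ∧ ρ ∈ Rset M z ∧ g = z * ρ := by
  rw [mem_tildeOf_iff h hM]
  constructor
  · rintro ⟨y, z, ρ, hz, hz1, hρ, rfl⟩
    rw [sigmaCore_map_cj h.hG hM] at hz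
    exact ⟨z, ρ, hz1, ⟨y, hz, hρ⟩, rfl⟩
  · rintro ⟨z, ρ, hz1, ⟨y, hz, hρ⟩, rfl⟩
    rw [← sigmaCore_map_cj h.hG hM] at hz
    exact ⟨y, z, ρ, hz, hz1, hρ, rfl⟩

theorem Rset_inj (h : Hyp G) {M : Subgroup G} (hM : IsCoatom M) {z z' ρ ρ' : G}
    (hz1 : z ≠ 1) (hz1' : z' ≠ 1) (hρ : ρ ∈ Rset M z) (hρ' : ρ' ∈ Rset M z')
    (heq : z * ρ = z' * ρ') : z = z' ∧ ρ = ρ' := by
  obtain ⟨y, hz, hρ⟩ := hρ
  obtain ⟨y', hz', hρ'⟩ := hρ'
  rw [← sigmaCore_map_cj h.hG hM] at hz hz'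
  have hM' := Cfsg.Agent.Lead.BG9.isCoatom_map_cj hM y
  have hM'' := Cfsg.Agent.Lead.BG9.isCoatom_map_cj hM y'
  by_cases hzz : z = z'
  · subst hzz
    exact ⟨rfl, mul_left_cancel heq⟩
  · exact absurd heq (s1433_of h _ _ hM' hM'' z z' hz hz' hz1 hz1' hzz ρ hρ ρ' hρ')

theorem map_cj_out_mk (hG : Cfsg.IsMinSimpleOddOrder G) {M : Subgroup G} (hM : IsCoatom M)
    (g : G) :
    (Cfsg.sigmaCore M).map (cj (QuotientGroup.mk g : G ⧸ M).out) = (Cfsg.sigmaCore M).map (cj g) ∧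
    M.map (cj (QuotientGroup.mk g : G ⧸ M).out) = M.map (cj g) := by
  obtain ⟨m, hm⟩ := QuotientGroup.mk_out_eq_mul M g
  rw [hm]
  constructor
  · rw [← map_cj_mul]
    congr 1
    exact mem_normalizer_iff_map_cj.mp (Cfsg.Agent.H9.BG12.le_normalizer_sigmaCore M m.2)
  · rw [← map_cj_mul, map_cj_eq_self_of_mem m.2]

theorem card_fiber (h : Hyp G) {M : Subgroup G} (hM : IsCoatom M) {z : G} (hz1 : z ≠ 1) :
    Nat.card (Rset M z) = Nat.card (Cset M z) := by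
  by_cases hne : ∃ y : G, z ∈ (Cfsg.sigmaCore M).map (cj y)
  · obtain ⟨y₀, hy₀⟩ := hne
    have hN := Cfsg.Agent.Lead.BG9.isCoatom_map_cj hM y₀
    have hzN : z ∈ Cfsg.sigmaCore (M.map (cj y₀)) := by rw [sigmaCore_map_cj h.hG hM]; exact hy₀
    have hR : Rset M z = (Cfsg.supportR (M.map (cj y₀)) z : Set G) := by
      ext ρ
      constructor
      · rintro ⟨y, hz, hρ⟩
        have h1 : M.map (cj y) = (M.map (cj y₀)).map (cj (y * y₀⁻¹)) := by
          rw [map_cj_mul]; congr 2; group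
        have hz' : z ∈ Cfsg.sigmaCore ((M.map (cj y₀)).map (cj (y * y₀⁻¹))) := by
          rw [← h1, sigmaCore_map_cj h.hG hM]; exact hz
        rw [h1, supportR_eq_of_conj h hN hzN hz1 _ hz'] at hρ
        exact hρ
      · intro hρ
        exact ⟨y₀, hy₀, hρ⟩
    rw [hR]
    obtain ⟨hfus, huniq⟩ := supportR_regular h hN hzN hz1
    have hcomm : ∀ r ∈ Cfsg.supportR (M.map (cj y₀)) z, r⁻¹ * z * r = z := by
      intro r hr
      have := (pair_data h hN hzN hz1 hr).1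
      calc r⁻¹ * z * r = r⁻¹ * (z * r) := by group
        _ = r⁻¹ * (r * z) := by rw [this]
        _ = z := by group
    let f : (Cfsg.supportR (M.map (cj y₀)) z) → Cset M z := fun r =>
      ⟨QuotientGroup.mk (r.1 * y₀), by
        show z ∈ (Cfsg.sigmaCore M).map (cj (QuotientGroup.mk (r.1 * y₀) : G ⧸ M).out)
        rw [(map_cj_out_mk h.hG hM _).1, ← map_cj_mul, mem_map_cj, hcomm r.1 r.2]
        exact hy₀⟩
    apply Nat.card_eq_of_bijective f
    constructor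
    · intro r r' hrr
      have h1 : (QuotientGroup.mk (r.1 * y₀) : G ⧸ M) = QuotientGroup.mk (r'.1 * y₀) :=
        congrArg Subtype.val hrr
      rw [QuotientGroup.eq] at h1
      have h2 : M.map (cj (r.1 * y₀)) = M.map (cj (r'.1 * y₀)) := by
        have : r'.1 * y₀ = (r.1 * y₀) * ((r.1 * y₀)⁻¹ * (r'.1 * y₀)) := by group
        conv_rhs => rw [this, ← map_cj_mul, map_cj_eq_self_of_mem h1]
      rw [← map_cj_mul, ← map_cj_mul] at h2
      exact Subtype.ext (huniq r.1 r.2 r'.1 r'.2 h2)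
    · rintro ⟨c, hc⟩
      have hc' : z ∈ (Cfsg.sigmaCore M).map (cj c.out) := hc
      have h1 : z ∈ (M.map (cj y₀)).map (cj (c.out * y₀⁻¹)) := by
        rw [map_cj_mul]
        have : c.out * y₀⁻¹ * y₀ = c.out := by group
        rw [this]
        exact Subgroup.map_mono (Cfsg.Agent.H9.BG12.sigmaCore_le M) hc'
      obtain ⟨r, hr, hrg⟩ := hfus _ h1
      refine ⟨⟨r, hr⟩, Subtype.ext ?_⟩
      show (QuotientGroup.mk (r * y₀) : G ⧸ M) = c
      rw [map_cj_mul, map_cj_mul] at hrg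
      have h2 : c.out * y₀⁻¹ * y₀ = c.out := by group
      rw [h2] at hrg
      have h3 : M.map (cj ((r * y₀)⁻¹ * c.out)) = M := by
        rw [← map_cj_mul, ← hrg, Cfsg.Agent.Helper14.map_cj_map_cj_inv]
      have h4 := mem_of_map_cj_eq h.hG hM h3
      rw [← QuotientGroup.out_eq' c, QuotientGroup.eq]
      exact h4
  · have h1 : Rset M z = ∅ := by
      rw [Set.eq_empty_iff_forall_notMem]
      rintro ρ ⟨y, hz, -⟩
      exact hne ⟨y, hz⟩
    have h2 : Cset M z = ∅ := by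
      rw [Set.eq_empty_iff_forall_notMem]
      intro c hc
      exact hne ⟨c.out, hc⟩
    rw [h1, h2]
    simp


theorem card_tilde_eq_sigma (h : Hyp G) {M : Subgroup G} (hM : IsCoatom M) :
    Set.ncard (Cfsg.tildeOf M ((Cfsg.sigmaCore M : Set G) \ {1})) =
      Nat.card {x : G × G // x.1 ≠ 1 ∧ x.2 ∈ Rset M x.1} := by
  rw [← _root_.Nat.card_coe_set_eq]
  symm
  let f : {x : G × G // x.1 ≠ 1 ∧ x.2 ∈ Rset M x.1} →
      ↥(Cfsg.tildeOf M ((Cfsg.sigmaCore M : Set G) \ {1})) := fun x =>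
    ⟨x.1.1 * x.1.2, (mem_tildeOf_iff' h hM _).mpr ⟨x.1.1, x.1.2, x.2.1, x.2.2, rfl⟩⟩
  apply Nat.card_eq_of_bijective f
  constructor
  · rintro ⟨⟨z, ρ⟩, hz1, hρ⟩ ⟨⟨z', ρ'⟩, hz1', hρ'⟩ heq
    have heq' : z * ρ = z' * ρ' := congrArg Subtype.val heq
    obtain ⟨h1, h2⟩ := Rset_inj h hM hz1 hz1' hρ hρ' heq'
    subst h1; subst h2; rfl
  · rintro ⟨g, hg⟩
    obtain ⟨z, ρ, hz1, hρ, rfl⟩ := (mem_tildeOf_iff' h hM g).mp hg
    exact ⟨⟨(z, ρ), hz1, hρ⟩, rfl⟩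

theorem card_pairs_eq (h : Hyp G) {M : Subgroup G} (hM : IsCoatom M) :
    Nat.card {x : G × G // x.1 ≠ 1 ∧ x.2 ∈ Rset M x.1} =
      Nat.card {x : G × (G ⧸ M) // x.1 ≠ 1 ∧ x.2 ∈ Cset M x.1} := by
  have e1 := Equiv.subtypeProdEquivSigmaSubtype (fun (z : G) (ρ : G) => z ≠ 1 ∧ ρ ∈ Rset M z)
  have e2 := Equiv.subtypeProdEquivSigmaSubtype
    (fun (z : G) (c : G ⧸ M) => z ≠ 1 ∧ c ∈ Cset M z)
  rw [Nat.card_congr e1, Nat.card_congr e2]
  have key : ∀ z : G, Nonempty ({ρ : G // z ≠ 1 ∧ ρ ∈ Rset M z} ≃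
      {c : G ⧸ M // z ≠ 1 ∧ c ∈ Cset M z}) := by
    intro z
    apply Finite.card_eq.mp
    by_cases hz1 : z = 1
    · have : IsEmpty {ρ : G // z ≠ 1 ∧ ρ ∈ Rset M z} := ⟨fun x => x.2.1 hz1⟩
      have : IsEmpty {c : G ⧸ M // z ≠ 1 ∧ c ∈ Cset M z} := ⟨fun x => x.2.1 hz1⟩
      simp
    · have h1 : Nat.card {ρ : G // z ≠ 1 ∧ ρ ∈ Rset M z} = Nat.card (Rset M z) :=
        Nat.card_congr (Equiv.subtypeEquivRight (fun ρ => by simp [hz1]))
      have h2 : Nat.card {c : G ⧸ M // z ≠ 1 ∧ c ∈ Cset M z} = Nat.card (Cset M z) :=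
        Nat.card_congr (Equiv.subtypeEquivRight (fun ρ => by simp [hz1]))
      rw [h1, h2]
      exact card_fiber h hM hz1
  exact Nat.card_congr (Equiv.sigmaCongrRight fun z => (key z).some)

theorem card_pairs_coset (h : Hyp G) {M : Subgroup G} (hM : IsCoatom M) :
    Nat.card {x : G × (G ⧸ M) // x.1 ≠ 1 ∧ x.2 ∈ Cset M x.1} =
      (Nat.card (Cfsg.sigmaCore M) - 1) * M.index := by
  have hcard : Nat.card ↥((Cfsg.sigmaCore M : Set G) \ {1}) = Nat.card (Cfsg.sigmaCore M) - 1 := by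
    rw [_root_.Nat.card_coe_set_eq, Set.ncard_diff_singleton_of_mem (Subgroup.one_mem _),
      ← _root_.Nat.card_coe_set_eq]
    rfl
  rw [← hcard, Subgroup.index_eq_card, ← Nat.card_prod]
  let f : {x : G × (G ⧸ M) // x.1 ≠ 1 ∧ x.2 ∈ Cset M x.1} →
      ↥((Cfsg.sigmaCore M : Set G) \ {1}) × (G ⧸ M) := fun x =>
    (⟨x.1.2.out⁻¹ * x.1.1 * x.1.2.out, by
      refine ⟨?_, ?_⟩
      · have := x.2.2
        exact (mem_map_cj _ _).mp this
      · intro h0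
        have h1 := conj_ne_one x.1.2.out⁻¹ x.2.1
        rw [inv_inv] at h1
        exact h1 h0⟩, x.1.2)
  apply Nat.card_eq_of_bijective f
  constructor
  · rintro ⟨⟨z, c⟩, hz1, hc⟩ ⟨⟨z', c'⟩, hz1', hc'⟩ heq
    have h2 : c = c' := congrArg Prod.snd heq
    subst h2
    have h1 : c.out⁻¹ * z * c.out = c.out⁻¹ * z' * c.out :=
      congrArg (fun p => (p.1 : G)) heq
    have : z = z' := by
      have e1 : z = c.out * (c.out⁻¹ * z * c.out) * c.out⁻¹ := by group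
      rw [e1, h1]; group
    subst this
    rfl
  · rintro ⟨⟨a, ha, ha1⟩, c⟩
    have ha1' : a ≠ 1 := fun h0 => ha1 (by rw [h0]; rfl)
    refine ⟨⟨(c.out * a * c.out⁻¹, c), conj_ne_one _ ha1', ?_⟩, ?_⟩
    · show c.out * a * c.out⁻¹ ∈ (Cfsg.sigmaCore M).map (cj c.out)
      rw [conj_mem_map_cj]; exact ha
    · apply Prod.ext
      · apply Subtype.ext
        show c.out⁻¹ * (c.out * a * c.out⁻¹) * c.out = a
        group
      · rfl

/-- **S1377** -/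
theorem s1377_of (h : Hyp G) (M : Subgroup G) (hM : IsCoatom M) :
    Set.ncard (Cfsg.tildeOf M ((Cfsg.sigmaCore M : Set G) \ {1})) =
      (Nat.card (Cfsg.sigmaCore M) - 1) * M.index := by
  rw [card_tilde_eq_sigma h hM, card_pairs_eq h hM, card_pairs_coset h hM]

end Cfsg.Agent.Helper29.BG14
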