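import Mathlib
import Cfsg.Agent.Helper8.DihVec

/-!
# Brauer–Suzuki–Wall: the combinatorial shape of the exceptional characters (piece SHAPE)

Statements fixed by `departures/helper21_bsw_pieces.md` (coordinator helper21, S3282 + S0508).
-/

set_option autoImplicit false

namespace Cfsg.Agent.Helper21.Bsw.Shape
open Cfsg.Agent.Helper8.DihVec
variable {I L : Type*} [Fintype I] [DecidableEq I] [Fintype L] [DecidableEq L]

structure Hyp (c : L → I → ℤ) (d : I → ℤ) (χ0 : I) (bar : L → L) (l0 : L) : Prop where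
  hd : ∀ χ, 0 < d χ
  hd0 : d χ0 = 1
  hbar : ∀ l, bar (bar l) = l
  hfix : ∀ l, bar l = l ↔ l = l0
  hcbar : ∀ l, c (bar l) = c l
  hcc : ∀ l m, ∑ χ, c l χ * c m χ
    = 2 + (if l = m then 1 else 0) + (if l = bar m then 1 else 0)
  hc0 : ∀ l, c l χ0 = 1
  hcd : ∀ l, ∑ χ, c l χ * d χ = 0

def Std (c : L → I → ℤ) (χ0 : I) (bar : L → L) (l0 : L) : Prop :=
  ∃ (ε : ℤ) (Y : I) (f : L → I) (Z2 Z3 : I) (e2 e3 : ℤ),
    (ε = 1 ∨ ε = -1) ∧ (e2 = 1 ∨ e2 = -1) ∧ (e3 = 1 ∨ e3 = -1) ∧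
    Y ≠ χ0 ∧ Z2 ≠ χ0 ∧ Z3 ≠ χ0 ∧ Z2 ≠ Y ∧ Z3 ≠ Y ∧ Z2 ≠ Z3 ∧
    (∀ l, l ≠ l0 → f l ≠ χ0 ∧ f l ≠ Y ∧ f l ≠ Z2 ∧ f l ≠ Z3) ∧
    (∀ l m, l ≠ l0 → m ≠ l0 → (f l = f m ↔ (m = l ∨ m = bar l))) ∧
    (∀ l, l ≠ l0 → ∀ χ, c l χ = ind χ0 1 χ + ind Y ε χ - ind (f l) ε χ) ∧
    (∀ χ, c l0 χ = ind χ0 1 χ + ind Y ε χ + ind Z2 e2 χ + ind Z3 e3 χ)

def Exotic (c : L → I → ℤ) (χ0 : I) (bar : L → L) (l0 : L) : Prop :=
  ∃ (ε : ℤ) (Y : I) (l1 l2 : L) (Λ1 Λ2 E : I) (e : ℤ),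
    (ε = 1 ∨ ε = -1) ∧ (e = 1 ∨ e = -1) ∧
    l1 ≠ l0 ∧ l2 ≠ l0 ∧ l2 ≠ l1 ∧ l2 ≠ bar l1 ∧
    (∀ l, l = l0 ∨ l = l1 ∨ l = bar l1 ∨ l = l2 ∨ l = bar l2) ∧
    Y ≠ χ0 ∧ Λ1 ≠ χ0 ∧ Λ2 ≠ χ0 ∧ E ≠ χ0 ∧ Λ1 ≠ Y ∧ Λ2 ≠ Y ∧ E ≠ Y ∧ Λ1 ≠ Λ2 ∧ E ≠ Λ1 ∧ E ≠ Λ2 ∧
    (∀ χ, c l1 χ = ind χ0 1 χ + ind Y ε χ - ind Λ1 ε χ) ∧
    (∀ χ, c l2 χ = ind χ0 1 χ + ind Y ε χ - ind Λ2 ε χ) ∧
    (∀ χ, c l0 χ = ind χ0 1 χ - ind Λ1 ε χ - ind Λ2 ε χ + ind E e χ)

variable {c : L → I → ℤ} {d : I → ℤ} {χ0 : I} {bar : L → L} {l0 : L}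

/-! ### basic facts -/

theorem Hyp.bar_ne_self (H : Hyp c d χ0 bar l0) {l : L} (hl : l ≠ l0) : bar l ≠ l :=
  fun h => hl ((H.hfix l).mp h)

theorem Hyp.bar_l0 (H : Hyp c d χ0 bar l0) : bar l0 = l0 := (H.hfix l0).mpr rfl

theorem Hyp.bar_ne_l0 (H : Hyp c d χ0 bar l0) {l : L} (hl : l ≠ l0) : bar l ≠ l0 := by
  intro h
  apply hl
  rw [← H.hbar l, h, H.bar_l0]

theorem Hyp.norm_ne (H : Hyp c d χ0 bar l0) {l : L} (hl : l ≠ l0) : ∑ χ, c l χ ^ 2 = 3 := by
  have := H.hcc l l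
  rw [if_pos rfl, if_neg (fun h => H.bar_ne_self hl h.symm)] at this
  have h3 : ∑ χ, c l χ ^ 2 = ∑ χ, c l χ * c l χ := Finset.sum_congr rfl fun χ _ => sq (c l χ)
  rw [h3, this]; norm_num

theorem Hyp.norm_l0 (H : Hyp c d χ0 bar l0) : ∑ χ, c l0 χ ^ 2 = 4 := by
  have := H.hcc l0 l0
  rw [if_pos rfl, if_pos H.bar_l0.symm] at this
  have h3 : ∑ χ, c l0 χ ^ 2 = ∑ χ, c l0 χ * c l0 χ := Finset.sum_congr rfl fun χ _ => sq (c l0 χ)
  rw [h3, this]; norm_num

/-- the sign rule from the degree relation -/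
theorem sign_rule' {s t p r : ℤ} (hs : s = 1 ∨ s = -1) (ht : t = 1 ∨ t = -1) (hp : 0 < p)
    (hr : 0 < r) (h : 1 + s * p + t * r = 0) : t = -s := by
  rcases hs with rfl | rfl <;> rcases ht with rfl | rfl <;> omega

/-- the sum of products against a four-term vector -/
theorem sum_four_mul {v : I → ℤ} {x y z u : I} {s t r q : ℤ}
    (hv : ∀ χ, v χ = ind x s χ + ind y t χ + ind z r χ + ind u q χ)
    (w : I → ℤ) : ∑ χ, v χ * w χ = s * w x + t * w y + r * w z + q * w u := by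
  rw [← sum_ind_mul x s w, ← sum_ind_mul y t w, ← sum_ind_mul z r w, ← sum_ind_mul u q w,
    ← Finset.sum_add_distrib, ← Finset.sum_add_distrib, ← Finset.sum_add_distrib]
  refine Finset.sum_congr rfl fun χ _ => ?_
  rw [hv χ]; ring

/-- the non-principal part of `c l0` has norm three -/
theorem Hyp.norm_del_l0 (H : Hyp c d χ0 bar l0) : ∑ χ, del χ0 (c l0) χ ^ 2 = 3 := by
  have h1 := norm_del χ0 (c l0)
  rw [H.norm_l0, H.hc0 l0] at h1
  omega

theorem Hyp.entry_l0 (H : Hyp c d χ0 bar l0) {x : I} (hx : x ≠ χ0) :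
    c l0 x = 0 ∨ c l0 x = 1 ∨ c l0 x = -1 := by
  have := entry_of_norm_le_three (v := del χ0 (c l0)) (by rw [H.norm_del_l0]) x
  rwa [del_ne _ hx] at this

/-- decomposition of `c l`, `l ≠ l0`: one `+` and one `-` besides the principal character -/
theorem Hyp.decompPN (H : Hyp c d χ0 bar l0) {l : L} (hl : l ≠ l0) :
    ∃ P N, P ≠ χ0 ∧ N ≠ χ0 ∧ P ≠ N ∧
      ∀ χ, c l χ = ind χ0 1 χ + ind P 1 χ + ind N (-1) χ := by
  have h0 : c l χ0 ≠ 0 := by rw [H.hc0 l]; norm_num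
  obtain ⟨-, h2⟩ := norm_three_at (H.norm_ne hl) h0
  obtain ⟨x, y, s, t, hxy, hs, ht, hv⟩ := norm_two h2
  have hs0 : s ≠ 0 := by rcases hs with rfl | rfl <;> norm_num
  have ht0 : t ≠ 0 := by rcases ht with rfl | rfl <;> norm_num
  have hx0 : x ≠ χ0 := by
    intro h
    have := hv χ0
    rw [del_self, h, ind_self, ind_ne _ (fun h' => hxy (h.trans h'))] at this
    exact hs0 (by linarith)
  have hy0 : y ≠ χ0 := by
    intro h
    have := hv χ0
    rw [del_self, h, ind_self, ind_ne _ (fun h' => hxy (h'.symm.trans h.symm))] at this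
    exact ht0 (by linarith)
  have hfull : ∀ χ, c l χ = ind χ0 1 χ + ind x s χ + ind y t χ := by
    intro χ
    rw [eq_ind_add_del χ0 (c l) χ, H.hc0 l, hv χ, add_assoc]
  have hdeg : 1 + s * d x + t * d y = 0 := by
    have := H.hcd l
    rw [sum_three_mul hfull, H.hd0] at this
    linarith
  have hts := sign_rule' hs ht (H.hd x) (H.hd y) hdeg
  rcases hs with rfl | rfl
  · refine ⟨x, y, hx0, hy0, hxy, fun χ => ?_⟩
    rw [hfull χ, hts]
  · refine ⟨y, x, hy0, hx0, hxy.symm, fun χ => ?_⟩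
    rw [hfull χ, hts]; ring

/-! ### oriented decompositions -/

/-- an oriented decomposition `c l = χ0 + ε U(l) - ε V(l)` for all `l ≠ l0` -/
def Dec (c : L → I → ℤ) (χ0 : I) (l0 : L) (ε : ℤ) (U V : L → I) : Prop :=
  ∀ l, l ≠ l0 → U l ≠ χ0 ∧ V l ≠ χ0 ∧ U l ≠ V l ∧
    ∀ χ, c l χ = ind χ0 1 χ + ind (U l) ε χ + ind (V l) (-ε) χ

variable {ε : ℤ} {U V : L → I}

theorem Dec.val (D : Dec c χ0 l0 ε U V) {l : L} (hl : l ≠ l0) {x : I} (hx : x ≠ χ0) :
    c l x = (if x = U l then ε else 0) + (if x = V l then -ε else 0) := by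
  rw [(D l hl).2.2.2 x, ind_ne _ hx, ind_apply, ind_apply, zero_add]

theorem Dec.U_val (D : Dec c χ0 l0 ε U V) {l : L} (hl : l ≠ l0) : c l (U l) = ε := by
  rw [D.val hl (D l hl).1, if_pos rfl, if_neg (D l hl).2.2.1, add_zero]

theorem Dec.V_val (D : Dec c χ0 l0 ε U V) {l : L} (hl : l ≠ l0) : c l (V l) = -ε := by
  rw [D.val hl (D l hl).2.1, if_neg (fun h => (D l hl).2.2.1 h.symm), if_pos rfl, zero_add]

theorem Dec.same (hε : ε = 1 ∨ ε = -1) (D : Dec c χ0 l0 ε U V) {l m : L} (hl : l ≠ l0)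
    (hm : m ≠ l0) (hcm : c m = c l) : U m = U l ∧ V m = V l := by
  constructor
  · have h1 : c m (U l) = ε := by rw [hcm]; exact D.U_val hl
    rw [D.val hm (D l hl).1] at h1
    by_contra hne
    rw [if_neg (show ¬ U l = U m from fun h => hne h.symm)] at h1
    split_ifs at h1 <;> rcases hε with rfl | rfl <;> omega
  · have h1 : c m (V l) = -ε := by rw [hcm]; exact D.V_val hl
    rw [D.val hm (D l hl).2.1] at h1
    by_contra hne
    rw [if_neg (show ¬ V l = V m from fun h => hne h.symm)] at h1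
    split_ifs at h1 <;> rcases hε with rfl | rfl <;> omega

theorem Dec.barEq (H : Hyp c d χ0 bar l0) (hε : ε = 1 ∨ ε = -1) (D : Dec c χ0 l0 ε U V) {l : L}
    (hl : l ≠ l0) : U (bar l) = U l ∧ V (bar l) = V l :=
  D.same hε hl (H.bar_ne_l0 hl) (H.hcbar l)

/-- two members in different pairs share exactly the head or exactly the tail -/
theorem Dec.pair (H : Hyp c d χ0 bar l0) (hε : ε = 1 ∨ ε = -1) (D : Dec c χ0 l0 ε U V)
    {l m : L} (hl : l ≠ l0) (hm : m ≠ l0) (hml : m ≠ l) (hmb : m ≠ bar l) :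
    (U l = U m ∧ V l ≠ V m) ∨ (V l = V m ∧ U l ≠ U m) := by
  have hlm : l ≠ bar m := by
    intro h
    apply hmb
    rw [h, H.hbar]
  have h1 := H.hcc l m
  rw [if_neg (Ne.symm hml), if_neg hlm, sum_three_mul (D l hl).2.2.2, H.hc0 m,
    D.val hm (D l hl).1, D.val hm (D l hl).2.1] at h1
  have hUVm := (D m hm).2.2.1
  have hUVl := (D l hl).2.2.1
  by_cases a : U l = U m <;> by_cases b : U l = V m <;> by_cases c' : V l = U m <;>
    by_cases e : V l = V m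
  all_goals first | rw [if_pos a] at h1 | rw [if_neg a] at h1
  all_goals first | rw [if_pos b] at h1 | rw [if_neg b] at h1
  all_goals first | rw [if_pos c'] at h1 | rw [if_neg c'] at h1
  all_goals first | rw [if_pos e] at h1 | rw [if_neg e] at h1
  all_goals first
    | (exfalso; exact hUVm (a.symm.trans b))
    | (exfalso; exact hUVm (c'.symm.trans e))
    | (exfalso; exact hUVl (a.trans c'.symm))
    | (exfalso; exact hUVl (b.trans e.symm))
    | (exfalso; rcases hε with rfl | rfl <;> omega)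
    | (left; exact ⟨a, e⟩)
    | (right; exact ⟨e, a⟩)

theorem Dec.deg (H : Hyp c d χ0 bar l0) (D : Dec c χ0 l0 ε U V) {l : L} (hl : l ≠ l0) :
    1 + ε * d (U l) - ε * d (V l) = 0 := by
  have := H.hcd l
  rw [sum_three_mul (D l hl).2.2.2, H.hd0] at this
  linarith

theorem Dec.rel0 (H : Hyp c d χ0 bar l0) (D : Dec c χ0 l0 ε U V) {l : L} (hl : l ≠ l0) :
    ε * c l0 (U l) - ε * c l0 (V l) = 1 := by
  have h1 := H.hcc l l0
  rw [if_neg hl, if_neg (by rw [H.bar_l0]; exact hl), sum_three_mul (D l hl).2.2.2,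
    H.hc0 l0] at h1
  linarith

/-- the star lemma: if two different pairs share the head, all members have that head -/
theorem Dec.star (H : Hyp c d χ0 bar l0) (hε : ε = 1 ∨ ε = -1) (D : Dec c χ0 l0 ε U V)
    {l1 l2 : L} (h1 : l1 ≠ l0) (h2 : l2 ≠ l0) (h21 : l2 ≠ l1) (h21' : l2 ≠ bar l1)
    (hU : U l1 = U l2) : ∀ m, m ≠ l0 → U m = U l1 := by
  intro m hm
  by_cases e1 : m = l1
  · rw [e1]
  by_cases e1' : m = bar l1
  · rw [e1']; exact (D.barEq H hε h1).1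
  by_cases e2 : m = l2
  · rw [e2]; exact hU.symm
  by_cases e2' : m = bar l2
  · rw [e2', (D.barEq H hε h2).1]; exact hU.symm
  rcases D.pair H hε h1 hm e1 e1' with ⟨h, -⟩ | ⟨hV1, hU1⟩
  · exact h.symm
  exfalso
  rcases D.pair H hε h2 hm e2 e2' with ⟨h, -⟩ | ⟨hV2, -⟩
  · exact hU1 (hU.trans h)
  · rcases D.pair H hε h1 h2 h21 h21' with ⟨-, hne⟩ | ⟨-, hne⟩
    · exact hne (hV1.trans hV2.symm)
    · exact hne hU

/-- injectivity of the tails on pairs, in a star -/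
theorem Dec.tail_iff (H : Hyp c d χ0 bar l0) (hε : ε = 1 ∨ ε = -1) (D : Dec c χ0 l0 ε U V)
    {Y : I} (hY : ∀ l, l ≠ l0 → U l = Y) {l m : L} (hl : l ≠ l0) (hm : m ≠ l0) :
    V l = V m ↔ (m = l ∨ m = bar l) := by
  constructor
  · intro h
    by_contra hcon
    push Not at hcon
    rcases D.pair H hε hl hm hcon.1 hcon.2 with ⟨-, hne⟩ | ⟨-, hne⟩
    · exact hne h
    · exact hne ((hY l hl).trans (hY m hm).symm)
  · rintro (rfl | rfl)
    · rfl
    · exact (D.barEq H hε hl).2.symm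

/-! ### SHAPE-2 -/

/-- SHAPE-2 -/
theorem shape_l0 (H : Hyp c d χ0 bar l0) :
    ∃ (Z1 Z2 Z3 : I) (e1 e2 e3 : ℤ), (e1 = 1 ∨ e1 = -1) ∧ (e2 = 1 ∨ e2 = -1) ∧ (e3 = 1 ∨ e3 = -1) ∧
      Z1 ≠ χ0 ∧ Z2 ≠ χ0 ∧ Z3 ≠ χ0 ∧ Z1 ≠ Z2 ∧ Z1 ≠ Z3 ∧ Z2 ≠ Z3 ∧
      ∀ χ, c l0 χ = ind χ0 1 χ + ind Z1 e1 χ + ind Z2 e2 χ + ind Z3 e3 χ := by
  obtain ⟨x, y, z, s, t, r, hxy, hxz, hyz, hs, ht, hr, hv⟩ := norm_three H.norm_del_l0
  have hs0 : s ≠ 0 := by rcases hs with rfl | rfl <;> norm_num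
  have ht0 : t ≠ 0 := by rcases ht with rfl | rfl <;> norm_num
  have hr0 : r ≠ 0 := by rcases hr with rfl | rfl <;> norm_num
  have hx0 : x ≠ χ0 := by
    intro h
    have := hv χ0
    rw [del_self, h, ind_self, ind_ne _ (fun h' => hxy (h.trans h')),
      ind_ne _ (fun h' => hxz (h.trans h'))] at this
    exact hs0 (by linarith)
  have hy0 : y ≠ χ0 := by
    intro h
    have := hv χ0
    rw [del_self, h, ind_self, ind_ne _ (fun h' => hxy (h'.symm.trans h.symm)),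
      ind_ne _ (fun h' => hyz (h.trans h'))] at this
    exact ht0 (by linarith)
  have hz0 : z ≠ χ0 := by
    intro h
    have := hv χ0
    rw [del_self, h, ind_self, ind_ne _ (fun h' => hxz (h'.symm.trans h.symm)),
      ind_ne _ (fun h' => hyz (h'.symm.trans h.symm))] at this
    exact hr0 (by linarith)
  refine ⟨x, y, z, s, t, r, hs, ht, hr, hx0, hy0, hz0, hxy, hxz, hyz, fun χ => ?_⟩
  rw [eq_ind_add_del χ0 (c l0) χ, H.hc0 l0, hv χ]; ring

/-! ### the standard shape -/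

theorem Dec.std_of (H : Hyp c d χ0 bar l0) (hε : ε = 1 ∨ ε = -1) (D : Dec c χ0 l0 ε U V)
    {Y : I} (hY0 : Y ≠ χ0) (hY : ∀ l, l ≠ l0 → U l = Y) (hcY : c l0 Y = ε) :
    Std c χ0 bar l0 := by
  have hε0 : ε ≠ 0 := by rcases hε with rfl | rfl <;> norm_num
  have hεε : ε * ε = 1 := by rcases hε with rfl | rfl <;> norm_num
  have hwY : del χ0 (c l0) Y = ε := by rw [del_ne _ hY0, hcY]
  have hwY0 : del χ0 (c l0) Y ≠ 0 := by rw [hwY]; exact hε0
  obtain ⟨-, h2⟩ := norm_three_at H.norm_del_l0 hwY0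
  obtain ⟨Z2, Z3, e2, e3, h23, he2, he3, hv⟩ := norm_two h2
  have he20 : e2 ≠ 0 := by rcases he2 with rfl | rfl <;> norm_num
  have he30 : e3 ≠ 0 := by rcases he3 with rfl | rfl <;> norm_num
  have hZ2Y : Z2 ≠ Y := by
    intro h
    have := hv Y
    rw [del_self, h, ind_self, ind_ne _ (fun h' => h23 (h.trans h'))] at this
    exact he20 (by linarith)
  have hZ3Y : Z3 ≠ Y := by
    intro h
    have := hv Y
    rw [del_self, h, ind_self, ind_ne _ (fun h' => h23 (h'.symm.trans h.symm))] at this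
    exact he30 (by linarith)
  have hZ20 : Z2 ≠ χ0 := by
    intro h
    have := hv χ0
    rw [del_ne _ hY0.symm, del_self, h, ind_self,
      ind_ne _ (fun h' => h23 (h.trans h'))] at this
    exact he20 (by linarith)
  have hZ30 : Z3 ≠ χ0 := by
    intro h
    have := hv χ0
    rw [del_ne _ hY0.symm, del_self, h, ind_self,
      ind_ne _ (fun h' => h23 (h'.symm.trans h.symm))] at this
    exact he30 (by linarith)
  have hfull : ∀ χ, c l0 χ = ind χ0 1 χ + ind Y ε χ + ind Z2 e2 χ + ind Z3 e3 χ := by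
    intro χ
    rw [eq_ind_add_del χ0 (c l0) χ, H.hc0 l0, eq_ind_add_del Y (del χ0 (c l0)) χ, hwY, hv χ]
    ring
  have hcZ2 : c l0 Z2 = e2 := by
    rw [hfull Z2, ind_ne _ hZ20, ind_ne _ hZ2Y, ind_self, ind_ne _ h23]; ring
  have hcZ3 : c l0 Z3 = e3 := by
    rw [hfull Z3, ind_ne _ hZ30, ind_ne _ hZ3Y, ind_ne _ h23.symm, ind_self]; ring
  have hcV : ∀ l, l ≠ l0 → c l0 (V l) = 0 := by
    intro l hl
    have h1 := D.rel0 H hl
    rw [hY l hl, hcY, hεε] at h1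
    have h3 : ε * c l0 (V l) = 0 := by linarith
    rcases mul_eq_zero.mp h3 with h | h
    · exact absurd h hε0
    · exact h
  refine ⟨ε, Y, V, Z2, Z3, e2, e3, hε, he2, he3, hY0, hZ20, hZ30, hZ2Y, hZ3Y, h23, ?_, ?_, ?_,
    hfull⟩
  · intro l hl
    refine ⟨(D l hl).2.1, ?_, ?_, ?_⟩
    · rw [← hY l hl]; exact fun h => (D l hl).2.2.1 h.symm
    · intro h
      have := hcV l hl
      rw [h, hcZ2] at this
      exact he20 this
    · intro h
      have := hcV l hl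
      rw [h, hcZ3] at this
      exact he30 this
  · intro l m hl hm
    exact D.tail_iff H hε hY hl hm
  · intro l hl χ
    rw [(D l hl).2.2.2 χ, hY l hl]
    simp only [ind_apply]
    split_ifs <;> ring

/-! ### the exotic shape -/

theorem Dec.exotic_of (H : Hyp c d χ0 bar l0) (hε : ε = 1 ∨ ε = -1) (D : Dec c χ0 l0 ε U V)
    {Y : I} (hY0 : Y ≠ χ0) (hY : ∀ l, l ≠ l0 → U l = Y) (hcY : c l0 Y = 0)
    {l1 l2 : L} (h1 : l1 ≠ l0) (h2 : l2 ≠ l0) (h21 : l2 ≠ l1) (h21' : l2 ≠ bar l1) :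
    Fintype.card L = 5 ∧ Exotic c χ0 bar l0 := by
  have hε0 : ε ≠ 0 := by rcases hε with rfl | rfl <;> norm_num
  have hεε : ε * ε = 1 := by rcases hε with rfl | rfl <;> norm_num
  -- values of `c l0` on the tails
  have hcV : ∀ l, l ≠ l0 → c l0 (V l) = -ε := by
    intro l hl
    have h3 := D.rel0 H hl
    rw [hY l hl, hcY] at h3
    have h4 : ε * (ε * c l0 (V l)) = ε * (-1) := by rw [show ε * c l0 (V l) = -1 by linarith]
    rw [← mul_assoc, hεε] at h4
    linarith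
  have hVY : ∀ l, l ≠ l0 → V l ≠ Y := by
    intro l hl h
    exact (D l hl).2.2.1 ((hY l hl).trans h.symm)
  have hV12 : V l1 ≠ V l2 := by
    intro h
    rcases (D.tail_iff H hε hY h1 h2).mp h with h' | h'
    · exact h21 h'
    · exact h21' h'
  have hw1 : del χ0 (c l0) (V l1) = -ε := by rw [del_ne _ (D l1 h1).2.1, hcV l1 h1]
  have hw2 : del χ0 (c l0) (V l2) = -ε := by rw [del_ne _ (D l2 h2).2.1, hcV l2 h2]
  have hnε0 : -ε ≠ 0 := by rwa [neg_ne_zero]
  obtain ⟨-, -, E, e, hE1, hE2, he, hv⟩ := norm_three_at_two H.norm_del_l0 hV12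
    (by rw [hw1]; exact hnε0) (by rw [hw2]; exact hnε0)
  rw [hw1, hw2] at hv
  have he0 : e ≠ 0 := by rcases he with rfl | rfl <;> norm_num
  have hE0 : E ≠ χ0 := by
    intro h
    have := hv χ0
    rw [del_self, ind_ne _ (D l1 h1).2.1.symm, ind_ne _ (D l2 h2).2.1.symm, h,
      ind_self] at this
    exact he0 (by linarith)
  have hEY : E ≠ Y := by
    intro h
    have := hv Y
    rw [del_ne _ hY0, hcY, ind_ne _ (hVY l1 h1).symm, ind_ne _ (hVY l2 h2).symm, h,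
      ind_self] at this
    exact he0 (by linarith)
  have hfull : ∀ χ, c l0 χ = ind χ0 1 χ + ind (V l1) (-ε) χ + ind (V l2) (-ε) χ + ind E e χ := by
    intro χ
    rw [eq_ind_add_del χ0 (c l0) χ, H.hc0 l0, hv χ]; ring
  -- no third pair
  have hcover : ∀ l, l = l0 ∨ l = l1 ∨ l = bar l1 ∨ l = l2 ∨ l = bar l2 := by
    intro l
    by_contra hcon
    push Not at hcon
    obtain ⟨hl, hl1, hl1', hl2, hl2'⟩ := hcon
    have hV13 : V l1 ≠ V l := by
      intro h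
      rcases (D.tail_iff H hε hY h1 hl).mp h with h' | h'
      · exact hl1 h'
      · exact hl1' h'
    have hV23 : V l2 ≠ V l := by
      intro h
      rcases (D.tail_iff H hε hY h2 hl).mp h with h' | h'
      · exact hl2 h'
      · exact hl2' h'
    have h3 := hcV l hl
    rw [hfull (V l), ind_ne _ (D l hl).2.1, ind_ne _ (Ne.symm hV13), ind_ne _ (Ne.symm hV23)] at h3
    have hEV : V l = E := by
      by_contra hne
      rw [ind_ne _ hne] at h3
      exact hnε0 (by linarith)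
    rw [hEV, ind_self] at h3
    have he' : e = -ε := by linarith
    -- degrees
    have d0 := H.hcd l0
    rw [sum_four_mul hfull, H.hd0, he', ← hEV] at d0
    have d1 := D.deg H h1
    have d2 := D.deg H h2
    have d3 := D.deg H hl
    rw [hY l1 h1] at d1
    rw [hY l2 h2] at d2
    rw [hY l hl] at d3
    have e1 : -ε * d (V l1) = -(ε * d (V l1)) := by ring
    have e2 : -ε * d (V l2) = -(ε * d (V l2)) := by ring
    have e3 : -ε * d (V l) = -(ε * d (V l)) := by ring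
    rw [e1, e2, e3] at d0
    generalize ε * d Y = A at d1 d2 d3
    generalize ε * d (V l1) = B1 at d0 d1
    generalize ε * d (V l2) = B2 at d0 d2
    generalize ε * d (V l) = B3 at d0 d3
    omega
  -- the cardinality
  have hb1 := H.bar_ne_l0 h1
  have hb2 := H.bar_ne_l0 h2
  have hb1' := H.bar_ne_self h1
  have hb2' := H.bar_ne_self h2
  have hb21 : bar l2 ≠ l1 := by
    intro h
    apply h21'
    rw [← h, H.hbar]
  have hb2b1 : bar l2 ≠ bar l1 := by
    intro h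
    apply h21
    rw [← H.hbar l2, h, H.hbar]
  have huniv : (Finset.univ : Finset L) = {l0, l1, bar l1, l2, bar l2} := by
    ext l
    simp only [Finset.mem_univ, Finset.mem_insert, Finset.mem_singleton, true_iff]
    exact hcover l
  have hcard : Fintype.card L = 5 := by
    rw [← Finset.card_univ, huniv]
    rw [Finset.card_insert_of_notMem, Finset.card_insert_of_notMem, Finset.card_insert_of_notMem,
      Finset.card_insert_of_notMem, Finset.card_singleton]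
    · simp only [Finset.mem_singleton]
      exact fun h => hb2' h.symm
    · simp only [Finset.mem_insert, Finset.mem_singleton, not_or]
      exact ⟨fun h => h21' h.symm, fun h => hb2b1 h.symm⟩
    · simp only [Finset.mem_insert, Finset.mem_singleton, not_or]
      exact ⟨fun h => hb1' h.symm, fun h => h21 h.symm, fun h => hb21 h.symm⟩
    · simp only [Finset.mem_insert, Finset.mem_singleton, not_or]
      exact ⟨fun h => h1 h.symm, fun h => hb1 h.symm, fun h => h2 h.symm, fun h => hb2 h.symm⟩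
  refine ⟨hcard, ε, Y, l1, l2, V l1, V l2, E, e, hε, he, h1, h2, h21, h21', hcover, hY0,
    (D l1 h1).2.1, (D l2 h2).2.1, hE0, hVY l1 h1, hVY l2 h2, hEY, hV12, hE1, hE2, ?_, ?_, ?_⟩
  · intro χ
    rw [(D l1 h1).2.2.2 χ, hY l1 h1]
    simp only [ind_apply]
    split_ifs <;> ring
  · intro χ
    rw [(D l2 h2).2.2.2 χ, hY l2 h2]
    simp only [ind_apply]
    split_ifs <;> ring
  · intro χ
    rw [hfull χ]
    simp only [ind_apply]
    split_ifs <;> ring

/-! ### SHAPE-1 -/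

/-- SHAPE-1 -/
theorem shape (H : Hyp c d χ0 bar l0) (hL : 3 ≤ Fintype.card L) :
    Std c χ0 bar l0 ∨ (Fintype.card L = 5 ∧ Exotic c χ0 bar l0) := by
  -- the canonical decomposition
  have hdec : ∀ l, ∃ P N, l ≠ l0 → (P ≠ χ0 ∧ N ≠ χ0 ∧ P ≠ N ∧
      ∀ χ, c l χ = ind χ0 1 χ + ind P 1 χ + ind N (-1) χ) := by
    intro l
    by_cases hl : l = l0
    · exact ⟨χ0, χ0, fun h => absurd hl h⟩
    · obtain ⟨P, N, h⟩ := H.decompPN hl
      exact ⟨P, N, fun _ => h⟩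
  choose P N hPN using hdec
  have D1 : Dec c χ0 l0 1 P N := fun l hl => hPN l hl
  have D2 : Dec c χ0 l0 (-1) N P := by
    intro l hl
    obtain ⟨a, b, e, h⟩ := hPN l hl
    refine ⟨b, a, e.symm, fun χ => ?_⟩
    rw [h χ, neg_neg]; ring
  have hε1 : (1 : ℤ) = 1 ∨ (1 : ℤ) = -1 := Or.inl rfl
  have hε2 : (-1 : ℤ) = 1 ∨ (-1 : ℤ) = -1 := Or.inr rfl
  -- some `l1 ≠ l0`
  obtain ⟨l1, h1⟩ := Fintype.exists_ne_of_one_lt_card (by omega : 1 < Fintype.card L) l0
  by_cases hex : ∃ l2, l2 ≠ l0 ∧ l2 ≠ l1 ∧ l2 ≠ bar l1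
  · obtain ⟨l2, h2, h21, h21'⟩ := hex
    -- a general finishing step
    have key : ∀ (ε : ℤ) (U V : L → I), (ε = 1 ∨ ε = -1) → Dec c χ0 l0 ε U V → U l1 = U l2 →
        Std c χ0 bar l0 ∨ (Fintype.card L = 5 ∧ Exotic c χ0 bar l0) := by
      intro ε U V hε D hU
      have hstar := D.star H hε h1 h2 h21 h21' hU
      have hY0 : U l1 ≠ χ0 := (D l1 h1).1
      have hrel := D.rel0 H h1
      rcases H.entry_l0 hY0 with h0 | hp | hm
      · right
        exact D.exotic_of H hε hY0 hstar h0 h1 h2 h21 h21'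
      · rcases hε with rfl | rfl
        · left
          exact D.std_of H (Or.inl rfl) hY0 hstar hp
        · exfalso
          rw [hp] at hrel
          rcases H.entry_l0 (D l1 h1).2.1 with h | h | h <;> rw [h] at hrel <;> omega
      · rcases hε with rfl | rfl
        · exfalso
          rw [hm] at hrel
          rcases H.entry_l0 (D l1 h1).2.1 with h | h | h <;> rw [h] at hrel <;> omega
        · left
          exact D.std_of H (Or.inr rfl) hY0 hstar hm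
    rcases D1.pair H hε1 h1 h2 h21 h21' with ⟨hU, -⟩ | ⟨hV, -⟩
    · exact key 1 P N hε1 D1 hU
    · exact key (-1) N P hε2 D2 hV
  · -- only one pair
    push Not at hex
    left
    have hall : ∀ m, m ≠ l0 → m = l1 ∨ m = bar l1 := by
      intro m hm
      by_contra hcon
      push Not at hcon
      exact hcon.2 (hex m hm hcon.1)
    have hrel := D1.rel0 H h1
    rcases H.entry_l0 (D1 l1 h1).1 with h0 | hp | hm
    · -- `c l0 (P l1) = 0`, so `c l0 (N l1) = -1`: use the orientation `(-1, N, P)`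
      have hN : c l0 (N l1) = -1 := by
        rw [h0] at hrel
        linarith
      refine D2.std_of H hε2 (Y := N l1) (D2 l1 h1).1 ?_ hN
      intro m hm
      rcases hall m hm with rfl | rfl
      · rfl
      · exact (D2.barEq H hε2 h1).1
    · refine D1.std_of H hε1 (Y := P l1) (D1 l1 h1).1 ?_ hp
      intro m hm
      rcases hall m hm with rfl | rfl
      · rfl
      · exact (D1.barEq H hε1 h1).1
    · exfalso
      rw [hm] at hrel
      rcases H.entry_l0 (D1 l1 h1).2.1 with h | h | h <;> rw [h] at hrel <;> omega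

end Cfsg.Agent.Helper21.Bsw.Shape
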