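import Mathlib

/-!
# Brauer–Suzuki–Wall: the arithmetic (piece ARITH)

Statements fixed by `departures/helper21_bsw_pieces.md` (coordinator helper21, S3282 + S0508).
-/

set_option autoImplicit false

namespace Cfsg.Agent.Helper21.Bsw.Arith

/-! ### ARITH-2 -/

/-- one minus sign -/
theorem one_minus_aux (a b c g : ℕ) (ha : 0 < a) (hb : 0 < b)
    (hc' : c = 1 + a + b) (ha4 : (4 : ℤ) ∣ a - 1) (hb4 : (4 : ℤ) ∣ b - 1)
    (hg : (g : ℤ) * (a * b * c + b * c + a * c - a * b) = 32 * a * b * c)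
    (hsq : 1 + a ^ 2 + b ^ 2 + c ^ 2 ≤ g) : g = 12 ∧ a = 1 ∧ b = 1 ∧ c = 3 := by
  have hg0 : 0 < g := by omega
  have hlt : g < 32 := by
    by_contra hcon
    push Not at hcon
    have h1 : (0 : ℤ) < a * b * c := by subst hc'; positivity
    have h2 : (0 : ℤ) < b * c + a * c - a * b := by
      subst hc'
      push_cast
      nlinarith [mul_pos (Nat.cast_pos (α := ℤ) |>.mpr ha) (Nat.cast_pos (α := ℤ) |>.mpr hb),
        (Nat.cast_pos (α := ℤ) |>.mpr ha), (Nat.cast_pos (α := ℤ) |>.mpr hb)]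
    have h3 : (32 : ℤ) ≤ g := by exact_mod_cast hcon
    nlinarith
  have ha5 : a ≤ 5 := by nlinarith
  have hb5 : b ≤ 5 := by nlinarith
  subst hc'
  interval_cases a <;> interval_cases b <;> simp_all <;> omega

/-- two minus signs -/
theorem two_minus_aux (a b c g : ℕ) (hb : 0 < b) (hc : 0 < c)
    (hsum : 1 + a = b + c) (ha4 : (4 : ℤ) ∣ a - 1) (hb4 : (4 : ℤ) ∣ b + 1) (hc4 : (4 : ℤ) ∣ c + 1)
    (hg : (g : ℤ) * (a * b * c + b * c - a * c - a * b) = 32 * a * b * c)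
    (hsq : 1 + a ^ 2 + b ^ 2 + c ^ 2 ≤ g) : g = 60 ∧ a = 5 ∧ b = 3 ∧ c = 3 := by
  have hb3 : 3 ≤ b := by omega
  have hc3 : 3 ≤ c := by omega
  have ha5 : 5 ≤ a := by omega
  have hg0 : 0 < g := by omega
  have hlt : g < 96 := by
    by_contra hcon
    push Not at hcon
    have hbZ : (3 : ℤ) ≤ b := by exact_mod_cast hb3
    have hcZ : (3 : ℤ) ≤ c := by exact_mod_cast hc3
    have haZ : (5 : ℤ) ≤ a := by exact_mod_cast ha5
    have h1 : (0 : ℤ) < a * b * c := by positivity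
    have h2 : (0 : ℤ) < 2 * (a * b * c) + 3 * (b * c) - 3 * (a * c) - 3 * (a * b) := by
      have e1 : (0 : ℤ) ≤ a * c * (b - 3) := by
        apply mul_nonneg (by positivity); linarith
      have e2 : (0 : ℤ) ≤ a * b * (c - 3) := by
        apply mul_nonneg (by positivity); linarith
      have e3 : (0 : ℤ) < b * c := by positivity
      nlinarith
    have h3 : (96 : ℤ) ≤ g := by exact_mod_cast hcon
    nlinarith
  have ha9 : a ≤ 9 := by nlinarith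
  have hb9 : b ≤ 9 := by nlinarith
  have hc9 : c ≤ 9 := by nlinarith
  interval_cases b <;> interval_cases c <;> first | omega | skip
  all_goals interval_cases a <;> first | omega | skip
  all_goals
    simp_all
    omega

/-- ARITH-2 (case `k = 2`) -/
theorem arith_two (z1 z2 z3 g : ℕ) (e1 e2 e3 : ℤ)
    (hz1 : 0 < z1) (hz2 : 0 < z2) (hz3 : 0 < z3) (hg : 0 < g)
    (he1 : e1 = 1 ∨ e1 = -1) (he2 : e2 = 1 ∨ e2 = -1) (he3 : e3 = 1 ∨ e3 = -1)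
    (hdeg : 1 + e1 * z1 + e2 * z2 + e3 * z3 = 0)
    (hb : (g : ℚ) * (1 + e1 / z1 + e2 / z2 + e3 / z3) = 32)
    (hc1 : (4 : ℤ) ∣ z1 - e1) (hc2 : (4 : ℤ) ∣ z2 - e2) (hc3 : (4 : ℤ) ∣ z3 - e3)
    (hsq : 1 + z1 ^ 2 + z2 ^ 2 + z3 ^ 2 ≤ g) :
    (g = 12 ∧ ((e1 = 1 ∧ z1 = 1 ∧ e2 = 1 ∧ z2 = 1 ∧ e3 = -1 ∧ z3 = 3) ∨
               (e1 = 1 ∧ z1 = 1 ∧ e2 = -1 ∧ z2 = 3 ∧ e3 = 1 ∧ z3 = 1) ∨
               (e1 = -1 ∧ z1 = 3 ∧ e2 = 1 ∧ z2 = 1 ∧ e3 = 1 ∧ z3 = 1))) ∨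
    (g = 60 ∧ ((e1 = 1 ∧ z1 = 5 ∧ e2 = -1 ∧ z2 = 3 ∧ e3 = -1 ∧ z3 = 3) ∨
               (e1 = -1 ∧ z1 = 3 ∧ e2 = 1 ∧ z2 = 5 ∧ e3 = -1 ∧ z3 = 3) ∨
               (e1 = -1 ∧ z1 = 3 ∧ e2 = -1 ∧ z2 = 3 ∧ e3 = 1 ∧ z3 = 5))) := by
  have hint : (g : ℤ) * (z1 * z2 * z3 + e1 * z2 * z3 + e2 * z1 * z3 + e3 * z1 * z2)
      = 32 * z1 * z2 * z3 := by
    have h1 : (z1 : ℚ) ≠ 0 := by positivity
    have h2 : (z2 : ℚ) ≠ 0 := by positivity
    have h3 : (z3 : ℚ) ≠ 0 := by positivity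
    have hq : (g : ℚ) * (z1 * z2 * z3 + e1 * z2 * z3 + e2 * z1 * z3 + e3 * z1 * z2)
        = 32 * z1 * z2 * z3 := by
      have : (g : ℚ) * (z1 * z2 * z3 + e1 * z2 * z3 + e2 * z1 * z3 + e3 * z1 * z2)
          = ((g : ℚ) * (1 + e1 / z1 + e2 / z2 + e3 / z3)) * (z1 * z2 * z3) := by
        field_simp
      rw [this, hb]; ring
    exact_mod_cast hq
  rcases he1 with rfl | rfl <;> rcases he2 with rfl | rfl <;> rcases he3 with rfl | rfl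
  · exfalso; omega
  · -- + + -
    obtain ⟨h1, h2, h3, h4⟩ := one_minus_aux z1 z2 z3 g hz1 hz2 (by omega) hc1 hc2
      (by linear_combination hint) hsq
    left
    exact ⟨h1, Or.inl ⟨rfl, h2, rfl, h3, rfl, h4⟩⟩
  · -- + - +
    obtain ⟨h1, h2, h3, h4⟩ := one_minus_aux z1 z3 z2 g hz1 hz3 (by omega) hc1 hc3
      (by linear_combination hint) (by omega)
    left
    exact ⟨h1, Or.inr (Or.inl ⟨rfl, h2, rfl, h4, rfl, h3⟩)⟩
  · -- + - -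
    obtain ⟨h1, h2, h3, h4⟩ := two_minus_aux z1 z2 z3 g hz2 hz3 (by omega) hc1
      (by simpa using hc2) (by simpa using hc3) (by linear_combination hint) hsq
    right
    exact ⟨h1, Or.inl ⟨rfl, h2, rfl, h3, rfl, h4⟩⟩
  · -- - + +
    obtain ⟨h1, h2, h3, h4⟩ := one_minus_aux z2 z3 z1 g hz2 hz3 (by omega) hc2 hc3
      (by linear_combination hint) (by omega)
    left
    exact ⟨h1, Or.inr (Or.inr ⟨rfl, h4, rfl, h2, rfl, h3⟩)⟩
  · -- - + -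
    obtain ⟨h1, h2, h3, h4⟩ := two_minus_aux z2 z1 z3 g hz1 hz3 (by omega) hc2
      (by simpa using hc1) (by simpa using hc3) (by linear_combination hint) (by omega)
    right
    exact ⟨h1, Or.inr (Or.inl ⟨rfl, h3, rfl, h2, rfl, h4⟩)⟩
  · -- - - +
    obtain ⟨h1, h2, h3, h4⟩ := two_minus_aux z3 z1 z2 g hz1 hz2 (by omega) hc3
      (by simpa using hc1) (by simpa using hc2) (by linear_combination hint) (by omega)
    right
    exact ⟨h1, Or.inr (Or.inr ⟨rfl, h3, rfl, h4, rfl, h2⟩)⟩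
  · exfalso
    have h1 : (4 : ℤ) ∣ z1 + 1 := by simpa using hc1
    have h2 : (4 : ℤ) ∣ z2 + 1 := by simpa using hc2
    have h3 : (4 : ℤ) ∣ z3 + 1 := by simpa using hc3
    omega

/-! ### ARITH-1 -/

/-- the two remaining constituents are equal -/
theorem core_eq (Y Z2 Z3 ε e2 e3 : ℤ)
    (hε : ε = 1 ∨ ε = -1) (he2 : e2 = 1 ∨ e2 = -1) (he3 : e3 = 1 ∨ e3 = -1)
    (hdeg : 1 + ε * Y + e2 * Z2 + e3 * Z3 = 0)
    (hA : (e2 * Z3 + e3 * Z2) * (Y + ε) = -4 * ε * Z2 * Z3) :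
    e2 * Z2 = e3 * Z3 := by
  have hε2 : ε * ε = 1 := by rcases hε with rfl | rfl <;> norm_num
  have he22 : e2 * e2 = 1 := by rcases he2 with rfl | rfl <;> norm_num
  have he32 : e3 * e3 = 1 := by rcases he3 with rfl | rfl <;> norm_num
  have h1 : e2 * Z2 + e3 * Z3 = -(1 + ε * Y) := by linarith
  have h2 : (e2 * Z2 + e3 * Z3) * (Y + ε) = -4 * ε * e2 * e3 * Z2 * Z3 := by
    linear_combination (e2 * e3) * hA - (Y + ε) * e2 * Z2 * he32 - (Y + ε) * e3 * Z3 * he22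
  have h2' : -(1 + ε * Y) * (Y + ε) = -4 * ε * e2 * e3 * Z2 * Z3 := by rw [← h1]; exact h2
  have h3 : 4 * e2 * e3 * Z2 * Z3 = (Y + ε) ^ 2 := by
    linear_combination ε * h2' + ((Y + ε) * Y - 4 * e2 * e3 * Z2 * Z3) * hε2
  have h4 : (e2 * Z2 - e3 * Z3) ^ 2 = 0 := by
    linear_combination (e2 * Z2 + e3 * Z3 - (1 + ε * Y)) * h1 - h3 + (Y ^ 2 - 1) * hε2
  have h5 := pow_eq_zero_iff (two_ne_zero) |>.mp h4
  linarith

/-- the case `m ≥ 3` is impossible -/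
theorem core_big (K Y G ε m : ℤ) (hK : 4 ≤ K) (hG : 0 < G) (hε : ε = 1 ∨ ε = -1)
    (hm3 : 3 ≤ m) (hYm : Y = 2 * K * m + ε)
    (hgm : G * m ^ 2 = 2 * K * Y * (K * m + ε))
    (hsq' : 1 + Y ^ 2 + (2 * K - 2) * (K * m + ε) ^ 2 ≤ G) : False := by
  obtain ⟨t, ht⟩ : ∃ t, t = K * m + ε := ⟨_, rfl⟩
  rw [← ht] at hgm hsq'
  have hε1 : -1 ≤ ε ∧ ε ≤ 1 := by rcases hε with rfl | rfl <;> constructor <;> norm_num
  have hKm : 3 * K ≤ K * m := by nlinarith only [hK, hm3]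
  have ht11 : 11 ≤ t := by linarith [hε1.1]
  have ht0 : 0 < t := by linarith
  have hm9 : 9 ≤ m ^ 2 := by nlinarith only [hm3]
  have h9G : 9 * G ≤ G * m ^ 2 := by nlinarith only [hm9, hG]
  have hYt : Y ≤ 2 * t + 1 := by linarith [hε1.1]
  have hK0 : 0 < K := by linarith
  have hb1 : 0 ≤ (2 * t + 1 - Y) * (2 * K * t) := mul_nonneg (by linarith) (by positivity)
  have hY2 : 0 ≤ Y ^ 2 := sq_nonneg Y
  have hb2 : 9 * ((2 * K - 2) * t ^ 2) < 9 * G := by linarith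
  have hb3 : 0 < (14 * K - 18) * t - 2 * K := by
    have : 0 ≤ (14 * K - 18) * (t - 11) := mul_nonneg (by linarith) (by linarith)
    nlinarith only [this, hK]
  have hb4 := mul_pos ht0 hb3
  nlinarith only [hb4, hb2, hb1, h9G, hgm]

theorem core (K Y Z2 Z3 G ε e2 e3 : ℤ) (hK : 4 ≤ K) (hK2 : 2 ∣ K)
    (hY : 0 < Y) (hZ2 : 0 < Z2) (hZ3 : 0 < Z3) (hG : 0 < G)
    (hε : ε = 1 ∨ ε = -1) (he2 : e2 = 1 ∨ e2 = -1) (he3 : e3 = 1 ∨ e3 = -1)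
    (hℓ : 0 < Y + ε)
    (hdeg : 1 + ε * Y + e2 * Z2 + e3 * Z3 = 0)
    (hA : (e2 * Z3 + e3 * Z2) * (Y + ε) = -4 * ε * Z2 * Z3)
    (hD : G * (Y - ε) ^ 2 = 4 * K ^ 3 * Y * (Y + ε))
    (hcy : 2 * K ∣ Y - ε)
    (hcz2 : 2 * K ∣ Z2 + e2 - K)
    (hsq : 1 + Y ^ 2 + (K - 2) / 2 * (Y + ε) ^ 2 + Z2 ^ 2 + Z3 ^ 2 ≤ G) :
    Y = 2 * K + ε ∧ 2 * G = Y * (Y + 1) * (Y - 1) ∧ e2 = -ε ∧ e3 = -ε ∧
      2 * Z2 = Y + ε ∧ 2 * Z3 = Y + ε := by
  have hε2 : ε * ε = 1 := by rcases hε with rfl | rfl <;> norm_num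
  have heq := core_eq Y Z2 Z3 ε e2 e3 hε he2 he3 hdeg hA
  have h2 : 2 * (e2 * Z2) = -(1 + ε * Y) := by linarith
  have h3 : 2 * (e3 * Z3) = -(1 + ε * Y) := by linarith
  have hE2 : e2 = -ε ∧ 2 * Z2 = Y + ε := by
    rcases hε with rfl | rfl <;> rcases he2 with rfl | rfl <;> constructor <;> omega
  have hE3 : e3 = -ε ∧ 2 * Z3 = Y + ε := by
    rcases hε with rfl | rfl <;> rcases he3 with rfl | rfl <;> constructor <;> omega
  obtain ⟨hE2a, hE2b⟩ := hE2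
  obtain ⟨hE3a, hE3b⟩ := hE3
  obtain ⟨m, hm⟩ := hcy
  obtain ⟨n, hn⟩ := hcz2
  obtain ⟨j, hj⟩ := hK2
  have hK0 : 0 < K := by linarith
  -- Z2 = K m + ε
  have hZ2m : Z2 = K * m + ε := by linarith
  have hZ3m : Z3 = K * m + ε := by linarith
  -- m = 2 n + 1
  have hmn : m = 2 * n + 1 := by
    have : K * (m - 1) = K * (2 * n) := by
      rw [hE2a, hZ2m] at hn
      linarith
    have := mul_left_cancel₀ (ne_of_gt hK0) this
    linarith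
  -- m ≥ 0
  have hm0 : 0 ≤ m := by
    have h5 : 0 ≤ Y - ε := by rcases hε with rfl | rfl <;> omega
    rw [hm] at h5
    by_contra hneg
    push Not at hneg
    nlinarith
  have hm1 : 1 ≤ m := by omega
  -- the value of g
  have hYm : Y = 2 * K * m + ε := by linarith
  have hgm : G * m ^ 2 = 2 * K * Y * (K * m + ε) := by
    have h6 : Y + ε = 2 * (K * m + ε) := by linarith
    rw [hm, h6] at hD
    have h7 : (4 * K ^ 2) * (G * m ^ 2) = (4 * K ^ 2) * (2 * K * Y * (K * m + ε)) := by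
      linear_combination hD
    exact mul_left_cancel₀ (by positivity) h7
  -- the square bound
  have hsq' : 1 + Y ^ 2 + (2 * K - 2) * (K * m + ε) ^ 2 ≤ G := by
    have h8 : (K - 2) / 2 = j - 1 := by
      rw [hj]
      omega
    have h6 : Y + ε = 2 * (K * m + ε) := by linarith
    rw [h8, h6, hZ2m, hZ3m] at hsq
    have : K = 2 * j := hj
    nlinarith
  have hm_eq : m = 1 := by
    by_contra hne
    have hm3 : 3 ≤ m := by omega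
    exact core_big K Y G ε m hK hG hε hm3 hYm hgm hsq'
  subst hm_eq
  refine ⟨by linarith, ?_, hE2a, hE3a, hE2b, hE3b⟩
  have hg' : G = 2 * K * Y * (K + ε) := by
    have := hgm
    norm_num at this
    linarith
  rw [hg', hYm]
  linear_combination (-(2 * K * 1 + ε)) * hε2

/-- ARITH-1 (generic case `k ≥ 4`) -/
theorem arith_generic (k y z2 z3 g : ℕ) (ε e2 e3 : ℤ) (hk : 4 ≤ k) (hk2 : 2 ∣ k)
    (hy : 0 < y) (hz2 : 0 < z2) (hz3 : 0 < z3) (hg : 0 < g)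
    (hε : ε = 1 ∨ ε = -1) (he2 : e2 = 1 ∨ e2 = -1) (he3 : e3 = 1 ∨ e3 = -1)
    (hℓ : 0 < (y : ℤ) + ε)
    (hdeg : 1 + ε * y + e2 * z2 + e3 * z3 = 0)
    (hb1 : (1 : ℚ) + ε / y - 4 * ε / (y + ε) = 4 * (k : ℚ) ^ 3 / g)
    (hb2 : (1 : ℚ) + ε / y + e2 / z2 + e3 / z3 = 4 * (k : ℚ) ^ 3 / g)
    (hcy : (2 * k : ℤ) ∣ y - ε)
    (hcz2 : (2 * k : ℤ) ∣ z2 + e2 - k)
    (hcz3 : (2 * k : ℤ) ∣ z3 + e3 - k)
    (hsq : 1 + (y : ℤ) ^ 2 + ((k : ℤ) - 2) / 2 * ((y : ℤ) + ε) ^ 2 + (z2 : ℤ) ^ 2 + (z3 : ℤ) ^ 2 ≤ g) :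
    (y : ℤ) = 2 * k + ε ∧ 2 * (g : ℤ) = y * (y + 1) * (y - 1) ∧ e2 = -ε ∧ e3 = -ε ∧
      2 * (z2 : ℤ) = y + ε ∧ 2 * (z3 : ℤ) = y + ε := by
  have hyq : (y : ℚ) ≠ 0 := by positivity
  have hz2q : (z2 : ℚ) ≠ 0 := by positivity
  have hz3q : (z3 : ℚ) ≠ 0 := by positivity
  have hgq : (g : ℚ) ≠ 0 := by positivity
  have hlq : ((y : ℚ) + ε) ≠ 0 := by
    have : (0 : ℚ) < ((y : ℤ) + ε : ℤ) := by exact_mod_cast hℓ
    push_cast at this
    exact ne_of_gt this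
  have hA : ((e2 : ℤ) * z3 + e3 * z2) * (y + ε) = -4 * ε * z2 * z3 := by
    have hq : (e2 : ℚ) / z2 + e3 / z3 = -4 * ε / (y + ε) := by
      have : (-4 * (ε : ℚ)) / (y + ε) = -(4 * ε / (y + ε)) := by ring
      rw [this]
      linarith
    have hq2 : ((e2 : ℚ) * z3 + e3 * z2) * (y + ε) = -4 * ε * z2 * z3 := by
      have : ((e2 : ℚ) * z3 + e3 * z2) * (y + ε)
          = ((e2 : ℚ) / z2 + e3 / z3) * (z2 * z3 * (y + ε)) := by
        field_simp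
      rw [this, hq]
      field_simp
    exact_mod_cast hq2
  have hD : (g : ℤ) * ((y : ℤ) - ε) ^ 2 = 4 * (k : ℤ) ^ 3 * y * (y + ε) := by
    have hq2 : (g : ℚ) * ((y : ℚ) - ε) ^ 2 = 4 * (k : ℚ) ^ 3 * y * (y + ε) := by
      have : (g : ℚ) * ((y : ℚ) - ε) ^ 2
          = ((1 : ℚ) + ε / y - 4 * ε / (y + ε)) * (g * y * (y + ε)) := by
        field_simp
        ring
      rw [this, hb1]
      field_simp
    exact_mod_cast hq2
  exact core (k : ℤ) (y : ℤ) (z2 : ℤ) (z3 : ℤ) (g : ℤ) ε e2 e3 (by exact_mod_cast hk)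
    (by exact_mod_cast hk2) (by exact_mod_cast hy) (by exact_mod_cast hz2)
    (by exact_mod_cast hz3) (by exact_mod_cast hg) hε he2 he3 hℓ hdeg hA hD hcy hcz2 hsq

end Cfsg.Agent.Helper21.Bsw.Arith
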