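import Mathlib
import Cfsg.Agent.Helper8.D1Base
import Cfsg.Agent.Helper5.BlockBasic
import Cfsg.Agent.Helper24.D1PG
import Cfsg.Agent.Helper1.D1PA
import Cfsg.Agent.Helper8.CharComp

/-!
Piece (QG) of the defect-one cluster (helper8's ordinary-character half): the Gram matrix of the
generalized decomposition numbers `Dnum`.
-/

set_option autoImplicit false
set_option linter.unusedSectionVars false
set_option linter.unusedVariables false

open Cfsg Cfsg.Agent.Helper8.D1

namespace Cfsg.Agent.Helper29.D1QG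

variable {G : Type*} [Group G] [Finite G] {p : ℕ} [Fact p.Prime]

/-- the value of a `p`-linear function at `c` is its value at the `P`-part of `c` -/
theorem exists_part (P : Sylow p G) (hP : Nat.card P = p)
    (c : Subgroup.centralizer ((P : Subgroup G) : Set G)) :
    ∃ u : Subgroup.centralizer ((P : Subgroup G) : Set G), (u : G) ∈ (P : Subgroup G) ∧
      ∀ μ : Subgroup.centralizer ((P : Subgroup G) : Set G) → ℂ, IsPLin p μ → μ c = μ u := by
  obtain ⟨u, hu, y, hy, hc, hyp⟩ := Cfsg.Agent.Helper1.D1PA.exists_decomp P c.2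
  refine ⟨⟨u, Cfsg.Agent.Helper1.D1PA.le_centralizer P hP hu⟩, hu, ?_⟩
  intro μ hμ
  have hc' : c = (⟨u, Cfsg.Agent.Helper1.D1PA.le_centralizer P hP hu⟩ :
      Subgroup.centralizer ((P : Subgroup G) : Set G)) * ⟨y, hy⟩ := Subtype.ext hc
  rw [hc', hμ.mul, hμ.reg ⟨y, hy⟩ (by rwa [Subgroup.orderOf_mk]), mul_one]

/-- two `p`-linear functions agreeing on `P` are equal -/
theorem pLin_ext (P : Sylow p G) (hP : Nat.card P = p)
    {μ ν : Subgroup.centralizer ((P : Subgroup G) : Set G) → ℂ} (hμ : IsPLin p μ)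
    (hν : IsPLin p ν)
    (h : ∀ u : Subgroup.centralizer ((P : Subgroup G) : Set G), (u : G) ∈ (P : Subgroup G) →
      μ u = ν u) : μ = ν := by
  funext c
  obtain ⟨u, hu, hc⟩ := exists_part P hP c
  rw [hc μ hμ, hc ν hν, h u hu]

/-- a non-trivial `p`-linear function is non-trivial at every non-identity element of `P` -/
theorem pLin_ne_one (P : Sylow p G) (hP : Nat.card P = p)
    {μ : Subgroup.centralizer ((P : Subgroup G) : Set G) → ℂ} (hμ : IsPLin p μ)
    (hμ1 : ∃ x, μ x ≠ 1) (u : Subgroup.centralizer ((P : Subgroup G) : Set G))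
    (hu : (u : G) ∈ (P : Subgroup G)) (hu1 : u ≠ 1) : μ u ≠ 1 := by
  intro h1
  obtain ⟨x, hx⟩ := hμ1
  obtain ⟨v, hv, hxv⟩ := exists_part P hP x
  apply hx
  rw [hxv μ hμ]
  have hu1' : (u : G) ≠ 1 := fun h => hu1 (Subtype.ext h)
  obtain ⟨k, hk⟩ := Cfsg.Agent.Helper1.D1PA.exists_zpow P hP hu hu1' hv
  have hv' : v = u ^ k := Subtype.ext (by rw [Subgroup.coe_zpow, hk])
  have := map_zpow hμ.hom u k
  change μ (u ^ k) = (μ u) ^ k at this
  rw [hv', this, h1, one_zpow]

/-- uniqueness of the decomposition `μ θ` -/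
theorem decomp_unique (P : Sylow p G) (hP : Nat.card P = p)
    {μ₁ μ₂ θ₁ θ₂ : Subgroup.centralizer ((P : Subgroup G) : Set G) → ℂ} (hμ₁ : IsPLin p μ₁)
    (hμ₂ : IsPLin p μ₂)
    (hθ₁ : ∀ x : Subgroup.centralizer ((P : Subgroup G) : Set G), (x : G) ∈ (P : Subgroup G) →
      θ₁ x = θ₁ 1)
    (hθ₂ : ∀ x : Subgroup.centralizer ((P : Subgroup G) : Set G), (x : G) ∈ (P : Subgroup G) →
      θ₂ x = θ₂ 1)
    (h0 : θ₁ 1 ≠ 0)
    (h : ∀ c, μ₁ c * θ₁ c = μ₂ c * θ₂ c) : μ₁ = μ₂ ∧ θ₁ = θ₂ := by
  have h1 : θ₁ 1 = θ₂ 1 := by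
    have := h 1
    rwa [hμ₁.one, hμ₂.one, one_mul, one_mul] at this
  have hμ : μ₁ = μ₂ := by
    apply pLin_ext P hP hμ₁ hμ₂
    intro u hu
    have := h u
    rw [hθ₁ u hu, hθ₂ u hu, ← h1] at this
    exact mul_right_cancel₀ h0 this
  refine ⟨hμ, ?_⟩
  funext c
  have := h c
  rw [hμ] at this
  exact mul_left_cancel₀ (hμ₂.ne_zero c) this


/-! ### the conjugation automorphisms -/

omit [Finite G] [Fact p.Prime] in
theorem kap_mul (P : Subgroup G) {a b : G} (ha : a ∈ Subgroup.normalizer (P : Set G))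
    (hb : b ∈ Subgroup.normalizer (P : Set G)) (hab : a * b ∈ Subgroup.normalizer (P : Set G))
    (c : Subgroup.centralizer (P : Set G)) :
    kap P (a * b) hab c = kap P a ha (kap P b hb c) := by
  apply Subtype.ext
  simp only [coe_kap]
  group

omit [Finite G] [Fact p.Prime] in
theorem kap_inv_kap (P : Subgroup G) {a : G} (ha : a ∈ Subgroup.normalizer (P : Set G))
    (ha' : a⁻¹ ∈ Subgroup.normalizer (P : Set G))
    (c : Subgroup.centralizer (P : Set G)) :
    kap P a⁻¹ ha' (kap P a ha c) = c := by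
  apply Subtype.ext
  simp only [coe_kap]
  group

omit [Finite G] [Fact p.Prime] in
theorem kap_kap_inv (P : Subgroup G) {a : G} (ha : a ∈ Subgroup.normalizer (P : Set G))
    (ha' : a⁻¹ ∈ Subgroup.normalizer (P : Set G))
    (c : Subgroup.centralizer (P : Set G)) :
    kap P a ha (kap P a⁻¹ ha' c) = c := by
  apply Subtype.ext
  simp only [coe_kap]
  group

omit [Finite G] [Fact p.Prime] in
/-- `kap` maps `P` into `P` -/
theorem kap_mem (P : Subgroup G) {a : G} (ha : a ∈ Subgroup.normalizer (P : Set G))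
    (c : Subgroup.centralizer (P : Set G)) (hc : (c : G) ∈ P) :
    ((kap P a ha c : _) : G) ∈ P := by
  rw [coe_kap]
  exact (Subgroup.mem_normalizer_iff.mp ha c).mp hc

/-- elements of the centralizer fix every `p`-linear function -/
theorem pLin_kap_of_mem (P : Sylow p G)
    {ν : Subgroup.centralizer ((P : Subgroup G) : Set G) → ℂ} (hν : IsPLin p ν) {n : G}
    (hn : n ∈ Subgroup.normalizer ((P : Subgroup G) : Set G))
    (hnC : n ∈ Subgroup.centralizer ((P : Subgroup G) : Set G))
    (c : Subgroup.centralizer ((P : Subgroup G) : Set G)) :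
    ν (kap (P : Subgroup G) n hn c) = ν c := by
  have h : kap (P : Subgroup G) n hn c =
      (⟨n, hnC⟩ : Subgroup.centralizer ((P : Subgroup G) : Set G)) * c * ⟨n, hnC⟩⁻¹ := by
    apply Subtype.ext
    simp only [coe_kap, Subgroup.coe_mul, Subgroup.coe_inv]
  rw [h, hν.mul, hν.mul, hν.inv, mul_comm (ν ⟨n, hnC⟩), mul_assoc,
    mul_inv_cancel₀ (hν.ne_zero _), mul_one]

/-- the stabilizer in `N_G(P)` of a non-trivial `p`-linear function is `C_G(P)` -/
theorem mem_centralizer_of_stab (P : Sylow p G) (hP : Nat.card P = p)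
    {ν : Subgroup.centralizer ((P : Subgroup G) : Set G) → ℂ} (hν : IsPLin p ν)
    (hν1 : ∃ x, ν x ≠ 1) {n : G}
    (hn : n ∈ Subgroup.normalizer ((P : Subgroup G) : Set G))
    (h : ∀ c, ν (kap (P : Subgroup G) n hn c) = ν c) :
    n ∈ Subgroup.centralizer ((P : Subgroup G) : Set G) := by
  have hp : p.Prime := Fact.out
  haveI : Nontrivial (P : Subgroup G) := by
    apply (Finite.one_lt_card_iff_nontrivial).mp
    rw [hP]; exact hp.one_lt
  obtain ⟨u, hu⟩ := exists_ne (1 : (P : Subgroup G))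
  have hu1 : (u : G) ≠ 1 := fun h => hu (Subtype.ext h)
  have huC : (u : G) ∈ Subgroup.centralizer ((P : Subgroup G) : Set G) :=
    Cfsg.Agent.Helper1.D1PA.le_centralizer P hP u.2
  obtain ⟨w, hw⟩ : ∃ w : Subgroup.centralizer ((P : Subgroup G) : Set G),
    w = kap (P : Subgroup G) n hn ⟨u, huC⟩ := ⟨_, rfl⟩
  have hwP : (w : G) ∈ (P : Subgroup G) := by
    rw [hw]; exact kap_mem (P : Subgroup G) hn ⟨u, huC⟩ u.2
  have hνw : ν w = ν ⟨u, huC⟩ := by rw [hw]; exact h _
  have hmem : ((w * (⟨u, huC⟩ : Subgroup.centralizer ((P : Subgroup G) : Set G))⁻¹ : _) : G) ∈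
      (P : Subgroup G) := by
    rw [Subgroup.coe_mul, Subgroup.coe_inv]
    exact Subgroup.mul_mem _ hwP (Subgroup.inv_mem _ u.2)
  have hval : ν (w * (⟨u, huC⟩ : Subgroup.centralizer ((P : Subgroup G) : Set G))⁻¹) = 1 := by
    rw [hν.mul, hν.inv, hνw, mul_inv_cancel₀ (hν.ne_zero _)]
  have heq : w * (⟨u, huC⟩ : Subgroup.centralizer ((P : Subgroup G) : Set G))⁻¹ = 1 := by
    by_contra hne
    exact pLin_ne_one P hP hν hν1 _ hmem hne hval
  have hwu : w = ⟨u, huC⟩ := mul_inv_eq_one.mp heq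
  have hfix : n * (u : G) * n⁻¹ = u := by
    have := congrArg Subtype.val hwu
    rw [hw] at this
    simpa only [coe_kap] using this
  exact Cfsg.Agent.Helper1.D1PA.mem_centralizer_of_fix P hP u.2 hu1 hfix


/-! ### the inner products -/

/-- the inner product `⟨(ν^n - 1) θ^n, (μ - 1) θ⟩` on `C_G(P)` -/
theorem inner_term (P : Sylow p G) (hP : Nat.card P = p)
    [Fintype (Subgroup.centralizer ((P : Subgroup G) : Set G))]
    (θ : IrrCharacter (Subgroup.centralizer ((P : Subgroup G) : Set G)))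
    (hθP : ∀ x : Subgroup.centralizer ((P : Subgroup G) : Set G), (x : G) ∈ (P : Subgroup G) →
      (θ : Subgroup.centralizer ((P : Subgroup G) : Set G) → ℂ) x =
        (θ : Subgroup.centralizer ((P : Subgroup G) : Set G) → ℂ) 1)
    (T : Subgroup G)
    (hT : ∀ g : G, g ∈ T ↔ (g ∈ Subgroup.normalizer ((P : Subgroup G) : Set G) ∧
      ∀ c c' : Subgroup.centralizer ((P : Subgroup G) : Set G), (c' : G) = g * c * g⁻¹ →
        (θ : Subgroup.centralizer ((P : Subgroup G) : Set G) → ℂ) c' =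
          (θ : Subgroup.centralizer ((P : Subgroup G) : Set G) → ℂ) c))
    (μ ν : Subgroup.centralizer ((P : Subgroup G) : Set G) → ℂ) (hμ : IsPLin p μ)
    (hν : IsPLin p ν) (hμ1 : ∃ x, μ x ≠ 1) (hν1 : ∃ x, ν x ≠ 1) (n : G)
    (hn : n ∈ Subgroup.normalizer ((P : Subgroup G) : Set G)) [Decidable (n ∈ T)]
    [Decidable (n ∈ T ∧ (fun c => ν (kap (P : Subgroup G) n hn c)) = μ)] :
    classInner
      (fun c : Subgroup.centralizer ((P : Subgroup G) : Set G) =>
        (ν (kap (P : Subgroup G) n hn c) - 1) *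
          (θ : Subgroup.centralizer ((P : Subgroup G) : Set G) → ℂ) (kap (P : Subgroup G) n hn c))
      (fun c => (μ c - 1) * (θ : Subgroup.centralizer ((P : Subgroup G) : Set G) → ℂ) c) =
    (if n ∈ T then (1 : ℂ) else 0) +
      (if (n ∈ T ∧ (fun c => ν (kap (P : Subgroup G) n hn c)) = μ) then (1 : ℂ) else 0) := by
  classical
  -- the four irreducible characters
  have hθn : IsIrrCharacter (Subgroup.centralizer ((P : Subgroup G) : Set G))
      (fun c => (θ : Subgroup.centralizer ((P : Subgroup G) : Set G) → ℂ)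
        (kap (P : Subgroup G) n hn c)) :=
    Cfsg.Agent.Helper8.isIrrCharacter_comp_surjective (kap (P : Subgroup G) n hn).toMonoidHom
      (kap (P : Subgroup G) n hn).surjective θ.2
  have hνn : IsPLin p (fun c => ν (kap (P : Subgroup G) n hn c)) := hν.comp (kap (P : Subgroup G) n hn)
  have hA : IsIrrCharacter (Subgroup.centralizer ((P : Subgroup G) : Set G))
      (fun c => ν (kap (P : Subgroup G) n hn c) *
        (θ : Subgroup.centralizer ((P : Subgroup G) : Set G) → ℂ)
          (kap (P : Subgroup G) n hn c)) := hνn.isIrr_mul hθn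
  have hA' : IsIrrCharacter (Subgroup.centralizer ((P : Subgroup G) : Set G))
      (fun c => μ c * (θ : Subgroup.centralizer ((P : Subgroup G) : Set G) → ℂ) c) :=
    hμ.isIrr_mul θ.2
  have h1lin : IsPLin p (fun _ : Subgroup.centralizer ((P : Subgroup G) : Set G) => (1 : ℂ)) :=
    isPLin_one p
  have hθ0 : (θ : Subgroup.centralizer ((P : Subgroup G) : Set G) → ℂ) 1 ≠ 0 :=
    Cfsg.Agent.Helper24.irr_one_ne_zero θ
  -- `θ^n` has `P` in its kernel
  have hθnP : ∀ x : Subgroup.centralizer ((P : Subgroup G) : Set G), (x : G) ∈ (P : Subgroup G) →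
      (θ : Subgroup.centralizer ((P : Subgroup G) : Set G) → ℂ) (kap (P : Subgroup G) n hn x) =
        (θ : Subgroup.centralizer ((P : Subgroup G) : Set G) → ℂ) (kap (P : Subgroup G) n hn 1) := by
    intro x hx
    rw [hθP _ (kap_mem (P : Subgroup G) hn x hx), map_one]
  have hθn0 : (θ : Subgroup.centralizer ((P : Subgroup G) : Set G) → ℂ)
      (kap (P : Subgroup G) n hn 1) ≠ 0 := by rw [map_one]; exact hθ0
  -- membership in `T`
  have hTn : n ∈ T ↔ (fun c => (θ : Subgroup.centralizer ((P : Subgroup G) : Set G) → ℂ)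
      (kap (P : Subgroup G) n hn c)) =
      (θ : Subgroup.centralizer ((P : Subgroup G) : Set G) → ℂ) := by
    rw [hT n]
    constructor
    · rintro ⟨_, h⟩
      funext c
      exact h c _ (coe_kap _ _ _ _)
    · intro h
      refine ⟨hn, ?_⟩
      intro c c' hc'
      have : c' = kap (P : Subgroup G) n hn c := Subtype.ext (by rw [hc', coe_kap])
      rw [this]
      exact congrFun h c
  -- `ν^n` is non-trivial
  have hνn1 : ¬ (fun c => ν (kap (P : Subgroup G) n hn c)) = fun _ => (1 : ℂ) := by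
    intro h
    obtain ⟨x, hx⟩ := hν1
    apply hx
    have := congrFun h ((kap (P : Subgroup G) n hn).symm x)
    simpa using this
  have hμ1' : ¬ (fun _ : Subgroup.centralizer ((P : Subgroup G) : Set G) => (1 : ℂ)) = μ := by
    intro h
    obtain ⟨x, hx⟩ := hμ1
    exact hx (congrFun h x).symm
  -- split the inner product
  have hsplit : classInner
      (fun c : Subgroup.centralizer ((P : Subgroup G) : Set G) =>
        (ν (kap (P : Subgroup G) n hn c) - 1) *
          (θ : Subgroup.centralizer ((P : Subgroup G) : Set G) → ℂ) (kap (P : Subgroup G) n hn c))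
      (fun c => (μ c - 1) * (θ : Subgroup.centralizer ((P : Subgroup G) : Set G) → ℂ) c) =
      classInner (fun c => ν (kap (P : Subgroup G) n hn c) *
        (θ : Subgroup.centralizer ((P : Subgroup G) : Set G) → ℂ) (kap (P : Subgroup G) n hn c))
        (fun c => μ c * (θ : Subgroup.centralizer ((P : Subgroup G) : Set G) → ℂ) c) -
      classInner (fun c => ν (kap (P : Subgroup G) n hn c) *
        (θ : Subgroup.centralizer ((P : Subgroup G) : Set G) → ℂ) (kap (P : Subgroup G) n hn c))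
        (θ : Subgroup.centralizer ((P : Subgroup G) : Set G) → ℂ) -
      (classInner (fun c => (θ : Subgroup.centralizer ((P : Subgroup G) : Set G) → ℂ)
          (kap (P : Subgroup G) n hn c))
        (fun c => μ c * (θ : Subgroup.centralizer ((P : Subgroup G) : Set G) → ℂ) c) -
      classInner (fun c => (θ : Subgroup.centralizer ((P : Subgroup G) : Set G) → ℂ)
          (kap (P : Subgroup G) n hn c))
        (θ : Subgroup.centralizer ((P : Subgroup G) : Set G) → ℂ)) := by
    rw [← Cfsg.Agent.Helper24.classInner_sub_right, ← Cfsg.Agent.Helper24.classInner_sub_right,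
      ← Cfsg.Agent.Helper24.classInner_sub_left]
    congr 1
    · funext c; simp only [Pi.sub_apply]; ring
    · funext c; simp only [Pi.sub_apply]; ring
  rw [hsplit, Cfsg.Agent.Helper24.classInner_of_isIrrCharacter hA hA',
    Cfsg.Agent.Helper24.classInner_of_isIrrCharacter hA θ.2,
    Cfsg.Agent.Helper24.classInner_of_isIrrCharacter hθn hA',
    Cfsg.Agent.Helper24.classInner_of_isIrrCharacter hθn θ.2]
  -- the second and third vanish
  have h2 : ¬ (fun c => ν (kap (P : Subgroup G) n hn c) *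
        (θ : Subgroup.centralizer ((P : Subgroup G) : Set G) → ℂ) (kap (P : Subgroup G) n hn c)) =
      (θ : Subgroup.centralizer ((P : Subgroup G) : Set G) → ℂ) := by
    intro h
    have := decomp_unique P hP hνn h1lin hθnP hθP hθn0 (fun c => by
      have := congrFun h c
      rw [this, one_mul])
    exact hνn1 this.1
  have h3 : ¬ (fun c => (θ : Subgroup.centralizer ((P : Subgroup G) : Set G) → ℂ)
          (kap (P : Subgroup G) n hn c)) =
      (fun c => μ c * (θ : Subgroup.centralizer ((P : Subgroup G) : Set G) → ℂ) c) := by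
    intro h
    have := decomp_unique P hP h1lin hμ hθnP hθP hθn0 (fun c => by
      have := congrFun h c
      rw [one_mul, this])
    exact hμ1' this.1
  rw [if_neg h2, if_neg h3]
  have hAA' : ((fun c => ν (kap (P : Subgroup G) n hn c) *
        (θ : Subgroup.centralizer ((P : Subgroup G) : Set G) → ℂ) (kap (P : Subgroup G) n hn c)) =
      (fun c => μ c * (θ : Subgroup.centralizer ((P : Subgroup G) : Set G) → ℂ) c)) ↔
      (n ∈ T ∧ (fun c => ν (kap (P : Subgroup G) n hn c)) = μ) := by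
    constructor
    · intro h
      have := decomp_unique P hP hνn hμ hθnP hθP hθn0 (fun c => congrFun h c)
      exact ⟨hTn.mpr this.2, this.1⟩
    · rintro ⟨h1, h2⟩
      have hθeq := hTn.mp h1
      funext c
      rw [congrFun h2 c, congrFun hθeq c]
  simp only [hAA', ← hTn]
  by_cases hnT : n ∈ T
  · by_cases hνμ : (fun c => ν (kap (P : Subgroup G) n hn c)) = μ
    · simp only [hnT, hνμ, and_self, if_true]; ring
    · simp only [hnT, hνμ, and_false, if_true, if_false]; ring
  · simp only [hnT, false_and, if_false]; ring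


/-! ### `Dnum` as one inner product -/

omit [Fact p.Prime] in
theorem Dnum_eq (H : Subgroup G) [inst : Fintype H] (μ θ : H → ℂ) (χ : G → ℂ) :
    Dnum H μ θ χ =
      (Nat.card H : ℂ)⁻¹ * ∑ c : H, χ c * (starRingEnd ℂ) ((μ c - 1) * θ c) := by
  have : inst = Fintype.ofFinite H := Subsingleton.elim _ _
  subst this
  unfold Dnum classInner
  rw [← mul_sub, ← Finset.sum_sub_distrib]
  congr 1
  apply Finset.sum_congr rfl
  intro c _
  rw [← mul_sub, ← map_sub]
  congr 2
  ring

/-! ### counting -/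

omit [Finite G] [Fact p.Prime] in
/-- the number of elements of `N` lying in a subgroup `T ≤ N` -/
theorem sum_mem_subgroup (N T : Subgroup G) [Fintype N] (hTN : T ≤ N)
    [DecidablePred (fun n : N => (n : G) ∈ T)] :
    ∑ n : N, (if (n : G) ∈ T then (1 : ℂ) else 0) = (Nat.card T : ℂ) := by
  rw [Finset.sum_boole]
  congr 1
  rw [← Fintype.card_subtype, ← Nat.card_eq_fintype_card]
  exact Nat.card_congr (Subgroup.subgroupOfEquivOfLe hTN).toEquiv

/-- the second count: the `n ∈ T` with `ν^n = μ` form a coset of `C_G(P)` or the empty set -/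
theorem sum_coset (P : Sylow p G) (hP : Nat.card P = p)
    [Fintype (Subgroup.normalizer ((P : Subgroup G) : Set G))]
    (T : Subgroup G) (hCT : Subgroup.centralizer ((P : Subgroup G) : Set G) ≤ T)
    (μ ν : Subgroup.centralizer ((P : Subgroup G) : Set G) → ℂ) (hμ : IsPLin p μ)
    (hν : IsPLin p ν) (hν1 : ∃ x, ν x ≠ 1)
    [DecidablePred (fun n : Subgroup.normalizer ((P : Subgroup G) : Set G) =>
      ((n : G) ∈ T ∧ (fun c => ν (kap (P : Subgroup G) n n.2 c)) = μ))]
    [Decidable (∃ (n : G) (hn : n ∈ Subgroup.normalizer ((P : Subgroup G) : Set G)), n ∈ T ∧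
          ν = fun c => μ (kap (P : Subgroup G) n hn c))] :
    ∑ n : Subgroup.normalizer ((P : Subgroup G) : Set G),
      (if ((n : G) ∈ T ∧ (fun c => ν (kap (P : Subgroup G) n n.2 c)) = μ) then (1 : ℂ) else 0) =
    if (∃ (n : G) (hn : n ∈ Subgroup.normalizer ((P : Subgroup G) : Set G)), n ∈ T ∧
          ν = fun c => μ (kap (P : Subgroup G) n hn c))
      then (Nat.card (Subgroup.centralizer ((P : Subgroup G) : Set G)) : ℂ) else 0 := by
  classical
  by_cases hE : ∃ (n : G) (hn : n ∈ Subgroup.normalizer ((P : Subgroup G) : Set G)), n ∈ T ∧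
          ν = fun c => μ (kap (P : Subgroup G) n hn c)
  · rw [if_pos hE]
    obtain ⟨n₁, hn₁, hn₁T, hνμ⟩ := hE
    have hn₀ : n₁⁻¹ ∈ Subgroup.normalizer ((P : Subgroup G) : Set G) := Subgroup.inv_mem _ hn₁
    have hn₀T : n₁⁻¹ ∈ T := Subgroup.inv_mem _ hn₁T
    have hν₀ : ∀ c, ν (kap (P : Subgroup G) n₁⁻¹ hn₀ c) = μ c := by
      intro c
      rw [hνμ]
      simp only
      rw [kap_kap_inv]
    rw [← Equiv.sum_comp (Equiv.mulRight (⟨n₁⁻¹, hn₀⟩ :
      Subgroup.normalizer ((P : Subgroup G) : Set G)))]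
    have hiff : ∀ n : Subgroup.normalizer ((P : Subgroup G) : Set G),
        ((((Equiv.mulRight (⟨n₁⁻¹, hn₀⟩ : Subgroup.normalizer ((P : Subgroup G) : Set G))) n : _) :
            G) ∈ T ∧
          (fun c => ν (kap (P : Subgroup G)
            ((Equiv.mulRight (⟨n₁⁻¹, hn₀⟩ : Subgroup.normalizer ((P : Subgroup G) : Set G))) n : _)
            ((Equiv.mulRight (⟨n₁⁻¹, hn₀⟩ : Subgroup.normalizer ((P : Subgroup G) : Set G))) n).2
              c)) = μ) ↔
        (n : G) ∈ Subgroup.centralizer ((P : Subgroup G) : Set G) := by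
      intro n
      have hcoe : (((Equiv.mulRight (⟨n₁⁻¹, hn₀⟩ :
          Subgroup.normalizer ((P : Subgroup G) : Set G))) n : _) : G) = (n : G) * n₁⁻¹ := rfl
      have hkap : ∀ c, kap (P : Subgroup G)
            ((Equiv.mulRight (⟨n₁⁻¹, hn₀⟩ : Subgroup.normalizer ((P : Subgroup G) : Set G))) n : _)
            ((Equiv.mulRight (⟨n₁⁻¹, hn₀⟩ : Subgroup.normalizer ((P : Subgroup G) : Set G))) n).2
              c = kap (P : Subgroup G) n n.2 (kap (P : Subgroup G) n₁⁻¹ hn₀ c) := by
        intro c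
        exact kap_mul (P : Subgroup G) n.2 hn₀ _ c
      constructor
      · rintro ⟨_, h⟩
        apply mem_centralizer_of_stab P hP hν hν1 n.2
        intro c
        have := congrFun h (kap (P : Subgroup G) n₁ hn₁ c)
        rw [hkap, ← hν₀] at this
        have h2 : kap (P : Subgroup G) n₁⁻¹ hn₀ (kap (P : Subgroup G) n₁ hn₁ c) = c :=
          kap_inv_kap (P : Subgroup G) hn₁ hn₀ c
        rwa [h2] at this
      · intro hnC
        refine ⟨?_, ?_⟩
        · rw [hcoe]
          exact Subgroup.mul_mem _ (hCT hnC) hn₀T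
        · funext c
          rw [hkap, pLin_kap_of_mem P hν n.2 hnC, hν₀]
    simp only [hiff]
    exact sum_mem_subgroup _ _ (Subgroup.centralizer_le_normalizer _)
  · rw [if_neg hE]
    apply Finset.sum_eq_zero
    intro n _
    rw [if_neg]
    rintro ⟨hnT, h⟩
    apply hE
    refine ⟨(n : G)⁻¹, Subgroup.inv_mem _ n.2, Subgroup.inv_mem _ hnT, ?_⟩
    funext c
    rw [← congrFun h]
    rw [kap_kap_inv]


/-! ### the Gram matrix -/

open Classical in
/-- the Gram formula with the case distinction as an `if` -/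
theorem gram_ite [Fintype (IrrCharacter G)]
    (P : Sylow p G) (hP : Nat.card P = p)
    (θ : IrrCharacter (Subgroup.centralizer ((P : Subgroup G) : Set G)))
    (hθP : ∀ x : Subgroup.centralizer ((P : Subgroup G) : Set G), (x : G) ∈ (P : Subgroup G) →
      (θ : Subgroup.centralizer ((P : Subgroup G) : Set G) → ℂ) x =
        (θ : Subgroup.centralizer ((P : Subgroup G) : Set G) → ℂ) 1)
    (T : Subgroup G)
    (hT : ∀ g : G, g ∈ T ↔ (g ∈ Subgroup.normalizer ((P : Subgroup G) : Set G) ∧
      ∀ c c' : Subgroup.centralizer ((P : Subgroup G) : Set G), (c' : G) = g * c * g⁻¹ →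
        (θ : Subgroup.centralizer ((P : Subgroup G) : Set G) → ℂ) c' =
          (θ : Subgroup.centralizer ((P : Subgroup G) : Set G) → ℂ) c))
    (μ ν : Subgroup.centralizer ((P : Subgroup G) : Set G) → ℂ) (hμ : IsPLin p μ)
    (hν : IsPLin p ν) (hμ1 : ∃ x, μ x ≠ 1) (hν1 : ∃ x, ν x ≠ 1) :
    ∑ χ : IrrCharacter G,
        Dnum (Subgroup.centralizer ((P : Subgroup G) : Set G)) μ
          (θ : Subgroup.centralizer ((P : Subgroup G) : Set G) → ℂ) (χ : G → ℂ) *
        (starRingEnd ℂ) (Dnum (Subgroup.centralizer ((P : Subgroup G) : Set G)) ν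
          (θ : Subgroup.centralizer ((P : Subgroup G) : Set G) → ℂ) (χ : G → ℂ)) =
      ((Subgroup.centralizer ((P : Subgroup G) : Set G)).relIndex T : ℂ) +
        (if (∃ (n : G) (hn : n ∈ Subgroup.normalizer ((P : Subgroup G) : Set G)), n ∈ T ∧
          ν = fun c => μ (kap (P : Subgroup G) n hn c)) then (1 : ℂ) else 0) := by
  letI : Fintype G := Fintype.ofFinite G
  letI : Fintype (Subgroup.centralizer ((P : Subgroup G) : Set G)) := Fintype.ofFinite _
  letI : Fintype (Subgroup.normalizer ((P : Subgroup G) : Set G)) := Fintype.ofFinite _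
  -- `T` between `C` and `N`
  have hTN : T ≤ Subgroup.normalizer ((P : Subgroup G) : Set G) := fun g hg => ((hT g).mp hg).1
  have hCT : Subgroup.centralizer ((P : Subgroup G) : Set G) ≤ T := by
    intro g hg
    rw [hT g]
    refine ⟨Subgroup.centralizer_le_normalizer _ hg, ?_⟩
    intro c c' hc'
    have : c' = (⟨g, hg⟩ : Subgroup.centralizer ((P : Subgroup G) : Set G)) * c * ⟨g, hg⟩⁻¹ :=
      Subtype.ext (by rw [hc']; rfl)
    rw [this]
    exact Cfsg.Agent.Helper24.isClassFunction_irr θ c ⟨g, hg⟩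
  -- the two class functions extended by zero
  obtain ⟨φ, hφ⟩ : ∃ φ : G → ℂ, φ = fun g =>
      if h : g ∈ Subgroup.centralizer ((P : Subgroup G) : Set G) then
        (μ ⟨g, h⟩ - 1) * (θ : Subgroup.centralizer ((P : Subgroup G) : Set G) → ℂ) ⟨g, h⟩
      else 0 := ⟨_, rfl⟩
  obtain ⟨φ', hφ'⟩ : ∃ φ' : G → ℂ, φ' = fun g =>
      if h : g ∈ Subgroup.centralizer ((P : Subgroup G) : Set G) then
        (ν ⟨g, h⟩ - 1) * (θ : Subgroup.centralizer ((P : Subgroup G) : Set G) → ℂ) ⟨g, h⟩
      else 0 := ⟨_, rfl⟩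
  have hφc : ∀ c : Subgroup.centralizer ((P : Subgroup G) : Set G),
      φ c = (μ c - 1) * (θ : Subgroup.centralizer ((P : Subgroup G) : Set G) → ℂ) c := by
    intro c
    rw [hφ]
    simp only
    rw [dif_pos c.2]
  have hφ'c : ∀ c : Subgroup.centralizer ((P : Subgroup G) : Set G),
      φ' c = (ν c - 1) * (θ : Subgroup.centralizer ((P : Subgroup G) : Set G) → ℂ) c := by
    intro c
    rw [hφ']
    simp only
    rw [dif_pos c.2]
  have hφA : ∀ g, g ∉ {g : G | g ∈ Subgroup.centralizer ((P : Subgroup G) : Set G) ∧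
      p ∣ orderOf g} → φ g = 0 := by
    intro g hg
    rw [hφ]
    simp only
    by_cases h : g ∈ Subgroup.centralizer ((P : Subgroup G) : Set G)
    · rw [dif_pos h]
      have hreg : ¬ p ∣ orderOf g := fun hd => hg ⟨h, hd⟩
      rw [hμ.reg ⟨g, h⟩ (by rwa [Subgroup.orderOf_mk]), sub_self, zero_mul]
    · rw [dif_neg h]
  have hPG := Cfsg.Agent.Helper24.D1PG.gram_of_ti
    (Subgroup.centralizer ((P : Subgroup G) : Set G))
    (Subgroup.normalizer ((P : Subgroup G) : Set G))
    (fun n hn c hc => conj_mem_centralizer (P : Subgroup G) hn hc)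
    {g : G | g ∈ Subgroup.centralizer ((P : Subgroup G) : Set G) ∧ p ∣ orderOf g}
    (fun a ha g hg => Cfsg.Agent.Helper1.D1PA.mem_normalizer_of_conj_mem P hP ha.1 ha.2 g hg)
    φ φ' hφA
  -- the left side
  have hL : ∑ χ : IrrCharacter G,
        Dnum (Subgroup.centralizer ((P : Subgroup G) : Set G)) μ
          (θ : Subgroup.centralizer ((P : Subgroup G) : Set G) → ℂ) (χ : G → ℂ) *
        (starRingEnd ℂ) (Dnum (Subgroup.centralizer ((P : Subgroup G) : Set G)) ν
          (θ : Subgroup.centralizer ((P : Subgroup G) : Set G) → ℂ) (χ : G → ℂ)) =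
      ∑ χ : IrrCharacter G,
      ((Nat.card (Subgroup.centralizer ((P : Subgroup G) : Set G)) : ℂ)⁻¹ *
        ∑ c : Subgroup.centralizer ((P : Subgroup G) : Set G),
          (χ : G → ℂ) c * (starRingEnd ℂ) (φ c)) *
        (starRingEnd ℂ) ((Nat.card (Subgroup.centralizer ((P : Subgroup G) : Set G)) : ℂ)⁻¹ *
          ∑ c : Subgroup.centralizer ((P : Subgroup G) : Set G),
            (χ : G → ℂ) c * (starRingEnd ℂ) (φ' c)) := by
    apply Finset.sum_congr rfl
    intro χ _
    rw [Dnum_eq, Dnum_eq]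
    simp only [hφc, hφ'c]
  rw [hL, hPG]
  -- the right side
  have hR : ∀ n : Subgroup.normalizer ((P : Subgroup G) : Set G),
      (Nat.card (Subgroup.centralizer ((P : Subgroup G) : Set G)) : ℂ)⁻¹ *
        ∑ c : Subgroup.centralizer ((P : Subgroup G) : Set G),
          φ' ((n : G) * (c : G) * (n : G)⁻¹) * (starRingEnd ℂ) (φ c) =
      (if (n : G) ∈ T then (1 : ℂ) else 0) +
        (if ((n : G) ∈ T ∧ (fun c => ν (kap (P : Subgroup G) n n.2 c)) = μ) then (1 : ℂ)
          else 0) := by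
    intro n
    rw [← inner_term P hP θ hθP T hT μ ν hμ hν hμ1 hν1 n n.2]
    unfold classInner
    congr 1
    apply Finset.sum_congr rfl
    intro c _
    rw [show (n : G) * (c : G) * (n : G)⁻¹ = ((kap (P : Subgroup G) n n.2 c : _) : G) from rfl,
      hφ'c, hφc]
  rw [Finset.sum_congr rfl (fun n _ => hR n), Finset.sum_add_distrib,
    sum_mem_subgroup _ _ hTN, sum_coset P hP T hCT μ ν hμ hν hν1]
  have hcard : (Nat.card T : ℂ) =
      (Nat.card (Subgroup.centralizer ((P : Subgroup G) : Set G)) : ℂ) *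
        ((Subgroup.centralizer ((P : Subgroup G) : Set G)).relIndex T : ℂ) := by
    have := Subgroup.relIndex_mul_relIndex ⊥ _ T bot_le hCT
    rw [Subgroup.relIndex_bot_left, Subgroup.relIndex_bot_left] at this
    rw [← this]
    push_cast
    ring
  have hC0 : (Nat.card (Subgroup.centralizer ((P : Subgroup G) : Set G)) : ℂ) ≠ 0 := by
    exact_mod_cast Nat.card_pos.ne'
  rw [hcard]
  by_cases hE : ∃ (n : G) (hn : n ∈ Subgroup.normalizer ((P : Subgroup G) : Set G)), n ∈ T ∧
          ν = fun c => μ (kap (P : Subgroup G) n hn c)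
  · rw [if_pos hE, if_pos hE]
    field_simp
  · rw [if_neg hE, if_neg hE, add_zero, add_zero, ← mul_assoc, inv_mul_cancel₀ hC0, one_mul]

/-- (QG) the Gram matrix -/
theorem gram {G : Type*} [Group G] [Finite G] [Fintype (IrrCharacter G)] {p : ℕ} [Fact p.Prime]
    (P : Sylow p G) (hP : Nat.card P = p)
    (θ : IrrCharacter (Subgroup.centralizer ((P : Subgroup G) : Set G)))
    (hθP : ∀ x : Subgroup.centralizer ((P : Subgroup G) : Set G), (x : G) ∈ (P : Subgroup G) →
      (θ : Subgroup.centralizer ((P : Subgroup G) : Set G) → ℂ) x =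
        (θ : Subgroup.centralizer ((P : Subgroup G) : Set G) → ℂ) 1)
    (T : Subgroup G)
    (hT : ∀ g : G, g ∈ T ↔ (g ∈ Subgroup.normalizer ((P : Subgroup G) : Set G) ∧
      ∀ c c' : Subgroup.centralizer ((P : Subgroup G) : Set G), (c' : G) = g * c * g⁻¹ →
        (θ : Subgroup.centralizer ((P : Subgroup G) : Set G) → ℂ) c' =
          (θ : Subgroup.centralizer ((P : Subgroup G) : Set G) → ℂ) c))
    (μ ν : Subgroup.centralizer ((P : Subgroup G) : Set G) → ℂ) (hμ : IsPLin p μ)
    (hν : IsPLin p ν) (hμ1 : ∃ x, μ x ≠ 1) (hν1 : ∃ x, ν x ≠ 1) :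
    ((∃ (n : G) (hn : n ∈ Subgroup.normalizer ((P : Subgroup G) : Set G)), n ∈ T ∧
          ν = fun c => μ (kap (P : Subgroup G) n hn c)) →
      ∑ χ : IrrCharacter G,
        Dnum (Subgroup.centralizer ((P : Subgroup G) : Set G)) μ
          (θ : Subgroup.centralizer ((P : Subgroup G) : Set G) → ℂ) (χ : G → ℂ) *
        (starRingEnd ℂ) (Dnum (Subgroup.centralizer ((P : Subgroup G) : Set G)) ν
          (θ : Subgroup.centralizer ((P : Subgroup G) : Set G) → ℂ) (χ : G → ℂ)) =
      ((Subgroup.centralizer ((P : Subgroup G) : Set G)).relIndex T : ℂ) + 1) ∧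
    ((¬ ∃ (n : G) (hn : n ∈ Subgroup.normalizer ((P : Subgroup G) : Set G)), n ∈ T ∧
          ν = fun c => μ (kap (P : Subgroup G) n hn c)) →
      ∑ χ : IrrCharacter G,
        Dnum (Subgroup.centralizer ((P : Subgroup G) : Set G)) μ
          (θ : Subgroup.centralizer ((P : Subgroup G) : Set G) → ℂ) (χ : G → ℂ) *
        (starRingEnd ℂ) (Dnum (Subgroup.centralizer ((P : Subgroup G) : Set G)) ν
          (θ : Subgroup.centralizer ((P : Subgroup G) : Set G) → ℂ) (χ : G → ℂ)) =
      ((Subgroup.centralizer ((P : Subgroup G) : Set G)).relIndex T : ℂ)) := by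
  classical
  have key := gram_ite P hP θ hθP T hT μ ν hμ hν hμ1 hν1
  refine ⟨fun h => ?_, fun h => ?_⟩
  · rw [key, if_pos h]
  · rw [key, if_neg h, add_zero]

end Cfsg.Agent.Helper29.D1QG
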