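import Mathlib

/-!
# `S₃` acting fixed-point-freely (S4305): common definitions

`A0 = Perm (Fin 3)` with the 3-cycle `f0` and the transposition `t0`.
All configurations are *internal*: a finite ambient group `Γ`, a homomorphism `j : A0 →* Γ`,
and subgroups of `Γ` on which `A0` acts by conjugation through `j`.
-/

set_option autoImplicit false

namespace Cfsg.Agent.Helper29.S3f

open Equiv

/-- The acting group `S₃`. -/
abbrev A0 := Equiv.Perm (Fin 3)

/-- The 3-cycle. -/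
def f0 : A0 := c[0, 1, 2]

/-- A transposition. -/
def t0 : A0 := Equiv.swap 0 1

theorem f0_pow_three : f0 ^ 3 = 1 := by decide
theorem t0_pow_two : t0 ^ 2 = 1 := by decide
theorem t0_mul_t0 : t0 * t0 = 1 := by decide
theorem f0_mul_f0_mul_f0 : f0 * f0 * f0 = 1 := by decide
theorem t0_conj_f0 : t0 * f0 * t0⁻¹ = f0⁻¹ := by decide
theorem f0_ne_one : f0 ≠ 1 := by decide
theorem t0_ne_one : t0 ≠ 1 := by decide
theorem f0_inv : f0⁻¹ = f0 * f0 := by decide
theorem t0_inv : t0⁻¹ = t0 := by decide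

theorem A0_cases (a : A0) :
    a = 1 ∨ a = f0 ∨ a = f0 * f0 ∨ a = t0 ∨ a = f0 * t0 ∨ a = f0 * f0 * t0 := by
  revert a; decide

variable {Γ : Type*} [Group Γ]

/-- `H` is invariant under conjugation by `j a` for all `a`. -/
def AInv (j : A0 →* Γ) (H : Subgroup Γ) : Prop :=
  ∀ a : A0, ∀ h ∈ H, j a * h * (j a)⁻¹ ∈ H

/-- Invariance under `f0` and `t0` suffices. -/
theorem AInv_of_gens (j : A0 →* Γ) (H : Subgroup Γ)
    (hf : ∀ h ∈ H, j f0 * h * (j f0)⁻¹ ∈ H) (ht : ∀ h ∈ H, j t0 * h * (j t0)⁻¹ ∈ H) :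
    AInv j H := by
  have key : ∀ a b : A0, (∀ h ∈ H, j a * h * (j a)⁻¹ ∈ H) → (∀ h ∈ H, j b * h * (j b)⁻¹ ∈ H) →
      ∀ h ∈ H, j (a * b) * h * (j (a * b))⁻¹ ∈ H := by
    intro a b ha hb h hh
    have e : j (a * b) * h * (j (a * b))⁻¹ = j a * (j b * h * (j b)⁻¹) * (j a)⁻¹ := by
      rw [map_mul]; group
    rw [e]; exact ha _ (hb _ hh)
  intro a
  rcases A0_cases a with rfl | rfl | rfl | rfl | rfl | rfl
  · intro h hh; simpa using hh
  · exact hf
  · exact key _ _ hf hf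
  · exact ht
  · exact key _ _ hf ht
  · exact key _ _ (key _ _ hf hf) ht

/-- Conjugation action on homomorphisms out of a normal subgroup:
`(conjChar g χ) b = χ (g⁻¹ b g)`. -/
def conjChar {B : Subgroup Γ} [B.Normal] {K : Type*} [Monoid K] (g : Γ) (χ : ↥B →* K) : ↥B →* K :=
  χ.comp (MulAut.conjNormal g⁻¹ : MulAut ↥B).toMonoidHom

theorem conjChar_apply {B : Subgroup Γ} [B.Normal] {K : Type*} [Monoid K] (g : Γ) (χ : ↥B →* K)
    (b : ↥B) : conjChar g χ b = χ (MulAut.conjNormal g⁻¹ b) := rfl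

theorem coe_conjNormal_inv {B : Subgroup Γ} [B.Normal] (g : Γ) (b : ↥B) :
    ((MulAut.conjNormal g⁻¹ b : ↥B) : Γ) = g⁻¹ * b * g := by
  rw [MulAut.conjNormal_apply, inv_inv]

theorem conjChar_one {B : Subgroup Γ} [B.Normal] {K : Type*} [Monoid K] (χ : ↥B →* K) :
    conjChar (1 : Γ) χ = χ := by
  ext b
  rw [conjChar_apply]
  congr 1
  apply Subtype.ext
  rw [coe_conjNormal_inv]; simp

theorem conjChar_mul {B : Subgroup Γ} [B.Normal] {K : Type*} [Monoid K] (g h : Γ) (χ : ↥B →* K) :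
    conjChar (g * h) χ = conjChar g (conjChar h χ) := by
  ext b
  rw [conjChar_apply, conjChar_apply, conjChar_apply]
  congr 1
  apply Subtype.ext
  rw [coe_conjNormal_inv, coe_conjNormal_inv, coe_conjNormal_inv]; group

end Cfsg.Agent.Helper29.S3f
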