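import Mathlib
import Cfsg.Agent.Helper29.S3fDefs

set_option autoImplicit false

namespace Cfsg.Agent.Helper29.S3f

open Module

variable {Γ : Type*} [Group Γ] {K : Type*} [Field K] {M : Type*} [AddCommGroup M] [Module K M]
variable (ρ : Representation K Γ M) (B : Subgroup Γ)

def wtSpace (χ : ↥B →* Kˣ) : Submodule K M where
  carrier := {m | ∀ b : ↥B, ρ (b : Γ) m = ((χ b : Kˣ) : K) • m}
  add_mem' := by
    intro x y hx hy b
    rw [map_add, hx b, hy b, smul_add]
  zero_mem' := by
    intro b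
    rw [map_zero, smul_zero]
  smul_mem' := by
    intro c x hx b
    rw [map_smul, hx b, smul_comm]

theorem mem_wtSpace {χ : ↥B →* Kˣ} {m : M} :
    m ∈ wtSpace ρ B χ ↔ ∀ b : ↥B, ρ (b : Γ) m = ((χ b : Kˣ) : K) • m := Iff.rfl

theorem rho_mem_wtSpace_conjChar [B.Normal] (g : Γ) {χ : ↥B →* Kˣ} {m : M}
    (hm : m ∈ wtSpace ρ B χ) : ρ g m ∈ wtSpace ρ B (conjChar g χ) := by
  intro b
  have h1 : ρ (b : Γ) (ρ g m) = ρ g (ρ ((MulAut.conjNormal g⁻¹ b : ↥B) : Γ) m) := by
    rw [coe_conjNormal_inv, ← Module.End.mul_apply, ← Module.End.mul_apply, ← map_mul, ← map_mul]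
    congr 2
    group
  rw [h1, hm, map_smul, conjChar_apply]

/-- Weight spaces of distinct characters are independent. -/
theorem wtSpace_iSupIndep (hBab : ∀ a ∈ B, ∀ b ∈ B, a * b = b * a) :
    iSupIndep (fun χ : ↥B →* Kˣ => wtSpace ρ B χ) := by
  have h1 : iSupIndep (fun ψ : ↥B → K =>
      ⨅ b : ↥B, Module.End.maxGenEigenspace (ρ (b : Γ) : Module.End K M) (ψ b)) := by
    apply Module.End.independent_iInf_maxGenEigenspace_of_forall_mapsTo
    intro i j φ
    apply Module.End.mapsTo_maxGenEigenspace_of_comm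
    show Commute (ρ (j : Γ)) (ρ (i : Γ))
    show ρ (j : Γ) * ρ (i : Γ) = ρ (i : Γ) * ρ (j : Γ)
    rw [← map_mul, ← map_mul, hBab j j.2 i i.2]
  have hinj : Function.Injective (fun (χ : ↥B →* Kˣ) (b : ↥B) => ((χ b : Kˣ) : K)) := by
    intro χ χ' h
    ext b
    exact congrFun h b
  have h2 := h1.comp hinj
  refine h2.mono ?_
  intro χ m hm
  simp only [Function.comp_apply, Submodule.mem_iInf]
  intro b
  apply Module.End.eigenspace_le_maxGenEigenspace
  rw [Module.End.mem_eigenspace_iff]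
  exact hm b

/-- The stabiliser in `A0` of a character. -/
def stabChar [B.Normal] (j : A0 →* Γ) (χ : ↥B →* Kˣ) : Subgroup A0 where
  carrier := {a | conjChar (j a) χ = χ}
  mul_mem' := by
    intro a b ha hb
    show conjChar (j (a * b)) χ = χ
    rw [map_mul, conjChar_mul]
    have hb' : conjChar (j b) χ = χ := hb
    rw [hb']; exact ha
  one_mem' := by
    show conjChar (j 1) χ = χ
    rw [map_one, conjChar_one]
  inv_mem' := by
    intro a ha
    have ha' : conjChar (j a) χ = χ := ha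
    show conjChar (j a⁻¹) χ = χ
    have h1 : conjChar (j a⁻¹) (conjChar (j a) χ) = χ := by
      rw [← conjChar_mul, ← map_mul, inv_mul_cancel, map_one, conjChar_one]
    rw [ha'] at h1
    exact h1

theorem mem_stabChar [B.Normal] (j : A0 →* Γ) (χ : ↥B →* Kˣ) (a : A0) :
    a ∈ stabChar B j χ ↔ conjChar (j a) χ = χ := Iff.rfl

/-- NORM LEMMA. If `A0` has no nonzero fixed vector, a weight vector fixed by the stabiliser of its
weight is zero. -/
theorem norm_lemma [B.Normal] (hBab : ∀ a ∈ B, ∀ b ∈ B, a * b = b * a) (j : A0 →* Γ)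
    (h6 : (6 : K) ≠ 0)
    (hfixA : ∀ m : M, (∀ a : A0, ρ (j a) m = m) → m = 0)
    {χ : ↥B →* Kˣ} {m : M} (hm : m ∈ wtSpace ρ B χ)
    (hstab : ∀ a : A0, conjChar (j a) χ = χ → ρ (j a) m = m) : m = 0 := by
  classical
  -- the averaged vector
  set w : M := ∑ a : A0, ρ (j a) m with hw
  have hw0 : w = 0 := by
    apply hfixA
    intro a
    rw [hw, map_sum]
    have : ∀ b : A0, ρ (j a) (ρ (j b) m) = ρ (j (a * b)) m := by
      intro b
      rw [← Module.End.mul_apply, ← map_mul, ← map_mul]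
    simp_rw [this]
    exact Fintype.sum_equiv (Equiv.mulLeft a) _ _ (fun b => rfl)
  -- split the sum
  set St : Finset A0 := Finset.univ.filter (fun a => conjChar (j a) χ = χ) with hSt
  have hsplit : w = (∑ a ∈ St, ρ (j a) m) + ∑ a ∈ Finset.univ.filter (fun a => ¬ conjChar (j a) χ = χ), ρ (j a) m := by
    rw [hw, hSt, Finset.sum_filter_add_sum_filter_not]
  have hx : (∑ a ∈ St, ρ (j a) m) = (St.card : K) • m := by
    rw [Finset.sum_congr rfl (fun a ha => hstab a (Finset.mem_filter.mp ha).2), Finset.sum_const,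
      Nat.cast_smul_eq_nsmul]
  have hy : (∑ a ∈ Finset.univ.filter (fun a => ¬ conjChar (j a) χ = χ), ρ (j a) m) ∈
      ⨆ (χ' : ↥B →* Kˣ) (_ : χ' ≠ χ), wtSpace ρ B χ' := by
    apply Submodule.sum_mem
    intro a ha
    have hne : conjChar (j a) χ ≠ χ := (Finset.mem_filter.mp ha).2
    exact Submodule.mem_iSup_of_mem (conjChar (j a) χ)
      (Submodule.mem_iSup_of_mem hne (rho_mem_wtSpace_conjChar ρ B (j a) hm))
  have hdisj := (wtSpace_iSupIndep ρ B hBab) χ
  have hxm : (St.card : K) • m ∈ wtSpace ρ B χ := Submodule.smul_mem _ _ hm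
  have hxeq : (St.card : K) • m = -(∑ a ∈ Finset.univ.filter (fun a => ¬ conjChar (j a) χ = χ), ρ (j a) m) := by
    rw [← hx]
    rw [hw0] at hsplit
    exact eq_neg_of_add_eq_zero_left hsplit.symm
  have hzero : (St.card : K) • m = 0 := by
    apply Submodule.disjoint_def.mp hdisj _ hxm
    rw [hxeq]
    exact Submodule.neg_mem _ hy
  -- the cardinality is invertible
  have hcard : St.card = Nat.card (stabChar B j χ) := by
    rw [Nat.card_eq_fintype_card, Fintype.card_subtype]
    rfl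
  have hdvd : St.card ∣ 6 := by
    rw [hcard]
    have := Subgroup.card_subgroup_dvd_card (stabChar B j χ)
    have h6' : Nat.card A0 = 6 := by
      rw [Nat.card_eq_fintype_card, Fintype.card_perm, Fintype.card_fin]; rfl
    rwa [h6'] at this
  have hne : (St.card : K) ≠ 0 := by
    obtain ⟨d, hd⟩ := hdvd
    intro h
    apply h6
    have : (6 : K) = ((St.card * d : ℕ) : K) := by rw [← hd]; norm_num
    rw [this, Nat.cast_mul, h, zero_mul]
  rcases smul_eq_zero.mp hzero with h | h
  · exact absurd h hne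
  · exact h


theorem rho_inv_rho (g : Γ) (m : M) : ρ g⁻¹ (ρ g m) = m := by
  rw [← Module.End.mul_apply, ← map_mul, inv_mul_cancel, map_one, Module.End.one_apply]

/-- A common eigenvector defines a character. -/
theorem exists_char_of_eigenvector {m : M} (hm0 : m ≠ 0)
    (hm : ∀ b ∈ B, ∃ c : K, ρ b m = c • m) :
    ∃ χ : ↥B →* Kˣ, m ∈ wtSpace ρ B χ := by
  classical
  choose c hc using hm
  have hc0 : ∀ b (hb : b ∈ B), c b hb ≠ 0 := by
    intro b hb h0
    apply hm0
    have h1 := hc b hb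
    rw [h0, zero_smul] at h1
    have h2 := rho_inv_rho ρ b m
    rw [h1, map_zero] at h2
    exact h2.symm
  have huniq : ∀ a a' : K, a • m = a' • m → a = a' := by
    intro a a' h
    have : (a - a') • m = 0 := by rw [sub_smul, h, sub_self]
    rcases smul_eq_zero.mp this with h1 | h1
    · exact sub_eq_zero.mp h1
    · exact absurd h1 hm0
  refine ⟨{ toFun := fun b => Units.mk0 (c b.1 b.2) (hc0 b.1 b.2)
            map_one' := ?_
            map_mul' := ?_ }, ?_⟩
  · apply Units.ext
    simp only [Units.val_mk0, Units.val_one]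
    apply huniq
    rw [← hc, one_smul]
    simp
  · intro x y
    apply Units.ext
    simp only [Units.val_mk0, Units.val_mul]
    apply huniq
    rw [← hc]
    have : ρ ((x * y : ↥B) : Γ) m = ρ (x : Γ) (ρ (y : Γ) m) := by
      rw [← Module.End.mul_apply, ← map_mul]; rfl
    rw [this, hc y.1 y.2, map_smul, hc x.1 x.2, smul_smul, mul_comm]
  · intro b
    show ρ (b : Γ) m = (c b.1 b.2) • m
    exact hc b.1 b.2


/-- A commuting family has a common eigenvector in any nonzero invariant subspace. -/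
theorem exists_common_eigenvector [IsAlgClosed K] [FiniteDimensional K M]
    (hBab : ∀ a ∈ B, ∀ b ∈ B, a * b = b * a) :
    ∀ (n : ℕ) (W : Submodule K M), finrank K W = n → W ≠ ⊥ →
      (∀ b ∈ B, ∀ w ∈ W, ρ b w ∈ W) →
      ∃ m ∈ W, m ≠ 0 ∧ ∀ b ∈ B, ∃ c : K, ρ b m = c • m := by
  intro n
  induction n using Nat.strong_induction_on with
  | _ n ih =>
    intro W hn hW hinv
    by_cases hsc : ∀ b ∈ B, ∃ c : K, ∀ w ∈ W, ρ b w = c • w
    · obtain ⟨m, hmW, hm0⟩ := (Submodule.ne_bot_iff W).mp hW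
      refine ⟨m, hmW, hm0, ?_⟩
      intro b hb
      obtain ⟨c, hc⟩ := hsc b hb
      exact ⟨c, hc m hmW⟩
    · push Not at hsc
      obtain ⟨b, hb, hbns⟩ := hsc
      -- eigenvalue of `ρ b` restricted to `W`
      have : Nontrivial ↥W := Submodule.nontrivial_iff_ne_bot.mpr hW
      obtain ⟨c, hc⟩ := Module.End.exists_eigenvalue ((ρ b).restrict (hinv b hb))
      obtain ⟨v, hv⟩ := hc.exists_hasEigenvector
      have hv1 : ρ b (v : M) = c • (v : M) := by
        have := hv.apply_eq_smul
        have h2 := congrArg Subtype.val this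
        simpa using h2
      have hv0 : (v : M) ≠ 0 := by
        intro h
        apply hv.2
        exact Subtype.ext h
      set W' : Submodule K M := W ⊓ Module.End.eigenspace (ρ b) c with hW'
      have hW'ne : W' ≠ ⊥ := by
        intro h
        apply hv0
        have : (v : M) ∈ W' := by
          refine Submodule.mem_inf.mpr ⟨v.2, ?_⟩
          rw [Module.End.mem_eigenspace_iff]
          exact hv1
        rw [h] at this
        exact (Submodule.mem_bot K).mp this
      have hW'lt : W' < W := by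
        refine lt_of_le_of_ne inf_le_left ?_
        intro h
        obtain ⟨w, hwW, hw⟩ := hbns c
        apply hw
        have : w ∈ W' := by rw [h]; exact hwW
        have h2 := (Submodule.mem_inf.mp this).2
        rw [Module.End.mem_eigenspace_iff] at h2
        exact h2
      have hW'inv : ∀ b' ∈ B, ∀ w ∈ W', ρ b' w ∈ W' := by
        intro b' hb' w hw
        obtain ⟨hw1, hw2⟩ := Submodule.mem_inf.mp hw
        refine Submodule.mem_inf.mpr ⟨hinv b' hb' w hw1, ?_⟩
        rw [Module.End.mem_eigenspace_iff] at hw2 ⊢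
        have hcomm : ρ b (ρ b' w) = ρ b' (ρ b w) := by
          rw [← Module.End.mul_apply, ← Module.End.mul_apply, ← map_mul, ← map_mul,
            hBab b hb b' hb']
        rw [hcomm, hw2, map_smul]
      have hlt : finrank K ↥W' < n := by
        rw [← hn]
        exact Submodule.finrank_lt_finrank_of_lt hW'lt
      obtain ⟨m, hmW', hm0, hm⟩ := ih _ hlt W' rfl hW'ne hW'inv
      exact ⟨m, (Submodule.mem_inf.mp hmW').1, hm0, hm⟩



theorem rho_rho_inv (g : Γ) (m : M) : ρ g (ρ g⁻¹ m) = m := by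
  rw [← Module.End.mul_apply, ← map_mul, mul_inv_cancel, map_one, Module.End.one_apply]

theorem rho_injective (g : Γ) : Function.Injective (ρ g) := by
  intro x y h
  rw [← rho_inv_rho ρ g x, h, rho_inv_rho]

/-- (W1) Any nonzero `B`-invariant subspace contains a nonzero weight vector. -/
theorem exists_weight [IsAlgClosed K] [FiniteDimensional K M]
    (hBab : ∀ a ∈ B, ∀ b ∈ B, a * b = b * a) (W : Submodule K M) (hW : W ≠ ⊥)
    (hinv : ∀ b ∈ B, ∀ w ∈ W, ρ b w ∈ W) :
    ∃ (χ : ↥B →* Kˣ) (m : M), m ∈ W ∧ m ≠ 0 ∧ m ∈ wtSpace ρ B χ := by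
  obtain ⟨m, hmW, hm0, hm⟩ := exists_common_eigenvector ρ B hBab _ W rfl hW hinv
  obtain ⟨χ, hχ⟩ := exists_char_of_eigenvector ρ B hm0 hm
  exact ⟨χ, m, hmW, hm0, hχ⟩

/-- In `S₃`, an involution `t` together with any element outside `{1, t}` generates `f0`. -/
theorem f0_of_two : ∀ a t : A0, t * t = 1 → t ≠ 1 → a ≠ 1 → a ≠ t →
    f0 = a ∨ f0 = a * a ∨ f0 = t * a ∨ f0 = a * t := by
  decide

/-- (NL1) The stabiliser of a weight is nontrivial. -/
theorem exists_stab_ne_one [B.Normal] (hBab : ∀ a ∈ B, ∀ b ∈ B, a * b = b * a) (j : A0 →* Γ)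
    (h6 : (6 : K) ≠ 0)
    (hfixA : ∀ m : M, (∀ a : A0, ρ (j a) m = m) → m = 0)
    {χ : ↥B →* Kˣ} (hχ : wtSpace ρ B χ ≠ ⊥) :
    ∃ a : A0, a ≠ 1 ∧ conjChar (j a) χ = χ := by
  by_contra hcon
  push Not at hcon
  obtain ⟨m, hm, hm0⟩ := (Submodule.ne_bot_iff _).mp hχ
  apply hm0
  apply norm_lemma ρ B hBab j h6 hfixA hm
  intro a ha
  have : a = 1 := by
    by_contra h1
    exact hcon a h1 ha
  rw [this, map_one, map_one, Module.End.one_apply]

/-- (NL2) If the stabiliser of a weight is `{1, t}` for an involution `t`, then `t` acts as `-1` on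
the weight space. -/
theorem neg_of_stab_invol [B.Normal] (hBab : ∀ a ∈ B, ∀ b ∈ B, a * b = b * a) (j : A0 →* Γ)
    (h6 : (6 : K) ≠ 0)
    (hfixA : ∀ m : M, (∀ a : A0, ρ (j a) m = m) → m = 0)
    {χ : ↥B →* Kˣ} (t : A0) (ht : t * t = 1)
    (hstab : ∀ a : A0, conjChar (j a) χ = χ → a = 1 ∨ a = t)
    (htχ : conjChar (j t) χ = χ)
    {m : M} (hm : m ∈ wtSpace ρ B χ) : ρ (j t) m = -m := by
  have hm' : ρ (j t) m ∈ wtSpace ρ B χ := by
    have := rho_mem_wtSpace_conjChar ρ B (j t) hm
    rwa [htχ] at this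
  have hsum : m + ρ (j t) m = 0 := by
    apply norm_lemma ρ B hBab j h6 hfixA (Submodule.add_mem _ hm hm')
    intro a ha
    rcases hstab a ha with rfl | rfl
    · rw [map_one, map_one, Module.End.one_apply]
    · rw [map_add, ← Module.End.mul_apply, ← map_mul, ← map_mul, ht, map_one, map_one,
        Module.End.one_apply, add_comm]
  exact eq_neg_of_add_eq_zero_right hsum

/-- If `f0` does not stabilise `χ` but the involution `t` does, the stabiliser is `{1, t}`. -/
theorem stab_eq_of_not_f0 [B.Normal] (j : A0 →* Γ) {χ : ↥B →* Kˣ} (t : A0) (ht : t * t = 1)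
    (ht1 : t ≠ 1) (htχ : conjChar (j t) χ = χ) (hf : conjChar (j f0) χ ≠ χ) :
    ∀ a : A0, conjChar (j a) χ = χ → a = 1 ∨ a = t := by
  intro a ha
  by_contra hcon
  push Not at hcon
  apply hf
  have hS := stabChar B j χ
  have ha' : a ∈ stabChar B j χ := ha
  have ht' : t ∈ stabChar B j χ := htχ
  show f0 ∈ stabChar B j χ
  rcases f0_of_two a t ht ht1 hcon.1 hcon.2 with h | h | h | h <;> rw [h]
  · exact ha'
  · exact Subgroup.mul_mem _ ha' ha'
  · exact Subgroup.mul_mem _ ht' ha'
  · exact Subgroup.mul_mem _ ha' ht'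

end Cfsg.Agent.Helper29.S3f
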