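import Mathlib
import Cfsg.Agent.Helper29.S3fWt

/-!
# A nonabelian group of order `pq` acting fixed-point-freely (S4306): common definitions

All configurations are *internal*: a finite ambient group `Γ`, an abstract finite group `A`,
a homomorphism `j : A →* Γ`, and subgroups of `Γ` on which `A` acts by conjugation through `j`.
`conjChar`, `wtSpace` and their general lemmas are reused from `Cfsg.Agent.Helper29.S3f`.
-/

set_option autoImplicit false

namespace Cfsg.Agent.Helper29.Pq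

open Cfsg.Agent.Helper29.S3f

variable {Γ : Type*} [Group Γ] {A : Type*} [Group A]

/-- `H` is invariant under conjugation by `j a` for all `a`. -/
def GInv (j : A →* Γ) (H : Subgroup Γ) : Prop :=
  ∀ a : A, ∀ h ∈ H, j a * h * (j a)⁻¹ ∈ H

theorem GInv.conj_mem_iff {j : A →* Γ} {H : Subgroup Γ} (hH : GInv j H) (a : A) (x : Γ) :
    j a * x * (j a)⁻¹ ∈ H ↔ x ∈ H := by
  constructor
  · intro h
    have := hH a⁻¹ _ h
    have e : j a⁻¹ * (j a * x * (j a)⁻¹) * (j a⁻¹)⁻¹ = x := by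
      rw [map_inv]; group
    rwa [e] at this
  · exact hH a x

theorem GInv.inf {j : A →* Γ} {H K : Subgroup Γ} (hH : GInv j H) (hK : GInv j K) :
    GInv j (H ⊓ K) := fun a x hx => ⟨hH a x hx.1, hK a x hx.2⟩

theorem GInv.of_normal (j : A →* Γ) (H : Subgroup Γ) [H.Normal] : GInv j H :=
  fun a x hx => Subgroup.Normal.conj_mem inferInstance x hx (j a)

/-- The Frobenius structure of the acting group: `A = ⟨f⟩ ⋊ ⟨η⟩`, `|f| = ℓ`, `|η| = h`. -/
structure FrobPQ (A : Type*) [Group A] (f η : A) (ℓ h : ℕ) : Prop where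
  hℓ : ℓ.Prime
  hh : h.Prime
  hne : ℓ ≠ h
  f_pow : f ^ ℓ = 1
  f_ne : f ≠ 1
  η_pow : η ^ h = 1
  η_ne : η ≠ 1
  norm : η * f * η⁻¹ ∈ Subgroup.zpowers f
  ncomm : η * f * η⁻¹ ≠ f
  gen : ∀ x : A, ∃ u ∈ Subgroup.zpowers f, ∃ v ∈ Subgroup.zpowers η, x = u * v

end Cfsg.Agent.Helper29.Pq
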