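import Mathlib
import Cfsg.Agent.Helper29.PqDefs
import Cfsg.Agent.Lead.Coprime2

set_option autoImplicit false

namespace Cfsg.Agent.Helper29.Pq

open scoped commutatorElement

universe u v

variable {Γ : Type u} [Group Γ] {A : Type v} [Group A]

/-- Internal hypotheses of S4306. -/
structure HypPQ (j : A →* Γ) (G : Subgroup Γ) : Prop where
  inv : GInv j G
  solv : Group.IsSolvable ↥G
  cop : (Nat.card G).Coprime (Nat.card A)
  fpf : ∀ g ∈ G, (∀ a : A, j a * g * (j a)⁻¹ = g) → g = 1

/-- The conclusion of S4306 in internal form: an `A`-invariant nilpotent subgroup `N` of `G`,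
normalised by `G`, with `G/N` nilpotent (some term of the lower central series of `G` lies in
`N`). -/
def Concl (j : A →* Γ) (G : Subgroup Γ) : Prop :=
  ∃ N : Subgroup Γ, N ≤ G ∧ GInv j N ∧ (∀ g ∈ G, ∀ n ∈ N, g * n * g⁻¹ ∈ N) ∧
    Group.IsNilpotent ↥N ∧ ∃ k : ℕ, G.lowerCentralSeries k ≤ N

theorem GInv.inv_conj {j : A →* Γ} {G : Subgroup Γ} (h : GInv j G) (a : A) {g : Γ} (hg : g ∈ G) :
    (j a)⁻¹ * g * j a ∈ G := by
  have := h a⁻¹ g hg
  rwa [map_inv, inv_inv] at this

theorem card_range_dvd [Finite A] (j : A →* Γ) : Nat.card ↥j.range ∣ Nat.card A :=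
  Subgroup.card_range_dvd j

theorem coprime_range [Finite A] (j : A →* Γ) {G : Subgroup Γ}
    (hc : (Nat.card G).Coprime (Nat.card A)) :
    (Nat.card ↥j.range).Coprime (Nat.card G) :=
  (Nat.Coprime.coprime_dvd_right (card_range_dvd j) hc).symm

theorem mem_centralizer_range_iff (j : A →* Γ) (g : Γ) :
    g ∈ Subgroup.centralizer (j.range : Set Γ) ↔ ∀ a : A, j a * g * (j a)⁻¹ = g := by
  rw [Subgroup.mem_centralizer_iff]
  constructor
  · intro h a
    rw [h (j a) ⟨a, rfl⟩]; group
  · rintro h _ ⟨a, rfl⟩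
    have := h a
    calc j a * g = j a * g * (j a)⁻¹ * j a := by group
      _ = g * j a := by rw [this]

theorem range_le_normalizer_of_GInv (j : A →* Γ) {H : Subgroup Γ} (h : GInv j H) :
    j.range ≤ Subgroup.normalizer (H : Set Γ) := by
  rintro _ ⟨a, rfl⟩
  rw [Subgroup.mem_normalizer_iff]
  intro x
  constructor
  · intro hx; exact h a x hx
  · intro hx
    have := h.inv_conj a hx
    have e : (j a)⁻¹ * (j a * x * (j a)⁻¹) * j a = x := by group
    rwa [e] at this

theorem HypPQ.sub {j : A →* Γ} {G : Subgroup Γ} (hG : HypPQ j G) {H : Subgroup Γ} (hHG : H ≤ G)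
    (hH : GInv j H) : HypPQ j H :=
  ⟨hH, by
      have := hG.solv
      exact Group.isSolvable_of_isSolvable_injective (f := Subgroup.inclusion hHG)
        (Subgroup.inclusion_injective hHG),
    Nat.Coprime.coprime_dvd_left (Subgroup.card_dvd_of_le hHG) hG.cop,
    fun g hg h => hG.fpf g (hHG hg) h⟩

/-- Quotient configuration. -/
theorem HypPQ.quot [Finite Γ] [Finite A] {j : A →* Γ} {G : Subgroup Γ} [G.Normal] (hG : HypPQ j G)
    (N : Subgroup Γ) [N.Normal] (hNG : N ≤ G) :
    HypPQ ((QuotientGroup.mk' N).comp j) (G.map (QuotientGroup.mk' N)) := by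
  refine ⟨?_, ?_, ?_, ?_⟩
  · rintro a _ ⟨g, hg, rfl⟩
    refine ⟨j a * g * (j a)⁻¹, hG.inv a g hg, ?_⟩
    simp
  · have := hG.solv
    exact Group.isSolvable_of_surjective (f := (QuotientGroup.mk' N).subgroupMap G)
      ((QuotientGroup.mk' N).subgroupMap_surjective G)
  · exact Nat.Coprime.coprime_dvd_left (Subgroup.card_map_dvd _ _) hG.cop
  · rintro _ ⟨g, hg, rfl⟩ hfix
    have hAK : j.range ≤ Subgroup.normalizer (G : Set Γ) := by
      rw [Subgroup.normalizer_eq_top]; exact le_top
    have hfix' : ∀ a ∈ j.range, a * g * a⁻¹ * g⁻¹ ∈ N := by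
      rintro _ ⟨a, rfl⟩
      have := hfix a
      simp only [MonoidHom.coe_comp, Function.comp_apply, QuotientGroup.mk'_apply] at this
      rw [← QuotientGroup.eq_one_iff]
      simp only [QuotientGroup.mk_mul, QuotientGroup.mk_inv] at this ⊢
      rw [this]; group
    obtain ⟨c, hc, hgc⟩ := Cfsg.Agent.Lead.coprime_fixed_points_quotient j.range G hAK
      (coprime_range j hG.cop) (Or.inr hG.solv) N hNG
      (by rw [Subgroup.normalizer_eq_top]; exact le_top)
      (by rw [Subgroup.normalizer_eq_top]; exact le_top) g hg hfix'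
    have hc1 : c = 1 := hG.fpf c hc.1 ((mem_centralizer_range_iff j c).mp hc.2)
    rw [hc1, mul_one] at hgc
    have : g ∈ N := by simpa using N.inv_mem hgc
    simpa using (QuotientGroup.eq_one_iff g).mpr this

/-- `j a ∈ G` forces `j a = 1` when `|G|` is prime to `|A|`. -/
theorem j_mem_eq_one [Finite Γ] [Finite A] (j : A →* Γ) {G : Subgroup Γ}
    (hc : (Nat.card G).Coprime (Nat.card A)) (a : A) (h : j a ∈ G) : j a = 1 := by
  have h1 : orderOf (j a) ∣ Nat.card A := by
    apply orderOf_dvd_of_pow_eq_one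
    rw [← map_pow, pow_card_eq_one', map_one]
  have h2 : orderOf (j a) ∣ Nat.card G := Subgroup.orderOf_dvd_natCard G h
  have := Nat.Coprime.eq_one_of_dvd (Nat.Coprime.coprime_dvd_left h2 hc) h1
  exact orderOf_eq_one_iff.mp this

theorem quot_injective [Finite Γ] [Finite A] (j : A →* Γ) (hj : Function.Injective j)
    {G : Subgroup Γ} (hc : (Nat.card G).Coprime (Nat.card A)) (N : Subgroup Γ) [N.Normal]
    (hNG : N ≤ G) : Function.Injective ((QuotientGroup.mk' N).comp j) := by
  rw [injective_iff_map_eq_one]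
  intro a ha
  simp only [MonoidHom.coe_comp, Function.comp_apply, QuotientGroup.mk'_apply] at ha
  have h1 : j a ∈ N := (QuotientGroup.eq_one_iff _).mp ha
  have h2 := j_mem_eq_one j hc a (hNG h1)
  exact hj (by rw [h2, map_one])

theorem quot_normal {G : Subgroup Γ} [hG : G.Normal] (N : Subgroup Γ) [N.Normal] :
    (G.map (QuotientGroup.mk' N)).Normal :=
  hG.map _ (QuotientGroup.mk'_surjective N)

section Std

variable (H : Type u) [Group H] (φ : A →* MulAut H)

open SemidirectProduct

instance std_normal : (inl : H →* H ⋊[φ] A).range.Normal := by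
  rw [range_inl_eq_ker_rightHom]
  exact MonoidHom.normal_ker _

theorem std_conj (a : A) (h : H) :
    (inr : A →* H ⋊[φ] A) a * inl h * ((inr : A →* H ⋊[φ] A) a)⁻¹ = inl (φ a h) := by
  rw [inl_aut, map_inv]

theorem std_hypPQ [Finite H] (hsolv : Group.IsSolvable H)
    (hcop : (Nat.card H).Coprime (Nat.card A))
    (hfpf : ∀ h : H, (∀ a : A, φ a h = h) → h = 1) :
    HypPQ (inr : A →* H ⋊[φ] A) (inl : H →* H ⋊[φ] A).range := by
  have e : H ≃* ↥(inl : H →* H ⋊[φ] A).range := MonoidHom.ofInjective inl_injective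
  refine ⟨?_, ?_, ?_, ?_⟩
  · rintro a _ ⟨h, rfl⟩
    rw [std_conj]
    exact ⟨_, rfl⟩
  · exact Group.isSolvable_of_surjective (f := e.toMonoidHom) e.surjective
  · rw [← Nat.card_congr e.toEquiv]
    exact hcop
  · rintro _ ⟨h, rfl⟩ hfix
    rw [hfpf h, map_one]
    intro a
    have := hfix a
    rw [std_conj] at this
    exact inl_injective this

theorem std_card [Finite H] : Nat.card ↥(inl : H →* H ⋊[φ] A).range = Nat.card H :=
  (Nat.card_congr (MonoidHom.ofInjective inl_injective).toEquiv).symm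

instance std_finite [Finite H] [Finite A] : Finite (H ⋊[φ] A) :=
  Finite.of_equiv _ (SemidirectProduct.equivProd (φ := φ)).symm

end Std

end Cfsg.Agent.Helper29.Pq
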