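import Mathlib
import Cfsg.Agent.Helper5.FrobModE

set_option autoImplicit false

namespace Cfsg.Agent.Helper29.S3f

open Module TensorProduct Cfsg.Agent.Helper5.FrobMod

section BC

variable {k : Type*} [Field k] {M : Type*} [AddCommGroup M] [Module k M]
variable {A : Type*} [Group A] (ρ : Representation k A M)
variable (K : Type*) [Field K] [Algebra k K]

theorem bc_apply_tmul (a : A) (c : K) (m : M) :
    baseChangeRep ρ K a (c ⊗ₜ[k] m) = c ⊗ₜ[k] ρ a m := by
  simp [baseChangeRep]

theorem bc_eq_one {a : A} (h : baseChangeRep ρ K a = 1) : ρ a = 1 := by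
  apply LinearMap.baseChangeHom_injective (R := k) (S := K) (M := M) (N := M)
  show (ρ a).baseChange K = (1 : Module.End k M).baseChange K
  have h1 : (1 : Module.End k M).baseChange K = 1 := LinearMap.baseChange_one k M
  rw [h1]
  exact h

theorem bc_fix_elt (a : A) (h : ∀ m : K ⊗[k] M, baseChangeRep ρ K a m = m → m = 0) :
    ∀ m : M, ρ a m = m → m = 0 := by
  intro m hm
  have h1 := h ((1 : K) ⊗ₜ[k] m) (by rw [bc_apply_tmul, hm])
  have hinj := Module.Flat.tensorProduct_mk_injective k M K
  apply hinj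
  rw [map_zero]
  exact h1

theorem bc_fix_bot [FiniteDimensional k M] (B : Subgroup A) [Finite B] (hB : (Nat.card B : k) ≠ 0)
    (h : ∀ m : M, (∀ b ∈ B, ρ b m = m) → m = 0) :
    ∀ m : K ⊗[k] M, (∀ b ∈ B, baseChangeRep ρ K b m = m) → m = 0 := by
  have h0 : fixOf ρ B = ⊥ := by
    rw [eq_bot_iff]
    intro m hm
    exact (Submodule.mem_bot k).mpr (h m hm)
  have h1 := finrank_fix_baseChange ρ K B hB
  rw [h0, finrank_bot] at h1
  have h2 : fixOf (baseChangeRep ρ K) B = ⊥ := Submodule.finrank_eq_zero.mp h1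
  intro m hm
  have : m ∈ fixOf (baseChangeRep ρ K) B := hm
  rw [h2] at this
  exact (Submodule.mem_bot K).mp this

end BC

end Cfsg.Agent.Helper29.S3f
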