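import Mathlib
import Cfsg.Agent.Helper29.S3fDefs

set_option autoImplicit false

namespace Cfsg.Agent.Helper29.S3f

open scoped commutatorElement

universe u

variable {Γ : Type u} [Group Γ]

/-- Internal hypotheses of S4305. -/
structure HypInt (j : A0 →* Γ) (G : Subgroup Γ) : Prop where
  inv : AInv j G
  solv : Group.IsSolvable ↥G
  cop : (Nat.card G).Coprime 6
  fpf : ∀ g ∈ G, (∀ a : A0, j a * g * (j a)⁻¹ = g) → g = 1

theorem AInv.inv_conj {j : A0 →* Γ} {G : Subgroup Γ} (h : AInv j G) (a : A0) {g : Γ} (hg : g ∈ G) :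
    (j a)⁻¹ * g * j a ∈ G := by
  have := h a⁻¹ g hg
  rwa [map_inv, inv_inv] at this

/-- The action of `A0` on an invariant subgroup, as a homomorphism into `MulAut`. -/
def conjRestrict (j : A0 →* Γ) (G : Subgroup Γ) (h : AInv j G) : A0 →* MulAut ↥G where
  toFun a :=
    { toFun := fun g => ⟨j a * g * (j a)⁻¹, h a g g.2⟩
      invFun := fun g => ⟨(j a)⁻¹ * g * j a, h.inv_conj a g.2⟩
      left_inv := fun g => Subtype.ext (by simp only []; group)
      right_inv := fun g => Subtype.ext (by simp only []; group)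
      map_mul' := fun x y => Subtype.ext (by simp only [Subgroup.coe_mul]; group) }
  map_one' := by
    ext g
    simp
  map_mul' := by
    intro a b
    ext g
    simp only [map_mul, MulEquiv.coe_mk, Equiv.coe_fn_mk, MulAut.mul_apply]
    group

@[simp] theorem coe_conjRestrict_apply (j : A0 →* Γ) (G : Subgroup Γ) (h : AInv j G) (a : A0)
    (g : ↥G) : ((conjRestrict j G h a g : ↥G) : Γ) = j a * g * (j a)⁻¹ := rfl

theorem nilpotent_comm_of_subtype (G : Subgroup Γ) (h : Group.IsNilpotent ↥(commutator ↥G)) :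
    Group.IsNilpotent ↥⁅G, G⁆ := by
  have e := Subgroup.equivMapOfInjective (commutator ↥G) G.subtype G.subtype_injective
  rw [Subgroup.map_subtype_commutator] at e
  exact Group.nilpotent_of_mulEquiv e

section Std

variable (H : Type u) [Group H] (φ : A0 →* MulAut H)

open SemidirectProduct

instance std_normal : (inl : H →* H ⋊[φ] A0).range.Normal := by
  rw [range_inl_eq_ker_rightHom]
  exact MonoidHom.normal_ker _

theorem std_cover (γ : H ⋊[φ] A0) :
    ∃ g ∈ (inl : H →* H ⋊[φ] A0).range, ∃ a : A0, γ = g * (inr : A0 →* H ⋊[φ] A0) a :=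
  ⟨inl γ.left, ⟨γ.left, rfl⟩, γ.right, (inl_left_mul_inr_right γ).symm⟩

theorem std_conj (a : A0) (h : H) :
    (inr : A0 →* H ⋊[φ] A0) a * inl h * ((inr : A0 →* H ⋊[φ] A0) a)⁻¹ = inl (φ a h) := by
  rw [inl_aut, map_inv]

theorem std_hypInt [Finite H] (hsolv : Group.IsSolvable H) (hcop : (Nat.card H).Coprime 6)
    (hfpf : ∀ h : H, (∀ a : A0, φ a h = h) → h = 1) :
    HypInt (inr : A0 →* H ⋊[φ] A0) (inl : H →* H ⋊[φ] A0).range := by
  have e : H ≃* ↥(inl : H →* H ⋊[φ] A0).range := MonoidHom.ofInjective inl_injective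
  refine ⟨?_, ?_, ?_, ?_⟩
  · rintro a _ ⟨h, rfl⟩
    rw [std_conj]
    exact ⟨_, rfl⟩
  · exact Group.isSolvable_of_surjective (f := e.toMonoidHom) e.surjective
  · rw [← Nat.card_congr e.toEquiv]
    exact hcop
  · rintro _ ⟨h, rfl⟩ hfix
    rw [hfpf h, map_one]
    intro a
    have := hfix a
    rw [std_conj] at this
    exact inl_injective this

theorem std_nilpotent (hn : Group.IsNilpotent ↥⁅(inl : H →* H ⋊[φ] A0).range, (inl : H →* H ⋊[φ] A0).range⁆) :
    Group.IsNilpotent ↥(commutator H) := by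
  have e := Subgroup.equivMapOfInjective (commutator H) (inl : H →* H ⋊[φ] A0) inl_injective
  rw [commutator_def, Subgroup.map_commutator, ← MonoidHom.range_eq_map] at e
  exact Group.nilpotent_of_mulEquiv e.symm

theorem std_card [Finite H] : Nat.card ↥(inl : H →* H ⋊[φ] A0).range = Nat.card H :=
  (Nat.card_congr (MonoidHom.ofInjective inl_injective).toEquiv).symm

instance std_finite [Finite H] : Finite (H ⋊[φ] A0) :=
  Finite.of_equiv _ (SemidirectProduct.equivProd (φ := φ)).symm

end Std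

end Cfsg.Agent.Helper29.S3f
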