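import Mathlib
import Cfsg.Agent.Helper29.S3fBridge
import Cfsg.Agent.Lead.Coprime2

set_option autoImplicit false

namespace Cfsg.Agent.Helper29.S3f

open scoped commutatorElement

universe u

variable {Γ : Type u} [Group Γ]

theorem card_A0 : Nat.card A0 = 6 := by
  rw [Nat.card_eq_fintype_card, Fintype.card_perm, Fintype.card_fin]; rfl

theorem card_range_dvd (j : A0 →* Γ) : Nat.card ↥j.range ∣ 6 := by
  have h := Subgroup.card_range_dvd j
  rwa [card_A0] at h

theorem coprime_range (j : A0 →* Γ) {G : Subgroup Γ} (hc : (Nat.card G).Coprime 6) :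
    (Nat.card ↥j.range).Coprime (Nat.card G) :=
  (Nat.Coprime.coprime_dvd_right (card_range_dvd j) hc).symm

theorem mem_centralizer_range_iff (j : A0 →* Γ) (g : Γ) :
    g ∈ Subgroup.centralizer (j.range : Set Γ) ↔ ∀ a : A0, j a * g * (j a)⁻¹ = g := by
  rw [Subgroup.mem_centralizer_iff]
  constructor
  · intro h a
    rw [h (j a) ⟨a, rfl⟩]; group
  · rintro h _ ⟨a, rfl⟩
    have := h a
    calc j a * g = j a * g * (j a)⁻¹ * j a := by group
      _ = g * j a := by rw [this]

theorem range_le_normalizer_of_AInv (j : A0 →* Γ) {H : Subgroup Γ} (h : AInv j H) :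
    j.range ≤ Subgroup.normalizer (H : Set Γ) := by
  rintro _ ⟨a, rfl⟩
  rw [Subgroup.mem_normalizer_iff]
  intro x
  constructor
  · intro hx; exact h a x hx
  · intro hx
    have := h.inv_conj a hx
    have e : (j a)⁻¹ * (j a * x * (j a)⁻¹) * j a = x := by group
    rwa [e] at this

theorem HypInt.sub {j : A0 →* Γ} {G : Subgroup Γ} (hG : HypInt j G) {H : Subgroup Γ} (hHG : H ≤ G)
    (hH : AInv j H) : HypInt j H :=
  ⟨hH, by
      have := hG.solv
      exact Group.isSolvable_of_isSolvable_injective (f := Subgroup.inclusion hHG)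
        (Subgroup.inclusion_injective hHG),
    Nat.Coprime.coprime_dvd_left (Subgroup.card_dvd_of_le hHG) hG.cop,
    fun g hg h => hG.fpf g (hHG hg) h⟩

/-- Quotient configuration. -/
theorem HypInt.quot [Finite Γ] {j : A0 →* Γ} {G : Subgroup Γ} [G.Normal] (hG : HypInt j G)
    (N : Subgroup Γ) [N.Normal] (hNG : N ≤ G) :
    HypInt ((QuotientGroup.mk' N).comp j) (G.map (QuotientGroup.mk' N)) := by
  refine ⟨?_, ?_, ?_, ?_⟩
  · rintro a _ ⟨g, hg, rfl⟩
    refine ⟨j a * g * (j a)⁻¹, hG.inv a g hg, ?_⟩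
    simp
  · have := hG.solv
    exact Group.isSolvable_of_surjective (f := (QuotientGroup.mk' N).subgroupMap G)
      ((QuotientGroup.mk' N).subgroupMap_surjective G)
  · exact Nat.Coprime.coprime_dvd_left (Subgroup.card_map_dvd _ _) hG.cop  
  · rintro _ ⟨g, hg, rfl⟩ hfix
    have hAK : j.range ≤ Subgroup.normalizer (G : Set Γ) := by
      rw [Subgroup.normalizer_eq_top]; exact le_top
    have hfix' : ∀ a ∈ j.range, a * g * a⁻¹ * g⁻¹ ∈ N := by
      rintro _ ⟨a, rfl⟩
      have := hfix a
      simp only [MonoidHom.coe_comp, Function.comp_apply, QuotientGroup.mk'_apply] at this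
      rw [← QuotientGroup.eq_one_iff]
      simp only [QuotientGroup.mk_mul, QuotientGroup.mk_inv] at this ⊢
      rw [this]; group
    obtain ⟨c, hc, hgc⟩ := Cfsg.Agent.Lead.coprime_fixed_points_quotient j.range G hAK
      (coprime_range j hG.cop) (Or.inr hG.solv) N hNG
      (by rw [Subgroup.normalizer_eq_top]; exact le_top)
      (by rw [Subgroup.normalizer_eq_top]; exact le_top) g hg hfix'
    have hc1 : c = 1 := hG.fpf c hc.1 ((mem_centralizer_range_iff j c).mp hc.2)
    rw [hc1, mul_one] at hgc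
    have : g ∈ N := by simpa using N.inv_mem hgc
    simpa using (QuotientGroup.eq_one_iff g).mpr this

theorem A0_pow_six (a : A0) : a ^ 6 = 1 := by
  have h : a ^ Nat.card A0 = 1 := pow_card_eq_one'
  rwa [card_A0] at h

/-- `j a ∈ G` forces `j a = 1` when `|G|` is prime to 6. -/
theorem j_mem_eq_one [Finite Γ] (j : A0 →* Γ) {G : Subgroup Γ} (hc : (Nat.card G).Coprime 6) (a : A0)
    (h : j a ∈ G) : j a = 1 := by
  have h1 : orderOf (j a) ∣ 6 := by
    apply orderOf_dvd_of_pow_eq_one
    rw [← map_pow, A0_pow_six, map_one]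
  have h2 : orderOf (j a) ∣ Nat.card G := by
    have := Subgroup.orderOf_dvd_natCard G h
    exact this
  have := Nat.Coprime.eq_one_of_dvd (Nat.Coprime.coprime_dvd_left h2 hc) h1
  exact orderOf_eq_one_iff.mp this

theorem quot_injective [Finite Γ] (j : A0 →* Γ) (hj : Function.Injective j) {G : Subgroup Γ}
    (hc : (Nat.card G).Coprime 6) (N : Subgroup Γ) [N.Normal] (hNG : N ≤ G) :
    Function.Injective ((QuotientGroup.mk' N).comp j) := by
  rw [injective_iff_map_eq_one]
  intro a ha
  simp only [MonoidHom.coe_comp, Function.comp_apply, QuotientGroup.mk'_apply] at ha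
  have h1 : j a ∈ N := (QuotientGroup.eq_one_iff _).mp ha
  have h2 := j_mem_eq_one j hc a (hNG h1)
  exact hj (by rw [h2, map_one])

theorem quot_cover {j : A0 →* Γ} {G : Subgroup Γ}
    (hGA : ∀ γ : Γ, ∃ g ∈ G, ∃ a : A0, γ = g * j a) (N : Subgroup Γ) [N.Normal]
    (γ : Γ ⧸ N) : ∃ g ∈ G.map (QuotientGroup.mk' N), ∃ a : A0,
      γ = g * ((QuotientGroup.mk' N).comp j) a := by
  obtain ⟨γ0, rfl⟩ := QuotientGroup.mk_surjective γ
  obtain ⟨g, hg, a, rfl⟩ := hGA γ0
  exact ⟨_, ⟨g, hg, rfl⟩, a, by simp⟩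

theorem quot_normal {G : Subgroup Γ} [hG : G.Normal] (N : Subgroup Γ) [N.Normal] :
    (G.map (QuotientGroup.mk' N)).Normal :=
  hG.map _ (QuotientGroup.mk'_surjective N)

theorem quot_card [Finite Γ] {G : Subgroup Γ} (N : Subgroup Γ) [N.Normal] (hNG : N ≤ G) :
    Nat.card ↥(G.map (QuotientGroup.mk' N)) * Nat.card N = Nat.card G := by
  set f := (QuotientGroup.mk' N).subgroupMap G with hf
  have hsurj : Function.Surjective f := (QuotientGroup.mk' N).subgroupMap_surjective G
  have h1 := Subgroup.card_eq_card_quotient_mul_card_subgroup f.ker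
  have h2 : Nat.card (↥G ⧸ f.ker) = Nat.card ↥(G.map (QuotientGroup.mk' N)) :=
    Nat.card_congr (QuotientGroup.quotientKerEquivOfSurjective f hsurj).toEquiv
  have h3 : f.ker = N.subgroupOf G := by
    ext x
    rw [MonoidHom.mem_ker, Subgroup.mem_subgroupOf]
    constructor
    · intro h
      have := congrArg Subtype.val h
      simp only [hf, MonoidHom.subgroupMap_apply_coe, Subgroup.coe_one] at this
      exact (QuotientGroup.eq_one_iff _).mp this
    · intro h
      apply Subtype.ext
      simp only [hf, MonoidHom.subgroupMap_apply_coe, Subgroup.coe_one]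
      exact (QuotientGroup.eq_one_iff _).mpr h
  have h4 : Nat.card ↥(N.subgroupOf G) = Nat.card N :=
    Nat.card_congr (Subgroup.subgroupOfEquivOfLe hNG).toEquiv
  rw [h2, h3, h4] at h1
  exact h1.symm

theorem quot_card_lt [Finite Γ] {G : Subgroup Γ} (N : Subgroup Γ) [N.Normal] (hNG : N ≤ G)
    (hN : N ≠ ⊥) : Nat.card ↥(G.map (QuotientGroup.mk' N)) < Nat.card G := by
  have h := quot_card N hNG
  have h1 : 1 < Nat.card N := by
    have : Nat.card N ≠ 1 := fun h1 => hN (Subgroup.card_eq_one.mp h1)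
    have : 0 < Nat.card N := Nat.card_pos
    omega
  have h2 : 0 < Nat.card ↥(G.map (QuotientGroup.mk' N)) := Nat.card_pos
  nlinarith

end Cfsg.Agent.Helper29.S3f
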