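import Mathlib
import Cfsg.Agent.Helper29.S3fQuot

set_option autoImplicit false

namespace Cfsg.Agent.Helper29.S3f

universe u

variable {Γ : Type u} [Group Γ]

structure RepData (V : Subgroup Γ) [hVn : V.Normal] (r : ℕ) [Fact r.Prime]
    (V₀ : Type u) [AddCommGroup V₀] [Module (ZMod r) V₀] where
  e : ↥V ≃ V₀
  ρ : Representation (ZMod r) Γ V₀
  e_mul : ∀ a b : ↥V, e (a * b) = e a + e b
  ρ_e : ∀ (g : Γ) (v : ↥V), ρ g (e v) = e ⟨g * v * g⁻¹, hVn.conj_mem v v.2 g⟩

namespace RepData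

variable {V : Subgroup Γ} [hVn : V.Normal] {r : ℕ} [Fact r.Prime]
  {V₀ : Type u} [AddCommGroup V₀] [Module (ZMod r) V₀] (D : RepData V r V₀)

include D

theorem e_one : D.e 1 = 0 := by
  have := D.e_mul 1 1
  rw [mul_one] at this
  exact left_eq_add.mp this

theorem e_inv (v : ↥V) : D.e v⁻¹ = -D.e v := by
  have := D.e_mul v v⁻¹
  rw [mul_inv_cancel, D.e_one] at this
  exact (neg_eq_of_add_eq_zero_right this.symm).symm

theorem e_eq_zero_iff (v : ↥V) : D.e v = 0 ↔ v = 1 := by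
  rw [← D.e_one]
  exact D.e.apply_eq_iff_eq

theorem finite [Finite Γ] : Finite V₀ := Finite.of_equiv _ D.e

/-- fixed vectors correspond to centralised elements -/
theorem rho_fix_iff (g : Γ) (v : ↥V) : D.ρ g (D.e v) = D.e v ↔ g * v * g⁻¹ = v := by
  rw [D.ρ_e, D.e.apply_eq_iff_eq]
  constructor
  · intro h; exact congrArg Subtype.val h
  · intro h; exact Subtype.ext h

theorem rho_eq_one_iff (g : Γ) : D.ρ g = 1 ↔ g ∈ Subgroup.centralizer (V : Set Γ) := by
  rw [Subgroup.mem_centralizer_iff]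
  constructor
  · intro h v hv
    have h1 : D.ρ g (D.e ⟨v, hv⟩) = D.e ⟨v, hv⟩ := by rw [h, Module.End.one_apply]
    have h2 := (D.rho_fix_iff g ⟨v, hv⟩).mp h1
    simp only at h2
    calc v * g = g * v * g⁻¹ * g := by rw [h2]
      _ = g * v := by group
  · intro h
    apply LinearMap.ext
    intro w
    obtain ⟨v, rfl⟩ := D.e.surjective w
    rw [Module.End.one_apply, D.rho_fix_iff]
    rw [← h v v.2]; group

/-- the subgroup of `Γ` corresponding to a submodule -/
def toSubgroup (W : Submodule (ZMod r) V₀) : Subgroup Γ :=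
  Subgroup.map V.subtype
    { carrier := {v | D.e v ∈ W}
      mul_mem' := by
        intro a b ha hb
        show D.e (a * b) ∈ W
        rw [D.e_mul]; exact W.add_mem ha hb
      one_mem' := by
        show D.e 1 ∈ W
        rw [D.e_one]; exact W.zero_mem
      inv_mem' := by
        intro a ha
        show D.e a⁻¹ ∈ W
        rw [D.e_inv]; exact W.neg_mem ha }

theorem mem_toSubgroup (W : Submodule (ZMod r) V₀) (x : Γ) :
    x ∈ D.toSubgroup W ↔ ∃ hx : x ∈ V, D.e ⟨x, hx⟩ ∈ W := by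
  constructor
  · rintro ⟨v, hv, rfl⟩
    exact ⟨v.2, hv⟩
  · rintro ⟨hx, h⟩
    exact ⟨⟨x, hx⟩, h, rfl⟩

theorem toSubgroup_le (W : Submodule (ZMod r) V₀) : D.toSubgroup W ≤ V := by
  intro x hx
  obtain ⟨h, -⟩ := (D.mem_toSubgroup W x).mp hx
  exact h

theorem toSubgroup_normal (W : Submodule (ZMod r) V₀) (hW : ∀ g : Γ, ∀ w ∈ W, D.ρ g w ∈ W) :
    (D.toSubgroup W).Normal := by
  constructor
  intro x hx g
  obtain ⟨hxV, hxW⟩ := (D.mem_toSubgroup W x).mp hx
  rw [mem_toSubgroup]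
  refine ⟨hVn.conj_mem x hxV g, ?_⟩
  have := hW g _ hxW
  rw [D.ρ_e] at this
  exact this

/-- irreducibility from minimality -/
theorem irreducible (hmin : ∀ W : Subgroup Γ, W.Normal → W ≤ V → W ≠ ⊥ → W = V)
    (W : Submodule (ZMod r) V₀) (hW : ∀ g : Γ, ∀ w ∈ W, D.ρ g w ∈ W) : W = ⊥ ∨ W = ⊤ := by
  by_cases hb : D.toSubgroup W = ⊥
  · left
    rw [eq_bot_iff]
    intro w hw
    obtain ⟨v, rfl⟩ := D.e.surjective w
    have : (v : Γ) ∈ D.toSubgroup W := (D.mem_toSubgroup W v).mpr ⟨v.2, hw⟩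
    rw [hb, Subgroup.mem_bot] at this
    have hv1 : v = 1 := Subtype.ext this
    rw [hv1, D.e_one]
    exact Submodule.zero_mem _
  · right
    have := hmin _ (D.toSubgroup_normal W hW) (D.toSubgroup_le W) hb
    rw [eq_top_iff]
    intro w _
    obtain ⟨v, rfl⟩ := D.e.surjective w
    have hv : (v : Γ) ∈ D.toSubgroup W := by rw [this]; exact v.2
    obtain ⟨_, h⟩ := (D.mem_toSubgroup W v).mp hv
    exact h

end RepData

theorem exists_repData (V : Subgroup Γ) [hVn : V.Normal] {r : ℕ} [Fact r.Prime]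
    (hVab : ∀ a ∈ V, ∀ b ∈ V, a * b = b * a) (hVexp : ∀ v ∈ V, v ^ r = 1) :
    ∃ (V₀ : Type u) (_ : AddCommGroup V₀) (_ : Module (ZMod r) V₀), Nonempty (RepData V r V₀) := by
  let _ : CommGroup ↥V :=
    { (inferInstance : Group ↥V) with
      mul_comm := fun a b => Subtype.ext (hVab a a.2 b b.2) }
  have hpV : ∀ v : Additive ↥V, r • v = 0 := by
    intro v
    have : (Additive.toMul v) ^ r = 1 := Subtype.ext (by simpa using hVexp _ (Additive.toMul v).2)
    exact congrArg Additive.ofMul this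
  obtain ⟨inst⟩ : Nonempty (Module (ZMod r) (Additive ↥V)) := ⟨AddCommGroup.zmodModule hpV⟩
  let φ : Γ → (Additive ↥V →ₗ[ZMod r] Additive ↥V) := fun g =>
    { (MulEquiv.toAdditive (MulAut.conjNormal (H := V) g)).toAddMonoidHom with
      map_smul' := fun c x =>
        ZMod.map_smul (MulEquiv.toAdditive (MulAut.conjNormal (H := V) g)).toAddMonoidHom c x }
  have hφ : ∀ (g : Γ) (v : Additive ↥V), φ g v =
      Additive.ofMul (MulAut.conjNormal (H := V) g (Additive.toMul v)) := fun g v => rfl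
  refine ⟨Additive ↥V, inferInstance, inst, ⟨{
    e := Additive.ofMul
    ρ := { toFun := φ
           map_one' := ?_
           map_mul' := ?_ }
    e_mul := fun a b => rfl
    ρ_e := ?_ }⟩⟩
  · apply LinearMap.ext
    intro v
    rw [hφ]
    simp
  · intro a b
    apply LinearMap.ext
    intro v
    rw [Module.End.mul_apply, hφ, hφ, hφ]
    simp [map_mul]
  · intro g v
    show φ g (Additive.ofMul v) = _
    rw [hφ]
    congr 1


end Cfsg.Agent.Helper29.S3f
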