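import Mathlib
import Cfsg.Agent.Helper29.S3fRep
import Cfsg.Agent.Helper29.S3fBC

set_option autoImplicit false

namespace Cfsg.Agent.Helper29.S3f

open scoped commutatorElement

universe u

section Fr

variable {Γ : Type u} [Group Γ] (j : A0 →* Γ) (G : Subgroup Γ) [hGn : G.Normal]
  (V : Subgroup Γ) [hVn : V.Normal] {r : ℕ} [Fact r.Prime]
  {V₀ : Type u} [AddCommGroup V₀] [Module (ZMod r) V₀] (D : RepData V r V₀)

/-- `C = C_G(V)`. -/
def cen : Subgroup Γ := G ⊓ Subgroup.centralizer (V : Set Γ)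

instance cen_normal : (cen G V).Normal := by
  unfold cen
  infer_instance

theorem cen_le : cen G V ≤ G := inf_le_left

theorem le_cen (hVG : V ≤ G) (hVab : ∀ a ∈ V, ∀ b ∈ V, a * b = b * a) : V ≤ cen G V := by
  intro v hv
  refine Subgroup.mem_inf.mpr ⟨hVG hv, ?_⟩
  rw [Subgroup.mem_centralizer_iff]
  intro w hw
  exact hVab w hw v hv

/-- the induced representation of `Γ ⧸ C`. -/
noncomputable def rho1 : Representation (ZMod r) (Γ ⧸ cen G V) V₀ :=
  QuotientGroup.lift (cen G V) D.ρ (by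
    intro c hc
    rw [MonoidHom.mem_ker]
    exact (D.rho_eq_one_iff c).mpr hc.2)

theorem rho1_mk (g : Γ) : rho1 G V D (QuotientGroup.mk' (cen G V) g) = D.ρ g := rfl

theorem rho1_mk'' (g : Γ) : rho1 G V D (g : Γ ⧸ cen G V) = D.ρ g := rfl

/-- faithful on `X = G/C`. -/
theorem rho1_faithful (x : Γ ⧸ cen G V) (hx : x ∈ G.map (QuotientGroup.mk' (cen G V)))
    (h : rho1 G V D x = 1) : x = 1 := by
  obtain ⟨g, hg, rfl⟩ := hx
  rw [rho1_mk] at h
  have h2 := (D.rho_eq_one_iff g).mp h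
  exact (QuotientGroup.eq_one_iff g).mpr ⟨hg, h2⟩

/-- irreducible. -/
theorem rho1_irreducible (hmin : ∀ W : Subgroup Γ, W.Normal → W ≤ V → W ≠ ⊥ → W = V)
    (W : Submodule (ZMod r) V₀) (hW : ∀ g : Γ ⧸ cen G V, ∀ w ∈ W, rho1 G V D g w ∈ W) :
    W = ⊥ ∨ W = ⊤ :=
  D.irreducible hmin W (fun g w hw => hW (QuotientGroup.mk' _ g) w hw)

/-- no fixed vectors of `A`. -/
theorem rho1_fixA (hG : HypInt j G) (hVG : V ≤ G) (w : V₀)
    (hw : ∀ a : A0, rho1 G V D ((QuotientGroup.mk' (cen G V)).comp j a) w = w) : w = 0 := by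
  obtain ⟨v, rfl⟩ := D.e.surjective w
  have hv : (v : Γ) = 1 := by
    apply hG.fpf v (hVG v.2)
    intro a
    have := hw a
    rw [MonoidHom.comp_apply, rho1_mk] at this
    exact (D.rho_fix_iff (j a) v).mp this
  have : v = 1 := Subtype.ext hv
  rw [this, D.e_one]

/-- A nontrivial normal subgroup inside `X` has no nonzero fixed vector. -/
theorem rho1_fix0 (hmin : ∀ W : Subgroup Γ, W.Normal → W ≤ V → W ≠ ⊥ → W = V)
    (B0 : Subgroup (Γ ⧸ cen G V)) (hB0 : B0 ≤ G.map (QuotientGroup.mk' (cen G V)))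
    [hn : B0.Normal] (hne : B0 ≠ ⊥) (w : V₀) (hw : ∀ b ∈ B0, rho1 G V D b w = w) : w = 0 := by
  let F : Submodule (ZMod r) V₀ :=
    { carrier := {w | ∀ b ∈ B0, rho1 G V D b w = w}
      add_mem' := fun {a b} ha hb u hu => by rw [map_add, ha u hu, hb u hu]
      zero_mem' := fun u _ => map_zero _
      smul_mem' := fun c v hv u hu => by rw [map_smul, hv u hu] }
  have hF : ∀ g : Γ ⧸ cen G V, ∀ w ∈ F, rho1 G V D g w ∈ F := by
    intro g w hw b hb
    have h1 : g⁻¹ * b * g ∈ B0 := by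
      have := hn.conj_mem b hb g⁻¹
      rwa [inv_inv] at this
    have h2 := hw _ h1
    have h3 : rho1 G V D b (rho1 G V D g w) = rho1 G V D g (rho1 G V D (g⁻¹ * b * g) w) := by
      rw [← Module.End.mul_apply, ← Module.End.mul_apply, ← map_mul, ← map_mul]
      congr 2
      group
    rw [h3, h2]
  rcases rho1_irreducible G V D hmin F hF with h | h
  · have : w ∈ F := hw
    rw [h] at this
    exact (Submodule.mem_bot _).mp this
  · exfalso
    apply hne
    rw [eq_bot_iff]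
    intro b hb
    rw [Subgroup.mem_bot]
    apply rho1_faithful G V D b (hB0 hb)
    apply LinearMap.ext
    intro v
    have : v ∈ F := by rw [h]; trivial
    rw [this b hb, Module.End.one_apply]

end Fr

end Cfsg.Agent.Helper29.S3f
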