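import Mathlib
import Cfsg.Agent.Helper29.S3fAsmA

set_option autoImplicit false

namespace Cfsg.Agent.Helper29.S3f

open scoped commutatorElement

universe u

variable {Γ : Type u} [Group Γ] (G : Subgroup Γ) [hGn : G.Normal]
  (V : Subgroup Γ) [hVn : V.Normal] {r : ℕ} [hr : Fact r.Prime]
  {V₀ : Type u} [AddCommGroup V₀] [Module (ZMod r) V₀] (D : RepData V r V₀)

include D in
/-- A nilpotent normal subgroup of `Γ/C` inside `X` has order prime to `r`. -/
theorem not_dvd_card_of_nilpotent [Finite Γ]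
    (hmin : ∀ W : Subgroup Γ, W.Normal → W ≤ V → W ≠ ⊥ → W = V) (hrV : r ∣ Nat.card V)
    (N₁ : Subgroup (Γ ⧸ cen G V)) [hN₁n : N₁.Normal]
    (hN₁ : N₁ ≤ G.map (QuotientGroup.mk' (cen G V))) (hnil : Group.IsNilpotent ↥N₁) :
    ¬ r ∣ Nat.card ↥N₁ := by
  intro hdvd
  obtain ⟨P⟩ : Nonempty (Sylow r ↥N₁) := inferInstance
  have htf := (Group.isNilpotent_of_finite_tfae (G := ↥N₁)).out 0 3
  have hPn : (P : Subgroup ↥N₁).Normal := htf.mp hnil r hr P
  have hPc : (P : Subgroup ↥N₁).Characteristic := Sylow.characteristic_of_normal P hPn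
  set R : Subgroup (Γ ⧸ cen G V) := (P : Subgroup ↥N₁).map N₁.subtype with hR
  have hRn : R.Normal := ConjAct.normal_of_characteristic_of_normal
  have hRne : R ≠ ⊥ := by
    intro h
    have h1 : (P : Subgroup ↥N₁) = ⊥ := by
      have := (Subgroup.map_eq_bot_iff_of_injective (P : Subgroup ↥N₁) N₁.subtype_injective).mp h
      exact this
    exact (P.ne_bot_of_dvd_card hdvd) h1
  have hRle : R ≤ G.map (QuotientGroup.mk' (cen G V)) := by
    intro x hx
    obtain ⟨y, _, rfl⟩ := hx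
    exact hN₁ y.2
  have hRp : IsPGroup r ↥R := by
    have : IsPGroup r ↥(P : Subgroup ↥N₁) := P.isPGroup'
    exact this.map N₁.subtype
  -- the action of `R` on `V₀`
  have _hfin : Finite V₀ := D.finite
  let φ : ↥R →* Module.End (ZMod r) V₀ := (rho1 G V D).comp R.subtype
  let _act : MulAction ↥R V₀ := MulAction.compHom V₀ φ
  have hact : ∀ (g : ↥R) (w : V₀), g • w = rho1 G V D (g : Γ ⧸ cen G V) w := fun g w => rfl
  have hcard : r ∣ Nat.card V₀ := by
    rw [← Nat.card_congr D.e]; exact hrV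
  have h0 : (0 : V₀) ∈ MulAction.fixedPoints ↥R V₀ := by
    intro g
    rw [hact, map_zero]
  obtain ⟨b, hb, hb0⟩ := hRp.exists_fixed_point_of_prime_dvd_card_of_fixed_point V₀ hcard h0
  apply hb0
  symm
  apply rho1_fix0 G V D hmin R hRle hRne b
  intro g hg
  have := hb ⟨g, hg⟩
  rwa [hact] at this

end Cfsg.Agent.Helper29.S3f
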