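import Mathlib
import Cfsg.Agent.Helper29.S3fAsmB
import Cfsg.Agent.Helper29.S3fWt

set_option autoImplicit false

namespace Cfsg.Agent.Helper29.S3f

open scoped commutatorElement
open Module TensorProduct Cfsg.Agent.Helper5.FrobMod

universe u

theorem natCast_zmod_ne_zero {r : ℕ} [Fact r.Prime] {n : ℕ} (h : n.Coprime r) : (n : ZMod r) ≠ 0 := by
  intro h0
  rw [ZMod.natCast_eq_zero_iff] at h0
  have hr : r.Prime := Fact.out
  have := Nat.Coprime.eq_one_of_dvd h.symm h0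
  exact hr.one_lt.ne' this

/-- A subgroup normalised by `X` and by `A` is normal when `Γ = X·A`. -/
theorem normal_of_cover {Γ : Type u} [Group Γ] (j : A0 →* Γ) (X : Subgroup Γ)
    (hXA : ∀ g : Γ, ∃ x ∈ X, ∃ a : A0, g = x * j a) (B : Subgroup Γ)
    (hBX : ∀ x ∈ X, ∀ b ∈ B, x * b * x⁻¹ ∈ B) (hBA : AInv j B) : B.Normal := by
  constructor
  intro b hb g
  obtain ⟨x, hx, a, rfl⟩ := hXA g
  have e : x * j a * b * (x * j a)⁻¹ = x * (j a * b * (j a)⁻¹) * x⁻¹ := by group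
  rw [e]
  exact hBX x hx _ (hBA a b hb)

section KLevel

variable {Γ : Type u} [Group Γ] [Finite Γ] (j : A0 →* Γ) (G : Subgroup Γ) [hGn : G.Normal]
  (V : Subgroup Γ) [hVn : V.Normal] {r : ℕ} [hr : Fact r.Prime]
  {V₀ : Type u} [AddCommGroup V₀] [Module (ZMod r) V₀] (D : RepData V r V₀)

/-- the `K`-level representation -/
noncomputable abbrev rhoK : Representation (AlgebraicClosure (ZMod r)) (Γ ⧸ cen G V)
    (AlgebraicClosure (ZMod r) ⊗[ZMod r] V₀) :=
  baseChangeRep (rho1 G V D) (AlgebraicClosure (ZMod r))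

theorem rhoK_faithful (x : Γ ⧸ cen G V) (hx : x ∈ G.map (QuotientGroup.mk' (cen G V)))
    (h : rhoK G V D x = 1) : x = 1 :=
  rho1_faithful G V D x hx (bc_eq_one _ _ h)

theorem rhoK_fixA (hr5 : 5 ≤ r) (hG : HypInt j G) (hVG : V ≤ G)
    (m : AlgebraicClosure (ZMod r) ⊗[ZMod r] V₀)
    (hm : ∀ a : A0, rhoK G V D ((QuotientGroup.mk' (cen G V)).comp j a) m = m) : m = 0 := by
  have _hfin : Finite V₀ := D.finite
  set j₁ := (QuotientGroup.mk' (cen G V)).comp j with hj₁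
  have hcard : (Nat.card ↥j₁.range : ZMod r) ≠ 0 := by
    apply natCast_zmod_ne_zero
    have h6 : (6 : ℕ).Coprime r := by
      have hrp : r.Prime := Fact.out
      have h2 : Nat.Coprime 2 r := (Nat.coprime_primes Nat.prime_two hrp).mpr (by omega)
      have h3 : Nat.Coprime 3 r := (Nat.coprime_primes Nat.prime_three hrp).mpr (by omega)
      exact Nat.Coprime.mul_left h2 h3
    exact Nat.Coprime.coprime_dvd_left (card_range_dvd j₁) h6
  apply bc_fix_bot (rho1 G V D) (AlgebraicClosure (ZMod r)) j₁.range hcard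
  · intro w hw
    apply rho1_fixA j G V D hG hVG w
    intro a
    exact hw _ ⟨a, rfl⟩
  · rintro _ ⟨a, rfl⟩
    exact hm a

theorem rhoK_fix0 (hmin : ∀ W : Subgroup Γ, W.Normal → W ≤ V → W ≠ ⊥ → W = V)
    (B0 : Subgroup (Γ ⧸ cen G V)) (hB0 : B0 ≤ G.map (QuotientGroup.mk' (cen G V)))
    [hn : B0.Normal] (hne : B0 ≠ ⊥) (hcop : (Nat.card B0).Coprime r)
    (m : AlgebraicClosure (ZMod r) ⊗[ZMod r] V₀)
    (hm : ∀ b ∈ B0, rhoK G V D b m = m) : m = 0 := by
  have _hfin : Finite V₀ := D.finite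
  exact bc_fix_bot (rho1 G V D) (AlgebraicClosure (ZMod r)) B0 (natCast_zmod_ne_zero hcop)
    (fun w hw => rho1_fix0 G V D hmin B0 hB0 hne w hw) m hm

theorem rhoK_fix_f (hVG : V ≤ G)
    (h : ∀ m : AlgebraicClosure (ZMod r) ⊗[ZMod r] V₀,
      rhoK G V D ((QuotientGroup.mk' (cen G V)).comp j f0) m = m → m = 0) :
    ∀ v ∈ V, j f0 * v * (j f0)⁻¹ = v → v = 1 := by
  intro v hv hfix
  have h' := bc_fix_elt (rho1 G V D) (AlgebraicClosure (ZMod r)) _ h
  have h1 := h' (D.e ⟨v, hv⟩) (by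
    rw [MonoidHom.comp_apply, rho1_mk]
    exact (D.rho_fix_iff (j f0) ⟨v, hv⟩).mpr hfix)
  have := (D.e_eq_zero_iff ⟨v, hv⟩).mp h1
  exact congrArg Subtype.val this

theorem six_ne_zero_K (hr5 : 5 ≤ r) : (6 : AlgebraicClosure (ZMod r)) ≠ 0 := by
  have : CharP (AlgebraicClosure (ZMod r)) r :=
    charP_of_injective_algebraMap (algebraMap (ZMod r) (AlgebraicClosure (ZMod r))).injective r
  intro h
  have h1 : ((6 : ℕ) : AlgebraicClosure (ZMod r)) = 0 := by exact_mod_cast h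
  rw [CharP.cast_eq_zero_iff (AlgebraicClosure (ZMod r)) r] at h1
  have hrp : r.Prime := Fact.out
  have : r ≤ 6 := Nat.le_of_dvd (by norm_num) h1
  interval_cases r
  · norm_num at h1
  · exact absurd hrp (by norm_num)

end KLevel

end Cfsg.Agent.Helper29.S3f
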