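import Mathlib
import Cfsg.Agent.Helper29.PqBridge
import Cfsg.Agent.Helper29.S3fAsmC

set_option autoImplicit false

namespace Cfsg.Agent.Helper29.Pq

open scoped commutatorElement
open Module TensorProduct Cfsg.Agent.Helper5.FrobMod Cfsg.Agent.Helper29.S3f

universe u v

theorem normal_of_cover {Γ : Type u} [Group Γ] {A : Type v} [Group A] (j : A →* Γ) (X : Subgroup Γ)
    (hXA : ∀ g : Γ, ∃ x ∈ X, ∃ a : A, g = x * j a) (B : Subgroup Γ)
    (hBX : ∀ x ∈ X, ∀ b ∈ B, x * b * x⁻¹ ∈ B) (hBA : GInv j B) : B.Normal := by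
  constructor
  intro b hb g
  obtain ⟨x, hx, a, rfl⟩ := hXA g
  have e : x * j a * b * (x * j a)⁻¹ = x * (j a * b * (j a)⁻¹) * x⁻¹ := by group
  rw [e]
  exact hBX x hx _ (hBA a b hb)

theorem quot_cover {Γ : Type u} [Group Γ] {A : Type v} [Group A] {j : A →* Γ} {G : Subgroup Γ}
    (hGA : ∀ γ : Γ, ∃ g ∈ G, ∃ a : A, γ = g * j a) (N : Subgroup Γ) [N.Normal]
    (γ : Γ ⧸ N) : ∃ g ∈ G.map (QuotientGroup.mk' N), ∃ a : A,
      γ = g * ((QuotientGroup.mk' N).comp j) a := by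
  obtain ⟨γ0, rfl⟩ := QuotientGroup.mk_surjective γ
  obtain ⟨g, hg, a, rfl⟩ := hGA γ0
  exact ⟨_, ⟨g, hg, rfl⟩, a, by simp⟩

section Fr

variable {Γ : Type u} [Group Γ] {A : Type v} [Group A] (j : A →* Γ) (G : Subgroup Γ)
  [hGn : G.Normal] (V : Subgroup Γ) [hVn : V.Normal] {r : ℕ} [Fact r.Prime]
  {V₀ : Type u} [AddCommGroup V₀] [Module (ZMod r) V₀] (D : RepData V r V₀)

/-- no fixed vectors of `A`. -/
theorem rho1_fixA (hG : HypPQ j G) (hVG : V ≤ G) (w : V₀)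
    (hw : ∀ a : A, rho1 G V D ((QuotientGroup.mk' (cen G V)).comp j a) w = w) : w = 0 := by
  obtain ⟨v, rfl⟩ := D.e.surjective w
  have hv : (v : Γ) = 1 := by
    apply hG.fpf v (hVG v.2)
    intro a
    have := hw a
    rw [MonoidHom.comp_apply, rho1_mk] at this
    exact (D.rho_fix_iff (j a) v).mp this
  have : v = 1 := Subtype.ext hv
  rw [this, D.e_one]

end Fr

section KLevel

variable {Γ : Type u} [Group Γ] [Finite Γ] {A : Type v} [Group A] [Finite A] (j : A →* Γ)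
  (G : Subgroup Γ) [hGn : G.Normal]
  (V : Subgroup Γ) [hVn : V.Normal] {r : ℕ} [hr : Fact r.Prime]
  {V₀ : Type u} [AddCommGroup V₀] [Module (ZMod r) V₀] (D : RepData V r V₀)

theorem rhoK_fixA (hrA : (Nat.card A).Coprime r) (hG : HypPQ j G) (hVG : V ≤ G)
    (m : AlgebraicClosure (ZMod r) ⊗[ZMod r] V₀)
    (hm : ∀ a : A, rhoK G V D ((QuotientGroup.mk' (cen G V)).comp j a) m = m) : m = 0 := by
  have _hfin : Finite V₀ := D.finite
  set j₁ := (QuotientGroup.mk' (cen G V)).comp j with hj₁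
  have hcard : (Nat.card ↥j₁.range : ZMod r) ≠ 0 := by
    apply natCast_zmod_ne_zero
    exact Nat.Coprime.coprime_dvd_left (card_range_dvd j₁) hrA
  apply bc_fix_bot (rho1 G V D) (AlgebraicClosure (ZMod r)) j₁.range hcard
  · intro w hw
    apply rho1_fixA j G V D hG hVG w
    intro a
    exact hw _ ⟨a, rfl⟩
  · rintro _ ⟨a, rfl⟩
    exact hm a

end KLevel

end Cfsg.Agent.Helper29.Pq
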