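import Mathlib
import Cfsg.Agent.Helper29.PqDefs

set_option autoImplicit false

namespace Cfsg.Agent.Helper29.Pq

open Module Cfsg.Agent.Helper29.S3f

variable {Γ : Type*} [Group Γ] {A : Type*} [Group A]
  {K : Type*} [Field K] {M : Type*} [AddCommGroup M] [Module K M]
variable (ρ : Representation K Γ M) (B : Subgroup Γ)

/-- The stabiliser in `A` of a character. -/
def stabChar [B.Normal] (j : A →* Γ) (χ : ↥B →* Kˣ) : Subgroup A where
  carrier := {a | conjChar (j a) χ = χ}
  mul_mem' := by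
    intro a b ha hb
    show conjChar (j (a * b)) χ = χ
    rw [map_mul, conjChar_mul]
    have hb' : conjChar (j b) χ = χ := hb
    rw [hb']; exact ha
  one_mem' := by
    show conjChar (j 1) χ = χ
    rw [map_one, conjChar_one]
  inv_mem' := by
    intro a ha
    have ha' : conjChar (j a) χ = χ := ha
    show conjChar (j a⁻¹) χ = χ
    have h1 : conjChar (j a⁻¹) (conjChar (j a) χ) = χ := by
      rw [← conjChar_mul, ← map_mul, inv_mul_cancel, map_one, conjChar_one]
    rw [ha'] at h1
    exact h1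

theorem mem_stabChar [B.Normal] (j : A →* Γ) (χ : ↥B →* Kˣ) (a : A) :
    a ∈ stabChar B j χ ↔ conjChar (j a) χ = χ := Iff.rfl

/-- NORM LEMMA. If `A` has no nonzero fixed vector, a weight vector fixed by the stabiliser of its
weight is zero. -/
theorem norm_lemma [B.Normal] [Finite A] (hBab : ∀ a ∈ B, ∀ b ∈ B, a * b = b * a) (j : A →* Γ)
    (hAK : (Nat.card A : K) ≠ 0)
    (hfixA : ∀ m : M, (∀ a : A, ρ (j a) m = m) → m = 0)
    {χ : ↥B →* Kˣ} {m : M} (hm : m ∈ wtSpace ρ B χ)
    (hstab : ∀ a : A, conjChar (j a) χ = χ → ρ (j a) m = m) : m = 0 := by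
  classical
  have : Fintype A := Fintype.ofFinite A
  -- the averaged vector
  set w : M := ∑ a : A, ρ (j a) m with hw
  have hw0 : w = 0 := by
    apply hfixA
    intro a
    rw [hw, map_sum]
    have : ∀ b : A, ρ (j a) (ρ (j b) m) = ρ (j (a * b)) m := by
      intro b
      rw [← Module.End.mul_apply, ← map_mul, ← map_mul]
    simp_rw [this]
    exact Fintype.sum_equiv (Equiv.mulLeft a) _ _ (fun b => rfl)
  -- split the sum
  set St : Finset A := Finset.univ.filter (fun a => conjChar (j a) χ = χ) with hSt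
  have hsplit : w = (∑ a ∈ St, ρ (j a) m) + ∑ a ∈ Finset.univ.filter (fun a => ¬ conjChar (j a) χ = χ), ρ (j a) m := by
    rw [hw, hSt, Finset.sum_filter_add_sum_filter_not]
  have hx : (∑ a ∈ St, ρ (j a) m) = (St.card : K) • m := by
    rw [Finset.sum_congr rfl (fun a ha => hstab a (Finset.mem_filter.mp ha).2), Finset.sum_const,
      Nat.cast_smul_eq_nsmul]
  have hy : (∑ a ∈ Finset.univ.filter (fun a => ¬ conjChar (j a) χ = χ), ρ (j a) m) ∈
      ⨆ (χ' : ↥B →* Kˣ) (_ : χ' ≠ χ), wtSpace ρ B χ' := by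
    apply Submodule.sum_mem
    intro a ha
    have hne : conjChar (j a) χ ≠ χ := (Finset.mem_filter.mp ha).2
    exact Submodule.mem_iSup_of_mem (conjChar (j a) χ)
      (Submodule.mem_iSup_of_mem hne (rho_mem_wtSpace_conjChar ρ B (j a) hm))
  have hdisj := (wtSpace_iSupIndep ρ B hBab) χ
  have hxm : (St.card : K) • m ∈ wtSpace ρ B χ := Submodule.smul_mem _ _ hm
  have hxeq : (St.card : K) • m = -(∑ a ∈ Finset.univ.filter (fun a => ¬ conjChar (j a) χ = χ), ρ (j a) m) := by
    rw [← hx]
    rw [hw0] at hsplit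
    exact eq_neg_of_add_eq_zero_left hsplit.symm
  have hzero : (St.card : K) • m = 0 := by
    apply Submodule.disjoint_def.mp hdisj _ hxm
    rw [hxeq]
    exact Submodule.neg_mem _ hy
  -- the cardinality is invertible
  have hcard : St.card = Nat.card (stabChar B j χ) := by
    rw [Nat.card_eq_fintype_card, Fintype.card_subtype]
    rfl
  have hdvd : St.card ∣ Nat.card A := by
    rw [hcard]
    exact Subgroup.card_subgroup_dvd_card (stabChar B j χ)
  have hne : (St.card : K) ≠ 0 := by
    obtain ⟨d, hd⟩ := hdvd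
    intro h
    apply hAK
    rw [hd, Nat.cast_mul, h, zero_mul]
  rcases smul_eq_zero.mp hzero with h | h
  · exact absurd h hne
  · exact h

/-- (NL1) The stabiliser of a weight is nontrivial. -/
theorem exists_stab_ne_one [B.Normal] [Finite A] (hBab : ∀ a ∈ B, ∀ b ∈ B, a * b = b * a)
    (j : A →* Γ) (hAK : (Nat.card A : K) ≠ 0)
    (hfixA : ∀ m : M, (∀ a : A, ρ (j a) m = m) → m = 0)
    {χ : ↥B →* Kˣ} (hχ : wtSpace ρ B χ ≠ ⊥) :
    ∃ a : A, a ≠ 1 ∧ conjChar (j a) χ = χ := by
  by_contra hcon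
  push Not at hcon
  obtain ⟨m, hm, hm0⟩ := (Submodule.ne_bot_iff _).mp hχ
  apply hm0
  apply norm_lemma ρ B hBab j hAK hfixA hm
  intro a ha
  have : a = 1 := by
    by_contra h1
    exact hcon a h1 ha
  rw [this, map_one, map_one, Module.End.one_apply]

end Cfsg.Agent.Helper29.Pq
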