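import Mathlib
import Cfsg.Agent.Helper1.QP63Defs
import Cfsg.Agent.Helper25.QPAlpha
import Cfsg.Agent.Helper23.QP2IF
import Cfsg.Agent.Helper23.QPTRANS

set_option autoImplicit false

/-! Board `s5063pieces`, piece RESZERO. -/

noncomputable section

namespace Cfsg.Agent.QP63

open Cfsg Cfsg.Agent.Helper25.QP Cfsg.Agent.Helper25.QuadPair Cfsg.Agent.QPP

variable {k : Type*} [Field k] {M : Type*} [AddCommGroup M] [Module k M]

local notation "GLkM" => LinearMap.GeneralLinearGroup k M

theorem RESZERO {K : Subgroup GLkM} {U : Submodule k M} (hsum : Spans K U) (f : Module.End k M)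
    (hf : ∀ g ∈ K, f * (g : Module.End k M) = (g : Module.End k M) * f)
    (h0 : ∀ u ∈ U, f u = 0) : f = 0 := by
  have hker : LinearMap.ker f = ⊤ := by
    rw [eq_top_iff, ← hsum]
    refine iSup₂_le ?_
    intro g hg
    rintro m ⟨u, hu, rfl⟩
    rw [LinearMap.mem_ker]
    have e : f (((g : GLkM) : M →ₗ[k] M) u) = (f * (g : Module.End k M)) u := rfl
    rw [e, hf g hg, Module.End.mul_apply, h0 u hu, map_zero]
  exact LinearMap.ker_eq_top.mp hker

end Cfsg.Agent.QP63

end
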