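import Mathlib
import Cfsg.Agent.Helper1.QP63Defs
import Cfsg.Agent.Helper25.QPAlpha
import Cfsg.Agent.Helper23.QP2IF
import Cfsg.Agent.Helper23.QPTRANS
import Cfsg.Agent.Helper29.QP63RESZERO

set_option autoImplicit false

/-! Board `s5063pieces`, piece RESQ1. -/

noncomputable section

namespace Cfsg.Agent.QP63

open Cfsg Cfsg.Agent.Helper25.QP Cfsg.Agent.Helper25.QuadPair Cfsg.Agent.QPP

variable {k : Type*} [Field k] {M : Type*} [AddCommGroup M] [Module k M]

local notation "GLkM" => LinearMap.GeneralLinearGroup k M

/-- if `σ` commutes with `g` then so does `σ - 1` -/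
theorem RESQ1_aux_comm (σ g : GLkM) (h : g * σ = σ * g) :
    ((σ : Module.End k M) - 1) * (g : Module.End k M)
      = (g : Module.End k M) * ((σ : Module.End k M) - 1) := by
  have h' : (g : Module.End k M) * (σ : Module.End k M)
      = (σ : Module.End k M) * (g : Module.End k M) := by
    have := congrArg (fun u : GLkM => (u : Module.End k M)) h
    simpa using this
  rw [sub_mul, mul_sub, one_mul, mul_one, h']

/-- restrictions of quadratic elements are quadratic elements -/
theorem RESQ1 {G : Subgroup GLkM} {U : Submodule k M} (hU : Inv (C1 G) U)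
    (hsum : Spans (G0 G) U) {σ : GLkM} (hσ : σ ∈ QC G) :
    resHom (C1 G) U hU ⟨σ, Subgroup.subset_closure hσ⟩ ∈
      quadraticElements (resHom (C1 G) U hU).range := by
  have hq : σ ∈ quadraticElements G := hσ.1
  have hcen : ∀ g ∈ G0 G, g * σ = σ * g := fun g hg => hσ.2 g hg
  set a : Module.End k M := (σ : Module.End k M) - 1 with ha_def
  have haa : a * a = 0 := hq.2.1.1
  have ha0 : a ≠ 0 := hq.2.1.2
  have hfam : QFam G a := QFam.of_mem_quadraticElements hq
  have hacomm : ∀ g ∈ G0 G, a * (g : Module.End k M) = (g : Module.End k M) * a :=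
    fun g hg => RESQ1_aux_comm σ g (hcen g hg)
  -- the value of the restriction
  have hval : ∀ u : ↥U, ((((resHom (C1 G) U hU ⟨σ, Subgroup.subset_closure hσ⟩ :
      LinearMap.GeneralLinearGroup k ↥U) : Module.End k ↥U) - 1) u : M) = a (u : M) := by
    intro u
    rw [LinearMap.sub_apply, Submodule.coe_sub, resHom_apply]
    rfl
  refine ⟨⟨_, rfl⟩, ⟨?_, ?_⟩, ?_⟩
  · apply LinearMap.ext
    intro u
    apply Subtype.ext
    rw [Module.End.mul_apply, hval, hval]
    have := LinearMap.congr_fun haa (u : M)
    simpa using this
  · intro h0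
    apply ha0
    refine RESZERO hsum a hacomm ?_
    intro u hu
    have := hval ⟨u, hu⟩
    rw [h0] at this
    simpa using this.symm
  · rintro τ' ⟨c, hc⟩
    by_cases hc0 : c = 0
    · subst hc0
      have : τ' = 1 := by
        apply Units.ext
        rw [zero_smul, add_zero] at hc
        exact hc
      rw [this]
      exact Subgroup.one_mem _
    · -- the element `1 + c a` of `G`
      have hfc : QFam G (c • a) := hfam.smul c
      have hca0 : c • a ≠ 0 := smul_ne_zero hc0 ha0
      have hτq : unipUnit (c • a) hfc.1 ∈ quadraticElements G :=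
        QFam.mem_quadraticElements hfc hca0
      have hτc : unipUnit (c • a) hfc.1 ∈ Subgroup.centralizer (G0 G : Set GLkM) := by
        intro g hg
        apply Units.ext
        show (g : Module.End k M) * (1 + c • a) = (1 + c • a) * (g : Module.End k M)
        rw [mul_add, add_mul, mul_one, one_mul, smul_mul_assoc, mul_smul_comm, hacomm g hg]
      have hτ : unipUnit (c • a) hfc.1 ∈ C1 G := Subgroup.subset_closure ⟨hτq, hτc⟩
      refine ⟨⟨_, hτ⟩, ?_⟩
      apply Units.ext
      apply LinearMap.ext
      intro u
      apply Subtype.ext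
      have e1 : ((((resHom (C1 G) U hU ⟨unipUnit (c • a) hfc.1, hτ⟩ :
          LinearMap.GeneralLinearGroup k ↥U) : Module.End k ↥U) u : ↥U) : M)
          = (u : M) + c • a (u : M) := by
        rw [resHom_apply]
        show ((1 : Module.End k M) + c • a) (u : M) = _
        rw [LinearMap.add_apply, LinearMap.smul_apply]
        rfl
      have e2 : (((τ' : Module.End k ↥U) u : ↥U) : M) = (u : M) + c • a (u : M) := by
        have hc' : (τ' : Module.End k ↥U) = 1 + c • (((resHom (C1 G) U hU
          ⟨σ, Subgroup.subset_closure hσ⟩ : LinearMap.GeneralLinearGroup k ↥U) :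
            Module.End k ↥U) - 1) := hc
        rw [hc', LinearMap.add_apply, LinearMap.smul_apply, Submodule.coe_add,
          Submodule.coe_smul, hval]
        rfl
      exact e1.trans e2.symm

end Cfsg.Agent.QP63

end
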