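import Mathlib
import Cfsg.Agent.Helper1.QP63Defs
import Cfsg.Agent.Helper25.QPAlpha
import Cfsg.Agent.Helper23.QP2IF
import Cfsg.Agent.Helper23.QPTRANS
import Cfsg.Agent.Helper29.QP63RESQ1

set_option autoImplicit false

/-! Board `s5063pieces`, piece RESINJ. -/

noncomputable section

namespace Cfsg.Agent.QP63

open Cfsg Cfsg.Agent.Helper25.QP Cfsg.Agent.Helper25.QuadPair Cfsg.Agent.QPP

variable {k : Type*} [Field k] {M : Type*} [AddCommGroup M] [Module k M]

local notation "GLkM" => LinearMap.GeneralLinearGroup k M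

/-- `C₁` centralizes `G₀` -/
theorem RESINJ_aux_cen (G : Subgroup GLkM) :
    C1 G ≤ Subgroup.centralizer (G0 G : Set GLkM) :=
  (Subgroup.closure_le _).mpr (fun _ hx => hx.2)

theorem RESINJ {G : Subgroup GLkM} {U : Submodule k M} (hU : Inv (C1 G) U)
    (hsum : Spans (G0 G) U) : Function.Injective (resHom (C1 G) U hU) := by
  rw [injective_iff_map_eq_one]
  intro c hc
  have hcomm : ∀ g ∈ G0 G, (((c : GLkM) : Module.End k M) - 1) * (g : Module.End k M)
      = (g : Module.End k M) * (((c : GLkM) : Module.End k M) - 1) :=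
    fun g hg => RESQ1_aux_comm (c : GLkM) g (RESINJ_aux_cen G c.2 g hg)
  have h0 : ∀ u ∈ U, (((c : GLkM) : Module.End k M) - 1) u = 0 := by
    intro u hu
    have := resHom_apply (C1 G) U hU c ⟨u, hu⟩
    rw [hc] at this
    rw [LinearMap.sub_apply, ← this]
    simp
  have hz := RESZERO hsum _ hcomm h0
  apply Subtype.ext
  apply Units.ext
  exact sub_eq_zero.mp hz

end Cfsg.Agent.QP63

end
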