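import Mathlib
import Cfsg.Agent.Helper1.QP63Defs
import Cfsg.Agent.Helper25.QPAlpha
import Cfsg.Agent.Helper23.QP2IF
import Cfsg.Agent.Helper23.QPTRANS
import Cfsg.Agent.Helper29.QP63RESINJ

set_option autoImplicit false

/-! Board `s5063pieces`, piece RESQ2. -/

noncomputable section

namespace Cfsg.Agent.QP63

open Cfsg Cfsg.Agent.Helper25.QP Cfsg.Agent.Helper25.QuadPair Cfsg.Agent.QPP

variable {k : Type*} [Field k] {M : Type*} [AddCommGroup M] [Module k M]

local notation "GLkM" => LinearMap.GeneralLinearGroup k M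

/-- `C₁ ≤ G` -/
theorem RESQ2_aux_le (G : Subgroup GLkM) : C1 G ≤ G :=
  (Subgroup.closure_le _).mpr (fun _ hx => hx.1.1)

/-- the value of `res c - 1` -/
theorem RESQ2_aux_val {G : Subgroup GLkM} {U : Submodule k M} (hU : Inv (C1 G) U)
    (c : ↥(C1 G)) (u : ↥U) :
    (((((resHom (C1 G) U hU c : LinearMap.GeneralLinearGroup k ↥U) : Module.End k ↥U) - 1) u :
      ↥U) : M) = (((c : GLkM) : Module.End k M) - 1) (u : M) := by
  rw [LinearMap.sub_apply, Submodule.coe_sub, resHom_apply]
  rfl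

/-- and conversely -/
theorem RESQ2 {G : Subgroup GLkM} {U : Submodule k M} (hU : Inv (C1 G) U)
    (hsum : Spans (G0 G) U) (c : ↥(C1 G))
    (h : resHom (C1 G) U hU c ∈ quadraticElements (resHom (C1 G) U hU).range) :
    (c : GLkM) ∈ QC G := by
  obtain ⟨-, ⟨hsq, hne⟩, hfam⟩ := h
  set a : Module.End k M := ((c : GLkM) : Module.End k M) - 1 with ha_def
  have hcomm : ∀ c' : ↥(C1 G), ∀ g ∈ G0 G,
      (((c' : GLkM) : Module.End k M) - 1) * (g : Module.End k M)
      = (g : Module.End k M) * (((c' : GLkM) : Module.End k M) - 1) :=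
    fun c' g hg => RESQ1_aux_comm (c' : GLkM) g (RESINJ_aux_cen G c'.2 g hg)
  have hacomm : ∀ g ∈ G0 G, a * (g : Module.End k M) = (g : Module.End k M) * a := hcomm c
  -- `a * a = 0`
  have haa : a * a = 0 := by
    refine RESZERO hsum (a * a) ?_ ?_
    · intro g hg
      rw [mul_assoc, hacomm g hg, ← mul_assoc, hacomm g hg, mul_assoc]
    · intro u hu
      have e := LinearMap.congr_fun hsq ⟨u, hu⟩
      have e' : ((((((resHom (C1 G) U hU c : LinearMap.GeneralLinearGroup k ↥U) :
          Module.End k ↥U) - 1) * (((resHom (C1 G) U hU c : LinearMap.GeneralLinearGroup k ↥U) :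
          Module.End k ↥U) - 1)) (⟨u, hu⟩ : ↥U) : ↥U) : M) = 0 := by
        rw [e]; rfl
      rw [Module.End.mul_apply, RESQ2_aux_val, RESQ2_aux_val] at e'
      exact e'
  have ha0 : a ≠ 0 := by
    intro h0
    apply hne
    apply LinearMap.ext
    intro u
    apply Subtype.ext
    rw [RESQ2_aux_val, ← ha_def, h0]
    rfl
  refine ⟨⟨RESQ2_aux_le G c.2, ⟨haa, ha0⟩, ?_⟩, RESINJ_aux_cen G c.2⟩
  rintro τ ⟨t, ht⟩
  -- the corresponding member of the scalar family of `res c`
  have hN : (t • (((resHom (C1 G) U hU c : LinearMap.GeneralLinearGroup k ↥U) :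
      Module.End k ↥U) - 1)) * (t • (((resHom (C1 G) U hU c :
        LinearMap.GeneralLinearGroup k ↥U) : Module.End k ↥U) - 1)) = 0 := by
    rw [smul_mul_smul_comm]
    rw [show ((((resHom (C1 G) U hU c : LinearMap.GeneralLinearGroup k ↥U) :
      Module.End k ↥U) - 1)) * ((((resHom (C1 G) U hU c : LinearMap.GeneralLinearGroup k ↥U) :
      Module.End k ↥U) - 1)) = 0 from hsq, smul_zero]
  have hmem : unipUnit _ hN ∈ scalarFamily (resHom (C1 G) U hU c) := ⟨t, rfl⟩
  obtain ⟨c', hc'⟩ := hfam hmem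
  -- `c' = τ`
  have hz : (((c' : GLkM) : Module.End k M) - 1) - t • a = 0 := by
    refine RESZERO hsum _ ?_ ?_
    · intro g hg
      rw [sub_mul, mul_sub, hcomm c' g hg, smul_mul_assoc, mul_smul_comm, hacomm g hg]
    · intro u hu
      have e1 := RESQ2_aux_val hU c' ⟨u, hu⟩
      rw [hc'] at e1
      have e2 : ((((unipUnit _ hN : LinearMap.GeneralLinearGroup k ↥U) : Module.End k ↥U) - 1)
          (⟨u, hu⟩ : ↥U) : M) = t • a u := by
        rw [val_unipUnit, add_sub_cancel_left, LinearMap.smul_apply, Submodule.coe_smul,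
          RESQ2_aux_val]
      rw [LinearMap.sub_apply, LinearMap.smul_apply, ← e1, e2, sub_self]
  have hτ : (c' : GLkM) = τ := by
    apply Units.ext
    have ht' : (τ : Module.End k M) = 1 + t • a := ht
    rw [ht']
    have := sub_eq_zero.mp hz
    rw [← this]; abel
  rw [← hτ]
  exact RESQ2_aux_le G c'.2

end Cfsg.Agent.QP63

end
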