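import Mathlib
import Cfsg.Agent.Helper1.QP63Defs
import Cfsg.Agent.Helper25.QPAlpha
import Cfsg.Agent.Helper23.QP2IF
import Cfsg.Agent.Helper23.QPTRANS
import Cfsg.Agent.Helper1.QP63Easy
import Cfsg.Agent.Helper13.QP63NRM
import Cfsg.Agent.Helper9.QP63WTOP
import Cfsg.Agent.Helper24.QP63ORTH
import Cfsg.Agent.Helper21.QP63NCEN

set_option autoImplicit false

/-! Board `s5063pieces`, piece LOCSTEP. -/

noncomputable section

namespace Cfsg.Agent.QP63

open Cfsg Cfsg.Agent.Helper25.QP Cfsg.Agent.Helper25.QuadPair Cfsg.Agent.QPP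

variable {k : Type*} [Field k] {M : Type*} [AddCommGroup M] [Module k M]

local notation "GLkM" => LinearMap.GeneralLinearGroup k M

/-- the nilpotent part of `unipUnit a` -/
theorem LOCSTEP_aux_val (a : Module.End k M) (ha : a * a = 0) :
    ((unipUnit a ha : GLkM) : Module.End k M) - 1 = a := by
  rw [val_unipUnit]; abel

/-- if `unipUnit a` commutes with `g` then so does `a` -/
theorem LOCSTEP_aux_comm (a : Module.End k M) (ha : a * a = 0) (g : GLkM)
    (h : g * unipUnit a ha = unipUnit a ha * g) :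
    a * (g : Module.End k M) = (g : Module.End k M) * a := by
  have h' : (g : Module.End k M) * ((unipUnit a ha : GLkM) : Module.End k M)
      = ((unipUnit a ha : GLkM) : Module.End k M) * (g : Module.End k M) := by
    have := congrArg (fun u : GLkM => (u : Module.End k M)) h
    simpa using this
  rw [val_unipUnit] at h'
  have : (g : Module.End k M) * a = a * (g : Module.End k M) := by
    have e1 : (g : Module.End k M) * (1 + a) = (g : Module.End k M) + (g : Module.End k M) * a := by
      rw [mul_add, mul_one]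
    have e2 : (1 + a) * (g : Module.End k M) = (g : Module.End k M) + a * (g : Module.End k M) := by
      rw [add_mul, one_mul]
    rw [e1, e2] at h'
    exact add_left_cancel h'
  exact this.symm

/-- one step of LOC -/
theorem LOCSTEP {G : Subgroup GLkM} (hG : IsQuadraticPair G) {r : ℕ}
    {part : Fin r → Set (Subgroup GLkM)} (hP : Parts G part) (h74 : H74 G)
    {a₁ a₀ : Module.End k M} (h10 : a₁ * a₀ = 0) (h01 : a₀ * a₁ = 0)
    (ha₁ : QFam G a₁) (hn₁ : a₁ ≠ 0) (ha₀ : QFam G a₀) (hn₀ : a₀ ≠ 0) {i : Fin r}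
    (hi : unipUnit a₁ ha₁.1 ∈ Lc part i)
    (h : unipUnit a₀ ha₀.1 ∈ Subgroup.centralizer (G0 G : Set GLkM) ∨
      ∃ j, unipUnit a₀ ha₀.1 ∈ Lc part j) :
    unipUnit a₀ ha₀.1 ∈ Lc part i := by
  have hW : ∀ j, commutatorSubmodule (Lc part j) = ⊤ := fun j =>
    WTOP hG.1 (LCLE hP j).2.1 (NRM hP h74 j) (LCLE hP j).2.2
  have hq1 := QFam.mem_quadraticElements ha₁ hn₁
  have hq0 := QFam.mem_quadraticElements ha₀ hn₀
  rcases h with h | ⟨j, hj⟩
  · exfalso
    apply hn₀
    refine ORTH (Lc part i) (hW i) (hP.qs i) hi (NCEN hG hP h74 hq1 hi) a₀ ?_ ?_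
    · intro g hg
      apply LOCSTEP_aux_comm a₀ ha₀.1 g
      exact h g ((LCLE hP i).1 hg)
    · rw [LOCSTEP_aux_val]; exact h01
  · by_cases hji : j = i
    · subst hji; exact hj
    · exfalso
      apply hn₁
      refine ORTH (Lc part j) (hW j) (hP.qs j) hj (NCEN hG hP h74 hq0 hj) a₁ ?_ ?_
      · intro g hg
        apply LOCSTEP_aux_comm a₁ ha₁.1 g
        have hc := hP.comm i j (Ne.symm hji)
        rw [Subgroup.commutator_eq_bot_iff_le_centralizer] at hc
        exact (hc hi g hg)
      · rw [LOCSTEP_aux_val]; exact h10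

end Cfsg.Agent.QP63

end
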