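import Mathlib

/-! S2264 + S2265 (driver helper29): shared definitions for the element order bounds
`(q - 1) |g| ≤ q^(m+1)` in `PSp_{2m}(q)` and `PΩ^ε_n(q)`.

A matrix `A` preserving a nondegenerate bilinear form is similar to `(A⁻¹)ᵀ`, so its minimal
polynomial `μ` is self-reciprocal (`recip μ = μ`).  For such `μ` of degree `≤ n` we exhibit an
explicit `N` with `μ ∣ X ^ N - 1` and `(q - 1) N ≤ q ^ (n / 2 + 1)`. -/

set_option autoImplicit false

namespace Cfsg.Agent.S2264P

open Polynomial
open scoped Classical

noncomputable section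

variable {F : Type*} [Field F]

/-- the normalized reciprocal polynomial `f(0)⁻¹ X^deg f(1/X)` -/
def recip (f : F[X]) : F[X] := C (f.coeff 0)⁻¹ * f.reverse

/-- the hypotheses on the minimal polynomial -/
structure Good (μ : F[X]) : Prop where
  monic : μ.Monic
  coeff0 : μ.coeff 0 ≠ 0
  selfrec : recip μ = μ

/-- the monic irreducible factors of `μ` -/
def facs (μ : F[X]) : Finset F[X] := (UniqueFactorizationMonoid.normalizedFactors μ).toFinset

/-- the multiplicity of the monic irreducible factor `f` in `μ` -/
def mult (μ f : F[X]) : ℕ := (UniqueFactorizationMonoid.normalizedFactors μ).count f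

/-- the factors `X - 1`, `X + 1` -/
def IsUnip (f : F[X]) : Prop := f = X - 1 ∨ f = X + 1

/-- self-reciprocal factors other than `X ± 1` -/
def Sm (μ : F[X]) : Finset F[X] := (facs μ).filter (fun f => recip f = f ∧ ¬ IsUnip f)

/-- non-self-reciprocal factors -/
def Sp (μ : F[X]) : Finset F[X] := (facs μ).filter (fun f => recip f ≠ f)

/-- the factors `X ± 1` -/
def Su (μ : F[X]) : Finset F[X] := (facs μ).filter IsUnip

/-- half-degrees of the self-reciprocal factors -/
def Dm (μ : F[X]) : Finset ℕ := (Sm μ).image (fun f => f.natDegree / 2)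

/-- degrees of the non-self-reciprocal factors -/
def Dp (μ : F[X]) : Finset ℕ := (Sp μ).image (fun f => f.natDegree)

/-- `A = Σ Dm + Σ Dp` -/
def Aw (μ : F[X]) : ℕ := (Dm μ).sum id + (Dp μ).sum id

/-- the largest multiplicity -/
def Emax (μ : F[X]) : ℕ := (facs μ).sup (mult μ)

variable [Fintype F]

/-- the exponent attached to a monic irreducible factor: `f ∣ X ^ expo f - 1` -/
def expo (f : F[X]) : ℕ :=
  if f = X - 1 then 1 else if f = X + 1 then 2
  else if recip f = f then Fintype.card F ^ (f.natDegree / 2) + 1
  else Fintype.card F ^ f.natDegree - 1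

/-- `L = lcm` of the exponents -/
def Lexp (μ : F[X]) : ℕ := (facs μ).lcm expo

end

end Cfsg.Agent.S2264P
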