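import Mathlib
import Cfsg.Prelude.Def_LieClassical
import Cfsg.Agent.Helper29.S2264Defs

/-! # S2263 (driver helper29): the largest element order of `PGU_d(q)`.  Shared definitions.

Upper bound: the minimal polynomial `μ` of `g ∈ GU_d(q)` is `σ`-self-reciprocal (`UGood σ μ`, `σ x = x^q`);
its monic irreducible factors `f` come in two kinds: `dag σ f = f` (odd degree `a`, `f ∣ X^(q^a+1) - 1`) and
pairs `f ≠ dag σ f` (degree `a` each, `f ∣ X^(q^(2a)-1) - 1`).  `sdeg σ f` is `a` resp. `2a`; with
`wq q s = (q^s - (-1)^s)/(q+1)` one gets `μ ∣ X^K - λ`, `λ^(q+1) = 1`, for an explicit `K ≤ Mx p f d`.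
Existence: orthogonal sums of a torus block and a unipotent / trivial block, transported to the
standard Hermitian form by S0755. -/

set_option autoImplicit false

namespace Cfsg.Agent.S2263P

open Polynomial
open Cfsg.Agent.S2264P
open scoped Classical

noncomputable section

/-- the claimed largest element order of `PGU_d(q)`, `q = p ^ f` -/
def Mx (p f d : ℕ) : ℕ :=
  if Odd d then (if 2 ≤ f then (p ^ f) ^ (d - 1) - 1 else (p ^ (d - 2) + 1) * p)
  else (if 2 < p ^ f then (p ^ f) ^ (d - 1) + 1 else 4 * (2 ^ (d - 3) + 1))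

/-- the least power of `p` that is `≥ m` (order of a unipotent Jordan block of size `m`) -/
def Up (p m : ℕ) : ℕ := p ^ Nat.clog p m

/-- `(q^s - (-1)^s)/(q+1)` -/
def wq (q s : ℕ) : ℕ := if Even s then (q ^ s - 1) / (q + 1) else (q ^ s + 1) / (q + 1)

section poly

variable {F : Type*} [Field F]

/-- the `σ`-twisted reciprocal `f ↦ recip (σ f)` -/
def dag (σ : F ≃+* F) (f : F[X]) : F[X] := recip (f.map (σ : F →+* F))

/-- the hypotheses on the minimal polynomial of an element of `GU` -/
structure UGood (σ : F ≃+* F) (μ : F[X]) : Prop where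
  monic : μ.Monic
  coeff0 : μ.coeff 0 ≠ 0
  selfrec : dag σ μ = μ

/-- "semisimple dimension" of the `dag`-orbit of a factor -/
def sdeg (σ : F ≃+* F) (f : F[X]) : ℕ := if dag σ f = f then f.natDegree else 2 * f.natDegree

/-- the set of values of `sdeg` on the factors of `μ` -/
def Dset (σ : F ≃+* F) (μ : F[X]) : Finset ℕ := (facs μ).image (sdeg σ)

/-- `μ` has a single `dag`-orbit of irreducible factors -/
def Single (σ : F ≃+* F) (μ : F[X]) : Prop := ∀ f ∈ facs μ, ∀ g ∈ facs μ, g = f ∨ g = dag σ f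

/-- the general exponent: `μ ∣ X ^ Kexp - 1` -/
def Kexp (p q : ℕ) (σ : F ≃+* F) (μ : F[X]) : ℕ :=
  (q + 1) * Up p (Emax μ) * ∏ s ∈ Dset σ μ, wq q s

end poly

section basic

variable {F : Type*} [Field F]

/-- `c ↦ c ^ q` is additive in characteristic `p` when `q = p ^ f` -/
theorem add_pow_q {p f q : ℕ} [Fact p.Prime] [CharP F p] (hq : q = p ^ f) (a b : F) :
    (a + b) ^ q = a ^ q + b ^ q := by
  subst hq
  exact add_pow_char_pow a b p f

/-- a field with `(p ^ f) ^ 2` elements, `f ≥ 1`, has characteristic `p` -/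
theorem charP_of_card [Fintype F] {p f q : ℕ} [hp : Fact p.Prime] (hq : q = p ^ f) (hf : 1 ≤ f)
    (hF : Fintype.card F = q ^ 2) : CharP F p := by
  obtain ⟨r, hr⟩ := CharP.exists F
  have hrp : Fact r.Prime := ⟨CharP.char_is_prime F r⟩
  obtain ⟨n, -, hn⟩ := FiniteField.card F r
  have hdvd : p ∣ r ^ (n : ℕ) := by
    rw [← hn, hF, hq, ← pow_mul]
    exact dvd_pow_self p (by omega)
  have : p = r := (Nat.prime_dvd_prime_iff_eq hp.out hrp.out).mp (hp.out.dvd_of_dvd_pow hdvd)
  subst this
  exact hr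

end basic

section herm

/-- a nondegenerate Hermitian space over `F` w.r.t. `c ↦ c ^ q` (linear in the first argument,
like `Cfsg.hermForm`) -/
structure HermSpace (F : Type*) [Field F] (q : ℕ) (V : Type*) [AddCommGroup V] [Module F V] where
  form : V → V → F
  add_left : ∀ x y z, form (x + y) z = form x z + form y z
  smul_left : ∀ (c : F) x y, form (c • x) y = c * form x y
  add_right : ∀ x y z, form x (y + z) = form x y + form x z
  smul_right : ∀ (c : F) x y, form x (c • y) = c ^ q * form x y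
  symm : ∀ x y, form y x = (form x y) ^ q
  nondeg : ∀ x, (∀ y, form x y = 0) → x = 0

variable {F : Type*} [Field F] {q : ℕ} {V W : Type*} [AddCommGroup V] [Module F V]
  [AddCommGroup W] [Module F W]

/-- isometries -/
def IsIsom (H : HermSpace F q V) (T : V →ₗ[F] V) : Prop :=
  ∀ x y, H.form (T x) (T y) = H.form x y

/-- `T` has exact order `N` -/
def ExactOrd (T : V →ₗ[F] V) (N : ℕ) : Prop := ∀ k : ℕ, T ^ k = 1 ↔ N ∣ k

/-- the only scalar among the powers of `T` is `1`, and `T` has exact order `N` -/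
def StrictOrd (T : V →ₗ[F] V) (N : ℕ) : Prop :=
  ∀ (k : ℕ) (c : F), T ^ k = c • (1 : V →ₗ[F] V) ↔ (c = 1 ∧ N ∣ k)

/-- `T` has order `N` modulo scalars -/
def ProjOrd (T : V →ₗ[F] V) (N : ℕ) : Prop :=
  ∀ k : ℕ, (∃ c : F, T ^ k = c • (1 : V →ₗ[F] V)) ↔ N ∣ k

theorem HermSpace.form_zero_right (H : HermSpace F q V) (x : V) : H.form x 0 = 0 := by
  have h := H.add_right x 0 0
  rw [add_zero] at h
  exact left_eq_add.mp h

theorem HermSpace.form_zero_left (H : HermSpace F q V) (x : V) : H.form 0 x = 0 := by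
  have h := H.add_left 0 0 x
  rw [add_zero] at h
  exact left_eq_add.mp h

/-- orthogonal direct sum (`hadd`: `c ↦ c ^ q` is additive) -/
def HermSpace.prod (hadd : ∀ a b : F, (a + b) ^ q = a ^ q + b ^ q)
    (H₁ : HermSpace F q V) (H₂ : HermSpace F q W) : HermSpace F q (V × W) where
  form x y := H₁.form x.1 y.1 + H₂.form x.2 y.2
  add_left x y z := by
    simp only [Prod.fst_add, Prod.snd_add, H₁.add_left, H₂.add_left]; ring
  smul_left c x y := by
    simp only [Prod.smul_fst, Prod.smul_snd, H₁.smul_left, H₂.smul_left]; ring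
  add_right x y z := by
    simp only [Prod.fst_add, Prod.snd_add, H₁.add_right, H₂.add_right]; ring
  smul_right c x y := by
    simp only [Prod.smul_fst, Prod.smul_snd, H₁.smul_right, H₂.smul_right]; ring
  symm x y := by
    rw [hadd, ← H₁.symm, ← H₂.symm]
  nondeg x hx := by
    have h1 : x.1 = 0 := H₁.nondeg _ fun y => by
      have := hx (y, 0)
      simpa [H₂.form_zero_right] using this
    have h2 : x.2 = 0 := H₂.nondeg _ fun y => by
      have := hx (0, y)
      simpa [H₁.form_zero_right] using this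
    exact Prod.ext h1 h2

theorem HermSpace.prod_form (hadd : ∀ a b : F, (a + b) ^ q = a ^ q + b ^ q)
    (H₁ : HermSpace F q V) (H₂ : HermSpace F q W) (x y : V × W) :
    (H₁.prod hadd H₂).form x y = H₁.form x.1 y.1 + H₂.form x.2 y.2 := rfl

/-- the model of type B: `K ⊇ F` of odd degree `s`, `bform x y = Tr (x * y ^ (q ^ s))` -/
def bform (F K : Type*) [Field F] [Field K] [Algebra F K] (q s : ℕ) (x y : K) : F :=
  Algebra.trace F K (x * y ^ (q ^ s))

/-- multiplication by `z` -/
def btor (F K : Type*) [Field F] [Field K] [Algebra F K] (z : K) : K →ₗ[F] K :=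
  LinearMap.mulLeft F z

end herm

end

end Cfsg.Agent.S2263P
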