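import Mathlib
import Cfsg.Agent.Helper7.S2264FACS
import Cfsg.Agent.Helper19.S2264RECIP1
import Cfsg.Agent.Helper26.S2264RECIP2

/-! S2262 piece UREV (helper29, fallback copy): `f ↦ recip (σ f)` permutes the monic irreducible
factors of a polynomial `μ` with `recip (σ μ) = μ`. -/

set_option autoImplicit false

namespace Cfsg.Agent.S2262P

open Polynomial
open Cfsg.Agent.S2264P

noncomputable section

theorem urev_mem_facs {F : Type*} [Field F] (σ : F ≃+* F) {μ f : F[X]} (hm : μ.Monic)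
    (h0 : μ.coeff 0 ≠ 0) (hμ : recip (μ.map (σ : F →+* F)) = μ) (hf : f ∈ facs μ) :
    recip (f.map (σ : F →+* F)) ∈ facs μ := by
  have hμ0 : μ ≠ 0 := hm.ne_zero
  obtain ⟨hirr, hfm, hfdvd⟩ := (mem_facs hμ0).1 hf
  have hf0 : (f.map (σ : F →+* F)).coeff 0 ≠ 0 := by
    rw [Polynomial.coeff_map]
    intro h
    exact coeff_zero_ne_zero_of_mem_facs h0 hf
      ((map_eq_zero_iff (σ : F →+* F) σ.injective).1 h)
  have hirr' : Irreducible (f.map (σ : F →+* F)) := by
    have := hirr.map (Polynomial.mapEquiv σ)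
    rwa [Polynomial.mapEquiv_apply] at this
  rw [mem_facs hμ0]
  refine ⟨recip_irreducible hirr' hf0, recip_monic hf0, ?_⟩
  obtain ⟨r, hr⟩ := hfdvd
  have h1 : μ.map (σ : F →+* F) = f.map (σ : F →+* F) * r.map (σ : F →+* F) := by
    rw [hr, Polynomial.map_mul]
  have h2 := congrArg recip h1
  rw [hμ, recip_mul] at h2
  exact ⟨_, h2⟩

end

end Cfsg.Agent.S2262P
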