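import Mathlib
import Cfsg.Agent.Helper14.GLk.Defs
import Cfsg.Agent.Helper14.S2481.Defs

/-!
# S2482 (class number of `Sp_{2n}(q)`, `q` odd), chapter (C) COUNT: shared definitions

Everything is in HALF-DIMENSION `n` (the matrices have size `2n`).

`tilde0 h`   : the reciprocal polynomial `h(0)⁻¹ X^{deg h} h(1/X)` (= helper14's `tilde` with `σ = id`).
`TSp F r n`  : the admissible type tuples `(t_1, …, t_r)` of symplectic matrices of size `2n`:
  `t ∈ T F r (2n)` (monic, nonzero constant term, `t m = 1` for `m = 0` or `m > r`,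
  `∑ m * deg (t m) = 2n`), every `t m` self-reciprocal, and for odd `m`: `t m (0) = 1` and
  `deg (t m)` even (equivalently: `X - 1` and `X + 1` have even multiplicity in `t m`).
`SSp F r n`  : admissible tuples with signs: `(t, s)`, `s m = (b₁, b₂)` may be `true` only if `m` is even
  and `X - 1` (resp. `X + 1`) divides `t m`  (two classes of quadratic forms on the multiplicity space).
`SR q b`     : number of self-reciprocal monic polynomials of degree `b` (`q` odd).
`Wev q b`    : weighted number for even `m`: `[v^b] (1+v)^4/(1-q v^2)`.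
`ASp q r n`  : `Nat.card (SSp F r n)`; generating function `∏_{m ≤ r, odd} 1/(1-q u^m) ∏_{m ≤ r, even} (1+u^{m/2})^4/(1-q u^m)`.
-/

set_option autoImplicit false

namespace Cfsg.Agent.S2482P

open Polynomial Cfsg.Agent.S2478P Cfsg.Agent.S2481P

/-- the reciprocal polynomial, normalised to be monic -/
noncomputable abbrev tilde0 {F : Type*} [Field F] (h : F[X]) : F[X] := tilde (RingHom.id F) h

/-- the admissible type tuples of symplectic matrices of size `2n` -/
def TSp (F : Type*) [Field F] (r n : ℕ) : Set (ℕ → F[X]) :=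
  {t | t ∈ T F r (2 * n) ∧ (∀ m, tilde0 (t m) = t m) ∧
    ∀ m, Odd m → (t m).coeff 0 = 1 ∧ Even (t m).natDegree}

/-- admissible type tuples with signs -/
def SSp (F : Type*) [Field F] (r n : ℕ) : Set ((ℕ → F[X]) × (ℕ → Bool × Bool)) :=
  {x | x.1 ∈ TSp F r n ∧ ∀ m, ((x.2 m).1 = true → Even m ∧ (X - 1 : F[X]) ∣ x.1 m) ∧
    ((x.2 m).2 = true → Even m ∧ (X + 1 : F[X]) ∣ x.1 m)}

/-- number of self-reciprocal monic polynomials of degree `b` over a field with `q` elements, `q` odd -/
def SR (q b : ℕ) : ℕ :=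
  if b = 0 then 1 else if Even b then q ^ (b / 2) + q ^ (b / 2 - 1) else 2 * q ^ (b / 2)

/-- weighted number of self-reciprocal monic polynomials of degree `b`, weight
`2^([X-1 ∣ h] + [X+1 ∣ h])` -/
def Wev (q b : ℕ) : ℕ :=
  SR q b + (if 1 ≤ b then 2 * SR q (b - 1) else 0) + (if 2 ≤ b then SR q (b - 2) else 0)

/-- the number of admissible tuples with signs -/
def ASp (q : ℕ) : ℕ → ℕ → ℕ
  | 0, n => if n = 0 then 1 else 0
  | (r + 1), n =>
    if Even (r + 1) then
      ∑ b ∈ Finset.range (n / ((r + 1) / 2) + 1), Wev q b * ASp q r (n - (r + 1) / 2 * b)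
    else ∑ a ∈ Finset.range (n / (r + 1) + 1), q ^ a * ASp q r (n - (r + 1) * a)

end Cfsg.Agent.S2482P
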