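import Mathlib
import Cfsg.Agent.Helper14.GLk.Defs
import Cfsg.Agent.Helper14.S2481.Defs
import Cfsg.Agent.Helper29.S2482CDefs

/-!
# S2558 (class numbers of `O^±_{2n}(q)`, `q` odd), chapter (C) COUNT: shared definitions

Total DIMENSION `N` (not half-dimension: the `±1`-parts may have odd dimension).

`TO F r N`   : the admissible type tuples of orthogonal matrices of size `N`: `t ∈ T F r N`, every `t m`
  self-reciprocal (`tilde0 (t m) = t m`), and for EVEN `m`: `t m (0) = 1`, `deg (t m)` even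
  (the multiplicity spaces of the blocks `(X ∓ 1)^m`, `m` even, are symplectic).
`SO F r N`   : tuples with signs `(t, s)`; `s m = (b₁, b₂)` may be `true` only for ODD `m` with `X - 1`
  (resp. `X + 1`) dividing `t m`: `true` = the discriminant of the (orthogonal) multiplicity space is a
  non-square.
`HasSlot t`  : some odd `m` has `X - 1 ∣ t m` or `X + 1 ∣ t m` (a sign can be chosen).
`SOfree F r N` : the tuples of `TO F r N` without slot.
`nsq r s`    : the number of signs `true`.
`Wfree q b`  : number of self-reciprocal monic polynomials of degree `b` prime to `X^2 - 1`.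
`AO q r N`, `AOfree q r N` : `Nat.card (SO F r N)`, `Nat.card (SOfree F r N)`; generating functions
  `∏_{m odd} (1+v^m)^4/(1-q v^{2m}) ∏_{m even} 1/(1-q v^{2m})` (Wall) and
  `∏_{m odd} (1-v^{2m})^2/(1-q v^{2m}) ∏_{m even} 1/(1-q v^{2m})`.
-/

set_option autoImplicit false

namespace Cfsg.Agent.S2558P

open Polynomial Cfsg.Agent.S2478P Cfsg.Agent.S2481P Cfsg.Agent.S2482P

/-- the admissible type tuples of orthogonal matrices of size `N` -/
def TO (F : Type*) [Field F] (r N : ℕ) : Set (ℕ → F[X]) :=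
  {t | t ∈ T F r N ∧ (∀ m, tilde0 (t m) = t m) ∧
    ∀ m, Even m → (t m).coeff 0 = 1 ∧ Even (t m).natDegree}

/-- admissible type tuples with signs -/
def SO (F : Type*) [Field F] (r N : ℕ) : Set ((ℕ → F[X]) × (ℕ → Bool × Bool)) :=
  {x | x.1 ∈ TO F r N ∧ ∀ m, ((x.2 m).1 = true → Odd m ∧ (X - 1 : F[X]) ∣ x.1 m) ∧
    ((x.2 m).2 = true → Odd m ∧ (X + 1 : F[X]) ∣ x.1 m)}

/-- some sign can be chosen -/
def HasSlot {F : Type*} [Field F] (t : ℕ → F[X]) : Prop :=
  ∃ m, Odd m ∧ ((X - 1 : F[X]) ∣ t m ∨ (X + 1 : F[X]) ∣ t m)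

/-- admissible type tuples without sign slot -/
def SOfree (F : Type*) [Field F] (r N : ℕ) : Set (ℕ → F[X]) :=
  {t | t ∈ TO F r N ∧ ¬ HasSlot t}

/-- the number of signs `true` among the indices `≤ r` -/
def nsq (r : ℕ) (s : ℕ → Bool × Bool) : ℕ :=
  ∑ m ∈ Finset.range (r + 1), ((s m).1.toNat + (s m).2.toNat)

/-- number of self-reciprocal monic polynomials of degree `b` prime to `X^2 - 1` (`q` odd):
generating function `(1 - v^2)^2 / (1 - q v^2)` -/
def Wfree (q b : ℕ) : ℕ :=
  if Even b then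
    (if b = 0 then 1 else if b = 2 then q - 2 else q ^ (b / 2) + q ^ (b / 2 - 2) - 2 * q ^ (b / 2 - 1))
  else 0

/-- the number of admissible tuples with signs of total dimension `N` -/
def AO (q : ℕ) : ℕ → ℕ → ℕ
  | 0, N => if N = 0 then 1 else 0
  | (r + 1), N =>
    if Even (r + 1) then
      ∑ a ∈ Finset.range (N / (2 * (r + 1)) + 1), q ^ a * AO q r (N - 2 * (r + 1) * a)
    else ∑ b ∈ Finset.range (N / (r + 1) + 1), Wev q b * AO q r (N - (r + 1) * b)

/-- the number of admissible tuples without slot of total dimension `N` -/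
def AOfree (q : ℕ) : ℕ → ℕ → ℕ
  | 0, N => if N = 0 then 1 else 0
  | (r + 1), N =>
    if Even (r + 1) then
      ∑ a ∈ Finset.range (N / (2 * (r + 1)) + 1), q ^ a * AOfree q r (N - 2 * (r + 1) * a)
    else ∑ b ∈ Finset.range (N / (r + 1) + 1), Wfree q b * AOfree q r (N - (r + 1) * b)

end Cfsg.Agent.S2558P
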