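import Mathlib
import Cfsg.Agent.Helper1.S3401Defs
import Cfsg.Agent.Helper7.S3401WITT

set_option autoImplicit false

/-! # S3401 piece LTRANS: `N_M(Q)` is transitive on `Fix Q`. -/

namespace Cfsg.Agent.S3401P

variable {G : Type*} [Group G] [Finite G] {Ω : Type*} [Fintype Ω] [MulAction G Ω]

/-- LTRANS: `L = N_M(Q)` is transitive on `Fix Q`. -/
theorem LTRANS {M : Subgroup G} (h : Hyp Ω M) {a : Ω} {Q S : Subgroup G} {t : G}
    (c : Config M a Q S t) {γ : Ω} (hγ : γ ∈ Fix Ω Q) :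
    ∃ l ∈ M ⊓ Subgroup.normalizer (Q : Set G), l • a = γ := by
  by_cases hγa : γ = a
  · exact ⟨1, Subgroup.one_mem _, by rw [one_smul, hγa]⟩
  · have haF : a ∈ Fix Ω Q := by
      intro s hs
      have := c.hQ.1 hs
      exact MulAction.mem_stabilizer_iff.mp (Subgroup.mem_inf.mp this).2
    have htaF : t • a ∈ Fix Ω Q := by
      intro s hs
      have h1 : t⁻¹ * s * t ∈ Q := by
        have h0 := (Subgroup.mem_normalizer_iff.mp (Subgroup.inv_mem _ c.htN) s).mp hs
        rwa [inv_inv] at h0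
      have h2 : (t⁻¹ * s * t) • a = a := haF _ h1
      calc s • t • a = t • (t⁻¹ * s * t) • a := by
            rw [← mul_smul, ← mul_smul]; congr 1; group
        _ = t • a := by rw [h2]
    obtain ⟨g, hgN, hga, hgt⟩ := WITT h c haF htaF haF hγ c.hta.symm (Ne.symm hγa)
    have hMn : M.Normal := h.hnormal
    refine ⟨g * t * g⁻¹, Subgroup.mem_inf.mpr ⟨hMn.conj_mem t (c.hS.1 c.htS) g, ?_⟩, ?_⟩
    · exact Subgroup.mul_mem _ (Subgroup.mul_mem _ hgN c.htN) (Subgroup.inv_mem _ hgN)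
    · have : g⁻¹ • a = a := by rw [inv_smul_eq_iff, hga]
      rw [mul_smul, mul_smul, this, hgt]

end Cfsg.Agent.S3401P
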