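import Mathlib
import Cfsg.Agent.Helper29.S3fQuot

set_option autoImplicit false

namespace Cfsg.Agent.Helper29.S3f

open scoped commutatorElement

universe u

variable {Γ : Type u} [Group Γ]

/-- A minimal normal subgroup of `Γ` inside `G`. -/
theorem exists_minimal_normal [Finite Γ] (G : Subgroup Γ) [hGn : G.Normal] (hG : G ≠ ⊥) :
    ∃ V : Subgroup Γ, V.Normal ∧ V ≤ G ∧ V ≠ ⊥ ∧
      ∀ W : Subgroup Γ, W.Normal → W ≤ V → W ≠ ⊥ → W = V := by
  classical
  let 𝒮 : Set (Subgroup Γ) := {W | W.Normal ∧ W ≤ G ∧ W ≠ ⊥}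
  obtain ⟨V, ⟨hVn, hVG, hVne⟩, hmin⟩ :=
    Set.exists_min_image 𝒮 (fun W => Nat.card W) (Set.toFinite _) ⟨G, hGn, le_rfl, hG⟩
  refine ⟨V, hVn, hVG, hVne, ?_⟩
  intro W hWn hWV hWne
  have h1 := hmin W ⟨hWn, hWV.trans hVG, hWne⟩
  exact Subgroup.eq_of_le_of_card_ge hWV h1

/-- A minimal normal subgroup inside a solvable normal subgroup is elementary abelian. -/
theorem minimal_normal_elementary [Finite Γ] (V : Subgroup Γ) [hVn : V.Normal]
    (hsolv : Group.IsSolvable ↥V) (hVne : V ≠ ⊥)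
    (hmin : ∀ W : Subgroup Γ, W.Normal → W ≤ V → W ≠ ⊥ → W = V) :
    (∀ a ∈ V, ∀ b ∈ V, a * b = b * a) ∧
      ∃ r : ℕ, r.Prime ∧ r ∣ Nat.card V ∧ ∀ v ∈ V, v ^ r = 1 := by
  classical
  -- abelian
  have hab : ∀ a ∈ V, ∀ b ∈ V, a * b = b * a := by
    have hnt : Nontrivial ↥V := (Subgroup.nontrivial_iff_ne_bot V).mpr hVne
    have hlt : commutator ↥V < ⊤ := Group.IsSolvable.commutator_lt_top_of_nontrivial ↥V
    have hc : ⁅V, V⁆ ≠ V := by
      intro h
      have h2 := Subgroup.map_subtype_commutator V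
      rw [h] at h2
      have h3 : commutator ↥V = ⊤ := by
        apply Subgroup.map_injective V.subtype_injective
        rw [h2, ← MonoidHom.range_eq_map, Subgroup.range_subtype]
      exact absurd h3 (ne_of_lt hlt)
    have hcn : (⁅V, V⁆).Normal := inferInstance
    have hle : ⁅V, V⁆ ≤ V := Subgroup.commutator_le_left V V
    have hbot : ⁅V, V⁆ = ⊥ := by
      by_contra hne
      exact hc (hmin _ hcn hle hne)
    intro a ha b hb
    have : ⁅a, b⁆ ∈ ⁅V, V⁆ := Subgroup.commutator_mem_commutator ha hb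
    rw [hbot, Subgroup.mem_bot] at this
    exact commutatorElement_eq_one_iff_mul_comm.mp this
  refine ⟨hab, ?_⟩
  -- a prime divisor
  have hcard : Nat.card V ≠ 1 := fun h => hVne (Subgroup.card_eq_one.mp h)
  obtain ⟨r, hr, hrd⟩ := Nat.exists_prime_and_dvd hcard
  refine ⟨r, hr, hrd, ?_⟩
  have : Fact r.Prime := ⟨hr⟩
  -- Ω₁
  let W : Subgroup Γ :=
    { carrier := {v | v ∈ V ∧ v ^ r = 1}
      mul_mem' := by
        rintro a b ⟨ha, ha'⟩ ⟨hb, hb'⟩
        refine ⟨V.mul_mem ha hb, ?_⟩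
        have hcomm : Commute a b := hab a ha b hb
        rw [hcomm.mul_pow, ha', hb', one_mul]
      one_mem' := ⟨V.one_mem, one_pow _⟩
      inv_mem' := by
        rintro a ⟨ha, ha'⟩
        exact ⟨V.inv_mem ha, by rw [inv_pow, ha', inv_one]⟩ }
  have hWn : W.Normal := by
    constructor
    rintro n ⟨hn, hn'⟩ g
    refine ⟨hVn.conj_mem n hn g, ?_⟩
    rw [conj_pow, hn', mul_one, mul_inv_cancel]
  have hWV : W ≤ V := fun v hv => hv.1
  have hWne : W ≠ ⊥ := by
    obtain ⟨x, hx⟩ := exists_prime_orderOf_dvd_card' (G := ↥V) r hrd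
    intro h
    have hxW : (x : Γ) ∈ W := by
      refine ⟨x.2, ?_⟩
      have := pow_orderOf_eq_one x
      rw [hx] at this
      exact_mod_cast congrArg Subtype.val this
    rw [h, Subgroup.mem_bot] at hxW
    have hx1 : x = 1 := Subtype.ext hxW
    rw [hx1, orderOf_one] at hx
    exact hr.one_lt.ne hx
  have hWeq := hmin W hWn hWV hWne
  intro v hv
  have : v ∈ W := by rw [hWeq]; exact hv
  exact this.2

end Cfsg.Agent.Helper29.S3f
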