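import Mathlib
import Cfsg.Agent.Helper24.GlaubP
import Cfsg.Agent.Helper8.CharComp
import Cfsg.Agent.Helper24.CharBasic

/-!
# Relative Glauberman correspondence, part A: inflation along surjections
-/

set_option autoImplicit false
set_option linter.style.haveILetI false

namespace Cfsg.Agent.Helper29.RelGlaub

open Cfsg Cfsg.Agent.Helper24

universe u

section Surj

variable {A A' : Type u} [Group A] [Group A']

/-- Averages over a group and over a quotient agree for functions factoring through it. -/
theorem avg_comp_surjective [Fintype A] [Fintype A'] (f : A →* A')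
    (hf : Function.Surjective f) (F : A' → ℂ) :
    (Nat.card A : ℂ)⁻¹ * ∑ a : A, F (f a) = (Nat.card A' : ℂ)⁻¹ * ∑ a' : A', F a' := by
  classical
  have h1 : ∑ a : A, F (f a) =
      ∑ a' : A', ∑ a ∈ Finset.univ.filter (fun a : A => f a = a'), F (f a) :=
    (Finset.sum_fiberwise Finset.univ (fun a : A => f a) (fun a => F (f a))).symm
  have hc : ∀ a' : A', (Finset.univ.filter (fun a : A => f a = a')).card =
      (Finset.univ.filter (fun a : A => f a = 1)).card := by
    intro a'
    exact MonoidHom.card_fiber_eq_of_mem_range f (hf a') (hf 1)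
  have h2 : ∀ a' : A', ∑ a ∈ Finset.univ.filter (fun a : A => f a = a'), F (f a) =
      ((Finset.univ.filter (fun a : A => f a = 1)).card : ℂ) * F a' := by
    intro a'
    have : ∀ a ∈ Finset.univ.filter (fun a : A => f a = a'), F (f a) = F a' := by
      intro a ha
      rw [(Finset.mem_filter.mp ha).2]
    rw [Finset.sum_congr rfl this, Finset.sum_const, hc a', nsmul_eq_mul]
  have hcard : (Nat.card A : ℂ) =
      (Nat.card A' : ℂ) * ((Finset.univ.filter (fun a : A => f a = 1)).card : ℂ) := by
    have h3 : Fintype.card A =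
        ∑ a' : A', (Finset.univ.filter (fun a : A => f a = a')).card := by
      rw [← Finset.card_univ]
      exact Finset.card_eq_sum_card_fiberwise (fun a _ => Finset.mem_univ (f a))
    rw [Finset.sum_congr rfl (fun a' _ => hc a'), Finset.sum_const, Finset.card_univ,
      smul_eq_mul] at h3
    rw [Nat.card_eq_fintype_card, Nat.card_eq_fintype_card, h3]
    push_cast
    ring
  have hcne : ((Finset.univ.filter (fun a : A => f a = 1)).card : ℂ) ≠ 0 := by
    have : (Finset.univ.filter (fun a : A => f a = 1)).card ≠ 0 := by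
      rw [Finset.card_ne_zero]
      exact ⟨1, Finset.mem_filter.mpr ⟨Finset.mem_univ _, map_one f⟩⟩
    exact_mod_cast this
  have hA' : (Nat.card A' : ℂ) ≠ 0 := by exact_mod_cast Nat.card_pos.ne'
  rw [h1, Finset.sum_congr rfl (fun a' _ => h2 a'), ← Finset.mul_sum, hcard]
  field_simp

theorem classInner_comp_surjective [Fintype A] [Fintype A'] (f : A →* A')
    (hf : Function.Surjective f) (φ ψ : A' → ℂ) :
    classInner (fun a => φ (f a)) (fun a => ψ (f a)) = classInner φ ψ := by
  unfold classInner
  exact avg_comp_surjective f hf (fun a' => φ a' * (starRingEnd ℂ) (ψ a'))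

/-- Inflation of an irreducible character along a surjection. -/
noncomputable def inflIrr (f : A →* A') (hf : Function.Surjective f) (χ : IrrCharacter A') :
    IrrCharacter A :=
  ⟨fun a => (χ : A' → ℂ) (f a), Helper8.isIrrCharacter_comp_surjective f hf χ.2⟩

theorem inflIrr_apply (f : A →* A') (hf : Function.Surjective f) (χ : IrrCharacter A') (a : A) :
    (inflIrr f hf χ : A → ℂ) a = (χ : A' → ℂ) (f a) := rfl

theorem inflIrr_injective (f : A →* A') (hf : Function.Surjective f) :
    Function.Injective (inflIrr f hf) := by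
  intro χ χ' h
  apply Subtype.ext
  funext a'
  obtain ⟨a, rfl⟩ := hf a'
  exact congrFun (congrArg Subtype.val h) a

end Surj

section MultSurj

variable {A A' B B' : Type u} [Group A] [Group A'] [Group B] [Group B'] [Finite A] [Finite A']

/-- Multiplicities are preserved under inflation along a commuting square of surjections. -/
theorem mult_inflIrr (fA : A →* A') (hfA : Function.Surjective fA) (fB : B →* B')
    (hfB : Function.Surjective fB) (ι : A →* B) (ι' : A' →* B')
    (hcomm : ∀ a, fB (ι a) = ι' (fA a)) (χ : IrrCharacter B') (β : IrrCharacter A') :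
    mult ι (inflIrr fB hfB χ) (inflIrr fA hfA β) = mult ι' χ β := by
  classical
  haveI : Fintype A := Fintype.ofFinite _
  haveI : Fintype A' := Fintype.ofFinite _
  apply mult_eq_of
  rw [← mult_spec ι' χ β]
  have h1 : (fun a : A => (inflIrr fB hfB χ : B → ℂ) (ι a)) =
      fun a : A => (fun a' : A' => (χ : B' → ℂ) (ι' a')) (fA a) := by
    funext a
    rw [inflIrr_apply, hcomm]
  rw [h1]
  exact classInner_comp_surjective fA hfA (fun a' : A' => (χ : B' → ℂ) (ι' a')) (β : A' → ℂ)

end MultSurj

section Descent

variable {A A' : Type u} [Group A] [Group A'] [Finite A]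

/-- An irreducible character with `N` in its kernel comes from `A ⧸ N`
(after `Helper23.PB.exists_irr_quotient`, restated here with light imports). -/
theorem exists_irr_quotient'' (N : Subgroup A) [hN : N.Normal]
    (χ : IrrCharacter A) (h : ∀ n ∈ N, (χ : A → ℂ) n = (χ : A → ℂ) 1) :
    ∃ ψ : IrrCharacter (A ⧸ N),
      ∀ g : A, (ψ : A ⧸ N → ℂ) (QuotientGroup.mk' N g) = (χ : A → ℂ) g := by
  obtain ⟨m, ρ, hρ, hχ⟩ := χ.2
  have hker : N ≤ MonoidHom.ker ρ := by
    intro n hn
    rw [MonoidHom.mem_ker]
    have h1 := h n hn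
    rw [← hχ, Representation.char_one] at h1
    have := (char_eq_finrank_iff ρ n).mp h1
    rw [this]; rfl
  let ρ' : Representation ℂ (A ⧸ N) (Fin m → ℂ) := QuotientGroup.lift N ρ hker
  have hcomp : (MonoidHom.comp ρ' (QuotientGroup.mk' N) :
      Representation ℂ A (Fin m → ℂ)) = ρ := by
    ext g v
    rfl
  have hρ' : ρ'.IsIrreducible := by
    have h1 : Representation.IsIrreducible (MonoidHom.comp ρ'
        (QuotientGroup.mk' N) : Representation ℂ A (Fin m → ℂ)) := by
      rw [hcomp]; exact hρ
    exact (OrderIso.isSimpleOrder_iff (Helper8.subrepCompOrderIso ρ'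
      (QuotientGroup.mk' N) (QuotientGroup.mk'_surjective _))).mpr h1
  refine ⟨⟨ρ'.character, m, ρ', hρ', rfl⟩, ?_⟩
  intro g
  rw [← hχ]
  rfl

/-- An irreducible character trivial on the kernel of a surjection is inflated. -/
theorem exists_inflIrr_eq (f : A →* A') (hf : Function.Surjective f) (ψ : IrrCharacter A)
    (h : ∀ a : A, f a = 1 → (ψ : A → ℂ) a = (ψ : A → ℂ) 1) :
    ∃ χ : IrrCharacter A', inflIrr f hf χ = ψ := by
  obtain ⟨ψq, hψq⟩ := exists_irr_quotient'' f.ker ψ (fun n hn => h n (MonoidHom.mem_ker.mp hn))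
  refine ⟨pullIrr (QuotientGroup.quotientKerEquivOfSurjective f hf).symm ψq, ?_⟩
  apply Subtype.ext
  funext a
  rw [inflIrr_apply, pullIrr_apply, ← hψq a]
  have e : (QuotientGroup.quotientKerEquivOfSurjective f hf).symm (f a) =
      QuotientGroup.mk' f.ker a := by
    rw [MulEquiv.symm_apply_eq]
    rfl
  rw [e]

end Descent

end Cfsg.Agent.Helper29.RelGlaub
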