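import Mathlib
import Cfsg.Agent.Helper5.D1Defs
import Cfsg.Agent.Helper5.BlockBasic
import Cfsg.Agent.Helper5.QuotP
import Cfsg.Agent.Helper5.CenterFunctional
import Cfsg.Agent.Helper24.SmallDegree
import Cfsg.Agent.Helper29.RelGlaubA

/-!
# Defect one, piece (PF3): modules from the central idempotents of `Γ ⧸ Pn`
-/

set_option autoImplicit false

namespace Cfsg.Agent.Helper29.D1PF3

open Cfsg Cfsg.Agent.Helper24 Cfsg.Agent.Helper5 Cfsg.Agent.Helper5.Loc Cfsg.Agent.Helper5.Res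
  Cfsg.Agent.Helper5.CC Cfsg.Agent.Helper5.D1

section Idem

variable {Q : Type*} [Group Q] [Fintype Q]

/-- the central primitive idempotent of `χ`, as a function on the group -/
noncomputable def idem (χ : IrrCharacter Q) : Q → ℂ :=
  fun q => (χ : Q → ℂ) 1 * (χ : Q → ℂ) q⁻¹ * (Nat.card Q : ℂ)⁻¹

theorem isClassFunction_idem (χ : IrrCharacter Q) : IsClassFunction Q (idem χ) := by
  intro g x
  unfold idem
  have : (x * g * x⁻¹)⁻¹ = x * g⁻¹ * x⁻¹ := by group
  rw [this, isClassFunction_irr χ g⁻¹ x]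

/-- a central element times the primitive idempotent -/
theorem conv_idem {c : Q → ℂ} (hc : IsClassFunction Q c) (χ : IrrCharacter Q) :
    conv c (idem χ) = fun u => act c χ * idem χ u := by
  funext u
  have h1 : (χ : Q → ℂ) 1 ≠ 0 := irr_one_ne_zero χ
  have key := irr_sum_mul_char_mul χ c hc u⁻¹
  have e1 : ∀ t : Q, c t * idem χ (t⁻¹ * u)
      = (c t * (χ : Q → ℂ) (t * u⁻¹)) * ((χ : Q → ℂ) 1 * (Nat.card Q : ℂ)⁻¹) := by
    intro t
    unfold idem
    have e2 : (t⁻¹ * u)⁻¹ = u⁻¹ * t := by group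
    have e3 : (χ : Q → ℂ) (u⁻¹ * t) = (χ : Q → ℂ) (t * u⁻¹) := by
      have := isClassFunction_irr χ (u⁻¹ * t) u
      rw [← this]
      congr 1
      group
    rw [e2, e3]; ring
  simp only [conv]
  rw [Finset.sum_congr rfl (fun t _ => e1 t), ← Finset.sum_mul]
  have e4 : ∑ t : Q, c t * (χ : Q → ℂ) (t * u⁻¹)
      = (χ : Q → ℂ) u⁻¹ * (∑ t : Q, c t * (χ : Q → ℂ) t) / (χ : Q → ℂ) 1 := by
    rw [eq_div_iff h1, mul_comm, key]
  rw [e4]
  unfold act idem
  field_simp

theorem act_idem [DecidableEq (IrrCharacter Q)] (χ' χ : IrrCharacter Q) :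
    act (idem χ') χ = if χ' = χ then 1 else 0 := by
  have h1 : (χ : Q → ℂ) 1 ≠ 0 := irr_one_ne_zero χ
  have e1 : ∑ t : Q, idem χ' t * (χ : Q → ℂ) t
      = (χ' : Q → ℂ) 1 * classInner (χ : Q → ℂ) (χ' : Q → ℂ) := by
    unfold classInner idem
    rw [Finset.mul_sum, Finset.mul_sum]
    refine Finset.sum_congr rfl fun t _ => ?_
    rw [Cfsg.Agent.Helper24.irr_inv χ' t]
    ring
  unfold act
  rw [e1]
  by_cases h : χ' = χ
  · rw [if_pos h, h, classInner_irr_self, mul_one, div_self h1]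
  · rw [if_neg h, classInner_irr_ne (fun h' => h h'.symm), mul_zero, zero_div]

theorem lr_idem {p : ℕ} {M : Ideal AlgInt} (hM : IsPModular p M) (hQ : ¬ p ∣ Nat.card Q)
    (χ : IrrCharacter Q) (q : Q) : MemLocalRing M (idem χ q) := by
  have hp := isPrime_of_isPModular hM
  unfold idem
  exact lr_mul hp (lr_mul hp (memLocalRing_of_isIntegral hp (irr_isIntegral χ 1))
    (memLocalRing_of_isIntegral hp (irr_isIntegral χ q⁻¹))) (memLocalRing_inv_natCast hM hQ)

end Idem

section Op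

variable {Q : Type*} [Group Q] [Fintype Q] {k : Type*} [Field k]

/-- right translation on functions -/
def rt (k : Type*) [Field k] (q : Q) : (Q → k) →ₗ[k] (Q → k) where
  toFun φ x := φ (x * q)
  map_add' _ _ := rfl
  map_smul' _ _ := rfl

omit [Fintype Q] in
theorem rt_apply (q : Q) (φ : Q → k) (x : Q) : rt k q φ x = φ (x * q) := rfl

/-- the operator attached to a coefficient function -/
noncomputable def T (a : Q → k) : (Q → k) →ₗ[k] (Q → k) := ∑ q : Q, a q • rt k q

theorem T_apply (a : Q → k) (φ : Q → k) (x : Q) : T a φ x = ∑ q : Q, a q * φ (x * q) := by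
  unfold T
  rw [LinearMap.sum_apply, Finset.sum_apply]
  rfl

/-- convolution over `k` -/
def convk (a b : Q → k) : Q → k := fun u => ∑ t : Q, a t * b (t⁻¹ * u)

theorem T_comp (a b : Q → k) : T a ∘ₗ T b = T (convk a b) := by
  apply LinearMap.ext
  intro φ
  funext x
  rw [LinearMap.comp_apply, T_apply, T_apply]
  simp only [T_apply, convk, Finset.mul_sum, Finset.sum_mul]
  conv_rhs => rw [Finset.sum_comm]
  refine Finset.sum_congr rfl fun t _ => ?_
  rw [← Equiv.sum_comp (Equiv.mulLeft t) (fun u => a t * b (t⁻¹ * u) * φ (x * u))]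
  refine Finset.sum_congr rfl fun r _ => ?_
  simp only [Equiv.coe_mulLeft, inv_mul_cancel_left]
  rw [mul_assoc x t r]
  ring

theorem T_smul (r : k) (a : Q → k) : T (fun u => r * a u) = r • T a := by
  unfold T
  rw [Finset.smul_sum]
  refine Finset.sum_congr rfl fun q _ => ?_
  rw [smul_smul]

theorem T_zero : T (fun _ : Q => (0 : k)) = 0 := by
  unfold T
  simp

theorem T_comm_rt {a : Q → k} (ha : ∀ q x : Q, a (x * q * x⁻¹) = a q) (x : Q) :
    rt k x ∘ₗ T a = T a ∘ₗ rt k x := by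
  apply LinearMap.ext
  intro φ
  funext y
  rw [LinearMap.comp_apply, LinearMap.comp_apply, rt_apply, T_apply, T_apply]
  rw [← Equiv.sum_comp (MulAut.conj x⁻¹).toEquiv (fun q => a q * φ (y * x * q))]
  refine Finset.sum_congr rfl fun q _ => ?_
  simp only [MulEquiv.toEquiv_eq_coe, EquivLike.coe_coe, MulAut.conj_apply, inv_inv, rt_apply]
  have h1 : a (x⁻¹ * q * x) = a q := by
    have := ha q x⁻¹
    rwa [inv_inv] at this
  rw [h1]
  congr 2
  group

theorem T_single [DecidableEq Q] (a : Q → k) (x : Q) :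
    T a (Pi.single (1 : Q) (1 : k)) x = a x⁻¹ := by
  rw [T_apply, Finset.sum_eq_single x⁻¹]
  · rw [mul_inv_cancel, Pi.single_eq_same, mul_one]
  · intro q _ hq
    have : x * q ≠ 1 := by
      intro h
      apply hq
      exact (eq_inv_of_mul_eq_one_right h)
    rw [Pi.single_eq_of_ne this, mul_zero]
  · intro h; exact absurd (Finset.mem_univ _) h

theorem T_apply' (a : Q → k) (φ : Q → k) : T a φ = ∑ q : Q, a q • rt k q φ := by
  unfold T
  rw [LinearMap.sum_apply]
  rfl

/-- a sum over a bigger index type, collected along a map to `Q` -/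
theorem T_sum_fiber [DecidableEq Q] {Γ : Type*} [Fintype Γ] (f : Γ → Q) (w : Γ → k) (φ : Q → k) :
    ∑ g : Γ, w g • rt k (f g) φ = T (fun q => ∑ g : Γ, if f g = q then w g else 0) φ := by
  rw [T_apply']
  have h2 : ∀ q : Q, (∑ g : Γ, if f g = q then w g else 0) • rt k q φ
      = ∑ g : Γ, if f g = q then w g • rt k q φ else 0 := by
    intro q
    rw [Finset.sum_smul]
    refine Finset.sum_congr rfl fun g _ => ?_
    split_ifs
    · rfl
    · rw [zero_smul]
  rw [Finset.sum_congr rfl (fun q _ => h2 q), Finset.sum_comm]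
  refine Finset.sum_congr rfl fun g _ => ?_
  rw [Finset.sum_ite_eq Finset.univ (f g) (fun q => w g • rt k q φ), if_pos (Finset.mem_univ _)]

end Op

section Bridge

variable {Q : Type*} [Group Q] [Fintype Q] {M : Ideal AlgInt} [hMax : M.IsMaximal]

theorem res_conv {c d : Q → ℂ} (hc : ∀ q, MemLocalRing M (c q)) (hd : ∀ q, MemLocalRing M (d q)) :
    (fun u => res M (conv c d u)) = convk (fun q => res M (c q)) (fun q => res M (d q)) := by
  funext u
  unfold conv convk
  rw [res_sum]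
  · exact Finset.sum_congr rfl fun t _ => res_mul (hc t) (hd _)
  · intro t _; exact lr_mul hMax.isPrime (hc t) (hd _)

/-- a central element acts on the range of the idempotent operator by its scalar -/
theorem T_comp_idem {p : ℕ} (hM : IsPModular p M) (hQ : ¬ p ∣ Nat.card Q) {c : Q → ℂ}
    (hc : IsClassFunction Q c) (hcM : ∀ q, MemLocalRing M (c q)) (χ : IrrCharacter Q)
    (φ : Q → AlgInt ⧸ M) :
    T (fun q => res M (c q)) (T (fun q => res M (idem χ q)) φ)
      = res M (act c χ) • T (fun q => res M (idem χ q)) φ := by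
  rw [← LinearMap.comp_apply, T_comp, ← res_conv hcM (lr_idem hM hQ χ), conv_idem hc χ]
  have h1 : (fun u => res M (act c χ * idem χ u))
      = fun u => res M (act c χ) * res M (idem χ u) := by
    funext u
    exact res_mul (act_lr hMax.isPrime hc hcM χ) (lr_idem hM hQ χ u)
  rw [h1, T_smul]
  rfl

end Bridge

section Rep

variable {Γ : Type*} [Group Γ] [Fintype Γ] (Pn : Subgroup Γ)

/-- a sum over coset representatives -/
theorem sum_rep [Fintype (Γ ⧸ Pn)] [DecidableEq Γ] {V : Type*} [AddCommMonoid V]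
    (F : Γ ⧸ Pn → V) :
    ∑ g : Γ, (if g = Quotient.out (g : Γ ⧸ Pn) then F (g : Γ ⧸ Pn) else 0) = ∑ q : Γ ⧸ Pn, F q := by
  have hout : ∀ q : Γ ⧸ Pn, ((Quotient.out q : Γ) : Γ ⧸ Pn) = q := fun q => Quotient.out_eq' q
  have hinj : Function.Injective (fun q : Γ ⧸ Pn => (Quotient.out q : Γ)) := by
    intro q q' h
    have := congrArg (fun g : Γ => (g : Γ ⧸ Pn)) h
    simpa [hout] using this
  have h1 : ∑ q : Γ ⧸ Pn, F q
      = ∑ q : Γ ⧸ Pn, (fun g : Γ => if g = Quotient.out (g : Γ ⧸ Pn) then F (g : Γ ⧸ Pn) else 0)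
          (Quotient.out q) := by
    refine Finset.sum_congr rfl fun q _ => ?_
    simp only [hout, if_true]
  rw [h1, ← Finset.sum_image (s := Finset.univ)
    (f := fun g : Γ => if g = Quotient.out (g : Γ ⧸ Pn) then F (g : Γ ⧸ Pn) else 0)
    (g := fun q : Γ ⧸ Pn => (Quotient.out q : Γ)) (fun q _ q' _ h => hinj h)]
  symm
  apply Finset.sum_subset (Finset.subset_univ _)
  intro g _ hg
  rw [if_neg]
  intro h
  apply hg
  rw [Finset.mem_image]
  exact ⟨(g : Γ ⧸ Pn), Finset.mem_univ _, h.symm⟩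

end Rep

section Pieces

variable {Q : Type*} [Group Q] [Fintype Q] {M : Ideal AlgInt} [hMax : M.IsMaximal]

/-- M2: the operators are orthogonal idempotents -/
theorem idem_orth {p : ℕ} (hM : IsPModular p M) (hQ : ¬ p ∣ Nat.card Q)
    [DecidableEq (IrrCharacter Q)] (χ' χ : IrrCharacter Q) (φ : Q → AlgInt ⧸ M) :
    T (fun q => res M (idem χ' q)) (T (fun q => res M (idem χ q)) φ)
      = if χ' = χ then T (fun q => res M (idem χ q)) φ else 0 := by
  rw [T_comp_idem hM hQ (isClassFunction_idem χ') (lr_idem hM hQ χ') χ φ, act_idem]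
  by_cases h : χ' = χ
  · rw [if_pos h, if_pos h, res_one, one_smul]
  · rw [if_neg h, if_neg h, res_zero, zero_smul]

/-- M3: the operators commute with translations -/
theorem idem_comm_rt (χ : IrrCharacter Q) (x : Q) (φ : Q → AlgInt ⧸ M) :
    rt (AlgInt ⧸ M) x (T (fun q => res M (idem χ q)) φ)
      = T (fun q => res M (idem χ q)) (rt (AlgInt ⧸ M) x φ) := by
  have hcls : ∀ q x : Q, (fun q => res M (idem χ q)) (x * q * x⁻¹)
      = (fun q => res M (idem χ q)) q := by
    intro q x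
    simp only
    rw [isClassFunction_idem χ q x]
  have h1 := T_comm_rt (k := AlgInt ⧸ M) (a := fun q => res M (idem χ q)) hcls x
  have h2 := LinearMap.congr_fun h1 φ
  rw [LinearMap.comp_apply, LinearMap.comp_apply] at h2
  exact h2

/-- M1: the operators are non-zero -/
theorem idem_ne_zero [DecidableEq Q] {p : ℕ} [Fact p.Prime] (hM : IsPModular p M)
    (hQ : ¬ p ∣ Nat.card Q) (χ : IrrCharacter Q) :
    T (fun q => res M (idem χ q)) (Pi.single (1 : Q) (1 : AlgInt ⧸ M)) ≠ 0 := by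
  intro h0
  have hp := isPrime_of_isPModular hM
  have h1 := congrFun h0 1
  rw [T_single, inv_one] at h1
  have h2 := (res_eq_zero_iff (lr_idem hM hQ χ 1)).mp h1
  have h3 := li_mul_right hp h2 (memLocalRing_natCast hp (Nat.card Q))
  have hcard : (Nat.card Q : ℂ) ≠ 0 := by
    exact_mod_cast Nat.card_pos.ne'
  have h4 : idem χ 1 * (Nat.card Q : ℂ) = ((irrDeg χ * irrDeg χ : ℕ) : ℂ) := by
    unfold idem
    rw [inv_one, irrDeg_spec]
    push_cast
    field_simp
  rw [h4, memLocalIdeal_natCast_iff hM] at h3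
  have h5 : p ∣ irrDeg χ := by
    rcases (Nat.Prime.dvd_mul (Fact.out : p.Prime)).mp h3 with h | h <;> exact h
  exact hQ (dvd_trans h5 (irrDeg_dvd_card χ))

end Pieces

section Quot

variable {Γ : Type*} [Group Γ] [Fintype Γ] {M : Ideal AlgInt} [hMax : M.IsMaximal]
  (Pn : Subgroup Γ) [Pn.Normal]

/-- M4: class functions of `Γ` act by scalars -/
theorem class_act [Fintype (Γ ⧸ Pn)] [DecidableEq (Γ ⧸ Pn)] {p : ℕ} (hM : IsPModular p M)
    (hQ : ¬ p ∣ Nat.card (Γ ⧸ Pn))
    (χ : IrrCharacter (Γ ⧸ Pn)) {z : Γ → ℂ} (hz : IsClassFunction Γ z)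
    (hzM : ∀ g, MemLocalRing M (z g)) (φ : Γ ⧸ Pn → AlgInt ⧸ M) :
    ∑ g : Γ, res M (z g) • rt (AlgInt ⧸ M) ((g : Γ ⧸ Pn)) (T (fun q => res M (idem χ q)) φ)
      = res M (act z (infl Pn χ)) • T (fun q => res M (idem χ q)) φ := by
  have hp := isPrime_of_isPModular hM
  have hzc : IsClassFunction (Γ ⧸ Pn) (push Pn z) := isClassFunction_push Pn hz
  have hzl : ∀ q, MemLocalRing M (push Pn z q) := fun q => lr_push Pn hp hzM q
  rw [T_sum_fiber (fun g : Γ => (g : Γ ⧸ Pn)) (fun g => res M (z g))]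
  have h1 : (fun q : Γ ⧸ Pn => ∑ g : Γ, if (g : Γ ⧸ Pn) = q then res M (z g) else 0)
      = fun q => res M (push Pn z q) := by
    funext q
    rw [push_apply, res_sum]
    · refine Finset.sum_congr rfl fun g _ => ?_
      split_ifs
      · rfl
      · rw [res_zero]
    · intro g _
      split_ifs
      · exact hzM g
      · exact memLocalRing_zero hp
  rw [h1, T_comp_idem hM hQ hzc hzl χ φ, act_push]

/-- M5: the operator as a combination of group elements -/
theorem rep_sum [Fintype (Γ ⧸ Pn)] [DecidableEq Γ] (a : Γ ⧸ Pn → AlgInt ⧸ M)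
    (φ : Γ ⧸ Pn → AlgInt ⧸ M) :
    ∑ g : Γ, (if g = Quotient.out (g : Γ ⧸ Pn) then a (g : Γ ⧸ Pn) else 0)
        • rt (AlgInt ⧸ M) ((g : Γ ⧸ Pn)) φ
      = T a φ := by
  rw [T_apply', ← sum_rep Pn (fun q : Γ ⧸ Pn => a q • rt (AlgInt ⧸ M) q φ)]
  refine Finset.sum_congr rfl fun g _ => ?_
  split_ifs
  · rfl
  · rw [zero_smul]

end Quot

section Main

/-- (PF3) modules from central idempotents of `Γ ⧸ Pn` -/
theorem exists_module_family {Γ : Type*} [Group Γ] [Fintype Γ] {p : ℕ} [Fact p.Prime]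
    {M : Ideal AlgInt} [hMax : M.IsMaximal] (hM : IsPModular p M)
    (Pn : Subgroup Γ) [Pn.Normal] (hidx : ¬ p ∣ Pn.index)
    {ι : Type*} [Fintype ι] [DecidableEq ι] (ξ : ι → IrrCharacter Γ) (hinj : Function.Injective ξ)
    (hker : ∀ i, ∀ u ∈ Pn, (ξ i : Γ → ℂ) u = (ξ i : Γ → ℂ) 1) :
    ∃ U : ι → Submodule (AlgInt ⧸ M) (Γ ⧸ Pn → AlgInt ⧸ M),
      (∀ i, U i ≠ ⊥) ∧
      (∀ i (g : Γ), ∀ φ ∈ U i, rq (AlgInt ⧸ M) Pn g φ ∈ U i) ∧
      (∃ a : ι → Γ → AlgInt ⧸ M, ∀ i j, ∀ φ ∈ U j,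
        ∑ g, a i g • rq (AlgInt ⧸ M) Pn g φ = if i = j then φ else 0) ∧
      (∀ i (z : Γ → ℂ), IsClassFunction Γ z → (∀ g, MemLocalRing M (z g)) →
        ∀ φ ∈ U i, ∑ g, res M (z g) • rq (AlgInt ⧸ M) Pn g φ = res M (act z (ξ i)) • φ) := by
  classical
  let _ : Fintype (Γ ⧸ Pn) := Fintype.ofFinite _
  have hQ : ¬ p ∣ Nat.card (Γ ⧸ Pn) := hidx
  -- deflation
  have hdefl : ∀ i, ∃ ψ : IrrCharacter (Γ ⧸ Pn),
      ∀ g : Γ, (ψ : Γ ⧸ Pn → ℂ) (QuotientGroup.mk' Pn g) = (ξ i : Γ → ℂ) g :=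
    fun i => Cfsg.Agent.Helper29.RelGlaub.exists_irr_quotient'' Pn (ξ i) (hker i)
  choose ψ hψ using hdefl
  have hψinj : ∀ i j, ψ i = ψ j → i = j := by
    intro i j h
    apply hinj
    apply Subtype.ext
    funext g
    rw [← hψ i g, ← hψ j g, h]
  have hinfl : ∀ i, infl Pn (ψ i) = ξ i := by
    intro i
    apply Subtype.ext
    funext g
    rw [infl_apply]
    exact hψ i g
  have hrq : ∀ (g : Γ) (φ : Γ ⧸ Pn → AlgInt ⧸ M),
      rq (AlgInt ⧸ M) Pn g φ = rt (AlgInt ⧸ M) ((g : Γ ⧸ Pn)) φ := fun g φ => rfl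
  refine ⟨fun i => LinearMap.range (T (fun q => res M (idem (ψ i) q))), ?_, ?_, ?_, ?_⟩
  · -- nonzero
    intro i hbot
    have hbot' : LinearMap.range (T (fun q => res M (idem (ψ i) q))) = ⊥ := hbot
    have hmem : T (fun q => res M (idem (ψ i) q)) (Pi.single (1 : Γ ⧸ Pn) (1 : AlgInt ⧸ M))
        ∈ LinearMap.range (T (fun q => res M (idem (ψ i) q))) :=
      LinearMap.mem_range_self _ _
    rw [hbot', Submodule.mem_bot] at hmem
    exact idem_ne_zero hM hQ (ψ i) hmem
  · -- invariance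
    rintro i g φ ⟨φ', rfl⟩
    rw [hrq, idem_comm_rt]
    exact LinearMap.mem_range_self _ _
  · -- the idempotents as combinations of group elements
    refine ⟨fun i g => if g = Quotient.out (g : Γ ⧸ Pn) then res M (idem (ψ i) (g : Γ ⧸ Pn)) else 0,
      ?_⟩
    rintro i j φ ⟨φ', rfl⟩
    have h1 := rep_sum Pn (fun q => res M (idem (ψ i) q))
      (T (fun q => res M (idem (ψ j) q)) φ')
    have h2 := idem_orth hM hQ (ψ i) (ψ j) φ'
    rw [h2] at h1
    rw [← (show (if ψ i = ψ j then T (fun q => res M (idem (ψ j) q)) φ' else 0)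
      = if i = j then T (fun q => res M (idem (ψ j) q)) φ' else 0 from by
        by_cases hij : i = j
        · rw [if_pos hij, if_pos (by rw [hij])]
        · rw [if_neg hij, if_neg (fun h => hij (hψinj i j h))])]
    rw [← h1]
    rfl
  · -- class functions
    rintro i z hz hzM φ ⟨φ', rfl⟩
    have h1 := class_act Pn hM hQ (ψ i) hz hzM φ'
    rw [hinfl] at h1
    rw [← h1]
    rfl

end Main

end Cfsg.Agent.Helper29.D1PF3
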