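import Mathlib

set_option autoImplicit false

/-!
# S2245 (Sylow 2-subgroups of `A_n`, `S_n` in a unique maximal subgroup): shared definitions
and the partition lemma.
-/

namespace Cfsg.Agent.Helper29.SylMax

open MulAction Equiv
open scoped Pointwise

universe u v

/-- `𝔾` acting on `α` behaves like the symmetric or the alternating group of `α`. -/
structure Amb (𝔾 : Type u) [Group 𝔾] (α : Type v) [Fintype α] [DecidableEq α] [MulAction 𝔾 α] :
    Prop where
  finite : Finite 𝔾
  faithful : ∀ g : 𝔾, (∀ x : α, g • x = x) → g = 1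
  even_mem : ∀ σ : Perm α, σ ∈ alternatingGroup α → ∃ g : 𝔾, ∀ x, g • x = σ x
  coatom_stab : ∀ s : Set α, s.Nonempty → sᶜ.Nonempty → Nat.card α ≠ 2 * s.ncard →
    IsCoatom (stabilizer 𝔾 s)
  eq_top_of_prim : ∀ (M : Subgroup 𝔾) (s : Set α), IsPreprimitive M α → stabilizer 𝔾 s ≤ M → M = ⊤
  prim : IsPreprimitive 𝔾 α
  trans : IsMultiplyPretransitive 𝔾 α (Nat.card α - 2)
  stab_surj : ∀ s : Set α, sᶜ.Nontrivial →
    Function.Surjective (MulAction.toPerm : stabilizer 𝔾 s → Perm s)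
  moves : ∀ t : Set α, ∀ a ∈ t, ∀ b ∈ t, ∃ g ∈ stabilizer 𝔾 t, g • a = b

/-- two distinct maximal subgroups above `R` -/
def TwoMax {𝔾 : Type u} [Group 𝔾] (R : Subgroup 𝔾) : Prop :=
  ∃ M₁ M₂ : Subgroup 𝔾, M₁ ≠ M₂ ∧ IsCoatom M₁ ∧ IsCoatom M₂ ∧ R ≤ M₁ ∧ R ≤ M₂

/-- `R` preserves the fibres of `f`. -/
def Pres {𝔾 : Type u} [Group 𝔾] {α : Type v} [MulAction 𝔾 α] {ι : Type*} (R : Subgroup 𝔾)
    (f : α → ι) : Prop :=
  ∀ r ∈ R, ∀ x y : α, f x = f y → f (r • x) = f (r • y)

/-- the labelling attached to a block -/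
def lab (R : Type*) [Group R] {α : Type v} [MulAction R α] (B : Set α) (y : α) : Set α :=
  {z | ∀ r : R, y ∈ r • B ↔ z ∈ r • B}

section

variable {𝔾 : Type u} [Group 𝔾] {α : Type v} [MulAction 𝔾 α]

/-- Lemma F: a fixed point, and transitivity on the rest -/
def FixTrans (R : Subgroup 𝔾) : Prop :=
  ∃ x₀ : α, (∀ r ∈ R, r • x₀ = x₀) ∧
    ∀ y z : α, y ≠ x₀ → z ≠ x₀ → ∃ r ∈ R, r • y = z

/-- Lemma P: primitive overgroups are everything -/
def PrimTop (R : Subgroup 𝔾) : Prop :=
  ∀ M : Subgroup 𝔾, R ≤ M → IsPreprimitive M α → M = ⊤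

end

section Part

variable {𝔾 : Type u} [Group 𝔾] {α : Type v} [Fintype α] [DecidableEq α] [MulAction 𝔾 α]

/-- the set of elements preserving the fibres of `f`, in both directions -/
theorem pres_pow {ι : Type*} (f : α → ι) (g : 𝔾)
    (hg : ∀ x y : α, f x = f y → f (g • x) = f (g • y)) (k : ℕ) :
    ∀ x y : α, f x = f y → f (g ^ k • x) = f (g ^ k • y) := by
  induction k with
  | zero => intro x y h; simpa using h
  | succ k ih =>
    intro x y h
    rw [pow_succ', mul_smul, mul_smul]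
    exact hg _ _ (ih x y h)

theorem pres_closure {ι : Type*} [Finite 𝔾] (S : Set 𝔾) (f : α → ι)
    (hS : ∀ g ∈ S, ∀ x y : α, f x = f y → f (g • x) = f (g • y)) :
    ∀ g ∈ Subgroup.closure S, ∀ x y : α, f x = f y → f (g • x) = f (g • y) := by
  intro g hg
  induction hg using Subgroup.closure_induction with
  | mem g hg => exact hS g hg
  | one => intro x y h; simpa using h
  | mul a b _ _ ha hb =>
    intro x y h
    rw [mul_smul, mul_smul]
    exact ha _ _ (hb x y h)
  | inv a _ ha =>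
    have h1 : a⁻¹ = a ^ (orderOf a - 1) := by
      have hpos : 0 < orderOf a := orderOf_pos a
      rw [eq_comm, ← mul_eq_one_iff_eq_inv, ← pow_succ, Nat.sub_add_cancel hpos,
        pow_orderOf_eq_one]
    rw [h1]
    exact pres_pow f a ha _

/-- **PART.** A subgroup generated by elements preserving a nontrivial partition is proper. -/
theorem ne_top_of_pres {ι : Type*} (hA : Amb 𝔾 α) (S : Set 𝔾) (f : α → ι)
    (hS : ∀ g ∈ S, ∀ x y : α, f x = f y → f (g • x) = f (g • y))
    (h1 : ∃ x y : α, x ≠ y ∧ f x = f y) (h2 : ∃ x y : α, f x ≠ f y) :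
    Subgroup.closure S ≠ ⊤ := by
  haveI := hA.finite
  intro htop
  have hall : ∀ g : 𝔾, ∀ x y : α, f x = f y → f (g • x) = f (g • y) := by
    intro g
    exact pres_closure S f hS g (by rw [htop]; trivial)
  obtain ⟨x, y, hxy, hfxy⟩ := h1
  obtain ⟨u, w, huw⟩ := h2
  -- the fibre of `x` is a block
  have hsm : ∀ g : 𝔾, g • {z : α | f z = f x} = {z : α | f z = f (g • x)} := by
    intro g
    ext z
    constructor
    · rintro ⟨z', hz', rfl⟩
      exact hall g z' x hz'
    · intro hz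
      refine ⟨g⁻¹ • z, ?_, by simp⟩
      have := hall g⁻¹ z (g • x) hz
      simpa using this
  have hblock : IsBlock 𝔾 {z : α | f z = f x} := by
    rw [isBlock_iff_smul_eq_smul_or_disjoint]
    intro g₁ g₂
    rw [hsm, hsm]
    by_cases h : f (g₁ • x) = f (g₂ • x)
    · left; rw [h]
    · right
      rw [Set.disjoint_left]
      intro z hz1 hz2
      exact h (hz1.symm.trans hz2)
  haveI := hA.prim
  rcases hA.prim.isTrivialBlock_of_isBlock hblock with h | h
  · exact hxy (h rfl hfxy.symm)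
  · have hu : u ∈ {z : α | f z = f x} := by rw [h]; trivial
    have hw : w ∈ {z : α | f z = f x} := by rw [h]; trivial
    exact huw (hu.trans hw.symm)

theorem exists_coatom_ge (hA : Amb 𝔾 α) (H : Subgroup 𝔾) (hH : H ≠ ⊤) :
    ∃ M : Subgroup 𝔾, IsCoatom M ∧ H ≤ M := by
  haveI := hA.finite
  exact (eq_top_or_exists_le_coatom H).resolve_left hH

end Part

end Cfsg.Agent.Helper29.SylMax
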