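import Mathlib
import Cfsg.Agent.Helper29.NilpHall
import Cfsg.Agent.Helper23.NilpotentElts
import Cfsg.Agent.Helper18.FocalFusion
import Cfsg.Agent.Helper3.ProdCard
import Cfsg.Agent.Lead.Compl
import Cfsg.Agent.S0559
import Cfsg.Agent.S0561
import Cfsg.Agent.S0044
import Cfsg.Agent.Helper7.Fitting
import Cfsg.Agent.Lead.HallPrep

set_option autoImplicit false
set_option linter.unusedSectionVars false

namespace Cfsg.Agent.Helper29.KW

open Subgroup
open scoped Pointwise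
open Cfsg.Agent.Lead (mem_conj_smul_iff card_conj_smul)

universe u

variable {G : Type u} [Group G]

/-- `G = AB` as a set product. -/
def Fac (A B : Subgroup G) : Prop := ∀ g : G, ∃ a ∈ A, ∃ b ∈ B, g = a * b

theorem Fac.symm {A B : Subgroup G} (h : Fac A B) : Fac B A := by
  intro g
  obtain ⟨a, ha, b, hb, e⟩ := h g⁻¹
  exact ⟨b⁻¹, B.inv_mem hb, a⁻¹, A.inv_mem ha, by rw [← mul_inv_rev, ← e, inv_inv]⟩

theorem Fac.conj_right [Finite G] {A B : Subgroup G} (h : Fac A B) (x : G) :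
    Fac A (MulAut.conj x • B) :=
  (Cfsg.Agent.S0559.result A B A (MulAut.conj x • B) h ⟨1, by simp⟩ ⟨x, rfl⟩).1

theorem Fac.conj_left [Finite G] {A B : Subgroup G} (h : Fac A B) (x : G) :
    Fac (MulAut.conj x • A) B :=
  (Cfsg.Agent.S0559.result A B (MulAut.conj x • A) B h ⟨x, rfl⟩ ⟨1, by simp⟩).1

/-- card of a sup when one factor normalizes the other -/
theorem card_sup_mul_card_inf {H N : Subgroup G} (h : H ≤ normalizer (N : Set G)) :
    Nat.card (H ⊔ N : Subgroup G) * Nat.card (H ⊓ N : Subgroup G) = Nat.card H * Nat.card N := by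
  rw [← Cfsg.Agent.Helper3.card_mul_set_mul_card_inf H N,
    ← coe_mul_of_left_le_normalizer_right H N h]
  rfl

/-- The hypotheses: `G = AB` with `A`, `B` nilpotent of coprime orders. -/
structure Setup (A B : Subgroup G) : Prop where
  nilA : Group.IsNilpotent A
  nilB : Group.IsNilpotent B
  cop : (Nat.card A).Coprime (Nat.card B)
  fac : Fac A B

namespace Setup

variable {A B : Subgroup G}

theorem symm (h : Setup A B) : Setup B A :=
  ⟨h.nilB, h.nilA, h.cop.symm, h.fac.symm⟩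

theorem conj_right [Finite G] (h : Setup A B) (x : G) : Setup A (MulAut.conj x • B) :=
  ⟨h.nilA, nilpotent_conj_smul x h.nilB, by rw [card_conj_smul]; exact h.cop, h.fac.conj_right x⟩

theorem conj_left [Finite G] (h : Setup A B) (x : G) : Setup (MulAut.conj x • A) B :=
  (h.symm.conj_right x).symm

theorem inf_eq_bot [Finite G] (h : Setup A B) : A ⊓ B = ⊥ := by
  rw [← Subgroup.card_eq_one]
  have h1 : Nat.card (A ⊓ B : Subgroup G) ∣ Nat.card A := Subgroup.card_dvd_of_le inf_le_left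
  have h2 : Nat.card (A ⊓ B : Subgroup G) ∣ Nat.card B := Subgroup.card_dvd_of_le inf_le_right
  exact Nat.eq_one_of_dvd_coprimes h.cop h1 h2

theorem card_eq [Finite G] (h : Setup A B) : Nat.card G = Nat.card A * Nat.card B := by
  have := Cfsg.Agent.Helper3.card_mul_card_inf_of_prod A B h.fac
  rw [h.inf_eq_bot, Subgroup.card_bot, mul_one] at this
  exact this

theorem index_eq [Finite G] (h : Setup A B) : A.index = Nat.card B := by
  have h1 := Subgroup.card_mul_index A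
  rw [h.card_eq] at h1
  exact Nat.eq_of_mul_eq_mul_left Nat.card_pos h1

theorem hall [Finite G] (h : Setup A B) : (Nat.card A).Coprime A.index := by
  rw [h.index_eq]; exact h.cop

/-- Dedekind: a subgroup containing `A` factorizes. -/
theorem dedekind (h : Setup A B) {X : Subgroup G} (hAX : A ≤ X) :
    ∀ x ∈ X, ∃ a ∈ A, ∃ b ∈ B ⊓ X, x = a * b := by
  intro x hx
  obtain ⟨a, ha, b, hb, e⟩ := h.fac x
  refine ⟨a, ha, b, ⟨hb, ?_⟩, e⟩
  have : b = a⁻¹ * x := by rw [e]; group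
  rw [this]
  exact X.mul_mem (X.inv_mem (hAX ha)) hx

end Setup

section NilSylow

variable [Finite G] {A : Subgroup G} {p : ℕ} [Fact p.Prime]

theorem isPGroup_zpowers_of_pow {X : Type*} [Group X] (x : X) (k : ℕ) (h : x ^ p ^ k = 1) :
    IsPGroup p (zpowers x) := by
  rw [IsPGroup]
  rintro ⟨y, hy⟩
  obtain ⟨n, rfl⟩ := mem_zpowers_iff.mp hy
  refine ⟨k, ?_⟩
  apply Subtype.ext
  show (x ^ n) ^ p ^ k = 1
  rw [← zpow_natCast, ← zpow_mul, mul_comm, zpow_mul, zpow_natCast, h, one_zpow]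

/-- `p`-elements of a nilpotent subgroup `A` lie in any Sylow `p`-subgroup of `G` inside `A`. -/
theorem mem_sylow_of_mem (hA : Group.IsNilpotent A) (P : Sylow p G) (hPA : (P : Subgroup G) ≤ A)
    {x : G} (hx : x ∈ A) {k : ℕ} (hxp : x ^ p ^ k = 1) : x ∈ P := by
  have : Finite A := inferInstance
  have h1 := Cfsg.Agent.Helper23.mem_sylow_of_isNilpotent (K := A) (P.subtype hPA) ⟨x, hx⟩
    (isPGroup_zpowers_of_pow _ k (Subtype.ext hxp))
  have h2 : (⟨x, hx⟩ : A) ∈ (P : Subgroup G).subgroupOf A := h1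
  exact mem_subgroupOf.mp h2

theorem pgroup_le_sylow (hA : Group.IsNilpotent A) (P : Sylow p G) (hPA : (P : Subgroup G) ≤ A)
    {Q : Subgroup G} (hQA : Q ≤ A) (hQ : IsPGroup p Q) : Q ≤ P := by
  intro x hx
  obtain ⟨k, hk⟩ := hQ ⟨x, hx⟩
  exact mem_sylow_of_mem hA P hPA (hQA hx) (k := k) (congrArg Subtype.val hk)

theorem le_normalizer_sylow (hA : Group.IsNilpotent A) (P : Sylow p G)
    (hPA : (P : Subgroup G) ≤ A) : A ≤ normalizer ((P : Subgroup G) : Set G) := by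
  apply le_normalizer_of_conj_mem
  intro a ha x hx
  obtain ⟨k, hk⟩ := P.isPGroup' ⟨x, hx⟩
  have hk' : x ^ p ^ k = 1 := congrArg Subtype.val hk
  apply mem_sylow_of_mem hA P hPA (A.mul_mem (A.mul_mem ha (hPA hx)) (A.inv_mem ha)) (k := k)
  rw [conj_pow, hk']; group

theorem commute_sylow_of_coprime (hA : Group.IsNilpotent A) (P : Sylow p G)
    (hPA : (P : Subgroup G) ≤ A) {x c : G} (hx : x ∈ P) (hc : c ∈ A)
    (hcp : (orderOf c).Coprime p) : x * c = c * x := by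
  have : Finite A := inferInstance
  obtain ⟨k, hk⟩ := P.isPGroup' ⟨x, hx⟩
  have hk' : x ^ p ^ k = 1 := congrArg Subtype.val hk
  have h1 := Cfsg.Agent.Helper23.commute_of_isNilpotent_of_coprime (K := A) (p := p)
    ⟨x, hPA hx⟩ ⟨c, hc⟩ (isPGroup_zpowers_of_pow _ k (Subtype.ext hk'))
    (by rwa [Subgroup.orderOf_mk])
  exact congrArg Subtype.val h1.eq

/-- decomposition of an element of `A` into `p`-part and `p'`-part -/
theorem exists_decomp (hA : Group.IsNilpotent A) (P : Sylow p G) (hPA : (P : Subgroup G) ≤ A)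
    {a : G} (ha : a ∈ A) :
    ∃ x ∈ P, ∃ c ∈ A, (orderOf c).Coprime p ∧ a = x * c := by
  obtain ⟨x, y, hxy, hx, hy, ⟨k, hk⟩, hcop⟩ := Cfsg.Agent.Helper18.exists_pPart_decomp p a
  have hzA : zpowers a ≤ A := zpowers_le.mpr ha
  refine ⟨x, ?_, y, hzA hy, hcop, hxy⟩
  apply mem_sylow_of_mem hA P hPA (hzA hx) (k := k)
  rw [← hk, pow_orderOf_eq_one]

theorem exists_central_of_dvd (hA : Group.IsNilpotent A) (hp : p ∣ Nat.card A) :
    ∃ z ∈ A, (∀ a ∈ A, a * z = z * a) ∧ orderOf z = p := by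
  have : Finite A := inferInstance
  obtain ⟨t, ht, hto⟩ := Cfsg.Agent.Helper23.exists_mem_center_orderOf_eq (K := A) hp
  refine ⟨t, t.2, ?_, ?_⟩
  · intro a ha
    have := (Subgroup.mem_center_iff.mp ht) ⟨a, ha⟩
    exact congrArg Subtype.val this
  · rw [← hto, Subgroup.orderOf_coe]

theorem exists_sylow_le (hHall : (Nat.card A).Coprime A.index) (hp : p ∣ Nat.card A) :
    ∃ P : Sylow p G, (P : Subgroup G) ≤ A := by
  obtain ⟨S', hS'⟩ := exists_sylow_eq_map_of_hall hHall hp (default : Sylow p A)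
  exact ⟨S', by rw [hS']; exact Subgroup.map_subtype_le _⟩

/-- a `p`-subgroup normalized by a Sylow `p`-subgroup lies in it -/
theorem le_sylow_of_normalizes (P : Sylow p G) {E : Subgroup G} (hE : IsPGroup p E)
    (hn : (P : Subgroup G) ≤ normalizer (E : Set G)) : E ≤ P := by
  have h1 : IsPGroup p (E ⊔ (P : Subgroup G) : Subgroup G) :=
    IsPGroup.to_sup_of_normal_left' hE P.isPGroup' hn
  have h2 := P.is_maximal' h1 le_sup_right
  rw [← h2]; exact le_sup_left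

end NilSylow

section Relative

variable [Finite G]

/-- a factorized subgroup has the product order -/
theorem card_of_fac {X A' B' : Subgroup G} (hA' : A' ≤ X) (hB' : B' ≤ X)
    (hfac : ∀ x ∈ X, ∃ a ∈ A', ∃ b ∈ B', x = a * b) (hinf : A' ⊓ B' = ⊥) :
    Nat.card X = Nat.card A' * Nat.card B' := by
  have h1 := Cfsg.Agent.Helper3.card_mul_set_mul_card_inf A' B'
  rw [hinf, Subgroup.card_bot, mul_one] at h1
  rw [← h1]
  have : ((A' : Set G) * (B' : Set G) : Set G) = (X : Set G) := by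
    ext g
    constructor
    · rintro ⟨a, ha, b, hb, rfl⟩
      exact X.mul_mem (hA' ha) (hB' hb)
    · intro hg
      obtain ⟨a, ha, b, hb, e⟩ := hfac g hg
      exact ⟨a, ha, b, hb, e.symm⟩
  rw [this]
  rfl

/-- a subgroup `E` of `X` of order prime to `|B'|` normalized by the Hall factor `A'` lies in
`A'` -/
theorem le_of_coprime {X A' B' E : Subgroup G} (hA'X : A' ≤ X)
    (hcardX : Nat.card X = Nat.card A' * Nat.card B') (hEX : E ≤ X)
    (hn : A' ≤ normalizer (E : Set G)) (hcop : (Nat.card A').Coprime (Nat.card B'))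
    (hE : (Nat.card E).Coprime (Nat.card B')) : E ≤ A' := by
  have h1 := card_sup_mul_card_inf hn
  have h2 : Nat.card (A' ⊔ E : Subgroup G) ∣ Nat.card X :=
    Subgroup.card_dvd_of_le (sup_le hA'X hEX)
  have h3 : Nat.card (A' ⊔ E : Subgroup G) ∣ Nat.card A' * Nat.card E := ⟨_, h1.symm⟩
  have h4 : (Nat.card (A' ⊔ E : Subgroup G)).Coprime (Nat.card B') :=
    Nat.Coprime.coprime_dvd_left h3 (Nat.Coprime.mul_left hcop hE)
  rw [hcardX] at h2
  have h5 : Nat.card (A' ⊔ E : Subgroup G) ∣ Nat.card A' := h4.dvd_of_dvd_mul_right h2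
  have h6 : A' = A' ⊔ E :=
    Subgroup.eq_of_le_of_card_ge le_sup_left (Nat.le_of_dvd Nat.card_pos h5)
  rw [h6]; exact le_sup_right

/-- relative version of the product of normal Hall subgroups of the factors -/
theorem rel_prod_hall {N H K A₁ B₁ : Subgroup G} (hsolv : Group.IsSolvable N)
    (hfac : ∀ n ∈ N, ∃ h ∈ H, ∃ k ∈ K, n = h * k) (hHN : H ≤ N) (hKN : K ≤ N)
    (hA₁N : A₁ ≤ N) (hB₁N : B₁ ≤ N)
    (hAn : ∀ h ∈ H, ∀ a ∈ A₁, h * a * h⁻¹ ∈ A₁) (hBn : ∀ k ∈ K, ∀ b ∈ B₁, k * b * k⁻¹ ∈ B₁)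
    (hAh : (Nat.card A₁).Coprime (A₁.relIndex N)) (hBh : (Nat.card B₁).Coprime (B₁.relIndex N)) :
    ∃ S : Subgroup G, (S : Set G) = (A₁ : Set G) * (B₁ : Set G) := by
  have hcA : Nat.card (A₁.subgroupOf N) = Nat.card A₁ :=
    Nat.card_congr (Subgroup.subgroupOfEquivOfLe hA₁N).toEquiv
  have hcB : Nat.card (B₁.subgroupOf N) = Nat.card B₁ :=
    Nat.card_congr (Subgroup.subgroupOfEquivOfLe hB₁N).toEquiv
  obtain ⟨S', hS'⟩ := Cfsg.Agent.S0561.prod_hall_subgroup (G := N) (H.subgroupOf N)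
    (K.subgroupOf N) (A₁.subgroupOf N) (B₁.subgroupOf N)
    (by
      rintro ⟨n, hn⟩
      obtain ⟨h, hh, k, hk, e⟩ := hfac n hn
      exact ⟨⟨h, hHN hh⟩, mem_subgroupOf.mpr hh, ⟨k, hKN hk⟩, mem_subgroupOf.mpr hk,
        Subtype.ext e⟩)
    (by
      rintro ⟨h, hhN⟩ hh ⟨a, haN⟩ ha
      rw [mem_subgroupOf] at hh ha ⊢
      exact hAn h hh a ha)
    (by
      rintro ⟨k, hkN⟩ hk ⟨b, hbN⟩ hb
      rw [mem_subgroupOf] at hk hb ⊢
      exact hBn k hk b hb)
    (by rw [hcA]; exact hAh)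
    (by rw [hcB]; exact hBh)
  refine ⟨S'.map N.subtype, ?_⟩
  ext x
  constructor
  · rintro ⟨n, hn, rfl⟩
    have : n ∈ (S' : Set N) := hn
    rw [hS'] at this
    obtain ⟨a, ha, b, hb, rfl⟩ := this
    exact ⟨a, mem_subgroupOf.mp ha, b, mem_subgroupOf.mp hb, rfl⟩
  · rintro ⟨a, ha, b, hb, rfl⟩
    have : (⟨a, hA₁N ha⟩ * ⟨b, hB₁N hb⟩ : N) ∈ (S' : Set N) := by
      rw [hS']
      exact ⟨⟨a, hA₁N ha⟩, mem_subgroupOf.mpr ha, ⟨b, hB₁N hb⟩, mem_subgroupOf.mpr hb, rfl⟩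
    exact ⟨_, this, rfl⟩

/-- a nontrivial solvable subgroup has a nontrivial normal `ℓ`-subgroup -/
theorem rel_exists_normal_pgroup {N : Subgroup G} (hsolv : Group.IsSolvable N) (hN : N ≠ ⊥) :
    ∃ ℓ : ℕ, ℓ.Prime ∧ ∃ E : Subgroup G, E ≤ N ∧ E ≠ ⊥ ∧ IsPGroup ℓ E ∧
      N ≤ normalizer (E : Set G) := by
  have hnt : Nontrivial N := (Subgroup.nontrivial_iff_ne_bot N).mpr hN
  obtain ⟨ℓ, hℓ, P, hPn, hPp, hPne⟩ :=
    Cfsg.Agent.Lead.exists_normal_pgroup_of_isSolvable (G := N)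
  refine ⟨ℓ, hℓ, P.map N.subtype, Subgroup.map_subtype_le _, ?_, hPp.map _, ?_⟩
  · intro h
    apply hPne
    rw [eq_bot_iff]
    intro x hx
    have : (x : G) ∈ P.map N.subtype := ⟨x, hx, rfl⟩
    rw [h, mem_bot] at this
    rw [mem_bot]
    exact Subtype.ext this
  · apply le_normalizer_of_conj_mem
    rintro n hn _ ⟨x, hx, rfl⟩
    exact ⟨⟨n, hn⟩ * x * ⟨n, hn⟩⁻¹, hPn.conj_mem x hx ⟨n, hn⟩, rfl⟩

/-- an `q`-element of a solvable subgroup `Y` centralizing every normal `ℓ`-subgroup of `Y`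
(for all primes `ℓ`) lies in a normal `q`-subgroup of `Y` -/
theorem rel_mem_pcore {Y : Subgroup G} (hsolv : Group.IsSolvable Y) {q : ℕ} [hq : Fact q.Prime]
    {b : G} (hbY : b ∈ Y) {k : ℕ} (hbq : b ^ q ^ k = 1)
    (hcent : ∀ ℓ : ℕ, ℓ.Prime → ∀ E : Subgroup G, E ≤ Y → IsPGroup ℓ E →
      Y ≤ normalizer (E : Set G) → ∀ e ∈ E, b * e = e * b) :
    ∃ E₀ : Subgroup G, E₀ ≤ Y ∧ IsPGroup q E₀ ∧ Y ≤ normalizer (E₀ : Set G) ∧ b ∈ E₀ := by
  have hfinY : Finite Y := inferInstance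
  set b' : Y := ⟨b, hbY⟩ with hb'
  -- b' centralizes the Fitting subgroup
  have h1 : Cfsg.fittingSubgroup Y ≤ centralizer ({b'} : Set Y) := by
    rw [Cfsg.Agent.Helper7.fittingSubgroup_eq_pCoreSup, Cfsg.Agent.Helper7.pCoreSup_le_iff]
    intro ℓ hℓ x hx
    rw [mem_centralizer_iff]
    intro y hy
    rw [Set.mem_singleton_iff] at hy
    subst hy
    have hE := hcent ℓ hℓ ((Cfsg.pCore ℓ Y).map Y.subtype) (Subgroup.map_subtype_le _)
      ((Cfsg.Agent.Helper14.pCore_isPGroup ℓ).map _)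
      (by
        apply le_normalizer_of_conj_mem
        rintro n hn _ ⟨z, hz, rfl⟩
        exact ⟨⟨n, hn⟩ * z * ⟨n, hn⟩⁻¹,
          (Cfsg.Agent.Helper14.pCore_normal (G := Y) ℓ).conj_mem z hz ⟨n, hn⟩, rfl⟩)
      (x : G) ⟨x, hx, rfl⟩
    exact Subtype.ext hE
  have h2 : b' ∈ centralizer ((Cfsg.fittingSubgroup Y : Subgroup Y) : Set Y) := by
    rw [mem_centralizer_iff]
    intro f hf
    have := mem_centralizer_iff.mp (h1 hf) b' (Set.mem_singleton _)
    exact this.symm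
  have h3 : b' ∈ Cfsg.fittingSubgroup Y := Cfsg.Agent.S0044.result h2
  -- b' lies in the Sylow q-subgroup of the Fitting subgroup
  have hnil : Group.IsNilpotent (Cfsg.fittingSubgroup Y) :=
    Cfsg.Agent.Helper7.fittingSubgroup_isNilpotent
  obtain ⟨Q⟩ : Nonempty (Sylow q (Cfsg.fittingSubgroup Y)) := inferInstance
  have hbQ : (⟨b', h3⟩ : Cfsg.fittingSubgroup Y) ∈ Q := by
    apply Cfsg.Agent.Helper23.mem_sylow_of_isNilpotent
    apply isPGroup_zpowers_of_pow _ k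
    apply Subtype.ext
    apply Subtype.ext
    exact hbq
  have hQn : (Q : Subgroup (Cfsg.fittingSubgroup Y)).Normal := inferInstance
  have hsub : ((Q : Subgroup (Cfsg.fittingSubgroup Y)).map
      (Cfsg.fittingSubgroup Y).subtype).IsSubnormal :=
    (Subgroup.Normal.isSubnormal hQn).trans'
      (Subgroup.Normal.isSubnormal (Cfsg.Agent.Helper7.fittingSubgroup_normal Y))
  have hle := Cfsg.Agent.Helper7.subnormal_pGroup_le_pCore hsub (Q.isPGroup'.map _)
  have hb'core : b' ∈ Cfsg.pCore q Y := hle ⟨⟨b', h3⟩, hbQ, rfl⟩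
  refine ⟨(Cfsg.pCore q Y).map Y.subtype, Subgroup.map_subtype_le _,
    (Cfsg.Agent.Helper14.pCore_isPGroup q).map _, ?_, ⟨b', hb'core, rfl⟩⟩
  apply le_normalizer_of_conj_mem
  rintro n hn _ ⟨z, hz, rfl⟩
  exact ⟨⟨n, hn⟩ * z * ⟨n, hn⟩⁻¹,
    (Cfsg.Agent.Helper14.pCore_normal (G := Y) q).conj_mem z hz ⟨n, hn⟩, rfl⟩

end Relative

end Cfsg.Agent.Helper29.KW
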