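import Mathlib
import Cfsg.Agent.Helper29.KWBasic
import Cfsg.Agent.S0562
import Cfsg.Agent.S0566
import Cfsg.Agent.S0581
import Cfsg.Agent.S0558
import Cfsg.Agent.S0143

set_option autoImplicit false
set_option linter.unusedSectionVars false

namespace Cfsg.Agent.Helper29.KW

open Subgroup
open scoped Pointwise
open Cfsg.Agent.Lead (mem_conj_smul_iff card_conj_smul)

universe u

/-- hypotheses on a minimal counterexample to Wielandt's theorem -/
structure MinCE (G : Type u) [Group G] [Finite G] : Prop where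
  simple : IsSimpleGroup G
  nonsolv : ¬ Group.IsSolvable G
  ih : ∀ (H : Type u) [Group H] [Finite H], Nat.card H < Nat.card G →
    ∀ A B : Subgroup H, Setup A B → Group.IsSolvable H

variable {G : Type u} [Group G] [Finite G]

namespace MinCE

theorem eq_bot_or_top_of_normalizer (hG : MinCE G) {N : Subgroup G}
    (hN : normalizer (N : Set G) = ⊤) : N = ⊥ ∨ N = ⊤ := by
  have := hG.simple
  have hn : N.Normal := normalizer_eq_top_iff.mp hN
  exact hn.eq_bot_or_eq_top

theorem not_nilpotent (hG : MinCE G) : ¬ Group.IsNilpotent G := fun _ =>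
  hG.nonsolv inferInstance

theorem center_eq_bot (hG : MinCE G) : center G = ⊥ := by
  have := hG.simple
  rcases (inferInstance : (center G).Normal).eq_bot_or_eq_top with h | h
  · exact h
  · exfalso
    apply hG.nonsolv
    apply Group.isSolvable_of_comm
    intro a b
    have ha : a ∈ center G := by rw [h]; trivial
    exact ((mem_center_iff.mp ha) b).symm

theorem card_lt_of_ne_top {X : Subgroup G} (hX : X ≠ ⊤) : Nat.card X < Nat.card G := by
  rcases lt_or_eq_of_le (Subgroup.card_le_card_group X) with h | h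
  · exact h
  · exact absurd (Subgroup.eq_top_of_card_eq X h) hX

/-- proper factorized subgroups are solvable -/
theorem solvable_of_fac (hG : MinCE G) {A B : Subgroup G} (h : Setup A B)
    {X A' B' : Subgroup G} (hA'A : A' ≤ A) (hB'B : B' ≤ B) (hA'X : A' ≤ X) (hB'X : B' ≤ X)
    (hfac : ∀ x ∈ X, ∃ a ∈ A', ∃ b ∈ B', x = a * b) (hX : X ≠ ⊤) : Group.IsSolvable X := by
  apply hG.ih X (card_lt_of_ne_top hX) (A'.subgroupOf X) (B'.subgroupOf X)
  refine ⟨?_, ?_, ?_, ?_⟩
  · have := nilpotent_of_le hA'A h.nilA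
    exact Group.nilpotent_of_mulEquiv (Subgroup.subgroupOfEquivOfLe hA'X).symm
  · have := nilpotent_of_le hB'B h.nilB
    exact Group.nilpotent_of_mulEquiv (Subgroup.subgroupOfEquivOfLe hB'X).symm
  · rw [Nat.card_congr (Subgroup.subgroupOfEquivOfLe hA'X).toEquiv,
      Nat.card_congr (Subgroup.subgroupOfEquivOfLe hB'X).toEquiv]
    exact Nat.Coprime.coprime_dvd_left (Subgroup.card_dvd_of_le hA'A)
      (Nat.Coprime.coprime_dvd_right (Subgroup.card_dvd_of_le hB'B) h.cop)
  · rintro ⟨x, hx⟩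
    obtain ⟨a, ha, b, hb, e⟩ := hfac x hx
    exact ⟨⟨a, hA'X ha⟩, mem_subgroupOf.mpr ha, ⟨b, hB'X hb⟩, mem_subgroupOf.mpr hb,
      Subtype.ext e⟩

/-- `A` is nontrivial -/
theorem ne_bot_left (hG : MinCE G) {A B : Subgroup G} (h : Setup A B) : A ≠ ⊥ := by
  intro hA
  apply hG.nonsolv
  have hB : B = ⊤ := by
    apply Subgroup.eq_top_of_card_eq
    rw [h.card_eq, hA, Subgroup.card_bot, one_mul]
  have := h.nilB
  have e : B ≃* G := (MulEquiv.subgroupCongr hB).trans Subgroup.topEquiv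
  have : Group.IsNilpotent G := Group.nilpotent_of_mulEquiv e
  infer_instance

theorem ne_bot_right (hG : MinCE G) {A B : Subgroup G} (h : Setup A B) : B ≠ ⊥ :=
  hG.ne_bot_left h.symm

/-- a nontrivial `p`-group cannot be all of `G` -/
theorem not_isPGroup_top (hG : MinCE G) {p : ℕ} [Fact p.Prime] {E : Subgroup G}
    (hE : IsPGroup p E) : E ≠ ⊤ := by
  intro hE'
  apply hG.not_nilpotent
  have e : E ≃* G := (MulEquiv.subgroupCongr hE').trans Subgroup.topEquiv
  have : Group.IsNilpotent E := hE.isNilpotent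
  exact Group.nilpotent_of_mulEquiv e

/-- a `p`-subgroup with full normalizer is trivial -/
theorem pgroup_eq_bot_of_normalizer (hG : MinCE G) {p : ℕ} [Fact p.Prime] {E : Subgroup G}
    (hE : IsPGroup p E) (hn : normalizer (E : Set G) = ⊤) : E = ⊥ := by
  rcases hG.eq_bot_or_top_of_normalizer hn with h | h
  · exact h
  · exact absurd h (hG.not_isPGroup_top hE)

/-- P0: `|A|` is divisible by at least two primes -/
theorem exists_prime_ne (hG : MinCE G) {A B : Subgroup G} (h : Setup A B) (p : ℕ) :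
    ∃ u : ℕ, u.Prime ∧ u ≠ p ∧ u ∣ Nat.card A := by
  by_contra hcon
  push Not at hcon
  have hB := hG.ne_bot_right h
  have hcB : Nat.card B ≠ 1 := fun hc => hB (Subgroup.card_eq_one.mp hc)
  obtain ⟨q, hq, hqB⟩ := Nat.exists_prime_and_dvd hcB
  have : Fact q.Prime := ⟨hq⟩
  obtain ⟨b, hbB, hbc, hbo⟩ := exists_central_of_dvd h.nilB hqB
  have hb1 : b ≠ 1 := by
    intro hb
    rw [hb, orderOf_one] at hbo
    exact hq.one_lt.ne hbo
  -- |A| is a power of p
  have hApow : ∃ k, Nat.card A = p ^ k := by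
    by_cases hp : p.Prime
    · have : ∀ {u : ℕ}, u.Prime → u ∣ Nat.card A → u = p := by
        intro u hu hd
        by_contra hne
        exact hcon u hu hne hd
      exact ⟨_, Nat.eq_prime_pow_of_unique_prime_dvd Nat.card_pos.ne' this⟩
    · refine ⟨0, ?_⟩
      rw [pow_zero]
      by_contra hne1
      obtain ⟨u, hu, hud⟩ := Nat.exists_prime_and_dvd hne1
      exact hcon u hu (fun hup => hp (hup ▸ hu)) hud
  obtain ⟨k, hk⟩ := hApow
  have hle : B ≤ centralizer ({b} : Set G) := by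
    intro x hx
    rw [mem_centralizer_iff]
    intro y hy
    rw [Set.mem_singleton_iff] at hy
    subst hy
    exact (hbc x hx).symm
  have hidx : (centralizer ({b} : Set G)).index ∣ Nat.card A := by
    rw [← h.symm.index_eq]
    exact Subgroup.index_dvd_of_le hle
  have := hG.simple
  by_cases hp : p.Prime
  · rw [hk] at hidx
    obtain ⟨j, -, hj⟩ := (Nat.dvd_prime_pow hp).mp hidx
    have hprime := Cfsg.Agent.S0143.result p j hp b hb1 hj
    apply hG.nonsolv
    have : Fact (Nat.card G).Prime := ⟨hprime⟩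
    have hc : IsCyclic G := isCyclic_of_prime_card rfl
    exact Group.isSolvable_of_comm (isMulCommutative_iff.mp hc.isMulCommutative)
  · have hA1 : Nat.card A = 1 := by
      by_contra hne1
      obtain ⟨u, hu, hud⟩ := Nat.exists_prime_and_dvd hne1
      exact hcon u hu (fun hup => hp (hup ▸ hu)) hud
    exact hG.ne_bot_left h (Subgroup.card_eq_one.mp hA1)

/-- P3: a proper subgroup containing `A` contains no nontrivial central element of `B` -/
theorem not_mem_of_central (hG : MinCE G) {A B : Subgroup G} (h : Setup A B) {M : Subgroup G}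
    (hAM : A ≤ M) (hM : M ≠ ⊤) {b : G} (hbc : ∀ x ∈ B, x * b = b * x)
    (hb1 : b ≠ 1) : b ∉ M := by
  intro hbM
  have := hG.simple
  have hcore : M.normalCore = ⊥ := by
    rcases (Subgroup.normalCore_normal M).eq_bot_or_eq_top with h1 | h1
    · exact h1
    · exact absurd (top_le_iff.mp (h1 ▸ Subgroup.normalCore_le M)) hM
  have hb : b ∈ M.normalCore := by
    intro g
    obtain ⟨a, ha, β, hβ, rfl⟩ := h.fac g
    have e : a * β * b * (a * β)⁻¹ = a * b * a⁻¹ := by
      rw [mul_inv_rev, mul_assoc a β b, hbc β hβ]; group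
    rw [e]
    exact M.mul_mem (M.mul_mem (hAM ha) hbM) (M.inv_mem (hAM ha))
  rw [hcore, mem_bot] at hb
  exact hb1 hb

/-- P4: normal subgroups of the factors do not permute to a proper subgroup -/
theorem no_perm_pair (hG : MinCE G) {A B : Subgroup G} (h : Setup A B) {A₀ B₀ S : Subgroup G}
    (hA₀n : ∀ a ∈ A, ∀ x ∈ A₀, a * x * a⁻¹ ∈ A₀) (hB₀n : ∀ b ∈ B, ∀ x ∈ B₀, b * x * b⁻¹ ∈ B₀)
    (hA₀ : A₀ ≠ ⊥) (hB₀ : B₀ ≠ ⊥) (hS : (S : Set G) = (A₀ : Set G) * (B₀ : Set G)) : S = ⊤ := by
  by_contra hST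
  have := hG.simple
  obtain ⟨N, hNn, hNT, hN⟩ := Cfsg.Agent.S0566.result A₀ B₀ hA₀ hB₀ (by
    intro x
    obtain ⟨a, ha, β, hβ, rfl⟩ := h.fac x
    refine ⟨MulAut.conj a • S, ?_, ?_⟩
    · intro hc
      apply hST
      apply Subgroup.eq_top_of_card_eq
      rw [← card_conj_smul a S, hc, Subgroup.card_top]
    · ext y
      rw [SetLike.mem_coe, mem_conj_smul_iff, ← SetLike.mem_coe, hS]
      constructor
      · rintro ⟨α, hα, γ, hγ, e⟩
        refine ⟨a * α * a⁻¹, hA₀n a ha α hα, a * γ * a⁻¹, ?_, ?_⟩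
        · rw [SetLike.mem_coe, mem_conj_smul_iff]
          have := hB₀n β⁻¹ (B.inv_mem hβ) γ hγ
          convert this using 1; group
        · have : y = a * (a⁻¹ * y * a) * a⁻¹ := by group
          rw [this, ← e]; group
      · rintro ⟨α, hα, γ, hγ, rfl⟩
        rw [SetLike.mem_coe, mem_conj_smul_iff] at hγ
        refine ⟨a⁻¹ * α * a, ?_, a⁻¹ * γ * a, ?_, by group⟩
        · have := hA₀n a⁻¹ (A.inv_mem ha) α hα
          simpa using this
        · have := hB₀n β hβ _ hγ
          have e : a⁻¹ * γ * a = β * ((a * β)⁻¹ * γ * (a * β)) * β⁻¹ := by group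
          rw [SetLike.mem_coe, e]; exact this)
  rcases hNn.eq_bot_or_eq_top with h1 | h1
  · rcases hN with h2 | h2
    · exact hA₀ (le_bot_iff.mp (h1 ▸ h2))
    · exact hB₀ (le_bot_iff.mp (h1 ▸ h2))
  · exact hNT h1

theorem normal_subgroupOf_of_conj {A A₀ : Subgroup G}
    (hA₀n : ∀ a ∈ A, ∀ x ∈ A₀, a * x * a⁻¹ ∈ A₀) : (A₀.subgroupOf A).Normal :=
  ⟨fun x hx a => by
    rw [mem_subgroupOf] at hx ⊢
    exact hA₀n a a.2 x hx⟩

/-- the normalizer of the join of normal subgroups of the factors is factorized, and solvable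
when proper -/
theorem normalizer_sup_fac {A B : Subgroup G} (h : Setup A B) {A₀ B₀ : Subgroup G}
    (hA₀ : A₀ ≤ A) (hB₀ : B₀ ≤ B)
    (hA₀n : ∀ a ∈ A, ∀ x ∈ A₀, a * x * a⁻¹ ∈ A₀) (hB₀n : ∀ b ∈ B, ∀ x ∈ B₀, b * x * b⁻¹ ∈ B₀) :
    ∀ n ∈ normalizer ((A₀ ⊔ B₀ : Subgroup G) : Set G),
      ∃ a ∈ normalizer ((A₀ ⊔ B₀ : Subgroup G) : Set G) ⊓ A,
      ∃ b ∈ normalizer ((A₀ ⊔ B₀ : Subgroup G) : Set G) ⊓ B, n = a * b :=
  Cfsg.Agent.S0562.result A B A₀ B₀ h.fac hA₀ (normal_subgroupOf_of_conj hA₀n) hB₀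
    (normal_subgroupOf_of_conj hB₀n)

theorem inf_inf_eq_bot {A B : Subgroup G} (h : Setup A B) (N : Subgroup G) :
    (N ⊓ A) ⊓ (N ⊓ B) = ⊥ := by
  rw [eq_bot_iff, ← h.inf_eq_bot]
  exact inf_le_inf inf_le_right inf_le_right

theorem normalizer_sup_solvable (hG : MinCE G) {A B : Subgroup G} (h : Setup A B)
    {A₀ B₀ : Subgroup G} (hA₀ : A₀ ≤ A) (hB₀ : B₀ ≤ B)
    (hA₀n : ∀ a ∈ A, ∀ x ∈ A₀, a * x * a⁻¹ ∈ A₀) (hB₀n : ∀ b ∈ B, ∀ x ∈ B₀, b * x * b⁻¹ ∈ B₀)
    (hN : normalizer ((A₀ ⊔ B₀ : Subgroup G) : Set G) ≠ ⊤) :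
    Group.IsSolvable (normalizer ((A₀ ⊔ B₀ : Subgroup G) : Set G)) :=
  hG.solvable_of_fac h inf_le_right inf_le_right inf_le_left inf_le_left
    (normalizer_sup_fac h hA₀ hB₀ hA₀n hB₀n) hN

/-- P5: nontrivial Sylow subgroups of the two factors generate `G` -/
theorem sylow_sup_eq_top (hG : MinCE G) {A B : Subgroup G} (h : Setup A B) {p q : ℕ}
    [Fact p.Prime] [Fact q.Prime] (P : Sylow p G) (Q : Sylow q G) (hPA : (P : Subgroup G) ≤ A)
    (hQB : (Q : Subgroup G) ≤ B) (hP : (P : Subgroup G) ≠ ⊥) (hQ : (Q : Subgroup G) ≠ ⊥) :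
    (P : Subgroup G) ⊔ (Q : Subgroup G) = ⊤ := by
  set J : Subgroup G := (P : Subgroup G) ⊔ (Q : Subgroup G) with hJ
  have hPn : ∀ a ∈ A, ∀ x ∈ (P : Subgroup G), a * x * a⁻¹ ∈ (P : Subgroup G) := fun a ha x hx =>
    (mem_normalizer_iff.mp (le_normalizer_sylow h.nilA P hPA ha) x).mp hx
  have hQn : ∀ b ∈ B, ∀ x ∈ (Q : Subgroup G), b * x * b⁻¹ ∈ (Q : Subgroup G) := fun b hb x hx =>
    (mem_normalizer_iff.mp (le_normalizer_sylow h.nilB Q hQB hb) x).mp hx
  by_cases hN : normalizer (J : Set G) = ⊤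
  · rcases hG.eq_bot_or_top_of_normalizer hN with h1 | h1
    · exact absurd (le_bot_iff.mp (h1 ▸ (le_sup_left : (P : Subgroup G) ≤ J))) hP
    · exact h1
  · have hsolv := hG.normalizer_sup_solvable h hPA hQB hPn hQn hN
    have hfac := normalizer_sup_fac h hPA hQB hPn hQn
    obtain ⟨S, hS⟩ := rel_prod_hall hsolv hfac inf_le_left inf_le_left
      (le_trans le_sup_left le_normalizer) (le_trans le_sup_right le_normalizer)
      (fun a ha => hPn a ha.2) (fun b hb => hQn b hb.2)
      (Nat.Coprime.coprime_dvd_right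
        (Subgroup.relIndex_dvd_index_of_le (le_trans le_sup_left le_normalizer))
        P.card_coprime_index)
      (Nat.Coprime.coprime_dvd_right
        (Subgroup.relIndex_dvd_index_of_le (le_trans le_sup_right le_normalizer))
        Q.card_coprime_index)
    have hST := hG.no_perm_pair h hPn hQn hP hQ hS
    rw [eq_top_iff, ← hST]
    intro x hx
    have : x ∈ (S : Set G) := hx
    rw [hS] at this
    obtain ⟨a, ha, b, hb, rfl⟩ := this
    exact J.mul_mem (le_sup_left (a := (P : Subgroup G)) ha) (le_sup_right (b := (Q : Subgroup G)) hb)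

end MinCE

/-- a Sylow `t`-subgroup is nontrivial when `t` divides the group order -/
theorem sylow_ne_bot_of_dvd {t : ℕ} [ht : Fact t.Prime] (T : Sylow t G) (hd : t ∣ Nat.card G) :
    (T : Subgroup G) ≠ ⊥ := by
  intro hbot
  have h1 := T.card_eq_multiplicity
  rw [hbot, Subgroup.card_bot] at h1
  have h0 : (Nat.card G).factorization t = 0 := by
    by_contra h0
    have : 1 < t ^ (Nat.card G).factorization t := Nat.one_lt_pow h0 ht.out.one_lt
    omega
  have := (ht.out.factorization_pos_of_dvd Nat.card_pos.ne' hd)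
  omega

/-- the normalizer of a subgroup normalizes its centralizer -/
theorem normalizer_le_normalizer_centralizer (H : Subgroup G) :
    normalizer (H : Set G) ≤ normalizer ((centralizer (H : Set G) : Subgroup G) : Set G) := by
  apply le_normalizer_of_conj_mem
  intro n hn c hc
  rw [mem_centralizer_iff] at hc ⊢
  intro x hx
  have h1 : n⁻¹ * x * n ∈ H := by
    have := (mem_normalizer_iff.mp (inv_mem hn) x).mp hx
    simpa using this
  have h2 := hc _ h1
  calc x * (n * c * n⁻¹) = n * ((n⁻¹ * x * n) * c) * n⁻¹ := by group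
    _ = n * (c * (n⁻¹ * x * n)) * n⁻¹ := by rw [h2]
    _ = n * c * n⁻¹ * x := by group

/-- in a finite group, one-sided conjugation stability gives membership in the normalizer -/
theorem mem_normalizer_of_conj_mem {H : Subgroup G} {g : G} (hg : ∀ x ∈ H, g * x * g⁻¹ ∈ H) :
    g ∈ normalizer (H : Set G) := by
  let f : H → H := fun x => ⟨g * x * g⁻¹, hg x x.2⟩
  have hinj : Function.Injective f := by
    intro x y hxy
    have : g * x * g⁻¹ = g * y * g⁻¹ := congrArg Subtype.val hxy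
    apply Subtype.ext
    simpa using this
  have hsurj : Function.Surjective f := Finite.surjective_of_injective hinj
  rw [mem_normalizer_iff]
  intro x
  constructor
  · exact hg x
  · intro hx
    obtain ⟨y, hy⟩ := hsurj ⟨g * x * g⁻¹, hx⟩
    have : g * y * g⁻¹ = g * x * g⁻¹ := congrArg Subtype.val hy
    have e : (y : G) = x := by simpa using this
    rw [← e]; exact y.2

/-- a prime dividing `|G|` divides `|A|` or `|B|` -/
theorem Setup.prime_dvd {A B : Subgroup G} (h : Setup A B) {ℓ : ℕ} (hℓ : ℓ.Prime)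
    (hd : ℓ ∣ Nat.card G) : ℓ ∣ Nat.card A ∨ ℓ ∣ Nat.card B := by
  rw [h.card_eq] at hd
  exact (Nat.Prime.dvd_mul hℓ).mp hd

/-- a prime dividing `|A|` does not divide `|B|` -/
theorem Setup.not_dvd_right {A B : Subgroup G} (h : Setup A B) {ℓ : ℕ} (hℓ : ℓ.Prime)
    (hd : ℓ ∣ Nat.card A) : ¬ ℓ ∣ Nat.card B := fun hd' =>
  hℓ.one_lt.ne' (Nat.eq_one_of_dvd_coprimes h.cop hd hd')

/-- a prime-power number for a prime dividing `|A|` is coprime to `|B|` -/
theorem Setup.pow_coprime_right {A B : Subgroup G} (h : Setup A B) {ℓ : ℕ} (hℓ : ℓ.Prime)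
    (hd : ℓ ∣ Nat.card A) (k : ℕ) : (ℓ ^ k).Coprime (Nat.card B) :=
  Nat.Coprime.pow_left k ((Nat.Prime.coprime_iff_not_dvd hℓ).mpr (h.not_dvd_right hℓ hd))

/-- a nontrivial Sylow subgroup of `G` inside `A` -/
theorem Setup.exists_sylow {A B : Subgroup G} (h : Setup A B) {p : ℕ} [Fact p.Prime]
    (hp : p ∣ Nat.card A) : ∃ P : Sylow p G, (P : Subgroup G) ≤ A ∧ (P : Subgroup G) ≠ ⊥ := by
  obtain ⟨P, hP⟩ := exists_sylow_le h.hall hp
  exact ⟨P, hP, sylow_ne_bot_of_dvd P (dvd_trans hp (Subgroup.card_subgroup_dvd_card A))⟩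

/-- a subgroup of order prime to `|B|` normalized by `A` lies in `A` -/
theorem Setup.le_of_normalized {A B : Subgroup G} (h : Setup A B) {E : Subgroup G}
    (hn : A ≤ normalizer (E : Set G)) (hE : (Nat.card E).Coprime (Nat.card B)) : E ≤ A :=
  le_of_coprime (X := ⊤) le_top (by rw [Subgroup.card_top]; exact h.card_eq) le_top hn h.cop hE

/-- a subgroup of order prime to `|B|` normalizing `A` lies in `A` -/
theorem Setup.le_of_normalizes {A B : Subgroup G} (h : Setup A B) {E : Subgroup G}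
    (hn : E ≤ normalizer (A : Set G)) (hE : (Nat.card E).Coprime (Nat.card B)) : E ≤ A := by
  have h1 := card_sup_mul_card_inf hn
  have h2 : Nat.card (E ⊔ A : Subgroup G) ∣ Nat.card G := Subgroup.card_subgroup_dvd_card _
  have h3 : Nat.card (E ⊔ A : Subgroup G) ∣ Nat.card E * Nat.card A := ⟨_, h1.symm⟩
  have h4 : (Nat.card (E ⊔ A : Subgroup G)).Coprime (Nat.card B) :=
    Nat.Coprime.coprime_dvd_left h3 (Nat.Coprime.mul_left hE h.cop)
  rw [h.card_eq] at h2
  have h5 : Nat.card (E ⊔ A : Subgroup G) ∣ Nat.card A := h4.dvd_of_dvd_mul_right h2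
  have h6 : A = E ⊔ A :=
    Subgroup.eq_of_le_of_card_ge le_sup_right (Nat.le_of_dvd Nat.card_pos h5)
  rw [h6]; exact le_sup_left

/-- P6: a subgroup of order prime to `|A|` lies in a conjugate of `B` -/
theorem Setup.exists_conj_ge {A B : Subgroup G} (h : Setup A B) {W : Subgroup G}
    (hW : (Nat.card W).Coprime (Nat.card A)) : ∃ x : G, W ≤ MulAut.conj x • B := by
  apply Cfsg.Agent.S0581.result B W h.nilB h.symm.hall
  intro ℓ hℓ hd
  rcases h.prime_dvd hℓ (dvd_trans hd (Subgroup.card_subgroup_dvd_card W)) with h1 | h1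
  · exact absurd (Nat.eq_one_of_dvd_coprimes hW hd h1) hℓ.one_lt.ne'
  · exact h1

namespace MinCE

/-- P7: a subgroup of order prime to `|A|` normalized by a nontrivial Sylow subgroup of `A`
is trivial -/
theorem eq_bot_of_normalized (hG : MinCE G) {A B : Subgroup G} (h : Setup A B) {p : ℕ}
    [Fact p.Prime] (P : Sylow p G) (hPA : (P : Subgroup G) ≤ A) (hP : (P : Subgroup G) ≠ ⊥)
    {W : Subgroup G} (hW : (Nat.card W).Coprime (Nat.card A))
    (hn : (P : Subgroup G) ≤ normalizer (W : Set G)) : W = ⊥ := by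
  by_contra hW1
  obtain ⟨x, hx⟩ := h.exists_conj_ge hW
  set B' := MulAut.conj x • B with hB'
  have h' : Setup A B' := h.conj_right x
  have hc1 : Nat.card W ≠ 1 := fun hc => hW1 (Subgroup.card_eq_one.mp hc)
  obtain ⟨q, hq, hqW⟩ := Nat.exists_prime_and_dvd hc1
  have : Fact q.Prime := ⟨hq⟩
  have hqB' : q ∣ Nat.card B' := dvd_trans hqW (Subgroup.card_dvd_of_le hx)
  obtain ⟨Q', hQ'B'⟩ := exists_sylow_le h'.symm.hall hqB'
  set Wq : Subgroup G := W ⊓ (Q' : Subgroup G) with hWq
  have hWq1 : Wq ≠ ⊥ := by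
    obtain ⟨w, hw⟩ := exists_prime_orderOf_dvd_card' (G := W) q hqW
    intro hbot
    have hwQ : (w : G) ∈ (Q' : Subgroup G) := by
      apply mem_sylow_of_mem h'.nilB Q' hQ'B' (hx w.2) (k := 1)
      rw [pow_one, ← hw, ← Subgroup.orderOf_coe, pow_orderOf_eq_one]
    have : (w : G) ∈ Wq := ⟨w.2, hwQ⟩
    rw [hbot, mem_bot] at this
    have hw1 : w = 1 := Subtype.ext this
    rw [hw1, orderOf_one] at hw
    exact hq.one_lt.ne hw
  have hnorm : normalizer (W : Set G) ≤ normalizer (Wq : Set G) := by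
    apply le_normalizer_of_conj_mem
    intro n hn w hw
    have h1 : n * w * n⁻¹ ∈ W := (mem_normalizer_iff.mp hn w).mp hw.1
    refine ⟨h1, ?_⟩
    obtain ⟨k, hk⟩ := Q'.isPGroup' ⟨w, hw.2⟩
    have hk' : w ^ q ^ k = 1 := congrArg Subtype.val hk
    apply mem_sylow_of_mem h'.nilB Q' hQ'B' (hx h1) (k := k)
    rw [conj_pow, hk']; group
  -- a second prime `t` of `B'`
  obtain ⟨t, ht, htq, htB'⟩ := hG.exists_prime_ne h'.symm q
  have : Fact t.Prime := ⟨ht⟩
  obtain ⟨T', hT'B'⟩ := exists_sylow_le h'.symm.hall htB'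
  have hT'1 : (T' : Subgroup G) ≠ ⊥ :=
    sylow_ne_bot_of_dvd T' (dvd_trans htB' (Subgroup.card_subgroup_dvd_card B'))
  have hT'n : (T' : Subgroup G) ≤ normalizer (Wq : Set G) := by
    apply le_normalizer_of_conj_mem
    intro y hy w hw
    have hcomm : y * w = w * y := by
      apply commute_sylow_of_coprime h'.nilB T' hT'B' hy (hx hw.1)
      obtain ⟨k, hk⟩ := Q'.isPGroup' ⟨w, hw.2⟩
      have hk' : w ^ q ^ k = 1 := congrArg Subtype.val hk
      have hd : orderOf w ∣ q ^ k := orderOf_dvd_of_pow_eq_one hk'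
      apply Nat.Coprime.coprime_dvd_left hd
      apply Nat.Coprime.pow_left
      exact (Nat.coprime_primes hq ht).mpr (Ne.symm htq)
    rw [hcomm]; simpa using hw
  have htop := hG.sylow_sup_eq_top h' P T' hPA hT'B' hP hT'1
  have hWqn : normalizer (Wq : Set G) = ⊤ := by
    rw [eq_top_iff, ← htop]
    exact sup_le (le_trans hn hnorm) hT'n
  have hWqp : IsPGroup q Wq := Q'.isPGroup'.to_le inf_le_right
  exact hWq1 (hG.pgroup_eq_bot_of_normalizer hWqp hWqn)

/-- the centralizer of a nontrivial Sylow subgroup of `A` lies in `A` -/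
theorem centralizer_sylow_le (hG : MinCE G) {A B : Subgroup G} (h : Setup A B) {p : ℕ}
    [Fact p.Prime] (P : Sylow p G) (hPA : (P : Subgroup G) ≤ A) (hP : (P : Subgroup G) ≠ ⊥) :
    centralizer ((P : Subgroup G) : Set G) ≤ A := by
  apply h.le_of_normalized
  · exact le_trans (le_normalizer_sylow h.nilA P hPA) (normalizer_le_normalizer_centralizer _)
  · apply Nat.coprime_of_dvd
    intro q hq hqC hqB
    have : Fact q.Prime := ⟨hq⟩
    obtain ⟨c, hc⟩ := exists_prime_orderOf_dvd_card' (G := centralizer ((P : Subgroup G) : Set G))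
      q hqC
    have hcC : (c : G) ∈ centralizer ((P : Subgroup G) : Set G) := c.2
    have hco : orderOf (c : G) = q := by rw [Subgroup.orderOf_coe, hc]
    have hW : zpowers (c : G) = ⊥ := by
      apply hG.eq_bot_of_normalized h P hPA hP
      · rw [Nat.card_zpowers, hco]
        exact (Nat.Prime.coprime_iff_not_dvd hq).mpr (h.symm.not_dvd_right hq hqB)
      · apply le_normalizer_of_conj_mem
        intro x hx w hw
        have hwC : w ∈ centralizer ((P : Subgroup G) : Set G) := (zpowers_le.mpr hcC) hw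
        have := mem_centralizer_iff.mp hwC x hx
        rw [this]; simpa using hw
    have hc1 : (c : G) = 1 := by
      have := mem_zpowers (c : G)
      rwa [hW, mem_bot] at this
    rw [hc1, orderOf_one] at hco
    exact hq.one_lt.ne hco

/-- P8: the normalizer of a nontrivial Sylow subgroup of `A` is the normalizer of `A` -/
theorem normalizer_sylow_eq (hG : MinCE G) {A B : Subgroup G} (h : Setup A B) {p : ℕ}
    [Fact p.Prime] (P : Sylow p G) (hPA : (P : Subgroup G) ≤ A) (hP : (P : Subgroup G) ≠ ⊥) :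
    normalizer ((P : Subgroup G) : Set G) = normalizer (A : Set G) := by
  apply le_antisymm
  · apply le_normalizer_of_conj_mem
    intro g hg a ha
    obtain ⟨x, hx, c, hc, hcp, rfl⟩ := exists_decomp h.nilA P hPA ha
    have hcC : c ∈ centralizer ((P : Subgroup G) : Set G) := by
      rw [mem_centralizer_iff]
      intro y hy
      exact commute_sylow_of_coprime h.nilA P hPA hy hc hcp
    have h1 : g * x * g⁻¹ ∈ A := hPA ((mem_normalizer_iff.mp hg x).mp hx)
    have h2 : g * c * g⁻¹ ∈ A :=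
      hG.centralizer_sylow_le h P hPA hP
        ((mem_normalizer_iff.mp (normalizer_le_normalizer_centralizer _ hg) c).mp hcC)
    have e : g * (x * c) * g⁻¹ = (g * x * g⁻¹) * (g * c * g⁻¹) := by group
    rw [e]; exact A.mul_mem h1 h2
  · apply le_normalizer_of_conj_mem
    intro g hg x hx
    obtain ⟨k, hk⟩ := P.isPGroup' ⟨x, hx⟩
    have hk' : x ^ p ^ k = 1 := congrArg Subtype.val hk
    apply mem_sylow_of_mem h.nilA P hPA ((mem_normalizer_iff.mp hg x).mp (hPA hx)) (k := k)
    rw [conj_pow, hk']; group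

end MinCE

end Cfsg.Agent.Helper29.KW
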