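import Mathlib
import Cfsg.Agent.Helper29.KWBasic
import Cfsg.Agent.S0558

set_option autoImplicit false
set_option linter.unusedSectionVars false

namespace Cfsg.Agent.Helper29.KW

open Subgroup
open scoped Pointwise

universe u

variable {G : Type u} [Group G] [Finite G]

/-- relative form of the normal complement theorem S0558 for a nilpotent subgroup `H` of a
subgroup `X` -/
theorem rel_normal_complement {X H : Subgroup G} (hHX : H ≤ X) (hnil : Group.IsNilpotent H)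
    (hnot : ∀ p : ℕ, p.Prime → ¬ IsPGroup p H)
    (hnorm : ∀ p : ℕ, p.Prime → p ∣ Nat.card H → ∀ g ∈ X,
      (∀ x ∈ H, (∃ k : ℕ, x ^ p ^ k = 1) → g * x * g⁻¹ ∈ H) → g ∈ H) :
    ∃ K : Subgroup G, K ≤ X ∧ X ≤ normalizer (K : Set G) ∧ K ⊓ H = ⊥ ∧
      Nat.card K * Nat.card H = Nat.card X := by
  set H' : Subgroup X := H.subgroupOf X with hH'
  have e : H' ≃* H := Subgroup.subgroupOfEquivOfLe hHX
  have hnil' : Group.IsNilpotent H' := Group.nilpotent_of_mulEquiv e.symm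
  have hcardH : Nat.card H' = Nat.card H := Nat.card_congr e.toEquiv
  obtain ⟨K', hK'n, hK'c⟩ := Cfsg.Agent.S0558.result (G := X) H' (by
    intro p hp P hPH
    apply hnot p hp
    have : IsPGroup p H' := hPH ▸ P.isPGroup'
    exact this.of_equiv e) (by
    intro p hp hpd P
    have : Fact p.Prime := ⟨hp⟩
    have hPn : (P : Subgroup H').Normal := inferInstance
    apply le_antisymm
    · intro g hg
      rw [hH', mem_subgroupOf]
      apply hnorm p hp (hcardH ▸ hpd) (g : G) g.2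
      intro x hx ⟨k, hk⟩
      have hx' : (⟨x, hHX hx⟩ : X) ∈ H' := mem_subgroupOf.mpr hx
      have hxP : (⟨⟨x, hHX hx⟩, hx'⟩ : H') ∈ P := by
        apply Cfsg.Agent.Helper23.mem_sylow_of_isNilpotent
        apply isPGroup_zpowers_of_pow _ k
        apply Subtype.ext
        apply Subtype.ext
        exact hk
      have hxm : (⟨x, hHX hx⟩ : X) ∈ (P : Subgroup H').map H'.subtype := ⟨_, hxP, rfl⟩
      have := (mem_normalizer_iff.mp hg _).mp hxm
      obtain ⟨y, -, hy⟩ := this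
      have hyH : ((y : X) : G) ∈ H := mem_subgroupOf.mp y.2
      have e2 : ((y : X) : G) = (g : G) * x * (g : G)⁻¹ := by
        have := congrArg Subtype.val hy
        exact this
      rw [← e2]; exact hyH
    · apply le_normalizer_of_conj_mem
      rintro g hg _ ⟨x₀, hx₀, rfl⟩
      exact ⟨⟨g, hg⟩ * x₀ * ⟨g, hg⟩⁻¹, hPn.conj_mem x₀ hx₀ ⟨g, hg⟩, rfl⟩)
  refine ⟨K'.map X.subtype, Subgroup.map_subtype_le _, ?_, ?_, ?_⟩
  · apply le_normalizer_of_conj_mem
    rintro n hn _ ⟨k₀, hk₀, rfl⟩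
    exact ⟨⟨n, hn⟩ * k₀ * ⟨n, hn⟩⁻¹, hK'n.conj_mem k₀ hk₀ ⟨n, hn⟩, rfl⟩
  · rw [eq_bot_iff]
    rintro x ⟨⟨k₀, hk₀, rfl⟩, hxH⟩
    have h1 : k₀ ∈ K' ⊓ H' := ⟨hk₀, mem_subgroupOf.mpr hxH⟩
    rw [hK'c.disjoint.eq_bot, mem_bot] at h1
    rw [mem_bot, h1]; rfl
  · rw [Subgroup.card_map_of_injective X.subtype_injective, ← hcardH]
    exact hK'c.card_mul_card

end Cfsg.Agent.Helper29.KW
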