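import Mathlib
import Cfsg.Agent.Helper29.KWCoprime
import Cfsg.Agent.Helper5.ConjAct
import Cfsg.Agent.Helper29.KWRel

set_option autoImplicit false
set_option linter.unusedSectionVars false

namespace Cfsg.Agent.Helper29.KW

open Subgroup
open scoped Pointwise
open Cfsg.Agent.Lead (mem_conj_smul_iff card_conj_smul)

universe u

variable {G : Type u} [Group G] [Finite G]

theorem pgroup_card_coprime {ℓ : ℕ} [hℓ : Fact ℓ.Prime] {E : Subgroup G} (hE : IsPGroup ℓ E)
    {m : ℕ} (hm : ¬ ℓ ∣ m) : (Nat.card E).Coprime m := by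
  obtain ⟨k, hk⟩ := IsPGroup.iff_card.mp hE
  rw [hk]
  exact Nat.Coprime.pow_left k ((Nat.Prime.coprime_iff_not_dvd hℓ.out).mpr hm)

theorem pgroup_dvd_card {ℓ : ℕ} [hℓ : Fact ℓ.Prime] {E : Subgroup G} (hE : IsPGroup ℓ E)
    (hE1 : E ≠ ⊥) : ℓ ∣ Nat.card E := by
  obtain ⟨k, hk⟩ := IsPGroup.iff_card.mp hE
  rw [hk]
  rcases Nat.eq_zero_or_pos k with h0 | h0
  · exfalso
    apply hE1
    rw [← Subgroup.card_eq_one, hk, h0, pow_zero]
  · exact dvd_pow_self ℓ h0.ne'

theorem pgroup_orderOf_coprime {ℓ t : ℕ} [hℓ : Fact ℓ.Prime] {E : Subgroup G}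
    (hE : IsPGroup ℓ E) (ht : t.Prime) (hne : ℓ ≠ t) {e : G} (he : e ∈ E) :
    (orderOf e).Coprime t := by
  obtain ⟨k, hk⟩ := hE ⟨e, he⟩
  have hk' : e ^ ℓ ^ k = 1 := congrArg Subtype.val hk
  apply Nat.Coprime.coprime_dvd_left (orderOf_dvd_of_pow_eq_one hk')
  apply Nat.Coprime.pow_left
  exact (Nat.coprime_primes hℓ.out ht).mpr hne

/-- normal `ℓ`-subgroups of a factorized subgroup lie in `A` when `ℓ` divides `|A|` -/
theorem Setup.normal_pgroup_le_left {A B : Subgroup G} (h : Setup A B) {N E : Subgroup G}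
    (hcard : Nat.card N = Nat.card (N ⊓ A : Subgroup G) * Nat.card (N ⊓ B : Subgroup G))
    (hEN : E ≤ N) {ℓ : ℕ} [Fact ℓ.Prime] (hE : IsPGroup ℓ E)
    (hn : N ≤ normalizer (E : Set G)) (hℓ : ℓ ∣ Nat.card A) : E ≤ A := by
  have hℓ' : ¬ ℓ ∣ Nat.card (N ⊓ B : Subgroup G) := fun hd =>
    h.not_dvd_right (Fact.out) hℓ (dvd_trans hd (Subgroup.card_dvd_of_le inf_le_right))
  have := le_of_coprime (X := N) (A' := N ⊓ A) (B' := N ⊓ B) inf_le_left hcard hEN
    (le_trans inf_le_left hn)
    (Nat.Coprime.coprime_dvd_left (Subgroup.card_dvd_of_le inf_le_right)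
      (Nat.Coprime.coprime_dvd_right (Subgroup.card_dvd_of_le inf_le_right) h.cop))
    (pgroup_card_coprime hE hℓ')
  exact le_trans this inf_le_right

theorem Setup.normal_pgroup_le_right {A B : Subgroup G} (h : Setup A B) {N E : Subgroup G}
    (hcard : Nat.card N = Nat.card (N ⊓ A : Subgroup G) * Nat.card (N ⊓ B : Subgroup G))
    (hEN : E ≤ N) {ℓ : ℕ} [Fact ℓ.Prime] (hE : IsPGroup ℓ E)
    (hn : N ≤ normalizer (E : Set G)) (hℓ : ℓ ∣ Nat.card B) : E ≤ B :=
  h.symm.normal_pgroup_le_left (by rw [hcard, mul_comm]) hEN hE hn hℓ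

/-- powers of an element central in `B` are normalized by `B` -/
theorem zpowers_conj_mem_of_central {B : Subgroup G} {b : G} (hbc : ∀ x ∈ B, x * b = b * x) :
    ∀ β ∈ B, ∀ x ∈ zpowers b, β * x * β⁻¹ ∈ zpowers b := by
  intro β hβ x hx
  have h1 : zpowers b ≤ centralizer (B : Set G) := by
    rw [zpowers_le, mem_centralizer_iff]
    exact hbc
  have := mem_centralizer_iff.mp (h1 hx) β hβ
  rw [this]; simpa using hx

namespace MinCE

/-- cardinality of the factorized normalizer -/
theorem card_normalizer_sup {A B : Subgroup G} (h : Setup A B) {A₀ B₀ : Subgroup G}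
    (hA₀ : A₀ ≤ A) (hB₀ : B₀ ≤ B)
    (hA₀n : ∀ a ∈ A, ∀ x ∈ A₀, a * x * a⁻¹ ∈ A₀) (hB₀n : ∀ b ∈ B, ∀ x ∈ B₀, b * x * b⁻¹ ∈ B₀) :
    Nat.card (normalizer ((A₀ ⊔ B₀ : Subgroup G) : Set G)) =
      Nat.card (normalizer ((A₀ ⊔ B₀ : Subgroup G) : Set G) ⊓ A : Subgroup G) *
      Nat.card (normalizer ((A₀ ⊔ B₀ : Subgroup G) : Set G) ⊓ B : Subgroup G) :=
  card_of_fac inf_le_left inf_le_left (normalizer_sup_fac h hA₀ hB₀ hA₀n hB₀n)
    (inf_inf_eq_bot h _)

/-- P10: a nontrivial Sylow subgroup of `A` and a nontrivial central element of `B`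
generate `G` -/
theorem sylow_sup_zpowers_eq_top (hG : MinCE G) {A B : Subgroup G} (h : Setup A B) {v : ℕ}
    [hv : Fact v.Prime] (V : Sylow v G) (hVA : (V : Subgroup G) ≤ A) (hV1 : (V : Subgroup G) ≠ ⊥)
    {b : G} (hbB : b ∈ B) (hbc : ∀ x ∈ B, x * b = b * x) (hb1 : b ≠ 1) :
    (V : Subgroup G) ⊔ zpowers b = ⊤ := by
  set J : Subgroup G := (V : Subgroup G) ⊔ zpowers b with hJ
  have hVn : ∀ a ∈ A, ∀ x ∈ (V : Subgroup G), a * x * a⁻¹ ∈ (V : Subgroup G) := fun a ha x hx =>
    (mem_normalizer_iff.mp (le_normalizer_sylow h.nilA V hVA ha) x).mp hx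
  have hbn := zpowers_conj_mem_of_central hbc
  have hbB' : zpowers b ≤ B := zpowers_le.mpr hbB
  by_cases hN : normalizer (J : Set G) = ⊤
  · rcases hG.eq_bot_or_top_of_normalizer hN with h1 | h1
    · exact absurd (le_bot_iff.mp (h1 ▸ (le_sup_left : (V : Subgroup G) ≤ J))) hV1
    · exact h1
  · exfalso
    have hsolv := hG.normalizer_sup_solvable h hVA hbB' hVn hbn hN
    have hcard := card_normalizer_sup h hVA hbB' hVn hbn
    set N := normalizer (J : Set G) with hNdef
    have hJN : J ≤ N := le_normalizer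
    have hVN : (V : Subgroup G) ≤ N := le_trans le_sup_left hJN
    have hbN : b ∈ N := hJN (le_sup_right (a := (V : Subgroup G)) (mem_zpowers b))
    -- no nontrivial normal `v`-subgroup
    have hnov : ∀ E : Subgroup G, E ≤ N → IsPGroup v E → N ≤ normalizer (E : Set G) → E = ⊥ := by
      intro E hEN hEv hEn
      by_contra hE1
      have hEV : E ≤ V := le_sylow_of_normalizes V hEv (le_trans hVN hEn)
      have hAM : A ≤ normalizer (E : Set G) := by
        apply le_normalizer_of_conj_mem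
        intro a ha e he
        obtain ⟨x, hx, c, hc, hcp, rfl⟩ := exists_decomp h.nilA V hVA ha
        have hce : e * c = c * e := commute_sylow_of_coprime h.nilA V hVA (hEV he) hc hcp
        have h1 : x * e * x⁻¹ ∈ E := (mem_normalizer_iff.mp (hEn (hVN hx)) e).mp he
        have e1 : x * c * e * (x * c)⁻¹ = x * e * x⁻¹ := by
          rw [mul_inv_rev, mul_assoc x c e, ← hce]; group
        rw [e1]; exact h1
      by_cases hM : normalizer (E : Set G) = ⊤
      · exact hE1 (hG.pgroup_eq_bot_of_normalizer hEv hM)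
      · exact hG.not_mem_of_central h hAM hM hbc hb1 (hEn hbN)
    obtain ⟨x, hxV, hx1⟩ : ∃ x ∈ (V : Subgroup G), x ≠ 1 := by
      by_contra hcon
      push Not at hcon
      exact hV1 ((Subgroup.eq_bot_iff_forall _).mpr hcon)
    obtain ⟨k, hk⟩ := V.isPGroup' ⟨x, hxV⟩
    have hk' : x ^ v ^ k = 1 := congrArg Subtype.val hk
    obtain ⟨E₀, hE₀N, hE₀v, hE₀n, hxE₀⟩ := rel_mem_pcore hsolv (q := v) (hVN hxV) hk' (by
      intro ℓ hℓ E hEN hEℓ hEn e he
      have : Fact ℓ.Prime := ⟨hℓ⟩
      by_cases hE1 : E = ⊥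
      · rw [hE1, mem_bot] at he
        rw [he, mul_one, one_mul]
      · have hd := pgroup_dvd_card hEℓ hE1
        rcases h.prime_dvd hℓ (dvd_trans hd (Subgroup.card_subgroup_dvd_card E)) with hℓA | hℓB
        · have hEA : E ≤ A := h.normal_pgroup_le_left hcard hEN hEℓ hEn hℓA
          by_cases hℓv : ℓ = v
          · subst hℓv
            exact absurd (hnov E hEN hEℓ hEn) hE1
          · exact commute_sylow_of_coprime h.nilA V hVA hxV (hEA he)
              (pgroup_orderOf_coprime hEℓ hv.out hℓv he)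
        · exfalso
          apply hE1
          apply hG.eq_bot_of_normalized h V hVA hV1 _ (le_trans hVN hEn)
          exact pgroup_card_coprime hEℓ (h.symm.not_dvd_right hℓ hℓB))
    have := hnov E₀ hE₀N hE₀v hE₀n
    rw [this, mem_bot] at hxE₀
    exact hx1 hxE₀

/-- auxiliary step for P11 -/
theorem central_pair_aux (hG : MinCE G) {A B : Subgroup G} (h : Setup A B)
    {b : G} (hbB : b ∈ B) (hbc : ∀ x ∈ B, x * b = b * x) (hb1 : b ≠ 1) {N E : Subgroup G}
    (hcard : Nat.card N = Nat.card (N ⊓ A : Subgroup G) * Nat.card (N ⊓ B : Subgroup G))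
    (hbN : b ∈ N) (hEN : E ≤ N) (hE1 : E ≠ ⊥) {ℓ : ℕ} [hℓ : Fact ℓ.Prime] (hEℓ : IsPGroup ℓ E)
    (hEn : N ≤ normalizer (E : Set G)) (hℓA : ℓ ∣ Nat.card A) : False := by
  have hEA : E ≤ A := h.normal_pgroup_le_left hcard hEN hEℓ hEn hℓA
  obtain ⟨r, hr, hrℓ, hrA⟩ := hG.exists_prime_ne h ℓ
  have : Fact r.Prime := ⟨hr⟩
  obtain ⟨R, hRA, hR1⟩ := h.exists_sylow hrA
  have hRn : (R : Subgroup G) ≤ normalizer (E : Set G) := by
    apply le_normalizer_of_conj_mem
    intro y hy e he
    have := commute_sylow_of_coprime h.nilA R hRA hy (hEA he)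
      (pgroup_orderOf_coprime hEℓ hr (Ne.symm hrℓ) he)
    rw [this]; simpa using he
  have hbn : zpowers b ≤ normalizer (E : Set G) := zpowers_le.mpr (hEn hbN)
  have htop := hG.sylow_sup_zpowers_eq_top h R hRA hR1 hbB hbc hb1
  have hM : normalizer (E : Set G) = ⊤ := by
    rw [eq_top_iff, ← htop]
    exact sup_le hRn hbn
  exact hE1 (hG.pgroup_eq_bot_of_normalizer hEℓ hM)

/-- P11: nontrivial central elements of `A` and `B` generate `G` -/
theorem zpowers_sup_zpowers_eq_top (hG : MinCE G) {A B : Subgroup G} (h : Setup A B)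
    {z b : G} (hzA : z ∈ A) (hzc : ∀ x ∈ A, x * z = z * x) (hz1 : z ≠ 1)
    (hbB : b ∈ B) (hbc : ∀ x ∈ B, x * b = b * x) (hb1 : b ≠ 1) :
    zpowers z ⊔ zpowers b = ⊤ := by
  set J : Subgroup G := zpowers z ⊔ zpowers b with hJ
  have hzn := zpowers_conj_mem_of_central hzc
  have hbn := zpowers_conj_mem_of_central hbc
  have hzA' : zpowers z ≤ A := zpowers_le.mpr hzA
  have hbB' : zpowers b ≤ B := zpowers_le.mpr hbB
  have hzJ : z ∈ J := le_sup_left (b := zpowers b) (mem_zpowers z)
  have hbJ : b ∈ J := le_sup_right (a := zpowers z) (mem_zpowers b)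
  by_cases hN : normalizer (J : Set G) = ⊤
  · rcases hG.eq_bot_or_top_of_normalizer hN with h1 | h1
    · rw [h1, mem_bot] at hzJ
      exact absurd hzJ hz1
    · exact h1
  · exfalso
    have hsolv := hG.normalizer_sup_solvable h hzA' hbB' hzn hbn hN
    have hcard := card_normalizer_sup h hzA' hbB' hzn hbn
    set N := normalizer (J : Set G) with hNdef
    have hJN : J ≤ N := le_normalizer
    have hN1 : N ≠ ⊥ := by
      intro hbot
      have := hJN hzJ
      rw [hbot, mem_bot] at this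
      exact hz1 this
    obtain ⟨ℓ, hℓ, E, hEN, hE1, hEℓ, hEn⟩ := rel_exists_normal_pgroup hsolv hN1
    have : Fact ℓ.Prime := ⟨hℓ⟩
    have hd := pgroup_dvd_card hEℓ hE1
    rcases h.prime_dvd hℓ (dvd_trans hd (Subgroup.card_subgroup_dvd_card E)) with hℓA | hℓB
    · exact hG.central_pair_aux h hbB hbc hb1 hcard (hJN hbJ) hEN hE1 hEℓ hEn hℓA
    · exact hG.central_pair_aux h.symm hzA hzc hz1 (by rw [hcard, mul_comm]) (hJN hzJ) hEN hE1
        hEℓ hEn hℓB

/-- existence of a nontrivial central element of `A` -/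
theorem exists_central (hG : MinCE G) {A B : Subgroup G} (h : Setup A B) :
    ∃ z ∈ A, (∀ x ∈ A, x * z = z * x) ∧ z ≠ 1 := by
  have hA := hG.ne_bot_left h
  have hcA : Nat.card A ≠ 1 := fun hc => hA (Subgroup.card_eq_one.mp hc)
  obtain ⟨q, hq, hqA⟩ := Nat.exists_prime_and_dvd hcA
  have : Fact q.Prime := ⟨hq⟩
  obtain ⟨z, hzA, hzc, hzo⟩ := exists_central_of_dvd h.nilA hqA
  refine ⟨z, hzA, hzc, ?_⟩
  intro hz
  rw [hz, orderOf_one] at hzo
  exact hq.one_lt.ne hzo

/-- P11': the centralizer of a nontrivial central element of `A` is `A` -/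
theorem centralizer_central_eq (hG : MinCE G) {A B : Subgroup G} (h : Setup A B)
    {z : G} (hzA : z ∈ A) (hzc : ∀ x ∈ A, x * z = z * x) (hz1 : z ≠ 1) :
    centralizer ({z} : Set G) = A := by
  obtain ⟨b, hbB, hbc, hb1⟩ := hG.exists_central h.symm
  have htop := hG.zpowers_sup_zpowers_eq_top h hzA hzc hz1 hbB hbc hb1
  set Cz := centralizer ({z} : Set G) with hCz
  set Cb := centralizer ({b} : Set G) with hCb
  have hACz : A ≤ Cz := by
    intro x hx
    rw [hCz, mem_centralizer_iff]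
    intro y hy
    rw [Set.mem_singleton_iff] at hy
    subst hy
    exact (hzc x hx).symm
  have hBCb : B ≤ Cb := by
    intro x hx
    rw [hCb, mem_centralizer_iff]
    intro y hy
    rw [Set.mem_singleton_iff] at hy
    subst hy
    exact (hbc x hx).symm
  have hinf : Cz ⊓ Cb = ⊥ := by
    rw [eq_bot_iff, ← hG.center_eq_bot]
    intro g hg
    have hgz : z * g = g * z := mem_centralizer_iff.mp hg.1 z (Set.mem_singleton z)
    have hgb : b * g = g * b := mem_centralizer_iff.mp hg.2 b (Set.mem_singleton b)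
    have hle : zpowers z ⊔ zpowers b ≤ centralizer ({g} : Set G) := by
      apply sup_le
      · rw [zpowers_le, mem_centralizer_iff]
        intro y hy
        rw [Set.mem_singleton_iff] at hy
        subst hy
        exact hgz.symm
      · rw [zpowers_le, mem_centralizer_iff]
        intro y hy
        rw [Set.mem_singleton_iff] at hy
        subst hy
        exact hgb.symm
    rw [htop] at hle
    rw [mem_center_iff]
    intro x
    have := mem_centralizer_iff.mp (hle (mem_top x)) g (Set.mem_singleton g)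
    exact this.symm
  have h1 := Cfsg.Agent.Helper3.card_mul_set_mul_card_inf Cz Cb
  rw [hinf, Subgroup.card_bot, mul_one] at h1
  have h2 : Nat.card ((Cz : Set G) * (Cb : Set G) : Set G) ≤ Nat.card G :=
    Nat.card_le_card_of_injective Subtype.val Subtype.val_injective
  rw [h1, h.card_eq] at h2
  have h3 : Nat.card A ≤ Nat.card Cz := Subgroup.card_le_of_le hACz
  have h4 : Nat.card B ≤ Nat.card Cb := Subgroup.card_le_of_le hBCb
  have h5 : Nat.card Cz ≤ Nat.card A := by
    by_contra hlt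
    push Not at hlt
    have : Nat.card A * Nat.card B < Nat.card Cz * Nat.card Cb :=
      Nat.mul_lt_mul_of_lt_of_le hlt h4 Nat.card_pos
    omega
  exact (Subgroup.eq_of_le_of_card_ge hACz h5).symm

/-- P12: an element conjugating a central element of prime order of `A` into `A`
normalizes `A` -/
theorem mem_normalizer_of_conj_central (hG : MinCE G) {A B : Subgroup G} (h : Setup A B)
    {z : G} (hzA : z ∈ A) (hzc : ∀ x ∈ A, x * z = z * x) {p : ℕ} [hp : Fact p.Prime]
    (hzo : orderOf z = p) {g : G} (hg : g⁻¹ * z * g ∈ A) : g ∈ normalizer (A : Set G) := by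
  have hz1 : z ≠ 1 := by
    intro hz
    rw [hz, orderOf_one] at hzo
    exact hp.out.one_lt.ne hzo
  obtain ⟨u, hu, hup, huA⟩ := hG.exists_prime_ne h p
  have : Fact u.Prime := ⟨hu⟩
  obtain ⟨U, hUA, hU1⟩ := h.exists_sylow huA
  have hcent := hG.centralizer_central_eq h hzA hzc hz1
  have hzo' : (orderOf (g⁻¹ * z * g)).Coprime u := by
    have : (g⁻¹ * z * g) ^ p = 1 := by
      have := conj_pow (a := g⁻¹) (b := z) (i := p)
      rw [inv_inv] at this
      rw [this, ← hzo, pow_orderOf_eq_one]; group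
    apply Nat.Coprime.coprime_dvd_left (orderOf_dvd_of_pow_eq_one this)
    exact (Nat.coprime_primes hp.out hu).mpr (Ne.symm hup)
  have hgU : g ∈ normalizer ((U : Subgroup G) : Set G) := by
    apply mem_normalizer_of_conj_mem
    intro y hy
    have hcomm := commute_sylow_of_coprime h.nilA U hUA hy hg hzo'
    have hyA : g * y * g⁻¹ ∈ A := by
      rw [← hcent, mem_centralizer_iff]
      intro w hw
      rw [Set.mem_singleton_iff] at hw
      subst hw
      calc w * (g * y * g⁻¹) = g * ((g⁻¹ * w * g) * y) * g⁻¹ := by group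
        _ = g * (y * (g⁻¹ * w * g)) * g⁻¹ := by rw [hcomm]
        _ = g * y * g⁻¹ * w := by group
    obtain ⟨k, hk⟩ := U.isPGroup' ⟨y, hy⟩
    have hk' : y ^ u ^ k = 1 := congrArg Subtype.val hk
    apply mem_sylow_of_mem h.nilA U hUA hyA (k := k)
    rw [conj_pow, hk']; group
  rwa [hG.normalizer_sylow_eq h U hUA hU1] at hgU

theorem mem_centralizer_singleton {x y : G} :
    x ∈ centralizer ({y} : Set G) ↔ y * x = x * y := by
  rw [mem_centralizer_iff]
  constructor
  · intro hx
    exact hx y (Set.mem_singleton y)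
  · intro hx w hw
    rw [Set.mem_singleton_iff] at hw
    subst hw
    exact hx

/-- P13: the centralizer of an element of prime order of `B ∩ N(A)` normalizes `B` -/
theorem centralizer_le_normalizer_right (hG : MinCE G) {A B : Subgroup G} (h : Setup A B)
    {y : G} (hyB : y ∈ B) (hyN : y ∈ normalizer (A : Set G)) {s : ℕ} [hs : Fact s.Prime]
    (hyo : orderOf y = s) : centralizer ({y} : Set G) ≤ normalizer (B : Set G) := by
  have hy1 : y ≠ 1 := by
    intro hy
    rw [hy, orderOf_one] at hyo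
    exact hs.out.one_lt.ne hyo
  set X := centralizer ({y} : Set G) with hX
  -- factorization of `X`
  have hXfac : ∀ g ∈ X, ∃ β ∈ X ⊓ B, ∃ α ∈ X ⊓ A, g = β * α := by
    intro g hg
    obtain ⟨β, hβ, α, hα, rfl⟩ := h.symm.fac g
    have hgy : y * (β * α) = β * α * y := mem_centralizer_singleton.mp hg
    have e1 : α * y * α⁻¹ = β⁻¹ * y * β := by
      calc α * y * α⁻¹ = β⁻¹ * (β * α * y) * α⁻¹ := by group
        _ = β⁻¹ * (y * (β * α)) * α⁻¹ := by rw [hgy]
        _ = β⁻¹ * y * β := by group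
    have hwA : α * y * α⁻¹ * y⁻¹ ∈ A := by
      have h1 : y * α⁻¹ * y⁻¹ ∈ A := (mem_normalizer_iff.mp hyN α⁻¹).mp (A.inv_mem hα)
      have := A.mul_mem hα h1
      convert this using 1; group
    have hwB : α * y * α⁻¹ * y⁻¹ ∈ B := by
      rw [e1]
      exact B.mul_mem (B.mul_mem (B.mul_mem (B.inv_mem hβ) hyB) hβ) (B.inv_mem hyB)
    have hw1 : α * y * α⁻¹ * y⁻¹ = 1 := by
      have : α * y * α⁻¹ * y⁻¹ ∈ A ⊓ B := ⟨hwA, hwB⟩
      rwa [h.inf_eq_bot, mem_bot] at this
    have hαy : y * α = α * y := by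
      have : α * y = (α * y * α⁻¹ * y⁻¹) * (y * α) := by group
      rw [this, hw1, one_mul]
    have hαX : α ∈ X := mem_centralizer_singleton.mpr hαy
    have hβX : β ∈ X := by
      have : β = β * α * α⁻¹ := by group
      rw [this]
      exact X.mul_mem hg (X.inv_mem hαX)
    exact ⟨β, ⟨hβX, hβ⟩, α, ⟨hαX, hα⟩, rfl⟩
  have hXtop : X ≠ ⊤ := by
    intro hXt
    apply hy1
    have : y ∈ center G := by
      rw [mem_center_iff]
      intro g
      have : g ∈ X := by rw [hXt]; trivial
      exact (mem_centralizer_singleton.mp this).symm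
    rwa [hG.center_eq_bot, mem_bot] at this
  have hsolv : Group.IsSolvable X :=
    hG.solvable_of_fac h.symm inf_le_right inf_le_right inf_le_left inf_le_left hXfac hXtop
  have hcard : Nat.card X = Nat.card (X ⊓ B : Subgroup G) * Nat.card (X ⊓ A : Subgroup G) :=
    card_of_fac inf_le_left inf_le_left hXfac (inf_inf_eq_bot h.symm _)
  -- a Sylow subgroup of `B` inside `X`
  obtain ⟨t, ht, hts, htB⟩ := hG.exists_prime_ne h.symm s
  have : Fact t.Prime := ⟨ht⟩
  obtain ⟨T, hTB, hT1⟩ := h.symm.exists_sylow htB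
  have hTX : (T : Subgroup G) ≤ X := by
    intro x hx
    rw [hX, mem_centralizer_singleton]
    have := commute_sylow_of_coprime h.nilB T hTB hx hyB
      (by rw [hyo]; exact (Nat.coprime_primes hs.out ht).mpr (Ne.symm hts))
    exact this.symm
  -- a central element of `B` of prime order
  have hcB : Nat.card B ≠ 1 := fun hc => hG.ne_bot_right h (Subgroup.card_eq_one.mp hc)
  obtain ⟨q, hq, hqB⟩ := Nat.exists_prime_and_dvd hcB
  have : Fact q.Prime := ⟨hq⟩
  obtain ⟨b, hbB, hbc, hbo⟩ := exists_central_of_dvd h.nilB hqB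
  have hbX : b ∈ X := mem_centralizer_singleton.mpr (hbc y hyB)
  have hbq : b ^ q ^ 1 = 1 := by rw [pow_one, ← hbo, pow_orderOf_eq_one]
  obtain ⟨E₀, hE₀X, hE₀q, hE₀n, hbE₀⟩ := rel_mem_pcore hsolv (q := q) hbX hbq (by
    intro ℓ hℓ E hEX hEℓ hEn e he
    have : Fact ℓ.Prime := ⟨hℓ⟩
    by_cases hE1 : E = ⊥
    · rw [hE1, mem_bot] at he
      rw [he, mul_one, one_mul]
    · have hd := pgroup_dvd_card hEℓ hE1
      rcases h.prime_dvd hℓ (dvd_trans hd (Subgroup.card_subgroup_dvd_card E)) with hℓA | hℓB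
      · exfalso
        apply hE1
        apply hG.eq_bot_of_normalized h.symm T hTB hT1 _ (le_trans hTX hEn)
        exact pgroup_card_coprime hEℓ (h.not_dvd_right hℓ hℓA)
      · have hEB : E ≤ B := h.symm.normal_pgroup_le_left hcard hEX hEℓ hEn hℓB
        exact (hbc e (hEB he)).symm)
  have hE₀B : E₀ ≤ B := h.symm.normal_pgroup_le_left hcard hE₀X hE₀q hE₀n hqB
  intro η hη
  have h1 : η * b * η⁻¹ ∈ B := hE₀B ((mem_normalizer_iff.mp (hE₀n hη) b).mp hbE₀)
  have h2 : η⁻¹ ∈ normalizer (B : Set G) := by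
    apply hG.mem_normalizer_of_conj_central h.symm hbB hbc hbo
    rw [inv_inv]; exact h1
  have := inv_mem h2
  rwa [inv_inv] at this

/-- a central element of `A` of each prime order dividing `|A|`, nontrivial -/
theorem exists_central_prime (hG : MinCE G) {A B : Subgroup G} (h : Setup A B) {p : ℕ}
    [hp : Fact p.Prime] (hpA : p ∣ Nat.card A) :
    ∃ z ∈ A, (∀ x ∈ A, x * z = z * x) ∧ orderOf z = p ∧ z ≠ 1 := by
  obtain ⟨z, hzA, hzc, hzo⟩ := exists_central_of_dvd h.nilA hpA
  refine ⟨z, hzA, hzc, hzo, ?_⟩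
  intro hz
  rw [hz, orderOf_one] at hzo
  exact hp.out.one_lt.ne hzo

/-- P14: the centralizer of an element of prime order of `A` normalizes `A` -/
theorem centralizer_le_normalizer_left (hG : MinCE G) {A B : Subgroup G} (h : Setup A B)
    {α : G} (hαA : α ∈ A) {r : ℕ} [hr : Fact r.Prime] (hαo : orderOf α = r) :
    centralizer ({α} : Set G) ≤ normalizer (A : Set G) := by
  set X := centralizer ({α} : Set G) with hX
  by_cases hcase : ∃ y ∈ X ⊓ normalizer (A : Set G), y ≠ 1 ∧ (orderOf y).Coprime (Nat.card A)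
  · -- case 1
    obtain ⟨y, hy, hy1, hyc⟩ := hcase
    have hyo1 : orderOf y ≠ 1 := fun ho => hy1 (orderOf_eq_one_iff.mp ho)
    obtain ⟨s, hs, hsd⟩ := Nat.exists_prime_and_dvd hyo1
    have : Fact s.Prime := ⟨hs⟩
    set y' := y ^ (orderOf y / s) with hy'
    have hy'o : orderOf y' = s :=
      orderOf_pow_orderOf_div (orderOf_pos y).ne' hsd
    have hy'mem : y' ∈ X ⊓ normalizer (A : Set G) := pow_mem hy _
    have hsA : (Nat.card (zpowers y')).Coprime (Nat.card A) := by
      rw [Nat.card_zpowers, hy'o]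
      exact Nat.Coprime.coprime_dvd_left hsd hyc
    obtain ⟨x, hx⟩ := h.exists_conj_ge hsA
    set B' := MulAut.conj x • B with hB'
    have h' : Setup A B' := h.conj_right x
    have hy'B' : y' ∈ B' := hx (mem_zpowers y')
    have h1 := hG.centralizer_le_normalizer_right h' hy'B' hy'mem.2 hy'o
    have hαy' : α ∈ centralizer ({y'} : Set G) := by
      rw [mem_centralizer_singleton]
      exact (mem_centralizer_singleton.mp hy'mem.1).symm
    exact hG.centralizer_le_normalizer_right h'.symm hαA (h1 hαy') hαo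
  · -- case 2
    push Not at hcase
    have hDA : X ⊓ normalizer (A : Set G) ≤ A := by
      apply h.le_of_normalizes inf_le_right
      apply Nat.coprime_of_dvd
      intro q hq hqD hqB
      have : Fact q.Prime := ⟨hq⟩
      obtain ⟨y, hy⟩ := exists_prime_orderOf_dvd_card'
        (G := (X ⊓ normalizer (A : Set G) : Subgroup G)) q hqD
      have hyo : orderOf (y : G) = q := by rw [Subgroup.orderOf_coe, hy]
      have hy1 : (y : G) ≠ 1 := by
        intro h1
        rw [h1, orderOf_one] at hyo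
        exact hq.one_lt.ne hyo
      apply hcase (y : G) y.2 hy1
      rw [hyo]
      exact (Nat.Prime.coprime_iff_not_dvd hq).mpr (h.symm.not_dvd_right hq hqB)
    set H : Subgroup G := X ⊓ A with hH
    have hzH : ∀ z ∈ A, (∀ x ∈ A, x * z = z * x) → z ∈ H := by
      intro z hzA hzc
      exact ⟨mem_centralizer_singleton.mpr (hzc α hαA), hzA⟩
    obtain ⟨K, hKX, hKn, hKH, hKcard⟩ := rel_normal_complement (X := X) (H := H) inf_le_left
      (nilpotent_of_le inf_le_right h.nilA)
      (by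
        intro p hp hHp
        have : Fact p.Prime := ⟨hp⟩
        obtain ⟨u, hu, hup, huA⟩ := hG.exists_prime_ne h p
        have : Fact u.Prime := ⟨hu⟩
        obtain ⟨z, hzA, hzc, hzo, hz1⟩ := hG.exists_central_prime h huA
        have := pgroup_orderOf_coprime hHp hu (Ne.symm hup) (hzH z hzA hzc)
        rw [hzo, Nat.coprime_self] at this
        exact hu.one_lt.ne' this)
      (by
        intro p hp hpH g hgX hg
        have : Fact p.Prime := ⟨hp⟩
        have hpA : p ∣ Nat.card A := dvd_trans hpH (Subgroup.card_dvd_of_le inf_le_right)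
        obtain ⟨z, hzA, hzc, hzo, hz1⟩ := hG.exists_central_prime h hpA
        have h1 : g * z * g⁻¹ ∈ H := hg z (hzH z hzA hzc) ⟨1, by
          rw [pow_one, ← hzo, pow_orderOf_eq_one]⟩
        have h2 : g⁻¹ ∈ normalizer (A : Set G) := by
          apply hG.mem_normalizer_of_conj_central h hzA hzc hzo
          rw [inv_inv]; exact h1.2
        have h3 : g ∈ normalizer (A : Set G) := by
          have := inv_mem h2
          rwa [inv_inv] at this
        exact ⟨hgX, hDA ⟨hgX, h3⟩⟩)
    -- `|K|` is prime to `|A|`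
    have hKcop : (Nat.card K).Coprime (Nat.card A) := by
      apply Nat.coprime_of_dvd
      intro p hp hpK hpA
      have : Fact p.Prime := ⟨hp⟩
      obtain ⟨z, hzA, hzc, hzo, hz1⟩ := hG.exists_central_prime h hpA
      have hzX : z ∈ X := (hzH z hzA hzc).1
      have hmod := Cfsg.Agent.Helper5.card_modEq_one_of_fixedPointFree K p z hzo (hKn hzX) (by
        intro k hk hzk
        have hkA : k ∈ A := by
          rw [← hG.centralizer_central_eq h hzA hzc hz1, mem_centralizer_singleton]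
          exact hzk
        have : k ∈ K ⊓ H := ⟨hk, hKX hk, hkA⟩
        rwa [hKH, mem_bot] at this)
      have h0 : Nat.card K % p = 0 := Nat.mod_eq_zero_of_dvd hpK
      rw [Nat.ModEq, h0, Nat.mod_eq_of_lt hp.one_lt] at hmod
      exact absurd hmod (by norm_num)
    obtain ⟨u, hu, hur, huA⟩ := hG.exists_prime_ne h r
    have : Fact u.Prime := ⟨hu⟩
    obtain ⟨U, hUA, hU1⟩ := h.exists_sylow huA
    have hUX : (U : Subgroup G) ≤ X := by
      intro x hx
      rw [hX, mem_centralizer_singleton]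
      have := commute_sylow_of_coprime h.nilA U hUA hx hαA
        (by rw [hαo]; exact (Nat.coprime_primes hr.out hu).mpr (Ne.symm hur))
      exact this.symm
    have hK1 : K = ⊥ := hG.eq_bot_of_normalized h U hUA hU1 hKcop (le_trans hUX hKn)
    rw [hK1, Subgroup.card_bot, one_mul] at hKcard
    have hHX : H = X := Subgroup.eq_of_le_of_card_ge inf_le_left hKcard.ge
    intro g hg
    rw [← hHX] at hg
    exact le_normalizer hg.2

/-- P15: `A` is a trivial intersection subgroup in the strong sense -/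
theorem mem_normalizer_of_conj_mem_left (hG : MinCE G) {A B : Subgroup G} (h : Setup A B)
    {α g : G} (hαA : α ∈ A) (hα1 : α ≠ 1) (hg : g⁻¹ * α * g ∈ A) :
    g ∈ normalizer (A : Set G) := by
  have hαo1 : orderOf α ≠ 1 := fun ho => hα1 (orderOf_eq_one_iff.mp ho)
  obtain ⟨r, hr, hrd⟩ := Nat.exists_prime_and_dvd hαo1
  have : Fact r.Prime := ⟨hr⟩
  set α₀ := α ^ (orderOf α / r) with hα₀
  have hα₀o : orderOf α₀ = r := orderOf_pow_orderOf_div (orderOf_pos α).ne' hrd
  have hα₀A : α₀ ∈ A := pow_mem hαA _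
  have hg₀ : g⁻¹ * α₀ * g ∈ A := by
    have := conj_pow (a := g⁻¹) (b := α) (i := orderOf α / r)
    rw [inv_inv] at this
    rw [hα₀, ← this]
    exact pow_mem hg _
  have hA := hG.ne_bot_left h
  have hcA : Nat.card A ≠ 1 := fun hc => hA (Subgroup.card_eq_one.mp hc)
  obtain ⟨p, hp, hpA⟩ := Nat.exists_prime_and_dvd hcA
  have : Fact p.Prime := ⟨hp⟩
  obtain ⟨z, hzA, hzc, hzo, hz1⟩ := hG.exists_central_prime h hpA
  have hcomm : (g⁻¹ * α₀ * g) * z = z * (g⁻¹ * α₀ * g) := hzc _ hg₀
  have h1 : g * z * g⁻¹ ∈ centralizer ({α₀} : Set G) := by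
    rw [mem_centralizer_singleton]
    calc α₀ * (g * z * g⁻¹) = g * ((g⁻¹ * α₀ * g) * z) * g⁻¹ := by group
      _ = g * (z * (g⁻¹ * α₀ * g)) * g⁻¹ := by rw [hcomm]
      _ = g * z * g⁻¹ * α₀ := by group
  have h2 : g * z * g⁻¹ ∈ normalizer (A : Set G) :=
    hG.centralizer_le_normalizer_left h hα₀A hα₀o h1
  have h3 : zpowers (g * z * g⁻¹) ≤ A := by
    apply h.le_of_normalizes (zpowers_le.mpr h2)
    rw [Nat.card_zpowers]
    have : (g * z * g⁻¹) ^ p = 1 := by
      rw [conj_pow, ← hzo, pow_orderOf_eq_one]; group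
    apply Nat.Coprime.coprime_dvd_left (orderOf_dvd_of_pow_eq_one this)
    exact (Nat.Prime.coprime_iff_not_dvd hp).mpr (h.not_dvd_right hp hpA)
  have h4 : g⁻¹ ∈ normalizer (A : Set G) := by
    apply hG.mem_normalizer_of_conj_central h hzA hzc hzo
    rw [inv_inv]; exact h3 (mem_zpowers _)
  have := inv_mem h4
  rwa [inv_inv] at this

end MinCE

end Cfsg.Agent.Helper29.KW
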