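import Mathlib

set_option autoImplicit false
set_option linter.unusedSectionVars false

namespace Cfsg.Agent.Helper29.KW

open Subgroup

universe u

variable {G : Type u} [Group G] [Finite G]

/-- counting conjugates: if conjugating an element of `M` into `M` forces the conjugator into
`N`, then `|G| |M| ≤ |N| |C|` where `C` contains all conjugates of elements of `M` -/
theorem card_mul_le_of_conj {M C : Set G} {N : Subgroup G}
    (h1 : ∀ g : G, ∀ x ∈ M, g * x * g⁻¹ ∈ C)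
    (h2 : ∀ x ∈ M, ∀ h : G, h * x * h⁻¹ ∈ M → h ∈ N) :
    Nat.card G * Nat.card M ≤ Nat.card N * Nat.card C := by
  rcases isEmpty_or_nonempty M with hM | hM
  · rw [Nat.card_of_isEmpty (α := M), mul_zero]; exact Nat.zero_le _
  · rw [← Nat.card_prod, ← Nat.card_prod]
    let f : G × M → G := fun p => p.1 * p.2.1 * p.1⁻¹
    have hinv : ∀ p : G × M, f (Function.invFun f (f p)) = f p := fun p =>
      Function.invFun_eq ⟨p, rfl⟩
    have hmem : ∀ p : G × M, (Function.invFun f (f p)).1⁻¹ * p.1 ∈ N := by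
      intro p
      set q := Function.invFun f (f p) with hq
      apply h2 p.2.1 p.2.2
      have hq' : q.1 * q.2.1 * q.1⁻¹ = p.1 * p.2.1 * p.1⁻¹ := hinv p
      have : q.1⁻¹ * p.1 * p.2.1 * (q.1⁻¹ * p.1)⁻¹ = q.2.1 := by
        calc q.1⁻¹ * p.1 * p.2.1 * (q.1⁻¹ * p.1)⁻¹ = q.1⁻¹ * (p.1 * p.2.1 * p.1⁻¹) * q.1 := by group
          _ = q.1⁻¹ * (q.1 * q.2.1 * q.1⁻¹) * q.1 := by rw [hq']
          _ = q.2.1 := by group
      rw [this]; exact q.2.2
    let φ : G × M → N × C := fun p =>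
      (⟨(Function.invFun f (f p)).1⁻¹ * p.1, hmem p⟩, ⟨f p, h1 p.1 p.2.1 p.2.2⟩)
    apply Nat.card_le_card_of_injective φ
    intro p p' hpp
    have e1 : f p = f p' := congrArg (fun z => (z.2 : G)) hpp
    have e2 : (Function.invFun f (f p)).1⁻¹ * p.1 = (Function.invFun f (f p')).1⁻¹ * p'.1 :=
      congrArg (fun z => (z.1 : G)) hpp
    rw [e1] at e2
    have e3 : p.1 = p'.1 := mul_left_cancel e2
    have e4 : p.1 * p.2.1 * p.1⁻¹ = p'.1 * p'.2.1 * p'.1⁻¹ := e1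
    rw [e3] at e4
    have e5 : p.2.1 = p'.2.1 := by
      have := mul_right_cancel e4
      exact mul_left_cancel this
    exact Prod.ext e3 (Subtype.ext e5)

/-- counting conjugates from the other side: if every element of `C` is an `H`-conjugate of an
element of `M` and `K ≤ H` stabilizes `M` under conjugation, then `|C| |K| ≤ |H| |M|` -/
theorem card_mul_le_of_conj' {M C : Set G} {H K : Subgroup G} (hKH : K ≤ H)
    (h1 : ∀ c ∈ C, ∃ h ∈ H, ∃ x ∈ M, c = h * x * h⁻¹)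
    (h2 : ∀ n ∈ K, ∀ x ∈ M, n⁻¹ * x * n ∈ M) :
    Nat.card C * Nat.card K ≤ Nat.card H * Nat.card M := by
  rw [← Nat.card_prod, ← Nat.card_prod]
  choose! hh hhH xx hxM hc using h1
  let φ : C × K → H × M := fun p =>
    (⟨hh p.1.1 * p.2.1, H.mul_mem (hhH _ p.1.2) (hKH p.2.2)⟩,
      ⟨p.2.1⁻¹ * xx p.1.1 * p.2.1, h2 _ p.2.2 _ (hxM _ p.1.2)⟩)
  apply Nat.card_le_card_of_injective φ
  intro p p' hpp
  have e1 : hh p.1.1 * p.2.1 = hh p'.1.1 * p'.2.1 := congrArg (fun z => (z.1 : G)) hpp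
  have e2 : p.2.1⁻¹ * xx p.1.1 * p.2.1 = p'.2.1⁻¹ * xx p'.1.1 * p'.2.1 :=
    congrArg (fun z => (z.2 : G)) hpp
  have e3 : p.1.1 = p'.1.1 := by
    rw [hc _ p.1.2, hc _ p'.1.2]
    calc hh p.1.1 * xx p.1.1 * (hh p.1.1)⁻¹
        = (hh p.1.1 * p.2.1) * (p.2.1⁻¹ * xx p.1.1 * p.2.1) * (hh p.1.1 * p.2.1)⁻¹ := by group
      _ = (hh p'.1.1 * p'.2.1) * (p'.2.1⁻¹ * xx p'.1.1 * p'.2.1) * (hh p'.1.1 * p'.2.1)⁻¹ := by
        rw [e1, e2]
      _ = hh p'.1.1 * xx p'.1.1 * (hh p'.1.1)⁻¹ := by group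
  rw [e3] at e1
  have e4 : p.2.1 = p'.2.1 := mul_left_cancel e1
  exact Prod.ext (Subtype.ext e3) (Subtype.ext e4)

end Cfsg.Agent.Helper29.KW
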