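import Mathlib
import Cfsg.Agent.Helper29.KWCoprime2
import Cfsg.Agent.Helper29.KWCount

set_option autoImplicit false
set_option linter.unusedSectionVars false

namespace Cfsg.Agent.Helper29.KW

open Subgroup
open scoped Pointwise
open Cfsg.Agent.Lead (mem_conj_smul_iff card_conj_smul)

universe u

variable {G : Type u} [Group G] [Finite G]

theorem orderOf_conj_eq (g x : G) : orderOf (g * x * g⁻¹) = orderOf x := by
  have := (MulAut.conj g).orderOf_eq x
  rwa [MulAut.conj_apply] at this

/-- splitting a set containing `1` by element orders -/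
theorem ncard_split (S : Set G) (h1 : (1 : G) ∈ S) (a : ℕ) :
    S.ncard = 1 + {g | g ∈ S ∧ g ≠ 1 ∧ (orderOf g).Coprime a}.ncard +
      {g | g ∈ S ∧ ¬ (orderOf g).Coprime a}.ncard := by
  set SB : Set G := {g | g ∈ S ∧ g ≠ 1 ∧ (orderOf g).Coprime a} with hSB
  set SA : Set G := {g | g ∈ S ∧ ¬ (orderOf g).Coprime a} with hSA
  have hS : S = insert 1 (SB ∪ SA) := by
    ext g
    simp only [Set.mem_insert_iff, Set.mem_union, hSB, hSA, Set.mem_ofPred_eq]
    constructor
    · intro hg
      by_cases hg1 : g = 1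
      · exact Or.inl hg1
      · by_cases hc : (orderOf g).Coprime a
        · exact Or.inr (Or.inl ⟨hg, hg1, hc⟩)
        · exact Or.inr (Or.inr ⟨hg, hc⟩)
    · rintro (rfl | ⟨hg, -, -⟩ | ⟨hg, -⟩)
      · exact h1
      · exact hg
      · exact hg
  have hdisj : Disjoint SB SA := by
    rw [Set.disjoint_left]
    rintro g ⟨-, -, hc⟩ ⟨-, hnc⟩
    exact hnc hc
  have h1n : (1 : G) ∉ SB ∪ SA := by
    rintro (⟨-, h, -⟩ | ⟨-, h⟩)
    · exact h rfl
    · apply h
      rw [orderOf_one]
      exact Nat.coprime_one_left a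
  rw [hS, Set.ncard_insert_of_notMem h1n, Set.ncard_union_eq hdisj]
  ring

theorem card_ne_one_add_one (H : Subgroup G) :
    Nat.card {x : G | x ∈ H ∧ x ≠ 1} + 1 = Nat.card H := by
  have : {x : G | x ∈ H ∧ x ≠ 1} = (H : Set G) \ {1} := by
    ext x
    simp
  rw [this, Nat.card_coe_set_eq, Set.ncard_sdiff_singleton_add_one (H.one_mem),
    ← Nat.card_coe_set_eq]
  rfl

namespace Setup

theorem card_normalizer_left {A B : Subgroup G} (h : Setup A B) :
    Nat.card (normalizer (A : Set G)) =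
      Nat.card A * Nat.card (B ⊓ normalizer (A : Set G) : Subgroup G) := by
  apply card_of_fac le_normalizer inf_le_right (h.dedekind le_normalizer)
  rw [eq_bot_iff, ← h.inf_eq_bot]
  exact inf_le_inf le_rfl inf_le_left

/-- elements of prime order `p ∣ |A|` of `N(A)` lie in `A` -/
theorem mem_of_orderOf_prime {A B : Subgroup G} (h : Setup A B) {x : G}
    (hx : x ∈ normalizer (A : Set G)) {p : ℕ} (hp : p.Prime) (hpA : p ∣ Nat.card A)
    (hxo : orderOf x = p) : x ∈ A := by
  have : zpowers x ≤ A := by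
    apply h.le_of_normalizes (zpowers_le.mpr hx)
    rw [Nat.card_zpowers, hxo]
    exact (Nat.Prime.coprime_iff_not_dvd hp).mpr (h.not_dvd_right hp hpA)
  exact this (mem_zpowers x)

end Setup

namespace MinCE

theorem normalizer_right_ne_top (hG : MinCE G) {A B : Subgroup G} (h : Setup A B) :
    normalizer (B : Set G) ≠ ⊤ := by
  intro hN
  rcases hG.eq_bot_or_top_of_normalizer hN with h1 | h1
  · exact hG.ne_bot_right h h1
  · apply hG.ne_bot_left h
    rw [← Subgroup.card_eq_one]
    have := h.card_eq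
    rw [h1, Subgroup.card_top] at this
    have hpos : 0 < Nat.card G := Nat.card_pos
    nlinarith

/-- the final counting contradiction -/
theorem elim (hG : MinCE G) {A B : Subgroup G} (h : Setup A B) : False := by
  set N₁ := normalizer (A : Set G) with hN₁
  set N₂ := normalizer (B : Set G) with hN₂
  set a := Nat.card A with ha
  set b := Nat.card B with hb
  set a₀ := Nat.card (A ⊓ N₂ : Subgroup G) with ha₀
  set b₀ := Nat.card (B ⊓ N₁ : Subgroup G) with hb₀
  have hcardG : Nat.card G = a * b := h.card_eq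
  have hcardN₁ : Nat.card N₁ = a * b₀ := h.card_normalizer_left
  have hcardN₂ : Nat.card N₂ = b * a₀ := h.symm.card_normalizer_left
  have hapos : 0 < a := Nat.card_pos
  have hbpos : 0 < b := Nat.card_pos
  have ha₀le : a₀ ≤ a := Subgroup.card_le_of_le inf_le_left
  have hb₀le : b₀ ≤ b := Subgroup.card_le_of_le inf_le_left
  -- the sets
  set MB : Set G := {x | x ∈ B ∧ x ≠ 1} with hMB
  set CB : Set G := {g | g ∈ (Set.univ : Set G) ∧ g ≠ 1 ∧ (orderOf g).Coprime a} with hCB
  set CA : Set G := {g | g ∈ (Set.univ : Set G) ∧ ¬ (orderOf g).Coprime a} with hCA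
  set MA : Set G := {g | g ∈ (N₁ : Set G) ∧ ¬ (orderOf g).Coprime a} with hMA
  set CT : Set G := {g | g ∈ (N₁ : Set G) ∧ g ≠ 1 ∧ (orderOf g).Coprime a} with hCT
  set MT : Set G := {x | x ∈ (B ⊓ N₁ : Subgroup G) ∧ x ≠ 1} with hMT
  have hMBcard : Nat.card MB + 1 = b := card_ne_one_add_one B
  have hMTcard : Nat.card MT + 1 = b₀ := card_ne_one_add_one (B ⊓ N₁)
  -- (v)
  have hv : a * b = 1 + Nat.card CB + Nat.card CA := by
    have := ncard_split (Set.univ : Set G) (Set.mem_univ _) a
    rw [Set.ncard_univ, hcardG] at this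
    rw [Nat.card_coe_set_eq, Nat.card_coe_set_eq]
    exact this
  -- (iv)
  have hiv : a * b₀ = 1 + Nat.card CT + Nat.card MA := by
    have := ncard_split (N₁ : Set G) N₁.one_mem a
    rw [← hcardN₁, Nat.card_coe_set_eq, Nat.card_coe_set_eq]
    rw [← this, ← Nat.card_coe_set_eq]
    rfl
  -- (i)
  have hi : Nat.card G * Nat.card MB ≤ Nat.card N₂ * Nat.card CB := by
    apply card_mul_le_of_conj
    · rintro g x ⟨hxB, hx1⟩
      refine ⟨Set.mem_univ _, ?_, ?_⟩
      · intro hc
        apply hx1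
        have : x = g⁻¹ * (g * x * g⁻¹) * g := by group
        rw [this, hc]; group
      · rw [orderOf_conj_eq]
        exact Nat.Coprime.coprime_dvd_left (Subgroup.orderOf_dvd_natCard B hxB) h.cop.symm
    · rintro x ⟨hxB, hx1⟩ g ⟨hgB, -⟩
      have : g⁻¹ ∈ N₂ := by
        apply hG.mem_normalizer_of_conj_mem_left h.symm hxB hx1
        rw [inv_inv]; exact hgB
      have := inv_mem this
      rwa [inv_inv] at this
  -- (ii)
  have hii : Nat.card G * Nat.card MA ≤ Nat.card N₁ * Nat.card CA := by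
    apply card_mul_le_of_conj
    · rintro g x ⟨-, hxc⟩
      refine ⟨Set.mem_univ _, ?_⟩
      rw [orderOf_conj_eq]; exact hxc
    · rintro x ⟨hxN, hxc⟩ g ⟨hgN, -⟩
      obtain ⟨p, hp, hpx, hpa⟩ := Nat.Prime.not_coprime_iff_dvd.mp hxc
      set k := orderOf x / p with hk
      have hxo : orderOf (x ^ k) = p := orderOf_pow_orderOf_div (orderOf_pos x).ne' hpx
      have hx₁A : x ^ k ∈ A := h.mem_of_orderOf_prime (pow_mem hxN k) hp hpa hxo
      have hx₁1 : x ^ k ≠ 1 := by
        intro h1
        rw [h1, orderOf_one] at hxo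
        exact hp.one_lt.ne hxo
      have hconj : g * x ^ k * g⁻¹ ∈ A := by
        apply h.mem_of_orderOf_prime _ hp hpa
        · rw [orderOf_conj_eq]; exact hxo
        · rw [← conj_pow]
          exact pow_mem hgN k
      have : g⁻¹ ∈ N₁ := by
        apply hG.mem_normalizer_of_conj_mem_left h hx₁A hx₁1
        rw [inv_inv]; exact hconj
      have := inv_mem this
      rwa [inv_inv] at this
  -- (iii)
  have hiii : Nat.card CT * Nat.card (A ⊓ N₂ : Subgroup G) ≤ Nat.card A * Nat.card MT := by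
    apply card_mul_le_of_conj' inf_le_left
    · rintro c ⟨hcN, hc1, hcc⟩
      have hW : (Nat.card (zpowers c)).Coprime (Nat.card A) := by
        rw [Nat.card_zpowers]; exact hcc
      obtain ⟨x, hx⟩ := h.exists_conj_ge hW
      obtain ⟨α, hα, β, hβ, rfl⟩ := h.fac x
      have hcx := hx (mem_zpowers c)
      rw [mem_conj_smul_iff] at hcx
      have hαc : α⁻¹ * c * α ∈ B := by
        have := B.mul_mem (B.mul_mem hβ hcx) (B.inv_mem hβ)
        convert this using 1; group
      have hαN : α ∈ N₁ := le_normalizer hα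
      refine ⟨α, hα, α⁻¹ * c * α, ⟨⟨hαc, ?_⟩, ?_⟩, by group⟩
      · exact N₁.mul_mem (N₁.mul_mem (N₁.inv_mem hαN) hcN) hαN
      · intro h1
        apply hc1
        have : c = α * (α⁻¹ * c * α) * α⁻¹ := by group
        rw [this, h1]; group
    · rintro n ⟨hnA, hnN⟩ x ⟨⟨hxB, hxN⟩, hx1⟩
      have hnN₁ : n ∈ N₁ := le_normalizer hnA
      refine ⟨⟨?_, ?_⟩, ?_⟩
      · have := (mem_normalizer_iff.mp (inv_mem hnN) x).mp hxB
        simpa using this
      · exact N₁.mul_mem (N₁.mul_mem (N₁.inv_mem hnN₁) hxN) hnN₁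
      · intro h1
        apply hx1
        have : x = n * (n⁻¹ * x * n) * n⁻¹ := by group
        rw [this, h1]; group
  -- arithmetic
  rw [hcardG, hcardN₂] at hi
  rw [hcardG, hcardN₁] at hii
  set cB := Nat.card CB
  set cA := Nat.card CA
  set m := Nat.card MA
  set T := Nat.card CT
  set bm := Nat.card MB
  set bm₀ := Nat.card MT
  have hi' : a * bm ≤ a₀ * cB := by
    apply Nat.le_of_mul_le_mul_left _ hbpos
    calc b * (a * bm) = a * b * bm := by ring
      _ ≤ b * a₀ * cB := hi
      _ = b * (a₀ * cB) := by ring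
  have hii' : b * m ≤ b₀ * cA := by
    apply Nat.le_of_mul_le_mul_left _ hapos
    calc a * (b * m) = a * b * m := by ring
      _ ≤ a * b₀ * cA := hii
      _ = a * (b₀ * cA) := by ring
  have hkey : a₀ = a ∨ b₀ = b := by
    by_contra hcon
    push Not at hcon
    have h1 : a₀ < a := lt_of_le_of_ne ha₀le hcon.1
    have h2 : b₀ < b := lt_of_le_of_ne hb₀le hcon.2
    zify at hi' hii' hiii hiv hv hMBcard hMTcard h1 h2
    have e1 := mul_le_mul_of_nonneg_left hi' (show (0 : ℤ) ≤ (b₀ : ℤ) by positivity)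
    have e2 := mul_le_mul_of_nonneg_left hii' (show (0 : ℤ) ≤ (a₀ : ℤ) by positivity)
    have e3 := mul_le_mul_of_nonneg_left hiii (show (0 : ℤ) ≤ (b : ℤ) by positivity)
    have e4 : (0 : ℤ) < ((a : ℤ) - a₀) * ((b : ℤ) - b₀) := mul_pos (by linarith) (by linarith)
    have hbm : (bm : ℤ) = b - 1 := by linarith
    have hbm₀ : (bm₀ : ℤ) = b₀ - 1 := by linarith
    have hm : (m : ℤ) = a * b₀ - 1 - T := by linarith
    have hcA : (cA : ℤ) = a * b - 1 - cB := by linarith
    rw [hbm] at e1
    rw [hbm₀] at e3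
    rw [hm, hcA] at e2
    linarith [e1, e2, e3, e4]
  rcases hkey with hk | hk
  · have hAN : A ⊓ N₂ = A := (Subgroup.eq_of_le_of_card_ge inf_le_left hk.ge)
    have hAle : A ≤ N₂ := by rw [← hAN]; exact inf_le_right
    apply hG.normalizer_right_ne_top h
    rw [eq_top_iff]
    intro g _
    obtain ⟨α, hα, β, hβ, rfl⟩ := h.fac g
    exact N₂.mul_mem (hAle hα) (le_normalizer hβ)
  · have hBN : B ⊓ N₁ = B := (Subgroup.eq_of_le_of_card_ge inf_le_left hk.ge)
    have hBle : B ≤ N₁ := by rw [← hBN]; exact inf_le_right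
    apply hG.normalizer_right_ne_top h.symm
    rw [eq_top_iff]
    intro g _
    obtain ⟨α, hα, β, hβ, rfl⟩ := h.fac g
    exact N₁.mul_mem (le_normalizer hα) (hBle hβ)

end MinCE

end Cfsg.Agent.Helper29.KW
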