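import Mathlib
import Cfsg.Agent.Helper29.KWFinal

set_option autoImplicit false
set_option linter.unusedSectionVars false

namespace Cfsg.Agent.Helper29.KW

open Subgroup
open scoped Pointwise

universe u

/-- the image of a setup in a quotient -/
theorem Setup.quotient {G : Type u} [Group G] [Finite G] {A B : Subgroup G} (h : Setup A B)
    (N : Subgroup G) [N.Normal] :
    Setup (A.map (QuotientGroup.mk' N)) (B.map (QuotientGroup.mk' N)) := by
  refine ⟨?_, ?_, ?_, ?_⟩
  · have := h.nilA
    exact Group.nilpotent_of_surjective ((QuotientGroup.mk' N).subgroupMap A)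
      (MonoidHom.subgroupMap_surjective _ _)
  · have := h.nilB
    exact Group.nilpotent_of_surjective ((QuotientGroup.mk' N).subgroupMap B)
      (MonoidHom.subgroupMap_surjective _ _)
  · exact Nat.Coprime.coprime_dvd_left (Subgroup.card_map_dvd _ _)
      (Nat.Coprime.coprime_dvd_right (Subgroup.card_map_dvd _ _) h.cop)
  · intro q
    obtain ⟨g, rfl⟩ := QuotientGroup.mk'_surjective N q
    obtain ⟨a, ha, b, hb, rfl⟩ := h.fac g
    exact ⟨_, ⟨a, ha, rfl⟩, _, ⟨b, hb, rfl⟩, map_mul _ a b⟩

/-- a factorized subgroup inherits a setup -/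
theorem Setup.of_fac {G : Type u} [Group G] [Finite G] {A B : Subgroup G} (h : Setup A B)
    {X A' B' : Subgroup G} (hA'A : A' ≤ A) (hB'B : B' ≤ B) (hA'X : A' ≤ X) (hB'X : B' ≤ X)
    (hfac : ∀ x ∈ X, ∃ a ∈ A', ∃ b ∈ B', x = a * b) :
    Setup (A'.subgroupOf X) (B'.subgroupOf X) := by
  refine ⟨?_, ?_, ?_, ?_⟩
  · have := nilpotent_of_le hA'A h.nilA
    exact Group.nilpotent_of_mulEquiv (Subgroup.subgroupOfEquivOfLe hA'X).symm
  · have := nilpotent_of_le hB'B h.nilB
    exact Group.nilpotent_of_mulEquiv (Subgroup.subgroupOfEquivOfLe hB'X).symm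
  · rw [Nat.card_congr (Subgroup.subgroupOfEquivOfLe hA'X).toEquiv,
      Nat.card_congr (Subgroup.subgroupOfEquivOfLe hB'X).toEquiv]
    exact Nat.Coprime.coprime_dvd_left (Subgroup.card_dvd_of_le hA'A)
      (Nat.Coprime.coprime_dvd_right (Subgroup.card_dvd_of_le hB'B) h.cop)
  · rintro ⟨x, hx⟩
    obtain ⟨a, ha, b, hb, e⟩ := hfac x hx
    exact ⟨⟨a, hA'X ha⟩, mem_subgroupOf.mpr ha, ⟨b, hB'X hb⟩, mem_subgroupOf.mpr hb,
      Subtype.ext e⟩

theorem card_lt_of_ne_top' {G : Type u} [Group G] [Finite G] {X : Subgroup G} (hX : X ≠ ⊤) :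
    Nat.card X < Nat.card G := by
  rcases lt_or_eq_of_le (Subgroup.card_le_card_group X) with h | h
  · exact h
  · exact absurd (Subgroup.eq_top_of_card_eq X h) hX

/-- if `A ⊔ N = ⊤` for a normal subgroup `N`, then the index of `N` divides `|A|` -/
theorem index_dvd_of_sup_eq_top {G : Type u} [Group G] [Finite G] {A N : Subgroup G}
    [hN : N.Normal] (h : A ⊔ N = ⊤) : N.index ∣ Nat.card A := by
  have h1 := card_sup_mul_card_inf (H := A) (N := N)
    (by rw [normalizer_eq_top_iff.mpr hN]; exact le_top)
  rw [h, Subgroup.card_top, ← Subgroup.index_mul_card N] at h1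
  have hpos : 0 < Nat.card N := Nat.card_pos
  have h2 : N.index * Nat.card (A ⊓ N : Subgroup G) = Nat.card A := by
    apply Nat.eq_of_mul_eq_mul_right hpos
    rw [← h1]; ring
  exact ⟨_, h2.symm⟩

theorem coprime_solvable_aux (n : ℕ) : ∀ {G : Type u} [Group G] [Finite G], Nat.card G = n →
    ∀ A B : Subgroup G, Setup A B → Group.IsSolvable G := by
  induction n using Nat.strong_induction_on with
  | _ n ih =>
    intro G _ _ hn A B h
    by_cases hex : ∃ N : Subgroup G, N.Normal ∧ N ≠ ⊥ ∧ N ≠ ⊤
    · obtain ⟨N, hNn, hN1, hNT⟩ := hex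
      -- the quotient
      have hcardN : 1 < Nat.card N := by
        rcases Nat.lt_or_ge 1 (Nat.card N) with h1 | h1
        · exact h1
        · exfalso
          apply hN1
          rw [← Subgroup.card_eq_one]
          have : 0 < Nat.card N := Nat.card_pos
          omega
      have hq : Nat.card (G ⧸ N) < n := by
        rw [← hn, ← Subgroup.index_mul_card N, ← Subgroup.index_eq_card]
        have : 0 < N.index := Nat.pos_of_ne_zero Subgroup.index_ne_zero_of_finite
        nlinarith
      have hQ : Group.IsSolvable (G ⧸ N) := ih _ hq rfl _ _ (h.quotient N)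
      -- the normal subgroup
      have hNsolv : Group.IsSolvable N := by
        have key : ∀ X : Subgroup G, X ≠ ⊤ → N ≤ X → (A ≤ X ∨ B ≤ X) → Group.IsSolvable N := by
          intro X hXT hNX hAB
          have hXlt : Nat.card X < n := hn ▸ card_lt_of_ne_top' hXT
          have hXs : Group.IsSolvable X := by
            rcases hAB with hAX | hBX
            · exact ih _ hXlt rfl _ _
                (h.of_fac le_rfl inf_le_left hAX inf_le_right (h.dedekind hAX))
            · exact ih _ hXlt rfl _ _
                (h.symm.of_fac le_rfl inf_le_left hBX inf_le_right (h.symm.dedekind hBX))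
          exact Group.isSolvable_of_isSolvable_injective (Subgroup.inclusion_injective hNX)
        by_cases hAN : A ⊔ N = ⊤
        · by_cases hBN : B ⊔ N = ⊤
          · exfalso
            apply hNT
            have h1 := index_dvd_of_sup_eq_top hAN
            have h2 := index_dvd_of_sup_eq_top hBN
            have := Nat.eq_one_of_dvd_coprimes h.cop h1 h2
            exact Subgroup.index_eq_one.mp this
          · exact key _ hBN le_sup_right (Or.inr le_sup_left)
        · exact key _ hAN le_sup_right (Or.inl le_sup_left)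
      exact Group.isSolvable_of_ker_le_range N.subtype (QuotientGroup.mk' N)
        (by rw [QuotientGroup.ker_mk', Subgroup.range_subtype])
    · push Not at hex
      rcases subsingleton_or_nontrivial G with hs | hnt
      · infer_instance
      · by_contra hns
        have hsimple : IsSimpleGroup G := ⟨fun H hH => by
          by_contra hcon
          push Not at hcon
          exact hcon.2 (hex H hH hcon.1)⟩
        have hG : MinCE G := ⟨hsimple, hns, fun H _ _ hlt A' B' h' =>
          ih _ (hn ▸ hlt) rfl A' B' h'⟩
        exact hG.elim h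

theorem coprime_solvable {G : Type u} [Group G] [Finite G] {A B : Subgroup G} (h : Setup A B) :
    Group.IsSolvable G :=
  coprime_solvable_aux _ rfl A B h

end Cfsg.Agent.Helper29.KW
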