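import Mathlib
import Cfsg.Agent.S0566
import Cfsg.Agent.Helper7.Fitting
import Cfsg.Agent.Helper14.PCore
import Cfsg.Agent.Helper3.ProdCard

set_option autoImplicit false
set_option linter.unusedSectionVars false

namespace Cfsg.Agent.Helper29.KW

open Subgroup
open scoped Pointwise
open Cfsg.Agent.Lead (mem_conj_smul_iff card_conj_smul)
open Cfsg.Agent.S0566 (Perm perm_of_coe_eq mulSub coe_mulSub perm_sup perm_conj
  mem_normalizer_of_conj_smul_eq)

universe u

variable {G : Type u} [Group G] [Finite G]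

/-- `U` permutes with every conjugate of `V`, the products being `p`-groups -/
def PHyp (p : ℕ) (U V : Subgroup G) : Prop :=
  ∀ x : G, ∃ S : Subgroup G, IsPGroup p S ∧
    (S : Set G) = (U : Set G) * ((MulAut.conj x • V : Subgroup G) : Set G)

theorem PHyp.left_le {p : ℕ} {U V : Subgroup G} (h : PHyp p U V) (x : G) :
    ∃ S : Subgroup G, IsPGroup p S ∧ U ≤ S ∧ MulAut.conj x • V ≤ S ∧
      (S : Set G) = (U : Set G) * ((MulAut.conj x • V : Subgroup G) : Set G) := by
  obtain ⟨S, hS, e⟩ := h x
  refine ⟨S, hS, ?_, ?_, e⟩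
  · intro u hu
    have : u ∈ (S : Set G) := by rw [e]; exact ⟨u, hu, 1, one_mem _, mul_one u⟩
    exact this
  · intro v hv
    have : v ∈ (S : Set G) := by rw [e]; exact ⟨1, one_mem _, v, hv, one_mul v⟩
    exact this

theorem conj_smul_eq_of_commute {U : Subgroup G} {b : G} (h : ∀ u ∈ U, b * u = u * b) :
    MulAut.conj b • U = U := by
  ext y
  rw [mem_conj_smul_iff]
  constructor
  · intro hy
    have := h _ hy
    have e : y = b⁻¹ * y * b := by
      have e1 : b * (b⁻¹ * y * b) = y * b := by group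
      rw [e1] at this
      exact mul_right_cancel this
    rw [e]; exact hy
  · intro hy
    have := h _ hy
    have e : b⁻¹ * y * b = y := by
      have e1 : b⁻¹ * y * b = b⁻¹ * (y * b) := by group
      rw [e1, ← this]; group
    rw [e]; exact hy

theorem commute_of_phyp {p : ℕ} [hp : Fact p.Prime] (hcore : Cfsg.pCore p G = ⊥) (k : ℕ) :
    ∀ U V : Subgroup G, Nat.card G - Nat.card U = k → PHyp p U V →
      ∀ x : G, ∀ b ∈ MulAut.conj x • V, ∀ u ∈ U, b * u = u * b := by
  induction k using Nat.strong_induction_on with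
  | _ k ih =>
  intro U V hk hUV
  obtain ⟨S₁, hS₁p, hUS₁, -, -⟩ := hUV.left_le 1
  have hUp : IsPGroup p U := hS₁p.to_le hUS₁
  -- Step A: every conjugate of `V` normalizes `U`
  have hA : ∀ x : G, ∀ b ∈ MulAut.conj x • V, MulAut.conj b • U = U := by
    by_contra hcon
    push Not at hcon
    obtain ⟨x, b₀, hb₀, hne⟩ := hcon
    set V₁ : Subgroup G := MulAut.conj x • V with hV₁
    have hUV₁ : PHyp p U V₁ := by
      intro z
      obtain ⟨S, hS, e⟩ := hUV (z * x)
      refine ⟨S, hS, ?_⟩
      rw [e, hV₁, ← mul_smul, ← map_mul]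
    obtain ⟨H, hHp, hUH, hV₁H, hH⟩ := hUV₁.left_le 1
    rw [map_one, one_smul] at hV₁H
    set U' : Subgroup G := MulAut.conj b₀ • U with hU'
    have hU'H : U' ≤ H := by
      intro a ha
      rw [hU', mem_conj_smul_iff] at ha
      have hb₀H : b₀ ∈ H := hV₁H hb₀
      have : a = b₀ * (b₀⁻¹ * a * b₀) * b₀⁻¹ := by group
      rw [this]
      exact H.mul_mem (H.mul_mem hb₀H (hUH ha)) (H.inv_mem hb₀H)
    have hU₁H : U ⊔ U' ≤ H := sup_le hUH hU'H
    have hU₁p : IsPGroup p (U ⊔ U' : Subgroup G) := hHp.to_le hU₁H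
    have hperm : ∀ y : G, Perm (U ⊔ U') (MulAut.conj y • V₁) := by
      intro y
      apply perm_sup
      · obtain ⟨S, -, e⟩ := hUV₁ y
        exact perm_of_coe_eq e
      · obtain ⟨S, -, e⟩ := hUV₁ (b₀⁻¹ * y)
        have := perm_conj (perm_of_coe_eq e) b₀
        rwa [← mul_smul, ← map_mul, mul_inv_cancel_left] at this
    have hlt : Nat.card U < Nat.card (U ⊔ U' : Subgroup G) := by
      have hle : U ≤ U ⊔ U' := le_sup_left
      rcases eq_or_lt_of_le (Subgroup.card_le_of_le hle) with he | hl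
      · exfalso
        have hAA : U = U ⊔ U' := Subgroup.eq_of_le_of_card_ge hle he.ge
        have hA'A : U' ≤ U := by rw [hAA]; exact le_sup_right
        have hc : Nat.card U' = Nat.card U := card_conj_smul b₀ U
        exact hne (Subgroup.eq_of_le_of_card_ge hA'A hc.ge)
      · exact hl
    have hnew : PHyp p (U ⊔ U') V₁ := by
      intro y
      refine ⟨mulSub _ _ (hperm y), ?_, rfl⟩
      obtain ⟨S, hSp, -, hVS, -⟩ := hUV₁.left_le y
      have hVp : IsPGroup p (MulAut.conj y • V₁ : Subgroup G) := hSp.to_le hVS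
      obtain ⟨n₁, hn₁⟩ := IsPGroup.iff_card.mp hU₁p
      obtain ⟨n₂, hn₂⟩ := IsPGroup.iff_card.mp hVp
      have h1 := Cfsg.Agent.Helper3.card_mul_set_mul_card_inf (U ⊔ U') (MulAut.conj y • V₁)
      rw [hn₁, hn₂, ← pow_add] at h1
      have h2 : Nat.card (mulSub _ _ (hperm y)) ∣ p ^ (n₁ + n₂) := ⟨_, h1.symm⟩
      obtain ⟨j, -, hj⟩ := (Nat.dvd_prime_pow hp.out).mp h2
      exact IsPGroup.of_card hj
    have hk' : Nat.card G - Nat.card (U ⊔ U' : Subgroup G) < k := by
      have h1 := Subgroup.card_le_card_group (U ⊔ U')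
      omega
    have hcomm := ih _ hk' (U ⊔ U') V₁ rfl hnew 1 b₀ (by rw [map_one, one_smul]; exact hb₀)
    exact hne (conj_smul_eq_of_commute (fun u hu => hcomm u (le_sup_left (b := U') hu)))
  -- Step B
  set L := normalClosure (V : Set G) with hL
  have hLn : L.Normal := normalClosure_normal
  have hconjL : ∀ x : G, MulAut.conj x • V ≤ L := by
    intro x y hy
    rw [mem_conj_smul_iff] at hy
    have h4 : x⁻¹ * y * x ∈ L := subset_normalClosure hy
    have := hLn.conj_mem _ h4 x
    convert this using 1; group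
  have hle : L ≤ normalizer (U : Set G) := by
    rw [hL, normalClosure, closure_le]
    intro y hy
    rw [Group.mem_conjugatesOfSet_iff] at hy
    obtain ⟨b, hb, hconj⟩ := hy
    rw [isConj_iff] at hconj
    obtain ⟨c, hc⟩ := hconj
    have hy' : y ∈ (MulAut.conj c • V : Subgroup G) := by
      rw [mem_conj_smul_iff, ← hc]
      have : c⁻¹ * (c * b * c⁻¹) * c = b := by group
      rw [this]; exact hb
    exact mem_normalizer_of_conj_smul_eq (hA c y hy')
  set W : Subgroup G := U ⊓ L with hW
  have hWn : (W.subgroupOf L).Normal := by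
    refine ⟨fun w hw l => ?_⟩
    rw [mem_subgroupOf] at hw ⊢
    refine ⟨?_, ?_⟩
    · exact (mem_normalizer_iff.mp (hle l.2) _).mp hw.1
    · exact L.mul_mem (L.mul_mem l.2 hw.2) (L.inv_mem l.2)
  have hWsub : W.IsSubnormal :=
    IsSubnormal.step W L inf_le_right (Normal.isSubnormal hLn) hWn
  have hWbot : W = ⊥ := by
    rw [eq_bot_iff, ← hcore]
    exact Cfsg.Agent.Helper7.subnormal_pGroup_le_pCore hWsub (hUp.to_le inf_le_left)
  intro x b hb u hu
  have hbL : b ∈ L := hconjL x hb
  have hc : b * u * b⁻¹ * u⁻¹ ∈ W := by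
    refine ⟨?_, ?_⟩
    · exact U.mul_mem ((mem_normalizer_iff.mp (hle hbL) u).mp hu) (U.inv_mem hu)
    · have h1 : u * b⁻¹ * u⁻¹ ∈ L := hLn.conj_mem _ (L.inv_mem hbL) u
      have := L.mul_mem hbL h1
      have e : b * u * b⁻¹ * u⁻¹ = b * (u * b⁻¹ * u⁻¹) := by group
      rw [e]; exact this
  rw [hWbot, mem_bot] at hc
  have : b * u = (b * u * b⁻¹ * u⁻¹) * (u * b) := by group
  rw [this, hc, one_mul]

/-- permuting `p`-subgroups in a group with trivial `p`-core have commuting normal closures -/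
theorem normalClosure_commute_of_phyp {p : ℕ} [hp : Fact p.Prime] (hcore : Cfsg.pCore p G = ⊥)
    {U V : Subgroup G} (h : PHyp p U V) :
    ∀ a ∈ normalClosure (U : Set G), ∀ b ∈ normalClosure (V : Set G), a * b = b * a := by
  have hcomm := commute_of_phyp hcore _ U V rfl h
  have hVn : (normalClosure (V : Set G)).Normal := normalClosure_normal
  have h1 : normalClosure (V : Set G) ≤ centralizer (U : Set G) := by
    rw [normalClosure, closure_le]
    intro y hy
    rw [Group.mem_conjugatesOfSet_iff] at hy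
    obtain ⟨b, hb, hconj⟩ := hy
    rw [isConj_iff] at hconj
    obtain ⟨c, hc⟩ := hconj
    have hy' : y ∈ (MulAut.conj c • V : Subgroup G) := by
      rw [mem_conj_smul_iff, ← hc]
      have : c⁻¹ * (c * b * c⁻¹) * c = b := by group
      rw [this]; exact hb
    rw [SetLike.mem_coe, mem_centralizer_iff]
    intro u hu
    exact (hcomm c y hy' u hu).symm
  have h2 : U ≤ centralizer ((normalClosure (V : Set G) : Subgroup G) : Set G) := by
    intro u hu
    rw [mem_centralizer_iff]
    intro y hy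
    have := mem_centralizer_iff.mp (h1 hy) u hu
    exact this.symm
  have h3 : normalClosure (U : Set G) ≤
      centralizer ((normalClosure (V : Set G) : Subgroup G) : Set G) :=
    normalClosure_le_normal h2
  intro a ha b hb
  exact (mem_centralizer_iff.mp (h3 ha) b hb).symm

end Cfsg.Agent.Helper29.KW
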