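import Mathlib
import Cfsg.Agent.Helper29.KWMain
import Cfsg.Agent.Helper29.KWPerm
import Cfsg.Agent.S0560

set_option autoImplicit false
set_option linter.unusedSectionVars false

namespace Cfsg.Agent.Helper29.KW

open Subgroup
open scoped Pointwise
open Cfsg.Agent.Lead (mem_conj_smul_iff card_conj_smul)

universe u

section

variable {G : Type u} [Group G] [Finite G]

/-- the Sylow `p`-subgroup of a nilpotent subgroup consists of its `p`-elements -/
theorem mem_sylow_map_iff {K : Subgroup G} (hK : Group.IsNilpotent K) {p : ℕ} [Fact p.Prime]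
    (P : Sylow p K) {y : G} :
    y ∈ ((P : Subgroup K).map K.subtype : Subgroup G) ↔ y ∈ K ∧ ∃ k : ℕ, y ^ p ^ k = 1 := by
  constructor
  · rintro ⟨y₀, hy₀, rfl⟩
    refine ⟨y₀.2, ?_⟩
    obtain ⟨k, hk⟩ := P.isPGroup' ⟨y₀, hy₀⟩
    refine ⟨k, ?_⟩
    have : (y₀ ^ p ^ k : K) = 1 := congrArg Subtype.val hk
    have := congrArg Subtype.val this
    simpa using this
  · rintro ⟨hyK, k, hk⟩
    have : Finite K := inferInstance
    have h1 := Cfsg.Agent.Helper23.mem_sylow_of_isNilpotent (K := K) P ⟨y, hyK⟩
      (isPGroup_zpowers_of_pow _ k (Subtype.ext hk))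
    exact ⟨⟨y, hyK⟩, h1, rfl⟩

/-- Sylow `p`-subgroups of the nilpotent factors permute with all conjugates -/
theorem phyp_of_fac {A B : Subgroup G} (hA : Group.IsNilpotent A) (hB : Group.IsNilpotent B)
    (hfac : Fac A B) (p : ℕ) [Fact p.Prime] (P₀ : Sylow p A) (Q₀ : Sylow p B) :
    PHyp p ((P₀ : Subgroup A).map A.subtype) ((Q₀ : Subgroup B).map B.subtype) := by
  intro x
  have hB' : Group.IsNilpotent (MulAut.conj x • B : Subgroup G) := nilpotent_conj_smul x hB
  obtain ⟨P, Q', R, e⟩ := Cfsg.Agent.S0560.result A (MulAut.conj x • B) (hfac.conj_right x) p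
  refine ⟨R, R.isPGroup', ?_⟩
  rw [e]
  have h1 : ((P : Subgroup A).map A.subtype : Subgroup G) =
      ((P₀ : Subgroup A).map A.subtype : Subgroup G) := by
    ext y
    rw [mem_sylow_map_iff hA, mem_sylow_map_iff hA]
  have h2 : ((Q' : Subgroup (MulAut.conj x • B : Subgroup G)).map
      (MulAut.conj x • B : Subgroup G).subtype : Subgroup G) =
      MulAut.conj x • ((Q₀ : Subgroup B).map B.subtype : Subgroup G) := by
    ext y
    rw [mem_sylow_map_iff hB', mem_conj_smul_iff, mem_conj_smul_iff, mem_sylow_map_iff hB]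
    have : ∀ k : ℕ, (x⁻¹ * y * x) ^ p ^ k = 1 ↔ y ^ p ^ k = 1 := by
      intro k
      have := conj_pow (a := x⁻¹) (b := y) (i := p ^ k)
      rw [inv_inv] at this
      rw [this]
      constructor
      · intro h
        have e : y ^ p ^ k = x * (x⁻¹ * y ^ p ^ k * x) * x⁻¹ := by group
        rw [e, h]; group
      · intro h
        rw [h]; group
    constructor
    · rintro ⟨h3, k, hk⟩
      exact ⟨h3, k, (this k).mpr hk⟩
    · rintro ⟨h3, k, hk⟩
      exact ⟨h3, k, (this k).mp hk⟩
  rw [h1, h2]

/-- the image of a factorization in a quotient -/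
theorem Fac.quotient {A B : Subgroup G} (h : Fac A B) (N : Subgroup G) [N.Normal] :
    Fac (A.map (QuotientGroup.mk' N)) (B.map (QuotientGroup.mk' N)) := by
  intro q
  obtain ⟨g, rfl⟩ := QuotientGroup.mk'_surjective N q
  obtain ⟨a, ha, b, hb, rfl⟩ := h g
  exact ⟨_, ⟨a, ha, rfl⟩, _, ⟨b, hb, rfl⟩, map_mul _ a b⟩

theorem nilpotent_map_mk {A : Subgroup G} (hA : Group.IsNilpotent A) (N : Subgroup G)
    [N.Normal] : Group.IsNilpotent (A.map (QuotientGroup.mk' N)) :=
  Group.nilpotent_of_surjective ((QuotientGroup.mk' N).subgroupMap A)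
    (MonoidHom.subgroupMap_surjective _ _)

theorem card_quotient_lt {N : Subgroup G} (hN : N ≠ ⊥) : Nat.card (G ⧸ N) < Nat.card G := by
  have hcardN : 1 < Nat.card N := by
    rcases Nat.lt_or_ge 1 (Nat.card N) with h1 | h1
    · exact h1
    · exfalso
      apply hN
      rw [← Subgroup.card_eq_one]
      have : 0 < Nat.card N := Nat.card_pos
      omega
  rw [← Subgroup.index_mul_card N, ← Subgroup.index_eq_card]
  have : 0 < N.index := Nat.pos_of_ne_zero Subgroup.index_ne_zero_of_finite
  nlinarith

end

theorem kegel_wielandt_aux (n : ℕ) : ∀ {G : Type u} [Group G] [Finite G], Nat.card G = n →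
    ∀ A B : Subgroup G, Group.IsNilpotent A → Group.IsNilpotent B → Fac A B →
      Group.IsSolvable G := by
  induction n using Nat.strong_induction_on with
  | _ n ih =>
    intro G _ _ hn A B hA hB hfac
    -- quotients by nontrivial normal subgroups are solvable
    have hquot : ∀ (N : Subgroup G) [N.Normal], N ≠ ⊥ → Group.IsSolvable (G ⧸ N) := by
      intro N hNn hN1
      exact ih _ (hn ▸ card_quotient_lt hN1) rfl _ _ (nilpotent_map_mk hA N)
        (nilpotent_map_mk hB N) (hfac.quotient N)
    by_cases hcore : ∃ p : ℕ, p.Prime ∧ Cfsg.pCore p G ≠ ⊥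
    · obtain ⟨p, hp, hne⟩ := hcore
      have : Fact p.Prime := ⟨hp⟩
      have hNn : (Cfsg.pCore p G).Normal := Cfsg.Agent.Helper14.pCore_normal p
      have hQ := hquot (Cfsg.pCore p G) hne
      have hnil : Group.IsNilpotent (Cfsg.pCore p G) :=
        (Cfsg.Agent.Helper14.pCore_isPGroup p).isNilpotent
      have hS : Group.IsSolvable (Cfsg.pCore p G) := inferInstance
      exact Group.isSolvable_of_ker_le_range (Cfsg.pCore p G).subtype
        (QuotientGroup.mk' (Cfsg.pCore p G))
        (by rw [QuotientGroup.ker_mk', Subgroup.range_subtype])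
    · push Not at hcore
      by_cases hcop : (Nat.card A).Coprime (Nat.card B)
      · exact coprime_solvable ⟨hA, hB, hcop, hfac⟩
      · obtain ⟨p, hp, hpA, hpB⟩ := Nat.Prime.not_coprime_iff_dvd.mp hcop
        have : Fact p.Prime := ⟨hp⟩
        obtain ⟨P₀⟩ : Nonempty (Sylow p A) := inferInstance
        obtain ⟨Q₀⟩ : Nonempty (Sylow p B) := inferInstance
        set U : Subgroup G := (P₀ : Subgroup A).map A.subtype with hU
        set V : Subgroup G := (Q₀ : Subgroup B).map B.subtype with hV
        have hU1 : U ≠ ⊥ := by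
          intro h
          have h1 : (P₀ : Subgroup A) = ⊥ := by
            rw [← Subgroup.card_eq_one, ← Subgroup.card_map_of_injective A.subtype_injective,
              ← hU, h, Subgroup.card_bot]
          exact P₀.ne_bot_of_dvd_card hpA h1
        have hV1 : V ≠ ⊥ := by
          intro h
          have h1 : (Q₀ : Subgroup B) = ⊥ := by
            rw [← Subgroup.card_eq_one, ← Subgroup.card_map_of_injective B.subtype_injective,
              ← hV, h, Subgroup.card_bot]
          exact Q₀.ne_bot_of_dvd_card hpB h1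
        have hphyp := phyp_of_fac hA hB hfac p P₀ Q₀
        have hcomm := normalClosure_commute_of_phyp (hcore p hp) hphyp
        set X := normalClosure (U : Set G) with hX
        set Y := normalClosure (V : Set G) with hY
        have hXn : X.Normal := normalClosure_normal
        have hYn : Y.Normal := normalClosure_normal
        have hX1 : X ≠ ⊥ := fun h => hU1 (le_bot_iff.mp (h ▸ le_normalClosure))
        have hY1 : Y ≠ ⊥ := fun h => hV1 (le_bot_iff.mp (h ▸ le_normalClosure))
        have hQX := hquot X hX1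
        have hQY := hquot Y hY1
        have hZ : Group.IsSolvable (X ⊓ Y : Subgroup G) := by
          apply Group.isSolvable_of_comm
          rintro ⟨a, ha⟩ ⟨b, hb⟩
          apply Subtype.ext
          exact hcomm a ha.1 b hb.2
        exact Group.isSolvable_of_ker_le_range (X ⊓ Y : Subgroup G).subtype
          ((QuotientGroup.mk' X).prod (QuotientGroup.mk' Y))
          (by rw [MonoidHom.ker_prod, QuotientGroup.ker_mk', QuotientGroup.ker_mk',
            Subgroup.range_subtype])

/-- The Kegel–Wielandt theorem -/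
theorem kegel_wielandt {G : Type u} [Group G] [Finite G] {A B : Subgroup G}
    (hA : Group.IsNilpotent A) (hB : Group.IsNilpotent B) (hfac : Fac A B) :
    Group.IsSolvable G :=
  kegel_wielandt_aux _ rfl A B hA hB hfac

end Cfsg.Agent.Helper29.KW
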