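import Mathlib
import Cfsg.Agent.Helper29.BG14D
import Cfsg.Agent.S1417
import Cfsg.Agent.S1418
import Cfsg.Agent.S1420
import Cfsg.Agent.S1423
import Cfsg.Agent.S1424
import Cfsg.Agent.S1426
import Cfsg.Agent.S1429
import Cfsg.Agent.S1430
import Cfsg.Agent.S1431
import Cfsg.Agent.S1432

/-!
# The hypotheses `Hyp G` of Theorem D from the proved statements of B&G sections 12-14
-/

set_option autoImplicit false

namespace Cfsg.Agent.Helper29.BG14

universe u

theorem hyp_of {G : Type u} [Group G] [Finite G] (hG : Cfsg.IsMinSimpleOddOrder G) : Hyp G :=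
  ⟨hG,
      fun M hM p _ hp A hA => Cfsg.Agent.S1417.result hG M hM p hp A hA,
      fun M hM E hE p _ hp A hA => Cfsg.Agent.S1418.result hG M hM E hE p hp A hA,
      fun M hM E hE => Cfsg.Agent.S1420.result hG M hM E hE,
      fun M hM p _ hp X hXM hX P h => Cfsg.Agent.S1423.result hG M hM p hp X hXM hX P h,
      fun M hM q _ hq X hXq hX1 hXM Ms hMs hne hNX S hXS =>
        Cfsg.Agent.S1424.result hG M hM q hq X hXq hX1 hXM Ms hMs hne hNX S hXS,
      fun M hM E hE => Cfsg.Agent.S1426.result hG M hM E hE,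
      fun M hM hP1 p _ hpM hp S => Cfsg.Agent.S1429.result hG M hM hP1 p hpM hp S,
      fun M hM K hK hK1 => Cfsg.Agent.S1430.result hG M hM K hK hK1,
      fun M hM K hK hK1 => Cfsg.Agent.S1431.result hG M hM K hK hK1,
      fun M hM x hx hx1 x' hx' hx'1 hσ => Cfsg.Agent.S1432.result hG M hM x hx hx1 x' hx' hx'1 hσ⟩

end Cfsg.Agent.Helper29.BG14
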