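import Mathlib

set_option autoImplicit false
set_option linter.style.haveILetI false
set_option warn.classDefReducibility false

/-! Eigenvectors for operators of exponent `p - 1` on elementary abelian `p`-groups. -/

namespace Cfsg.Agent.Helper29

open Polynomial

theorem splits_X_pow_sub_X (p : ℕ) [Fact p.Prime] : (X ^ p - X : (ZMod p)[X]).Splits := by
  rw [Polynomial.splits_iff_card_roots]
  have h := FiniteField.roots_X_pow_card_sub_X (ZMod p)
  rw [ZMod.card p] at h
  rw [h, FiniteField.X_pow_card_sub_X_natDegree_eq _ (Fact.out : p.Prime).one_lt]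
  simp [ZMod.card]

theorem exists_eigenvector_of_pow_eq (p : ℕ) [Fact p.Prime] {V : Type*} [AddCommGroup V]
    [Module (ZMod p) V] [Finite V] [Nontrivial V] (f : Module.End (ZMod p) V) (hf : f ^ p = f) :
    ∃ v : V, v ≠ 0 ∧ ∃ μ : ZMod p, f v = μ • v := by
  have haeval : Polynomial.aeval f (X ^ p - X : (ZMod p)[X]) = 0 := by
    simp [hf]
  have hdvd : minpoly (ZMod p) f ∣ X ^ p - X := minpoly.dvd _ _ haeval
  have hne : (X ^ p - X : (ZMod p)[X]) ≠ 0 :=
    FiniteField.X_pow_card_sub_X_ne_zero _ (Fact.out : p.Prime).one_lt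
  have hsp : (minpoly (ZMod p) f).Splits := (splits_X_pow_sub_X p).of_dvd hne hdvd
  have hint : IsIntegral (ZMod p) f := Algebra.IsIntegral.isIntegral f
  have hdeg : (minpoly (ZMod p) f).degree ≠ 0 := (minpoly.degree_pos hint).ne'
  obtain ⟨μ, hμ⟩ := hsp.exists_eval_eq_zero hdeg
  have hev : f.HasEigenvalue μ := Module.End.hasEigenvalue_of_isRoot hμ
  obtain ⟨v, hv⟩ := hev.exists_hasEigenvector
  exact ⟨v, hv.2, μ, hv.apply_eq_smul⟩

noncomputable def zmodModuleOfExp {A : Type*} [CommGroup A] (p : ℕ)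
    (hexp : ∀ x : A, x ^ p = 1) : Module (ZMod p) (Additive A) :=
  AddCommGroup.zmodModule (n := p) (fun x => by
    show Additive.ofMul (Additive.toMul x ^ p) = 0
    rw [hexp]; rfl)

theorem exists_eigen_of_iterate {A : Type*} [CommGroup A] [Finite A] [Nontrivial A] (p : ℕ)
    [Fact p.Prime] (hexp : ∀ x : A, x ^ p = 1) (φ : A →* A) (hφ : ∀ x, φ^[p] x = φ x) :
    ∃ v : A, v ≠ 1 ∧ ∃ k : ℕ, φ v = v ^ k := by
  letI : Module (ZMod p) (Additive A) := zmodModuleOfExp p hexp
  let f : Additive A →ₗ[ZMod p] Additive A := (MonoidHom.toAdditive φ).toZModLinearMap p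
  have hfapp : ∀ x : Additive A, f x = Additive.ofMul (φ (Additive.toMul x)) := fun x => rfl
  have hiter : ∀ (n : ℕ) (x : Additive A), f^[n] x = Additive.ofMul (φ^[n] (Additive.toMul x)) := by
    intro n
    induction n with
    | zero => intro x; rfl
    | succ n ih =>
      intro x
      rw [Function.iterate_succ_apply', Function.iterate_succ_apply', ih, hfapp]
      rfl
  have hf : (f : Module.End (ZMod p) (Additive A)) ^ p = f := by
    apply LinearMap.ext
    intro x
    rw [Module.End.pow_apply, hiter, hfapp, hφ]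
  obtain ⟨v, hv0, μ, hμ⟩ := exists_eigenvector_of_pow_eq p f hf
  refine ⟨Additive.toMul v, ?_, μ.val, ?_⟩
  · intro h
    apply hv0
    have : v = Additive.ofMul (Additive.toMul v) := rfl
    rw [this, h]; rfl
  · have h1 : μ • v = (μ.val : ℕ) • v := by
      conv_lhs => rw [← ZMod.natCast_zmod_val μ]
      rw [Nat.cast_smul_eq_nsmul]
    rw [h1, hfapp] at hμ
    have h2 := congrArg Additive.toMul hμ
    simpa using h2

end Cfsg.Agent.Helper29
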