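import Mathlib
import Cfsg.Agent.Helper10.S2092.DefsP

set_option autoImplicit false
set_option linter.unusedSectionVars false
set_option linter.unusedVariables false

/-! S2092, part P, piece MODELW (driver helper10): the images of the Weyl elements are the model Weyl elements, the
images of the torus elements are diagonal. -/

namespace Cfsg.Agent.S2092P

open scoped commutatorElement
open Matrix Cfsg.Agent.S3352P Cfsg.Agent.S2096P Cfsg.Agent.S2094P Cfsg.Agent.RGD

variable {n : ℕ} {F : Type*} [Field F] {M : Type*} [Group M] {Ys : J n → J n → F → M}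
  {Yl : J n → F → M} {π : M →* Matrix (J n) (J n) F}

namespace MODELW

/-- the abstract Weyl element formula -/
theorem weyl_formula {A : Type*} [Ring A] [Algebra F A] (E G : A) (t u : F) (htu : t * u = -1)
    (hEE : E * E = 0) (hEGE : E * G * E = E) :
    (1 + t • E) * (1 + u • G) * (1 + t • E) = 1 + t • E + u • G - (E * G + G * E) := by
  simp only [mul_add, add_mul, mul_one, one_mul, smul_mul_assoc, mul_smul_comm, hEE, hEGE,
    smul_zero, add_zero]
  linear_combination (norm := module) htu • (E * G + G * E + t • E)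

/-- the nilpotent part of a model short root element -/
def Es (F : Type*) [Field F] (a b : J n) : Matrix (J n) (J n) F :=
  Matrix.single a b (1 : F) - (sgF F a * sgF F b) • Matrix.single (ng b) (ng a) (1 : F)

theorem xs_eq (a b : J n) (t : F) : xs a b t = 1 + t • Es F a b := rfl

theorem ne_ng_symm {a b : J n} (h : a ≠ ng b) : b ≠ ng a := fun h' => h (by rw [h', ng_ng])

theorem sg_sq (a b : J n) : (sgF F a * sgF F b) * (sgF F a * sgF F b) = 1 := by
  have h1 := sgF_mul_self F a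
  have h2 := sgF_mul_self F b
  calc (sgF F a * sgF F b) * (sgF F a * sgF F b)
      = (sgF F a * sgF F a) * (sgF F b * sgF F b) := by ring
    _ = 1 := by rw [h1, h2, one_mul]

theorem Es_mul_self {a b : J n} (hab : IsRoot a b) : Es F a b * Es F a b = 0 := by
  obtain ⟨h1, h2⟩ := hab
  have h3 : b ≠ ng a := ne_ng_symm h2
  have h4 : ng a ≠ ng b := fun h => h1 (ng_injective h)
  have h5 : ng a ≠ a := ng_ne a
  have h6 : b ≠ ng b := (ng_ne b).symm
  unfold Es
  simp only [mul_sub, sub_mul, smul_mul_assoc, mul_smul_comm,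
    Matrix.single_mul_single_of_ne _ _ _ _ h1.symm, Matrix.single_mul_single_of_ne _ _ _ _ h5,
    Matrix.single_mul_single_of_ne _ _ _ _ h6, Matrix.single_mul_single_of_ne _ _ _ _ h4, smul_zero,
    sub_zero]

theorem Es_mul_flip {a b : J n} (hab : IsRoot a b) :
    Es F a b * Es F b a = Matrix.single a a (1 : F) + Matrix.single (ng b) (ng b) (1 : F) := by
  obtain ⟨h1, h2⟩ := hab
  have h3 : b ≠ ng a := ne_ng_symm h2
  unfold Es
  simp only [mul_sub, sub_mul, smul_mul_assoc, mul_smul_comm,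
    Matrix.single_mul_single_same, Matrix.single_mul_single_of_ne _ _ _ _ h3,
    Matrix.single_mul_single_of_ne _ _ _ _ h3.symm, smul_zero, sub_zero, mul_one]
  rw [zero_sub, smul_neg, smul_smul, sub_neg_eq_add, mul_comm (sgF F b) (sgF F a), sg_sq, one_smul]

theorem Es_mul_flip_mul {a b : J n} (hab : IsRoot a b) : Es F a b * Es F b a * Es F a b = Es F a b := by
  rw [Es_mul_flip hab]
  obtain ⟨h1, h2⟩ := hab
  have h3 : b ≠ ng a := ne_ng_symm h2
  have h5 : a ≠ ng a := (ng_ne a).symm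
  have h6 : ng b ≠ b := ng_ne b
  unfold Es
  simp only [mul_sub, add_mul, mul_smul_comm, Matrix.single_mul_single_same,
    Matrix.single_mul_single_of_ne _ _ _ _ h2, Matrix.single_mul_single_of_ne _ _ _ _ h2.symm, mul_one]
  rw [add_zero, zero_add]

/-- the nilpotent part of a model long root element -/
def El (F : Type*) [Field F] (a : J n) : Matrix (J n) (J n) F := Matrix.single a (ng a) (1 : F)

theorem xl_eq (a : J n) (t : F) : xl a t = 1 + t • El F a := rfl

theorem El_ng (a : J n) : El F (ng a) = Matrix.single (ng a) a (1 : F) := by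
  unfold El
  rw [ng_ng]

theorem El_mul_self (a : J n) : El F a * El F a = 0 := by
  unfold El
  exact Matrix.single_mul_single_of_ne (1 : F) a (ng a) a (ng_ne a) (1 : F)

theorem El_mul_ng (a : J n) : El F a * El F (ng a) = Matrix.single a a (1 : F) := by
  rw [El_ng]
  unfold El
  rw [Matrix.single_mul_single_same, mul_one]

theorem El_ng_mul (a : J n) : El F (ng a) * El F a = Matrix.single (ng a) (ng a) (1 : F) := by
  rw [El_ng]
  unfold El
  rw [Matrix.single_mul_single_same, mul_one]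

theorem El_mul_ng_mul (a : J n) : El F a * El F (ng a) * El F a = El F a := by
  rw [El_mul_ng]
  unfold El
  rw [Matrix.single_mul_single_same, mul_one]

theorem sgF_inv (a : J n) : (sgF F a)⁻¹ = sgF F a := by
  cases a <;> simp [inv_neg]

theorem sgF_ne_zero (a : J n) : sgF F a ≠ 0 := by
  cases a <;> simp

/-- the model short Weyl element -/
theorem weyl_short {a b : J n} (hab : IsRoot a b) {t : F} (ht : t ≠ 0) :
    xs a b t * xs b a (-t⁻¹) * xs a b t = mws a b t := by
  rw [xs_eq, xs_eq, weyl_formula (Es F a b) (Es F b a) t (-t⁻¹)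
    (by rw [mul_neg, mul_inv_cancel₀ ht]) (Es_mul_self hab) (Es_mul_flip_mul hab),
    Es_mul_flip hab, Es_mul_flip hab.symm]
  unfold mws Es
  module

/-- the model long Weyl element -/
theorem weyl_long (a : J n) {t : F} (ht : t ≠ 0) :
    xl a t * xl (ng a) (-t⁻¹) * xl a t = mwl a t := by
  rw [xl_eq, xl_eq, weyl_formula (El F a) (El F (ng a)) t (-t⁻¹)
    (by rw [mul_neg, mul_inv_cancel₀ ht]) (El_mul_self a) (El_mul_ng_mul a),
    El_mul_ng, El_ng_mul, El_ng]
  unfold mwl El
  module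

/-- diagonal matrices supported on two indices -/
theorem exists_diag2 {x₁ x₂ : J n} (h12 : x₁ ≠ x₂) (c₁ c₂ : F) (hc₁ : 1 + c₁ ≠ 0) (hc₂ : 1 + c₂ ≠ 0) :
    ∃ d : J n → F, (∀ x, d x ≠ 0) ∧
      1 + c₁ • Matrix.single x₁ x₁ (1 : F) + c₂ • Matrix.single x₂ x₂ (1 : F) = Matrix.diagonal d := by
  refine ⟨1 + c₁ • Pi.single x₁ 1 + c₂ • Pi.single x₂ 1, fun x => ?_, ?_⟩
  · simp only [Pi.add_apply, Pi.one_apply, Pi.smul_apply, Pi.single_apply, smul_eq_mul]
    by_cases h1 : x = x₁
    · subst h1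
      simp [h12, hc₁]
    · by_cases h2 : x = x₂
      · subst h2
        simp [h1, hc₂]
      · simp [h1, h2]
  · ext i j
    simp only [Matrix.add_apply, Matrix.smul_apply, Matrix.one_apply, Matrix.single_apply,
      Matrix.diagonal_apply, Pi.add_apply, Pi.one_apply, Pi.smul_apply, Pi.single_apply, smul_eq_mul]
    by_cases hij : i = j
    · subst hij
      simp [eq_comm]
    · have : ∀ x : J n, ¬ (x = i ∧ x = j) := fun x hx => hij (hx.1.symm.trans hx.2)
      simp [hij, this]

/-- diagonal matrices supported on four indices -/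
theorem exists_diag4 {x₁ x₂ x₃ x₄ : J n} (h12 : x₁ ≠ x₂) (h13 : x₁ ≠ x₃) (h14 : x₁ ≠ x₄) (h23 : x₂ ≠ x₃)
    (h24 : x₂ ≠ x₄) (h34 : x₃ ≠ x₄) (c₁ c₂ c₃ c₄ : F) (hc₁ : 1 + c₁ ≠ 0) (hc₂ : 1 + c₂ ≠ 0)
    (hc₃ : 1 + c₃ ≠ 0) (hc₄ : 1 + c₄ ≠ 0) :
    ∃ d : J n → F, (∀ x, d x ≠ 0) ∧
      1 + c₁ • Matrix.single x₁ x₁ (1 : F) + c₂ • Matrix.single x₂ x₂ (1 : F) +
        c₃ • Matrix.single x₃ x₃ (1 : F) + c₄ • Matrix.single x₄ x₄ (1 : F) = Matrix.diagonal d := by
  refine ⟨1 + c₁ • Pi.single x₁ 1 + c₂ • Pi.single x₂ 1 + c₃ • Pi.single x₃ 1 + c₄ • Pi.single x₄ 1,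
    fun x => ?_, ?_⟩
  · simp only [Pi.add_apply, Pi.one_apply, Pi.smul_apply, Pi.single_apply, smul_eq_mul]
    by_cases h1 : x = x₁
    · subst h1
      simp [h12, h13, h14, hc₁]
    · by_cases h2 : x = x₂
      · subst h2
        simp [h1, h23, h24, hc₂]
      · by_cases h3 : x = x₃
        · subst h3
          simp [h1, h2, h34, hc₃]
        · by_cases h4 : x = x₄
          · subst h4
            simp [h1, h2, h3, hc₄]
          · simp [h1, h2, h3, h4]
  · ext i j
    simp only [Matrix.add_apply, Matrix.smul_apply, Matrix.one_apply, Matrix.single_apply,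
      Matrix.diagonal_apply, Pi.add_apply, Pi.one_apply, Pi.smul_apply, Pi.single_apply, smul_eq_mul]
    by_cases hij : i = j
    · subst hij
      simp [eq_comm]
    · have : ∀ x : J n, ¬ (x = i ∧ x = j) := fun x hx => hij (hx.1.symm.trans hx.2)
      simp [hij, this]

/-- products of two model long Weyl elements of the same root -/
theorem mwl_mul (a : J n) (t s : F) :
    mwl a t * mwl a s = 1 + (-(t * s⁻¹) - 1) • Matrix.single a a (1 : F) +
      (-(t⁻¹ * s) - 1) • Matrix.single (ng a) (ng a) (1 : F) := by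
  have h1 : ng a ≠ a := ng_ne a
  have h2 : a ≠ ng a := (ng_ne a).symm
  unfold mwl
  simp only [mul_add, add_mul, mul_sub, sub_mul, one_mul, mul_one, smul_mul_assoc, mul_smul_comm,
    Matrix.single_mul_single_same, Matrix.single_mul_single_of_ne _ _ _ _ h1,
    Matrix.single_mul_single_of_ne _ _ _ _ h2, smul_zero]
  module

/-- products of two model short Weyl elements of the same root -/
theorem mws_mul {a b : J n} (hab : IsRoot a b) (t s : F) :
    mws a b t * mws a b s = 1 + (-(t * s⁻¹) - 1) • Matrix.single a a (1 : F) +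
      (-(t⁻¹ * s) - 1) • Matrix.single b b (1 : F) +
      (-(t⁻¹ * s) - 1) • Matrix.single (ng a) (ng a) (1 : F) +
      (-(t * s⁻¹) - 1) • Matrix.single (ng b) (ng b) (1 : F) := by
  obtain ⟨h1, h2⟩ := hab
  have h3 : b ≠ ng a := ne_ng_symm h2
  have h4 : ng a ≠ ng b := fun h => h1 (ng_injective h)
  have h5 : ng a ≠ a := ng_ne a
  have h6 : ng b ≠ b := ng_ne b
  have hε := sg_sq (F := F) a b
  unfold mws
  generalize sgF F a * sgF F b = e at hε ⊢
  simp only [mul_add, add_mul, mul_sub, sub_mul, one_mul, mul_one, smul_mul_assoc, mul_smul_comm,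
    Matrix.single_mul_single_same,
    Matrix.single_mul_single_of_ne _ _ _ _ h1, Matrix.single_mul_single_of_ne _ _ _ _ h1.symm,
    Matrix.single_mul_single_of_ne _ _ _ _ h2, Matrix.single_mul_single_of_ne _ _ _ _ h2.symm,
    Matrix.single_mul_single_of_ne _ _ _ _ h3, Matrix.single_mul_single_of_ne _ _ _ _ h3.symm,
    Matrix.single_mul_single_of_ne _ _ _ _ h4, Matrix.single_mul_single_of_ne _ _ _ _ h4.symm,
    Matrix.single_mul_single_of_ne _ _ _ _ h5, Matrix.single_mul_single_of_ne _ _ _ _ h5.symm,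
    Matrix.single_mul_single_of_ne _ _ _ _ h6, Matrix.single_mul_single_of_ne _ _ _ _ h6.symm, smul_zero]
  linear_combination (norm := module) hε • (-(t * s⁻¹) • Matrix.single (ng b) (ng b) (1 : F) -
    (t⁻¹ * s) • Matrix.single (ng a) (ng a) (1 : F))

theorem diag_mul {d d' : J n → F} (hd : ∀ x, d x ≠ 0) (hd' : ∀ x, d' x ≠ 0) :
    ∃ d'' : J n → F, (∀ x, d'' x ≠ 0) ∧
      Matrix.diagonal d * Matrix.diagonal d' = Matrix.diagonal d'' :=
  ⟨fun x => d x * d' x, fun x => mul_ne_zero (hd x) (hd' x), Matrix.diagonal_mul_diagonal d d'⟩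

end MODELW

open MODELW in
theorem pi_nS (h : PHyp Ys Yl π) (s : RootB n) {m : M} (hm : m ∈ (datumC Ys Yl).nS s) :
    ∃ t : F, t ≠ 0 ∧ π m = mW s.1 t := by
  obtain ⟨r, hr⟩ := s
  cases r with
  | lg a b =>
    obtain ⟨t, ht, rfl⟩ := hm
    refine ⟨t, ht, ?_⟩
    show π (wX Ys a b t) = mws a b t
    unfold wX
    rw [map_mul, map_mul, h.pis a b hr, h.pis b a (IsRoot.symm hr), weyl_short hr ht]
  | sh a =>
    obtain ⟨t, ht, rfl⟩ := hm
    refine ⟨t, ht, ?_⟩
    show π (wY (zl Yl) a t) = mwl a (sgF F a * t)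
    unfold wY zl
    rw [map_mul, map_mul, h.pil, h.pil, sgF_ng]
    have e : -sgF F a * t⁻¹ = -(sgF F a * t)⁻¹ := by
      rw [mul_inv, sgF_inv]
      ring
    rw [e]
    exact weyl_long a (mul_ne_zero (sgF_ne_zero a) ht)

open MODELW in
theorem diag_of_mem_T (h : PHyp Ys Yl π) {t : M} (ht : t ∈ (datumC Ys Yl).T) :
    ∃ d : J n → F, (∀ x, d x ≠ 0) ∧ π t = Matrix.diagonal d := by
  have hgen : ∀ g ∈ ({g | ∃ a b, ∃ t : F, (RB.lg a b : RB n).Simple ∧ t ≠ 0 ∧ g = tX Ys a b t} ∪
      {g | ∃ a, ∃ t : F, (RB.sh a : RB n).Simple ∧ t ≠ 0 ∧ g = tY (zl Yl) a t} : Set M),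
      ∃ d : J n → F, (∀ x, d x ≠ 0) ∧ π g = Matrix.diagonal d := by
    rintro g (⟨a, b, t, hs, ht, rfl⟩ | ⟨a, t, hs, ht, rfl⟩)
    · obtain ⟨i, j, hij, rfl, rfl⟩ := hs
      have hab : IsRoot (Sum.inl i : J n) (Sum.inl j) := by
        refine ⟨fun hh => ?_, fun hh => ?_⟩
        · have : i = j := Sum.inl_injective hh
          rw [this] at hij
          omega
        · simp [ng] at hh
      have h1 : π (wX Ys (Sum.inl i) (Sum.inl j) t) = mws (Sum.inl i) (Sum.inl j) t := by
        unfold wX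
        rw [map_mul, map_mul, h.pis _ _ hab, h.pis _ _ (IsRoot.symm hab), weyl_short hab ht]
      have h2 : π (wX Ys (Sum.inl i) (Sum.inl j) (-1)) = mws (Sum.inl i) (Sum.inl j) (-1 : F) := by
        unfold wX
        rw [map_mul, map_mul, h.pis _ _ hab, h.pis _ _ (IsRoot.symm hab),
          weyl_short hab (neg_ne_zero.mpr one_ne_zero)]
      unfold tX
      rw [map_mul, h1, h2, mws_mul hab]
      obtain ⟨h3, h4⟩ := hab
      have h5 : (Sum.inl j : J n) ≠ ng (Sum.inl i) := ne_ng_symm h4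
      have h6 : ng (Sum.inl i : J n) ≠ ng (Sum.inl j) := fun hh => h3 (ng_injective hh)
      have hti : t⁻¹ ≠ 0 := inv_ne_zero ht
      have hm1 : ((-1 : F))⁻¹ ≠ 0 := inv_ne_zero (neg_ne_zero.mpr one_ne_zero)
      exact exists_diag4 h3 (ng_ne _).symm h4 h5 (ng_ne _).symm h6 _ _ _ _
        (by rw [add_sub_cancel]; exact neg_ne_zero.mpr (mul_ne_zero ht hm1))
        (by rw [add_sub_cancel]; exact neg_ne_zero.mpr (mul_ne_zero hti (neg_ne_zero.mpr one_ne_zero)))
        (by rw [add_sub_cancel]; exact neg_ne_zero.mpr (mul_ne_zero hti (neg_ne_zero.mpr one_ne_zero)))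
        (by rw [add_sub_cancel]; exact neg_ne_zero.mpr (mul_ne_zero ht hm1))
    · have hw : ∀ u : F, u ≠ 0 → π (wY (zl Yl) a u) = mwl a (sgF F a * u) := by
        intro u hu
        unfold wY zl
        rw [map_mul, map_mul, h.pil, h.pil, sgF_ng]
        have e : -sgF F a * u⁻¹ = -(sgF F a * u)⁻¹ := by
          rw [mul_inv, sgF_inv]
          ring
        rw [e]
        exact weyl_long a (mul_ne_zero (sgF_ne_zero a) hu)
      unfold tY
      rw [map_mul, hw t ht, hw (-1) (neg_ne_zero.mpr one_ne_zero), mwl_mul]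
      have hτ : sgF F a * t ≠ 0 := mul_ne_zero (sgF_ne_zero a) ht
      have hσ : sgF F a * (-1 : F) ≠ 0 := mul_ne_zero (sgF_ne_zero a) (neg_ne_zero.mpr one_ne_zero)
      exact exists_diag2 (ng_ne a).symm _ _
        (by rw [add_sub_cancel]; exact neg_ne_zero.mpr (mul_ne_zero hτ (inv_ne_zero hσ)))
        (by rw [add_sub_cancel]; exact neg_ne_zero.mpr (mul_ne_zero (inv_ne_zero hτ) hσ))
  have hT : (datumC Ys Yl).T = HhS Ys Yl := rfl
  rw [hT] at ht
  unfold HhS at ht
  induction ht using Subgroup.closure_induction with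
  | mem g hg => exact hgen g hg
  | one => exact ⟨fun _ => 1, fun _ => one_ne_zero, by rw [map_one, Matrix.diagonal_one]⟩
  | mul x y _ _ hx hy =>
    obtain ⟨d, hd, hx⟩ := hx
    obtain ⟨d', hd', hy⟩ := hy
    rw [map_mul, hx, hy]
    exact diag_mul hd hd'
  | inv x _ hx =>
    obtain ⟨d, hd, hx⟩ := hx
    refine ⟨fun x => (d x)⁻¹, fun x => inv_ne_zero (hd x), ?_⟩
    have h1 : π x * π x⁻¹ = 1 := by rw [← map_mul, mul_inv_cancel, map_one]
    have h2 : Matrix.diagonal (fun x => (d x)⁻¹) * Matrix.diagonal d = 1 := by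
      rw [Matrix.diagonal_mul_diagonal]
      have : (fun i => (d i)⁻¹ * d i) = fun _ => (1 : F) := by
        funext i
        exact inv_mul_cancel₀ (hd i)
      rw [this, Matrix.diagonal_one]
    calc π x⁻¹ = (Matrix.diagonal (fun x => (d x)⁻¹) * Matrix.diagonal d) * π x⁻¹ := by
          rw [h2, one_mul]
      _ = Matrix.diagonal (fun x => (d x)⁻¹) * (π x * π x⁻¹) := by rw [mul_assoc, hx]
      _ = Matrix.diagonal (fun x => (d x)⁻¹) := by rw [h1, mul_one]

end Cfsg.Agent.S2092P
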