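import Mathlib
import Cfsg.Agent.Helper10.S2092.DefsP

set_option autoImplicit false
set_option linter.unusedSectionVars false
set_option linter.unusedVariables false

/-! S2092, part P, piece RELABEL (driver helper10): the relabelling `a ↦ -a`. -/

namespace Cfsg.Agent.S2092P

open scoped commutatorElement
open Matrix Cfsg.Agent.S3352P Cfsg.Agent.S2096P Cfsg.Agent.S2094P Cfsg.Agent.RGD

variable {n : ℕ} {F : Type*} [Field F] {M : Type*} [Group M] {Ys : J n → J n → F → M}
  {Yl : J n → F → M} {π : M →* Matrix (J n) (J n) F}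

namespace RELABEL

theorem isRoot_ng {a b : J n} (h : IsRoot a b) : IsRoot (ng a) (ng b) :=
  IsRoot.flip (IsRoot.symm h)

theorem ng_ne_ng {a b : J n} (h : a ≠ b) : ng a ≠ ng b := fun h' => h (ng_injective h')

theorem ne_ng_ng {a b : J n} (h : a ≠ ng b) : ng a ≠ ng (ng b) := fun h' => h (ng_injective h')

theorem sgF_ng_mul (a b : J n) : sgF F (ng a) * sgF F (ng b) = sgF F a * sgF F b := by
  rw [sgF_ng, sgF_ng]
  ring

theorem cRel_ng (h : CRel Ys Yl) : CRel (ngs Ys) (ngl Yl) where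
  flip a b hab t := by
    have := h.flip (ng a) (ng b) (isRoot_ng hab) t
    rw [sgF_ng_mul] at this
    exact this
  adds a b hab s t := h.adds (ng a) (ng b) (isRoot_ng hab) s t
  addl a s t := h.addl (ng a) s t
  mul a b c hab hbc hac s t := h.mul (ng a) (ng b) (ng c) (isRoot_ng hab) (isRoot_ng hbc) (isRoot_ng hac) s t
  comm a b c d hab hcd h1 h2 h3 h4 h5 h6 s t :=
    h.comm (ng a) (ng b) (ng c) (ng d) (isRoot_ng hab) (isRoot_ng hcd) (ng_ne_ng h1) (ng_ne_ng h2)
      (ne_ng_ng h3) (ne_ng_ng h4) (ne_ng_ng h5) (ne_ng_ng h6) s t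
  orthC a b hab s t := h.orthC (ng a) (ng b) (isRoot_ng hab) s t
  sl a b hab s t := by
    have := h.sl (ng a) (ng b) (isRoot_ng hab) s t
    rw [sgF_ng_mul] at this
    exact this
  slcomm a b c hab h1 h2 s t :=
    h.slcomm (ng a) (ng b) (ng c) (isRoot_ng hab) (ng_ne_ng h1) (ne_ng_ng h2) s t
  ll a c h1 s t := h.ll (ng a) (ng c) (ne_ng_ng h1) s t

theorem ngmHom_xs (a b : J n) (t : F) : ngmHom n F (xs (ng a) (ng b) t) = xs a b t := by
  ext x y
  rw [ngmHom_apply]
  unfold xs
  simp only [Matrix.add_apply, Matrix.smul_apply, Matrix.sub_apply, Matrix.one_apply,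
    Matrix.single_apply, ng_ng, smul_eq_mul, ng_injective.eq_iff, sgF_ng_mul]
  have e1 : (b = ng x ∧ a = ng y) ↔ (ng b = x ∧ ng a = y) := by
    constructor
    · rintro ⟨h1, h2⟩
      exact ⟨by rw [h1, ng_ng], by rw [h2, ng_ng]⟩
    · rintro ⟨h1, h2⟩
      exact ⟨by rw [← h1, ng_ng], by rw [← h2, ng_ng]⟩
  simp only [e1]

theorem ngmHom_xl (a : J n) (t : F) : ngmHom n F (xl (ng a) t) = xl a t := by
  ext x y
  rw [ngmHom_apply]
  unfold xl
  simp only [Matrix.add_apply, Matrix.smul_apply, Matrix.one_apply,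
    Matrix.single_apply, ng_ng, smul_eq_mul, ng_injective.eq_iff]
  have e1 : (a = ng y) ↔ (ng a = y) := by
    constructor
    · intro h1
      rw [h1, ng_ng]
    · intro h1
      rw [← h1, ng_ng]
  simp only [e1]

end RELABEL

theorem PHyp.ng (h : PHyp Ys Yl π) : PHyp (ngs Ys) (ngl Yl) ((ngmHom n F).comp π) where
  rel := RELABEL.cRel_ng h.rel
  pis a b hab t := by
    rw [MonoidHom.comp_apply]
    show ngmHom n F (π (Ys (S3352P.ng a) (S3352P.ng b) t)) = xs a b t
    rw [h.pis _ _ (RELABEL.isRoot_ng hab), RELABEL.ngmHom_xs]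
  pil a t := by
    rw [MonoidHom.comp_apply]
    show ngmHom n F (π (Yl (S3352P.ng a) t)) = xl a t
    rw [h.pil, RELABEL.ngmHom_xl]

theorem U_ngs (hY : CRel Ys Yl) (r : RootB n) :
    (datumC (ngs Ys) (ngl Yl)).U r = (datumC Ys Yl).U ((datumC Ys Yl).neg r) := by
  obtain ⟨r, hr⟩ := r
  cases r with
  | lg a b =>
    show Subgroup.closure {g | ∃ t : F, g = ngs Ys a b t} = Subgroup.closure {g | ∃ t : F, g = Ys b a t}
    congr 1
    have hba : IsRoot b a := IsRoot.symm hr
    have hfl := hY.flip b a hba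
    have hsq : (sgF F b * sgF F a) * (sgF F b * sgF F a) = 1 := by
      have h1 := sgF_mul_self F a
      have h2 := sgF_mul_self F b
      calc (sgF F b * sgF F a) * (sgF F b * sgF F a)
          = (sgF F b * sgF F b) * (sgF F a * sgF F a) := by ring
        _ = 1 := by rw [h1, h2, one_mul]
    ext g
    constructor
    · rintro ⟨t, rfl⟩
      exact ⟨-(sgF F b * sgF F a) * t, hfl t⟩
    · rintro ⟨t, rfl⟩
      refine ⟨-(sgF F b * sgF F a) * t, ?_⟩
      show Ys b a t = Ys (S3352P.ng a) (S3352P.ng b) (-(sgF F b * sgF F a) * t)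
      rw [hfl]
      congr 1
      calc t = ((sgF F b * sgF F a) * (sgF F b * sgF F a)) * t := by rw [hsq, one_mul]
        _ = -(sgF F b * sgF F a) * (-(sgF F b * sgF F a) * t) := by ring
  | sh a =>
    show Subgroup.closure {g | ∃ t : F, g = zl (ngl Yl) a t} =
      Subgroup.closure {g | ∃ t : F, g = zl Yl (S3352P.ng a) t}
    congr 1
    ext g
    constructor
    · rintro ⟨t, rfl⟩
      refine ⟨-t, ?_⟩
      show Yl (S3352P.ng a) (sgF F a * t) = Yl (S3352P.ng a) (sgF F (S3352P.ng a) * -t)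
      rw [sgF_ng]
      congr 1
      ring
    · rintro ⟨t, rfl⟩
      refine ⟨-t, ?_⟩
      show Yl (S3352P.ng a) (sgF F (S3352P.ng a) * t) = Yl (S3352P.ng a) (sgF F a * -t)
      rw [sgF_ng]
      congr 1
      ring

theorem ngmHom_injective : Function.Injective (ngmHom n F) := by
  intro A B h
  ext x y
  have := congrFun (congrFun h (S3352P.ng x)) (S3352P.ng y)
  rw [ngmHom_apply, ngmHom_apply, ng_ng, ng_ng] at this
  exact this

end Cfsg.Agent.S2092P
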