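import Mathlib
import Cfsg.Prelude.Def_LocalEven
import Cfsg.Prelude.Def_Solvable

/-! Board `tv2pieces` (driver helper29): definitions for the abstract transvection case TV2 of S3000.
Blueprint: `departures/helper29_TV2_blueprint.md`.

Setting: a finite group `P` acting (`DistribMulAction`) faithfully on a finite `ZMod 2`-module `W`; `P` is 2-minimal with
`O_2(P) = 1`, Sylow 2-subgroup `T` inside the coatom `M`, `C_P(C_W(T)) ≤ M`, and some `a : P` acts on `W` as a transvection. -/

set_option autoImplicit false

namespace Cfsg.Agent.TV2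

variable {P : Type*} [Group P]

/-- `d` acts on `W` as the transvection `w ↦ w + φ w • c` with centre `c ≠ 0` and functional `φ ≠ 0`. -/
def IsTv {W : Type*} [AddCommGroup W] [Module (ZMod 2) W] [DistribMulAction P W] (d : P) (c : W) (φ : W →+ ZMod 2) : Prop :=
  c ≠ 0 ∧ φ ≠ 0 ∧ ∀ w : W, d • w = w + φ w • c

/-- `d` acts on `W` as some transvection. -/
def Tv (W : Type*) [AddCommGroup W] [Module (ZMod 2) W] [DistribMulAction P W] (d : P) : Prop :=
  ∃ (c : W) (φ : W →+ ZMod 2), IsTv d c φ

open Classical in
/-- the centre of the transvection `d` (junk value `0` if `d` is not a transvection). -/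
noncomputable def cen (W : Type*) [AddCommGroup W] [Module (ZMod 2) W] [DistribMulAction P W] (d : P) : W :=
  if h : Tv W d then h.choose else 0

open Classical in
/-- the functional of the transvection `d` (junk value `0` if `d` is not a transvection). -/
noncomputable def fn (W : Type*) [AddCommGroup W] [Module (ZMod 2) W] [DistribMulAction P W] (d : P) : W →+ ZMod 2 :=
  if h : Tv W d then h.choose_spec.choose else 0

/-- the form `B(d,e) = φ_d(c_e)`. -/
noncomputable def B (W : Type*) [AddCommGroup W] [Module (ZMod 2) W] [DistribMulAction P W] (d e : P) : ZMod 2 :=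
  fn W d (cen W e)

/-- the fixed points of a subgroup `H` of `P` on `W`. -/
def fixS (W : Type*) [AddCommGroup W] [Module (ZMod 2) W] [DistribMulAction P W] (H : Subgroup P) : AddSubgroup W where
  carrier := {w | ∀ h ∈ H, h • w = w}
  zero_mem' := fun h _ => smul_zero h
  add_mem' := fun {a b} ha hb h hh => by rw [smul_add, ha h hh, hb h hh]
  neg_mem' := fun {a} ha h hh => by rw [smul_neg, ha h hh]

/-- the commutator `[W,H]`: the additive subgroup generated by all `h • w - w`, `h ∈ H`. -/
def commS (W : Type*) [AddCommGroup W] [Module (ZMod 2) W] [DistribMulAction P W] (H : Subgroup P) : AddSubgroup W :=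
  AddSubgroup.closure {u | ∃ h ∈ H, ∃ w : W, u = h • w - w}

/-- The context of TV2. -/
structure Ctx (P : Type*) (W : Type*) [Group P] [AddCommGroup W] [Module (ZMod 2) W] [DistribMulAction P W] where
  /-- the action is faithful -/
  faith : ∀ g : P, (∀ w : W, g • w = w) → g = 1
  hmin : Cfsg.IsPMinimal 2 P
  /-- the Sylow 2-subgroup -/
  T : Sylow 2 P
  /-- the unique maximal subgroup containing `T` -/
  M : Subgroup P
  hM : IsCoatom M
  hTM : (T : Subgroup P) ≤ M
  hOp : Cfsg.pCore 2 P = ⊥
  /-- the given transvection -/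
  a : P
  ha : Tv W a
  /-- `C_P(C_W(T)) ≤ M` -/
  hCT : ∀ g : P, (∀ w : W, (∀ t ∈ (T : Subgroup P), t • w = w) → g • w = w) → g ∈ M

variable {W : Type*} [AddCommGroup W] [Module (ZMod 2) W] [DistribMulAction P W]

/-- the conjugacy class of the transvection `a`. -/
def Ctx.D (C : Ctx P W) : Set P := {d | ∃ g : P, d = g * C.a * g⁻¹}

/-- the members of `D` outside `M`. -/
def Ctx.D1 (C : Ctx P W) : Set P := {d | d ∈ C.D ∧ d ∉ C.M}

/-- `E = ⟨D⟩`. -/
def Ctx.E (C : Ctx P W) : Subgroup P := Subgroup.closure C.D

/-- `U`, the span of the centres of the members of `D` (it is `[W,E]`). -/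
def Ctx.U (C : Ctx P W) : AddSubgroup W := AddSubgroup.closure {u | ∃ d ∈ C.D, u = cen W d}

/-- `z` is a base vector: fixed by `T`, not fixed by `P`. -/
structure Ctx.IsBase (C : Ctx P W) (z : W) : Prop where
  fixT : ∀ t ∈ (C.T : Subgroup P), t • z = z
  moved : ∃ g : P, g • z ≠ z

/-- the clique of `x` in `D1`: `x` itself and the members of `D1` not commuting with `x`. -/
def Ctx.K (C : Ctx P W) (x : P) : Set P := {y | y ∈ C.D1 ∧ (y = x ∨ B W y x = 1)}

/-- the span of the centres of a set of transvections. -/
def cspan (W : Type*) [AddCommGroup W] [Module (ZMod 2) W] [DistribMulAction P W] (S : Set P) : AddSubgroup W :=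
  AddSubgroup.closure {u | ∃ d ∈ S, u = cen W d}

/-- the point of `W` attached to `δ : Option (K x)`: `z` for `none`, `z + c_y` for `some y`. -/
noncomputable def pt (C : Ctx P W) (z : W) (x : P) : Option ↥(C.K x) → W :=
  fun δ => δ.elim z (fun y => z + cen W (y : P))

end Cfsg.Agent.TV2
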