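import Mathlib
import Cfsg.Agent.Helper29.TV2Defs

/-! Board `tv2pieces`: transvection calculus (piece TVC). -/

set_option autoImplicit false

namespace Cfsg.Agent.TV2

variable {P : Type*} [Group P] {W : Type*} [AddCommGroup W] [Module (ZMod 2) W] [DistribMulAction P W]

theorem zmod2_cases (x : ZMod 2) : x = 0 ∨ x = 1 := by
  fin_cases x
  · left; rfl
  · right; rfl

theorem zmod2_ne_zero {x : ZMod 2} (h : x ≠ 0) : x = 1 := (zmod2_cases x).resolve_left h

theorem zmod2_ne_one {x : ZMod 2} (h : x ≠ 1) : x = 0 := (zmod2_cases x).resolve_right h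

theorem add_self_W (w : W) : w + w = 0 := by
  have h : (2 : ZMod 2) • w = 0 := by
    rw [show (2 : ZMod 2) = 0 from rfl, zero_smul]
  rwa [two_smul] at h

theorem neg_eq_W (w : W) : -w = w := by
  rw [neg_eq_iff_add_eq_zero]; exact add_self_W w

theorem sub_eq_add_W (v w : W) : v - w = v + w := by
  rw [sub_eq_add_neg, neg_eq_W]

theorem smul_zmod_comm (g : P) (x : ZMod 2) (w : W) : g • (x • w) = x • (g • w) := by
  rcases zmod2_cases x with rfl | rfl
  · rw [zero_smul, zero_smul, smul_zero]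
  · rw [one_smul, one_smul]

omit [Module (ZMod 2) W] in
theorem exists_eq_one_of_ne_zero {φ : W →+ ZMod 2} (h : φ ≠ 0) : ∃ w, φ w = 1 := by
  obtain ⟨w, hw⟩ := DFunLike.ne_iff.mp h
  exact ⟨w, zmod2_ne_zero hw⟩

theorem IsTv.unique {d : P} {c c' : W} {φ φ' : W →+ ZMod 2} (h : IsTv d c φ) (h' : IsTv d c' φ') :
    c = c' ∧ φ = φ' := by
  obtain ⟨hc, hφ, hact⟩ := h
  obtain ⟨hc', hφ', hact'⟩ := h'
  have key : ∀ w, φ w • c = φ' w • c' := by
    intro w
    have := (hact w).symm.trans (hact' w)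
    exact add_left_cancel this
  obtain ⟨w, hw⟩ := exists_eq_one_of_ne_zero hφ
  have h1 := key w
  rw [hw, one_smul] at h1
  have h2 : φ' w = 1 := by
    rcases zmod2_cases (φ' w) with h0 | h0
    · rw [h0, zero_smul] at h1; exact absurd h1 hc
    · exact h0
  rw [h2, one_smul] at h1
  refine ⟨h1, ?_⟩
  ext v
  have h3 := key v
  rw [← h1] at h3
  rcases zmod2_cases (φ v) with ha | ha <;> rcases zmod2_cases (φ' v) with hb | hb
  · rw [ha, hb]
  · rw [ha, hb, zero_smul, one_smul] at h3; exact absurd h3.symm hc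
  · rw [ha, hb, zero_smul, one_smul] at h3; exact absurd h3 hc
  · rw [ha, hb]

theorem Tv.spec {d : P} (h : Tv W d) : IsTv d (cen W d) (fn W d) := by
  unfold cen fn
  rw [dif_pos h, dif_pos h]
  exact h.choose_spec.choose_spec

theorem IsTv.tv {d : P} {c : W} {φ : W →+ ZMod 2} (h : IsTv d c φ) : Tv W d := ⟨c, φ, h⟩

theorem IsTv.cen_eq {d : P} {c : W} {φ : W →+ ZMod 2} (h : IsTv d c φ) : cen W d = c :=
  (h.tv.spec.unique h).1

theorem IsTv.fn_eq {d : P} {c : W} {φ : W →+ ZMod 2} (h : IsTv d c φ) : fn W d = φ :=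
  (h.tv.spec.unique h).2

theorem Tv.act {d : P} (h : Tv W d) (w : W) : d • w = w + fn W d w • cen W d := h.spec.2.2 w

theorem Tv.cen_ne_zero {d : P} (h : Tv W d) : cen W d ≠ 0 := h.spec.1

theorem Tv.fn_ne_zero {d : P} (h : Tv W d) : fn W d ≠ 0 := h.spec.2.1

theorem Tv.exists_fn_eq_one {d : P} (h : Tv W d) : ∃ w, fn W d w = 1 := exists_eq_one_of_ne_zero h.fn_ne_zero

/-- the centre is a commutator: `c_d = d • w - w` for any `w` with `φ_d w = 1`. -/
theorem Tv.cen_eq_sub {d : P} (h : Tv W d) {w : W} (hw : fn W d w = 1) : cen W d = d • w - w := by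
  rw [h.act w, hw, one_smul, add_sub_cancel_left]

theorem Tv.smul_sub {d : P} (h : Tv W d) (w : W) : d • w - w = fn W d w • cen W d := by
  rw [h.act w, add_sub_cancel_left]

theorem Tv.fixed_iff {d : P} (h : Tv W d) (w : W) : d • w = w ↔ fn W d w = 0 := by
  rw [h.act w]
  constructor
  · intro h1
    have h2 : fn W d w • cen W d = 0 := by
      have := h1
      rwa [add_eq_left] at this
    rcases zmod2_cases (fn W d w) with h0 | h0
    · exact h0
    · rw [h0, one_smul] at h2; exact absurd h2 h.cen_ne_zero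
  · intro h1; rw [h1, zero_smul, add_zero]

/-- `φ_d(c_d) = 0` (because `d` acts invertibly). -/
theorem Tv.fn_cen_self {d : P} (h : Tv W d) : fn W d (cen W d) = 0 := by
  by_contra hne
  have h1 : fn W d (cen W d) = 1 := zmod2_ne_zero hne
  -- then `d • c = c + c = 0`, so `c = 0`
  have h2 : d • cen W d = 0 := by
    rw [h.act, h1, one_smul, add_self_W]
  have h3 : cen W d = 0 := by
    have := congrArg (fun w => d⁻¹ • w) h2
    simpa using this
  exact h.cen_ne_zero h3

theorem Tv.smul_cen_self {d : P} (h : Tv W d) : d • cen W d = cen W d := (h.fixed_iff _).mpr h.fn_cen_self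

theorem Tv.sq_smul {d : P} (h : Tv W d) (w : W) : d • d • w = w := by
  rw [h.act w, smul_add, smul_zmod_comm, h.smul_cen_self, h.act w, add_assoc, ← add_smul]
  rcases zmod2_cases (fn W d w) with h0 | h0
  · rw [h0]; simp
  · rw [h0, show (1 : ZMod 2) + 1 = 0 from rfl, zero_smul, add_zero]

theorem Tv.inv_smul {d : P} (h : Tv W d) (w : W) : d⁻¹ • w = d • w := by
  rw [inv_smul_eq_iff, h.sq_smul]

theorem Tv.ne_one {d : P} (h : Tv W d) : d ≠ 1 := by
  rintro rfl
  obtain ⟨w, hw⟩ := h.exists_fn_eq_one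
  have := (h.fixed_iff w).mp (one_smul P w)
  rw [hw] at this
  exact one_ne_zero this

/-- conjugates of transvections. -/
theorem IsTv.conj {d : P} {c : W} {φ : W →+ ZMod 2} (h : IsTv d c φ) (g : P) :
    IsTv (g * d * g⁻¹) (g • c) (φ.comp (DistribSMul.toAddMonoidHom W g⁻¹)) := by
  obtain ⟨hc, hφ, hact⟩ := h
  refine ⟨?_, ?_, ?_⟩
  · intro h0
    apply hc
    have := congrArg (fun w => g⁻¹ • w) h0
    simpa using this
  · intro h0
    apply hφ
    ext w
    have := DFunLike.congr_fun h0 (g • w)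
    simpa using this
  · intro w
    rw [mul_smul, mul_smul, hact, smul_add, smul_inv_smul, smul_zmod_comm]
    rfl

theorem Tv.conj {d : P} (h : Tv W d) (g : P) : Tv W (g * d * g⁻¹) := (h.spec.conj g).tv

theorem Tv.cen_conj {d : P} (h : Tv W d) (g : P) : cen W (g * d * g⁻¹) = g • cen W d := (h.spec.conj g).cen_eq

theorem Tv.fn_conj {d : P} (h : Tv W d) (g : P) (w : W) : fn W (g * d * g⁻¹) w = fn W d (g⁻¹ • w) := by
  rw [(h.spec.conj g).fn_eq]; rfl

theorem Tv.B_conj {d e : P} (hd : Tv W d) (he : Tv W e) (g : P) : B W (g * d * g⁻¹) (g * e * g⁻¹) = B W d e := by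
  unfold B
  rw [hd.fn_conj, he.cen_conj, inv_smul_smul]

theorem B_self {d : P} (h : Tv W d) : B W d d = 0 := h.fn_cen_self

/-- the action of `e` on the centre of `d`. -/
theorem Tv.smul_cen {d e : P} (he : Tv W e) : e • cen W d = cen W d + B W e d • cen W e := he.act _

/-- centre of `e d e⁻¹`. -/
theorem Tv.cen_conj_tv {d e : P} (hd : Tv W d) (he : Tv W e) : cen W (e * d * e⁻¹) = cen W d + B W e d • cen W e := by
  rw [hd.cen_conj, he.smul_cen]

/-- functional of `e d e⁻¹`. -/
theorem Tv.fn_conj_tv {d e : P} (hd : Tv W d) (he : Tv W e) (w : W) :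
    fn W (e * d * e⁻¹) w = fn W d w + fn W e w * B W d e := by
  rw [hd.fn_conj, he.inv_smul, he.act, map_add, ZMod.map_smul, smul_eq_mul]
  rfl

/-- two transvections with the same centre and functional are equal (faithful action). -/
theorem tv_ext (faith : ∀ g : P, (∀ w : W, g • w = w) → g = 1) {d e : P} (hd : Tv W d) (he : Tv W e)
    (hc : cen W d = cen W e) (hf : fn W d = fn W e) : d = e := by
  have h : d * e⁻¹ = 1 := by
    apply faith
    intro w
    rw [mul_smul, he.inv_smul, he.act, hd.act, ← hc, ← hf, map_add, ZMod.map_smul, hd.fn_cen_self, smul_zero, add_zero,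
      add_assoc, ← add_smul]
    rcases zmod2_cases (fn W d w) with h0 | h0
    · rw [h0]; simp
    · rw [h0, show (1 : ZMod 2) + 1 = 0 from rfl, zero_smul, add_zero]
  exact mul_inv_eq_one.mp h

theorem Tv.mul_self (faith : ∀ g : P, (∀ w : W, g • w = w) → g = 1) {d : P} (h : Tv W d) : d * d = 1 := by
  apply faith
  intro w
  rw [mul_smul, h.sq_smul]

theorem Tv.inv_eq (faith : ∀ g : P, (∀ w : W, g • w = w) → g = 1) {d : P} (h : Tv W d) : d⁻¹ = d :=
  inv_eq_of_mul_eq_one_left (h.mul_self faith)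

/-- commuting transvections have `B = 0`. -/
theorem B_eq_zero_of_commute {d e : P} (hd : Tv W d) (he : Tv W e) (h : d * e = e * d) : B W d e = 0 := by
  have h1 : d * e * d⁻¹ = e := by rw [h, mul_inv_cancel_right]
  have h2 := he.cen_conj_tv hd
  rw [h1] at h2
  have h3 : B W d e • cen W d = 0 := by
    have := h2.symm
    rwa [add_eq_left] at this
  rcases zmod2_cases (B W d e) with h0 | h0
  · exact h0
  · rw [h0, one_smul] at h3; exact absurd h3 hd.cen_ne_zero

/-- transvections with `B d e = 0 = B e d` commute. -/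
theorem commute_of_B_eq_zero (faith : ∀ g : P, (∀ w : W, g • w = w) → g = 1) {d e : P} (hd : Tv W d) (he : Tv W e)
    (h1 : B W d e = 0) (h2 : B W e d = 0) : d * e = e * d := by
  have h : d * e * d⁻¹ = e := by
    apply tv_ext faith (he.conj d) he
    · rw [he.cen_conj_tv hd, h1, zero_smul, add_zero]
    · ext w
      rw [he.fn_conj_tv hd, h2, mul_zero, add_zero]
  rw [← h, inv_mul_cancel_right, h]

/-- the braid relation for transvections with `B d e = 1 = B e d`. -/
theorem braid_of_B_eq_one (faith : ∀ g : P, (∀ w : W, g • w = w) → g = 1) {d e : P} (hd : Tv W d) (he : Tv W e)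
    (h1 : B W d e = 1) (h2 : B W e d = 1) : e * d * e⁻¹ = d * e * d⁻¹ := by
  apply tv_ext faith (hd.conj e) (he.conj d)
  · rw [hd.cen_conj_tv he, he.cen_conj_tv hd, h1, h2, one_smul, one_smul, add_comm]
  · ext w
    rw [hd.fn_conj_tv he, he.fn_conj_tv hd, h1, h2, mul_one, mul_one, add_comm]

/-- `(d e)^3 = 1` for transvections with `B d e = 1 = B e d`. -/
theorem pow_three_of_B_eq_one (faith : ∀ g : P, (∀ w : W, g • w = w) → g = 1) {d e : P} (hd : Tv W d) (he : Tv W e)
    (h1 : B W d e = 1) (h2 : B W e d = 1) : (d * e) ^ 3 = 1 := by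
  have hb := braid_of_B_eq_one faith hd he h1 h2
  rw [hd.inv_eq faith, he.inv_eq faith] at hb
  have hdd := hd.mul_self faith
  have hee := he.mul_self faith
  calc (d * e) ^ 3 = d * (e * d * e) * d * e := by rw [pow_three]; group
    _ = d * (d * e * d) * d * e := by rw [hb]
    _ = (d * d) * e * (d * d) * e := by group
    _ = 1 := by rw [hdd, one_mul, mul_one, hee]

/-- product of two commuting transvections. -/
theorem Tv.mul_act {d e : P} (hd : Tv W d) (he : Tv W e) (h : B W d e = 0) (w : W) :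
    (d * e) • w = w + fn W d w • cen W d + fn W e w • cen W e := by
  rw [mul_smul, he.act, smul_add, smul_zmod_comm, hd.act w, hd.smul_cen, h, zero_smul, add_zero]

end Cfsg.Agent.TV2
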