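import Mathlib
import Cfsg.Agent.Helper29.TV2Basic
import Cfsg.Agent.Helper24.TV2_DE
import Cfsg.Agent.Helper18.TV2_USPAN
import Cfsg.Agent.Helper8.TV2_SYMM
import Cfsg.Agent.Helper25.TV2_STAB3

/-! Board `tv2pieces`, piece INJ (hedge by helper29): a member of `D` is determined by its row of `B`. -/

set_option autoImplicit false

namespace Cfsg.Agent.TV2

variable {P : Type*} [Group P] [Finite P] {W : Type*} [AddCommGroup W] [Module (ZMod 2) W] [Finite W] [DistribMulAction P W]

theorem INJ (C : Ctx P W) {d e : P} (hd : d ∈ C.D) (he : e ∈ C.D) (h : ∀ d' ∈ C.D, B W d d' = B W e d') : d = e := by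
  have htd := DE_tv C hd
  have hte := DE_tv C he
  have hde : B W d e = 0 := by rw [h e he]; exact B_self hte
  -- the two functionals agree on `U`
  have hfn : ∀ u ∈ C.U, fn W d u = fn W e u := by
    intro u hu
    unfold Ctx.U at hu
    induction hu using AddSubgroup.closure_induction with
    | mem v hv =>
      obtain ⟨d', hd', rfl⟩ := hv
      exact h d' hd'
    | zero => rw [map_zero, map_zero]
    | add a b _ _ ha hb => rw [map_add, map_add, ha, hb]
    | neg a _ ha => rw [map_neg, map_neg, ha]
  -- `r = c_d + c_e` lies in `U ⊓ fixS W E`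
  have hrU : cen W d + cen W e ∈ C.U := C.U.add_mem (USPAN_cen_mem C hd) (USPAN_cen_mem C he)
  have hrfix : cen W d + cen W e ∈ fixS W C.E := by
    have hle : C.E ≤ MulAction.stabilizer P (cen W d + cen W e) := by
      unfold Ctx.E
      rw [Subgroup.closure_le]
      intro d' hd'
      rw [SetLike.mem_coe, MulAction.mem_stabilizer_iff]
      have htd' := DE_tv C hd'
      rw [htd'.fixed_iff, map_add]
      have h1 : fn W d' (cen W d) = B W d d' := by
        have := SYMM C hd' hd
        unfold B at this
        exact this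
      have h2 : fn W d' (cen W e) = B W e d' := by
        have := SYMM C hd' he
        unfold B at this
        exact this
      rw [h1, h2, h d' hd']
      rcases zmod2_cases (B W e d') with h0 | h0 <;> rw [h0] <;> rfl
    intro g hg
    exact MulAction.mem_stabilizer_iff.mp (hle hg)
  have hdE : d ∈ C.E := Subgroup.subset_closure hd
  have heE : e ∈ C.E := Subgroup.subset_closure he
  have hact : ∀ w : W, (d * e) • w - w = fn W d w • cen W d + fn W e w • cen W e := by
    intro w
    rw [htd.mul_act hte hde]
    abel
  have hone : d * e = 1 := by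
    apply STAB3 C
    · intro w
      rw [hact]
      exact C.U.add_mem (ZMod.smul_mem (USPAN_cen_mem C hd) _) (ZMod.smul_mem (USPAN_cen_mem C he) _)
    · intro u hu
      rw [hact, hfn u hu, ← smul_add]
      exact ZMod.smul_mem (AddSubgroup.mem_inf.mpr ⟨hrU, hrfix⟩) _
    · intro r hr
      exact (AddSubgroup.mem_inf.mp hr).2 (d * e) (C.E.mul_mem hdE heE)
  have : d = e⁻¹ := eq_inv_of_mul_eq_one_left hone
  rw [this, hte.inv_eq C.faith]

theorem INJ_cen (C : Ctx P W) {d e : P} (hd : d ∈ C.D) (he : e ∈ C.D) (h : cen W d = cen W e) : d = e := by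
  apply INJ C hd he
  intro d' hd'
  rw [SYMM C hd hd', SYMM C he hd']
  unfold B
  rw [h]

end Cfsg.Agent.TV2
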