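import Mathlib
import Cfsg.Agent.Helper10.S4017Defs

set_option autoImplicit false

/-! # S4017 piece B2STR: structure of `U p t` when `|Q| = 4` (Case B). -/

namespace Cfsg.Agent.S4017P

open Subgroup

section aux

variable {G : Type*} [Group G]

/-- a group of exponent 2 is abelian -/
theorem B2STR_aux_comm {Q : Subgroup G} (helem : ∀ x ∈ Q, x * x = 1) :
    ∀ x ∈ Q, ∀ y ∈ Q, x * y = y * x := by
  intro x hx y hy
  have h1 : (x * y)⁻¹ = x * y := inv_eq_of_mul_eq_one_right (helem _ (mul_mem hx hy))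
  have h2 : x⁻¹ = x := inv_eq_of_mul_eq_one_right (helem _ hx)
  have h3 : y⁻¹ = y := inv_eq_of_mul_eq_one_right (helem _ hy)
  rw [mul_inv_rev, h2, h3] at h1
  exact h1.symm

theorem B2STR_aux_uconj (p : ℕ) (g t x : G) (hx : x ∈ U p t) :
    g * x * g⁻¹ ∈ U p (g * t * g⁻¹) := by
  unfold U at hx
  induction hx using Subgroup.closure_induction with
  | mem x hx =>
    apply Subgroup.subset_closure
    refine ⟨?_, ?_⟩
    · have := hx.1
      calc g * x * g⁻¹ * (g * t * g⁻¹) = g * (x * t) * g⁻¹ := by group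
        _ = g * (t * x) * g⁻¹ := by rw [this]
        _ = g * t * g⁻¹ * (g * x * g⁻¹) := by group
    · obtain ⟨k, hk⟩ := hx.2
      refine ⟨k, ?_⟩
      rw [← hk]
      have := orderOf_injective (MulAut.conj g).toMonoidHom (MulAut.conj g).injective x
      simpa using this
  | one => simp [one_mem]
  | mul x y _ _ hx hy =>
    have : g * (x * y) * g⁻¹ = (g * x * g⁻¹) * (g * y * g⁻¹) := by group
    rw [this]; exact mul_mem hx hy
  | inv x _ hx =>
    have : g * x⁻¹ * g⁻¹ = (g * x * g⁻¹)⁻¹ := by group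
    rw [this]; exact inv_mem hx

theorem B2STR_aux_le_cent (p : ℕ) (t x : G) (hx : x ∈ U p t) : x * t = t * x := by
  have h1 : U p t ≤ Subgroup.centralizer ({t} : Set G) := by
    unfold U
    rw [Subgroup.closure_le]
    intro y hy
    rw [SetLike.mem_coe, Subgroup.mem_centralizer_singleton_iff]
    exact hy.1
  exact Subgroup.mem_centralizer_singleton_iff.mp (h1 hx)

theorem B2STR_aux_ispel {p : ℕ} [Fact p.Prime] {P : Subgroup G} (hP : IsPGroup p P) {x : G}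
    (hx : x ∈ P) : IsPEl p x := by
  obtain ⟨k, hk⟩ := (IsPGroup.iff_orderOf.mp hP) ⟨x, hx⟩
  exact ⟨k, by rw [← hk, Subgroup.orderOf_mk]⟩

theorem B2STR_aux_order_two {t : G} (h1 : t * t = 1) (h2 : t ≠ 1) : orderOf t = 2 := by
  haveI : Fact (2 : ℕ).Prime := ⟨Nat.prime_two⟩
  exact orderOf_eq_prime (by rw [pow_two]; exact h1) h2

variable [Finite G]

/-- a subgroup of a group of order 4 containing three distinct elements is everything -/
theorem B2STR_aux_three {Q H : Subgroup G} (hQ : Nat.card Q = 4) (hHQ : H ≤ Q) {t s : G}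
    (ht : t ∈ H) (hs : s ∈ H) (ht1 : t ≠ 1) (hs1 : s ≠ 1) (hst : s ≠ t) : H = Q := by
  apply Subgroup.eq_of_le_of_card_ge hHQ
  have hdvd : Nat.card H ∣ Nat.card Q := Subgroup.card_dvd_of_le hHQ
  have h3 : 3 ≤ Nat.card H := by
    have hsub : ({1, t, s} : Set G) ⊆ (H : Set G) := by
      intro x hx
      rcases hx with rfl | rfl | rfl
      · exact one_mem H
      · exact ht
      · exact hs
    have hn : ({1, t, s} : Set G).ncard = 3 :=
      Set.ncard_eq_three.mpr ⟨1, t, s, ht1.symm, hs1.symm, hst.symm, rfl⟩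
    have := Set.ncard_le_ncard hsub (Set.toFinite _)
    rw [hn] at this
    rwa [← Nat.card_coe_set_eq] at this
  rw [hQ] at hdvd ⊢
  have hle : Nat.card H ≤ 4 := Nat.le_of_dvd (by norm_num) hdvd
  interval_cases (Nat.card H)
  · norm_num at hdvd
  · exact le_rfl

/-- in a group of order 4 there is an element outside `{1, t}` -/
theorem B2STR_aux_exists_s {Q : Subgroup G} (hQ : Nat.card Q = 4) {t : G} (ht1 : t ≠ 1) :
    ∃ s ∈ Q, s ≠ 1 ∧ s ≠ t := by
  by_contra hcon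
  push Not at hcon
  have hsub : (Q : Set G) ⊆ ({1, t} : Set G) := by
    intro x hx
    by_cases hx1 : x = 1
    · left; exact hx1
    · right; exact hcon x hx hx1
  have h1 := Set.ncard_le_ncard hsub (Set.toFinite _)
  rw [Set.ncard_pair ht1.symm, ← Nat.card_coe_set_eq] at h1
  have : Nat.card (Q : Set G) = 4 := hQ
  omega

/-- a `p`-subgroup has order at most `p ^ v_p(|G|)` -/
theorem B2STR_aux_bound {p : ℕ} [hp : Fact p.Prime] {P : Subgroup G} (hP : IsPGroup p P) :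
    Nat.card P ≤ p ^ (Nat.card G).factorization p := by
  obtain ⟨k, hk⟩ := (IsPGroup.iff_card).mp hP
  have hdvd : p ^ k ∣ Nat.card G := by
    rw [← hk]; exact Subgroup.card_subgroup_dvd_card P
  have := (Nat.Prime.pow_dvd_iff_le_factorization hp.out Nat.card_pos.ne').mp hdvd
  rw [hk]
  exact Nat.pow_le_pow_right hp.out.pos this

/-- uniqueness of the Sylow subgroup given by `NYc` -/
theorem B2STR_aux_uniq {p : ℕ} [hp : Fact p.Prime]
    (hab : ∀ P : Subgroup G, IsPGroup p P → ∀ x ∈ P, ∀ y ∈ P, x * y = y * x)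
    {y : G} {Pst : Subgroup G}
    (hmem : ∀ x : G, x * y = y * x → IsPEl p x → x ∈ Pst)
    (P' : Subgroup G) (hP' : IsPGroup p P') (hy : y ∈ P') : P' ≤ Pst := by
  intro x hx
  exact hmem x (hab P' hP' x hx y hy) (B2STR_aux_ispel hP' hx)

theorem B2STR_aux_uniq' {p : ℕ} [hp : Fact p.Prime]
    (hab : ∀ P : Subgroup G, IsPGroup p P → ∀ x ∈ P, ∀ y ∈ P, x * y = y * x)
    {y : G} {Pst : Subgroup G} (hcard : Nat.card Pst = p ^ (Nat.card G).factorization p)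
    (hmem : ∀ x : G, x * y = y * x → IsPEl p x → x ∈ Pst)
    (P' : Subgroup G) (hP' : IsPGroup p P') (hy : y ∈ P')
    (hcard' : Nat.card P' = p ^ (Nat.card G).factorization p) : P' = Pst := by
  apply Subgroup.eq_of_le_of_card_ge (B2STR_aux_uniq hab hmem P' hP' hy)
  rw [hcard, hcard']

end aux

section main

variable {G : Type*} [Group G] [Finite G] {p a : ℕ} {Q : Subgroup G} {z : G}

/-- `s ∈ Q - {1, t}` inverts `U p t` -/
theorem B2STR_aux_inv (h : Cfg G p a Q z) (f : Facts G p a Q z) (ha2 : a = 2) (h0 : NoCQ p Q)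
    {t : G} (htQ : t ∈ Q) (ht1 : t ≠ 1) {s : G} (hsQ : s ∈ Q) (hs1 : s ≠ 1) (hst : s ≠ t)
    {x : G} (hx : x ∈ U p t) : s * x * s⁻¹ = x⁻¹ := by
  haveI : Fact p.Prime := ⟨h.hp⟩
  have hQ4 : Nat.card Q = 4 := by rw [h.hQ, ha2]; norm_num
  have hcomm := B2STR_aux_comm f.elem
  have ht2 : orderOf t = 2 := B2STR_aux_order_two (f.elem t htQ) ht1
  have hUp := f.utp t ht2
  have hsts : s * t * s⁻¹ = t := by
    rw [hcomm s hsQ t htQ]; group
  have hsx : s * x * s⁻¹ ∈ U p t := by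
    have := B2STR_aux_uconj p s t x hx
    rwa [hsts] at this
  set w := x * (s * x * s⁻¹) with hw
  have hwU : w ∈ U p t := mul_mem hx hsx
  have hxab : x * (s * x * s⁻¹) = (s * x * s⁻¹) * x := h.hab _ hUp _ hx _ hsx
  have hss : s * s = 1 := f.elem s hsQ
  have hsw : s * w * s⁻¹ = w := by
    have h1 : s * w * s⁻¹ = (s * x * s⁻¹) * ((s * s) * x * (s * s)⁻¹) := by
      rw [hw]; group
    rw [h1, hss, hw, hxab]; simp
  have hws : w * s = s * w := by
    have := mul_inv_eq_iff_eq_mul.mp hsw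
    exact this.symm
  have hwt : w * t = t * w := B2STR_aux_le_cent p t w hwU
  have hH : Q ⊓ Subgroup.centralizer ({w} : Set G) = Q := by
    apply B2STR_aux_three hQ4 inf_le_left (t := t) (s := s)
    · exact ⟨htQ, Subgroup.mem_centralizer_singleton_iff.mpr hwt.symm⟩
    · exact ⟨hsQ, Subgroup.mem_centralizer_singleton_iff.mpr hws.symm⟩
    · exact ht1
    · exact hs1
    · exact hst
  have hwQ : ∀ v ∈ Q, w * v = v * w := by
    intro v hv
    have : v ∈ Q ⊓ Subgroup.centralizer ({w} : Set G) := by rw [hH]; exact hv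
    exact (Subgroup.mem_centralizer_singleton_iff.mp this.2).symm
  have hw1 : w = 1 := h0 w (B2STR_aux_ispel hUp hwU) hwQ
  exact eq_inv_of_mul_eq_one_right hw1

/-- every nontrivial element of `U p t` satisfies `NYh` -/
theorem B2STR_aux_nyh (h : Cfg G p a Q z) (f : Facts G p a Q z) (ha2 : a = 2) (h0 : NoCQ p Q)
    {t : G} (htQ : t ∈ Q) (ht1 : t ≠ 1) {y : G} (hy : y ∈ U p t) (hy1 : y ≠ 1) : NYh p Q y := by
  haveI : Fact p.Prime := ⟨h.hp⟩
  have hQ4 : Nat.card Q = 4 := by rw [h.hQ, ha2]; norm_num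
  have ht2 : orderOf t = 2 := B2STR_aux_order_two (f.elem t htQ) ht1
  have hUp := f.utp t ht2
  refine ⟨hy1, B2STR_aux_ispel hUp hy, ?_, ?_⟩
  · intro v hv
    by_cases hv1 : v = 1
    · left; rw [hv1]; simp
    · by_cases hvt : v = t
      · left
        rw [hvt, ← B2STR_aux_le_cent p t y hy]; group
      · right
        exact B2STR_aux_inv h f ha2 h0 htQ ht1 hv hv1 hvt hy
  · obtain ⟨s, hsQ, hs1, hst⟩ := B2STR_aux_exists_s hQ4 ht1
    exact ⟨s, hsQ, B2STR_aux_inv h f ha2 h0 htQ ht1 hsQ hs1 hst hy⟩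

/-- `C_Pst(s) = 1` for `s ∈ Q - {1, t}` -/
theorem B2STR_aux_cs (h : Cfg G p a Q z) (f : Facts G p a Q z) (ha2 : a = 2) (h0 : NoCQ p Q)
    (hny : ∀ y : G, NYh p Q y → NYc p Q y)
    {t : G} (htQ : t ∈ Q) (ht1 : t ≠ 1) {y₀ : G} (hy₀ : y₀ ∈ U p t) (hy₀1 : y₀ ≠ 1)
    {Pst : Subgroup G} (hPp : IsPGroup p Pst)
    (hPcard : Nat.card Pst = p ^ (Nat.card G).factorization p)
    (hPQ : ∀ v ∈ Q, ∀ x ∈ Pst, v * x * v⁻¹ ∈ Pst)
    (hPmem : ∀ x : G, x * y₀ = y₀ * x → IsPEl p x → x ∈ Pst)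
    {s : G} (hsQ : s ∈ Q) (hs1 : s ≠ 1) (hst : s ≠ t) {c : G} (hc : c ∈ Pst)
    (hcs : c * s = s * c) : c = 1 := by
  haveI : Fact p.Prime := ⟨h.hp⟩
  by_contra hc1
  have hs2 : orderOf s = 2 := B2STR_aux_order_two (f.elem s hsQ) hs1
  have hUs := f.utp s hs2
  have hy₀P : y₀ ∈ Pst := hPmem y₀ rfl (B2STR_aux_ispel (f.utp t
    (B2STR_aux_order_two (f.elem t htQ) ht1)) hy₀)
  have hcU : c ∈ U p s := Subgroup.subset_closure ⟨hcs, B2STR_aux_ispel hPp hc⟩
  -- the Sylow subgroup attached to `c`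
  obtain ⟨Pc, hPcp, hPccard, -, hPcmem⟩ := hny c (B2STR_aux_nyh h f ha2 h0 hsQ hs1 hcU hc1)
  have hPPc : Pst = Pc := B2STR_aux_uniq' h.hab hPccard hPcmem Pst hPp hc hPcard
  -- conjugate by `g = z ^ i`
  obtain ⟨i, hi⟩ := h.htrans t htQ ht1 s hsQ hs1
  set g := z ^ i with hg
  have hy'U : g * y₀ * g⁻¹ ∈ U p s := by
    have := B2STR_aux_uconj p g t y₀ hy₀
    rwa [hi] at this
  have hy'1 : g * y₀ * g⁻¹ ≠ 1 := by
    intro h1
    apply hy₀1
    have : y₀ = g⁻¹ * (g * y₀ * g⁻¹) * g := by group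
    rw [this, h1]; group
  obtain ⟨Py, hPyp, hPycard, -, hPymem⟩ := hny _ (B2STR_aux_nyh h f ha2 h0 hsQ hs1 hy'U hy'1)
  -- `Py` contains `U p s`, in particular `c`
  have hUsPy : U p s ≤ Py := B2STR_aux_uniq h.hab hPymem (U p s) hUs hy'U
  have hPyPc : Py = Pc := B2STR_aux_uniq' h.hab hPccard hPcmem Py hPyp (hUsPy hcU) hPycard
  -- the conjugate of `Pst`
  have hconjP : IsPGroup p (Pst.map (MulAut.conj g).toMonoidHom) := hPp.map _
  have hconjcard : Nat.card (Pst.map (MulAut.conj g).toMonoidHom) =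
      p ^ (Nat.card G).factorization p := by
    rw [← hPcard]
    exact Nat.card_congr
      (Pst.equivMapOfInjective _ (MulAut.conj g).injective).symm.toEquiv
  have hconjmem : g * y₀ * g⁻¹ ∈ Pst.map (MulAut.conj g).toMonoidHom :=
    ⟨y₀, hy₀P, by simp⟩
  have hconjPy : Pst.map (MulAut.conj g).toMonoidHom = Py :=
    B2STR_aux_uniq' h.hab hPycard hPymem _ hconjP hconjmem hconjcard
  have hgN : g ∈ Subgroup.normalizer (Pst : Set G) := by
    rw [Subgroup.mem_normalizer_iff_map_conj_eq]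
    have : Pst.map (MulAut.conj g).toMonoidHom = Pst := by
      rw [hconjPy, hPyPc, ← hPPc]
    exact this
  -- `g` is a `p`-element
  obtain ⟨kz, hkz⟩ := h.hzp
  have hgp : IsPEl p g := by
    have hdvd : orderOf g ∣ p ^ kz := by
      rw [← hkz]; exact orderOf_pow_dvd i
    obtain ⟨j, -, hj⟩ := (Nat.dvd_prime_pow h.hp).mp hdvd
    exact ⟨j, hj⟩
  have hgzp : IsPGroup p ↥(Subgroup.zpowers g) := by
    obtain ⟨j, hj⟩ := hgp
    exact IsPGroup.of_card (n := j) (by rw [Nat.card_zpowers, hj])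
  have hsup : IsPGroup p ↥(Pst ⊔ Subgroup.zpowers g) := by
    apply IsPGroup.to_sup_of_normal_left' hPp hgzp
    rw [Subgroup.zpowers_le]
    exact hgN
  have hgP : g ∈ Pst := by
    have hle : Nat.card ↥(Pst ⊔ Subgroup.zpowers g) ≤ Nat.card Pst := by
      rw [hPcard]; exact B2STR_aux_bound hsup
    have heq : Pst = Pst ⊔ Subgroup.zpowers g := Subgroup.eq_of_le_of_card_ge le_sup_left hle
    rw [heq]
    exact (le_sup_right : Subgroup.zpowers g ≤ _) (Subgroup.mem_zpowers g)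
  have hgNQ : g ∈ Subgroup.normalizer (Q : Set G) := pow_mem h.hzN i
  have hgcomm := f.zout Pst hPp hPQ g hgNQ hgp ((le_sup_left : Pst ≤ Pst ⊔ Q) hgP)
  apply hst
  rw [← hi, hgcomm t htQ]; group

end main

theorem B2STR {G : Type*} [Group G] [Finite G] {p a : ℕ} {Q : Subgroup G} {z : G}
    (h : Cfg G p a Q z) (f : Facts G p a Q z) (ha2 : a = 2) (h0 : NoCQ p Q)
    (hny : ∀ y : G, NYh p Q y → NYc p Q y)
    (hne : ∀ t ∈ Q, t ≠ 1 → U p t ≠ ⊥) :
    ∀ t ∈ Q, t ≠ 1 →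
      Nat.card (U p t) = p ^ (Nat.card G).factorization p ∧
      (∀ b ∈ U p t, b ≠ 1 → ∀ g : G, IsPEl p g → g * b = b * g → g ∈ U p t) ∧
      (∀ s ∈ Q, s ≠ 1 → s ≠ t → ∀ x ∈ U p t, s * x * s⁻¹ = x⁻¹) := by
  intro t htQ ht1
  haveI : Fact p.Prime := ⟨h.hp⟩
  have hQ4 : Nat.card Q = 4 := by rw [h.hQ, ha2]; norm_num
  have ht2 : orderOf t = 2 := B2STR_aux_order_two (f.elem t htQ) ht1
  have hUp := f.utp t ht2
  obtain ⟨y₀, hy₀, hy₀1⟩ := (Subgroup.ne_bot_iff_exists_ne_one (H := U p t)).mp (hne t htQ ht1)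
    |> fun ⟨x, hx⟩ => (⟨(x : G), x.2, fun h1 => hx (Subtype.ext h1)⟩ :
          ∃ x : G, x ∈ U p t ∧ x ≠ 1)
  obtain ⟨Pst, hPp, hPcard, hPQ, hPmem⟩ := hny y₀ (B2STR_aux_nyh h f ha2 h0 htQ ht1 hy₀ hy₀1)
  have hULe : U p t ≤ Pst := B2STR_aux_uniq h.hab hPmem (U p t) hUp hy₀
  -- every `s ∈ Q - {1,t}` inverts `Pst`
  have hinvP : ∀ s ∈ Q, s ≠ 1 → s ≠ t → ∀ x ∈ Pst, s * x * s⁻¹ = x⁻¹ := by
    intro s hsQ hs1 hst x hx
    have hsx : s * x * s⁻¹ ∈ Pst := hPQ s hsQ x hx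
    have hss : s * s = 1 := f.elem s hsQ
    set w := x * (s * x * s⁻¹) with hw
    have hxab : x * (s * x * s⁻¹) = (s * x * s⁻¹) * x := h.hab _ hPp _ hx _ hsx
    have hsw : s * w * s⁻¹ = w := by
      have h1 : s * w * s⁻¹ = (s * x * s⁻¹) * ((s * s) * x * (s * s)⁻¹) := by
        rw [hw]; group
      rw [h1, hss, hw, hxab]; simp
    have hws : w * s = s * w := (mul_inv_eq_iff_eq_mul.mp hsw).symm
    have hw1 : w = 1 :=
      B2STR_aux_cs h f ha2 h0 hny htQ ht1 hy₀ hy₀1 hPp hPcard hPQ hPmem hsQ hs1 hst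
        (mul_mem hx hsx) hws
    exact eq_inv_of_mul_eq_one_right hw1
  -- `t` centralizes `Pst`
  obtain ⟨s₀, hs₀Q, hs₀1, hs₀t⟩ := B2STR_aux_exists_s hQ4 ht1
  have hs₀s₀ : s₀ * s₀ = 1 := f.elem s₀ hs₀Q
  have hs₁Q : t * s₀ ∈ Q := mul_mem htQ hs₀Q
  have hs₁1 : t * s₀ ≠ 1 := by
    intro h1
    apply hs₀t
    have h2 : t = s₀⁻¹ := eq_inv_of_mul_eq_one_left h1
    have h3 : s₀⁻¹ = s₀ := inv_eq_of_mul_eq_one_right hs₀s₀
    rw [h2, h3]
  have hs₁t : t * s₀ ≠ t := by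
    intro h1
    exact hs₀1 (mul_eq_left.mp h1)
  have htP : ∀ x ∈ Pst, x * t = t * x := by
    intro x hx
    have h1 := hinvP s₀ hs₀Q hs₀1 hs₀t x hx
    have h2 := hinvP (t * s₀) hs₁Q hs₁1 hs₁t _ (inv_mem hx)
    rw [inv_inv] at h2
    have h3 : t * x * t⁻¹ = (t * s₀) * (s₀ * x * s₀⁻¹) * (t * s₀)⁻¹ := by
      have : (t * s₀) * (s₀ * x * s₀⁻¹) * (t * s₀)⁻¹ = t * ((s₀ * s₀) * x * (s₀ * s₀)⁻¹) * t⁻¹ := by
        group
      rw [this, hs₀s₀]; simp
    rw [h1, h2] at h3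
    exact (mul_inv_eq_iff_eq_mul.mp h3).symm
  have hPLe : Pst ≤ U p t := by
    intro x hx
    exact Subgroup.subset_closure ⟨htP x hx, B2STR_aux_ispel hPp hx⟩
  have hUeq : U p t = Pst := le_antisymm hULe hPLe
  have hUcard : Nat.card (U p t) = p ^ (Nat.card G).factorization p := by rw [hUeq, hPcard]
  refine ⟨hUcard, ?_, ?_⟩
  · intro b hb hb1 g hgp hgb
    obtain ⟨Pb, hPbp, hPbcard, -, hPbmem⟩ := hny b (B2STR_aux_nyh h f ha2 h0 htQ ht1 hb hb1)
    have : U p t = Pb := B2STR_aux_uniq' h.hab hPbcard hPbmem (U p t) hUp hb hUcard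
    rw [this]
    exact hPbmem g hgb hgp
  · intro s hsQ hs1 hst x hx
    exact B2STR_aux_inv h f ha2 h0 htQ ht1 hsQ hs1 hst hx

end Cfsg.Agent.S4017P
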