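import Mathlib
import Cfsg.Agent.Helper21.BswDefs2
import Cfsg.Agent.Helper24.Classes

/-!
Brauer–Suzuki–Wall, piece D2Mb: the unipotent elements in the case `ε = -1`.
-/

set_option autoImplicit false

namespace Cfsg.Agent.Helper21.Bsw

universe u

variable {G : Type u} [Group G] [Finite G] {t s : G} {K : Subgroup G}

/-- `R`-type and inverted by no involution -/
def MinusB.R0 (K : Subgroup G) (x : G) : Prop := RType K x ∧ invCount x = 0

namespace MinusB

theorem two_le_card_K (h : Hyp t s K) : 2 ≤ Nat.card K := by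
  have h1 := h.two_dvd_card_K
  have h2 : 0 < Nat.card K := Nat.card_pos
  exact Nat.le_of_dvd h2 h1

theorem invCount_ne_zero_of {x u : G} (hu : orderOf u = 2) (hux : u * x * u⁻¹ = x⁻¹) :
    invCount x ≠ 0 := by
  unfold invCount
  haveI : Nonempty {u : G // orderOf u = 2 ∧ u * x * u⁻¹ = x⁻¹} := ⟨⟨u, hu, hux⟩⟩
  exact Nat.card_pos.ne'

theorem exists_of_invCount_ne_zero {x : G} (hx : invCount x ≠ 0) :
    ∃ u : G, orderOf u = 2 ∧ u * x * u⁻¹ = x⁻¹ := by
  unfold invCount at hx
  by_contra hcon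
  push Not at hcon
  apply hx
  haveI : IsEmpty {u : G // orderOf u = 2 ∧ u * x * u⁻¹ = x⁻¹} :=
    ⟨fun u => hcon u.1 u.2.1 u.2.2⟩
  exact Nat.card_of_isEmpty

theorem r0_conj_iff {x : G} (g : G) : R0 K (g * x * g⁻¹) ↔ R0 K x := by
  unfold R0
  rw [rType_conj_iff, invCount_conj]

theorem r0_of_isConj {x y : G} (hxy : IsConj x y) (hx : R0 K x) : R0 K y := by
  obtain ⟨g, rfl⟩ := isConj_iff.mp hxy
  exact (r0_conj_iff g).mpr hx

/-- Lemma A: the non-identity elements of `C(x)`, `x ∈ R0`, are in `R0`. -/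
theorem r0_of_mem_centralizer (h : Hyp t s K) (c : CountMinus K) {x y : G} (hx : R0 K x)
    (hy : y ∈ Subgroup.centralizer ({x} : Set G)) (hy1 : y ≠ 1) : R0 K y := by
  have hyR := h.rType_of_mem_centralizer hx.1 hy hy1
  refine ⟨hyR, ?_⟩
  by_contra hne
  obtain ⟨u, hu, huy⟩ := exists_of_invCount_ne_zero hne
  obtain ⟨hinv, -, -⟩ := h.centralizer_inverted hyR hu huy
  have hxy : x ∈ Subgroup.centralizer ({y} : Set G) := by
    rw [Subgroup.mem_centralizer_singleton_iff] at hy ⊢
    exact hy.symm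
  exact invCount_ne_zero_of hu (hinv x hxy) hx.2

theorem inv_mem_r0 (h : Hyp t s K) (c : CountMinus K) {x : G} (hx : R0 K x) : R0 K x⁻¹ := by
  refine r0_of_mem_centralizer h c hx ?_ (inv_ne_one.mpr hx.1.1)
  apply Subgroup.inv_mem
  rw [Subgroup.mem_centralizer_singleton_iff]

theorem card_centralizer_dvd (h : Hyp t s K) (c : CountMinus K) {x : G} (hx : R0 K x) :
    Nat.card (Subgroup.centralizer ({x} : Set G)) ∣ 2 * Nat.card K - 1 :=
  c.dvd _ fun y hy hy1 => r0_of_mem_centralizer h c hx hy hy1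

theorem odd_card_centralizer (h : Hyp t s K) (c : CountMinus K) {x : G} (hx : R0 K x) :
    Odd (Nat.card (Subgroup.centralizer ({x} : Set G))) := by
  have h1 := card_centralizer_dvd h c hx
  have h2 := two_le_card_K h
  have h3 : Odd (2 * Nat.card K - 1) := by
    refine ⟨Nat.card K - 1, ?_⟩
    omega
  exact Odd.of_dvd_nat h3 h1

/-- Lemma C: an element of `R0` is not conjugate to its inverse. -/
theorem not_isConj_inv (h : Hyp t s K) (c : CountMinus K) {x : G} (hx : R0 K x) :
    ¬ IsConj x x⁻¹ := by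
  intro hc
  obtain ⟨g, hg⟩ := isConj_iff.mp hc
  obtain ⟨i, hi⟩ := odd_card_centralizer h c hx
  -- `g * g` centralizes `x`
  have hgx : g * x = x⁻¹ * g := by
    calc g * x = (g * x * g⁻¹) * g := by group
      _ = x⁻¹ * g := by rw [hg]
  have hgxi : g * x⁻¹ = x * g := by
    have : g * x⁻¹ * g⁻¹ = x := by
      calc g * x⁻¹ * g⁻¹ = (g * x * g⁻¹)⁻¹ := by group
        _ = x := by rw [hg, inv_inv]
    calc g * x⁻¹ = (g * x⁻¹ * g⁻¹) * g := by group
      _ = x * g := by rw [this]
  have hgg : g * g ∈ Subgroup.centralizer ({x} : Set G) := by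
    rw [Subgroup.mem_centralizer_singleton_iff]
    calc g * g * x = g * (g * x) := by group
      _ = g * (x⁻¹ * g) := by rw [hgx]
      _ = (g * x⁻¹) * g := by group
      _ = x * g * g := by rw [hgxi]
      _ = x * (g * g) := by group
  have hpow : (g * g) ^ Nat.card (Subgroup.centralizer ({x} : Set G)) = 1 := by
    have := pow_card_eq_one' (G := Subgroup.centralizer ({x} : Set G)) (x := ⟨g * g, hgg⟩)
    exact congrArg Subtype.val this
  set m := Nat.card (Subgroup.centralizer ({x} : Set G)) with hm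
  -- `w = g ^ m`
  have hw2 : g ^ m * g ^ m = 1 := by
    rw [← pow_add, ← two_mul, pow_mul, pow_two]; exact hpow
  have hcz : (g * g) ^ i ∈ Subgroup.centralizer ({x} : Set G) := Subgroup.pow_mem _ hgg i
  have hwg : g ^ m = (g * g) ^ i * g := by
    rw [hi, pow_succ, ← pow_two, ← pow_mul]
  have hwx : g ^ m * x * (g ^ m)⁻¹ = x⁻¹ := by
    rw [hwg]
    have hcz' : (g * g) ^ i * x⁻¹ = x⁻¹ * (g * g) ^ i := by
      rw [Subgroup.mem_centralizer_singleton_iff] at hcz
      calc (g * g) ^ i * x⁻¹ = x⁻¹ * (x * (g * g) ^ i) * x⁻¹ := by group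
        _ = x⁻¹ * ((g * g) ^ i * x) * x⁻¹ := by rw [hcz]
        _ = x⁻¹ * (g * g) ^ i := by group
    calc (g * g) ^ i * g * x * ((g * g) ^ i * g)⁻¹
        = (g * g) ^ i * (g * x * g⁻¹) * ((g * g) ^ i)⁻¹ := by group
      _ = ((g * g) ^ i * x⁻¹) * ((g * g) ^ i)⁻¹ := by rw [hg]
      _ = x⁻¹ := by rw [hcz']; group
  by_cases hw1 : g ^ m = 1
  · rw [hw1] at hwx
    have hxx : x * x = 1 := by
      have : x = x⁻¹ := by simpa using hwx
      calc x * x = x * x⁻¹ := by rw [← this]
        _ = 1 := mul_inv_cancel x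
    have hox : orderOf x = 2 := orderOf_eq_prime (by rw [pow_two]; exact hxx) hx.1.1
    exact hx.1.2 (h.kType_of_orderOf_two hox)
  · have how : orderOf (g ^ m) = 2 := orderOf_eq_prime (by rw [pow_two]; exact hw2) hw1
    exact invCount_ne_zero_of how hwx hx.2

omit [Finite G] in
theorem centralizer_inv_eq (x : G) :
    Subgroup.centralizer ({x⁻¹} : Set G) = Subgroup.centralizer ({x} : Set G) := by
  ext g
  rw [Subgroup.mem_centralizer_singleton_iff, Subgroup.mem_centralizer_singleton_iff]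
  constructor
  · intro hg
    calc g * x = x * (x⁻¹ * g) * x := by group
      _ = x * (g * x⁻¹) * x := by rw [hg]
      _ = x * g := by group
  · intro hg
    calc g * x⁻¹ = x⁻¹ * (x * g) * x⁻¹ := by group
      _ = x⁻¹ * (g * x) * x⁻¹ := by rw [hg]
      _ = x⁻¹ * g := by group

/-- the arithmetic of Lemma D -/
theorem arith_D {a m j r N : ℕ} (hr : 0 < r) (hm : 0 < m) (hN : 2 * N = (r + 1) * (r + 2) * r)
    (hmj : m * j = r + 1) (ham : a * m = N) (hle : 2 * a ≤ r * (r + 2)) : j = 1 := by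
  have h1 : m * (2 * a) = m * (j * ((r + 2) * r)) := by
    calc m * (2 * a) = 2 * (a * m) := by ring
      _ = 2 * N := by rw [ham]
      _ = (r + 1) * (r + 2) * r := hN
      _ = (m * j) * (r + 2) * r := by rw [hmj]
      _ = m * (j * ((r + 2) * r)) := by ring
  have h2 : 2 * a = j * ((r + 2) * r) := Nat.eq_of_mul_eq_mul_left hm h1
  have h3 : j * ((r + 2) * r) ≤ 1 * ((r + 2) * r) := by
    rw [← h2, one_mul, mul_comm (r + 2) r]; exact hle
  have h4 : j ≤ 1 := Nat.le_of_mul_le_mul_right h3 (by positivity)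
  have h5 : j ≠ 0 := by
    rintro rfl
    omega
  omega

/-- Lemma D: `|C(x)| = 2k - 1` and `R0` is the union of the classes of `x` and `x⁻¹`. -/
theorem card_centralizer_eq (h : Hyp t s K) (c : CountMinus K) {x : G} (hx : R0 K x) :
    Nat.card (Subgroup.centralizer ({x} : Set G)) = 2 * Nat.card K - 1 ∧
    ∀ y, R0 K y → IsConj x y ∨ IsConj x⁻¹ y := by
  have hk := two_le_card_K h
  obtain ⟨r, hr⟩ : ∃ r, 2 * Nat.card K = r + 2 := ⟨2 * Nat.card K - 2, by omega⟩
  have e1 : 2 * Nat.card K - 1 = r + 1 := by omega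
  have e2 : 2 * Nat.card K - 2 = r := by omega
  have e3 : (2 * Nat.card K - 1) ^ 2 - 1 = r * (r + 2) := by
    rw [e1]
    have : (r + 1) ^ 2 = r * (r + 2) + 1 := by ring
    omega
  have hr0 : 0 < r := by omega
  have hG := c.card_G
  rw [e1, e2, hr] at hG
  have hR := c.card_R0
  rw [e3] at hR
  obtain ⟨j, hj⟩ := card_centralizer_dvd h c hx
  rw [e1] at hj
  set m := Nat.card (Subgroup.centralizer ({x} : Set G)) with hm
  have hm0 : 0 < m := Nat.card_pos
  let SA : Set G := {y | IsConj x y}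
  let SB : Set G := {y | IsConj x⁻¹ y}
  let SR : Set G := {y | R0 K y}
  have hSA : SA.ncard * m = Nat.card G := by
    have := Cfsg.Agent.Helper24.card_conj_mul_card_centralizer x
    rw [← this, ← Nat.card_coe_set_eq]
    rfl
  have hSB : SB.ncard * m = Nat.card G := by
    have := Cfsg.Agent.Helper24.card_conj_mul_card_centralizer x⁻¹
    rw [centralizer_inv_eq] at this
    rw [← this, ← Nat.card_coe_set_eq]
    rfl
  have hSR : SR.ncard = r * (r + 2) := by
    rw [← hR, ← Nat.card_coe_set_eq]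
    rfl
  have hAB : SA.ncard = SB.ncard := Nat.eq_of_mul_eq_mul_right hm0 (hSA.trans hSB.symm)
  have hdisj : Disjoint SA SB := by
    rw [Set.disjoint_left]
    intro y hyA hyB
    exact not_isConj_inv h c hx (IsConj.trans hyA (IsConj.symm hyB))
  have hsub : SA ∪ SB ⊆ SR := by
    rintro y (hy | hy)
    · exact r0_of_isConj hy hx
    · exact r0_of_isConj hy (inv_mem_r0 h c hx)
  have hcard_union : (SA ∪ SB).ncard = SA.ncard + SB.ncard :=
    Set.ncard_union_eq hdisj (Set.toFinite _) (Set.toFinite _)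
  have hle : (SA ∪ SB).ncard ≤ SR.ncard := Set.ncard_le_ncard hsub (Set.toFinite _)
  have hj1 : j = 1 := by
    refine arith_D hr0 hm0 hG hj.symm hSA ?_
    rw [← hSR]
    omega
  rw [hj1, mul_one] at hj
  refine ⟨by rw [e1, hj], ?_⟩
  -- equality of the sets
  have h2a : 2 * SA.ncard = r * (r + 2) := by
    have h1 : m * (2 * SA.ncard) = m * (r * (r + 2)) := by
      calc m * (2 * SA.ncard) = 2 * (SA.ncard * m) := by ring
        _ = 2 * Nat.card G := by rw [hSA]
        _ = (r + 1) * (r + 2) * r := hG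
        _ = m * (r * (r + 2)) := by rw [hj]; ring
    exact Nat.eq_of_mul_eq_mul_left hm0 h1
  have heq : SA ∪ SB = SR := by
    apply Set.eq_of_subset_of_ncard_le hsub _ (Set.toFinite _)
    rw [hcard_union, hSR]
    omega
  intro y hy
  have : y ∈ SA ∪ SB := by rw [heq]; exact hy
  exact this

/-- Lemma E: all elements of `R0` have the same order. -/
theorem orderOf_eq_of_r0 (h : Hyp t s K) (c : CountMinus K) {x y : G} (hx : R0 K x)
    (hy : R0 K y) : orderOf y = orderOf x := by
  rcases (card_centralizer_eq h c hx).2 y hy with hc | hc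
  · obtain ⟨g, rfl⟩ := isConj_iff.mp hc
    exact orderOf_conj' g x
  · obtain ⟨g, rfl⟩ := isConj_iff.mp hc
    rw [orderOf_conj', orderOf_inv]

/-- Lemma F: the common order is a prime. -/
theorem prime_orderOf (h : Hyp t s K) (c : CountMinus K) {x : G} (hx : R0 K x) :
    (orderOf x).Prime := by
  have hn1 : orderOf x ≠ 1 := by
    rw [Ne, orderOf_eq_one_iff]; exact hx.1.1
  have hn0 : 0 < orderOf x := orderOf_pos x
  obtain ⟨n, hn⟩ : ∃ n, n = orderOf x := ⟨_, rfl⟩
  rw [← hn] at hn1 hn0 ⊢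
  have hp : n.minFac.Prime := Nat.minFac_prime hn1
  have hpn : n.minFac ∣ n := Nat.minFac_dvd n
  obtain ⟨e, he⟩ := hpn
  have he0 : e ≠ 0 := by
    rintro rfl
    omega
  have hen : e ∣ orderOf x := by
    rw [← hn]; exact Dvd.intro_left _ he.symm
  have hoy : orderOf (x ^ e) = n.minFac := by
    rw [orderOf_pow_of_dvd he0 hen, ← hn]
    exact Nat.div_eq_of_eq_mul_left (Nat.pos_of_ne_zero he0) he
  have hy1 : x ^ e ≠ 1 := by
    intro h1
    rw [h1, orderOf_one] at hoy
    exact hp.one_lt.ne hoy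
  have hyC : x ^ e ∈ Subgroup.centralizer ({x} : Set G) := by
    apply Subgroup.pow_mem
    rw [Subgroup.mem_centralizer_singleton_iff]
  have hyR := r0_of_mem_centralizer h c hx hyC hy1
  have := orderOf_eq_of_r0 h c hx hyR
  rw [hoy, ← hn] at this
  rw [← this]
  exact hp

end MinusB

/-- D2Mb -/
theorem Minus.unipotent (h : Hyp t s K) (c : CountMinus K) :
    ∃ p : ℕ, p.Prime ∧ (∃ a : ℕ, 2 * Nat.card K - 1 = p ^ a) ∧
      (∀ x : G, RType K x → invCount x = 0 →
        orderOf x = p ∧ Nat.card (Subgroup.centralizer ({x} : Set G)) = 2 * Nat.card K - 1 ∧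
        ∀ y ∈ Subgroup.centralizer ({x} : Set G), y ≠ 1 → RType K y ∧ invCount y = 0) ∧
      (∀ y : G, y ≠ 1 → (∃ n : ℕ, y ^ (p ^ n) = 1) → RType K y ∧ invCount y = 0) := by
  have hk := MinusB.two_le_card_K h
  -- some element of `R0`
  obtain ⟨x0, hx0⟩ : ∃ x0 : G, MinusB.R0 K x0 := by
    have hR := c.card_R0
    have hpos : 0 < (2 * Nat.card K - 1) ^ 2 - 1 := by
      have : 3 ≤ 2 * Nat.card K - 1 := by omega
      have : 9 ≤ (2 * Nat.card K - 1) ^ 2 := by nlinarith
      omega
    rw [← hR] at hpos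
    obtain ⟨⟨x0, hx0⟩⟩ := (Nat.card_pos_iff.mp hpos).1
    exact ⟨x0, hx0⟩
  have hp := MinusB.prime_orderOf h c hx0
  obtain ⟨p, hpdef⟩ : ∃ p, p = orderOf x0 := ⟨_, rfl⟩
  rw [← hpdef] at hp
  haveI : Fact p.Prime := ⟨hp⟩
  obtain ⟨hcard0, -⟩ := MinusB.card_centralizer_eq h c hx0
  -- `C(x0)` is a `p`-group
  have hPG : IsPGroup p (Subgroup.centralizer ({x0} : Set G)) := by
    intro y
    refine ⟨1, ?_⟩
    by_cases hy1 : (y : G) = 1
    · apply Subtype.ext
      rw [Subgroup.coe_pow, hy1, one_pow, Subgroup.coe_one]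
    · have hyR := MinusB.r0_of_mem_centralizer h c hx0 y.2 hy1
      have hoy := MinusB.orderOf_eq_of_r0 h c hx0 hyR
      apply Subtype.ext
      rw [Subgroup.coe_pow, pow_one, Subgroup.coe_one, hpdef, ← hoy]
      exact pow_orderOf_eq_one _
  obtain ⟨a, ha⟩ := IsPGroup.iff_card.mp hPG
  refine ⟨p, hp, ⟨a, by rw [← hcard0, ha]⟩, ?_, ?_⟩
  · intro x hxR hx0'
    have hx : MinusB.R0 K x := ⟨hxR, hx0'⟩
    refine ⟨by rw [hpdef]; exact MinusB.orderOf_eq_of_r0 h c hx0 hx,
      (MinusB.card_centralizer_eq h c hx).1, ?_⟩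
    intro y hy hy1
    exact MinusB.r0_of_mem_centralizer h c hx hy hy1
  · -- Sylow
    intro y hy1 ⟨n, hyn⟩
    -- the index of `C(x0)` is prime to `p`
    have hpq : p ∣ 2 * Nat.card K - 1 := by
      rw [← hcard0, ha]
      have ha0 : a ≠ 0 := by
        rintro rfl
        rw [pow_zero] at ha
        rw [ha] at hcard0
        omega
      exact dvd_pow_self p ha0
    have hidx : ¬ p ∣ (Subgroup.centralizer ({x0} : Set G)).index := by
      intro hdvd
      have h1 := (Subgroup.centralizer ({x0} : Set G)).card_mul_index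
      have hG := c.card_G
      rw [← h1, hcard0] at hG
      -- 2 * ((2k-1) * index) = (2k-1) * (2k) * (2k-2)
      have hq0 : 0 < 2 * Nat.card K - 1 := by omega
      have h2 : (2 * Nat.card K - 1) * (2 * (Subgroup.centralizer ({x0} : Set G)).index)
          = (2 * Nat.card K - 1) * ((2 * Nat.card K) * (2 * Nat.card K - 2)) := by
        calc (2 * Nat.card K - 1) * (2 * (Subgroup.centralizer ({x0} : Set G)).index)
            = 2 * ((2 * Nat.card K - 1) * (Subgroup.centralizer ({x0} : Set G)).index) := by ring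
          _ = (2 * Nat.card K - 1) * (2 * Nat.card K) * (2 * Nat.card K - 2) := hG
          _ = (2 * Nat.card K - 1) * ((2 * Nat.card K) * (2 * Nat.card K - 2)) := by ring
      have h3 := Nat.eq_of_mul_eq_mul_left hq0 h2
      have h4 : p ∣ (2 * Nat.card K) * (2 * Nat.card K - 2) := by
        rw [← h3]; exact Dvd.dvd.mul_left hdvd 2
      rcases (Nat.Prime.dvd_mul hp).mp h4 with h5 | h5
      · have : p ∣ 2 * Nat.card K - (2 * Nat.card K - 1) := Nat.dvd_sub h5 hpq
        have e : 2 * Nat.card K - (2 * Nat.card K - 1) = 1 := by omega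
        rw [e] at this
        exact hp.one_lt.ne' (Nat.dvd_one.mp this)
      · have : p ∣ (2 * Nat.card K - 1) - (2 * Nat.card K - 2) := Nat.dvd_sub hpq h5
        have e : (2 * Nat.card K - 1) - (2 * Nat.card K - 2) = 1 := by omega
        rw [e] at this
        exact hp.one_lt.ne' (Nat.dvd_one.mp this)
    let P0 : Sylow p G := hPG.toSylow hidx
    have hP0 : (P0 : Subgroup G) = Subgroup.centralizer ({x0} : Set G) := rfl
    -- `zpowers y` is a `p`-group
    have hyP : IsPGroup p (Subgroup.zpowers y) := by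
      have hdvd : orderOf y ∣ p ^ n := orderOf_dvd_of_pow_eq_one hyn
      obtain ⟨j, -, hj⟩ := (Nat.dvd_prime_pow hp).mp hdvd
      apply IsPGroup.of_card (n := j)
      rw [Nat.card_zpowers, hj]
    obtain ⟨Q, hQ⟩ := hyP.exists_le_sylow
    obtain ⟨g, hg⟩ := MulAction.exists_smul_eq G Q P0
    have hyQ : y ∈ (Q : Subgroup G) := hQ (Subgroup.mem_zpowers y)
    have hgy : g * y * g⁻¹ ∈ (P0 : Subgroup G) := by
      rw [← hg, Sylow.coe_subgroup_smul]
      rw [Subgroup.mem_pointwise_smul_iff_inv_smul_mem]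
      have : (MulAut.conj g)⁻¹ • (g * y * g⁻¹) = y := by
        rw [MulAut.smul_def, ← map_inv, MulAut.conj_apply]
        group
      rw [this]
      exact hyQ
    rw [hP0] at hgy
    have hne : g * y * g⁻¹ ≠ 1 := by
      intro h1
      apply hy1
      calc y = g⁻¹ * (g * y * g⁻¹) * g := by group
        _ = 1 := by rw [h1]; group
    have := MinusB.r0_of_mem_centralizer h c hx0 hgy hne
    exact (MinusB.r0_conj_iff g).mp this

end Cfsg.Agent.Helper21.Bsw
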