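import Mathlib
import Cfsg.Prelude.Def_Local
import Cfsg.Prelude.Def_Solvable
import Cfsg.Agent.Lead.Coprime
import Cfsg.Agent.Lead.PSolvHall
import Cfsg.Agent.Lead.PiHall
import Cfsg.Agent.Lead.SZConj
import Cfsg.Agent.Helper1.HallAux
import Cfsg.Agent.Helper7.HallHigmanDual
import Cfsg.Agent.Helper9.AbelianSylow
import Cfsg.Agent.Helper14.PCore
import Cfsg.Agent.Helper23.PSeries

set_option autoImplicit false

/-!
Group-theoretic reduction for S4472: in a `p`-solvable group there are a `p'`-subgroup `K` and a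
`p`-subgroup `P₁` normalizing it with `|P₁ : C_{P₁}(K)| ≥ |G : O_p(G)|_p`.
-/

namespace Cfsg.Agent.Helper29.PRat

open Cfsg Subgroup
open scoped Pointwise

universe u

/-- `O_p(G / O_p(G)) = 1` (as `Helper1.CNSolv.pCore_quotient_pCore`, with light imports). -/
theorem pCore_quotient_pCore' {G : Type u} [Group G] [Finite G] (p : ℕ) [Fact p.Prime] :
    pCore p (G ⧸ pCore p G) = ⊥ := by
  haveI : (pCore p G).Normal := Cfsg.Agent.Helper14.pCore_normal p
  set H := pCore p G with hH
  have hHp : IsPGroup p H := Cfsg.Agent.Helper14.pCore_isPGroup p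
  set N := (pCore p (G ⧸ H)).comap (QuotientGroup.mk' H) with hN
  have hNn : N.Normal := (Cfsg.Agent.Helper14.pCore_normal p (G := G ⧸ H)).comap _
  have hNp : IsPGroup p N := by
    apply IsPGroup.comap_of_ker_isPGroup (Cfsg.Agent.Helper14.pCore_isPGroup p)
    rw [QuotientGroup.ker_mk']
    exact hHp
  have hNH : N ≤ H := Cfsg.Agent.Helper14.le_pCore p hNn hNp
  have h1 : pCore p (G ⧸ H) = N.map (QuotientGroup.mk' H) := by
    rw [hN, Subgroup.map_comap_eq_self_of_surjective (QuotientGroup.mk'_surjective H)]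
  rw [h1, eq_bot_iff]
  calc N.map (QuotientGroup.mk' H) ≤ H.map (QuotientGroup.mk' H) := Subgroup.map_mono hNH
    _ = ⊥ := QuotientGroup.map_mk'_self H

theorem exists_coprime_action_data {G : Type u} [Group G] [Finite G] (p : ℕ) [hp : Fact p.Prime]
    (hsolv : IsPSolvable p G) :
    ∃ (K P₁ : Subgroup G) (a₁ c : ℕ), (Nat.card K).Coprime p ∧ Nat.card P₁ = p ^ a₁ ∧
      P₁ ≤ normalizer (K : Set G) ∧ Nat.card ↥(P₁ ⊓ centralizer (K : Set G)) = p ^ c ∧
      ((pCore p G).index).factorization p + c ≤ a₁ := by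
  classical
  set Q := pCore p G with hQ
  haveI hQn : Q.Normal := Cfsg.Agent.Helper14.pCore_normal p
  have hQp : IsPGroup p Q := Cfsg.Agent.Helper14.pCore_isPGroup p
  obtain ⟨aQ, haQ⟩ := Cfsg.Agent.Helper23.pCore_card p G
  have hsolv' : IsPSolvable p (G ⧸ Q) := Cfsg.Agent.Lead.isPSolvable_quotient hsolv Q
  have hOp : pCore p (G ⧸ Q) = ⊥ := pCore_quotient_pCore' p
  have hHH := Cfsg.Agent.Helper7.centralizer_pPrimeCore_le_of_isPSolvable hsolv' hOp
  set Kb := pPrimeCore p (G ⧸ Q) with hKb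
  have hKbcop : (Nat.card Kb).Coprime p := Cfsg.Agent.Helper23.pPrimeCore_card_coprime p (G ⧸ Q)
  set L := Kb.comap (QuotientGroup.mk' Q) with hL
  have hQL : Q ≤ L := by
    intro x hx
    rw [hL, mem_comap]
    have : QuotientGroup.mk' Q x = 1 := (QuotientGroup.eq_one_iff x).mpr hx
    rw [this]
    exact Kb.one_mem
  have hLcard : Nat.card L = Nat.card Kb * Nat.card Q := Cfsg.Agent.Helper1.card_comap_mk' Q Kb
  have hrel : Q.relIndex L = Nat.card Kb := by
    have h1 := Cfsg.Agent.Lead.relIndex_mul_card' hQL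
    rw [hLcard] at h1
    exact Nat.eq_of_mul_eq_mul_right Nat.card_pos h1
  have hcopQ : (Nat.card Q).Coprime (Q.relIndex L) := by
    rw [hrel, haQ]
    exact (Nat.Coprime.pow_right _ hKbcop).symm
  have hnQ : L ≤ normalizer (Q : Set G) := by
    rw [normalizer_eq_top]
    exact le_top
  obtain ⟨K, hKL, hKcard, hKQ, hQK⟩ :=
    Cfsg.Agent.Helper9.exists_relative_complement Q L hQL hnQ hcopQ
  have hKp : (Nat.card K).Coprime p := by rw [hKcard, hrel]; exact hKbcop
  -- Frattini argument
  haveI : Group.IsNilpotent Q := hQp.isNilpotent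
  have hQsolv : Group.IsSolvable Q := inferInstance
  have hKnQ : K ≤ normalizer (Q : Set G) := by
    rw [normalizer_eq_top]
    exact le_top
  have hLn : L.Normal := by
    have : Kb.Normal := by
      rw [hKb]; unfold pPrimeCore
      exact Subgroup.sSup_normal _ (fun _ h => h.1)
    exact this.comap _
  have hcopKQ : (Nat.card K).Coprime (Nat.card Q) := by
    rw [haQ]; exact Nat.Coprime.pow_right _ hKp
  have hfrat : ∀ g : G, ∃ q ∈ Q, q⁻¹ * g ∈ normalizer (K : Set G) := by
    intro g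
    have hB : MulAut.conj g • K ≤ Q ⊔ K := by
      rw [hQK]
      intro x hx
      rw [Subgroup.mem_pointwise_smul_iff_inv_smul_mem] at hx
      have h1 := hLn.conj_mem _ (hKL hx) g
      have h2 : g * ((MulAut.conj g)⁻¹ • x) * g⁻¹ = x := by
        simp [MulAut.smul_def]
        group
      rw [h2] at h1
      exact h1
    have hBcard : Nat.card (MulAut.conj g • K : Subgroup G) = Nat.card K :=
      (Nat.card_congr (Subgroup.equivSMul (MulAut.conj g) K).toEquiv).symm
    obtain ⟨q, hq, hqK⟩ := Cfsg.Agent.Lead.sz_conj_rel hKnQ hcopKQ (Or.inr hQsolv) hB hBcard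
    refine ⟨q, hq, ?_⟩
    rw [Subgroup.mem_normalizer_iff_map_conj_eq]
    have h3 : MulAut.conj (q⁻¹ * g) • K = K := by
      rw [map_mul, mul_smul, ← hqK, ← mul_smul, ← map_mul, inv_mul_cancel, map_one, one_smul]
    rw [Subgroup.pointwise_smul_def] at h3
    exact h3
  set N := normalizer (K : Set G) with hN
  have hNQtop : N ⊔ Q = ⊤ := by
    rw [eq_top_iff]
    intro g _
    obtain ⟨q, hq, hn⟩ := hfrat g
    have : g = q * (q⁻¹ * g) := by group
    rw [this]
    exact Subgroup.mul_mem _ (Subgroup.mem_sup_right hq) (Subgroup.mem_sup_left hn)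
  have hrelN : Q.relIndex N = Q.index := by
    rw [← Subgroup.relIndex_sup_right (K := Q) (H := N), hNQtop, Subgroup.relIndex_top_right]
  -- a Sylow `p`-subgroup of `N`
  obtain ⟨S⟩ : Nonempty (Sylow p N) := inferInstance
  set P₁ := (S : Subgroup N).map N.subtype with hP₁
  have hP₁N : P₁ ≤ N := map_subtype_le _
  have hP₁card : Nat.card P₁ = p ^ (Nat.card N).factorization p := by
    rw [hP₁, Subgroup.card_subtype]
    exact S.card_eq_multiplicity
  have hP₁p : IsPGroup p P₁ := S.isPGroup'.map _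
  set C := P₁ ⊓ centralizer (K : Set G) with hC
  have hCp : IsPGroup p C := hP₁p.to_le inf_le_left
  obtain ⟨c, hc⟩ := hCp.exists_card_eq
  -- `C ≤ Q`
  have hmapL : L.map (QuotientGroup.mk' Q) = Kb := by
    rw [hL, Subgroup.map_comap_eq_self_of_surjective (QuotientGroup.mk'_surjective Q)]
  have hCQ : C ≤ Q := by
    intro x hx
    have hx1 : x ∈ P₁ := hx.1
    have hx2 : x ∈ centralizer (K : Set G) := hx.2
    have hcen : QuotientGroup.mk' Q x ∈ centralizer (Kb : Set (G ⧸ Q)) := by
      rw [Subgroup.mem_centralizer_iff]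
      intro y hy
      have hy' : y ∈ L.map (QuotientGroup.mk' Q) := by rw [hmapL]; exact hy
      obtain ⟨l, hl, rfl⟩ := hy'
      rw [← hQK] at hl
      obtain ⟨q, hq, k, hk, rfl⟩ := Subgroup.mem_sup_of_normal_left.mp hl
      have hq1 : QuotientGroup.mk' Q q = 1 := (QuotientGroup.eq_one_iff q).mpr hq
      rw [map_mul, hq1, one_mul, ← map_mul, ← map_mul]
      congr 1
      exact (Subgroup.mem_centralizer_iff.mp hx2) k hk
    have hmem : QuotientGroup.mk' Q x ∈ Kb := hHH hcen
    -- order considerations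
    have ho1 : orderOf (QuotientGroup.mk' Q x) ∣ Nat.card Kb := by
      have := orderOf_dvd_natCard (⟨QuotientGroup.mk' Q x, hmem⟩ : Kb)
      rwa [← Subgroup.orderOf_coe] at this
    obtain ⟨k, hk⟩ := (IsPGroup.iff_orderOf.mp hP₁p) ⟨x, hx1⟩
    have ho2 : orderOf (QuotientGroup.mk' Q x) ∣ p ^ k := by
      rw [← hk, ← Subgroup.orderOf_coe]
      exact orderOf_map_dvd _ _
    have ho3 : orderOf (QuotientGroup.mk' Q x) = 1 := by
      have hcop : (Nat.card Kb).Coprime (p ^ k) := Nat.Coprime.pow_right _ hKbcop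
      exact Nat.eq_one_of_dvd_coprimes hcop ho1 ho2
    rw [orderOf_eq_one_iff] at ho3
    exact (QuotientGroup.eq_one_iff x).mp ho3
  have hCQN : C ≤ Q ⊓ N := le_inf hCQ (inf_le_left.trans hP₁N)
  have hcle : c ≤ (Nat.card (Q ⊓ N : Subgroup G)).factorization p := by
    have hdvd : p ^ c ∣ Nat.card (Q ⊓ N : Subgroup G) := by
      rw [← hc]; exact Subgroup.card_dvd_of_le hCQN
    exact (Nat.Prime.pow_dvd_iff_le_factorization hp.out Nat.card_pos.ne').mp hdvd
  have hmul : Q.index * Nat.card (Q ⊓ N : Subgroup G) = Nat.card N := by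
    rw [← hrelN, ← Cfsg.Agent.Lead.card_subgroupOf_eq_card_inf]
    exact Subgroup.index_mul_card (Q.subgroupOf N)
  have hfact : (Nat.card N).factorization p =
      (Q.index).factorization p + (Nat.card (Q ⊓ N : Subgroup G)).factorization p := by
    rw [← hmul, Nat.factorization_mul (Subgroup.index_ne_zero_of_finite) Nat.card_pos.ne']
    rfl
  refine ⟨K, P₁, (Nat.card N).factorization p, c, hKp, hP₁card, hP₁N, hc, ?_⟩
  rw [hfact]
  omega

end Cfsg.Agent.Helper29.PRat
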