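import Mathlib
import Cfsg.Prelude.Def_Characters
import Cfsg.Agent.Helper24.Expansion
import Cfsg.Agent.Helper24.Restrict
import Cfsg.Agent.Helper24.Regular
import Cfsg.Agent.Helper8.CharComp

set_option autoImplicit false

/-! S2347 piece WPd: a character with irreducible restriction to a subgroup is irreducible. -/

namespace Cfsg.Agent.Helper12.LSp

open Cfsg Cfsg.Agent.Helper24

/-- a character that does not vanish at `1` has norm at least one -/
theorem wpd_one_le_norm {G : Type*} [Group G] [Fintype G] [Fintype (IrrCharacter G)]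
    (θ : G → ℂ) (hθ : IsCharacter G θ) (h1 : θ 1 ≠ 0) :
    ∃ k : ℕ, 1 ≤ k ∧ classInner θ θ = k := by
  classical
  haveI : Finite G := Finite.of_fintype G
  obtain ⟨m, hm⟩ := IsCharacter.exists_nat_coeff hθ
  refine ⟨∑ ψ : IrrCharacter G, m ψ * m ψ, ?_, ?_⟩
  · obtain ⟨ψ₀, hψ₀⟩ : ∃ ψ₀, m ψ₀ ≠ 0 := by
      by_contra hall
      push Not at hall
      apply h1
      rw [hm]
      simp [hall]
    have hpos : 1 ≤ m ψ₀ := Nat.one_le_iff_ne_zero.mpr hψ₀
    calc 1 ≤ m ψ₀ * m ψ₀ := Nat.one_le_iff_ne_zero.mpr (Nat.mul_ne_zero hψ₀ hψ₀)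
      _ ≤ ∑ ψ : IrrCharacter G, m ψ * m ψ :=
        Finset.single_le_sum (f := fun ψ => m ψ * m ψ) (fun _ _ => Nat.zero_le _)
          (Finset.mem_univ ψ₀)
  · rw [hm, classInner_sum_sum]
    push_cast
    simp

theorem isIrr_of_restrict_irr {G : Type*} [Group G] [Finite G] (N : Subgroup G) (χ : G → ℂ)
    (hχ : IsCharacter G χ) (h : IsIrrCharacter N (fun x : N => χ x)) : IsIrrCharacter G χ := by
  classical
  haveI : Fintype G := Fintype.ofFinite G
  haveI : Fintype (IrrCharacter G) := Fintype.ofFinite _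
  haveI : Fintype N := Fintype.ofFinite N
  haveI : Fintype (IrrCharacter N) := Fintype.ofFinite _
  obtain ⟨n, hn⟩ := IsCharacter.exists_nat_coeff hχ
  -- `χ 1 ≠ 0`
  have hχ1 : χ 1 ≠ 0 := by
    obtain ⟨k, hk, hk1⟩ := isIrrCharacter_one h
    have : χ ((1 : N) : G) = k := hk1
    rw [Subgroup.coe_one] at this
    rw [this]
    exact_mod_cast hk.ne'
  obtain ⟨ψ₀, hψ₀⟩ : ∃ ψ₀, n ψ₀ ≠ 0 := by
    by_contra hall
    push Not at hall
    apply hχ1
    rw [hn]
    simp [hall]
  -- split off `ψ₀`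
  let n' : IrrCharacter G → ℕ := fun ψ => if ψ = ψ₀ then n ψ - 1 else n ψ
  let β : G → ℂ := ∑ ψ : IrrCharacter G, (n' ψ : ℂ) • (ψ : G → ℂ)
  have hβ : IsCharacter G β := isCharacter_sum_nat_smul n'
  have hsplit : χ = (ψ₀ : G → ℂ) + β := by
    rw [hn]
    show _ = (ψ₀ : G → ℂ) + ∑ ψ : IrrCharacter G, (n' ψ : ℂ) • (ψ : G → ℂ)
    rw [← Finset.add_sum_erase _ _ (Finset.mem_univ ψ₀),
      ← Finset.add_sum_erase (f := fun ψ : IrrCharacter G => (n' ψ : ℂ) • (ψ : G → ℂ)) _
        (Finset.mem_univ ψ₀), ← add_assoc]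
    congr 1
    · have : n' ψ₀ = n ψ₀ - 1 := if_pos rfl
      rw [this]
      have h1 : 1 ≤ n ψ₀ := Nat.one_le_iff_ne_zero.mpr hψ₀
      rw [Nat.cast_sub h1, sub_smul, Nat.cast_one, one_smul]
      abel
    · apply Finset.sum_congr rfl
      intro ψ hψ
      have hne : ψ ≠ ψ₀ := Finset.ne_of_mem_erase hψ
      have : n' ψ = n ψ := if_neg hne
      rw [this]
  by_cases hβ0 : β 1 = 0
  · -- then `β = 0`
    have hβz : β = 0 := by
      have hall : ∀ ψ, n' ψ = 0 := by
        intro ψ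
        by_contra hne
        have h1 : (β 1) = ((∑ φ : IrrCharacter G, n' φ * irrDeg φ : ℕ) : ℂ) := by
          show (∑ ψ : IrrCharacter G, (n' ψ : ℂ) • (ψ : G → ℂ)) 1 = _
          rw [Finset.sum_apply]
          push_cast
          refine Finset.sum_congr rfl ?_
          intro φ _
          rw [Pi.smul_apply, smul_eq_mul, irrDeg_spec]
        rw [hβ0] at h1
        have h2 : ∑ φ : IrrCharacter G, n' φ * irrDeg φ = 0 := by exact_mod_cast h1.symm
        have h3 := Finset.sum_eq_zero_iff.mp h2 ψ (Finset.mem_univ ψ)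
        rcases Nat.mul_eq_zero.mp h3 with h4 | h4
        · exact hne h4
        · have := irrDeg_pos ψ
          omega
      show ∑ ψ : IrrCharacter G, (n' ψ : ℂ) • (ψ : G → ℂ) = 0
      simp [hall]
    rw [hsplit, hβz, add_zero]
    exact ψ₀.2
  · exfalso
    -- restrictions
    have hα : IsCharacter N (fun x : N => (ψ₀ : G → ℂ) x) :=
      Cfsg.Agent.Helper8.isCharacter_restrict N (IsIrrCharacter.isCharacter ψ₀.2)
    have hβN : IsCharacter N (fun x : N => β x) := Cfsg.Agent.Helper8.isCharacter_restrict N hβ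
    have hα1 : (fun x : N => (ψ₀ : G → ℂ) x) 1 ≠ 0 := by
      show (ψ₀ : G → ℂ) ((1 : N) : G) ≠ 0
      rw [Subgroup.coe_one]
      exact irr_one_ne_zero ψ₀
    have hβ1 : (fun x : N => β x) 1 ≠ 0 := by
      show β ((1 : N) : G) ≠ 0
      rw [Subgroup.coe_one]
      exact hβ0
    obtain ⟨k₁, hk₁, e₁⟩ := wpd_one_le_norm _ hα hα1
    obtain ⟨k₂, hk₂, e₂⟩ := wpd_one_le_norm _ hβN hβ1
    obtain ⟨k₃, e₃⟩ := IsCharacter.classInner_nat hα hβN
    obtain ⟨k₄, e₄⟩ := IsCharacter.classInner_nat hβN hα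
    have hnorm : classInner (fun x : N => χ x) (fun x : N => χ x) = 1 :=
      (isIrrCharacter_iff_classInner_self.mp h).2
    have hres : (fun x : N => χ x) = (fun x : N => (ψ₀ : G → ℂ) x) + (fun x : N => β x) := by
      funext x
      rw [hsplit]
      rfl
    rw [hres, classInner_add_left, classInner_add_right, classInner_add_right, e₁, e₂, e₃, e₄]
      at hnorm
    have : k₁ + k₃ + (k₄ + k₂) = 1 := by exact_mod_cast hnorm
    omega

end Cfsg.Agent.Helper12.LSp
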