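import Mathlib
import Cfsg.Prelude.Def_Characters
import Cfsg.Agent.Helper24.Expansion
import Cfsg.Agent.Helper24.Restrict
import Cfsg.Agent.Helper24.Regular
import Cfsg.Agent.Helper24.GlaubCyc

set_option autoImplicit false

/-! S2347 piece WSPLIT: a character of norm at most 2 and degree `2d+1` on which a central
involution has a value of absolute value 1 has an irreducible constituent of degree `d`. -/

namespace Cfsg.Agent.Helper12.LSp

open Cfsg Cfsg.Agent.Helper24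

theorem wsplit_sq_eq_one {R : Type*} [Ring R] [NoZeroDivisors R] {a : R}
    (h : a ^ 2 = 1) : a = 1 ∨ a = -1 := by
  have h1 : (a - 1) * (a + 1) = 0 := by
    have : (a - 1) * (a + 1) = a ^ 2 - 1 := by
      rw [pow_two]; noncomm_ring
    rw [this, h, sub_self]
  rcases mul_eq_zero.mp h1 with h2 | h2
  · left; exact sub_eq_zero.mp h2
  · right; exact eq_neg_of_add_eq_zero_left h2

/-- a central involution acts on an irreducible character by a sign -/
theorem wsplit_sign {G : Type*} [Group G] [Finite G] (ψ : IrrCharacter G) (z : G)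
    (hz : ∀ g, g * z = z * g) (hz2 : z * z = 1) :
    (ψ : G → ℂ) z = (ψ : G → ℂ) 1 ∨ (ψ : G → ℂ) z = -(ψ : G → ℂ) 1 := by
  obtain ⟨c, -, hc⟩ := exists_central_scalar ψ z hz
  have h1 := hc 1 1
  have h2 := hc 1 2
  rw [one_mul, pow_one, pow_one] at h1
  rw [one_mul, pow_two z, hz2] at h2
  have hne := irr_one_ne_zero ψ
  have hc2 : c ^ 2 = 1 := by
    have : (c ^ 2 - 1) * (ψ : G → ℂ) 1 = 0 := by
      rw [sub_mul, one_mul, ← h2, sub_self]
    rcases mul_eq_zero.mp this with h | h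
    · exact sub_eq_zero.mp h
    · exact absurd h hne
  have hc' : c = 1 ∨ c = -1 := wsplit_sq_eq_one hc2
  rcases hc' with h | h
  · left; rw [h1, h, one_mul]
  · right; rw [h1, h, neg_one_mul]

theorem exists_irr_of_split {G : Type*} [Group G] [Fintype G] (ω : G → ℂ) (hω : IsCharacter G ω)
    (d : ℕ) (hd : 1 ≤ d) (h1 : ω 1 = 2 * d + 1) (hnorm : (classInner ω ω).re ≤ 2) (z : G)
    (hz : ∀ g, g * z = z * g) (hz2 : z * z = 1) (hωz : Complex.normSq (ω z) = 1) :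
    ∃ χ : G → ℂ, IsIrrCharacter G χ ∧ χ 1 = d := by
  classical
  haveI : Finite G := Finite.of_fintype G
  haveI : Fintype (IrrCharacter G) := Fintype.ofFinite _
  obtain ⟨n, hn⟩ := IsCharacter.exists_nat_coeff hω
  -- the norm
  have hN : classInner ω ω = ((∑ ψ : IrrCharacter G, n ψ * n ψ : ℕ) : ℂ) := by
    rw [hn, classInner_sum_sum]
    push_cast
    simp
  have hN2 : ∑ ψ : IrrCharacter G, n ψ * n ψ ≤ 2 := by
    rw [hN] at hnorm
    have : ((∑ ψ : IrrCharacter G, n ψ * n ψ : ℕ) : ℝ) ≤ 2 := by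
      simpa using hnorm
    exact_mod_cast this
  -- values at `1` and `z`
  have hdeg : ∀ ψ : IrrCharacter G, (ψ : G → ℂ) 1 = (irrDeg ψ : ℂ) := fun ψ => irrDeg_spec ψ
  have hval1 : ω 1 = ((∑ ψ : IrrCharacter G, n ψ * irrDeg ψ : ℕ) : ℂ) := by
    rw [hn, Finset.sum_apply]
    push_cast
    refine Finset.sum_congr rfl ?_
    intro φ _
    rw [Pi.smul_apply, smul_eq_mul, hdeg]
  have hsum1 : ∑ ψ : IrrCharacter G, n ψ * irrDeg ψ = 2 * d + 1 := by
    rw [h1] at hval1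
    exact_mod_cast hval1.symm
  -- signs
  have hsign : ∀ ψ : IrrCharacter G, ∃ e : ℤ, (e = 1 ∨ e = -1) ∧
      (ψ : G → ℂ) z = (e : ℂ) * (irrDeg ψ : ℂ) := by
    intro ψ
    rcases wsplit_sign ψ z hz hz2 with h | h
    · exact ⟨1, Or.inl rfl, by rw [h, hdeg]; simp⟩
    · exact ⟨-1, Or.inr rfl, by rw [h, hdeg]; simp⟩
  choose e he hez using hsign
  have hvalz : ω z = ((∑ ψ : IrrCharacter G, (n ψ : ℤ) * (e ψ * irrDeg ψ) : ℤ) : ℂ) := by
    rw [hn, Finset.sum_apply]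
    push_cast
    refine Finset.sum_congr rfl ?_
    intro φ _
    rw [Pi.smul_apply, smul_eq_mul, hez]
  have hzabs : (∑ ψ : IrrCharacter G, (n ψ : ℤ) * (e ψ * irrDeg ψ)) ^ 2 = 1 := by
    rw [hvalz, Complex.normSq_intCast] at hωz
    have : ((∑ ψ : IrrCharacter G, (n ψ : ℤ) * (e ψ * irrDeg ψ) : ℤ) : ℝ) ^ 2 = 1 := by
      rw [pow_two]; exact hωz
    exact_mod_cast this
  -- a constituent
  obtain ⟨ψ₁, hψ₁⟩ : ∃ ψ₁, n ψ₁ ≠ 0 := by
    by_contra hall
    push Not at hall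
    simp [hall] at hsum1
  have hn1 : n ψ₁ = 1 := by
    have hle : n ψ₁ * n ψ₁ ≤ 2 := le_trans
      (Finset.single_le_sum (f := fun ψ => n ψ * n ψ) (fun _ _ => Nat.zero_le _)
        (Finset.mem_univ ψ₁)) hN2
    have hpos : 1 ≤ n ψ₁ := Nat.one_le_iff_ne_zero.mpr hψ₁
    nlinarith
  by_cases hothers : ∀ ψ, ψ ≠ ψ₁ → n ψ = 0
  · -- `ω = ψ₁`: impossible
    exfalso
    have hs1 : ∑ ψ : IrrCharacter G, n ψ * irrDeg ψ = irrDeg ψ₁ := by
      rw [Finset.sum_eq_single ψ₁]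
      · rw [hn1, one_mul]
      · intro ψ _ hne; rw [hothers ψ hne, zero_mul]
      · intro h; exact absurd (Finset.mem_univ ψ₁) h
    have hsz : ∑ ψ : IrrCharacter G, (n ψ : ℤ) * (e ψ * irrDeg ψ) = e ψ₁ * irrDeg ψ₁ := by
      rw [Finset.sum_eq_single ψ₁]
      · rw [hn1]; simp
      · intro ψ _ hne; rw [hothers ψ hne]; simp
      · intro h; exact absurd (Finset.mem_univ ψ₁) h
    rw [hsz] at hzabs
    rw [hs1] at hsum1
    have hsq : ((irrDeg ψ₁ : ℤ)) ^ 2 = 1 := by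
      rcases he ψ₁ with h | h
      · rw [h] at hzabs; linarith
      · rw [h] at hzabs; nlinarith
    rw [hsum1] at hsq
    push_cast at hsq
    have : (d : ℤ) ≥ 1 := by exact_mod_cast hd
    nlinarith
  · push Not at hothers
    obtain ⟨ψ₂, hne, hψ₂⟩ := hothers
    have hn2 : n ψ₂ = 1 := by
      have hle : n ψ₁ * n ψ₁ + n ψ₂ * n ψ₂ ≤ 2 := le_trans
        (Finset.add_le_sum (f := fun ψ => n ψ * n ψ) (fun _ _ => Nat.zero_le _)
          (Finset.mem_univ ψ₁) (Finset.mem_univ ψ₂) hne.symm) hN2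
      have hpos : 1 ≤ n ψ₂ := Nat.one_le_iff_ne_zero.mpr hψ₂
      nlinarith
    have hrest : ∀ ψ, ψ ≠ ψ₁ → ψ ≠ ψ₂ → n ψ = 0 := by
      intro ψ h1' h2'
      by_contra h0
      have hpos : 1 ≤ n ψ := Nat.one_le_iff_ne_zero.mpr h0
      have h3 : ∑ φ ∈ ({ψ₁, ψ₂, ψ} : Finset (IrrCharacter G)), n φ * n φ ≤
          ∑ φ : IrrCharacter G, n φ * n φ :=
        Finset.sum_le_sum_of_subset (Finset.subset_univ _)
      rw [Finset.sum_insert (by simp [hne.symm, Ne.symm h1']),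
        Finset.sum_insert (by simp [Ne.symm h2']), Finset.sum_singleton, hn1, hn2] at h3
      nlinarith
    have hs1 : ∑ ψ : IrrCharacter G, n ψ * irrDeg ψ = irrDeg ψ₁ + irrDeg ψ₂ := by
      rw [← Finset.add_sum_erase _ _ (Finset.mem_univ ψ₁),
        ← Finset.add_sum_erase _ _ (Finset.mem_erase.mpr ⟨hne, Finset.mem_univ ψ₂⟩),
        hn1, hn2, one_mul, one_mul, Finset.sum_eq_zero, add_zero]
      intro ψ hψ
      have h2' := Finset.ne_of_mem_erase hψ
      have h1' := Finset.ne_of_mem_erase (Finset.mem_of_mem_erase hψ)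
      rw [hrest ψ h1' h2', zero_mul]
    have hsz : ∑ ψ : IrrCharacter G, (n ψ : ℤ) * (e ψ * irrDeg ψ) =
        e ψ₁ * irrDeg ψ₁ + e ψ₂ * irrDeg ψ₂ := by
      rw [← Finset.add_sum_erase _ _ (Finset.mem_univ ψ₁),
        ← Finset.add_sum_erase _ _ (Finset.mem_erase.mpr ⟨hne, Finset.mem_univ ψ₂⟩),
        hn1, hn2, Finset.sum_eq_zero, add_zero]
      · simp
      intro ψ hψ
      have h2' := Finset.ne_of_mem_erase hψ
      have h1' := Finset.ne_of_mem_erase (Finset.mem_of_mem_erase hψ)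
      rw [hrest ψ h1' h2']
      simp
    rw [hsz] at hzabs
    rw [hs1] at hsum1
    have ha : (irrDeg ψ₁ : ℤ) + irrDeg ψ₂ = 2 * d + 1 := by exact_mod_cast hsum1
    have hp1 : (1 : ℤ) ≤ irrDeg ψ₁ := by exact_mod_cast irrDeg_pos ψ₁
    have hp2 : (1 : ℤ) ≤ irrDeg ψ₂ := by exact_mod_cast irrDeg_pos ψ₂
    have hd' : (1 : ℤ) ≤ d := by exact_mod_cast hd
    -- the four sign cases
    have key : (irrDeg ψ₁ : ℤ) = d ∨ (irrDeg ψ₂ : ℤ) = d := by
      rcases he ψ₁ with h₁ | h₁ <;> rcases he ψ₂ with h₂ | h₂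
      · rw [h₁, h₂, one_mul, one_mul, ha] at hzabs
        exfalso; nlinarith
      · rw [h₁, h₂, one_mul] at hzabs
        have h3 : ((irrDeg ψ₁ : ℤ) - irrDeg ψ₂) ^ 2 = 1 := by nlinarith
        rcases wsplit_sq_eq_one h3 with h4 | h4
        · right; omega
        · left; omega
      · rw [h₁, h₂, one_mul] at hzabs
        have h3 : ((irrDeg ψ₁ : ℤ) - irrDeg ψ₂) ^ 2 = 1 := by nlinarith
        rcases wsplit_sq_eq_one h3 with h4 | h4
        · right; omega
        · left; omega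
      · rw [h₁, h₂] at hzabs
        have h3 : ((irrDeg ψ₁ : ℤ) + irrDeg ψ₂) ^ 2 = 1 := by nlinarith
        rw [ha] at h3
        exfalso; nlinarith
    rcases key with h | h
    · exact ⟨ψ₁, ψ₁.2, by rw [hdeg]; exact_mod_cast h⟩
    · exact ⟨ψ₂, ψ₂.2, by rw [hdeg]; exact_mod_cast h⟩

end Cfsg.Agent.Helper12.LSp
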