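import Mathlib

/-! Board `s4130pieces`, row PKN1: a finite `p`-group all of whose class sizes divide `p` has class
at most 2. -/

set_option autoImplicit false

namespace Cfsg.Agent.S4130P

open Subgroup

/-- a subgroup of index dividing `p` of a finite `p`-group contains the commutator subgroup -/
theorem PKN1_aux_le {P : Type*} [Group P] [Finite P] (p : ℕ) [Fact p.Prime] (hP : IsPGroup p P)
    (C : Subgroup P) (hC : C.index ∣ p) : commutator P ≤ C := by
  have hp : p.Prime := Fact.out
  rcases (Nat.dvd_prime hp).mp hC with h1 | h1
  · rw [Subgroup.index_eq_one] at h1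
    rw [h1]; exact le_top
  · -- `C` has index `p`, the smallest prime divisor of `|P|`
    obtain ⟨n, hn⟩ := hP.exists_card_eq
    have hn0 : n ≠ 0 := by
      rintro rfl
      rw [pow_zero] at hn
      have : C.index ∣ 1 := hn ▸ Subgroup.index_dvd_card C
      rw [h1] at this
      exact hp.one_lt.ne' (Nat.dvd_one.mp this)
    have hmin : (Nat.card P).minFac = p := by
      rw [hn]; exact hp.pow_minFac hn0
    have : C.Normal := Subgroup.normal_of_index_eq_minFac_card (by rw [hmin, h1])
    have hcard : Nat.card (P ⧸ C) = p := by rw [← Subgroup.index_eq_card]; exact h1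
    have : IsCyclic (P ⧸ C) := isCyclic_of_prime_card hcard
    let _ : CommGroup (P ⧸ C) := IsCyclic.commGroup
    have := Abelianization.commutator_subset_ker (QuotientGroup.mk' C)
    rwa [QuotientGroup.ker_mk'] at this

/-- (PKN1) a finite `p`-group all of whose class sizes divide `p` has class at most 2. -/
theorem PKN1 {P : Type*} [Group P] [Finite P] (p : ℕ) [Fact p.Prime] (hP : IsPGroup p P)
    (hcl : ∀ x : P, (centralizer ({x} : Set P)).index ∣ p) : commutator P ≤ center P := by
  intro c hc
  rw [Subgroup.mem_center_iff]
  intro x
  have := PKN1_aux_le p hP _ (hcl x) hc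
  rw [Subgroup.mem_centralizer_iff] at this
  exact this x rfl

end Cfsg.Agent.S4130P
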