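import Mathlib
import Cfsg.Agent.Helper25.S5165.Defs
import Cfsg.Agent.Helper24.S5165LIBA

set_option autoImplicit false
set_option linter.unusedSectionVars false
set_option linter.unusedVariables false

/-! # S5165 piece NBASE (driver helper25): the normalizer of the base group `Bsub` consists of the
products `base f * torus a * lift σ` (`r ≤ 1`). -/

namespace Cfsg.Agent.S5165P

open Equiv

section chapB

variable {p : ℕ} [Fact p.Prime] {I : Type} [Fintype I] [DecidableEq I] {r : ℕ}

namespace NBASE

theorem one_ne_zero_zmod : (1 : ZMod p) ≠ 0 := by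
  have : Fact (1 < p) := ⟨(Fact.out : p.Prime).one_lt⟩
  exact one_ne_zero

/-- conjugation of `base f` by an element of the normalizer -/
theorem conj_base {g : Perm (X p I r)}
    (hg : g ∈ Subgroup.normalizer ((Bsub p I r : Subgroup (Perm (X p I r))) : Set (Perm (X p I r))))
    (f : I → ZMod p) : ∃ f' : I → ZMod p, g * base f * g⁻¹ = base f' :=
  mem_Bsub.mp ((Subgroup.mem_normalizer_iff.mp hg (base f)).mp (mem_Bsub.mpr ⟨f, rfl⟩))

/-- the additive map `F` with `g * base (single i x) * g⁻¹ = base (F x)` -/
theorem exists_addHom {g : Perm (X p I r)}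
    (hg : g ∈ Subgroup.normalizer ((Bsub p I r : Subgroup (Perm (X p I r))) : Set (Perm (X p I r))))
    (i : I) : ∃ F : ZMod p →+ (I → ZMod p), ∀ x : ZMod p,
      g * base (Pi.single i x) * g⁻¹ = base (F x) := by
  choose F hF using fun x : ZMod p => conj_base hg (Pi.single i x)
  have hadd : ∀ x y : ZMod p, F (x + y) = F x + F y := by
    intro x y
    apply LIBA.base_injective (p := p) (I := I) (r := r)
    rw [← hF, LIBA.base_add, ← hF, ← hF, Pi.single_add, LIBA.base_add]
    group
  have hzero : F 0 = 0 := by
    have := hadd 0 0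
    rw [add_zero] at this
    exact left_eq_add.mp this
  exact ⟨⟨⟨F, hzero⟩, hadd⟩, hF⟩

/-- an additive map out of `ZMod p` is determined by its value at `1` -/
theorem addHom_apply (F : ZMod p →+ (I → ZMod p)) (x : ZMod p) (j : I) :
    F x j = x * F 1 j := by
  have hx : x = x.val • (1 : ZMod p) := by
    rw [nsmul_eq_mul, mul_one, ZMod.natCast_zmod_val]
  conv_lhs => rw [hx, map_nsmul]
  rw [Pi.smul_apply, nsmul_eq_mul, ZMod.natCast_zmod_val]

/-- the action on a block, in terms of the image of its zero -/
theorem apply_inl_eq {g : Perm (X p I r)} {i : I} (F : ZMod p →+ (I → ZMod p))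
    (hF : ∀ x : ZMod p, g * base (Pi.single i x) * g⁻¹ = base (F x)) (x : ZMod p) :
    g (Sum.inl (i, x)) = base (F x) (g (Sum.inl (i, 0))) := by
  rw [← hF]
  simp

/-- blocks go to blocks, affinely -/
theorem exists_affine {g : Perm (X p I r)}
    (hg : g ∈ Subgroup.normalizer ((Bsub p I r : Subgroup (Perm (X p I r))) : Set (Perm (X p I r))))
    (i : I) : ∃ (j : I) (y c : ZMod p), c ≠ 0 ∧
      ∀ x : ZMod p, g (Sum.inl (i, x)) = Sum.inl (j, y + x * c) := by
  obtain ⟨F, hF⟩ := exists_addHom hg i
  have h1 := apply_inl_eq F hF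
  rcases h0 : g (Sum.inl (i, 0)) with ⟨j, y⟩ | k
  · refine ⟨j, y, F 1 j, ?_, ?_⟩
    · intro hc
      have e1 := h1 1
      rw [h0, base_inl, hc, add_zero, ← h0] at e1
      have := g.injective e1
      simp only [Sum.inl.injEq, Prod.mk.injEq, true_and] at this
      exact one_ne_zero_zmod this
    · intro x
      rw [h1 x, h0, base_inl, addHom_apply]
  · exfalso
    have e1 := h1 1
    rw [h0, base_inr, ← h0] at e1
    have := g.injective e1
    simp only [Sum.inl.injEq, Prod.mk.injEq, true_and] at this
    exact one_ne_zero_zmod this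

theorem apply_inr {g : Perm (X p I r)} (hr : r ≤ 1)
    (hg : g ∈ Subgroup.normalizer ((Bsub p I r : Subgroup (Perm (X p I r))) : Set (Perm (X p I r))))
    (k : Fin r) : g (Sum.inr k) = Sum.inr k := by
  rcases h0 : g (Sum.inr k) with ⟨j, y⟩ | k'
  · exfalso
    obtain ⟨j', y', c, -, h⟩ := exists_affine (Subgroup.inv_mem _ hg) j
    have h2 := h y
    rw [← h0] at h2
    simp at h2
  · congr 1
    have : Subsingleton (Fin r) := by
      interval_cases r
      · infer_instance
      · infer_instance
    exact Subsingleton.elim _ _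

end NBASE

theorem NBASE.exists_nf (hr : r ≤ 1) (g : Perm (X p I r))
    (hg : g ∈ Subgroup.normalizer ((Bsub p I r : Subgroup (Perm (X p I r))) : Set (Perm (X p I r)))) :
    ∃ (f : I → ZMod p) (a : I → (ZMod p)ˣ) (σ : Perm I), g = base f * torus a * lift σ := by
  choose s y c hc hgx using NBASE.exists_affine hg
  have hsinj : Function.Injective s := by
    intro i j hij
    -- the point `g (j, 0)` lies in the block `s i` and is hit by the block `i`
    have hj := hgx j 0
    have hi := hgx i ((y j - y i) * (c i)⁻¹)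
    rw [← hij] at hj
    have : g (Sum.inl (i, (y j - y i) * (c i)⁻¹)) = g (Sum.inl (j, 0)) := by
      rw [hi, hj]
      congr 2
      rw [mul_assoc, inv_mul_cancel₀ (hc i)]
      ring
    have := g.injective this
    simp only [Sum.inl.injEq, Prod.mk.injEq] at this
    exact this.1
  have hsbij : Function.Bijective s := Finite.injective_iff_bijective.mp hsinj
  let σ : Perm I := Equiv.ofBijective s hsbij
  refine ⟨fun j => y (σ.symm j), fun j => Units.mk0 (c (σ.symm j)) (hc _), σ, ?_⟩
  ext x
  rcases x with ⟨i, x⟩ | k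
  · rw [hgx]
    simp only [Perm.coe_mul, Function.comp_apply, lift_inl, torus_inl, base_inl, Units.val_mk0]
    have hσ : σ i = s i := rfl
    rw [hσ]
    have hσ' : σ.symm (s i) = i := by
      rw [← hσ, Equiv.symm_apply_apply]
    rw [hσ']
    congr 2
    ring
  · rw [NBASE.apply_inr hr hg]
    simp

end chapB

end Cfsg.Agent.S5165P
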