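import Mathlib
import Cfsg.Prelude.Def_GeometricClasses
import Cfsg.Agent.Helper29.S5655.Defs

/-! S5655 (half k ≥ 2), piece GEO1. -/

set_option autoImplicit false

namespace Cfsg.Agent.S5655P

open Matrix Module
open Cfsg.Agent.S2644 Cfsg.Agent.Helper2.SUGen Cfsg.Agent.Helper28.SimMax Cfsg.Agent.S5658P

variable {K : Type*} [Field K] {q n t k : ℕ}

local notation "h" => Cfsg.hermForm n K q
local notation "T" => Cfsg.unitaryTransvection n q

/-- piece GEO1 -/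
theorem GEO1.exists_iso_ne [Fintype K] (D : Frob K q) (hK : Fintype.card K = q ^ 2)
    {Y : Submodule K (Fin n → K)} (hY : NonDeg q Y) (hd : 2 ≤ finrank K Y) {c : Fin n → K}
    (hc : c ∈ Y) (hc0 : c ≠ 0) : ∃ x ∈ Y, h x x = 0 ∧ h c x ≠ 0 :=
  exists_iso_pair D hY hc hc0 (exists_not_smul hd c)

/-- hyperbolic partner inside `Y` -/
theorem GEO1.exists_partner [Fintype K] (D : Frob K q) (hK : Fintype.card K = q ^ 2)
    {Y : Submodule K (Fin n → K)} (hY : NonDeg q Y) (hd : 2 ≤ finrank K Y) {x : Fin n → K}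
    (hx : x ∈ Y) (hxx : h x x = 0) (hx0 : x ≠ 0) :
    ∃ x' ∈ Y, h x' x' = 0 ∧ h x x' = 1 ∧ h x' x = 1 :=
  Cfsg.Agent.Helper2.SUGen.exists_partner D hY hx hx0 hxx

/-- a nonzero isotropic vector exists in `Y` -/
theorem GEO1.exists_iso [Fintype K] (D : Frob K q) (hK : Fintype.card K = q ^ 2)
    {Y : Submodule K (Fin n → K)} (hY : NonDeg q Y) (hd : 2 ≤ finrank K Y) :
    ∃ x ∈ Y, h x x = 0 ∧ x ≠ 0 := by
  obtain ⟨u, hu, v, hv, hune, huu, hvv, huv, hvu⟩ := exists_hyp_pair D hY hd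
  exact ⟨u, hu, huu, hune⟩

/-- an anisotropic vector exists in `Y` -/
theorem GEO1.exists_aniso [Fintype K] (D : Frob K q) (hK : Fintype.card K = q ^ 2)
    {Y : Submodule K (Fin n → K)} (hY : NonDeg q Y) (hd : 1 ≤ finrank K Y) :
    ∃ z ∈ Y, h z z ≠ 0 := by
  obtain ⟨y, hy, hy0⟩ : ∃ y ∈ Y, y ≠ 0 := by
    have hne : Y ≠ ⊥ := by
      intro h0
      rw [h0, finrank_bot] at hd
      omega
    exact Submodule.exists_mem_ne_zero_of_ne_bot hne
  by_cases hyy : h y y = 0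
  · obtain ⟨x, hx, hxx, hβ⟩ := exists_iso_of_iso D hY hy hy0 hyy
    obtain ⟨s, hs⟩ := exists_trace_ne D
    have hβ' : h x y ≠ 0 := h_symm_ne D hβ
    refine ⟨y + (s / h x y) • x, Y.add_mem hy (Y.smul_mem _ hx), ?_⟩
    rw [h_self_add_smul D, hyy, hxx, mul_zero, add_zero, zero_add, div_mul_cancel₀ _ hβ']
    have e1 : D.σ (s / h x y) * h y x = D.σ s := by
      rw [map_div₀, h_conj D y x, div_mul_cancel₀ _ hβ]
    rw [e1, add_comm]
    exact hs
  · exact ⟨y, hy, hyy⟩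

end Cfsg.Agent.S5655P
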