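import Mathlib
import Cfsg.Agent.Helper18.CTDefs

set_option autoImplicit false

/-! # S5748 piece GEO (for helper18): the action on the cosets of `N_G(A)`. -/

namespace Cfsg.Agent.Helper29.CT

open Cfsg.Agent.Helper18.CT MulAction

variable {G : Type*} [Group G]

/-- the conjugate `g A g⁻¹` -/
def conjSub (A : Subgroup G) (g : G) : Subgroup G where
  carrier := {x | g⁻¹ * x * g ∈ A}
  one_mem' := by simp [A.one_mem]
  mul_mem' := by
    intro a b ha hb
    have : g⁻¹ * (a * b) * g = (g⁻¹ * a * g) * (g⁻¹ * b * g) := by group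
    simp only [Set.mem_ofPred_eq] at ha hb ⊢
    rw [this]
    exact A.mul_mem ha hb
  inv_mem' := by
    intro a ha
    have : g⁻¹ * a⁻¹ * g = (g⁻¹ * a * g)⁻¹ := by group
    simp only [Set.mem_ofPred_eq] at ha ⊢
    rw [this]
    exact A.inv_mem ha

theorem mem_conjSub {A : Subgroup G} {g x : G} : x ∈ conjSub A g ↔ g⁻¹ * x * g ∈ A := Iff.rfl

theorem conjSub_one (A : Subgroup G) : conjSub A 1 = A := by
  ext x
  simp [mem_conjSub]

theorem conjSub_eq_of_mem_normalizer {A : Subgroup G} {g g' : G}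
    (h : g⁻¹ * g' ∈ Subgroup.normalizer (A : Set G)) : conjSub A g = conjSub A g' := by
  ext x
  rw [mem_conjSub, mem_conjSub]
  have h1 := (Subgroup.mem_normalizer_iff.mp h) (g'⁻¹ * x * g')
  have e : g⁻¹ * g' * (g'⁻¹ * x * g') * (g⁻¹ * g')⁻¹ = g⁻¹ * x * g := by group
  rw [e] at h1
  exact h1.symm

theorem smul_mk_eq_iff (N : Subgroup G) (x g : G) :
    x • ((g : G) : G ⧸ N) = (g : G ⧸ N) ↔ g⁻¹ * x * g ∈ N := by
  rw [MulAction.Quotient.smul_mk, smul_eq_mul, eq_comm, QuotientGroup.eq]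
  rw [mul_assoc]

theorem orderOf_conj' (g u : G) : orderOf (g⁻¹ * u * g) = orderOf u := by
  have h := MulEquiv.orderOf_eq (MulAut.conj g⁻¹) u
  rw [MulAut.conj_apply, inv_inv] at h
  exact h

theorem conjSub_eq_map (A : Subgroup G) (g : G) :
    conjSub A g = A.map (MulAut.conj g).toMonoidHom := by
  ext x
  rw [mem_conjSub, Subgroup.mem_map]
  constructor
  · intro h
    refine ⟨g⁻¹ * x * g, h, ?_⟩
    simp only [MulEquiv.coe_toMonoidHom, MulAut.conj_apply]
    group
  · rintro ⟨a, ha, rfl⟩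
    simp only [MulEquiv.coe_toMonoidHom, MulAut.conj_apply]
    have : g⁻¹ * (g * a * g⁻¹) * g = a := by group
    rw [this]
    exact ha

theorem relIndex_conjSub (A B : Subgroup G) (g : G) :
    (conjSub A g).relIndex (conjSub B g) = A.relIndex B := by
  rw [conjSub_eq_map, conjSub_eq_map]
  exact Subgroup.relIndex_map_map_of_injective A B (MulAut.conj g).injective

theorem stabilizer_mk (N : Subgroup G) (g : G) :
    stabilizer G ((g : G) : G ⧸ N) = conjSub N g := by
  ext x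
  rw [mem_stabilizer_iff, smul_mk_eq_iff, mem_conjSub]

/-- the subgroup attached to a point of `G ⧸ N_G(A)` -/
noncomputable def Kfun (A : Subgroup G) (γ : G ⧸ Subgroup.normalizer (A : Set G)) : Subgroup G :=
  conjSub A (Quotient.out γ)

theorem Kfun_mk (A : Subgroup G) (g : G) :
    Kfun A ((g : G) : G ⧸ Subgroup.normalizer (A : Set G)) = conjSub A g := by
  unfold Kfun
  apply conjSub_eq_of_mem_normalizer
  have h : ((Quotient.out ((g : G) : G ⧸ Subgroup.normalizer (A : Set G)) : G) :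
      G ⧸ Subgroup.normalizer (A : Set G)) = (g : G ⧸ Subgroup.normalizer (A : Set G)) :=
    QuotientGroup.out_eq' _
  exact QuotientGroup.eq.mp h

/-- for `x` in the normalizer, `x ^ e ∈ A` when `|N : A| = e` -/
theorem pow_relIndex_mem (A : Subgroup G) {x : G} (hx : x ∈ Subgroup.normalizer (A : Set G)) :
    x ^ (A.relIndex (Subgroup.normalizer (A : Set G))) ∈ A := by
  have : (A.subgroupOf (Subgroup.normalizer (A : Set G))).Normal := Subgroup.normal_in_normalizer
  have h := Subgroup.pow_index_mem (A.subgroupOf (Subgroup.normalizer (A : Set G)))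
    (⟨x, hx⟩ : ↥(Subgroup.normalizer (A : Set G)))
  rw [Subgroup.mem_subgroupOf] at h
  simpa [Subgroup.relIndex] using h

section loc

variable [Finite G] {A : Subgroup G} {e : ℕ}

theorem mem_of_mem_normalizer_of_conj (h : Loc A e) {x a₀ k : G} (ha₀ : a₀ ∈ A)
    (hx : x ∈ Subgroup.normalizer (A : Set G)) (hxk : x = k * a₀ * k⁻¹) : x ∈ A := by
  have hxe : x ^ e ∈ A := by
    have := pow_relIndex_mem A hx
    rwa [h.index] at this
  have hord : orderOf x = orderOf a₀ := by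
    rw [hxk]
    have h1 := MulEquiv.orderOf_eq (MulAut.conj k) a₀
    rwa [MulAut.conj_apply] at h1
  have hdvd : orderOf x ∣ Nat.card A := by
    rw [hord]
    exact Subgroup.orderOf_dvd_natCard A ha₀
  have hcard : 1 ≤ Nat.card A := Nat.one_le_iff_ne_zero.mpr Nat.card_pos.ne'
  have hcop : Nat.Coprime e (orderOf x) := by
    apply Nat.Coprime.coprime_dvd_right hdvd
    apply Nat.Coprime.coprime_dvd_left h.dvd
    have h2 : Nat.card A = (Nat.card A - 1) + 1 := by omega
    rw [h2]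
    simp
  obtain ⟨m, hm⟩ := exists_pow_eq_self_of_coprime hcop
  rw [← hm]
  exact A.pow_mem hxe m

theorem K_free_aux (h : Loc A e) {g hh a : G} (ha : a ∈ conjSub A g) (ha1 : a ≠ 1)
    (hfix : hh⁻¹ * a * hh ∈ Subgroup.normalizer (A : Set G)) :
    hh⁻¹ * g ∈ Subgroup.normalizer (A : Set G) := by
  rw [mem_conjSub] at ha
  obtain ⟨a₀, ha₀⟩ : ∃ a₀, a₀ = g⁻¹ * a * g := ⟨_, rfl⟩
  obtain ⟨k, hk⟩ : ∃ k, k = hh⁻¹ * g := ⟨_, rfl⟩
  obtain ⟨x, hx⟩ : ∃ x, x = hh⁻¹ * a * hh := ⟨_, rfl⟩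
  rw [← ha₀] at ha
  rw [← hx] at hfix
  rw [← hk]
  have hxk : x = k * a₀ * k⁻¹ := by rw [hx, hk, ha₀]; group
  have ha₀1 : a₀ ≠ 1 := by
    intro h0
    apply ha1
    have : a = g * a₀ * g⁻¹ := by rw [ha₀]; group
    rw [this, h0]; group
  have hxA : x ∈ A := mem_of_mem_normalizer_of_conj h ha hfix hxk
  have hx1 : x ≠ 1 := by
    intro h0
    apply ha₀1
    have : a₀ = k⁻¹ * x * k := by rw [hxk]; group
    rw [this, h0]; group
  rw [Subgroup.mem_normalizer_iff]
  intro y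
  constructor
  · intro hy
    apply h.cent x hxA hx1
    have hc := h.comm y hy a₀ ha
    rw [hxk]
    calc k * y * k⁻¹ * (k * a₀ * k⁻¹) = k * (y * a₀) * k⁻¹ := by group
      _ = k * (a₀ * y) * k⁻¹ := by rw [hc]
      _ = k * a₀ * k⁻¹ * (k * y * k⁻¹) := by group
  · intro hy
    apply h.cent a₀ ha ha₀1
    have hc := h.comm (k * y * k⁻¹) hy x hxA
    rw [hxk] at hc
    calc y * a₀ = k⁻¹ * (k * y * k⁻¹ * (k * a₀ * k⁻¹)) * k := by group
      _ = k⁻¹ * (k * a₀ * k⁻¹ * (k * y * k⁻¹)) * k := by rw [hc]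
      _ = a₀ * y := by group

omit [Finite G] in
theorem exists_inv_mem (h : Loc A e) : ∃ t₀ : G, t₀ ∈ A ∧ orderOf t₀ = 2 := by
  have hpos : 0 < Nat.card {a : G // a ∈ A ∧ orderOf a = 2} := by
    rw [h.inv_card]
    have := h.e_ge
    omega
  obtain ⟨⟨t₀, ht₀⟩⟩ := (Nat.card_pos_iff.mp hpos).1
  exact ⟨t₀, ht₀⟩

/-- **Piece GEO.** -/
theorem Loc.exists_geo (h : Loc A e) :
    ∃ K : G ⧸ Subgroup.normalizer (A : Set G) → Subgroup G,
      Geo (G ⧸ Subgroup.normalizer (A : Set G)) K e ∧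
        K ((1 : G) : G ⧸ Subgroup.normalizer (A : Set G)) = A := by
  refine ⟨Kfun A, ?_, ?_⟩
  swap
  · rw [Kfun_mk, conjSub_one]
  have hAN : A ≤ Subgroup.normalizer (A : Set G) := Subgroup.le_normalizer
  refine
    { trans := inferInstance
      ct := h.ct
      K_le := ?_
      K_norm := ?_
      K_inv := ?_
      K_free := ?_
      K_cent := ?_
      K_index := ?_
      inv_fix := ?_
      inv_card := ?_
      e_ge := h.e_ge
      e_odd := h.e_odd }
  · -- K_le
    intro γ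
    obtain ⟨g, rfl⟩ := QuotientGroup.mk_surjective γ
    rw [Kfun_mk, stabilizer_mk]
    intro x hx
    rw [mem_conjSub] at hx ⊢
    exact hAN hx
  · -- K_norm
    intro γ
    obtain ⟨g, rfl⟩ := QuotientGroup.mk_surjective γ
    rw [Kfun_mk, stabilizer_mk]
    intro x hx a ha
    rw [mem_conjSub] at hx ha ⊢
    have h1 := (Subgroup.mem_normalizer_iff.mp hx (g⁻¹ * a * g)).mp ha
    have e1 : g⁻¹ * (x * a * x⁻¹) * g = g⁻¹ * x * g * (g⁻¹ * a * g) * (g⁻¹ * x * g)⁻¹ := by group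
    rw [e1]
    exact h1
  · -- K_inv
    intro γ u hu hfix
    obtain ⟨g, rfl⟩ := QuotientGroup.mk_surjective γ
    rw [Kfun_mk, mem_conjSub]
    rw [smul_mk_eq_iff] at hfix
    apply h.inv_norm _ hfix
    rw [orderOf_conj', hu]
  · -- K_free
    intro γ a ha ha1 δ hδ
    obtain ⟨g, rfl⟩ := QuotientGroup.mk_surjective γ
    obtain ⟨hh, rfl⟩ := QuotientGroup.mk_surjective δ
    rw [Kfun_mk] at ha
    rw [smul_mk_eq_iff] at hδ
    exact QuotientGroup.eq.mpr (K_free_aux h ha ha1 hδ)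
  · -- K_cent
    intro γ a ha ha1 x hxa
    obtain ⟨g, rfl⟩ := QuotientGroup.mk_surjective γ
    rw [Kfun_mk, mem_conjSub] at ha ⊢
    apply h.cent (g⁻¹ * a * g) ha
    · intro h0
      apply ha1
      have : a = g * (g⁻¹ * a * g) * g⁻¹ := by group
      rw [this, h0]; group
    · calc g⁻¹ * x * g * (g⁻¹ * a * g) = g⁻¹ * (x * a) * g := by group
        _ = g⁻¹ * (a * x) * g := by rw [hxa]
        _ = g⁻¹ * a * g * (g⁻¹ * x * g) := by group
  · -- K_index
    intro γ
    obtain ⟨g, rfl⟩ := QuotientGroup.mk_surjective γ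
    rw [Kfun_mk, stabilizer_mk, relIndex_conjSub, h.index]
  · -- inv_fix
    intro u hu
    obtain ⟨t₀, ht₀A, ht₀⟩ := exists_inv_mem h
    obtain ⟨g, hg⟩ := h.inv_conj t₀ u ht₀ hu
    refine ⟨((g : G) : G ⧸ Subgroup.normalizer (A : Set G)), ?_⟩
    rw [smul_mk_eq_iff, ← hg]
    have : g⁻¹ * (g * t₀ * g⁻¹) * g = t₀ := by group
    rw [this]
    exact hAN ht₀A
  · -- inv_card
    intro γ
    obtain ⟨g, rfl⟩ := QuotientGroup.mk_surjective γ
    rw [← h.inv_card]
    apply Nat.card_congr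
    refine
      { toFun := fun u => ⟨g⁻¹ * u.1 * g, ?_, ?_⟩
        invFun := fun a => ⟨g * a.1 * g⁻¹, ?_, ?_⟩
        left_inv := ?_
        right_inv := ?_ }
    · have h2 := u.2.2
      rw [smul_mk_eq_iff] at h2
      apply h.inv_norm _ h2
      rw [orderOf_conj', u.2.1]
    · rw [orderOf_conj', u.2.1]
    · have h1 := MulEquiv.orderOf_eq (MulAut.conj g) a.1
      rw [MulAut.conj_apply] at h1
      rw [h1, a.2.2]
    · rw [smul_mk_eq_iff]
      have : g⁻¹ * (g * a.1 * g⁻¹) * g = a.1 := by group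
      rw [this]
      exact hAN a.2.1
    · intro u
      apply Subtype.ext
      show g * (g⁻¹ * u.1 * g) * g⁻¹ = u.1
      group
    · intro a
      apply Subtype.ext
      show g⁻¹ * (g * a.1 * g⁻¹) * g = a.1
      group

end loc

end Cfsg.Agent.Helper29.CT
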