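import Mathlib
import Cfsg.Prelude.Def_GeometricClasses

set_option autoImplicit false

/-! S5877 (eigenspaces of prime order elements normalising an absolutely irreducible extraspecial
group): shared definitions and small API.

`GLn n F`, `sc` = the scalar homomorphism `Fˣ →* GL_n(F)`, `Eig A c` = eigenspace of a matrix,
`tw g a = a⁻¹ (g a g⁻¹)`, `Fixes A W`, `Wsp g c a = E ∩ a⁻¹ E`, and the abstract configuration `Cfg`. -/

namespace Cfsg.Agent.S5877P

open Matrix Module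

variable {n : ℕ} {F : Type*} [Field F]

/-- `GL_n(F)` -/
abbrev GLn (n : ℕ) (F : Type*) [Field F] : Type _ := Matrix.GeneralLinearGroup (Fin n) F

/-- the subgroup of nonzero scalar matrices (the Prelude's one) -/
abbrev Zs (n : ℕ) (F : Type*) [Field F] : Subgroup (GLn n F) := Cfsg.Geo.scalars (Fin n) F

/-- the scalar homomorphism `Fˣ →* GL_n(F)` -/
def sc (n : ℕ) {F : Type*} [Field F] : Fˣ →* GLn n F :=
  Units.map (Matrix.scalar (Fin n) : F →+* Matrix (Fin n) (Fin n) F).toMonoidHom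

theorem Zs_eq_range : Zs n F = (sc n (F := F)).range := rfl

theorem sc_val (u : Fˣ) :
    ((sc n u : GLn n F) : Matrix (Fin n) (Fin n) F) = (u : F) • (1 : Matrix (Fin n) (Fin n) F) := by
  show Matrix.scalar (Fin n) (u : F) = _
  simp [Matrix.smul_one_eq_diagonal]

theorem sc_mem (u : Fˣ) : sc n u ∈ Zs n F := ⟨u, rfl⟩

theorem mem_Zs_iff (A : GLn n F) : A ∈ Zs n F ↔ ∃ u : Fˣ, A = sc n u := by
  constructor
  · rintro ⟨u, rfl⟩; exact ⟨u, rfl⟩
  · rintro ⟨u, rfl⟩; exact ⟨u, rfl⟩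

theorem sc_mulVec (u : Fˣ) (v : Fin n → F) :
    ((sc n u : GLn n F) : Matrix (Fin n) (Fin n) F) *ᵥ v = (u : F) • v := by
  rw [sc_val, Matrix.smul_mulVec, Matrix.one_mulVec]

theorem sc_comm (u : Fˣ) (A : GLn n F) : sc n u * A = A * sc n u := by
  apply Units.ext
  rw [Units.val_mul, Units.val_mul, sc_val, Matrix.smul_mul, Matrix.mul_smul, Matrix.one_mul,
    Matrix.mul_one]

theorem Zs_le_center : Zs n F ≤ Subgroup.center (GLn n F) := by
  rintro _ ⟨u, rfl⟩
  rw [Subgroup.mem_center_iff]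
  intro A
  exact (sc_comm u A).symm

theorem sc_injective (hn : 0 < n) : Function.Injective (sc n (F := F)) := by
  intro u u' h
  have h1 : ((sc n u : GLn n F) : Matrix (Fin n) (Fin n) F) ⟨0, hn⟩ ⟨0, hn⟩
      = ((sc n u' : GLn n F) : Matrix (Fin n) (Fin n) F) ⟨0, hn⟩ ⟨0, hn⟩ := by rw [h]
  rw [sc_val, sc_val] at h1
  simp only [Matrix.smul_apply, Matrix.one_apply_eq, smul_eq_mul, mul_one] at h1
  exact Units.ext h1

/-- a scalar matrix with a nonzero fixed vector is `1` -/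
theorem sc_eq_one_of_fixed (u : Fˣ) (v : Fin n → F) (hv : v ≠ 0)
    (h : ((sc n u : GLn n F) : Matrix (Fin n) (Fin n) F) *ᵥ v = v) : u = 1 := by
  rw [sc_mulVec] at h
  have h2 : ((u : F) - 1) • v = 0 := by rw [sub_smul, one_smul, h, sub_self]
  rcases smul_eq_zero.mp h2 with h3 | h3
  · exact Units.ext (by rw [Units.val_one]; exact sub_eq_zero.mp h3)
  · exact absurd h3 hv

/-- matrix action on vectors -/
theorem mul_mulVec (A B : GLn n F) (v : Fin n → F) :
    ((A * B : GLn n F) : Matrix (Fin n) (Fin n) F) *ᵥ v =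
      (A : Matrix (Fin n) (Fin n) F) *ᵥ ((B : Matrix (Fin n) (Fin n) F) *ᵥ v) := by
  rw [Units.val_mul, Matrix.mulVec_mulVec]

theorem one_mulVec' (v : Fin n → F) :
    ((1 : GLn n F) : Matrix (Fin n) (Fin n) F) *ᵥ v = v := by
  rw [Units.val_one, Matrix.one_mulVec]

theorem inv_mulVec_mulVec (A : GLn n F) (v : Fin n → F) :
    ((A⁻¹ : GLn n F) : Matrix (Fin n) (Fin n) F) *ᵥ ((A : Matrix (Fin n) (Fin n) F) *ᵥ v) = v := by
  rw [← mul_mulVec, inv_mul_cancel, one_mulVec']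

theorem mulVec_inv_mulVec (A : GLn n F) (v : Fin n → F) :
    (A : Matrix (Fin n) (Fin n) F) *ᵥ (((A⁻¹ : GLn n F) : Matrix (Fin n) (Fin n) F) *ᵥ v) = v := by
  rw [← mul_mulVec, mul_inv_cancel, one_mulVec']

theorem mulVec_injective (A : GLn n F) :
    Function.Injective (fun v : Fin n → F => (A : Matrix (Fin n) (Fin n) F) *ᵥ v) := by
  intro v w h
  have := congrArg (fun x => ((A⁻¹ : GLn n F) : Matrix (Fin n) (Fin n) F) *ᵥ x) h
  simpa only [inv_mulVec_mulVec] using this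

/-- the eigenspace of a matrix in `GL_n(F)`, exactly as in the statement -/
def Eig (A : GLn n F) (c : F) : Submodule F (Fin n → F) :=
  Module.End.eigenspace (Matrix.toLin' (A : Matrix (Fin n) (Fin n) F)) c

theorem mem_Eig (A : GLn n F) (c : F) (v : Fin n → F) :
    v ∈ Eig A c ↔ (A : Matrix (Fin n) (Fin n) F) *ᵥ v = c • v := by
  unfold Eig
  rw [Module.End.mem_eigenspace_iff, Matrix.toLin'_apply]

theorem Eig_zero (A : GLn n F) : Eig A 0 = ⊥ := by
  rw [eq_bot_iff]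
  intro v hv
  rw [mem_Eig, zero_smul] at hv
  rw [Submodule.mem_bot]
  apply mulVec_injective A
  show (A : Matrix (Fin n) (Fin n) F) *ᵥ v = (A : Matrix (Fin n) (Fin n) F) *ᵥ 0
  rw [hv, Matrix.mulVec_zero]

/-- the twist `t(a) = a⁻¹ (g a g⁻¹)` -/
def tw (g a : GLn n F) : GLn n F := a⁻¹ * (g * a * g⁻¹)

/-- `A` fixes `W` pointwise -/
def Fixes (A : GLn n F) (W : Submodule F (Fin n → F)) : Prop :=
  ∀ v ∈ W, (A : Matrix (Fin n) (Fin n) F) *ᵥ v = v

theorem fixes_iff_le_Eig_one (A : GLn n F) (W : Submodule F (Fin n → F)) :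
    Fixes A W ↔ W ≤ Eig A 1 := by
  constructor
  · intro h v hv
    rw [mem_Eig, one_smul]
    exact h v hv
  · intro h v hv
    have := h hv
    rwa [mem_Eig, one_smul] at this

/-- `E ∩ a⁻¹ E` for `E = Eig g c` -/
def Wsp (g : GLn n F) (c : F) (a : GLn n F) : Submodule F (Fin n → F) :=
  Eig g c ⊓ (Eig g c).comap (Matrix.toLin' (a : Matrix (Fin n) (Fin n) F))

theorem mem_Wsp (g : GLn n F) (c : F) (a : GLn n F) (v : Fin n → F) :
    v ∈ Wsp g c a ↔ v ∈ Eig g c ∧ (a : Matrix (Fin n) (Fin n) F) *ᵥ v ∈ Eig g c := by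
  unfold Wsp
  rw [Submodule.mem_inf, Submodule.mem_comap, Matrix.toLin'_apply]

/-- The abstract configuration: `Q = R Z` with `R` extraspecial absolutely irreducible,
`ζ` a primitive `r`-th root of unity generating the scalars of `Z(R)`. -/
structure Cfg (n : ℕ) (F : Type*) [Field F] (r : ℕ) (Q : Subgroup (GLn n F)) (ζ : Fˣ) : Prop where
  prime : r.Prime
  zeta_pow : ζ ^ r = 1
  zeta_ne : ζ ≠ 1
  scal_le : Zs n F ≤ Q
  comm : ∀ a ∈ Q, ∀ b ∈ Q, ∃ k : ℕ, a * b = sc n (ζ ^ k) * (b * a)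
  pow : ∀ a ∈ Q, a ^ r ∈ Zs n F
  centG : ∀ A : GLn n F, (∀ b ∈ Q, A * b = b * A) → A ∈ Zs n F

end Cfsg.Agent.S5877P
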