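import Mathlib
import Cfsg.Agent.Helper7.S2264FACS
import Cfsg.Agent.Helper14.S2264DEGONE

/-! S2262 piece LODD (helper29): in characteristic two `Lexp μ` is odd. -/

set_option autoImplicit false

namespace Cfsg.Agent.S2262P

open Polynomial
open Cfsg.Agent.S2264P
open scoped Classical

noncomputable section

namespace LODD

theorem odd_finset_lcm {α : Type*} (s : Finset α) (g : α → ℕ) (h : ∀ a ∈ s, Odd (g a)) :
    Odd (s.lcm g) := by
  induction s using Finset.induction_on with
  | empty => simp
  | insert a s ha ih =>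
    rw [Finset.lcm_insert]
    have h1 : Odd (g a) := h a (Finset.mem_insert_self _ _)
    have h2 : Odd (s.lcm g) := ih (fun b hb => h b (Finset.mem_insert_of_mem hb))
    rw [← Nat.not_even_iff_odd, even_iff_two_dvd] at h1 h2 ⊢
    intro h3
    have h4 : 2 ∣ g a * s.lcm g := h3.trans (Nat.lcm_dvd_mul _ _)
    rcases (Nat.Prime.dvd_mul Nat.prime_two).1 h4 with h5 | h5
    · exact h1 h5
    · exact h2 h5

end LODD

theorem Lexp_odd {F : Type*} [Field F] [Fintype F] {μ : F[X]} (hμ : μ.Monic)
    (h2 : (2 : F) = 0) : Odd (Lexp μ) := by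
  have hchar : CharP F 2 := CharTwo.of_one_ne_zero_of_two_eq_zero one_ne_zero h2
  have hq : Even (Fintype.card F) := by
    rw [Nat.even_iff]
    exact FiniteField.even_card_iff_char_two.1 (ringChar.eq F 2)
  have hqk : ∀ k : ℕ, 1 ≤ k → Even (Fintype.card F ^ k) := by
    intro k hk
    exact (Nat.even_pow' (by omega)).2 hq
  have hq2 : ∀ k : ℕ, 1 ≤ k → 2 ≤ Fintype.card F ^ k := by
    intro k hk
    calc 2 ≤ Fintype.card F := Fintype.one_lt_card
      _ = Fintype.card F ^ 1 := (pow_one _).symm
      _ ≤ Fintype.card F ^ k := Nat.pow_le_pow_right Fintype.card_pos hk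
  unfold Lexp
  apply LODD.odd_finset_lcm
  intro f hf
  obtain ⟨hirr, hmon, -⟩ := (mem_facs hμ.ne_zero).1 hf
  have hd1 : 1 ≤ f.natDegree := hirr.natDegree_pos
  unfold expo
  by_cases h1 : f = X - 1
  · rw [if_pos h1]; exact odd_one
  · rw [if_neg h1]
    have h1' : f ≠ X + 1 := by
      rw [X_add_one_eq_of_two_eq_zero h2]; exact h1
    rw [if_neg h1']
    by_cases hr : recip f = f
    · rw [if_pos hr]
      have hd2 : f.natDegree ≠ 1 := by
        intro hd
        rcases isUnip_of_natDegree_one hmon hd hr with h | h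
        · exact h1 h
        · exact h1' h
      exact (hqk (f.natDegree / 2) (by omega)).add_one
    · rw [if_neg hr]
      have he := hqk f.natDegree hd1
      have h2' := hq2 f.natDegree hd1
      obtain ⟨k, hk⟩ := he
      exact ⟨k - 1, by omega⟩

end

end Cfsg.Agent.S2262P
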