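import Mathlib
import Cfsg.Agent.Helper29.S2264Defs
import Cfsg.Agent.Helper15.S2264LNUM
import Cfsg.Agent.Helper14.S2264PARTITION
import Cfsg.Agent.Helper14.S2264DEGONE
import Cfsg.Agent.Helper21.S2264SELFREC
import Cfsg.Agent.Helper7.S2264FACS

/-! S2264 pieces LEXP + LUNIP (helper29, fallback copy): the bound on `Lexp μ`. -/

set_option autoImplicit false

namespace Cfsg.Agent.S2264P

open Polynomial
open scoped Classical

noncomputable section

variable {F : Type*} [Field F] [Fintype F]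

namespace LEXP

theorem expo_dvd_two {f : F[X]} (hf : IsUnip f) : expo f ∣ 2 := by
  unfold expo
  rcases hf with h | h
  · rw [if_pos h]; exact one_dvd _
  · by_cases h1 : f = X - 1
    · rw [if_pos h1]; exact one_dvd _
    · rw [if_neg h1, if_pos h]

theorem expo_eq_one_of_two {f : F[X]} (h2 : (2 : F) = 0) (hf : IsUnip f) : expo f = 1 := by
  have h1 : f = X - 1 := by
    rcases hf with h | h
    · exact h
    · rw [h, X_add_one_eq_of_two_eq_zero h2]
  unfold expo
  rw [if_pos h1]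

theorem expo_of_mem_Sm {μ f : F[X]} (hf : f ∈ Sm μ) :
    expo f = Fintype.card F ^ (f.natDegree / 2) + 1 := by
  unfold Sm at hf
  rw [Finset.mem_filter] at hf
  obtain ⟨-, hr, hu⟩ := hf
  have h1 : f ≠ X - 1 := fun h => hu (Or.inl h)
  have h2 : f ≠ X + 1 := fun h => hu (Or.inr h)
  unfold expo
  rw [if_neg h1, if_neg h2, if_pos hr]

theorem expo_of_mem_Sp {μ f : F[X]} (hf : f ∈ Sp μ) :
    expo f = Fintype.card F ^ f.natDegree - 1 := by
  unfold Sp at hf
  rw [Finset.mem_filter] at hf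
  obtain ⟨-, hr⟩ := hf
  have h1 : f ≠ X - 1 := fun h => hr (recip_of_isUnip (Or.inl h))
  have h2 : f ≠ X + 1 := fun h => hr (recip_of_isUnip (Or.inr h))
  unfold expo
  rw [if_neg h1, if_neg h2, if_neg hr]

theorem two_eq_zero_of_even (h : Even (Fintype.card F)) : (2 : F) = 0 := by
  have h1 : ringChar F = 2 := FiniteField.even_card_iff_char_two.2 (Nat.even_iff.1 h)
  have h2 : ((ringChar F : ℕ) : F) = 0 := ringChar.Nat.cast_ringChar
  rw [h1] at h2
  exact_mod_cast h2

end LEXP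

open LEXP in
theorem Lexp_unip {μ : F[X]} (h : Sm μ ∪ Sp μ = ∅) :
    Lexp μ ∣ 2 ∧ ((2 : F) = 0 → Lexp μ = 1) := by
  have h1 := facs_eq_union μ
  rw [h, Finset.union_empty] at h1
  have hu : ∀ f ∈ facs μ, IsUnip f := by
    intro f hf
    rw [h1] at hf
    exact (Finset.mem_filter.1 hf).2
  constructor
  · unfold Lexp
    apply Finset.lcm_dvd
    intro f hf
    exact expo_dvd_two (hu f hf)
  · intro h2
    have : Lexp μ ∣ 1 := by
      unfold Lexp
      apply Finset.lcm_dvd
      intro f hf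
      rw [expo_eq_one_of_two h2 (hu f hf)]
    exact Nat.dvd_one.1 this

open LEXP in
theorem Lexp_bound {μ : F[X]} (hμ : Good μ) (h : (Sm μ ∪ Sp μ).Nonempty) :
    (Fintype.card F - 1) * Lexp μ ≤ Fintype.card F ^ (Aw μ + 1) := by
  have hq : 2 ≤ Fintype.card F := Fintype.one_lt_card
  have hμ0 : μ ≠ 0 := hμ.monic.ne_zero
  set u := (Su μ).lcm expo with hu
  have hu2 : u ∣ 2 := by
    apply Finset.lcm_dvd
    intro f hf
    exact expo_dvd_two (Finset.mem_filter.1 hf).2
  have hu1 : Even (Fintype.card F) → u = 1 := by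
    intro he
    have h2 := two_eq_zero_of_even he
    have : u ∣ 1 := by
      apply Finset.lcm_dvd
      intro f hf
      rw [expo_eq_one_of_two h2 (Finset.mem_filter.1 hf).2]
    exact Nat.dvd_one.1 this
  have hDm : ∀ a ∈ Dm μ, 1 ≤ a := by
    intro a ha
    unfold Dm at ha
    rw [Finset.mem_image] at ha
    obtain ⟨f, hf, rfl⟩ := ha
    have hf' := hf
    unfold Sm at hf'
    rw [Finset.mem_filter] at hf'
    obtain ⟨hfac, hr, hnu⟩ := hf'
    obtain ⟨hirr, hmon, -⟩ := (mem_facs hμ0).1 hfac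
    have := (selfrec_even hirr hmon hr hnu).1
    omega
  have hDp : ∀ d ∈ Dp μ, 1 ≤ d := by
    intro d hd
    unfold Dp at hd
    rw [Finset.mem_image] at hd
    obtain ⟨f, hf, rfl⟩ := hd
    unfold Sp at hf
    rw [Finset.mem_filter] at hf
    obtain ⟨hirr, -, -⟩ := (mem_facs hμ0).1 hf.1
    exact hirr.natDegree_pos
  have hne : (Dm μ).Nonempty ∨ (Dp μ).Nonempty := by
    obtain ⟨f, hf⟩ := h
    rw [Finset.mem_union] at hf
    rcases hf with hf | hf
    · left; exact ⟨_, Finset.mem_image_of_mem _ hf⟩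
    · right; exact ⟨_, Finset.mem_image_of_mem _ hf⟩
  have key := lnum (Fintype.card F) hq (Dm μ) (Dp μ) hDm hDp hne u hu2 hu1
  have hdvd : Lexp μ ∣ Nat.lcm u (Nat.lcm ((Dm μ).lcm fun a => Fintype.card F ^ a + 1)
      ((Dp μ).lcm fun d => Fintype.card F ^ d - 1)) := by
    unfold Lexp
    apply Finset.lcm_dvd
    intro f hf
    rw [facs_eq_union, Finset.mem_union, Finset.mem_union] at hf
    rcases hf with hf | hf | hf
    · exact (Finset.dvd_lcm hf).trans (Nat.dvd_lcm_left _ _)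
    · rw [expo_of_mem_Sm hf]
      have h1 : f.natDegree / 2 ∈ Dm μ := Finset.mem_image_of_mem _ hf
      exact ((Finset.dvd_lcm (f := fun a => Fintype.card F ^ a + 1) h1).trans
        (Nat.dvd_lcm_left _ _)).trans (Nat.dvd_lcm_right _ _)
    · rw [expo_of_mem_Sp hf]
      have h1 : f.natDegree ∈ Dp μ := Finset.mem_image_of_mem _ hf
      exact ((Finset.dvd_lcm (f := fun d => Fintype.card F ^ d - 1) h1).trans
        (Nat.dvd_lcm_right _ _)).trans (Nat.dvd_lcm_right _ _)
  have hpos : 0 < Nat.lcm u (Nat.lcm ((Dm μ).lcm fun a => Fintype.card F ^ a + 1)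
      ((Dp μ).lcm fun d => Fintype.card F ^ d - 1)) := by
    apply Nat.lcm_pos
    · exact Nat.pos_of_dvd_of_pos hu2 (by norm_num)
    · exact Nat.lcm_pos (LNUM.lcm_pos_minus _ _) (LNUM.lcm_pos_plus _ hq _ hDp)
  calc (Fintype.card F - 1) * Lexp μ
      ≤ (Fintype.card F - 1) * Nat.lcm u (Nat.lcm ((Dm μ).lcm fun a => Fintype.card F ^ a + 1)
          ((Dp μ).lcm fun d => Fintype.card F ^ d - 1)) :=
        Nat.mul_le_mul_left _ (Nat.le_of_dvd hpos hdvd)
    _ ≤ Fintype.card F ^ ((Dm μ).sum id + (Dp μ).sum id + 1) := key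
    _ = Fintype.card F ^ (Aw μ + 1) := rfl

end

end Cfsg.Agent.S2264P
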