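import Mathlib
import Cfsg.Agent.Helper29.S2264Defs
import Cfsg.Agent.Helper7.S2264FACS
import Cfsg.Agent.Helper14.S2264EXPODVD
import Cfsg.Agent.Helper21.S2264DVD
import Cfsg.Agent.Helper26.S2264DEG
import Cfsg.Agent.Helper29.S2264LEXP
import Cfsg.Agent.Helper17.S2264NUMT
import Cfsg.Agent.Helper14.S2264PARTITION
import Cfsg.Agent.Helper17.S2264EXC

/-! S2264 + S2265: assembly of the polynomial part (helper29). -/

set_option autoImplicit false

namespace Cfsg.Agent.S2264P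

open Polynomial
open scoped Classical

noncomputable section

variable {F : Type*} [Field F] [Fintype F]

namespace POLY

theorem facs_nonempty {μ : F[X]} (hμ : μ.Monic) (hd1 : 1 ≤ μ.natDegree) : (facs μ).Nonempty := by
  by_contra hne
  rw [Finset.not_nonempty_iff_eq_empty] at hne
  have h := natDegree_eq_sum hμ
  rw [hne, Finset.sum_empty] at h
  omega

theorem irreducible_of_mem {μ f : F[X]} (hμ : μ.Monic) (hf : f ∈ facs μ) :
    Irreducible f ∧ f.Monic ∧ f ∣ μ := (mem_facs hμ.ne_zero).1 hf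

theorem natDegree_pos_of_mem {μ f : F[X]} (hμ : μ.Monic) (hf : f ∈ facs μ) : 1 ≤ f.natDegree :=
  (irreducible_of_mem hμ hf).1.natDegree_pos

theorem Lexp_pos {μ : F[X]} (hμ : μ.Monic) : 0 < Lexp μ := by
  rw [Nat.pos_iff_ne_zero]
  intro h0
  unfold Lexp at h0
  rw [Finset.lcm_eq_zero_iff] at h0
  obtain ⟨f, hf, hf0⟩ := h0
  have := expo_pos (natDegree_pos_of_mem hμ hf)
  omega

theorem mult_le_natDegree {μ f : F[X]} (hμ : μ.Monic) (hf : f ∈ facs μ) :
    mult μ f ≤ μ.natDegree := by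
  rw [natDegree_eq_sum hμ]
  calc mult μ f ≤ mult μ f * f.natDegree :=
        Nat.le_mul_of_pos_right _ (natDegree_pos_of_mem hμ hf)
    _ ≤ ∑ g ∈ facs μ, mult μ g * g.natDegree :=
        Finset.single_le_sum (f := fun g => mult μ g * g.natDegree) (fun _ _ => Nat.zero_le _) hf

end POLY

open POLY in
theorem exists_exponent (p : ℕ) [Fact p.Prime] [CharP F p] {μ : F[X]} (hμ : Good μ) (m : ℕ)
    (hm : 2 ≤ m) (hd1 : 1 ≤ μ.natDegree)
    (hdeg : μ.natDegree ≤ 2 * m ∨ (μ.natDegree ≤ 2 * m + 1 ∧ 3 ≤ m ∧ p ≠ 2)) :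
    (∃ N, 0 < N ∧ μ ∣ X ^ N - 1 ∧
        (Fintype.card F - 1) * N ≤ Fintype.card F ^ (m + 1)) ∨
      (Fintype.card F = 3 ∧ m = 2 ∧ μ = (X + 1) ^ 4) := by
  have hp : p.Prime := Fact.out
  obtain ⟨n, -, hq⟩ := FiniteField.card F p
  have hn1 : 1 ≤ (n : ℕ) := n.pos
  have hpq : p ≤ Fintype.card F := by
    rw [hq]
    calc p = p ^ 1 := (pow_one p).symm
      _ ≤ p ^ (n : ℕ) := Nat.pow_le_pow_right hp.pos hn1
  obtain ⟨f₀, hf₀, hsup⟩ := Finset.exists_mem_eq_sup (facs μ) (facs_nonempty hμ.monic hd1) (mult μ)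
  have hE : Emax μ = mult μ f₀ := hsup
  have hE1 : 1 ≤ Emax μ := hE ▸ mult_pos hf₀
  have hdvd := dvd_X_pow_sub_one p hμ
  have hNpos : 0 < p ^ Nat.clog p (Emax μ) * Lexp μ :=
    Nat.mul_pos (pow_pos hp.pos _) (Lexp_pos hμ.monic)
  have hdi := deg_ineq hμ hf₀
  by_cases ht : (Sm μ ∪ Sp μ).Nonempty
  · left
    refine ⟨_, hNpos, hdvd, ?_⟩
    have hL := Lexp_bound hμ ht
    have hAw : Aw μ ≤ m := by
      rcases hdeg with h | ⟨h, -, -⟩ <;> omega
    have hk : p ^ Nat.clog p (Emax μ) ≤ Fintype.card F ^ (m - Aw μ) := by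
      apply numt p _ _ _ hp hpq hE1
      by_cases hu : IsUnip f₀
      · rw [if_pos hu, ← hE] at hdi
        rcases hdeg with h | ⟨h, -, h2⟩
        · left; omega
        · right; left; exact ⟨by omega, h2⟩
      · rw [if_neg hu, ← hE] at hdi
        right; right
        rcases hdeg with h | ⟨h, -, -⟩ <;> omega
    calc (Fintype.card F - 1) * (p ^ Nat.clog p (Emax μ) * Lexp μ)
        = p ^ Nat.clog p (Emax μ) * ((Fintype.card F - 1) * Lexp μ) := by ring
      _ ≤ Fintype.card F ^ (m - Aw μ) * Fintype.card F ^ (Aw μ + 1) := Nat.mul_le_mul hk hL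
      _ = Fintype.card F ^ (m + 1) := by
          rw [← pow_add]
          congr 1
          omega
  · rw [Finset.not_nonempty_iff_eq_empty] at ht
    obtain ⟨hL2, hL1⟩ := Lexp_unip (μ := μ) ht
    have hu : IsUnip f₀ := by
      have h1 := facs_eq_union μ
      rw [ht, Finset.union_empty] at h1
      rw [h1] at hf₀
      exact (Finset.mem_filter.1 hf₀).2
    rw [if_pos hu, ← hE] at hdi
    by_cases hexc : Fintype.card F = 3 ∧ m = 2 ∧ Emax μ = 4 ∧ Lexp μ = 2
    · right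
      obtain ⟨h3, h2, h4, hl⟩ := hexc
      refine ⟨h3, h2, eq_of_exception hμ h3 ?_ h4 hl ht⟩
      rcases hdeg with h | ⟨h, h', -⟩ <;> omega
    · left
      refine ⟨_, hNpos, hdvd, ?_⟩
      apply numu p n _ m _ _ hp hq hn1 hm hE1 _ hL2 _ hexc
      · rcases hdeg with h | ⟨h, h3, h2⟩
        · left; omega
        · right; exact ⟨by omega, h3, h2⟩
      · intro hp2
        apply hL1
        have : CharP F 2 := hp2 ▸ (inferInstance : CharP F p)
        exact_mod_cast CharP.cast_eq_zero F 2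

end

end Cfsg.Agent.S2264P
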