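import Mathlib
import Cfsg.Agent.Helper29.S2264POLY
import Cfsg.Agent.Helper14.S2264DEGONE
import Cfsg.Agent.Helper29.S2262LODD
import Cfsg.Agent.Lead.S2262GNUMT
import Cfsg.Agent.Helper10.S2262UNUM

/-! S2262 piece GRAPHB (helper29): the sharper exponent bound for self-reciprocal polynomials. -/

set_option autoImplicit false

namespace Cfsg.Agent.S2262P

open Polynomial
open Cfsg.Agent.S2264P
open scoped Classical

noncomputable section

variable {F : Type*} [Field F] [Fintype F]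

namespace GRAPHB

open Cfsg.Agent.S2264P.POLY

theorem one_le_Aw {μ : F[X]} (hμ : μ.Monic) (h : (Sm μ ∪ Sp μ).Nonempty) : 1 ≤ Aw μ := by
  obtain ⟨f, hf⟩ := h
  unfold Aw
  rcases Finset.mem_union.1 hf with hm | hp
  · have hm' := hm
    unfold Sm at hm'
    rw [Finset.mem_filter] at hm'
    obtain ⟨hfac, hr, hu⟩ := hm'
    obtain ⟨hirr, hmon, -⟩ := irreducible_of_mem hμ hfac
    have h1 : 1 ≤ f.natDegree := hirr.natDegree_pos
    have h2 : f.natDegree ≠ 1 := fun h => hu (isUnip_of_natDegree_one hmon h hr)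
    have hmem : f.natDegree / 2 ∈ Dm μ := Finset.mem_image_of_mem _ hm
    have := Finset.single_le_sum (f := (id : ℕ → ℕ)) (fun _ _ => Nat.zero_le _) hmem
    simp only [id] at this ⊢
    omega
  · have hp' := hp
    unfold Sp at hp'
    rw [Finset.mem_filter] at hp'
    obtain ⟨hfac, -⟩ := hp'
    obtain ⟨hirr, -, -⟩ := irreducible_of_mem hμ hfac
    have h1 : 1 ≤ f.natDegree := hirr.natDegree_pos
    have hmem : f.natDegree ∈ Dp μ := Finset.mem_image_of_mem _ hp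
    have := Finset.single_le_sum (f := (id : ℕ → ℕ)) (fun _ _ => Nat.zero_le _) hmem
    simp only [id] at this ⊢
    omega

end GRAPHB

open GRAPHB Cfsg.Agent.S2264P.POLY in
theorem graph_bound {μ : F[X]} (hμ : Good μ) (d : ℕ)
    (hd : 3 ≤ d) (h1 : 1 ≤ μ.natDegree) (hdeg : μ.natDegree ≤ d)
    (hexc : ¬ (d = 3 ∧ Fintype.card F = 2)) :
    ∃ N₀, 1 ≤ N₀ ∧ μ ∣ X ^ N₀ - 1 ∧
      2 * (Fintype.card F - 1) * N₀ ≤ Fintype.card F ^ d - 1 := by
  obtain ⟨p, hchar⟩ := CharP.exists F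
  haveI := hchar
  have hp : p.Prime := CharP.char_is_prime F p
  haveI : Fact p.Prime := ⟨hp⟩
  obtain ⟨n, -, hq⟩ := FiniteField.card F p
  have hn1 : 1 ≤ (n : ℕ) := n.pos
  obtain ⟨f₀, hf₀, hsup⟩ := Finset.exists_mem_eq_sup (facs μ) (facs_nonempty hμ.monic h1) (mult μ)
  have hE : Emax μ = mult μ f₀ := hsup
  have hE1 : 1 ≤ Emax μ := hE ▸ mult_pos hf₀
  have hdvd := dvd_X_pow_sub_one p hμ
  have hNpos : 0 < p ^ Nat.clog p (Emax μ) * Lexp μ :=
    Nat.mul_pos (pow_pos hp.pos _) (Lexp_pos hμ.monic)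
  have hdi := deg_ineq hμ hf₀
  have h20 : p = 2 → (2 : F) = 0 := by
    intro hp2
    have : CharP F 2 := hp2 ▸ (inferInstance : CharP F p)
    exact_mod_cast CharP.cast_eq_zero F 2
  have hexc' : ¬ (d = 3 ∧ Fintype.card F = 2) := hexc
  refine ⟨_, hNpos, hdvd, ?_⟩
  by_cases ht : (Sm μ ∪ Sp μ).Nonempty
  · have hL := Lexp_bound hμ ht
    have hAw := one_le_Aw hμ.monic ht
    refine gnum_t p n _ d (Aw μ) (Emax μ) (Lexp μ)
      (if IsUnip f₀ then mult μ f₀ else 2 * (mult μ f₀ - 1)) hp hq hn1 hd hexc' hAw hE1 ?_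
      (hdi.trans hdeg) hL (fun hp2 => Lexp_odd hμ.monic (h20 hp2))
    by_cases hu : IsUnip f₀
    · rw [if_pos hu, hE]; exact Or.inl rfl
    · rw [if_neg hu, hE]; exact Or.inr rfl
  · rw [Finset.not_nonempty_iff_eq_empty] at ht
    obtain ⟨hL2, hL1⟩ := Lexp_unip (μ := μ) ht
    have hu : IsUnip f₀ := by
      have h1 := facs_eq_union μ
      rw [ht, Finset.union_empty] at h1
      rw [h1] at hf₀
      exact (Finset.mem_filter.1 hf₀).2
    rw [if_pos hu, ← hE] at hdi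
    exact gnum_u p n _ d (Emax μ) (Lexp μ) hp hq hn1 hd hexc' hE1 (by omega) hL2
      (fun hp2 => hL1 (h20 hp2))

end

end Cfsg.Agent.S2262P
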