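import Mathlib
import Cfsg.Agent.Helper7.FieldPSL8

/-! S2262 pieces NRM, PSISYM, PROJ (helper29). -/

set_option autoImplicit false

namespace Cfsg.Agent.S2262P

open Matrix
open Cfsg.Agent.Helper7.GraphPSL Cfsg.Agent.Helper7.AutPSL Cfsg.Agent.Helper7.FieldPSL

noncomputable section

variable {F : Type*} [Field F] {n : ℕ}

/-- NRM. -/
theorem sGL_nrmGL (σ : F ≃+* F) (g : GL (Fin n) F) (e : ℕ) (he : σ ^ e = 1) :
    sGL σ (nrmGL σ g e) = g⁻¹ * nrmGL σ g e * g := by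
  have h1 : nrmGL σ g (e + 1) = g * sGL σ (nrmGL σ g e) := rfl
  have h2 : nrmGL σ g (e + 1) = nrmGL σ g e * g := by
    apply Units.ext
    rw [Units.val_mul, nrmGL_coe, nrmGL_coe, nrmM_succ', he]
    congr 1
  rw [h2] at h1
  rw [mul_assoc, h1, ← mul_assoc, inv_mul_cancel, one_mul]

namespace GRP

theorem sGL_invTGL (σ : F ≃+* F) (g : GL (Fin n) F) : sGL σ (invTGL g) = invTGL (sGL σ g) := by
  apply Units.ext
  rw [sGL_coe, invTGL_coe, invTGL_coe, ← map_inv, sGL_coe, Matrix.transpose_map]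

theorem sGL_sGL (σ τ : F ≃+* F) (g : GL (Fin n) F) : sGL σ (sGL τ g) = sGL (σ * τ) g := by
  apply Units.ext
  rw [sGL_coe, sGL_coe, sGL_coe]
  ext a b
  rfl

theorem sGL_one (g : GL (Fin n) F) : sGL (1 : F ≃+* F) g = g := by
  apply Units.ext
  rw [sGL_coe]
  ext a b
  rfl

theorem starGL_starGL (σ : F ≃+* F) (hσ : σ * σ = 1) (g : GL (Fin n) F) :
    starGL σ (starGL σ g) = g := by
  show sGL σ (invTGL (sGL σ (invTGL g))) = g
  rw [← sGL_invTGL, invTGL_invTGL, sGL_sGL, hσ, sGL_one]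

end GRP

/-- PSISYM. -/
theorem starGL_mul_starGL (σ : F ≃+* F) (hσ : σ * σ = 1) (g : GL (Fin n) F) :
    starGL σ (g * starGL σ g) = g⁻¹ * (g * starGL σ g) * g := by
  rw [map_mul, GRP.starGL_starGL σ hσ]
  group

/-- PROJ. -/
theorem cGL_pow_eq_one (N : GL (Fin n) F) (M : ℕ) (c : F) (hc : c ≠ 0)
    (h : (N : Matrix (Fin n) (Fin n) F) ^ M = c • (1 : Matrix (Fin n) (Fin n) F)) :
    (cGL N : MulAut (Matrix.ProjectiveSpecialLinearGroup (Fin n) F)) ^ M = 1 := by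
  rw [← map_pow, ← MonoidHom.mem_ker, ker_cGL, Cfsg.Geo.mem_scalars_iff]
  exact ⟨Units.mk0 c hc, by rw [Units.val_pow_eq_pow_val, h]; rfl⟩

end

end Cfsg.Agent.S2262P
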