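import Mathlib
import Cfsg.Agent.Helper21.S2264MINREV

/-! S2262 pieces MINTR, MININV (helper29). -/

set_option autoImplicit false

namespace Cfsg.Agent.S2262P

open Polynomial Matrix
open Cfsg.Agent.S2264P

noncomputable section

variable {F : Type*} [Field F]

/-- MINTR. -/
theorem minpoly_transpose' {ι : Type*} [Fintype ι] [DecidableEq ι] (A : Matrix ι ι F) :
    minpoly F A.transpose = minpoly F A := by
  have key : ∀ B : Matrix ι ι F, minpoly F B.transpose ∣ minpoly F B := by
    intro B
    apply minpoly.dvd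
    rw [MINREV.aeval_transpose, minpoly.aeval, Matrix.transpose_zero]
  have h1 := key A
  have h2 := key A.transpose
  rw [Matrix.transpose_transpose] at h2
  exact Polynomial.eq_of_monic_of_associated (minpoly.monic (Matrix.isIntegral _))
    (minpoly.monic (Matrix.isIntegral _)) (associated_of_dvd_dvd h1 h2)

namespace MININV

theorem coeff_zero_ne {ι : Type*} [Fintype ι] [DecidableEq ι] (N : GL ι F) :
    (minpoly F (N : Matrix ι ι F)).coeff 0 ≠ 0 := by
  have hint : IsIntegral F (N : Matrix ι ι F) := Matrix.isIntegral _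
  have hne : minpoly F (N : Matrix ι ι F) ≠ 0 := (minpoly.monic hint).ne_zero
  intro hc
  obtain ⟨g, hg⟩ := Polynomial.X_dvd_iff.mpr hc
  have hg0 : g ≠ 0 := by
    rintro rfl
    rw [mul_zero] at hg
    exact hne hg
  have h1 : aeval (N : Matrix ι ι F) (minpoly F (N : Matrix ι ι F)) = 0 := minpoly.aeval F _
  rw [hg, map_mul, Polynomial.aeval_X] at h1
  have h2 : aeval (N : Matrix ι ι F) g = 0 := by
    have := congrArg (fun M => ((N⁻¹ : GL ι F) : Matrix ι ι F) * M) h1
    simpa [← mul_assoc, ← Units.val_mul] using this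
  have h3 : minpoly F (N : Matrix ι ι F) ∣ g := minpoly.dvd F _ h2
  have h4 := Polynomial.natDegree_le_of_dvd h3 hg0
  rw [hg, Polynomial.natDegree_X_mul hg0] at h4
  omega

theorem dvd_recip {ι : Type*} [Fintype ι] [DecidableEq ι] (N : GL ι F) :
    minpoly F ((N⁻¹ : GL ι F) : Matrix ι ι F) ∣ recip (minpoly F (N : Matrix ι ι F)) := by
  apply minpoly.dvd
  exact aeval_inv_recip (R := Matrix ι ι F) (coeff_zero_ne N) N (minpoly.aeval F _)

end MININV

/-- MININV. -/
theorem minpoly_inv {ι : Type*} [Fintype ι] [DecidableEq ι] (N : GL ι F) :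
    (minpoly F (N : Matrix ι ι F)).coeff 0 ≠ 0 ∧
      minpoly F ((N⁻¹ : GL ι F) : Matrix ι ι F) = recip (minpoly F (N : Matrix ι ι F)) := by
  refine ⟨MININV.coeff_zero_ne N, ?_⟩
  have h0 := MININV.coeff_zero_ne N
  have h0' := MININV.coeff_zero_ne N⁻¹
  have h1 := MININV.dvd_recip N
  have h2 := MININV.dvd_recip N⁻¹
  rw [inv_inv] at h2
  have hm : (minpoly F (N : Matrix ι ι F)).Monic := minpoly.monic (Matrix.isIntegral _)
  have hm' : (minpoly F ((N⁻¹ : GL ι F) : Matrix ι ι F)).Monic :=
    minpoly.monic (Matrix.isIntegral _)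
  have hd1 := Polynomial.natDegree_le_of_dvd h1 (recip_monic h0).ne_zero
  have hd2 := Polynomial.natDegree_le_of_dvd h2 (recip_monic h0').ne_zero
  rw [natDegree_recip h0] at hd1
  rw [natDegree_recip h0'] at hd2
  exact (Polynomial.eq_of_monic_of_dvd_of_natDegree_le hm' (recip_monic h0) h1
    (by rw [natDegree_recip h0]; exact hd2)).symm

end

end Cfsg.Agent.S2262P
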