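import Mathlib
import Cfsg.Agent.Helper29.S2262MINV
import Cfsg.Agent.Helper7.FieldPSL8
import Cfsg.Agent.Helper28.S2262RECIPMAP
import Cfsg.Agent.Helper28.S2262MINMAP
import Cfsg.Agent.Helper28.S2262MINCONJ

/-! S2262 piece MINSYM (helper29). -/

set_option autoImplicit false

namespace Cfsg.Agent.S2262P

open Polynomial Matrix
open Cfsg.Agent.S2264P
open Cfsg.Agent.Helper7.GraphPSL Cfsg.Agent.Helper7.AutPSL Cfsg.Agent.Helper7.FieldPSL

noncomputable section

variable {F : Type*} [Field F]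

variable {n : ℕ}

/-- MINSYM, first half. -/
theorem minpoly_of_sGL_conj (σ : F ≃+* F) (N h : GL (Fin n) F) (hc : sGL σ N = h⁻¹ * N * h) :
    (minpoly F (N : Matrix (Fin n) (Fin n) F)).map (σ : F →+* F)
      = minpoly F (N : Matrix (Fin n) (Fin n) F) := by
  rw [← minpoly_map_ringEquiv, ← sGL_coe, hc, Units.val_mul, Units.val_mul, minpoly_conj]

/-- MINSYM, second half. -/
theorem minpoly_of_starGL_conj (σ : F ≃+* F) (N h : GL (Fin n) F)
    (hc : starGL σ N = h⁻¹ * N * h) :
    recip ((minpoly F (N : Matrix (Fin n) (Fin n) F)).map (σ : F →+* F))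
      = minpoly F (N : Matrix (Fin n) (Fin n) F) := by
  have h1 : ((starGL σ N : GL (Fin n) F) : Matrix (Fin n) (Fin n) F)
      = (((N⁻¹ : GL (Fin n) F) : Matrix (Fin n) (Fin n) F).transpose).map σ := by
    show ((sGL σ (invTGL N) : GL (Fin n) F) : Matrix (Fin n) (Fin n) F) = _
    rw [sGL_coe, invTGL_coe]
  rw [recip_map, ← (minpoly_inv N).2, ← minpoly_transpose', ← minpoly_map_ringEquiv, ← h1, hc,
    Units.val_mul, Units.val_mul, minpoly_conj]

end

end Cfsg.Agent.S2262P
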