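import Mathlib
import Cfsg.Agent.Helper9.S2262SUBF
import Cfsg.Agent.Lead.S2262FIXF
import Cfsg.Agent.Helper28.S2262DESCP

/-! S2262 piece SUBFB (helper29): a scalar exponent for a monic polynomial fixed by `σ`. -/

set_option autoImplicit false

namespace Cfsg.Agent.S2262P

open Polynomial

noncomputable section

theorem exists_scalar_exponent_of_fixed {F : Type*} [Field F] [Fintype F] {p f : ℕ}
    [Fact p.Prime] (hf : 1 ≤ f) (hF : Fintype.card F = p ^ f) (σ : F ≃+* F) {μ : F[X]}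
    (hm : μ.Monic) (h0 : μ.coeff 0 ≠ 0) (h1 : 1 ≤ μ.natDegree)
    (hσ : μ.map (σ : F →+* F) = μ) :
    orderOf σ ∣ f ∧ ∃ (M : ℕ) (c : F), 1 ≤ M ∧ c ≠ 0 ∧ μ ∣ X ^ M - C c ∧
      (p ^ (f / orderOf σ) - 1) * M ≤ (p ^ (f / orderOf σ)) ^ μ.natDegree - 1 := by
  obtain ⟨hdvd, K, _, _, j, hK, -, hjsurj⟩ := exists_fixed_field hf hF σ
  refine ⟨hdvd, ?_⟩
  obtain ⟨μ₀, hμ₀⟩ := exists_poly_descent σ j hjsurj hσ
  have hm₀ : μ₀.Monic := Polynomial.monic_of_injective j.injective (by rw [hμ₀]; exact hm)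
  have h0₀ : μ₀.coeff 0 ≠ 0 := by
    intro h
    apply h0
    rw [← hμ₀, Polynomial.coeff_map, h, map_zero]
  have hdeg : μ₀.natDegree = μ.natDegree := by
    rw [← hμ₀, Polynomial.natDegree_map]
  obtain ⟨M, c, hM1, hc, hdiv, hb⟩ := exists_scalar_exponent hm₀ h0₀ (by omega)
  refine ⟨M, j c, hM1, ?_, ?_, ?_⟩
  · exact (map_ne_zero j).2 hc
  · have := Polynomial.map_dvd j hdiv
    rw [hμ₀] at this
    simpa using this
  · rw [hK, hdeg] at hb
    exact hb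

end

end Cfsg.Agent.S2262P
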