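import Mathlib
import Cfsg.Agent.Helper7.S2264FACS
import Cfsg.Agent.Helper19.S2264RECIP1
import Cfsg.Agent.Helper11.S2262USELF
import Cfsg.Agent.Lead.S2262SIGFROB
import Cfsg.Agent.Helper29.S2262UREV

/-! S2262 piece U34IRR (helper29): over `GF(4)`, a factor of a `†`-stable polynomial of degree
`≤ 3` is linear, or the polynomial is an irreducible cubic dividing `X^9 - 1`. -/

set_option autoImplicit false

namespace Cfsg.Agent.S2262P

open Polynomial
open Cfsg.Agent.S2264P

noncomputable section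

theorem u34_irr {F : Type*} [Field F] [Fintype F] (hF : Fintype.card F = 4) (σ : F ≃+* F)
    (hσ : orderOf σ = 2) {μ : F[X]} (hm : μ.Monic) (h0 : μ.coeff 0 ≠ 0)
    (hμ : recip (μ.map (σ : F →+* F)) = μ) (hdeg : μ.natDegree ≤ 3) {f : F[X]}
    (hf : f ∈ facs μ) : f.natDegree = 1 ∨ μ ∣ X ^ 9 - 1 := by
  have hμ0 : μ ≠ 0 := hm.ne_zero
  obtain ⟨hirr, hfm, hfdvd⟩ := (mem_facs hμ0).1 hf
  have hg : recip (f.map (σ : F →+* F)) ∈ facs μ := urev_mem_facs σ hm h0 hμ hf
  have hd1 : 1 ≤ f.natDegree := hirr.natDegree_pos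
  have hfle : f.natDegree ≤ μ.natDegree := Polynomial.natDegree_le_of_dvd hfdvd hμ0
  have hF' : Fintype.card F = 2 ^ 2 := by rw [hF]; norm_num
  by_cases hgf : recip (f.map (σ : F →+* F)) = f
  · have hσx : ∀ x, σ x = x ^ 2 := sigma_eq_frob hF' σ hσ
    obtain ⟨hodd, hdvd⟩ := uselfrec_odd hF' σ hσx hirr hfm hgf
    have h13 : f.natDegree = 1 ∨ f.natDegree = 3 := by
      obtain ⟨k, hk⟩ := hodd
      omega
    rcases h13 with h | h
    · exact Or.inl h
    · right
      have hμf : μ = f :=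
        Polynomial.eq_of_monic_of_dvd_of_natDegree_le hfm hm hfdvd (by omega)
      rw [h] at hdvd
      rw [hμf]
      exact hdvd
  · left
    have hcop := facs_coprime hf hg (Ne.symm hgf)
    have hgdvd := ((mem_facs hμ0).1 hg).2.2
    have hmul : f * recip (f.map (σ : F →+* F)) ∣ μ := hcop.mul_dvd hfdvd hgdvd
    have hf0 : (f.map (σ : F →+* F)).coeff 0 ≠ 0 := by
      rw [Polynomial.coeff_map]
      intro h
      exact coeff_zero_ne_zero_of_mem_facs h0 hf
        ((map_eq_zero_iff (σ : F →+* F) σ.injective).1 h)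
    have hgdeg : (recip (f.map (σ : F →+* F))).natDegree = f.natDegree := by
      rw [natDegree_recip hf0, Polynomial.natDegree_map_eq_of_injective σ.injective]
    have hgne : recip (f.map (σ : F →+* F)) ≠ 0 := (recip_monic hf0).ne_zero
    have := Polynomial.natDegree_le_of_dvd hmul hμ0
    rw [Polynomial.natDegree_mul hfm.ne_zero hgne, hgdeg] at this
    omega

end

end Cfsg.Agent.S2262P
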