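import Mathlib
import Cfsg.Agent.Helper7.S2264FACS

/-! S2262 piece U34LIN (helper29, fallback copy): polynomials over `GF(4)` of degree `≤ 3` all of
whose irreducible factors are linear. -/

set_option autoImplicit false

namespace Cfsg.Agent.S2262P

open Polynomial
open Cfsg.Agent.S2264P

noncomputable section

theorem u34_linear {F : Type*} [Field F] [Fintype F] (hF : Fintype.card F = 4) {μ : F[X]}
    (hm : μ.Monic) (h0 : μ.coeff 0 ≠ 0) (hdeg : μ.natDegree ≤ 3)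
    (hlin : ∀ f ∈ facs μ, f.natDegree = 1) :
    ∃ (M : ℕ) (c : F), 1 ≤ M ∧ M ≤ 10 ∧ c ≠ 0 ∧ μ ∣ X ^ M - C c := by
  classical
  have hμ0 : μ ≠ 0 := hm.ne_zero
  haveI : Fact (Nat.Prime 2) := ⟨Nat.prime_two⟩
  haveI : CharP F 2 := charP_of_card_eq_prime_pow (p := 2) (f := 2) (by rw [hF]; norm_num)
  have h2F : (2 : F) = 0 := by exact_mod_cast CharP.cast_eq_zero F 2
  have h2 : (2 : F[X]) = 0 := by
    have : (2 : F[X]) = C (2 : F) := (C_ofNat 2).symm
    rw [this, h2F, C_0]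
  have hcube : ∀ a : F, a ≠ 0 → a ^ 3 = 1 := by
    intro a ha
    have := FiniteField.pow_card_sub_one_eq_one a ha
    rwa [hF] at this
  -- the shape of a factor
  have hshape : ∀ f ∈ facs μ, ∃ a : F, a ≠ 0 ∧ f = X - C a := by
    intro f hf
    obtain ⟨-, hfm, -⟩ := (mem_facs hμ0).1 hf
    have h1 := hfm.eq_X_add_C (hlin f hf)
    refine ⟨-(f.coeff 0), neg_ne_zero.2 (coeff_zero_ne_zero_of_mem_facs h0 hf), ?_⟩
    rw [C_neg, sub_neg_eq_add]
    exact h1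
  by_cases hcase : ∀ f ∈ facs μ, mult μ f ≤ 2
  · refine ⟨6, 1, by norm_num, by norm_num, one_ne_zero, ?_⟩
    rw [← prod_facs hm, C_1]
    apply Finset.prod_dvd_of_coprime
    · intro f hf g hg hne
      exact IsCoprime.pow (facs_coprime hf hg hne)
    · intro f hf
      obtain ⟨a, ha, rfl⟩ := hshape f hf
      have h3 : (X - C a : F[X]) ∣ X ^ 3 - 1 := by
        have := sub_dvd_pow_sub_pow (X : F[X]) (C a) 3
        rwa [← C_pow, hcube a ha, C_1] at this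
      have h6 : (X ^ 3 - 1 : F[X]) ^ 2 = X ^ 6 - 1 := by
        linear_combination (1 - X ^ 3) * h2
      calc (X - C a : F[X]) ^ mult μ (X - C a) ∣ (X - C a) ^ 2 := pow_dvd_pow _ (hcase _ hf)
        _ ∣ (X ^ 3 - 1) ^ 2 := pow_dvd_pow_of_dvd h3 2
        _ = X ^ 6 - 1 := h6
  · push Not at hcase
    obtain ⟨f₀, hf₀, hmult⟩ := hcase
    obtain ⟨hirr, hfm, -⟩ := (mem_facs hμ0).1 hf₀
    obtain ⟨a, ha, hfa⟩ := hshape f₀ hf₀
    have hpow : f₀ ^ 3 ∣ μ := (pow_dvd_iff_le_mult hμ0 hirr hfm 3).2 (by omega)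
    have hμeq : μ = f₀ ^ 3 := by
      apply Polynomial.eq_of_monic_of_dvd_of_natDegree_le (hfm.pow 3) hm hpow
      rw [hfm.natDegree_pow, hlin f₀ hf₀]
      omega
    refine ⟨4, a ^ 4, by norm_num, by norm_num, pow_ne_zero _ ha, ?_⟩
    have h4 : (X - C a : F[X]) ^ 4 = X ^ 4 - C (a ^ 4) := by
      rw [C_pow]
      linear_combination
        (-2 * X ^ 3 * C a + 3 * X ^ 2 * (C a) ^ 2 - 2 * X * (C a) ^ 3 + (C a) ^ 4) * h2
    rw [hμeq, hfa, ← h4]
    exact pow_dvd_pow _ (by norm_num)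

end

end Cfsg.Agent.S2262P
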