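import Mathlib
import Cfsg.Agent.Helper29.S2262U34LIN
import Cfsg.Agent.Helper29.S2262U34IRR

/-! S2262 piece U34 (helper29): glue of U34LIN and U34IRR. -/

set_option autoImplicit false

namespace Cfsg.Agent.S2262P

open Polynomial
open Cfsg.Agent.S2264P

noncomputable section

theorem u34_bound {F : Type*} [Field F] [Fintype F] (hF : Fintype.card F = 4) (σ : F ≃+* F)
    (hσ : orderOf σ = 2) {μ : F[X]} (hm : μ.Monic) (h0 : μ.coeff 0 ≠ 0)
    (hμ : recip (μ.map (σ : F →+* F)) = μ) (h1 : 1 ≤ μ.natDegree) (hdeg : μ.natDegree ≤ 3) :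
    ∃ (M : ℕ) (c : F), 1 ≤ M ∧ M ≤ 10 ∧ c ≠ 0 ∧ μ ∣ X ^ M - C c := by
  by_cases hlin : ∀ f ∈ facs μ, f.natDegree = 1
  · exact u34_linear hF hm h0 hdeg hlin
  · push Not at hlin
    obtain ⟨f, hf, hfd⟩ := hlin
    rcases u34_irr hF σ hσ hm h0 hμ hdeg hf with h | h
    · exact absurd h hfd
    · exact ⟨9, 1, by norm_num, by norm_num, one_ne_zero, by simpa using h⟩

end

end Cfsg.Agent.S2262P
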