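import Mathlib
import Cfsg.Agent.Helper19.S2264RECIP1
import Cfsg.Agent.Helper28.S2262RECIPMAP

/-! S2262 pieces GOODDESC, UNU (helper29). -/

set_option autoImplicit false

namespace Cfsg.Agent.S2262P

open Polynomial
open Cfsg.Agent.S2264P

noncomputable section

/-- GOODDESC. -/
theorem good_of_map {K F : Type*} [Field K] [Field F] (j : K →+* F) {ν₀ : K[X]}
    (h : Good (ν₀.map j)) : Good ν₀ := by
  refine ⟨Polynomial.monic_of_injective j.injective h.monic, ?_, ?_⟩
  · intro h0
    apply h.coeff0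
    rw [Polynomial.coeff_map, h0, map_zero]
  · have := h.selfrec
    rw [recip_map] at this
    exact Polynomial.map_injective j j.injective this

/-- UNU. -/
theorem unitary_norm {F : Type*} [Field F] (σ : F ≃+* F) (hσ : σ * σ = 1) {μ : F[X]}
    (hm : μ.Monic) (h0 : μ.coeff 0 ≠ 0) (hμ : recip (μ.map (σ : F →+* F)) = μ) :
    (μ * μ.map (σ : F →+* F)).map (σ : F →+* F) = μ * μ.map (σ : F →+* F) ∧
      Good (μ * μ.map (σ : F →+* F)) ∧
      (μ * μ.map (σ : F →+* F)).natDegree = 2 * μ.natDegree := by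
  have hmm : (μ.map (σ : F →+* F)).Monic := hm.map _
  have h0m : (μ.map (σ : F →+* F)).coeff 0 ≠ 0 := by
    rw [Polynomial.coeff_map]
    intro h
    exact h0 ((map_eq_zero_iff (σ : F →+* F) σ.injective).1 h)
  have hss : (μ.map (σ : F →+* F)).map (σ : F →+* F) = μ := by
    rw [Polynomial.map_map]
    have : (σ : F →+* F).comp (σ : F →+* F) = RingHom.id F := by
      ext x
      show σ (σ x) = x
      have := congrArg (fun τ : F ≃+* F => τ x) hσ
      exact this
    rw [this, Polynomial.map_id]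
  have hr : recip μ = μ.map (σ : F →+* F) := by
    nth_rewrite 1 [← hμ]
    exact recip_recip hmm h0m
  refine ⟨?_, ⟨hm.mul hmm, ?_, ?_⟩, ?_⟩
  · rw [Polynomial.map_mul, hss, mul_comm]
  · rw [Polynomial.mul_coeff_zero]
    exact mul_ne_zero h0 h0m
  · rw [recip_mul, hμ, hr, mul_comm]
  · rw [Polynomial.natDegree_mul hm.ne_zero hmm.ne_zero,
      Polynomial.natDegree_map_eq_of_injective σ.injective]
    ring

end

end Cfsg.Agent.S2262P
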