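import Mathlib
import Cfsg.Agent.Helper29.S2264POLY
import Cfsg.Agent.Helper29.S2262UNU
import Cfsg.Agent.Lead.S2262FIXF
import Cfsg.Agent.Helper28.S2262DESCP
import Cfsg.Agent.Helper10.S2262UNUM

/-! S2262 piece UNITB (helper29): the exponent bound in the unitary (graph-field, order 2) case. -/

set_option autoImplicit false

namespace Cfsg.Agent.S2262P

open Polynomial
open Cfsg.Agent.S2264P

noncomputable section

theorem unit_bound {F : Type*} [Field F] [Fintype F] {p f : ℕ} [Fact p.Prime] (hf : 1 ≤ f)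
    (hF : Fintype.card F = p ^ f) (σ : F ≃+* F) (hσ : orderOf σ = 2) {μ : F[X]} (hm : μ.Monic)
    (h0 : μ.coeff 0 ≠ 0) (hμ : recip (μ.map (σ : F →+* F)) = μ) (d : ℕ) (hd : 3 ≤ d)
    (h1 : 1 ≤ μ.natDegree) (hdeg : μ.natDegree ≤ d)
    (hexc : ¬ (d = 3 ∧ Fintype.card F = 4)) :
    ∃ N₀, 1 ≤ N₀ ∧ μ ∣ X ^ N₀ - 1 ∧
      2 * (Fintype.card F - 1) * N₀ ≤ Fintype.card F ^ d - 1 := by
  have hp : p.Prime := Fact.out
  have hσσ : σ * σ = 1 := by rw [← pow_two, ← hσ, pow_orderOf_eq_one]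
  obtain ⟨hνσ, hνG, hνdeg⟩ := unitary_norm σ hσσ hm h0 hμ
  obtain ⟨h2f, K, _, _, j, hK, hjfix, hjsurj⟩ := exists_fixed_field hf hF σ
  rw [hσ] at h2f hK
  obtain ⟨ν₀, hν₀⟩ := exists_poly_descent σ j hjsurj hνσ
  have hG₀ : Good ν₀ := good_of_map j (by rw [hν₀]; exact hνG)
  have hdeg₀ : ν₀.natDegree = 2 * μ.natDegree := by
    rw [← hνdeg, ← hν₀, Polynomial.natDegree_map]
  have hf2 : 1 ≤ f / 2 := by
    obtain ⟨k, hk⟩ := h2f
    omega
  haveI : CharP K p := charP_of_card_eq_prime_pow hK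
  rcases exists_exponent p hG₀ d (by omega) (by omega) (Or.inl (by omega)) with
    ⟨N, hNpos, hNdvd, hNb⟩ | ⟨-, h2, -⟩
  · refine ⟨N, hNpos, ?_, ?_⟩
    · have h1 : μ ∣ ν₀.map j := by rw [hν₀]; exact dvd_mul_right _ _
      have h2 : ν₀.map j ∣ (X ^ N - 1 : K[X]).map j := Polynomial.map_dvd j hNdvd
      have h3 : (X ^ N - 1 : K[X]).map j = X ^ N - 1 := by simp
      rw [h3] at h2
      exact h1.trans h2
    · rw [hK] at hNb
      have := unum p f d N hp hf h2f hd (by rwa [← hF]) hNb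
      rwa [← hF] at this
  · omega

end

end Cfsg.Agent.S2262P
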