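import Mathlib
import Cfsg.Agent.Helper7.AutPSL13
import Cfsg.Agent.Helper7.AutPSL18
import Cfsg.Agent.Helper7.FieldPSL8
import Cfsg.Agent.Helper29.S2262GRP
import Cfsg.Agent.Helper29.S2262MINV
import Cfsg.Agent.Helper29.S2262MINSYM
import Cfsg.Agent.Helper29.S2262SUBFB
import Cfsg.Agent.Helper9.S2262ARI1
import Cfsg.Agent.Helper9.S2262ARI2
import Cfsg.Agent.Helper29.S2262GRAPHB
import Cfsg.Agent.Helper29.S2262UNITB
import Cfsg.Agent.Helper29.S2262U34

/-! S2262 assembly (driver helper29): TYPE1, TYPE2, MAIN. -/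

set_option autoImplicit false

namespace Cfsg.Agent.S2262P

open Polynomial Matrix
open Cfsg.Agent.S2264P
open Cfsg.Agent.Helper7.GraphPSL Cfsg.Agent.Helper7.AutPSL Cfsg.Agent.Helper7.FieldPSL

noncomputable section

namespace ASM

variable {F : Type*} [Field F] {n : ℕ}

/-- basic facts on the minimal polynomial of an invertible matrix -/
theorem minpoly_basic (hn : 1 ≤ n) (N : GL (Fin n) F) :
    (minpoly F (N : Matrix (Fin n) (Fin n) F)).Monic ∧
      1 ≤ (minpoly F (N : Matrix (Fin n) (Fin n) F)).natDegree ∧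
      (minpoly F (N : Matrix (Fin n) (Fin n) F)).natDegree ≤ n := by
  have hint : IsIntegral F (N : Matrix (Fin n) (Fin n) F) := Matrix.isIntegral _
  haveI : Nonempty (Fin n) := ⟨⟨0, by omega⟩⟩
  haveI : Nontrivial (Matrix (Fin n) (Fin n) F) := inferInstance
  refine ⟨minpoly.monic hint, minpoly.natDegree_pos hint, ?_⟩
  have hdvd := Matrix.minpoly_dvd_charpoly (N : Matrix (Fin n) (Fin n) F)
  have hne : (N : Matrix (Fin n) (Fin n) F).charpoly ≠ 0 :=
    (Matrix.charpoly_monic _).ne_zero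
  have := Polynomial.natDegree_le_of_dvd hdvd hne
  rwa [Matrix.charpoly_natDegree_eq_dim, Fintype.card_fin] at this

/-- from `μ ∣ X ^ M - C c` to `N ^ M = c • 1` -/
theorem pow_eq_smul_of_dvd (N : Matrix (Fin n) (Fin n) F) (M : ℕ) (c : F)
    (h : minpoly F N ∣ X ^ M - C c) : N ^ M = c • (1 : Matrix (Fin n) (Fin n) F) := by
  have h0 : Polynomial.aeval N (X ^ M - C c) = 0 := by
    obtain ⟨r, hr⟩ := h
    rw [hr, map_mul, minpoly.aeval, zero_mul]
  rw [map_sub, map_pow, Polynomial.aeval_X, Polynomial.aeval_C, sub_eq_zero] at h0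
  rw [h0, Algebra.algebraMap_eq_smul_one]

end ASM

open ASM

variable {F : Type*} [Field F] [Fintype F] {n : ℕ}

/-- TYPE1 (refined): the field coset. -/
theorem type_one {p f : ℕ} [Fact p.Prime] (hf : 1 ≤ f) (hF : Fintype.card F = p ^ f)
    (hn : 1 ≤ n) (g : GL (Fin n) F) (σ : F ≃+* F) :
    orderOf σ ∣ f ∧ ∃ M, 1 ≤ M ∧
      (p ^ (f / orderOf σ) - 1) * M ≤ (p ^ (f / orderOf σ)) ^ n - 1 ∧
      (cGL g * fieldPSL σ : MulAut (Matrix.ProjectiveSpecialLinearGroup (Fin n) F))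
        ^ (orderOf σ * M) = 1 := by
  have hN := sGL_nrmGL σ g (orderOf σ) (pow_orderOf_eq_one σ)
  have hμσ := minpoly_of_sGL_conj σ _ g hN
  obtain ⟨hm, h1, hdeg⟩ := minpoly_basic hn (nrmGL σ g (orderOf σ))
  have h0 := (minpoly_inv (nrmGL σ g (orderOf σ))).1
  obtain ⟨hdvd, M, c, hM1, hc, hdiv, hb⟩ :=
    exists_scalar_exponent_of_fixed hf hF σ hm h0 h1 hμσ
  refine ⟨hdvd, M, hM1, ?_, ?_⟩
  · refine hb.trans (Nat.sub_le_sub_right (Nat.pow_le_pow_right ?_ hdeg) 1)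
    exact Nat.pow_pos (Fact.out : p.Prime).pos
  · have hpow := pow_eq_smul_of_dvd _ M c hdiv
    have hproj := cGL_pow_eq_one (nrmGL σ g (orderOf σ)) M c hc hpow
    rw [pow_mul, cGL_mul_fieldPSL_pow, pow_orderOf_eq_one, fieldPSL_one, mul_one, hproj]

/-- TYPE1, final form. -/
theorem type_one_bound {p f : ℕ} [Fact p.Prime] (hf : 1 ≤ f) (hF : Fintype.card F = p ^ f)
    (hn : 2 ≤ n) (hexc : ¬ (n = 2 ∧ Fintype.card F = 4)) (g : GL (Fin n) F) (σ : F ≃+* F) :
    ∃ T, 1 ≤ T ∧ (p ^ f - 1) * T ≤ (p ^ f) ^ n - 1 ∧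
      (cGL g * fieldPSL σ : MulAut (Matrix.ProjectiveSpecialLinearGroup (Fin n) F)) ^ T = 1 := by
  obtain ⟨hdvd, M, hM1, hb, hpow⟩ := type_one hf hF (by omega) g σ
  have he : 1 ≤ orderOf σ := orderOf_pos_ringAut σ
  refine ⟨orderOf σ * M, Nat.mul_pos he hM1, ?_, hpow⟩
  exact arith_one p f (orderOf σ) n M (Fact.out) hf he hdvd hn (by rwa [← hF]) hb

/-- powers of `cGL N` when `μ_N ∣ X ^ N₀ - 1` -/
theorem cGL_pow_of_dvd (N : GL (Fin n) F) (N₀ : ℕ)
    (h : minpoly F (N : Matrix (Fin n) (Fin n) F) ∣ X ^ N₀ - 1) :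
    (cGL N : MulAut (Matrix.ProjectiveSpecialLinearGroup (Fin n) F)) ^ N₀ = 1 := by
  have h' : minpoly F (N : Matrix (Fin n) (Fin n) F) ∣ X ^ N₀ - C 1 := by simpa using h
  have hpow := pow_eq_smul_of_dvd _ N₀ 1 h'
  exact cGL_pow_eq_one N N₀ 1 one_ne_zero hpow

/-- TYPE2: the graph coset. -/
theorem type_two_bound {p f : ℕ} [Fact p.Prime] (hf : 1 ≤ f) (hF : Fintype.card F = p ^ f)
    (hn : 3 ≤ n) (hexc : ¬ (n = 3 ∧ Fintype.card F = 2)) (g : GL (Fin n) F) (σ : F ≃+* F) :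
    ∃ T, 1 ≤ T ∧ (p ^ f - 1) * T ≤ (p ^ f) ^ n - 1 ∧
      (cGL g * fieldPSL σ * iotaT :
        MulAut (Matrix.ProjectiveSpecialLinearGroup (Fin n) F)) ^ T = 1 := by
  have hp : p.Prime := Fact.out
  have hα : (cGL g * fieldPSL σ * iotaT :
      MulAut (Matrix.ProjectiveSpecialLinearGroup (Fin n) F)) = cGL g * psiGF σ := by
    rw [mul_assoc]; rfl
  rw [hα]
  have hsq := cGL_mul_psiGF_sq σ g
  have he1 : 1 ≤ orderOf σ := orderOf_pos_ringAut σ
  have hef : orderOf σ ∣ f := orderOf_dvd hf hF σ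
  -- the three cases
  rcases Nat.lt_or_ge (orderOf σ) 3 with hlt | hge
  · -- `σ * σ = 1`
    have hσσ : σ * σ = 1 := by
      rcases (show orderOf σ = 1 ∨ orderOf σ = 2 by omega) with h | h
      · rw [orderOf_eq_one_iff] at h; rw [h, one_mul]
      · rw [← pow_two, ← h, pow_orderOf_eq_one]
    rw [hσσ, fieldPSL_one, mul_one] at hsq
    have hsym := starGL_mul_starGL σ hσσ g
    have hμ := minpoly_of_starGL_conj σ _ g hsym
    obtain ⟨hm, h1, hdeg⟩ := minpoly_basic (by omega : 1 ≤ n) (g * starGL σ g)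
    have h0 := (minpoly_inv (g * starGL σ g)).1
    -- in each subcase we find `N₀` with `(cGL N)^N₀ = 1` and `2 (q-1) N₀ ≤ q^n - 1`
    have key : ∃ N₀, 1 ≤ N₀ ∧
        (cGL (g * starGL σ g) : MulAut (Matrix.ProjectiveSpecialLinearGroup (Fin n) F)) ^ N₀ = 1 ∧
        2 * (p ^ f - 1) * N₀ ≤ (p ^ f) ^ n - 1 := by
      rcases (show orderOf σ = 1 ∨ orderOf σ = 2 by omega) with h | h
      · rw [orderOf_eq_one_iff] at h
        subst h
        have hid : ((1 : F ≃+* F) : F →+* F) = RingHom.id F := rfl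
        rw [hid, Polynomial.map_id] at hμ
        obtain ⟨N₀, hN1, hdiv, hb⟩ := graph_bound ⟨hm, h0, hμ⟩ n hn h1 hdeg hexc
        exact ⟨N₀, hN1, cGL_pow_of_dvd _ N₀ hdiv, by rwa [hF] at hb⟩
      · by_cases h34 : n = 3 ∧ Fintype.card F = 4
        · obtain ⟨h3, h4⟩ := h34
          obtain ⟨M, c, hM1, hM10, hc, hdiv⟩ :=
            u34_bound h4 σ h hm h0 hμ h1 (by omega)
          have hpow := pow_eq_smul_of_dvd _ M c hdiv
          refine ⟨M, hM1, cGL_pow_eq_one _ M c hc hpow, ?_⟩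
          rw [← hF, h4, h3]
          calc 2 * (4 - 1) * M ≤ 2 * (4 - 1) * 10 := Nat.mul_le_mul_left _ hM10
            _ ≤ 4 ^ 3 - 1 := by norm_num
        · obtain ⟨N₀, hN1, hdiv, hb⟩ := unit_bound hf hF σ h hm h0 hμ n hn h1 hdeg h34
          exact ⟨N₀, hN1, cGL_pow_of_dvd _ N₀ hdiv, by rwa [hF] at hb⟩
    obtain ⟨N₀, hN1, hpow, hb⟩ := key
    refine ⟨2 * N₀, by omega, ?_, ?_⟩
    · calc (p ^ f - 1) * (2 * N₀) = 2 * (p ^ f - 1) * N₀ := by ring
        _ ≤ _ := hb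
    · rw [pow_mul, hsq, hpow]
  · -- `orderOf σ ≥ 3`: apply TYPE1 to the square
    have hσ2 : σ * σ = σ ^ 2 := (pow_two σ).symm
    obtain ⟨hdvd', M, hM1, hb, hpow⟩ :=
      type_one hf hF (by omega : 1 ≤ n) (g * starGL σ g) (σ * σ)
    rw [← hsq, ← pow_mul] at hpow
    have he' : orderOf (σ * σ) = orderOf σ / Nat.gcd (orderOf σ) 2 := by
      haveI : Finite (F ≃+* F) := finite_ringAut
      rw [hσ2, orderOf_pow]
    have hg : Nat.gcd (orderOf σ) 2 = 1 ∨ Nat.gcd (orderOf σ) 2 = 2 := by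
      have := Nat.gcd_dvd_right (orderOf σ) 2
      rcases (Nat.dvd_prime Nat.prime_two).mp this with h | h
      · exact Or.inl h
      · exact Or.inr h
    have hgd : Nat.gcd (orderOf σ) 2 ∣ orderOf σ := Nat.gcd_dvd_left _ _
    have he2 : 2 ≤ orderOf (σ * σ) := by
      rw [he']
      rcases hg with h | h
      · rw [h]; omega
      · rw [h] at hgd ⊢
        obtain ⟨k, hk⟩ := hgd
        omega
    have hcond : 3 ≤ orderOf (σ * σ) ∨ 4 ≤ p ^ (f / orderOf (σ * σ)) := by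
      by_cases h3 : 3 ≤ orderOf (σ * σ)
      · exact Or.inl h3
      · right
        have h2 : orderOf (σ * σ) = 2 := by omega
        -- then `orderOf σ = 4`
        have h4 : orderOf σ = 4 := by
          rw [he'] at h2
          rcases hg with h | h
          · rw [h] at h2; omega
          · rw [h] at h2 hgd
            obtain ⟨k, hk⟩ := hgd
            omega
        rw [h2]
        rw [h4] at hef
        obtain ⟨k, hk⟩ := hef
        have hk1 : 1 ≤ k := by omega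
        have : f / 2 = 2 * k := by omega
        rw [this]
        calc 4 = 2 ^ 2 := by norm_num
          _ ≤ p ^ 2 := Nat.pow_le_pow_left hp.two_le 2
          _ ≤ p ^ (2 * k) := Nat.pow_le_pow_right hp.pos (by omega)
    refine ⟨2 * (orderOf (σ * σ) * M), ?_, ?_, hpow⟩
    · have : 1 ≤ orderOf (σ * σ) * M := Nat.mul_pos (by omega) hM1
      omega
    · have := arith_two p f (orderOf (σ * σ)) n M hp hf he2 hdvd' hn hcond hb
      calc (p ^ f - 1) * (2 * (orderOf (σ * σ) * M))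
          = (p ^ f - 1) * (2 * orderOf (σ * σ) * M) := by ring_nf
        _ ≤ _ := this

/-- MAIN -/
theorem main_bound (d : ℕ) (hd : 2 ≤ d)
    (h2 : d = 2 → 4 ≤ Fintype.card F) (h24 : ¬ (d = 2 ∧ Fintype.card F = 4))
    (h32 : ¬ (d = 3 ∧ Fintype.card F = 2))
    (φ : MulAut (Matrix.ProjectiveSpecialLinearGroup (Fin d) F)) :
    (Fintype.card F - 1) * orderOf φ ≤ Fintype.card F ^ d - 1 := by
  obtain ⟨p, _, k, hp, hF⟩ := FiniteField.card' F
  haveI : Fact p.Prime := ⟨hp⟩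
  have hf : 1 ≤ (k : ℕ) := k.pos
  have key : ∃ T, 1 ≤ T ∧ (p ^ (k : ℕ) - 1) * T ≤ (p ^ (k : ℕ)) ^ d - 1 ∧ φ ^ T = 1 := by
    obtain ⟨g, σ, h | ⟨h3, h⟩⟩ := aut_decomp_all hF hf hd h2 φ
    · rw [h]; exact type_one_bound hf hF hd h24 g σ
    · rw [h]; exact type_two_bound hf hF h3 h32 g σ
  obtain ⟨T, hT1, hb, hpow⟩ := key
  have hle : orderOf φ ≤ T := Nat.le_of_dvd hT1 (orderOf_dvd_of_pow_eq_one hpow)
  rw [hF]
  exact (Nat.mul_le_mul_left _ hle).trans hb

end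

end Cfsg.Agent.S2262P
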