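import Mathlib
import Cfsg.Prelude.Def_LieClassical
import Cfsg.Agent.Helper29.S2263Defs
import Cfsg.Agent.Helper29.S2262ASM
import Cfsg.Agent.Helper28.GU

/-! S2263 piece MINGU (helper29): the minimal polynomial of an element of `GU_d(q)` is `UGood`. -/

set_option autoImplicit false

namespace Cfsg.Agent.S2263P

open Polynomial
open Cfsg.Agent.S2264P

variable {F : Type*} [Field F] [Fintype F] {q : ℕ}

/-- MINGU -/
theorem minpoly_GU (hF : Fintype.card F = q ^ 2) (σ : F ≃+* F) (hσ : ∀ x, σ x = x ^ q) {d : ℕ}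
    (hd : 1 ≤ d) (g : GL (Fin d) F) (hg : g ∈ Cfsg.GU d F q) :
    UGood σ (minpoly F (g : Matrix (Fin d) (Fin d) F)) ∧
      (minpoly F (g : Matrix (Fin d) (Fin d) F)).natDegree ≤ d ∧
      1 ≤ (minpoly F (g : Matrix (Fin d) (Fin d) F)).natDegree := by
  obtain ⟨hm, h1, hdeg⟩ := Cfsg.Agent.S2262P.ASM.minpoly_basic hd g
  obtain ⟨h0, hinv⟩ := Cfsg.Agent.S2262P.minpoly_inv g
  refine ⟨⟨hm, h0, ?_⟩, hdeg, h1⟩
  have h := (Cfsg.Agent.Helper28.GUlib.mem_GU_iff (σ : F →+* F) hσ g).1 hg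
  have e1 : (g : Matrix (Fin d) (Fin d) F).map σ
      = (((g⁻¹ : GL (Fin d) F) : Matrix (Fin d) (Fin d) F)).transpose := by
    have h2 := Matrix.inv_eq_right_inv h
    rw [Matrix.coe_units_inv, Matrix.transpose_nonsing_inv]
    exact h2.symm
  have e2 : (minpoly F (g : Matrix (Fin d) (Fin d) F)).map (σ : F →+* F)
      = recip (minpoly F (g : Matrix (Fin d) (Fin d) F)) := by
    rw [← Cfsg.Agent.S2262P.minpoly_map_ringEquiv, ← hinv,
      ← Cfsg.Agent.S2262P.minpoly_transpose' ((g⁻¹ : GL (Fin d) F) : Matrix (Fin d) (Fin d) F),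
      ← e1]
  unfold dag
  rw [e2, recip_recip hm h0]

end Cfsg.Agent.S2263P
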