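import Mathlib
import Cfsg.Prelude.Def_LieClassical
import Cfsg.Agent.Helper29.S2263Defs
import Cfsg.Agent.Helper7.S2264FACS
import Cfsg.Agent.Helper29.S2264POLY
import Cfsg.Agent.Helper6.S2263MULTSYM
import Cfsg.Agent.Helper26.S2263FROBLIFT
import Cfsg.Agent.Helper26.S2263FACA
import Cfsg.Agent.Helper26.S2263FACB

/-! S2263 piece SINGLE (helper29). -/

set_option autoImplicit false

namespace Cfsg.Agent.S2263P

open Polynomial
open Cfsg.Agent.S2264P

variable {F : Type*} [Field F] [Fintype F] {p f q : ℕ} [Fact p.Prime]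

/-- SINGLE -/
theorem single_exponent (hq : q = p ^ f) (hf : 1 ≤ f) (hF : Fintype.card F = q ^ 2)
    (σ : F ≃+* F) (hσ : ∀ x, σ x = x ^ q) {μ : F[X]} (hμ : UGood σ μ) (hd : 1 ≤ μ.natDegree)
    (hs : Single σ μ) :
    ∃ s m : ℕ, 1 ≤ s ∧ 1 ≤ m ∧ s * m = μ.natDegree ∧
      ∃ c : F, μ ∣ X ^ (Up p m * wq q s) - C c := by
  classical
  have : CharP F p := charP_of_card hq hf hF
  have hp : p.Prime := Fact.out
  have hσ2 : ∀ x, σ (σ x) = x := by
    intro x
    rw [hσ, hσ, ← pow_mul, ← pow_two, ← hF, FiniteField.pow_card]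
  obtain ⟨φ, hφ⟩ := Cfsg.Agent.S2264P.POLY.facs_nonempty hμ.monic hd
  obtain ⟨hirr, hm, hdvd⟩ := (mem_facs hμ.monic.ne_zero).1 hφ
  have h0 := coeff_zero_ne_zero_of_mem_facs hμ.coeff0 hφ
  obtain ⟨hφ', hmult, hdd, hdeg⟩ := mult_dag σ hσ2 hμ hφ
  have hmpos := mult_pos hφ
  have hdegpos : 1 ≤ φ.natDegree := Cfsg.Agent.S2264P.POLY.natDegree_pos_of_mem hμ.monic hφ
  have hle : mult μ φ ≤ p ^ Nat.clog p (mult μ φ) := Nat.le_pow_clog hp.one_lt _
  by_cases hr : dag σ φ = φ
  · -- facs μ = {φ}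
    have hfacs : facs μ = {φ} := by
      rw [Finset.eq_singleton_iff_unique_mem]
      refine ⟨hφ, fun g hg => ?_⟩
      rcases hs φ hφ g hg with h | h
      · exact h
      · rw [h, hr]
    have hprod := prod_facs hμ.monic
    rw [hfacs, Finset.prod_singleton] at hprod
    have hdegμ := natDegree_eq_sum hμ.monic
    rw [hfacs, Finset.sum_singleton] at hdegμ
    obtain ⟨-, c, -, hc⟩ := fac_selfdual hF σ hσ hirr hm hr
    refine ⟨φ.natDegree, mult μ φ, hdegpos, hmpos, ?_, c ^ p ^ Nat.clog p (mult μ φ), ?_⟩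
    · rw [hdegμ, mul_comm]
    · have := pow_dvd_sub_C (p := p) hc hle
      rw [hprod] at this
      unfold Up
      rwa [mul_comm] at this
  · -- facs μ = {φ, dag σ φ}
    have hfacs : facs μ = {φ, dag σ φ} := by
      ext g
      rw [Finset.mem_insert, Finset.mem_singleton]
      constructor
      · intro hg
        exact hs φ hφ g hg
      · rintro (h | h)
        · rw [h]; exact hφ
        · rw [h]; exact hφ'
    have hne : φ ≠ dag σ φ := fun h => hr h.symm
    have hprod := prod_facs hμ.monic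
    rw [hfacs, Finset.prod_pair hne, hmult] at hprod
    have hdegμ := natDegree_eq_sum hμ.monic
    rw [hfacs, Finset.sum_pair hne, hmult, hdeg] at hdegμ
    obtain ⟨c, -, hc1, hc2⟩ := fac_pair hF σ hσ hirr hm h0
    refine ⟨2 * φ.natDegree, mult μ φ, by omega, hmpos, ?_, c ^ p ^ Nat.clog p (mult μ φ), ?_⟩
    · rw [hdegμ]; ring
    · have h1 := pow_dvd_sub_C (p := p) hc1 hle
      have h2 := pow_dvd_sub_C (p := p) hc2 hle
      have hcop : IsCoprime (φ ^ mult μ φ) (dag σ φ ^ mult μ φ) :=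
        (facs_coprime hφ hφ' hne).pow
      have := hcop.mul_dvd h1 h2
      rw [hprod] at this
      unfold Up
      rwa [mul_comm] at this

end Cfsg.Agent.S2263P
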