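import Mathlib
import Cfsg.Prelude.Def_LieClassical
import Cfsg.Agent.Helper29.S2263Defs
import Cfsg.Agent.Helper23.S2263UPFACTS
import Cfsg.Agent.Helper23.S2263ARITH1
import Cfsg.Agent.Helper15.S2263R2
import Cfsg.Agent.Helper15.S2263ARITH4
import Cfsg.Agent.Helper1.S2263ARITH3CORE
import Cfsg.Agent.Helper13.S2263DIMSUM
import Cfsg.Agent.Helper6.S2263DIMSUM1
import Cfsg.Agent.Helper8.S2263CENTERGU
import Cfsg.Agent.Helper29.S2263MINGU
import Cfsg.Agent.Helper29.S2263GENERAL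
import Cfsg.Agent.Helper29.S2263SINGLE

/-! S2263 (helper29): assembly of the upper bound. -/

set_option autoImplicit false

namespace Cfsg.Agent.S2263P

open Polynomial
open Cfsg.Agent.S2264P

namespace ASM

/-- ARITH3: two components (`two_bound` + `arith_core`) -/
theorem arith_two' {p f d : ℕ} (hp : p.Prime) (hf : 1 ≤ f) (hd : 3 ≤ d)
    (h32 : ¬ (d = 3 ∧ p ^ f = 2)) {s₁ s₂ m : ℕ} (hs₁ : 1 ≤ s₁) (hs₂ : 1 ≤ s₂) (hm : 1 ≤ m)
    (h : s₁ + s₂ + (m - 1) ≤ d) :
    (p ^ f + 1) * Up p m * (wq (p ^ f) s₁ * wq (p ^ f) s₂) ≤ Mx p f d := by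
  have hq : 2 ≤ p ^ f := by
    calc 2 ≤ p := hp.two_le
      _ = p ^ 1 := (pow_one p).symm
      _ ≤ p ^ f := Nat.pow_le_pow_right hp.pos hf
  have h1 := two_bound hq hs₁ hs₂
  have h2 := arith_core hp hf hd h32 (by omega : 2 ≤ s₁ + s₂) hm h
  calc (p ^ f + 1) * Up p m * (wq (p ^ f) s₁ * wq (p ^ f) s₂)
      = Up p m * ((p ^ f + 1) * (wq (p ^ f) s₁ * wq (p ^ f) s₂)) := by ring
    _ ≤ Up p m * _ := Nat.mul_le_mul_left _ h1
    _ ≤ Mx p f d := h2

end ASM

section upper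

variable {F : Type*} [Field F] [Fintype F] {p f q : ℕ} [Fact p.Prime]

theorem two_le_q (hF : Fintype.card F = q ^ 2) : 2 ≤ q := by
  have h2 : 2 ≤ Fintype.card F := Fintype.one_lt_card
  rw [hF] at h2
  rcases Nat.lt_or_ge q 2 with h | h
  · interval_cases q <;> omega
  · exact h

/-- the Frobenius `x ↦ x ^ q` as a ring automorphism -/
theorem exists_sigma (hq : q = p ^ f) (hf : 1 ≤ f) (hF : Fintype.card F = q ^ 2) :
    ∃ σ : F ≃+* F, (∀ x, σ x = x ^ q) ∧ ∀ x, σ (σ x) = x := by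
  haveI : CharP F p := charP_of_card hq hf hF
  refine ⟨iterateFrobeniusEquiv F p f, fun x => ?_, fun x => ?_⟩
  · rw [iterateFrobeniusEquiv_def, hq]
  · rw [iterateFrobeniusEquiv_def, iterateFrobeniusEquiv_def, ← pow_mul, ← hq, ← sq, ← hF,
      FiniteField.pow_card]

theorem upper (hq : q = p ^ f) (hf : 1 ≤ f) (hF : Fintype.card F = q ^ 2) {d : ℕ} (hd : 3 ≤ d)
    (h32 : ¬ (d = 3 ∧ q = 2)) (g : ↥(Cfsg.GU d F q)) :
    orderOf (QuotientGroup.mk g : ↥(Cfsg.GU d F q) ⧸ Subgroup.center ↥(Cfsg.GU d F q)) ≤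
      Mx p f d := by
  classical
  have hp : p.Prime := Fact.out
  have hq2 : 2 ≤ q := two_le_q hF
  obtain ⟨σ, hσ, hσ2⟩ := exists_sigma hq hf hF
  obtain ⟨hμ, hdeg, hdeg1⟩ := minpoly_GU hF σ hσ (by omega) (g : GL (Fin d) F) g.2
  set μ := minpoly F ((g : GL (Fin d) F) : Matrix (Fin d) (Fin d) F) with hμdef
  have h32' : ¬ (d = 3 ∧ p ^ f = 2) := by rwa [← hq]
  by_cases hs : Single σ μ
  · obtain ⟨s, m, hs1, hm1, hsm, c, hc⟩ := single_exponent hq hf hF σ hσ hμ hdeg1 hs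
    have hK : 0 < Up p m * wq q s := Nat.mul_pos (Up_pos hp m) (wq_pos hq2 hs1)
    refine (orderOf_mk_le g hK hc).trans ?_
    have := arith_single hp hf hd h32' hs1 hm1 (by omega : s * m ≤ d)
    rwa [← hq] at this
  · have hgen := general_exponent hq hf hF σ hσ hμ
    obtain ⟨hsum, hE1, hne⟩ := dim_sum σ hσ2 hμ hdeg1
    have hpos := dset_pos σ hμ
    have hprodpos : 0 < ∏ s ∈ Dset σ μ, wq q s :=
      Finset.prod_pos fun s hs' => wq_pos hq2 (hpos s hs')
    have hK : 0 < Kexp p q σ μ := by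
      unfold Kexp
      exact Nat.mul_pos (Nat.mul_pos (by omega) (Up_pos hp _)) hprodpos
    have hgen' : μ ∣ X ^ (Kexp p q σ μ) - C (1 : F) := by rwa [map_one]
    refine (orderOf_mk_le g hK hgen').trans ?_
    unfold Kexp
    rcases Nat.lt_or_ge (Dset σ μ).card 3 with hc3 | hc3
    · have hc0 : (Dset σ μ).card ≠ 0 := by
        rw [Finset.card_ne_zero]
        exact hne
      rcases Nat.lt_or_ge (Dset σ μ).card 2 with hc2 | hc2
      · have hc1 : (Dset σ μ).card = 1 := by omega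
        obtain ⟨s, hD⟩ := Finset.card_eq_one.mp hc1
        have hs1 : 1 ≤ s := hpos s (by rw [hD]; exact Finset.mem_singleton_self s)
        have hone := dim_sum_one σ hσ2 hμ hs hD
        rw [hD, Finset.prod_singleton]
        have h2 := ASM.arith_two' hp hf hd h32' hs1 hs1 hE1 (by omega : s + s + (Emax μ - 1) ≤ d)
        rw [← hq] at h2
        refine le_trans ?_ h2
        apply Nat.mul_le_mul_left
        calc wq q s = wq q s * 1 := (mul_one _).symm
          _ ≤ wq q s * wq q s := Nat.mul_le_mul_left _ (wq_pos hq2 hs1)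
      · have hc2' : (Dset σ μ).card = 2 := by omega
        obtain ⟨s₁, s₂, hne12, hD⟩ := Finset.card_eq_two.mp hc2'
        have hs1 : 1 ≤ s₁ := hpos s₁ (by rw [hD]; simp)
        have hs2 : 1 ≤ s₂ := hpos s₂ (by rw [hD]; simp)
        rw [hD, Finset.sum_pair hne12] at hsum
        rw [hD, Finset.prod_pair hne12]
        have h2 := ASM.arith_two' hp hf hd h32' hs1 hs2 hE1 (by omega : s₁ + s₂ + (Emax μ - 1) ≤ d)
        rwa [← hq] at h2
    · have h3 := arith_many hp hf hd h32' (Dset σ μ) hc3 hpos hE1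
        (by omega : ∑ s ∈ Dset σ μ, s + (Emax μ - 1) ≤ d)
      rwa [← hq] at h3

end upper

end Cfsg.Agent.S2263P
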