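import Mathlib
import Cfsg.Agent.S0106
import Cfsg.Agent.S0219

/-!
# Index-two subgroups of two-point stabilisers of sharply 3-transitive groups (part A)

Pure group theory: sections isomorphic to `SL(2,3)`, existence of a subgroup of index two, and
the trick producing an invariant subgroup of index two.
-/

set_option autoImplicit false

namespace Cfsg.Agent.Helper29.Sh3Idx

open Matrix

/-- the group `SL(2,3)` -/
abbrev SL23 := Matrix.SpecialLinearGroup (Fin 2) (ZMod 3)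

/-- an upper unitriangular matrix -/
def mA : SL23 := ⟨!![1,1;0,1], by decide⟩

/-- a lower unitriangular matrix -/
def mB : SL23 := ⟨!![1,0;1,1], by decide⟩

theorem sl23_comm_ne : (mA * mB * mA⁻¹ * mB⁻¹) * (mA * (mB * mB) * mA⁻¹ * (mB * mB)⁻¹) ≠
    (mA * (mB * mB) * mA⁻¹ * (mB * mB)⁻¹) * (mA * mB * mA⁻¹ * mB⁻¹) := by
  decide

theorem mA_pow_three : mA ^ 3 = 1 := by decide

theorem mB_pow_three : mB ^ 3 = 1 := by decide

theorem mA_ne_one : mA ≠ 1 := by decide

theorem mB_ne_one : mB ≠ 1 := by decide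

theorem sl23_pow_fin : ∀ i j : Fin 3, mA ^ (i : ℕ) = mB ^ (j : ℕ) → mA ^ (i : ℕ) = 1 := by decide

theorem sl23_pow_nat (i j : ℕ) (h : mA ^ i = mB ^ j) : mA ^ i = 1 := by
  have hA : ∀ k : ℕ, mA ^ k = mA ^ (k % 3) := by
    intro k
    conv_lhs => rw [← Nat.div_add_mod k 3, pow_add, pow_mul, mA_pow_three, one_pow, one_mul]
  have hB : ∀ k : ℕ, mB ^ k = mB ^ (k % 3) := by
    intro k
    conv_lhs => rw [← Nat.div_add_mod k 3, pow_add, pow_mul, mB_pow_three, one_pow, one_mul]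
  rw [hA i, hB j] at h
  rw [hA i]
  exact sl23_pow_fin ⟨i % 3, Nat.mod_lt _ (by norm_num)⟩ ⟨j % 3, Nat.mod_lt _ (by norm_num)⟩ h

theorem orderOf_mA : orderOf mA = 3 := by
  have : Fact (Nat.Prime 3) := ⟨Nat.prime_three⟩
  exact orderOf_eq_prime mA_pow_three mA_ne_one

theorem orderOf_mB : orderOf mB = 3 := by
  have : Fact (Nat.Prime 3) := ⟨Nat.prime_three⟩
  exact orderOf_eq_prime mB_pow_three mB_ne_one

/-- commutators commute -/
def Metab (H : Type*) [Group H] : Prop :=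
  ∀ a b c d : H, (a * b * a⁻¹ * b⁻¹) * (c * d * c⁻¹ * d⁻¹) = (c * d * c⁻¹ * d⁻¹) * (a * b * a⁻¹ * b⁻¹)

/-- a section isomorphic to `SL(2,3)` -/
def HasSL23Section (H : Type*) [Group H] : Prop :=
  ∃ (H1 K1 : Subgroup H) (_ : (K1.subgroupOf H1).Normal),
    Nonempty ((H1 ⧸ K1.subgroupOf H1) ≃* SL23)

/-- a section gives a surjection from a subgroup -/
theorem HasSL23Section.exists_surj {H : Type*} [Group H] (h : HasSL23Section H) :
    ∃ (H1 : Subgroup H) (f : H1 →* SL23), Function.Surjective f := by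
  obtain ⟨H1, K1, hK, ⟨E⟩⟩ := h
  refine ⟨H1, E.toMonoidHom.comp (QuotientGroup.mk' (K1.subgroupOf H1)), ?_⟩
  exact E.surjective.comp (QuotientGroup.mk'_surjective _)

theorem not_hasSL23Section_of_metab {H : Type*} [Group H] (hM : Metab H) : ¬ HasSL23Section H := by
  intro h
  obtain ⟨H1, f, hf⟩ := h.exists_surj
  obtain ⟨a, ha⟩ := hf mA
  obtain ⟨b, hb⟩ := hf mB
  apply sl23_comm_ne
  have h1 := hM (a : H) (b : H) (a : H) ((b : H) * (b : H))
  have h2 : (a * b * a⁻¹ * b⁻¹) * (a * (b * b) * a⁻¹ * (b * b)⁻¹) =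
      (a * (b * b) * a⁻¹ * (b * b)⁻¹) * (a * b * a⁻¹ * b⁻¹) := by
    apply Subtype.ext
    simpa using h1
  have h3 := congrArg f h2
  simpa [ha, hb] using h3

theorem card_dvd_of_hasSL23Section {H : Type*} [Group H] [Finite H] (h : HasSL23Section H) :
    3 ∣ Nat.card H := by
  obtain ⟨H1, f, hf⟩ := h.exists_surj
  obtain ⟨a, ha⟩ := hf mA
  have h1 : orderOf mA ∣ orderOf a := by
    rw [← ha]
    exact orderOf_map_dvd f a
  rw [orderOf_mA] at h1
  have h2 : orderOf a = orderOf (a : H) := (Subgroup.orderOf_coe a).symm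
  rw [h2] at h1
  exact h1.trans (orderOf_dvd_natCard _)

/-- with at most one subgroup of order three and order not divisible by nine there is no
`SL(2,3)` section -/
theorem not_hasSL23Section_of_unique {H : Type*} [Group H] [Finite H]
    (hT3 : ∀ X Y : Subgroup H, Nat.card X = 3 → Nat.card Y = 3 → X = Y)
    (h9 : ¬ 9 ∣ Nat.card H) : ¬ HasSL23Section H := by
  intro h
  obtain ⟨H1, f, hf⟩ := h.exists_surj
  -- an element of order three above a given element of order three of `SL(2,3)`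
  have key : ∀ m : SL23, orderOf m = 3 → ∃ (u : H1) (k : ℕ), orderOf (u : H) = 3 ∧
      f u = m ^ k ∧ m ^ k ≠ 1 := by
    intro m hm
    obtain ⟨g, hg⟩ := hf m
    have h1 : 3 ∣ orderOf (g : H) := by
      rw [Subgroup.orderOf_coe, ← hm, ← hg]
      exact orderOf_map_dvd f g
    obtain ⟨k, hk⟩ := h1
    have hk3 : ¬ 3 ∣ k := by
      rintro ⟨l, rfl⟩
      apply h9
      have : (9 : ℕ) ∣ orderOf (g : H) := ⟨l, by rw [hk]; ring⟩
      exact this.trans (orderOf_dvd_natCard _)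
    have hkpos : 0 < k := by
      rcases Nat.eq_zero_or_pos k with rfl | h
      · exact absurd (dvd_zero 3) hk3
      · exact h
    refine ⟨g ^ k, k, ?_, by rw [map_pow, hg], ?_⟩
    · have h2 : orderOf ((g : H) ^ k) = orderOf (g : H) / Nat.gcd (orderOf (g : H)) k :=
        orderOf_pow' _ hkpos.ne'
      rw [Subgroup.coe_pow, h2, hk, Nat.gcd_mul_left_left]
      exact Nat.mul_div_cancel _ hkpos
    · intro h3
      have h4 : orderOf m ∣ k := orderOf_dvd_of_pow_eq_one h3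
      rw [hm] at h4
      exact hk3 h4
  obtain ⟨u, i, hu, hfu, hui⟩ := key mA orderOf_mA
  obtain ⟨w, j, hw, hfw, hwj⟩ := key mB orderOf_mB
  have h1 : Subgroup.zpowers (u : H) = Subgroup.zpowers (w : H) :=
    hT3 _ _ (by rw [Nat.card_zpowers, hu]) (by rw [Nat.card_zpowers, hw])
  have h2 : (w : H) ∈ Subgroup.zpowers (u : H) := by
    rw [h1]; exact Subgroup.mem_zpowers _
  have hfin : IsOfFinOrder (u : H) := isOfFinOrder_of_finite _
  rw [← hfin.mem_powers_iff_mem_zpowers, Submonoid.mem_powers_iff] at h2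
  obtain ⟨l, hl⟩ := h2
  have h3 : w = u ^ l := by
    apply Subtype.ext
    rw [Subgroup.coe_pow, hl]
  have h4 : mB ^ j = mA ^ (i * l) := by
    rw [← hfw, h3, map_pow, hfu, pow_mul]
  have h5 := sl23_pow_nat (i * l) j h4.symm
  exact hwj (h4.trans h5)

/-- a finite group with a normal 2-complement and even order has a subgroup of index two -/
theorem exists_index_two_of_npc {H : Type*} [Group H] [Finite H] (heven : Even (Nat.card H))
    (h : Cfsg.HasNormalPComplement 2 H) : ∃ N : Subgroup H, N.index = 2 := by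
  have : Fact (Nat.Prime 2) := ⟨Nat.prime_two⟩
  obtain ⟨P, N, hN, hc⟩ := h
  have hidx : N.index = Nat.card (P : Subgroup H) := hc.symm.index_eq_card
  have hP : Nat.card (P : Subgroup H) = 2 ^ (Nat.card H).factorization 2 := P.card_eq_multiplicity
  have hk : 1 ≤ (Nat.card H).factorization 2 := by
    have h2 : 2 ∣ Nat.card H := even_iff_two_dvd.mp heven
    exact (Nat.Prime.dvd_iff_one_le_factorization Nat.prime_two Nat.card_pos.ne').mp h2
  have hq : Nat.card (H ⧸ N) = 2 ^ (Nat.card H).factorization 2 := by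
    rw [← hP, ← hidx]; rfl
  obtain ⟨k, hk'⟩ : ∃ k, (Nat.card H).factorization 2 = k + 1 := ⟨_, (Nat.sub_add_cancel hk).symm⟩
  rw [hk'] at hq
  obtain ⟨M, hM⟩ := Sylow.exists_subgroup_card_pow_prime (G := H ⧸ N) 2 (n := k)
    (by rw [hq]; exact pow_dvd_pow 2 (Nat.le_succ k))
  have hMi : M.index = 2 := by
    have h1 := M.card_mul_index
    rw [hM, hq, pow_succ] at h1
    exact Nat.eq_of_mul_eq_mul_left (pow_pos (by norm_num) k) h1
  refine ⟨M.comap (QuotientGroup.mk' N), ?_⟩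
  rw [Subgroup.index_comap_of_surjective _ (QuotientGroup.mk'_surjective N), hMi]

/-- existence of a subgroup of index two -/
theorem exists_index_two {H : Type*} [Group H] [Finite H] (heven : Even (Nat.card H))
    (hSyl : ∀ T : Sylow 2 H, IsCyclic (T : Subgroup H) ∨
      ∃ n : ℕ, Nonempty ((T : Subgroup H) ≃* QuaternionGroup (2 ^ n)))
    (hsec : ¬ HasSL23Section H) : ∃ N : Subgroup H, N.index = 2 := by
  have : Fact (Nat.Prime 2) := ⟨Nat.prime_two⟩
  obtain ⟨T⟩ : Nonempty (Sylow 2 H) := inferInstance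
  rcases hSyl T with hc | ⟨n, ⟨e⟩⟩
  · exact Cfsg.Agent.S0219.result heven T hc
  · rcases Nat.eq_zero_or_pos n with rfl | hn
    · have hc : IsCyclic (T : Subgroup H) := by
        have : IsCyclic (QuaternionGroup (2 ^ 0)) := by
          rw [pow_zero]; exact QuaternionGroup.quaternionGroup_one_isCyclic
        exact isCyclic_of_surjective e.symm e.symm.surjective
      exact Cfsg.Agent.S0219.result heven T hc
    · rcases Cfsg.Agent.S0106.result T n hn ⟨e⟩ with h | h
      · exact exists_index_two_of_npc heven h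
      · exact absurd h hsec

/-- from a subgroup of relative index two to an invariant one -/
theorem exists_invariant_index_two {𝔊 : Type*} [Group 𝔊] (H N0 : Subgroup 𝔊) (hN0 : N0 ≤ H)
    (hidx : N0.relIndex H = 2) (s : 𝔊) (hs : s * s = 1) (hsH : ∀ h ∈ H, s * h * s⁻¹ ∈ H) :
    ∃ N : Subgroup 𝔊, N ≤ H ∧ (N.subgroupOf H).Normal ∧ N.relIndex H = 2 ∧
      ∀ n ∈ N, s * n * s⁻¹ ∈ N := by
  have hsinv : s⁻¹ = s := inv_eq_of_mul_eq_one_left hs
  -- membership criterion
  have hmul : ∀ a ∈ H, ∀ b ∈ H, (a * b ∈ N0 ↔ (a ∈ N0 ↔ b ∈ N0)) := by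
    intro a ha b hb
    have := Subgroup.mul_mem_iff_of_index_two (H := N0.subgroupOf H) hidx
      (a := ⟨a, ha⟩) (b := ⟨b, hb⟩)
    simpa [Subgroup.mem_subgroupOf] using this
  -- the conjugate
  have hconj : ∀ g : 𝔊, s * (s * g * s⁻¹) * s⁻¹ = g := by
    intro g
    rw [hsinv]
    calc s * (s * g * s) * s = (s * s) * g * (s * s) := by group
      _ = g := by rw [hs, one_mul, mul_one]
  let N1 : Subgroup 𝔊 :=
    { carrier := {g | s * g * s⁻¹ ∈ N0}
      one_mem' := by simp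
      mul_mem' := by
        intro a b ha hb
        have : s * (a * b) * s⁻¹ = (s * a * s⁻¹) * (s * b * s⁻¹) := by group
        simp only [Set.mem_setOf_eq] at ha hb ⊢
        rw [this]; exact N0.mul_mem ha hb
      inv_mem' := by
        intro a ha
        have : s * a⁻¹ * s⁻¹ = (s * a * s⁻¹)⁻¹ := by group
        simp only [Set.mem_setOf_eq] at ha ⊢
        rw [this]; exact N0.inv_mem ha }
  have hN1mem : ∀ g, g ∈ N1 ↔ s * g * s⁻¹ ∈ N0 := fun g => Iff.rfl
  have hN1H : N1 ≤ H := by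
    intro g hg
    have := hsH _ (hN0 ((hN1mem g).mp hg))
    rwa [hconj] at this
  have hmul1 : ∀ a ∈ H, ∀ b ∈ H, (a * b ∈ N1 ↔ (a ∈ N1 ↔ b ∈ N1)) := by
    intro a ha b hb
    rw [hN1mem, hN1mem, hN1mem]
    have : s * (a * b) * s⁻¹ = (s * a * s⁻¹) * (s * b * s⁻¹) := by group
    rw [this]
    exact hmul _ (hsH a ha) _ (hsH b hb)
  have hinv0 : ∀ a, a⁻¹ ∈ N0 ↔ a ∈ N0 := fun a => inv_mem_iff
  have hinv1 : ∀ a, a⁻¹ ∈ N1 ↔ a ∈ N1 := fun a => inv_mem_iff
  -- an element of `H` outside `N0`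
  have hex0 : ∃ a ∈ H, a ∉ N0 := by
    by_contra hcon
    push Not at hcon
    have : N0.relIndex H = 1 := Subgroup.relIndex_eq_one.mpr hcon
    omega
  by_cases hEq : ∀ g ∈ H, (g ∈ N0 ↔ g ∈ N1)
  · -- `N0` itself is invariant
    refine ⟨N0, hN0, Subgroup.normal_of_index_eq_two hidx, hidx, ?_⟩
    intro n hn
    have h1 : n ∈ N1 := (hEq n (hN0 hn)).mp hn
    exact (hN1mem n).mp h1
  · push Not at hEq
    obtain ⟨t, htH, ht⟩ := hEq
    let N2 : Subgroup 𝔊 :=
      { carrier := {g | g ∈ H ∧ (g ∈ N0 ↔ g ∈ N1)}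
        one_mem' := ⟨H.one_mem, by simp [N0.one_mem, N1.one_mem]⟩
        mul_mem' := by
          rintro a b ⟨ha, ha'⟩ ⟨hb, hb'⟩
          refine ⟨H.mul_mem ha hb, ?_⟩
          rw [hmul a ha b hb, hmul1 a ha b hb, ha', hb']
        inv_mem' := by
          rintro a ⟨ha, ha'⟩
          exact ⟨H.inv_mem ha, by rw [hinv0, hinv1, ha']⟩ }
    have hN2mem : ∀ g, g ∈ N2 ↔ g ∈ H ∧ (g ∈ N0 ↔ g ∈ N1) := fun g => Iff.rfl
    have hN2H : N2 ≤ H := fun g hg => ((hN2mem g).mp hg).1
    have hidx2 : N2.relIndex H = 2 := by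
      rw [Subgroup.relIndex, Subgroup.index_eq_two_iff]
      refine ⟨⟨t, htH⟩, ?_⟩
      rintro ⟨b, hb⟩
      simp only [Subgroup.mem_subgroupOf, Subgroup.coe_mul, hN2mem]
      have e0 := hmul b hb t htH
      have e1 := hmul1 b hb t htH
      have hbt : b * t ∈ H := H.mul_mem hb htH
      simp only [hbt, hb, true_and]
      rw [e0, e1]
      rcases ht with ⟨h0, h1⟩ | ⟨h0, h1⟩ <;> by_cases h2 : b ∈ N0 <;>
        by_cases h3 : b ∈ N1 <;> simp [h0, h1, h2, h3]
    refine ⟨N2, hN2H, Subgroup.normal_of_index_eq_two hidx2, hidx2, ?_⟩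
    intro n hn
    obtain ⟨hnH, hn'⟩ := (hN2mem n).mp hn
    refine (hN2mem _).mpr ⟨hsH n hnH, ?_⟩
    have e1 : s * n * s⁻¹ ∈ N0 ↔ n ∈ N1 := (hN1mem n).symm
    have e2 : s * n * s⁻¹ ∈ N1 ↔ n ∈ N0 := by
      rw [hN1mem, hconj]
    rw [e1, e2, hn']

end Cfsg.Agent.Helper29.Sh3Idx
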