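import Mathlib
import Cfsg.Agent.Helper1.FpfCompl
import Cfsg.Agent.Helper29.Sh3IdxA

/-!
# Index-two subgroups of two-point stabilisers of sharply 3-transitive groups (part B)

Solvability of a Frobenius complement with at most one subgroup of order three.
-/

set_option autoImplicit false

namespace Cfsg.Agent.Helper29.Sh3Idx

theorem commutator_ne_top_of_hom {L A : Type*} [Group L] [CommGroup A] (f : L →* A) (x : L)
    (hx : f x ≠ 1) : commutator L ≠ ⊤ := by
  intro h
  have h1 : commutator L ≤ f.ker := Abelianization.commutator_subset_ker f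
  rw [h] at h1
  exact hx (h1 (Subgroup.mem_top x))

theorem commutator_ne_top_of_index_two {L : Type*} [Group L] (N : Subgroup L) (h : N.index = 2) :
    commutator L ≠ ⊤ := by
  have hN : N.Normal := Subgroup.normal_of_index_eq_two h
  have hc : Nat.card (L ⧸ N) = 2 := h
  have : Fact (Nat.Prime 2) := ⟨Nat.prime_two⟩
  have hcyc : IsCyclic (L ⧸ N) := isCyclic_of_prime_card hc
  letI : CommGroup (L ⧸ N) := IsCyclic.commGroup
  obtain ⟨x, hx⟩ : ∃ x : L, x ∉ N := by
    by_contra hcon
    push Not at hcon
    have : N = ⊤ := by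
      rw [eq_top_iff]; intro x _; exact hcon x
    rw [this, Subgroup.index_top] at h
    omega
  refine commutator_ne_top_of_hom (QuotientGroup.mk' N) x ?_
  rw [QuotientGroup.mk'_apply, Ne, QuotientGroup.eq_one_iff]
  exact hx

/-- Sylow subgroups of a fixed-point-free group -/
theorem sylow_of_fpf {𝔊 : Type*} [Group 𝔊] [Finite 𝔊] {K : Subgroup 𝔊} [K.Normal] (hK : K ≠ ⊥)
    (L : Subgroup 𝔊) (hfpf : ∀ h ∈ L, h ≠ 1 → K ⊓ Subgroup.centralizer {h} = ⊥)
    (p : ℕ) [Fact p.Prime] (P : Sylow p L) :
    IsCyclic (P : Subgroup L) ∨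
      (p = 2 ∧ ∃ n : ℕ, Nonempty ((P : Subgroup L) ≃* QuaternionGroup (2 ^ n))) := by
  set Q : Subgroup 𝔊 := (P : Subgroup L).map L.subtype with hQdef
  let e : (P : Subgroup L) ≃* Q :=
    (P : Subgroup L).equivMapOfInjective L.subtype L.subtype_injective
  have hQ : IsPGroup p Q := P.isPGroup'.map L.subtype
  have hQL : Q ≤ L := Subgroup.map_subtype_le _
  rcases Cfsg.Agent.Helper1.fpf_pgroup_cyclic_or_quaternion hK Q hQ
      (fun a ha a1 => hfpf a (hQL ha) a1) with h | ⟨h2, n, ⟨f⟩⟩
  · left
    exact isCyclic_of_surjective e.symm e.symm.surjective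
  · right
    exact ⟨h2, n, ⟨e.trans f⟩⟩

theorem not_perfect_of_fpf {𝔊 : Type*} [Group 𝔊] [Finite 𝔊] {K : Subgroup 𝔊} [K.Normal]
    (hK : K ≠ ⊥) (L : Subgroup 𝔊)
    (hfpf : ∀ h ∈ L, h ≠ 1 → K ⊓ Subgroup.centralizer {h} = ⊥)
    (hT3 : ∀ X Y : Subgroup 𝔊, X ≤ L → Y ≤ L → Nat.card X = 3 → Nat.card Y = 3 → X = Y)
    (hL : L ≠ ⊥) : commutator L ≠ ⊤ := by
  have hSyl := sylow_of_fpf hK L hfpf
  have hnt : Nontrivial L := (Subgroup.nontrivial_iff_ne_bot L).mpr hL
  by_cases h3 : 3 ∣ Nat.card L
  · intro hperf
    have : Fact (Nat.Prime 3) := ⟨Nat.prime_three⟩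
    obtain ⟨x, hx⟩ := exists_prime_orderOf_dvd_card' (G := L) 3 h3
    set C : Subgroup L := Subgroup.zpowers x with hC
    have hCcard : Nat.card C = 3 := by rw [hC, Nat.card_zpowers, hx]
    -- `C` is normal
    have hCmap : ∀ g : L, C.map (MulAut.conj g).toMonoidHom = C := by
      intro g
      apply Subgroup.map_injective L.subtype_injective
      apply hT3 _ _ (Subgroup.map_subtype_le _) (Subgroup.map_subtype_le _)
      · rw [Subgroup.card_map_of_injective L.subtype_injective,
          Subgroup.card_map_of_injective (MulAut.conj g).injective, hCcard]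
      · rw [Subgroup.card_map_of_injective L.subtype_injective, hCcard]
    have hCn : C.Normal := by
      refine ⟨fun n hn g => ?_⟩
      have : g * n * g⁻¹ ∈ C.map (MulAut.conj g).toMonoidHom :=
        ⟨n, hn, by simp [MulAut.conj_apply]⟩
      rwa [hCmap g] at this
    -- `x` is central
    have hcyc : IsCyclic C := by rw [hC]; infer_instance
    letI : CommGroup (MulAut C) :=
      (hcyc.mulAutMulEquiv C).toMonoidHom.commGroupOfInjective (hcyc.mulAutMulEquiv C).injective
    have hcent : ∀ g : L, g * x * g⁻¹ = x := by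
      intro g
      have h1 : commutator L ≤ (MulAut.conjNormal (H := C)).ker :=
        Abelianization.commutator_subset_ker _
      rw [hperf] at h1
      have h2 : MulAut.conjNormal (H := C) g = 1 := h1 (Subgroup.mem_top g)
      have h3 := congrArg (fun φ : MulAut C => ((φ ⟨x, Subgroup.mem_zpowers x⟩ : C) : L)) h2
      simpa [MulAut.conjNormal_apply] using h3
    -- transfer into a Sylow 3-subgroup
    obtain ⟨P⟩ : Nonempty (Sylow 3 L) := inferInstance
    have hPc : IsCyclic (P : Subgroup L) := by
      rcases hSyl 3 P with h | ⟨h, -⟩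
      · exact h
      · omega
    letI : CommGroup (P : Subgroup L) := IsCyclic.commGroup
    have key : ∀ (k : ℕ) (g₀ : L), g₀⁻¹ * x ^ k * g₀ ∈ (P : Subgroup L) →
        g₀⁻¹ * x ^ k * g₀ = x ^ k := by
      intro k g₀ _
      have h1 := hcent g₀⁻¹
      rw [inv_inv] at h1
      have h2 : g₀⁻¹ * x ^ k * g₀ = (g₀⁻¹ * x * g₀) ^ k := by
        have := conj_pow (a := g₀⁻¹) (b := x) (i := k)
        rw [inv_inv] at this
        exact this.symm
      rw [h2, h1]
    have h1 := MonoidHom.transfer_eq_pow (MonoidHom.id (P : Subgroup L)) x key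
    have h2 : commutator L ≤ (MonoidHom.transfer (MonoidHom.id (P : Subgroup L))).ker :=
      Abelianization.commutator_subset_ker _
    rw [hperf] at h2
    have h3 : MonoidHom.transfer (MonoidHom.id (P : Subgroup L)) x = 1 :=
      h2 (Subgroup.mem_top x)
    rw [h3] at h1
    have h4 : x ^ (P : Subgroup L).index = 1 := by
      have := congrArg Subtype.val h1
      simpa using this.symm
    have h5 : 3 ∣ (P : Subgroup L).index := by
      have := orderOf_dvd_of_pow_eq_one h4
      rwa [hx] at this
    exact P.not_dvd_index h5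
  · have hsec : ¬ HasSL23Section L := fun h => h3 (card_dvd_of_hasSL23Section h)
    rcases Nat.even_or_odd (Nat.card L) with heven | hodd
    · have : Fact (Nat.Prime 2) := ⟨Nat.prime_two⟩
      obtain ⟨N, hN⟩ := exists_index_two heven (fun T => by
        rcases hSyl 2 T with h | ⟨-, h⟩
        · exact Or.inl h
        · exact Or.inr h) hsec
      exact commutator_ne_top_of_index_two N hN
    · have hZ : IsZGroup L := by
        refine ⟨fun p hp P => ?_⟩
        haveI : Fact p.Prime := ⟨hp⟩
        rcases hSyl p P with h | ⟨h2, n, ⟨f⟩⟩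
        · exact h
        · exfalso
          have h1 : Nat.card (P : Subgroup L) = 4 * 2 ^ n := by
            rw [Nat.card_congr f.toEquiv, Nat.card_eq_fintype_card, QuaternionGroup.card]
          have h4 : Nat.card (P : Subgroup L) ∣ Nat.card L := Subgroup.card_subgroup_dvd_card _
          rw [h1] at h4
          have h5 : 2 ∣ Nat.card L := Dvd.dvd.trans ⟨2 * 2 ^ n, by ring⟩ h4
          exact (Nat.not_even_iff_odd.mpr hodd) (even_iff_two_dvd.mpr h5)
      exact (IsZGroup.commutator_lt (G := L)).ne

/-- a fixed-point-free group with at most one subgroup of order three is solvable -/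
theorem solvable_of_fpf {𝔊 : Type*} [Group 𝔊] [Finite 𝔊] {K : Subgroup 𝔊} [K.Normal]
    (hK : K ≠ ⊥) (H : Subgroup 𝔊)
    (hfpf : ∀ h ∈ H, h ≠ 1 → K ⊓ Subgroup.centralizer {h} = ⊥)
    (hT3 : ∀ X Y : Subgroup 𝔊, X ≤ H → Y ≤ H → Nat.card X = 3 → Nat.card Y = 3 → X = Y) :
    ∀ L : Subgroup 𝔊, L ≤ H → Group.IsSolvable L := by
  intro L
  induction' hn : Nat.card L using Nat.strong_induction_on with n ih generalizing L
  intro hLH
  by_cases hL : L = ⊥
  · subst hL
    infer_instance
  have hnp := not_perfect_of_fpf hK L (fun h hh => hfpf h (hLH hh))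
    (fun X Y hX hY => hT3 X Y (hX.trans hLH) (hY.trans hLH)) hL
  set M : Subgroup 𝔊 := (commutator L).map L.subtype with hM
  have hML : M ≤ L := Subgroup.map_subtype_le _
  have hMcard : Nat.card M < Nat.card L := by
    rw [hM, Subgroup.card_map_of_injective L.subtype_injective]
    have hle : Nat.card (commutator L) ≤ Nat.card L := Subgroup.card_le_card_group _
    rcases hle.lt_or_eq with h | h
    · exact h
    · exact absurd (Subgroup.eq_top_of_card_eq _ h) hnp
  haveI hMsol : Group.IsSolvable M := ih (Nat.card M) (hn ▸ hMcard) M rfl (hML.trans hLH)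
  haveI hCsol : Group.IsSolvable (commutator L) :=
    solvable_of_solvable_injective
      (f := ((commutator L).equivMapOfInjective L.subtype L.subtype_injective).toMonoidHom)
      ((commutator L).equivMapOfInjective L.subtype L.subtype_injective).injective
  exact solvable_of_ker_le_range (commutator L).subtype (Abelianization.of (G := L))
    (by rw [Abelianization.ker_of, Subgroup.range_subtype])

end Cfsg.Agent.Helper29.Sh3Idx
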