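import Mathlib
import Cfsg.Agent.Helper16.NearField
import Cfsg.Agent.S0688
import Cfsg.Agent.Helper29.Sh3IdxA

/-!
# Index-two subgroups of two-point stabilisers of sharply 3-transitive groups (part C)

Linear groups regular on nonzero vectors: an irreducible cyclic normal subgroup forces the group
to be metabelian; otherwise (solvable case) the order is 24, 48, 120 or 528.
-/

set_option autoImplicit false

namespace Cfsg.Agent.Helper29.Sh3Idx

section Linear

variable {p : ℕ} [hp : Fact p.Prime] {V : Type*} [AddCommGroup V] [Module (ZMod p) V]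

/-- two linear automorphisms commuting with a cyclic (as a module) linear automorphism `g`
commute with each other -/
theorem commute_of_commute_cyclic (g c d : V ≃ₗ[ZMod p] V) (n : ℕ) (hn : 0 < n) (hgn : g ^ n = 1)
    (hirr : ∀ W : Submodule (ZMod p) V, (∀ v ∈ W, g v ∈ W) → W = ⊥ ∨ W = ⊤)
    (hc : ∀ v, c (g v) = g (c v)) (hd : ∀ v, d (g v) = g (d v)) :
    ∀ v, c (d v) = d (c v) := by
  classical
  by_cases hV : ∀ v : V, v = 0
  · intro v
    rw [hV (c (d v)), hV (d (c v))]
  push Not at hV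
  obtain ⟨v₀, hv₀⟩ := hV
  let γ : Module.End (ZMod p) V := g.toLinearMap
  let S : Subalgebra (ZMod p) (Module.End (ZMod p) V) := Algebra.adjoin (ZMod p) {γ}
  have hγS : γ ∈ S := Algebra.subset_adjoin (Set.mem_singleton γ)
  -- elements of `S` commute with everything commuting with `γ`
  have hScomm : ∀ s ∈ S, ∀ f : Module.End (ZMod p) V, f * γ = γ * f → f * s = s * f := by
    intro s hs f hf
    have h1 := Algebra.adjoin_le_centralizer_centralizer (ZMod p) ({γ} : Set (Module.End (ZMod p) V)) hs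
    rw [Subalgebra.mem_centralizer_iff] at h1
    apply h1 f
    rw [SetLike.mem_coe, Subalgebra.mem_centralizer_iff]
    intro x hx
    rw [Set.mem_singleton_iff] at hx
    rw [hx]
    exact hf.symm
  have hSS : ∀ s ∈ S, ∀ t ∈ S, s * t = t * s := by
    intro s hs t ht
    apply hScomm t ht s
    exact (hScomm s hs γ rfl).symm
  -- the cyclic submodule generated by `v₀`
  let W : Submodule (ZMod p) V := (Subalgebra.toSubmodule S).map (LinearMap.applyₗ v₀)
  have hWmem : ∀ w, w ∈ W ↔ ∃ s ∈ S, s v₀ = w := by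
    intro w
    simp only [W, Submodule.mem_map, Subalgebra.mem_toSubmodule, LinearMap.applyₗ_apply_apply]
  have hWtop : W = ⊤ := by
    have hinv : ∀ v ∈ W, g v ∈ W := by
      intro v hv
      obtain ⟨s, hs, rfl⟩ := (hWmem v).mp hv
      exact (hWmem _).mpr ⟨γ * s, S.mul_mem hγS hs, rfl⟩
    rcases hirr W hinv with h | h
    · exfalso
      have : v₀ ∈ W := (hWmem v₀).mpr ⟨1, S.one_mem, rfl⟩
      rw [h, Submodule.mem_bot] at this
      exact hv₀ this
    · exact h
  -- an element commuting with `g` lies in `S`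
  have key : ∀ f : V ≃ₗ[ZMod p] V, (∀ v, f (g v) = g (f v)) → ∃ s ∈ S, ∀ w, f w = s w := by
    intro f hf
    have hfγ : (f.toLinearMap : Module.End (ZMod p) V) * γ = γ * f.toLinearMap := by
      ext v
      exact hf v
    have h1 : f v₀ ∈ W := by rw [hWtop]; exact Submodule.mem_top
    obtain ⟨s, hs, hsv⟩ := (hWmem _).mp h1
    refine ⟨s, hs, fun w => ?_⟩
    have h2 : w ∈ W := by rw [hWtop]; exact Submodule.mem_top
    obtain ⟨t, ht, rfl⟩ := (hWmem w).mp h2
    have e1 : f (t v₀) = t (f v₀) := by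
      have := hScomm t ht f.toLinearMap hfγ
      exact congrArg (fun φ : Module.End (ZMod p) V => φ v₀) this
    have e2 : s (t v₀) = t (s v₀) := by
      have := hSS s hs t ht
      exact congrArg (fun φ : Module.End (ZMod p) V => φ v₀) this
    rw [e1, e2, hsv]
  obtain ⟨s, hs, hcs⟩ := key c hc
  obtain ⟨t, ht, hdt⟩ := key d hd
  intro v
  rw [hcs, hdt, hdt, hcs]
  have := hSS s hs t ht
  exact congrArg (fun φ : Module.End (ZMod p) V => φ v) this

variable [Finite V] (H : Subgroup (V ≃ₗ[ZMod p] V))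
  (hreg : ∀ v w : V, v ≠ 0 → w ≠ 0 → ∃! h : H, (h : V ≃ₗ[ZMod p] V) v = w)

include hreg in
/-- an irreducible cyclic normal subgroup forces `H` to be metabelian -/
theorem metab_of_irreducible_cyclic [Nontrivial V] (A : Subgroup H) (hAn : A.Normal)
    (hAc : IsCyclic A)
    (hirr : ∀ W : Submodule (ZMod p) V,
      (∀ a ∈ A, ∀ v ∈ W, ((a : H) : V ≃ₗ[ZMod p] V) v ∈ W) → W = ⊥ ∨ W = ⊤) : Metab H := by
  classical
  haveI : Finite H := Cfsg.Agent.Helper16.NearField.finite_of_regular H hreg
  obtain ⟨g, hg⟩ := hAc.exists_generator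
  -- powers of `g`
  have hgpow : ∀ a ∈ A, ∃ k : ℕ, (a : H) = (g : H) ^ k := by
    intro a ha
    have h1 : (⟨a, ha⟩ : A) ∈ Subgroup.zpowers g := hg _
    have hfin : IsOfFinOrder g := isOfFinOrder_of_finite g
    rw [← hfin.mem_powers_iff_mem_zpowers, Submonoid.mem_powers_iff] at h1
    obtain ⟨k, hk⟩ := h1
    refine ⟨k, ?_⟩
    have := congrArg (fun x : A => (x : H)) hk
    simpa using this.symm
  -- irreducibility in terms of `g`
  have hirr' : ∀ W : Submodule (ZMod p) V,
      (∀ v ∈ W, (((g : A) : H) : V ≃ₗ[ZMod p] V) v ∈ W) → W = ⊥ ∨ W = ⊤ := by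
    intro W hW
    have hpow : ∀ (k : ℕ) (v : V), v ∈ W → ((((g : A) : H) ^ k : H) : V ≃ₗ[ZMod p] V) v ∈ W := by
      intro k
      induction k with
      | zero => intro v hv; simpa using hv
      | succ k ih =>
        intro v hv
        rw [pow_succ]
        have : ((((g : A) : H) ^ k * ((g : A) : H) : H) : V ≃ₗ[ZMod p] V) v =
            ((((g : A) : H) ^ k : H) : V ≃ₗ[ZMod p] V) ((((g : A) : H) : V ≃ₗ[ZMod p] V) v) := rfl
        rw [this]
        exact ih _ (hW v hv)
    apply hirr W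
    intro a ha v hv
    obtain ⟨k, hk⟩ := hgpow a ha
    rw [hk]
    exact hpow k v hv
  -- commutators centralize `g`
  letI : CommGroup (MulAut A) :=
    (hAc.mulAutMulEquiv A).toMonoidHom.commGroupOfInjective (hAc.mulAutMulEquiv A).injective
  have hcomm : ∀ a b : H, (a * b * a⁻¹ * b⁻¹) * (g : H) = (g : H) * (a * b * a⁻¹ * b⁻¹) := by
    intro a b
    have h1 : MulAut.conjNormal (H := A) (a * b * a⁻¹ * b⁻¹) = 1 := by
      rw [map_mul, map_mul, map_mul, map_inv, map_inv]
      rw [mul_comm (MulAut.conjNormal (H := A) a) (MulAut.conjNormal (H := A) b), mul_assoc,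
        mul_assoc, mul_inv_cancel_left, mul_inv_cancel]
    have h2 := congrArg (fun φ : MulAut A => ((φ g : A) : H)) h1
    simp only [MulAut.conjNormal_apply, MulAut.one_apply] at h2
    exact mul_inv_eq_iff_eq_mul.mp h2
  -- the main commutation
  obtain ⟨n, hn, hgn⟩ : ∃ n : ℕ, 0 < n ∧ (((g : A) : H) : V ≃ₗ[ZMod p] V) ^ n = 1 := by
    refine ⟨orderOf ((g : A) : H), orderOf_pos _, ?_⟩
    have := pow_orderOf_eq_one ((g : A) : H)
    have h2 := congrArg (fun x : H => (x : V ≃ₗ[ZMod p] V)) this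
    simpa using h2
  intro a b c d
  apply Subtype.ext
  apply LinearEquiv.ext
  intro v
  have hc1 : ∀ x : H, x * (g : H) = (g : H) * x →
      ∀ v, (x : V ≃ₗ[ZMod p] V) ((((g : A) : H) : V ≃ₗ[ZMod p] V) v) =
        (((g : A) : H) : V ≃ₗ[ZMod p] V) ((x : V ≃ₗ[ZMod p] V) v) := by
    intro x hx v
    have := congrArg (fun y : H => (y : V ≃ₗ[ZMod p] V) v) hx
    exact this
  exact commute_of_commute_cyclic _ _ _ n hn hgn hirr' (hc1 _ (hcomm a b)) (hc1 _ (hcomm c d)) v

end Linear

end Cfsg.Agent.Helper29.Sh3Idx
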