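import Mathlib
import Cfsg.Agent.S0068
import Cfsg.Agent.Helper29.Sh3IdxB
import Cfsg.Agent.Helper29.Sh3IdxC

/-!
# Index-two subgroups of two-point stabilisers of sharply 3-transitive groups (part D)

A Frobenius group whose complement is transitive on the nonidentity elements of the kernel,
has even order and at most one subgroup of order three: the complement has a subgroup of index
two.
-/

set_option autoImplicit false

universe u

namespace Cfsg.Agent.Helper29.Sh3Idx

section Linear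

variable {p : ℕ} [hp : Fact p.Prime] {V : Type*} [AddCommGroup V] [Module (ZMod p) V] [Finite V]
  (H : Subgroup (V ≃ₗ[ZMod p] V))
  (hreg : ∀ v w : V, v ≠ 0 → w ≠ 0 → ∃! h : H, (h : V ≃ₗ[ZMod p] V) v = w)

include hreg in
theorem metab_or_card [Nontrivial V] (hsolv : Group.IsSolvable H) :
    Metab H ∨ Nat.card H = 24 ∨ Nat.card H = 48 ∨ Nat.card H = 120 ∨ Nat.card H = 528 := by
  by_cases hI : ∀ A : Subgroup H, A.Normal → IsCyclic A → ∃ W : Submodule (ZMod p) V,
      W ≠ ⊥ ∧ W ≠ ⊤ ∧ ∀ a ∈ A, ∀ v ∈ W, ((a : H) : V ≃ₗ[ZMod p] V) v ∈ W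
  · right
    have h1 := Cfsg.Agent.S0688.result H hreg hI hsolv
    have h2 := Cfsg.Agent.Helper16.NearField.card_regular H hreg
    rcases h1 with h | h | h | h <;> rw [h] at h2 <;> simp [h2]
  · left
    push Not at hI
    obtain ⟨A, hAn, hAc, hA⟩ := hI
    apply metab_of_irreducible_cyclic H hreg A hAn hAc
    intro W hW
    by_contra hcon
    push Not at hcon
    obtain ⟨a, ha, v, hv, hav⟩ := hA W hcon.1 hcon.2
    exact hav (hW a ha v hv)

end Linear

/-- linearisation of the conjugation action on an elementary abelian normal subgroup -/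
theorem exists_linear_rep {𝔊 : Type u} [Group 𝔊] (K H : Subgroup 𝔊) [hKn : K.Normal]
    (hKc : ∀ a ∈ K, ∀ b ∈ K, a * b = b * a) {p : ℕ} [Fact p.Prime] (hKp : ∀ k ∈ K, k ^ p = 1) :
    ∃ (V : Type u) (_ : AddCommGroup V) (_ : Module (ZMod p) V) (e : K ≃ V)
      (ρ : H →* (V ≃ₗ[ZMod p] V)), e 1 = 0 ∧
      ∀ (h : H) (k : K), ρ h (e k) = e ⟨(h : 𝔊) * k * (h : 𝔊)⁻¹, hKn.conj_mem k k.2 h⟩ := by
  letI : CommGroup K :=
    { (inferInstance : Group K) with
      mul_comm := fun a b => Subtype.ext (hKc a a.2 b b.2) }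
  have hpV : ∀ v : Additive K, p • v = 0 := by
    intro v
    have : (Additive.toMul v) ^ p = 1 := Subtype.ext (by simpa using hKp _ (Additive.toMul v).2)
    exact congrArg Additive.ofMul this
  obtain ⟨inst⟩ : Nonempty (Module (ZMod p) (Additive K)) := ⟨AddCommGroup.zmodModule hpV⟩
  let φ : H → (Additive K ≃ₗ[ZMod p] Additive K) := fun h =>
    { (MulEquiv.toAdditive (MulAut.conjNormal (H := K) (h : 𝔊))) with
      map_smul' := fun c x =>
        ZMod.map_smul (MulEquiv.toAdditive (MulAut.conjNormal (H := K) (h : 𝔊))) c x }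
  have hφ : ∀ (h : H) (v : Additive K), φ h v =
      Additive.ofMul (MulAut.conjNormal (H := K) (h : 𝔊) (Additive.toMul v)) := fun h v => rfl
  refine ⟨Additive K, inferInstance, inst, Additive.ofMul,
    { toFun := φ
      map_one' := ?_
      map_mul' := ?_ }, rfl, ?_⟩
  · apply LinearEquiv.ext
    intro v
    rw [hφ]
    simp
  · intro a b
    apply LinearEquiv.ext
    intro v
    rw [LinearEquiv.mul_apply, hφ, hφ, hφ]
    simp [map_mul]
  · intro h k
    show φ h (Additive.ofMul k) = _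
    rw [hφ]
    congr 1

theorem Metab.of_injective {H H' : Type*} [Group H] [Group H'] (f : H →* H')
    (hf : Function.Injective f) (h : Metab H') : Metab H := by
  intro a b c d
  apply hf
  have := h (f a) (f b) (f c) (f d)
  simpa [map_mul, map_inv] using this

/-- the main abstract theorem -/
theorem exists_relIndex_two {𝔊 : Type u} [Group 𝔊] [Finite 𝔊] (K H : Subgroup 𝔊) [hKn : K.Normal]
    (hc : Subgroup.IsComplement' K H) (hK : K ≠ ⊥)
    (hfpf : ∀ h ∈ H, h ≠ 1 → K ⊓ Subgroup.centralizer {h} = ⊥)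
    (htr : ∀ k ∈ K, ∀ k' ∈ K, k ≠ 1 → k' ≠ 1 → ∃ h ∈ H, h * k * h⁻¹ = k')
    (heven : Even (Nat.card H))
    (hT3 : ∀ X Y : Subgroup 𝔊, X ≤ H → Y ≤ H → Nat.card X = 3 → Nat.card Y = 3 → X = Y) :
    ∃ N : Subgroup 𝔊, N ≤ H ∧ N.relIndex H = 2 := by
  classical
  -- `K` is commutative
  obtain ⟨-, hKc'⟩ := Cfsg.Agent.S0068.result K H hc hK hfpf (even_iff_two_dvd.mp heven)
  have hKc : ∀ a ∈ K, ∀ b ∈ K, a * b = b * a := by
    intro a ha b hb
    have := hKc'.is_comm.comm ⟨a, ha⟩ ⟨b, hb⟩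
    exact congrArg Subtype.val this
  -- a nonidentity element of `K`
  obtain ⟨k₀, hk₀K, hk₀⟩ : ∃ k ∈ K, k ≠ 1 := by
    by_contra hcon
    push Not at hcon
    exact hK ((Subgroup.eq_bot_iff_forall K).mpr hcon)
  -- exponent `p`
  obtain ⟨p, hp, hKp⟩ : ∃ p : ℕ, p.Prime ∧ ∀ k ∈ K, k ^ p = 1 := by
    have ho : orderOf k₀ ≠ 1 := fun h => hk₀ (orderOf_eq_one_iff.mp h)
    refine ⟨(orderOf k₀).minFac, Nat.minFac_prime ho, ?_⟩
    set q := (orderOf k₀).minFac with hq
    have hqd : q ∣ orderOf k₀ := Nat.minFac_dvd _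
    obtain ⟨m, hm⟩ := hqd
    set x := k₀ ^ m with hx
    have hxK : x ∈ K := K.pow_mem hk₀K m
    have hxq : x ^ q = 1 := by
      rw [hx, ← pow_mul, mul_comm, ← hm, pow_orderOf_eq_one]
    have hx1 : x ≠ 1 := by
      intro h
      have h1 : orderOf k₀ ∣ m := orderOf_dvd_of_pow_eq_one h
      have hmpos : 0 < m := by
        rcases Nat.eq_zero_or_pos m with rfl | h
        · rw [mul_zero] at hm
          exact absurd hm (orderOf_pos k₀).ne'
        · exact h
      have h2 : orderOf k₀ ≤ m := Nat.le_of_dvd hmpos h1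
      have h3 : 2 ≤ q := (Nat.minFac_prime ho).two_le
      rw [hm] at h2
      nlinarith
    intro k hk
    by_cases hk1 : k = 1
    · rw [hk1, one_pow]
    obtain ⟨h, -, hh⟩ := htr x hxK k hk hx1 hk1
    rw [← hh, conj_pow, hxq, mul_one, mul_inv_cancel]
  haveI : Fact p.Prime := ⟨hp⟩
  obtain ⟨V, iV, iM, e, ρ, he1, hρ⟩ := exists_linear_rep K H hKc hKp
  haveI : Finite V := Finite.of_equiv K e
  haveI : Nontrivial V := by
    refine ⟨⟨e ⟨k₀, hk₀K⟩, 0, ?_⟩⟩
    rw [← he1]
    intro h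
    exact hk₀ (congrArg Subtype.val (e.injective h))
  have he0 : ∀ k : K, e k = 0 ↔ k = 1 := by
    intro k
    rw [← he1]
    exact e.injective.eq_iff
  -- `ρ` is injective
  have hρinj : Function.Injective ρ := by
    rw [injective_iff_map_eq_one]
    intro h hh
    by_contra h1
    have h2 := hρ h ⟨k₀, hk₀K⟩
    rw [hh] at h2
    have h2' : e ⟨k₀, hk₀K⟩ = e ⟨(h : 𝔊) * k₀ * (h : 𝔊)⁻¹, hKn.conj_mem k₀ hk₀K h⟩ := h2
    have h3 : (h : 𝔊) * k₀ * (h : 𝔊)⁻¹ = k₀ := (congrArg Subtype.val (e.injective h2')).symm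
    have h4 : k₀ ∈ K ⊓ Subgroup.centralizer {(h : 𝔊)} := by
      refine Subgroup.mem_inf.mpr ⟨hk₀K, ?_⟩
      rw [Subgroup.mem_centralizer_iff]
      intro y hy
      rw [Set.mem_singleton_iff] at hy
      rw [hy]
      exact mul_inv_eq_iff_eq_mul.mp h3
    rw [hfpf h h.2 (fun hc => h1 (Subtype.ext hc)), Subgroup.mem_bot] at h4
    exact hk₀ h4
  -- the image
  set H' : Subgroup (V ≃ₗ[ZMod p] V) := ρ.range with hH'
  let E : H ≃* H' := MonoidHom.ofInjective hρinj
  have hE : ∀ h : H, ((E h : H') : V ≃ₗ[ZMod p] V) = ρ h := fun h => rfl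
  have hreg : ∀ v w : V, v ≠ 0 → w ≠ 0 → ∃! h : H', (h : V ≃ₗ[ZMod p] V) v = w := by
    intro v w hv hw
    obtain ⟨k, rfl⟩ := e.surjective v
    obtain ⟨k', rfl⟩ := e.surjective w
    have hk1 : (k : 𝔊) ≠ 1 := fun h => hv ((he0 k).mpr (Subtype.ext h))
    have hk'1 : (k' : 𝔊) ≠ 1 := fun h => hw ((he0 k').mpr (Subtype.ext h))
    obtain ⟨h, hhH, hh⟩ := htr k k.2 k' k'.2 hk1 hk'1
    refine ⟨E ⟨h, hhH⟩, ?_, ?_⟩
    · show ((E ⟨h, hhH⟩ : H') : V ≃ₗ[ZMod p] V) (e k) = e k'
      rw [hE, hρ]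
      congr 1
      exact Subtype.ext hh
    · intro y hy
      obtain ⟨h', rfl⟩ := E.surjective y
      congr 1
      change ((E h' : H') : V ≃ₗ[ZMod p] V) (e k) = e k' at hy
      rw [hE, hρ] at hy
      have h3 : (h' : 𝔊) * k * (h' : 𝔊)⁻¹ = k' := congrArg Subtype.val (e.injective hy)
      -- `h⁻¹ h'` centralizes `k`
      by_contra hne
      have h4 : (h⁻¹ * (h' : 𝔊)) ≠ 1 := by
        intro h5
        apply hne
        apply Subtype.ext
        have : (h' : 𝔊) = h := by
          have := eq_of_inv_mul_eq_one h5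
          exact this.symm
        exact this
      have h5 : (k : 𝔊) ∈ K ⊓ Subgroup.centralizer {h⁻¹ * (h' : 𝔊)} := by
        refine Subgroup.mem_inf.mpr ⟨k.2, ?_⟩
        rw [Subgroup.mem_centralizer_iff]
        intro y hy
        rw [Set.mem_singleton_iff] at hy
        rw [hy]
        have h6 : (h' : 𝔊) * k * (h' : 𝔊)⁻¹ = h * k * h⁻¹ := by rw [h3, hh]
        have h7 : (h' : 𝔊) * k = h * k * h⁻¹ * h' := by
          rw [← h6]; group
        calc h⁻¹ * (h' : 𝔊) * k = h⁻¹ * ((h' : 𝔊) * k) := by group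
          _ = h⁻¹ * (h * k * h⁻¹ * h') := by rw [h7]
          _ = k * (h⁻¹ * h') := by group
      rw [hfpf _ (H.mul_mem (H.inv_mem hhH) h'.2) h4, Subgroup.mem_bot] at h5
      exact hk1 h5
  -- solvability
  have hsolvH : Group.IsSolvable H := solvable_of_fpf hK H hfpf hT3 H le_rfl
  have hsolvH' : Group.IsSolvable H' :=
    solvable_of_surjective (f := E.toMonoidHom) E.surjective
  have hcardE : Nat.card H = Nat.card H' := Nat.card_congr E.toEquiv
  -- at most one subgroup of order three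
  have hT3' : ∀ X Y : Subgroup H, Nat.card X = 3 → Nat.card Y = 3 → X = Y := by
    intro X Y hX hY
    apply Subgroup.map_injective H.subtype_injective
    apply hT3 _ _ (Subgroup.map_subtype_le _) (Subgroup.map_subtype_le _)
    · rw [Subgroup.card_map_of_injective H.subtype_injective, hX]
    · rw [Subgroup.card_map_of_injective H.subtype_injective, hY]
  -- no `SL(2,3)` section
  have hsec : ¬ HasSL23Section H := by
    rcases metab_or_card H' hreg hsolvH' with h | h
    · exact not_hasSL23Section_of_metab (Metab.of_injective E.toMonoidHom E.injective h)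
    · apply not_hasSL23Section_of_unique hT3'
      rw [hcardE]
      rcases h with h | h | h | h <;> rw [h] <;> norm_num
  -- Sylow 2-subgroups
  have hSyl : ∀ T : Sylow 2 H, IsCyclic (T : Subgroup H) ∨
      ∃ n : ℕ, Nonempty ((T : Subgroup H) ≃* QuaternionGroup (2 ^ n)) := by
    intro T
    have : Fact (Nat.Prime 2) := ⟨Nat.prime_two⟩
    rcases sylow_of_fpf hK H hfpf 2 T with h | ⟨-, h⟩
    · exact Or.inl h
    · exact Or.inr h
  obtain ⟨N, hN⟩ := exists_index_two heven hSyl hsec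
  refine ⟨N.map H.subtype, Subgroup.map_subtype_le _, ?_⟩
  have h1 : (N.map H.subtype).subgroupOf H = N :=
    Subgroup.comap_map_eq_self_of_injective H.subtype_injective N
  rw [Subgroup.relIndex, h1, hN]

end Cfsg.Agent.Helper29.Sh3Idx
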