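import Mathlib
import Cfsg.Agent.Helper4.Sharp2
import Cfsg.Agent.Helper4.Sharp3
import Cfsg.Agent.S0728
import Cfsg.Agent.Helper29.Sh3IdxD

/-!
# Index-two subgroups of two-point stabilisers of sharply 3-transitive groups (part E)

From permutation groups to the abstract Frobenius setting.
-/

set_option autoImplicit false

universe u

namespace Cfsg.Agent.Helper29.Sh3Idx

open MulAction

/-- a point stabiliser of a finite sharply doubly transitive group of odd degree with at most one
subgroup of order three has a subgroup of index two -/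
theorem exists_relIndex_two_of_sharp2 {𝔊 : Type u} {Ω : Type*} [Group 𝔊] [Finite 𝔊] [MulAction 𝔊 Ω]
    [Fintype Ω] (h2 : IsMultiplyPretransitive 𝔊 Ω 2)
    (hs : ∀ (g : 𝔊) (x y : Ω), x ≠ y → g • x = x → g • y = y → g = 1)
    (hodd : Odd (Fintype.card Ω)) (h3 : 3 ≤ Fintype.card Ω) (b : Ω)
    (hT3 : ∀ X Y : Subgroup 𝔊, X ≤ stabilizer 𝔊 b → Y ≤ stabilizer 𝔊 b → Nat.card X = 3 →
      Nat.card Y = 3 → X = Y) :
    ∃ N : Subgroup 𝔊, N ≤ stabilizer 𝔊 b ∧ N.relIndex (stabilizer 𝔊 b) = 2 := by
  classical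
  obtain ⟨K, hKn, hKmem, hKcard, hGcard⟩ := Cfsg.Agent.Helper4.sharp2_fpf_subgroup h2 hs (by omega)
  haveI := hKn
  haveI : IsPretransitive 𝔊 Ω := isPretransitive_of_is_two_pretransitive
  set H : Subgroup 𝔊 := stabilizer 𝔊 b with hH
  set n := Fintype.card Ω with hn
  -- the order of `H`
  have hHcard : Nat.card H = n - 1 := by
    have h1 : H.index = Nat.card Ω := index_stabilizer_of_transitive 𝔊 b
    have h4 := H.card_mul_index
    rw [h1, hGcard, Nat.card_eq_fintype_card (α := Ω), ← hn] at h4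
    have hnpos : 0 < n := by omega
    have : Nat.card H * n = (n - 1) * n := by rw [h4, mul_comm]
    exact Nat.eq_of_mul_eq_mul_right hnpos this
  -- semiregularity of `K`
  have hKfix : ∀ k ∈ K, ∀ x : Ω, k • x = x → k = 1 := by
    intro k hk x hx
    rcases (hKmem k).mp hk with h | h
    · exact h
    · exact absurd hx (h x)
  have hdisj : Disjoint K H := by
    rw [Subgroup.disjoint_def]
    intro x hxK hxH
    exact hKfix x hxK b (mem_stabilizer_iff.mp hxH)
  have hc : Subgroup.IsComplement' K H := by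
    apply Subgroup.isComplement'_of_card_mul_and_disjoint _ hdisj
    rw [hKcard, hHcard, hGcard]
  have hK : K ≠ ⊥ := by
    intro h
    rw [h, Subgroup.card_bot] at hKcard
    omega
  have hfpf : ∀ h ∈ H, h ≠ 1 → K ⊓ Subgroup.centralizer {h} = ⊥ := by
    intro h hh h1
    rw [Subgroup.eq_bot_iff_forall]
    intro k hk
    obtain ⟨hkK, hkC⟩ := Subgroup.mem_inf.mp hk
    rw [Subgroup.mem_centralizer_iff] at hkC
    have hcomm : h * k = k * h := hkC h (Set.mem_singleton h)
    by_contra hk1
    have hkb : k • b ≠ b := fun hx => hk1 (hKfix k hkK b hx)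
    have hhb : h • b = b := mem_stabilizer_iff.mp hh
    have hhkb : h • (k • b) = k • b := by
      rw [← mul_smul, hcomm, mul_smul, hhb]
    exact h1 (hs h b (k • b) (Ne.symm hkb) hhb hhkb)
  have htr : ∀ k ∈ K, ∀ k' ∈ K, k ≠ 1 → k' ≠ 1 → ∃ h ∈ H, h * k * h⁻¹ = k' := by
    intro k hk k' hk' hk1 hk'1
    have hkb : k • b ≠ b := fun hx => hk1 (hKfix k hk b hx)
    have hk'b : k' • b ≠ b := fun hx => hk'1 (hKfix k' hk' b hx)
    obtain ⟨g, hgb, hgk⟩ := (is_two_pretransitive_iff.mp h2) (Ne.symm hkb) (Ne.symm hk'b)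
    refine ⟨g, mem_stabilizer_iff.mpr hgb, ?_⟩
    have h1 : g * k * g⁻¹ ∈ K := hKn.conj_mem k hk g
    have h4 : (k'⁻¹ * (g * k * g⁻¹)) • b = b := by
      have hginv : g⁻¹ • b = b := by rw [inv_smul_eq_iff, hgb]
      rw [mul_smul, mul_smul, mul_smul, hginv, hgk, inv_smul_smul]
    have h5 := hKfix _ (K.mul_mem (K.inv_mem hk') h1) b h4
    exact (eq_of_inv_mul_eq_one h5).symm
  have heven : Even (Nat.card H) := by
    rw [hHcard]
    obtain ⟨m, hm⟩ := hodd
    exact ⟨m, by omega⟩
  exact exists_relIndex_two K H hc hK hfpf htr heven hT3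

/-- the main theorem -/
theorem main {α : Type*} [Fintype α] [DecidableEq α] (heven : Even (Fintype.card α))
    (h6 : 6 ≤ Fintype.card α) (G : Subgroup (Equiv.Perm α)) (h3 : IsMultiplyPretransitive G α 3)
    (hsharp : ∀ x : Fin 3 ↪ α, stabilizer G x = ⊥) {a b c : α} (hab : a ≠ b) (hac : a ≠ c)
    (hbc : b ≠ c) (s : G) (hsa : s • a = b) (hsb : s • b = a) (hsc : s • c = c) :
    ∃ N : Subgroup G, N ≤ stabilizer G a ⊓ stabilizer G b ∧
      (N.subgroupOf (stabilizer G a ⊓ stabilizer G b)).Normal ∧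
      N.relIndex (stabilizer G a ⊓ stabilizer G b) = 2 ∧ ∀ n ∈ N, s * n * s⁻¹ ∈ N := by
  classical
  haveI : IsMultiplyPretransitive G α 2 :=
    isMultiplyPretransitive_of_le (n := 3) (by norm_num) (by rw [Nat.card_eq_fintype_card]; omega)
  haveI : IsPretransitive G α := isPretransitive_of_is_two_pretransitive
  -- the point stabiliser acting on the remaining points
  let Ω := SubMulAction.ofStabilizer G a
  letI : Fintype Ω := Fintype.ofFinite Ω
  have h2' : IsMultiplyPretransitive (stabilizer G a) Ω 2 :=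
    (SubMulAction.ofStabilizer.isMultiplyPretransitive (n := 2)).mp h3
  have hcardΩ : Fintype.card Ω + 1 = Fintype.card α := by
    have := SubMulAction.nat_card_ofStabilizer_add_one_eq (G := G) a
    rwa [Nat.card_eq_fintype_card, Nat.card_eq_fintype_card] at this
  have hs' : ∀ (g : stabilizer G a) (x y : Ω), x ≠ y → g • x = x → g • y = y → g = 1 := by
    intro g x y hxy hx hy
    have hxa : (x : α) ≠ a := SubMulAction.neq_of_mem_ofStabilizer (↥G) a
    have hya : (y : α) ≠ a := SubMulAction.neq_of_mem_ofStabilizer (↥G) a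
    have hga : (g : G) • a = a := mem_stabilizer_iff.mp g.2
    have hgx : (g : G) • (x : α) = x := congrArg Subtype.val hx
    have hgy : (g : G) • (y : α) = y := congrArg Subtype.val hy
    have := Cfsg.Agent.Helper4.eq_one_of_fix_three hsharp (g : G) (Ne.symm hxa) (Ne.symm hya)
      (fun h => hxy (Subtype.ext h)) hga hgx hgy
    exact Subtype.ext this
  let b' : Ω := ⟨b, (SubMulAction.mem_ofStabilizer_iff (↥G) a).mpr (Ne.symm hab)⟩
  -- the stabiliser of `b'`
  have hstab : (stabilizer (stabilizer G a) b').map (stabilizer G a).subtype =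
      stabilizer G a ⊓ stabilizer G b := by
    ext g
    constructor
    · rintro ⟨x, hx, rfl⟩
      refine Subgroup.mem_inf.mpr ⟨x.2, ?_⟩
      rw [SetLike.mem_coe, mem_stabilizer_iff] at hx
      rw [mem_stabilizer_iff]
      exact congrArg Subtype.val hx
    · intro hg
      obtain ⟨hga, hgb⟩ := Subgroup.mem_inf.mp hg
      refine ⟨⟨g, hga⟩, ?_, rfl⟩
      rw [SetLike.mem_coe, mem_stabilizer_iff]
      apply Subtype.ext
      exact mem_stabilizer_iff.mp hgb
  have hT3 : ∀ X Y : Subgroup (stabilizer G a), X ≤ stabilizer (stabilizer G a) b' →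
      Y ≤ stabilizer (stabilizer G a) b' → Nat.card X = 3 → Nat.card Y = 3 → X = Y := by
    intro X Y hX hY hX3 hY3
    apply Subgroup.map_injective (stabilizer G a).subtype_injective
    apply Cfsg.Agent.S0728.result heven h6 G h3 hsharp hab
    · rw [← hstab]; exact Subgroup.map_mono hX
    · rw [← hstab]; exact Subgroup.map_mono hY
    · rw [Subgroup.card_map_of_injective (stabilizer G a).subtype_injective, hX3]
    · rw [Subgroup.card_map_of_injective (stabilizer G a).subtype_injective, hY3]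
  obtain ⟨N', hN'le, hN'idx⟩ := exists_relIndex_two_of_sharp2 h2' hs'
    (by
      obtain ⟨m, hm⟩ := heven
      exact ⟨m - 1, by omega⟩) (by omega) b' hT3
  -- transport to `G`
  have hN0le : N'.map (stabilizer G a).subtype ≤ stabilizer G a ⊓ stabilizer G b := by
    rw [← hstab]; exact Subgroup.map_mono hN'le
  have hN0idx : (N'.map (stabilizer G a).subtype).relIndex
      (stabilizer G a ⊓ stabilizer G b) = 2 := by
    rw [← hstab,
      Subgroup.relIndex_map_map_of_injective _ _ (stabilizer G a).subtype_injective, hN'idx]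
  -- the element `s`
  have hss : s * s = 1 := by
    apply Cfsg.Agent.Helper4.eq_one_of_fix_three hsharp (s * s) hab hac hbc
    · rw [mul_smul, hsa, hsb]
    · rw [mul_smul, hsb, hsa]
    · rw [mul_smul, hsc, hsc]
  have hsinv : s⁻¹ = s := inv_eq_of_mul_eq_one_left hss
  have hsH : ∀ h ∈ stabilizer G a ⊓ stabilizer G b,
      s * h * s⁻¹ ∈ stabilizer G a ⊓ stabilizer G b := by
    intro h hh
    obtain ⟨hha, hhb⟩ := Subgroup.mem_inf.mp hh
    rw [mem_stabilizer_iff] at hha hhb
    refine Subgroup.mem_inf.mpr ⟨?_, ?_⟩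
    · rw [mem_stabilizer_iff, hsinv, mul_smul, mul_smul, hsa, hhb, hsb]
    · rw [mem_stabilizer_iff, hsinv, mul_smul, mul_smul, hsb, hha, hsa]
  exact exists_invariant_index_two _ _ hN0le hN0idx s hss hsH

end Cfsg.Agent.Helper29.Sh3Idx
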