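import Mathlib
import Cfsg.Prelude.Def_Transfer
import Cfsg.Agent.Helper29.TV2Basic

/-! Board `tv2pieces`, piece TR1: the conjugation action of `↥P` on `Additive ↥V` and the context `Ctx` from the hypotheses of
S3000 (case `p = 2` with a transvection). -/

set_option autoImplicit false

namespace Cfsg.Agent.TV2

variable {G : Type*} [Group G]

/-- the module `V` written additively; the two proofs are carried so that instances can use them. -/
def WV (V P : Subgroup G) (_hV : Cfsg.IsElementaryAbelian 2 V) (_hPV : P ≤ Subgroup.normalizer (V : Set G)) : Type _ :=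
  Additive ↥V

variable {V P : Subgroup G} {hV : Cfsg.IsElementaryAbelian 2 V} {hPV : P ≤ Subgroup.normalizer (V : Set G)}

/-- from `V` to `WV`. -/
def toW (hV : Cfsg.IsElementaryAbelian 2 V) (hPV : P ≤ Subgroup.normalizer (V : Set G)) (v : ↥V) : WV V P hV hPV :=
  Additive.ofMul v

/-- from `WV` to `G`. -/
def ofW (w : WV V P hV hPV) : G := ((Additive.toMul (show Additive ↥V from w) : ↥V) : G)

theorem ofW_mem (w : WV V P hV hPV) : ofW w ∈ V := (Additive.toMul (show Additive ↥V from w) : ↥V).2

theorem ofW_toW (v : ↥V) : ofW (toW hV hPV v) = (v : G) := rfl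

theorem toW_ofW (w : WV V P hV hPV) : toW hV hPV ⟨ofW w, ofW_mem w⟩ = w := rfl

theorem ofW_injective : Function.Injective (ofW : WV V P hV hPV → G) := by
  intro a b h
  have : (Additive.toMul (show Additive ↥V from a) : ↥V) = Additive.toMul (show Additive ↥V from b) := Subtype.ext h
  exact Additive.toMul.injective this

instance instAddCommGroupWV : AddCommGroup (WV V P hV hPV) :=
  { (inferInstance : AddGroup (Additive ↥V)) with
    add_comm := fun a b => by
      have := hV.1
      show Additive.ofMul (Additive.toMul a * Additive.toMul b) = Additive.ofMul (Additive.toMul b * Additive.toMul a)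
      rw [mul_comm' (Additive.toMul a) (Additive.toMul b)] }

theorem ofW_add (a b : WV V P hV hPV) : ofW (a + b) = ofW a * ofW b := rfl

theorem ofW_zero : ofW (0 : WV V P hV hPV) = 1 := rfl

theorem ofW_neg (a : WV V P hV hPV) : ofW (-a) = (ofW a)⁻¹ := rfl

theorem two_nsmul_WV (a : WV V P hV hPV) : 2 • a = 0 := by
  apply ofW_injective
  rw [two_nsmul, ofW_add, ofW_zero, ← pow_two]
  exact hV.2 _ (ofW_mem a)

instance instModuleWV : Module (ZMod 2) (WV V P hV hPV) := AddCommGroup.zmodModule (n := 2) two_nsmul_WV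

theorem conj_mem_of_mem (hPV : P ≤ Subgroup.normalizer (V : Set G)) {g : G} (hg : g ∈ P) {v : G} (hv : v ∈ V) :
    g * v * g⁻¹ ∈ V := (Subgroup.mem_normalizer_iff.mp (hPV hg) v).mp hv

instance instSMulWV : SMul ↥P (WV V P hV hPV) where
  smul g w := toW hV hPV ⟨(g : G) * ofW w * (g : G)⁻¹, conj_mem_of_mem hPV g.2 (ofW_mem w)⟩

theorem ofW_smul (g : ↥P) (w : WV V P hV hPV) : ofW (g • w) = (g : G) * ofW w * (g : G)⁻¹ := rfl

instance instDistribMulActionWV : DistribMulAction ↥P (WV V P hV hPV) where
  one_smul w := by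
    apply ofW_injective
    rw [ofW_smul]; simp
  mul_smul g h w := by
    apply ofW_injective
    rw [ofW_smul, ofW_smul, ofW_smul]; simp [mul_assoc]
  smul_zero g := by
    apply ofW_injective
    rw [ofW_smul, ofW_zero]; simp
  smul_add g a b := by
    apply ofW_injective
    rw [ofW_smul, ofW_add, ofW_add, ofW_smul, ofW_smul]; group

instance instFiniteWV [Finite G] : Finite (WV V P hV hPV) :=
  Finite.of_injective (fun w => (⟨ofW w, ofW_mem w⟩ : ↥V)) (fun _ _ h => ofW_injective (congrArg Subtype.val h))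

/-- fixed vectors are centralized elements. -/
theorem smul_eq_iff (g : ↥P) (w : WV V P hV hPV) : g • w = w ↔ (g : G) * ofW w = ofW w * (g : G) := by
  constructor
  · intro h
    have := congrArg ofW h
    rw [ofW_smul] at this
    calc (g : G) * ofW w = (g : G) * ofW w * (g : G)⁻¹ * (g : G) := by group
      _ = ofW w * (g : G) := by rw [this]
  · intro h
    apply ofW_injective
    rw [ofW_smul, h]; group

end Cfsg.Agent.TV2

namespace Cfsg.Agent.TV2

/-- an element whose fixed points form an additive subgroup of index two acts as a transvection. -/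
theorem TR1_aux_tv_of_index_two {P : Type*} [Group P] {W : Type*} [AddCommGroup W] [Module (ZMod 2) W] [DistribMulAction P W]
    (a : P) (K : AddSubgroup W) (hK : ∀ w, w ∈ K ↔ a • w = w) (hidx : K.index = 2) : Tv W a := by
  classical
  obtain ⟨a0, h0⟩ := AddSubgroup.index_eq_two_iff.mp hidx
  have ha0 : a0 ∉ K := by
    have := h0 0
    rw [zero_add] at this
    rcases this with ⟨h1, h2⟩ | ⟨h1, h2⟩
    · exact absurd K.zero_mem h2
    · exact h2
  have hout : ∀ w, w ∉ K → w + a0 ∈ K := by
    intro w hw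
    rcases h0 w with ⟨h1, _⟩ | ⟨h1, _⟩
    · exact h1
    · exact absurd h1 hw
  have hin : ∀ w, w ∈ K → w + a0 ∉ K := by
    intro w hw
    rcases h0 w with ⟨_, h2⟩ | ⟨_, h2⟩
    · exact absurd hw h2
    · exact h2
  let φ : W →+ ZMod 2 := AddMonoidHom.mk' (fun w => if w ∈ K then 0 else 1) (by
    intro v w
    by_cases hv : v ∈ K <;> by_cases hw : w ∈ K
    · simp [hv, hw, K.add_mem hv hw]
    · have : v + w ∉ K := fun h => hw (by simpa using K.sub_mem h hv)
      simp [hv, hw, this]
    · have : v + w ∉ K := fun h => hv (by simpa using K.sub_mem h hw)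
      simp [hv, hw, this]
    · have h1 := K.add_mem (hout v hv) (hout w hw)
      have h2 : v + a0 + (w + a0) = v + w := by
        have := add_self_W a0
        calc v + a0 + (w + a0) = v + w + (a0 + a0) := by abel
          _ = v + w := by rw [this, add_zero]
      rw [h2] at h1
      simp only [hv, hw, h1, if_true, if_false]
      rfl)
  have hφ : ∀ w, φ w = if w ∈ K then 0 else 1 := fun w => rfl
  refine ⟨a • a0 - a0, φ, ?_, ?_, ?_⟩
  · intro h
    apply ha0
    rw [hK]
    exact sub_eq_zero.mp h
  · intro h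
    have := DFunLike.congr_fun h a0
    rw [hφ, if_neg ha0] at this
    exact one_ne_zero this
  · intro w
    by_cases hw : w ∈ K
    · rw [hφ, if_pos hw, zero_smul, add_zero]
      exact (hK w).mp hw
    · rw [hφ, if_neg hw, one_smul]
      have h1 := (hK _).mp (hout w hw)
      rw [smul_add] at h1
      have h2 : a • w = w + a0 - a • a0 := eq_sub_of_add_eq h1
      rw [h2, sub_eq_add_W, sub_eq_add_W]
      abel

variable {G : Type*} [Group G] [Finite G]
variable {V P : Subgroup G} {hV : Cfsg.IsElementaryAbelian 2 V} {hPV : P ≤ Subgroup.normalizer (V : Set G)}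

/-- the transvection hypothesis in `G` gives a transvection on `WV`. -/
theorem TR1_tv {a : G} (haP : a ∈ P) (haV : a ∉ Subgroup.centralizer (V : Set G))
    (hcard : Nat.card ↥V ≤ 2 * Nat.card ↥(V ⊓ Subgroup.centralizer ({a} : Set G))) :
    Tv (WV V P hV hPV) (⟨a, haP⟩ : ↥P) := by
  let K : AddSubgroup (WV V P hV hPV) :=
    { carrier := {w | (⟨a, haP⟩ : ↥P) • w = w}
      zero_mem' := smul_zero _
      add_mem' := fun {x y} hx hy => by
        show (⟨a, haP⟩ : ↥P) • (x + y) = x + y
        rw [smul_add, hx, hy]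
      neg_mem' := fun {x} hx => by
        show (⟨a, haP⟩ : ↥P) • (-x) = -x
        rw [smul_neg, hx] }
  have hK : ∀ w, w ∈ K ↔ (⟨a, haP⟩ : ↥P) • w = w := fun w => Iff.rfl
  apply TR1_aux_tv_of_index_two _ K hK
  -- cardinalities
  have h1 : Nat.card (WV V P hV hPV) ≤ Nat.card ↥V :=
    Nat.card_le_card_of_injective (fun w => (⟨ofW w, ofW_mem w⟩ : ↥V))
      (fun _ _ h => ofW_injective (congrArg Subtype.val h))
  have h2 : Nat.card ↥(V ⊓ Subgroup.centralizer ({a} : Set G)) ≤ Nat.card ↥K := by
    refine Nat.card_le_card_of_injective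
      (fun v => (⟨toW hV hPV ⟨(v : G), v.2.1⟩, ?_⟩ : ↥K)) ?_
    · rw [hK, smul_eq_iff, ofW_toW]
      have := (Subgroup.mem_centralizer_iff.mp v.2.2) a rfl
      exact this
    · intro x y h
      have := congrArg (fun k : ↥K => ofW (k : WV V P hV hPV)) h
      simp only [ofW_toW] at this
      exact Subtype.ext this
  have h3 := AddSubgroup.card_mul_index K
  have hpos : 0 < Nat.card ↥K := Nat.card_pos
  have hle : K.index ≤ 2 := by
    have : Nat.card ↥K * K.index ≤ Nat.card ↥K * 2 := by
      rw [h3]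
      calc Nat.card (WV V P hV hPV) ≤ Nat.card ↥V := h1
        _ ≤ 2 * Nat.card ↥(V ⊓ Subgroup.centralizer ({a} : Set G)) := hcard
        _ ≤ 2 * Nat.card ↥K := Nat.mul_le_mul_left 2 h2
        _ = Nat.card ↥K * 2 := Nat.mul_comm _ _
    exact Nat.le_of_mul_le_mul_left this hpos
  have hne0 : K.index ≠ 0 := AddSubgroup.index_ne_zero_of_finite
  have hne1 : K.index ≠ 1 := by
    intro h
    rw [AddSubgroup.index_eq_one] at h
    apply haV
    rw [Subgroup.mem_centralizer_iff]
    intro v hv
    have : toW hV hPV ⟨v, hv⟩ ∈ K := by rw [h]; trivial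
    rw [hK, smul_eq_iff, ofW_toW] at this
    exact this.symm
  omega

/-- the context `Ctx` built from the hypotheses of S3000 (`p = 2`, with a transvection). -/
noncomputable def mkCtx (V P : Subgroup G) (hV : Cfsg.IsElementaryAbelian 2 V) (hPV : P ≤ Subgroup.normalizer (V : Set G))
    (hfaith : P ⊓ Subgroup.centralizer (V : Set G) = ⊥) (hmin : Cfsg.IsPMinimal 2 ↥P) (T : Sylow 2 ↥P) (M : Subgroup ↥P)
    (hM : IsCoatom M) (hTM : (T : Subgroup ↥P) ≤ M) (hOp : Cfsg.pCore 2 ↥P = ⊥) (a : ↥P) (ha : Tv (WV V P hV hPV) a)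
    (hCT : P ⊓ Subgroup.centralizer ((V ⊓ Subgroup.centralizer ((((T : Subgroup ↥P).map P.subtype) : Subgroup G) : Set G)) : Set G)
      ≤ M.map P.subtype) : Ctx ↥P (WV V P hV hPV) where
  faith := by
    intro g hg
    have : (g : G) ∈ P ⊓ Subgroup.centralizer (V : Set G) := by
      refine Subgroup.mem_inf.mpr ⟨g.2, ?_⟩
      rw [Subgroup.mem_centralizer_iff]
      intro v hv
      have := (smul_eq_iff g (toW hV hPV ⟨v, hv⟩)).mp (hg _)
      rw [ofW_toW] at this
      exact this.symm
    rw [hfaith, Subgroup.mem_bot] at this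
    exact Subtype.ext this
  hmin := hmin
  T := T
  M := M
  hM := hM
  hTM := hTM
  hOp := hOp
  a := a
  ha := ha
  hCT := by
    intro g hg
    have : (g : G) ∈ P ⊓ Subgroup.centralizer
        ((V ⊓ Subgroup.centralizer ((((T : Subgroup ↥P).map P.subtype) : Subgroup G) : Set G)) : Set G) := by
      refine Subgroup.mem_inf.mpr ⟨g.2, ?_⟩
      rw [Subgroup.mem_centralizer_iff]
      intro v hv
      have hv := Subgroup.mem_inf.mp hv
      have hfix : ∀ t ∈ (T : Subgroup ↥P), t • toW hV hPV ⟨v, hv.1⟩ = toW hV hPV ⟨v, hv.1⟩ := by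
        intro t ht
        rw [smul_eq_iff, ofW_toW]
        exact (Subgroup.mem_centralizer_iff.mp hv.2) (t : G) ⟨t, ht, rfl⟩
      have := (smul_eq_iff g _).mp (hg _ hfix)
      rw [ofW_toW] at this
      exact this.symm
    obtain ⟨m, hm, hmg⟩ := hCT this
    have : m = g := Subtype.ext hmg
    rwa [← this]

end Cfsg.Agent.TV2
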