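import Mathlib
import Cfsg.Prelude.Def_GeometricClasses
import Cfsg.Prelude.Def_ClassicalGeometry

set_option autoImplicit false
open scoped MatrixGroups

/-! S5976 (PSp_{2d}(q), q odd, subgroups of type GU_d(q)): shared definitions. -/

namespace Cfsg.Agent.S5976P

/-- The hypotheses on the quadratic field subalgebra `K` of the statement S5976. -/
structure HypK (d : ℕ) (F : Type*) [Field F]
    (K : Subalgebra F (Matrix (Fin d ⊕ Fin d) (Fin d ⊕ Fin d) F)) : Prop where
  field : Cfsg.Geo.IsFieldSubalgebra 2 K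
  adj : Cfsg.Geo.IsAdjointClosedFor (Cfsg.sympForm d F) K
  ns : ¬ Cfsg.Geo.IsSelfAdjointFor (Cfsg.sympForm d F) K

/-- `ι` is a generator of `K` which is a root of `X² - t X + n`, with adjoint `t - ι`. -/
structure IsGen (d : ℕ) (F : Type*) [Field F]
    (K : Subalgebra F (Matrix (Fin d ⊕ Fin d) (Fin d ⊕ Fin d) F)) (t n : F)
    (ι : Matrix (Fin d ⊕ Fin d) (Fin d ⊕ Fin d) F) : Prop where
  mem : ι ∈ K
  sq : ι * ι = t • ι - n • (1 : Matrix (Fin d ⊕ Fin d) (Fin d ⊕ Fin d) F)
  adj : ∀ u v : Fin d ⊕ Fin d → F, Cfsg.sympForm d F (ι.mulVec u) v =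
    Cfsg.sympForm d F u ((t • (1 : Matrix (Fin d ⊕ Fin d) (Fin d ⊕ Fin d) F) - ι).mulVec v)
  span : ∀ k ∈ K, ∃ α β : F, k = α • (1 : Matrix (Fin d ⊕ Fin d) (Fin d ⊕ Fin d) F) + β • ι

/-- `e` is a `K`-orthonormal frame w.r.t. the generator `ι`: the vectors `e a, ι e a` form a basis
of `F^{2d}` with Gram matrix the standard hyperbolic one. -/
structure IsFrame (d : ℕ) (F : Type*) [Field F]
    (ι : Matrix (Fin d ⊕ Fin d) (Fin d ⊕ Fin d) F) (e : Fin d → (Fin d ⊕ Fin d → F)) : Prop where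
  orth00 : ∀ a b, Cfsg.sympForm d F (e a) (e b) = 0
  orth01 : ∀ a b, Cfsg.sympForm d F (e a) (ι.mulVec (e b)) = if a = b then 1 else 0
  orth11 : ∀ a b, Cfsg.sympForm d F (ι.mulVec (e a)) (ι.mulVec (e b)) = 0
  indep : LinearIndependent F (Sum.elim e (fun a => ι.mulVec (e a)))

theorem fromBlocks_sub' {l m : Type*} {α : Type*} [AddGroup α] (A A' : Matrix l l α)
    (B B' : Matrix l m α) (C C' : Matrix m l α) (D D' : Matrix m m α) :
    Matrix.fromBlocks A B C D - Matrix.fromBlocks A' B' C' D' =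
      Matrix.fromBlocks (A - A') (B - B') (C - C') (D - D') := by
  ext (i|i) (j|j) <;> rfl

/-- The standard generator: `ι₀ e_{inr a} = e_{inl a}`, `ι₀ e_{inl a} = t e_{inl a} - n e_{inr a}`. -/
def iota0 (d : ℕ) (F : Type*) [Field F] (t n : F) : Matrix (Fin d ⊕ Fin d) (Fin d ⊕ Fin d) F :=
  Matrix.fromBlocks (t • 1) 1 (-n • 1) 0

theorem iota0_sq (d : ℕ) (F : Type*) [Field F] (t n : F) :
    iota0 d F t n * iota0 d F t n =
      t • iota0 d F t n - n • (1 : Matrix (Fin d ⊕ Fin d) (Fin d ⊕ Fin d) F) := by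
  unfold iota0
  rw [Matrix.fromBlocks_multiply, Matrix.fromBlocks_smul, ← Matrix.fromBlocks_one,
    Matrix.fromBlocks_smul, fromBlocks_sub']
  congr 1
  · simp only [smul_mul_assoc, one_mul, smul_smul]
    rw [sub_eq_add_neg, neg_smul]
  · simp
  · simp only [mul_smul_comm, mul_one, zero_mul, add_zero, smul_smul, smul_zero, sub_zero,
      mul_comm]
  · simp

theorem sympForm_eq (d : ℕ) (F : Type*) [Field F] (u v : Fin d ⊕ Fin d → F) :
    Cfsg.sympForm d F u v = u ⬝ᵥ (Matrix.J (Fin d) F).mulVec v := rfl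

theorem iota0_adj (d : ℕ) (F : Type*) [Field F] (t n : F) (u v : Fin d ⊕ Fin d → F) :
    Cfsg.sympForm d F ((iota0 d F t n).mulVec u) v =
      Cfsg.sympForm d F u
        ((t • (1 : Matrix (Fin d ⊕ Fin d) (Fin d ⊕ Fin d) F) - iota0 d F t n).mulVec v) := by
  rw [sympForm_eq, sympForm_eq, Matrix.mulVec_mulVec, ← Matrix.vecMul_transpose,
    ← Matrix.dotProduct_mulVec, Matrix.mulVec_mulVec]
  have h : (iota0 d F t n).transpose * Matrix.J (Fin d) F =
      Matrix.J (Fin d) F * (t • (1 : Matrix (Fin d ⊕ Fin d) (Fin d ⊕ Fin d) F) - iota0 d F t n) := by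
    unfold iota0 Matrix.J
    rw [Matrix.fromBlocks_transpose, Matrix.fromBlocks_multiply, ← Matrix.fromBlocks_one,
      Matrix.fromBlocks_smul, fromBlocks_sub', Matrix.fromBlocks_multiply]
    congr 1 <;> simp
  rw [h]

theorem sympForm_single_single (d : ℕ) (F : Type*) [Field F] (s t : Fin d ⊕ Fin d) :
    Cfsg.sympForm d F (Pi.single s 1) (Pi.single t 1) = Matrix.J (Fin d) F s t := by
  rw [sympForm_eq, Matrix.mulVec_single_one, single_one_dotProduct]
  rfl

theorem iota0_mulVec_inr (d : ℕ) (F : Type*) [Field F] (t n : F) (a : Fin d) :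
    (iota0 d F t n).mulVec (Pi.single (Sum.inr a) 1) = Pi.single (Sum.inl a) 1 := by
  rw [Matrix.mulVec_single_one]
  funext s
  rcases s with s | s
  · simp [iota0, Matrix.one_apply, Pi.single_apply, eq_comm]
  · simp [iota0, Pi.single_apply]

/-- the standard frame of `iota0`. -/
theorem stdFrame (d : ℕ) (F : Type*) [Field F] (t n : F) :
    IsFrame d F (iota0 d F t n) (fun a => Pi.single (Sum.inr a) 1) where
  orth00 := fun a b => by
    rw [sympForm_single_single]
    simp [Matrix.J]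
  orth01 := fun a b => by
    rw [iota0_mulVec_inr, sympForm_single_single]
    simp [Matrix.J, Matrix.one_apply]
  orth11 := fun a b => by
    rw [iota0_mulVec_inr, iota0_mulVec_inr, sympForm_single_single]
    simp [Matrix.J]
  indep := by
    have h : (Sum.elim (fun a : Fin d => (Pi.single (Sum.inr a) 1 : Fin d ⊕ Fin d → F))
        (fun a => (iota0 d F t n).mulVec (Pi.single (Sum.inr a) 1))) =
        (fun s => Pi.basisFun F (Fin d ⊕ Fin d) (Sum.swap s)) := by
      funext s
      rcases s with s | s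
      · simp
      · rw [Sum.elim_inr, iota0_mulVec_inr]
        simp
    rw [h]
    exact (Pi.basisFun F (Fin d ⊕ Fin d)).linearIndependent.comp _ Sum.swap_leftInverse.injective

end Cfsg.Agent.S5976P
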