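import Cfsg.Agent.Helper29.TwoDegF

set_option autoImplicit false

namespace Cfsg.Agent.Helper29.TwoDeg

open Cfsg Cfsg.Agent.Helper24
open scoped commutatorElement

universe u

/-- Isaacs 12.6: a group with two character degrees has abelian commutator subgroup. -/
theorem two_degrees_commutator_comm {G : Type u} [Group G] [Finite G] (m : ℕ)
    (hcd : ∀ χ : IrrCharacter G, charDegree (χ : G → ℂ) = 1 ∨ charDegree (χ : G → ℂ) = m)
    (hm : ∃ χ : IrrCharacter G, charDegree (χ : G → ℂ) = m) (hm1 : m ≠ 1) :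
    ∀ a ∈ commutator G, ∀ b ∈ commutator G, a * b = b * a := by
  classical
  have : Fintype G := Fintype.ofFinite G
  have h : TwoDegrees G m := hcd
  rcases two_degrees_structure m hcd hm hm1 with
    ⟨A, hAn, hAab, hAidx⟩ | ⟨p, e, hp, hme, P, A, hPn, hAn, hPp, hAab, hinf, hsup⟩
  · -- abelian normal subgroup of index m
    have hle : commutator G ≤ A := by
      by_contra hcon
      have : Fintype (G ⧸ A) := Fintype.ofFinite _
      have : Fintype (IrrCharacter (G ⧸ A)) := Fintype.ofFinite _
      have hna := quot_nonabelian A hcon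
      obtain ⟨⟨χ, hχ⟩, hm2⟩ := (h.quot A).exists_deg hna
      have hsum := sum_irrDeg_sq (G := G ⧸ A)
      rw [← Subgroup.index_eq_card, hAidx] at hsum
      have hle : irrDeg χ ^ 2 ≤ ∑ χ : IrrCharacter (G ⧸ A), irrDeg χ ^ 2 :=
        Finset.single_le_sum (f := fun χ : IrrCharacter (G ⧸ A) => irrDeg χ ^ 2)
          (fun _ _ => Nat.zero_le _) (Finset.mem_univ χ)
      rw [hsum, hχ] at hle
      nlinarith
    intro a ha b hb
    exact hAab a (hle ha) b (hle hb)
  · -- direct product of a p-group and an abelian group: nilpotent, hence an M-group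
    have : Fact p.Prime := ⟨hp⟩
    have hdecomp : ∀ g : G, ∃ x ∈ P, ∃ y ∈ A, x * y = g := by
      intro g
      have hg : g ∈ P ⊔ A := by rw [hsup]; exact Subgroup.mem_top g
      exact Subgroup.mem_sup_of_normal_right.mp hg
    have hPA : ∀ x ∈ P, ∀ a ∈ A, x * a = a * x := by
      intro x hx a ha
      have h1 : x * a * x⁻¹ * a⁻¹ ∈ P ⊓ A := by
        refine ⟨?_, ?_⟩
        · have : x * a * x⁻¹ * a⁻¹ = x * (a * x⁻¹ * a⁻¹) := by group
          rw [this]
          exact P.mul_mem hx (hPn.conj_mem _ (P.inv_mem hx) a)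
        · exact A.mul_mem (hAn.conj_mem a ha x) (A.inv_mem ha)
      rw [hinf, Subgroup.mem_bot] at h1
      calc x * a = (x * a * x⁻¹ * a⁻¹) * (a * x) := by group
        _ = a * x := by rw [h1, one_mul]
    have hcen : A ≤ Subgroup.center G := by
      intro a ha
      rw [Subgroup.mem_center_iff]
      intro g
      obtain ⟨x, hx, y, hy, rfl⟩ := hdecomp g
      rw [mul_assoc, hAab y hy a ha, ← mul_assoc, hPA x hx a ha, mul_assoc]
    have hpq : IsPGroup p (G ⧸ A) := by
      intro q
      obtain ⟨g, rfl⟩ := QuotientGroup.mk_surjective q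
      obtain ⟨x, hx, y, hy, rfl⟩ := hdecomp g
      obtain ⟨k, hk⟩ := hPp ⟨x, hx⟩
      refine ⟨k, ?_⟩
      have hxk : x ^ p ^ k = 1 := by
        have := congrArg Subtype.val hk
        simpa using this
      have h1 : ((x * y : G) : G ⧸ A) = (x : G ⧸ A) := by
        rw [QuotientGroup.mk_mul, (QuotientGroup.eq_one_iff y).mpr hy, mul_one]
      rw [h1, ← QuotientGroup.mk_pow, hxk]
      rfl
    have hnilq : Group.IsNilpotent (G ⧸ A) := hpq.isNilpotent
    have hnil : Group.IsNilpotent G :=
      Subgroup.isNilpotent_of_ker_le_center (QuotientGroup.mk' A)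
        (by rw [QuotientGroup.ker_mk']; exact hcen)
    have hM : ∀ χ : G → ℂ, IsIrrCharacter G χ → ∃ (H : Subgroup G) (lam : H →* ℂˣ),
        χ = indFun H (fun h => (lam h : ℂ)) :=
      fun χ hχ => isMonomial_of_nilpotent_aux (Nat.card G) G rfl χ hχ
    exact commutator_comm_of_monomial h hM

end Cfsg.Agent.Helper29.TwoDeg
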