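import Cfsg.Agent.Helper29.SymIndex

set_option autoImplicit false
set_option linter.unusedSectionVars false

namespace Cfsg.Agent.Helper29.AutAlt

open Equiv Equiv.Perm Nat
open scoped Pointwise

/-- `(3k-3)! > 2 * 3^(k-1) * k!` for `k ≥ 3`. -/
theorem fact_gt (k : ℕ) (hk : 3 ≤ k) : 2 * 3 ^ (k - 1) * k ! < (3 * k - 3)! := by
  induction k, hk using Nat.le_induction with
  | base => decide
  | succ k hk ih =>
    obtain ⟨j, hj⟩ : ∃ j, 3 * k - 3 = j := ⟨_, rfl⟩
    have e1 : 3 * (k + 1) - 3 = j + 3 := by omega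
    have e2 : (j + 3)! = (j + 3) * (j + 2) * (j + 1) * j ! := by
      rw [Nat.factorial_succ, Nat.factorial_succ, Nat.factorial_succ]; ring
    have e3 : k + 1 - 1 = (k - 1) + 1 := by omega
    rw [hj] at ih
    rw [e1, e2, e3, pow_succ, Nat.factorial_succ k]
    have h1 : 3 * (k + 1) ≤ (j + 3) * (j + 2) * (j + 1) := by
      have hj6 : 6 ≤ j := by omega
      have : 3 * (k + 1) = j + 6 := by omega
      rw [this]
      nlinarith [mul_pos (show 0 < j + 2 by omega) (show 0 < j + 1 by omega)]
    calc 2 * (3 ^ (k - 1) * 3) * ((k + 1) * k !) = (3 * (k + 1)) * (2 * 3 ^ (k - 1) * k !) := by ring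
      _ < (3 * (k + 1)) * j ! := Nat.mul_lt_mul_of_pos_left ih (by omega)
      _ ≤ ((j + 3) * (j + 2) * (j + 1)) * j ! := Nat.mul_le_mul_right _ h1

theorem three_aux (n k r₁ r₂ : ℕ) (hk : 1 ≤ k) (hkn : 3 * k ≤ n)
    (hr₁ : r₁ = 1 ∨ r₁ = 2) (hr₂ : r₂ = 1 ∨ r₂ = 2)
    (h : r₁ * ((n - 3 * k)! * 3 ^ k * k !) = r₂ * ((n - 3)! * 3)) : k = 1 ∨ n = 6 := by
  obtain ⟨m, rfl⟩ : ∃ m, n = m + 3 * k := ⟨n - 3 * k, by omega⟩
  rw [Nat.add_sub_cancel] at h
  by_cases hk1 : k = 1
  · exact Or.inl hk1
  right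
  have hk2 : 2 ≤ k := by omega
  have e : m + 3 * k - 3 = m + (3 * k - 3) := by omega
  rw [e] at h
  have hm : 0 < m ! := Nat.factorial_pos m
  have h1 : m ! * (3 * k - 3)! ≤ (m + (3 * k - 3))! :=
    Nat.le_of_dvd (Nat.factorial_pos _) (Nat.factorial_mul_factorial_dvd_factorial_add _ _)
  by_cases hk3 : 3 ≤ k
  · exfalso
    have h2 := fact_gt k hk3
    have e3 : 3 ^ k = 3 ^ (k - 1) * 3 := by
      rw [← pow_succ]; congr 1; omega
    rw [e3] at h
    have hr₁' : r₁ ≤ 2 := by rcases hr₁ with h | h <;> omega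
    have hr₂' : 1 ≤ r₂ := by rcases hr₂ with h | h <;> omega
    -- r₁ * m! * 3^(k-1) * 3 * k! = r₂ * (m + (3k-3))! * 3
    have h3 : r₁ * (m ! * (3 ^ (k - 1)) * k !) = r₂ * (m + (3 * k - 3))! := by
      have : (r₁ * (m ! * (3 ^ (k - 1)) * k !)) * 3 = (r₂ * (m + (3 * k - 3))!) * 3 := by
        linarith [h]
      exact Nat.eq_of_mul_eq_mul_right (by norm_num) this
    have h4 : r₂ * (m + (3 * k - 3))! ≥ m ! * (3 * k - 3)! := by
      calc m ! * (3 * k - 3)! ≤ (m + (3 * k - 3))! := h1
        _ = 1 * (m + (3 * k - 3))! := (one_mul _).symm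
        _ ≤ r₂ * (m + (3 * k - 3))! := Nat.mul_le_mul_right _ hr₂'
    have h5 : r₁ * (m ! * (3 ^ (k - 1)) * k !) ≤ m ! * (2 * 3 ^ (k - 1) * k !) := by
      calc r₁ * (m ! * (3 ^ (k - 1)) * k !) ≤ 2 * (m ! * (3 ^ (k - 1)) * k !) :=
            Nat.mul_le_mul_right _ hr₁'
        _ = m ! * (2 * 3 ^ (k - 1) * k !) := by ring
    have h6 : m ! * (2 * 3 ^ (k - 1) * k !) < m ! * (3 * k - 3)! :=
      Nat.mul_lt_mul_of_pos_left h2 hm
    omega
  · have hk2' : k = 2 := by omega
    subst hk2'
    have e2 : (m + (3 * 2 - 3))! = (m + 3) * (m + 2) * (m + 1) * m ! := by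
      show (m + 3)! = _
      rw [Nat.factorial_succ, Nat.factorial_succ, Nat.factorial_succ]; ring
    rw [e2] at h
    have h2f : (2 : ℕ)! = 2 := rfl
    rw [h2f] at h
    have h3 : r₁ * 6 = r₂ * ((m + 3) * (m + 2) * (m + 1)) := by
      have : (r₁ * 6) * (3 * m !) = (r₂ * ((m + 3) * (m + 2) * (m + 1))) * (3 * m !) := by
        nlinarith [h]
      exact Nat.eq_of_mul_eq_mul_right (by positivity) this
    by_contra hne
    have hm1 : 1 ≤ m := by omega
    have : 24 ≤ (m + 3) * (m + 2) * (m + 1) := by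
      have : 4 ≤ m + 3 := by omega
      have : 3 ≤ m + 2 := by omega
      have : 2 ≤ m + 1 := by omega
      calc 24 = 4 * 3 * 2 := rfl
        _ ≤ (m + 3) * (m + 2) * (m + 1) := by gcongr
    rcases hr₁ with rfl | rfl <;> rcases hr₂ with rfl | rfl <;> omega

section
variable {α : Type*} [Fintype α] [DecidableEq α]

/-- The centralizer in the alternating group has index at most two in the centralizer in the
symmetric group. -/
theorem card_centralizer_alt (x : alternatingGroup α) :
    ∃ r, (r = 1 ∨ r = 2) ∧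
      r * Nat.card (Subgroup.centralizer ({x} : Set (alternatingGroup α))) =
        Nat.card (Subgroup.centralizer ({(x : Perm α)} : Set (Perm α))) := by
  set C := Subgroup.centralizer ({(x : Perm α)} : Set (Perm α)) with hC
  have h1 : (Subgroup.centralizer ({x} : Set (alternatingGroup α))).map
      (alternatingGroup α).subtype = alternatingGroup α ⊓ C := by
    ext g
    simp only [Subgroup.mem_map, Subgroup.mem_inf, Subgroup.mem_centralizer_iff,
      Set.mem_singleton_iff, forall_eq, Subgroup.coe_subtype, hC]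
    constructor
    · rintro ⟨h, hh, rfl⟩
      exact ⟨h.2, by
        have := congrArg Subtype.val hh
        simpa using this⟩
    · rintro ⟨hgA, hg⟩
      exact ⟨⟨g, hgA⟩, Subtype.ext (by simpa using hg), rfl⟩
  have h2 : ((alternatingGroup α).subgroupOf C).map C.subtype = alternatingGroup α ⊓ C :=
    Subgroup.subgroupOf_map_subtype (alternatingGroup α) C
  have c1 : Nat.card (Subgroup.centralizer ({x} : Set (alternatingGroup α))) =
      Nat.card ↥(alternatingGroup α ⊓ C) := by
    rw [← h1]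
    exact (Subgroup.card_map_of_injective (Subgroup.subtype_injective _)).symm
  have c2 : Nat.card ((alternatingGroup α).subgroupOf C) =
      Nat.card ↥(alternatingGroup α ⊓ C) := by
    rw [← h2]
    exact (Subgroup.card_map_of_injective (Subgroup.subtype_injective C)).symm
  have c3 : Nat.card ((alternatingGroup α).subgroupOf C) *
      ((alternatingGroup α).subgroupOf C).index = Nat.card C :=
    Subgroup.card_mul_index _
  have hdvd : ((alternatingGroup α).subgroupOf C).index ∣ 2 := by
    by_cases hnt : Nontrivial α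
    · have := Subgroup.relIndex_dvd_index_of_normal (alternatingGroup α) C
      rwa [alternatingGroup.index_eq_two] at this
    · have hss : Subsingleton α := not_nontrivial_iff_subsingleton.mp hnt
      have : Subsingleton (Perm α) := inferInstance
      have htop : (alternatingGroup α).subgroupOf C = ⊤ := by
        rw [eq_top_iff]; intro g _
        rw [Subgroup.mem_subgroupOf]
        have : (g : Perm α) = 1 := Subsingleton.elim _ _
        rw [this]; exact (alternatingGroup α).one_mem
      rw [htop, Subgroup.index_top]; exact one_dvd 2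
  refine ⟨((alternatingGroup α).subgroupOf C).index, ?_, ?_⟩
  · have := Nat.le_of_dvd (by norm_num) hdvd
    have h0 : ((alternatingGroup α).subgroupOf C).index ≠ 0 := Subgroup.index_ne_zero_of_finite
    interval_cases h : ((alternatingGroup α).subgroupOf C).index
    · exact absurd rfl h0
    · exact Or.inl rfl
    · exact Or.inr rfl
  · rw [c1, ← c2, mul_comm]; exact c3

/-- An isomorphism between alternating groups of the same degree `≠ 6` maps 3-cycles to
3-cycles. -/
theorem isThreeCycle_map {β : Type*} [Fintype β] [DecidableEq β]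
    (hcard : Fintype.card α = Fintype.card β) (h6 : Fintype.card α ≠ 6)
    (Φ : alternatingGroup α ≃* alternatingGroup β) {c : alternatingGroup α}
    (hc : (c : Perm α).IsThreeCycle) : ((Φ c : alternatingGroup β) : Perm β).IsThreeCycle := by
  have ho : orderOf ((Φ c : alternatingGroup β) : Perm β) = 3 := by
    rw [Subgroup.orderOf_coe, MulEquiv.orderOf_eq, ← Subgroup.orderOf_coe, hc.orderOf]
  obtain ⟨m, hm⟩ := cycleType_prime_order (σ := ((Φ c : alternatingGroup β) : Perm β))
    (by rw [ho]; exact Nat.prime_three)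
  rw [ho] at hm
  set k := m + 1 with hk
  obtain ⟨r₁, hr₁, e₁⟩ := card_centralizer_alt (Φ c)
  obtain ⟨r₂, hr₂, e₂⟩ := card_centralizer_alt c
  have hcent : Nat.card (Subgroup.centralizer ({c} : Set (alternatingGroup α))) =
      Nat.card (Subgroup.centralizer ({Φ c} : Set (alternatingGroup β))) := by
    apply Nat.card_congr
    refine Equiv.subtypeEquiv Φ.toEquiv (fun g => ?_)
    simp only [Subgroup.mem_centralizer_iff, Set.mem_singleton_iff, forall_eq,
      MulEquiv.toEquiv_eq_coe, EquivLike.coe_coe]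
    rw [← map_mul, ← map_mul, Φ.injective.eq_iff]
  rw [nat_card_centralizer] at e₁ e₂
  have htc : (c : Perm α).cycleType = {3} := hc
  rw [htc] at e₂
  rw [hm] at e₁
  have hts : (Multiset.replicate k 3).toFinset = {3} := by
    rw [Multiset.toFinset_replicate, if_neg (by omega)]
  rw [Multiset.sum_replicate, Multiset.prod_replicate, hts, Finset.prod_singleton,
    Multiset.count_replicate_self, smul_eq_mul] at e₁
  simp only [Multiset.sum_singleton, Multiset.prod_singleton, Multiset.toFinset_singleton,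
    Finset.prod_singleton, Multiset.count_singleton_self, Nat.factorial_one, mul_one] at e₂
  have h3k : 3 * k ≤ Fintype.card α := by
    have := sum_cycleType_le ((Φ c : alternatingGroup β) : Perm β)
    rw [hm, Multiset.sum_replicate, smul_eq_mul] at this
    omega
  have key : r₂ * ((Fintype.card α - 3 * k)! * 3 ^ k * k !) =
      r₁ * ((Fintype.card α - 3)! * 3) := by
    have e₁' : r₁ * Nat.card (Subgroup.centralizer ({Φ c} : Set (alternatingGroup β))) =
        (Fintype.card α - 3 * k)! * 3 ^ k * k ! := by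
      rw [hcard, mul_comm 3 k]; exact e₁
    rw [← e₁', ← e₂, hcent]
    ring
  rcases three_aux _ k r₂ r₁ (by omega) h3k hr₂ hr₁ key with h1 | h1
  · show _ = _
    rw [hm, h1]; rfl
  · exact absurd h1 h6

end

section ThreeCycles
variable {α : Type*} [Fintype α] [DecidableEq α]

theorem three_apply {c : Perm α} (hc : c.IsThreeCycle) (a : α) : c (c (c a)) = a := by
  have h3 : c ^ 3 = 1 := by rw [← hc.orderOf]; exact pow_orderOf_eq_one c
  have := congrArg (fun σ : Perm α => σ a) h3
  simpa [pow_succ, Perm.mul_apply] using this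

theorem three_distinct {c : Perm α} (hc : c.IsThreeCycle) {a : α} (ha : c a ≠ a) :
    c (c a) ≠ a ∧ c (c a) ≠ c a := by
  constructor
  · intro h
    apply ha
    have := three_apply hc a
    rw [h] at this
    exact this
  · intro h
    exact ha (c.injective h)

/-- the support of a 3-cycle is the orbit of any moved point -/
theorem three_support {c : Perm α} (hc : c.IsThreeCycle) {a : α} (ha : c a ≠ a) (z : α)
    (hz : c z ≠ z) : z = a ∨ z = c a ∨ z = c (c a) := by
  have h1 : c a ≠ c (c a) := fun h => ha (c.injective h).symm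
  have h2 : a ≠ c (c a) := by
    intro h
    apply ha
    have := three_apply hc a
    rw [← h] at this
    exact this
  have hsub : ({a, c a, c (c a)} : Finset α) ⊆ c.support := by
    intro w hw
    simp only [Finset.mem_insert, Finset.mem_singleton] at hw
    rw [Perm.mem_support]
    rcases hw with rfl | rfl | rfl
    · exact ha
    · exact fun h => ha (c.injective h)
    · exact fun h => ha (c.injective (c.injective h))
  have hcard : ({a, c a, c (c a)} : Finset α).card = 3 := by
    rw [Finset.card_insert_of_notMem, Finset.card_insert_of_notMem, Finset.card_singleton]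
    · simpa using h1
    · simp only [Finset.mem_insert, Finset.mem_singleton, not_or]
      exact ⟨Ne.symm ha, h2⟩
  have heq : ({a, c a, c (c a)} : Finset α) = c.support :=
    Finset.eq_of_subset_of_card_le hsub (by rw [hcard, hc.card_support])
  have : z ∈ c.support := Perm.mem_support.mpr hz
  rw [← heq] at this
  simpa using this

/-- two 3-cycles with a common oriented edge `a → b → x` are equal -/
theorem three_ext {c c' : Perm α} (hc : c.IsThreeCycle) (hc' : c'.IsThreeCycle) {a : α}
    (ha : c a ≠ a) (h1 : c a = c' a) (h2 : c (c a) = c' (c a)) : c = c' := by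
  have ha' : c' a ≠ a := by rw [← h1]; exact ha
  ext q
  by_cases hq1 : q = a
  · rw [hq1, h1]
  by_cases hq2 : q = c a
  · rw [hq2, h2]
  by_cases hq3 : q = c (c a)
  · rw [hq3, three_apply hc a]
    have := three_apply hc' a
    rw [← h1, ← h2] at this
    exact this.symm
  have e1 : c q = q := by
    by_contra h
    rcases three_support hc ha q h with h | h | h
    · exact hq1 h
    · exact hq2 h
    · exact hq3 h
  have e2 : c' q = q := by
    by_contra h
    rcases three_support hc' ha' q h with h | h | h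
    · exact hq1 h
    · exact hq2 (by rw [h1]; exact h)
    · exact hq3 (by rw [h2, h1]; exact h)
  rw [e1, e2]

/-- The relation "the product has order two" between 3-cycles. -/
def Rel (c c' : Perm α) : Prop := (c * c') * (c * c') = 1 ∧ c * c' ≠ 1

theorem Rel.ne {c c' : Perm α} (hc : c.IsThreeCycle) (h : Rel c c') : c ≠ c' := by
  rintro rfl
  obtain ⟨h1, h2⟩ := h
  apply h2
  have h3 : c ^ 3 = 1 := by rw [← hc.orderOf]; exact pow_orderOf_eq_one c
  have h4 : c ^ 4 = 1 := by
    rw [← h1, show (4 : ℕ) = 2 + 2 from rfl, pow_add, pow_two]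
  have : c = 1 := by
    have : c ^ 4 = c ^ 3 * c := pow_succ c 3
    rw [h4, h3, one_mul] at this
    exact this.symm
  rw [this, one_mul]

/-- Lemma E': related 3-cycles share an oriented edge. -/
theorem Rel.exists_common {c c' : Perm α} (hc : c.IsThreeCycle) (hc' : c'.IsThreeCycle)
    (h : Rel c c') : ∃ a, c a = c' a ∧ c a ≠ a := by
  obtain ⟨hm2, hm1⟩ := h
  have hm : ∀ q, c (c' (c (c' q))) = q := by
    intro q
    have := congrArg (fun σ : Perm α => σ q) hm2
    simpa [Perm.mul_apply] using this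
  -- a point moved by both
  have hex : ∃ p, c p ≠ p ∧ c' p ≠ p := by
    by_contra hcon
    push Not at hcon
    have hd : Perm.Disjoint c c' := by
      intro p
      by_cases hp : c p = p
      · exact Or.inl hp
      · exact Or.inr (hcon p hp)
    have hcomm := hd.commute
    have h3 : c ^ 3 = 1 := by rw [← hc.orderOf]; exact pow_orderOf_eq_one c
    have h3' : c' ^ 3 = 1 := by rw [← hc'.orderOf]; exact pow_orderOf_eq_one c'
    have h4 : (c * c') ^ 3 = 1 := by rw [hcomm.mul_pow, h3, h3', one_mul]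
    apply hm1
    have : (c * c') ^ 3 = (c * c') * (c * c') * (c * c') := by
      rw [pow_succ, pow_two]
    rw [this, hm2, one_mul] at h4
    exact h4
  obtain ⟨p, hp, hp'⟩ := hex
  by_cases hbb : c p = c' p
  · exact ⟨p, hbb, hp⟩
  -- names: c : p → b → z → p, c' : p → b' → z' → p
  have hcz : c (c (c p)) = p := three_apply hc p
  have hcz' : c' (c' (c' p)) = p := three_apply hc' p
  -- m b = z'
  have hmb : c (c' (c p)) = c' (c' p) := by
    have := hm (c' (c' p))
    rw [hcz'] at this
    exact this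
  by_cases hzz : c' (c' p) = c (c p)
  · -- common edge z → p
    refine ⟨c (c p), ?_, ?_⟩
    · rw [hcz, ← hzz, hcz']
    · rw [hcz]; exact (three_distinct hc hp).1.symm
  by_cases hzb : c' (c' p) = c p
  · -- c' = c⁻¹, contradiction
    exfalso
    apply hm1
    -- z = b'
    have hcb : c' (c p) = p := by rw [← hzb]; exact hcz'
    -- m b' = z
    have hmb' : c (c' (c' p)) = c (c p) := by rw [hzb]
    -- m z = b'
    have hmz : c (c' (c (c p))) = c' p := by
      have := hm (c' p)
      rw [hmb'] at this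
      exact this
    have hz_moved : c' (c (c p)) ≠ c (c p) := by
      intro h
      rw [h, hcz] at hmz
      exact hp' hmz.symm
    have hzb' : c (c p) = c' p := by
      rcases three_support hc' hp' _ hz_moved with h | h | h
      · exact absurd h (three_distinct hc hp).1
      · exact h
      · exfalso
        rw [hzb] at h
        exact hp (c.injective h)
    ext q
    rw [Perm.mul_apply, Perm.one_apply]
    by_cases hq1 : q = p
    · rw [hq1, ← hzb', hcz]
    by_cases hq2 : q = c p
    · rw [hq2, hcb]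
    by_cases hq3 : q = c (c p)
    · rw [hq3, hmz, hzb']
    have e2 : c' q = q := by
      by_contra h
      rcases three_support hc' hp' q h with h | h | h
      · exact hq1 h
      · exact hq3 (by rw [hzb']; exact h)
      · exact hq2 (by rw [← hzb]; exact h)
    have e1 : c q = q := by
      by_contra h
      rcases three_support hc hp q h with h | h | h
      · exact hq1 h
      · exact hq2 h
      · exact hq3 h
    rw [e2, e1]
  · -- z' not in the support of c
    exfalso
    have hz'p : c' (c' p) ≠ p := by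
      intro h
      apply hp'
      have := hcz'
      rw [h] at this
      exact this
    have hcz'fix : c (c' (c' p)) = c' (c' p) := by
      by_contra h
      rcases three_support hc hp _ h with h | h | h
      · exact hz'p h
      · exact hzb h
      · exact hzz h
    have : c' (c p) = c' (c' p) := by
      apply c.injective
      rw [hmb, hcz'fix]
    exact hbb (c'.injective this)

/-- Lemma E'': three pairwise related 3-cycles share a common oriented edge. -/
theorem Rel.common_third {c₁ c₂ c₃ : Perm α} (h₁ : c₁.IsThreeCycle) (h₂ : c₂.IsThreeCycle)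
    (h₃ : c₃.IsThreeCycle) (r12 : Rel c₁ c₂) (r13 : Rel c₁ c₃) (r23 : Rel c₂ c₃) {a b : α}
    (hab : b ≠ a) (e1 : c₁ a = b) (e2 : c₂ a = b) : c₃ a = b := by
  have ha1 : c₁ a ≠ a := by rw [e1]; exact hab
  have ha2 : c₂ a ≠ a := by rw [e2]; exact hab
  have hxy : c₁ b ≠ c₂ b := by
    intro h
    apply r12.ne h₁
    apply three_ext h₁ h₂ ha1 (e1.trans e2.symm)
    rw [e1, h]
  obtain ⟨p, hp1, hp2⟩ := r13.exists_common h₁ h₃
  obtain ⟨q, hq1, hq2⟩ := r23.exists_common h₂ h₃
  -- useful facts
  have hb1 : c₁ b ≠ b := by rw [← e1]; exact fun h => ha1 (c₁.injective h)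
  have hb2 : c₂ b ≠ b := by rw [← e2]; exact fun h => ha2 (c₂.injective h)
  have hx1 : c₁ (c₁ b) = a := by rw [← e1]; exact three_apply h₁ a
  have hy2 : c₂ (c₂ b) = a := by rw [← e2]; exact three_apply h₂ a
  have hxa : c₁ b ≠ a := by rw [← e1]; exact (three_distinct h₁ ha1).1
  have hya : c₂ b ≠ a := by rw [← e2]; exact (three_distinct h₂ ha2).1
  rcases three_support h₁ ha1 p hp2 with rfl | rfl | rfl
  · rw [← hp1, e1]
  · rcases three_support h₂ ha2 q hq2 with rfl | rfl | rfl
    · rw [← hq1, e2]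
    · -- p = b, q = b
      exfalso
      rw [e1] at hp1
      rw [e2] at hq1
      exact hxy (hp1.trans hq1.symm)
    · -- p = b, q = y
      exfalso
      rw [e1] at hp1
      rw [e2] at hq1 hq2
      -- c₃ b = x, c₃ y = a
      have h3b : c₃ b ≠ b := by rw [← hp1]; exact hb1
      have h3y : c₃ (c₂ b) ≠ c₂ b := by rw [← hq1, hy2]; exact hya.symm
      rcases three_support h₃ h3b _ h3y with h | h | h
      · exact hb2 h
      · rw [← hp1] at h; exact hxy h.symm
      · have : c₃ (c₂ b) = b := by rw [h]; exact three_apply h₃ b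
        rw [← hq1, hy2] at this
        exact hab this.symm
  · rcases three_support h₂ ha2 q hq2 with rfl | rfl | rfl
    · rw [← hq1, e2]
    · -- p = x, q = b
      rw [e1] at hp1 hp2
      rw [e2] at hq1
      have h3x : c₃ (c₁ b) ≠ c₁ b := by rw [← hp1, hx1]; exact hxa.symm
      have h3b : c₃ b ≠ b := by rw [← hq1]; exact hb2
      rcases three_support h₃ h3x b h3b with h | h | h
      · exact absurd h.symm hb1
      · rw [← hp1, hx1] at h; exact absurd h hab
      · rw [← hp1, hx1] at h; exact h.symm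
    · -- p = x, q = y
      exfalso
      rw [e1] at hp1
      rw [e2] at hq1
      rw [hx1] at hp1
      rw [hy2] at hq1
      exact hxy (c₃.injective (hp1.symm.trans hq1))

/-- A transitive group generated by 3-cycles contains the alternating group. -/
theorem alternatingGroup_le_closure (S : Set (Perm α)) (hS : ∀ s ∈ S, s.IsThreeCycle)
    (hne : S.Nonempty) (htr : ∀ x y : α, ∃ g ∈ Subgroup.closure S, g x = y) :
    alternatingGroup α ≤ Subgroup.closure S := by
  obtain ⟨s₀, hs₀⟩ := hne
  apply alternatingGroup_le_of_isPreprimitive_of_isThreeCycle_mem _ (hS s₀ hs₀)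
    (Subgroup.subset_closure hs₀)
  have htrans : MulAction.IsPretransitive (Subgroup.closure S) α := by
    refine ⟨fun x y => ?_⟩
    obtain ⟨g, hg, hgx⟩ := htr x y
    exact ⟨⟨g, hg⟩, hgx⟩
  refine ⟨fun {B} hB => ?_⟩
  have key : ∀ g ∈ Subgroup.closure S, ∀ u ∈ B, g u ∈ B → ∀ z ∈ B, g z ∈ B := by
    intro g hg u hu hgu z hz
    have h1 : (⟨g, hg⟩ : Subgroup.closure S) • B = B :=
      hB.smul_eq_of_mem (g := ⟨g, hg⟩) hu hgu
    have h2 : (⟨g, hg⟩ : Subgroup.closure S) • z ∈ (⟨g, hg⟩ : Subgroup.closure S) • B :=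
      Set.smul_mem_smul_set hz
    rw [h1] at h2
    exact h2
  unfold MulAction.IsTrivialBlock
  by_contra hcon
  push Not at hcon
  obtain ⟨hnss, hnuniv⟩ := hcon
  obtain ⟨p, hpB, q, hqB, hpq⟩ := hnss
  -- generators preserve B
  have hgen : ∀ s ∈ S, ∀ z ∈ B, s z ∈ B := by
    intro s hs z hz
    by_contra hsz
    have hall : ∀ u ∈ B, s u ∉ B := by
      intro u hu hsu
      exact hsz (key s (Subgroup.subset_closure hs) u hu hsu z hz)
    have hsp : s p ≠ p := fun h => hall p hpB (by rw [h]; exact hpB)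
    have hsq : s q ≠ q := fun h => hall q hqB (by rw [h]; exact hqB)
    rcases three_support (hS s hs) hsp q hsq with h | h | h
    · exact hpq h.symm
    · exact hall p hpB (by rw [← h]; exact hqB)
    · apply hall q hqB
      rw [h, three_apply (hS s hs) p]
      exact hpB
  have hall : ∀ g ∈ Subgroup.closure S, ∀ z ∈ B, g z ∈ B ∧ g⁻¹ z ∈ B := by
    intro g hg
    induction hg using Subgroup.closure_induction with
    | mem s hs =>
      intro z hz
      refine ⟨hgen s hs z hz, ?_⟩
      have : s⁻¹ z = s (s z) := by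
        rw [Perm.inv_eq_iff_eq, three_apply (hS s hs) z]
      rw [this]
      exact hgen s hs _ (hgen s hs z hz)
    | one => intro z hz; exact ⟨hz, by simpa using hz⟩
    | mul g h _ _ ihg ihh =>
      intro z hz
      refine ⟨?_, ?_⟩
      · rw [Perm.mul_apply]; exact (ihg _ (ihh z hz).1).1
      · rw [mul_inv_rev, Perm.mul_apply]; exact (ihh _ (ihg z hz).2).2
    | inv g _ ih =>
      intro z hz
      refine ⟨(ih z hz).2, ?_⟩
      rw [inv_inv]; exact (ih z hz).1
  apply hnuniv
  rw [Set.eq_univ_iff_forall]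
  intro w
  obtain ⟨g, hg, hgp⟩ := htr p w
  rw [← hgp]
  exact (hall g hg p hpB).1

/-- the 3-cycle `u₁ → u₂ → x → u₁` -/
def cyc (u₁ u₂ x : α) : Perm α := swap u₁ u₂ * swap u₂ x

theorem cyc_isThreeCycle {u₁ u₂ x : α} (h12 : u₁ ≠ u₂) (h1x : u₁ ≠ x) (h2x : u₂ ≠ x) :
    (cyc u₁ u₂ x).IsThreeCycle := by
  unfold cyc
  rw [swap_comm u₁ u₂]
  exact isThreeCycle_swap_mul_swap_same h12.symm h2x h1x

theorem cyc_apply_one {u₁ u₂ x : α} (h12 : u₁ ≠ u₂) (h1x : u₁ ≠ x) : cyc u₁ u₂ x u₁ = u₂ := by
  unfold cyc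
  rw [Perm.mul_apply, swap_apply_of_ne_of_ne h12 h1x, swap_apply_left]

theorem cyc_apply_two {u₁ u₂ x : α} (h1x : u₁ ≠ x) (h2x : u₂ ≠ x) : cyc u₁ u₂ x u₂ = x := by
  unfold cyc
  rw [Perm.mul_apply, swap_apply_left, swap_apply_of_ne_of_ne h1x.symm h2x.symm]

theorem cyc_rel {u₁ u₂ x y : α} (h12 : u₁ ≠ u₂) (h1x : u₁ ≠ x) (h2x : u₂ ≠ x) (h1y : u₁ ≠ y)
    (h2y : u₂ ≠ y) (hxy : x ≠ y) : Rel (cyc u₁ u₂ x) (cyc u₁ u₂ y) := by
  have e : cyc u₁ u₂ x * cyc u₁ u₂ y = swap u₁ x * swap u₂ y := by
    unfold cyc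
    have h := swap_mul_swap_mul_swap (x := x) (y := u₂) (z := u₁) h2x.symm h1x.symm
    rw [swap_comm u₂ u₁, swap_comm x u₂] at h
    rw [← h]
    simp only [mul_assoc]
  have hcomm : swap u₁ x * swap u₂ y = swap u₂ y * swap u₁ x := by
    apply (Equiv.Perm.disjoint_swap_swap ?_).commute.eq
    simp [h1x, h12, h1y, h2x.symm, hxy, h2y]
  constructor
  · rw [e]
    calc swap u₁ x * swap u₂ y * (swap u₁ x * swap u₂ y)
        = swap u₁ x * (swap u₂ y * swap u₁ x) * swap u₂ y := by group
      _ = swap u₁ x * (swap u₁ x * swap u₂ y) * swap u₂ y := by rw [hcomm]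
      _ = 1 := by rw [swap_mul_self_mul, swap_mul_self]
  · rw [e]
    intro h
    have := congrArg (fun σ : Perm α => σ u₁) h
    simp only [Perm.mul_apply, Perm.one_apply] at this
    rw [swap_apply_of_ne_of_ne h12 h1y, swap_apply_left] at this
    exact h1x this.symm

end ThreeCycles

section Main
variable {α : Type*} [Fintype α] [DecidableEq α]

theorem rel_map (θ : alternatingGroup α ≃* alternatingGroup α) (g h : alternatingGroup α)
    (hr : Rel (g : Perm α) (h : Perm α)) : Rel ((θ g : alternatingGroup α) : Perm α)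
      ((θ h : alternatingGroup α) : Perm α) := by
  obtain ⟨h1, h2⟩ := hr
  have h1' : (g * h) * (g * h) = 1 := Subtype.ext h1
  have h2' : g * h ≠ 1 := fun e => h2 (congrArg Subtype.val e)
  constructor
  · have := congrArg (fun z : alternatingGroup α => (θ z : Perm α)) h1'
    simpa using this
  · intro e
    apply h2'
    apply θ.injective
    rw [map_mul, map_one]
    exact Subtype.ext e

/-- Every automorphism of the alternating group of degree `n ≥ 4`, `n ≠ 6`, is induced by
conjugation by a permutation. -/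
theorem exists_perm_conj (h4 : 4 ≤ Fintype.card α) (h6 : Fintype.card α ≠ 6)
    (θ : alternatingGroup α ≃* alternatingGroup α) :
    ∃ π : Perm α, ∀ g : alternatingGroup α, ((θ g : alternatingGroup α) : Perm α) = π * g * π⁻¹ := by
  classical
  -- four distinct points
  obtain ⟨u₁, u₂, x₀, x₁, h12, h10, h11, h20, h21, h01⟩ :
      ∃ u₁ u₂ x₀ x₁ : α, u₁ ≠ u₂ ∧ u₁ ≠ x₀ ∧ u₁ ≠ x₁ ∧ u₂ ≠ x₀ ∧ u₂ ≠ x₁ ∧ x₀ ≠ x₁ := by
    have h3 : 3 < Fintype.card α := by omega
    have hlt := Fintype.two_lt_card_iff.mp (by omega : 2 < Fintype.card α)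
    obtain ⟨a, b, c, hab, hac, hbc⟩ := hlt
    have hlt' : ({a, b, c} : Finset α).card < (Finset.univ : Finset α).card := by
      rw [Finset.card_univ]
      exact lt_of_le_of_lt Finset.card_le_three h3
    obtain ⟨d, -, hd⟩ := Finset.exists_mem_notMem_of_card_lt_card hlt'
    simp only [Finset.mem_insert, Finset.mem_singleton, not_or] at hd
    exact ⟨a, b, c, d, hab, hac, Ne.symm hd.1, hbc, Ne.symm hd.2.1, Ne.symm hd.2.2⟩
  -- the family
  have hmemA : ∀ x, u₁ ≠ x → u₂ ≠ x → cyc u₁ u₂ x ∈ alternatingGroup α := fun x h1 h2 =>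
    (cyc_isThreeCycle h12 h1 h2).mem_alternatingGroup
  set d : α → Perm α := fun x =>
    if h : u₁ ≠ x ∧ u₂ ≠ x then
      ((θ ⟨cyc u₁ u₂ x, hmemA x h.1 h.2⟩ : alternatingGroup α) : Perm α) else 1 with hd
  have hdval : ∀ x (h1 : u₁ ≠ x) (h2 : u₂ ≠ x),
      d x = ((θ ⟨cyc u₁ u₂ x, hmemA x h1 h2⟩ : alternatingGroup α) : Perm α) := by
    intro x h1 h2
    simp only [hd]
    rw [dif_pos ⟨h1, h2⟩]
  have hd3 : ∀ x, u₁ ≠ x → u₂ ≠ x → (d x).IsThreeCycle := by
    intro x h1 h2
    rw [hdval x h1 h2]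
    exact isThreeCycle_map rfl h6 θ (c := ⟨cyc u₁ u₂ x, hmemA x h1 h2⟩)
      (cyc_isThreeCycle h12 h1 h2)
  have hdrel : ∀ x y, u₁ ≠ x → u₂ ≠ x → u₁ ≠ y → u₂ ≠ y → x ≠ y → Rel (d x) (d y) := by
    intro x y h1 h2 h1' h2' hxy
    rw [hdval x h1 h2, hdval y h1' h2']
    exact rel_map θ _ _ (cyc_rel h12 h1 h2 h1' h2' hxy)
  obtain ⟨a', hcommon, hmoved⟩ :=
    (hdrel x₀ x₁ h10 h20 h11 h21 h01).exists_common (hd3 _ h10 h20) (hd3 _ h11 h21)
  obtain ⟨b', hb'⟩ : ∃ b', b' = d x₀ a' := ⟨_, rfl⟩
  rw [← hb'] at hcommon hmoved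
  have hall : ∀ x, u₁ ≠ x → u₂ ≠ x → d x a' = b' := by
    intro x h1 h2
    by_cases hx0 : x = x₀
    · rw [hx0, hb']
    by_cases hx1 : x = x₁
    · rw [hx1]; exact hcommon.symm
    exact Rel.common_third (hd3 _ h10 h20) (hd3 _ h11 h21) (hd3 x h1 h2)
      (hdrel x₀ x₁ h10 h20 h11 h21 h01) (hdrel x₀ x h10 h20 h1 h2 (Ne.symm hx0))
      (hdrel x₁ x h11 h21 h1 h2 (Ne.symm hx1)) hmoved hb'.symm hcommon.symm
  have hmoved' : ∀ x, u₁ ≠ x → u₂ ≠ x → d x a' ≠ a' := by
    intro x h1 h2; rw [hall x h1 h2]; exact hmoved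
  -- the permutation
  set π₀ : α → α := fun x =>
    if u₁ = x then a' else if u₂ = x then b' else d x b' with hπ₀
  have hπ1 : π₀ u₁ = a' := by simp [hπ₀]
  have hπ2 : π₀ u₂ = b' := by simp [hπ₀, h12]
  have hπx : ∀ x, u₁ ≠ x → u₂ ≠ x → π₀ x = d x b' := by
    intro x h1 h2; simp only [hπ₀, if_neg h1, if_neg h2]
  have hx'a : ∀ x, u₁ ≠ x → u₂ ≠ x → d x b' ≠ a' := by
    intro x h1 h2
    have := (three_distinct (hd3 x h1 h2) (hmoved' x h1 h2)).1
    rwa [hall x h1 h2] at this
  have hx'b : ∀ x, u₁ ≠ x → u₂ ≠ x → d x b' ≠ b' := by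
    intro x h1 h2
    have := (three_distinct (hd3 x h1 h2) (hmoved' x h1 h2)).2
    rwa [hall x h1 h2] at this
  have hinj : Function.Injective π₀ := by
    intro x y hxy
    by_cases hx1 : u₁ = x
    · by_cases hy1 : u₁ = y
      · rw [← hx1, ← hy1]
      · exfalso
        rw [← hx1, hπ1] at hxy
        by_cases hy2 : u₂ = y
        · rw [← hy2, hπ2] at hxy; exact hmoved hxy.symm
        · rw [hπx y hy1 hy2] at hxy; exact hx'a y hy1 hy2 hxy.symm
    · by_cases hx2 : u₂ = x
      · by_cases hy1 : u₁ = y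
        · exfalso
          rw [← hx2, hπ2, ← hy1, hπ1] at hxy; exact hmoved hxy
        · by_cases hy2 : u₂ = y
          · rw [← hx2, ← hy2]
          · exfalso
            rw [← hx2, hπ2, hπx y hy1 hy2] at hxy; exact hx'b y hy1 hy2 hxy.symm
      · rw [hπx x hx1 hx2] at hxy
        by_cases hy1 : u₁ = y
        · exfalso
          rw [← hy1, hπ1] at hxy; exact hx'a x hx1 hx2 hxy
        · by_cases hy2 : u₂ = y
          · exfalso
            rw [← hy2, hπ2] at hxy; exact hx'b x hx1 hx2 hxy
          · rw [hπx y hy1 hy2] at hxy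
            have heq : d x = d y := by
              apply three_ext (hd3 x hx1 hx2) (hd3 y hy1 hy2) (hmoved' x hx1 hx2)
              · rw [hall x hx1 hx2, hall y hy1 hy2]
              · rw [hall x hx1 hx2, hxy]
            rw [hdval x hx1 hx2, hdval y hy1 hy2] at heq
            have h2 : (⟨cyc u₁ u₂ x, hmemA x hx1 hx2⟩ : alternatingGroup α) =
                ⟨cyc u₁ u₂ y, hmemA y hy1 hy2⟩ := θ.injective (Subtype.ext heq)
            have h3 : cyc u₁ u₂ x = cyc u₁ u₂ y := congrArg Subtype.val h2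
            have h4 : cyc u₁ u₂ x u₂ = cyc u₁ u₂ y u₂ := by rw [h3]
            rwa [cyc_apply_two hx1 hx2, cyc_apply_two hy1 hy2] at h4
  set π : Perm α := Equiv.ofBijective π₀ (Finite.injective_iff_bijective.mp hinj) with hπ
  have hπapp : ∀ x, π x = π₀ x := fun x => rfl
  -- conjugation by π agrees with θ on the family
  have hconj : ∀ x, u₁ ≠ x → u₂ ≠ x → π * cyc u₁ u₂ x * π⁻¹ = d x := by
    intro x h1 h2
    have e : π * cyc u₁ u₂ x * π⁻¹ = cyc a' b' (d x b') := by
      unfold cyc
      rw [mul_assoc π, mul_assoc (swap u₁ u₂), ← mul_assoc π, Equiv.mul_swap_eq_swap_mul,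
        mul_assoc, ← mul_assoc π, Equiv.mul_swap_eq_swap_mul, mul_assoc, mul_inv_cancel, mul_one,
        hπapp, hπapp, hπapp, hπ1, hπ2, hπx x h1 h2]
    rw [e]
    symm
    apply three_ext (hd3 x h1 h2)
      (cyc_isThreeCycle hmoved.symm (hx'a x h1 h2).symm (hx'b x h1 h2).symm) (hmoved' x h1 h2)
    · rw [hall x h1 h2, cyc_apply_one hmoved.symm (hx'a x h1 h2).symm]
    · rw [hall x h1 h2, cyc_apply_two (hx'a x h1 h2).symm (hx'b x h1 h2).symm]
  -- generation
  set S : Set (Perm α) := {s | ∃ x, u₁ ≠ x ∧ u₂ ≠ x ∧ s = cyc u₁ u₂ x} with hS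
  have hSmem : ∀ x (h1 : u₁ ≠ x) (h2 : u₂ ≠ x), cyc u₁ u₂ x ∈ S := fun x h1 h2 =>
    ⟨x, h1, h2, rfl⟩
  have hS3 : ∀ s ∈ S, s.IsThreeCycle := by
    rintro s ⟨x, h1, h2, rfl⟩
    exact cyc_isThreeCycle h12 h1 h2
  have hreach : ∀ w : α, ∃ g ∈ Subgroup.closure S, g u₁ = w := by
    intro w
    by_cases hw1 : u₁ = w
    · exact ⟨1, Subgroup.one_mem _, hw1⟩
    by_cases hw2 : u₂ = w
    · exact ⟨cyc u₁ u₂ x₀, Subgroup.subset_closure (hSmem x₀ h10 h20), by
        rw [cyc_apply_one h12 h10, hw2]⟩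
    · refine ⟨cyc u₁ u₂ w * cyc u₁ u₂ w, Subgroup.mul_mem _
        (Subgroup.subset_closure (hSmem w hw1 hw2)) (Subgroup.subset_closure (hSmem w hw1 hw2)), ?_⟩
      rw [Perm.mul_apply, cyc_apply_one h12 hw1, cyc_apply_two hw1 hw2]
  have htr : ∀ x y : α, ∃ g ∈ Subgroup.closure S, g x = y := by
    intro x y
    obtain ⟨gx, hgx, ex⟩ := hreach x
    obtain ⟨gy, hgy, ey⟩ := hreach y
    refine ⟨gy * gx⁻¹, Subgroup.mul_mem _ hgy (Subgroup.inv_mem _ hgx), ?_⟩
    rw [Perm.mul_apply, ← ex]; simp [ey]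
  have hgen : alternatingGroup α ≤ Subgroup.closure S :=
    alternatingGroup_le_closure S hS3 ⟨_, hSmem x₀ h10 h20⟩ htr
  have hSA : Subgroup.closure S ≤ alternatingGroup α := by
    rw [Subgroup.closure_le]
    intro s hs
    exact (hS3 s hs).mem_alternatingGroup
  refine ⟨π, ?_⟩
  have main : ∀ g ∈ Subgroup.closure S, ∀ hg : g ∈ alternatingGroup α,
      ((θ ⟨g, hg⟩ : alternatingGroup α) : Perm α) = π * g * π⁻¹ := by
    intro g hgS
    induction hgS using Subgroup.closure_induction with
    | mem s hs =>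
      intro hg
      obtain ⟨x, h1, h2, rfl⟩ := hs
      rw [hconj x h1 h2, hdval x h1 h2]
    | one =>
      intro hg
      have : (⟨1, hg⟩ : alternatingGroup α) = 1 := rfl
      rw [this, map_one]; simp
    | mul g h hg' hh' ihg ihh =>
      intro hgh
      have hgA := hSA hg'
      have hhA := hSA hh'
      have : (⟨g * h, hgh⟩ : alternatingGroup α) = ⟨g, hgA⟩ * ⟨h, hhA⟩ := rfl
      rw [this, map_mul, Subgroup.coe_mul, ihg hgA, ihh hhA]
      group
    | inv g hg' ih =>
      intro hginv
      have hgA := hSA hg'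
      have : (⟨g⁻¹, hginv⟩ : alternatingGroup α) = (⟨g, hgA⟩)⁻¹ := rfl
      rw [this, map_inv, Subgroup.coe_inv, ih hgA]
      group
  intro g
  exact main g.1 (hgen g.2) g.2

end Main

end Cfsg.Agent.Helper29.AutAlt
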