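import Mathlib

set_option autoImplicit false

/-!
# S2222 (subgroups of odd index in `A_n` are pronormal): shared definitions
-/

namespace Cfsg.Agent.Helper29.AltPron

open MulAction Equiv
open scoped Pointwise

variable {α : Type*} [Fintype α] [DecidableEq α]

/-- the number of orbits of a permutation group -/
noncomputable def orbCount (P : Subgroup (Perm α)) : ℕ :=
  Nat.card (orbitRel.Quotient P α)

/-- the point stabilizer, as a subgroup of `Perm α` -/
def stab (P : Subgroup (Perm α)) (ω : α) : Subgroup (Perm α) :=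
  P ⊓ stabilizer (Perm α) ω

/-- a nontrivial `2`-group of even permutations for which the bound
`ν₂|P| + #orbits + 1 ≤ |α|` is an equality -/
def ATight (P : Subgroup (Perm α)) : Prop :=
  IsPGroup 2 P ∧ P ≤ alternatingGroup α ∧ P ≠ ⊥ ∧
    padicValNat 2 (Nat.card P) + orbCount P + 1 = Nat.card α

/-- orbits of the same size coincide -/
def DistinctOrbits (P : Subgroup (Perm α)) : Prop :=
  ∀ x y : α, (orbit P x).ncard = (orbit P y).ncard → orbit P x = orbit P y

/-- blocks inside an orbit, through the same point and of the same size, coincide -/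
def UniqueBlocks (P : Subgroup (Perm α)) : Prop :=
  ∀ (x : α) (B B' : Set α), IsBlock P B → IsBlock P B' → x ∈ B → x ∈ B' →
    B ⊆ orbit P x → B' ⊆ orbit P x → B.ncard = B'.ncard → B = B'

/-- the subgroups between a point stabilizer and the group form a chain -/
def IntervalChain (P : Subgroup (Perm α)) : Prop :=
  ∀ (ω : α) (H H' : Subgroup (Perm α)), stab P ω ≤ H → H ≤ P → stab P ω ≤ H' → H' ≤ P →
    H ≤ H' ∨ H' ≤ H

/-- `y` normalizes `P` -/
def Normalizes (y : Perm α) (P : Subgroup (Perm α)) : Prop :=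
  ∀ p : Perm α, p ∈ P ↔ y * p * y⁻¹ ∈ P

/-! ### statements passed around as hypotheses -/

/-- orbit counting: one orbit splits -/
def Split1 (α : Type*) [Fintype α] [DecidableEq α] : Prop :=
  ∀ Q P : Subgroup (Perm α), Q ≤ P → ∀ x : α, orbit Q x ≠ orbit P x → orbCount P + 1 ≤ orbCount Q

/-- orbit counting: two orbits split -/
def Split2 (α : Type*) [Fintype α] [DecidableEq α] : Prop :=
  ∀ Q P : Subgroup (Perm α), Q ≤ P → ∀ x x' : α, orbit P x ≠ orbit P x' →
    orbit Q x ≠ orbit P x → orbit Q x' ≠ orbit P x' → orbCount P + 2 ≤ orbCount Q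

/-- the basic bound for `2`-groups of even permutations -/
def BoundA (α : Type*) [Fintype α] [DecidableEq α] : Prop :=
  ∀ P : Subgroup (Perm α), IsPGroup 2 P → P ≤ alternatingGroup α → P ≠ ⊥ →
    padicValNat 2 (Nat.card P) + orbCount P + 1 ≤ Nat.card α

/-- inheritance of tightness by subgroups of index two over a point stabilizer -/
def Inherit (α : Type*) [Fintype α] [DecidableEq α] : Prop :=
  ∀ P Q : Subgroup (Perm α), ATight P → Q ≤ P → 2 * Nat.card Q = Nat.card P → Q ≠ ⊥ →
    ∀ ω : α, stab P ω ≤ Q → ATight Q ∧ ∀ x : α, x ∉ orbit P ω → orbit Q x = orbit P x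

/-- uniqueness of the subgroup of index two over a point stabilizer -/
def UniqueIdx2 (α : Type*) [Fintype α] [DecidableEq α] : Prop :=
  ∀ P Q Q' : Subgroup (Perm α), ATight P → ∀ ω : α, stab P ω ≠ ⊥ → Q ≤ P → Q' ≤ P →
    2 * Nat.card Q = Nat.card P → 2 * Nat.card Q' = Nat.card P → stab P ω ≤ Q → stab P ω ≤ Q' →
    Q = Q'

end Cfsg.Agent.Helper29.AltPron
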