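import Mathlib
import Cfsg.Agent.Helper29.AltPronDefs

set_option autoImplicit false

/-!
# S2222: basic lemmas (piece BAS)
-/

namespace Cfsg.Agent.Helper29.AltPron

open MulAction Equiv
open scoped Pointwise

variable {α : Type*} [Fintype α] [DecidableEq α]

omit [Fintype α] [DecidableEq α] in
theorem mem_stab {P : Subgroup (Perm α)} {ω : α} {p : Perm α} :
    p ∈ stab P ω ↔ p ∈ P ∧ p ω = ω := by
  unfold stab
  rw [Subgroup.mem_inf, mem_stabilizer_iff]
  rfl

omit [Fintype α] [DecidableEq α] in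
theorem stab_le (P : Subgroup (Perm α)) (ω : α) : stab P ω ≤ P := inf_le_left

omit [Fintype α] [DecidableEq α] in
theorem mem_orbit_sub {P : Subgroup (Perm α)} {x y : α} :
    y ∈ orbit P x ↔ ∃ p ∈ P, p x = y := by
  constructor
  · rintro ⟨⟨p, hp⟩, rfl⟩
    exact ⟨p, hp, rfl⟩
  · rintro ⟨p, hp, rfl⟩
    exact ⟨⟨p, hp⟩, rfl⟩

theorem card_stab_mul (P : Subgroup (Perm α)) (ω : α) :
    Nat.card (stab P ω) * (orbit P ω).ncard = Nat.card P := by
  classical
  have h := MulAction.card_orbit_mul_card_stabilizer_eq_card_group P ω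
  have e : Nat.card (stabilizer P ω) = Nat.card (stab P ω) := by
    refine Nat.card_congr ⟨fun g => ⟨g.1.1, mem_stab.mpr ⟨g.1.2, g.2⟩⟩,
      fun g => ⟨⟨g.1, (mem_stab.mp g.2).1⟩, (mem_stab.mp g.2).2⟩, fun g => rfl, fun g => rfl⟩
  rw [← e, Set.ncard_eq_toFinset_card', Nat.card_eq_fintype_card (α := P),
    Nat.card_eq_fintype_card (α := stabilizer P ω)]
  rw [← h, Set.toFinset_card, mul_comm]

omit [Fintype α] [DecidableEq α] in
theorem index_subgroupOf_eq_two [Finite α] {Q P : Subgroup (Perm α)} (h : Q ≤ P)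
    (hidx : 2 * Nat.card Q = Nat.card P) : (Q.subgroupOf P).index = 2 := by
  have h1 := Subgroup.card_mul_index (Q.subgroupOf P)
  have h2 : Nat.card (Q.subgroupOf P) = Nat.card Q :=
    Nat.card_congr (Subgroup.subgroupOfEquivOfLe h).toEquiv
  rw [h2, ← hidx] at h1
  have hpos : 0 < Nat.card Q := Nat.card_pos
  have : Nat.card Q * (Q.subgroupOf P).index = Nat.card Q * 2 := by rw [h1]; ring
  exact Nat.eq_of_mul_eq_mul_left hpos this

omit [Fintype α] [DecidableEq α] in
theorem conj_mem_of_index_two [Finite α] {Q P : Subgroup (Perm α)} (h : Q ≤ P)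
    (hidx : 2 * Nat.card Q = Nat.card P) {p q : Perm α} (hp : p ∈ P) (hq : q ∈ Q) :
    p * q * p⁻¹ ∈ Q := by
  have hn : (Q.subgroupOf P).Normal :=
    Subgroup.normal_of_index_eq_two (index_subgroupOf_eq_two h hidx)
  have := hn.conj_mem ⟨q, h hq⟩ (by rw [Subgroup.mem_subgroupOf]; exact hq) ⟨p, hp⟩
  rw [Subgroup.mem_subgroupOf] at this
  exact this

theorem orbit_ne_of_stab_le {Q P : Subgroup (Perm α)} (h : Q ≤ P)
    (hidx : 2 * Nat.card Q = Nat.card P) (ω : α) (hω : stab P ω ≤ Q) :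
    orbit Q ω ≠ orbit P ω := by
  intro heq
  have h1 := card_stab_mul P ω
  have h2 := card_stab_mul Q ω
  have h3 : stab Q ω = stab P ω := by
    apply le_antisymm
    · intro p hp
      rw [mem_stab] at hp ⊢
      exact ⟨h hp.1, hp.2⟩
    · intro p hp
      rw [mem_stab]
      exact ⟨hω hp, (mem_stab.mp hp).2⟩
  rw [h3, heq] at h2
  have hpos : 0 < Nat.card Q := Nat.card_pos
  omega

theorem exists_index_two {P K : Subgroup (Perm α)} (hP : IsPGroup 2 P) (hK : K ≤ P)
    (hne : K ≠ P) :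
    ∃ Q : Subgroup (Perm α), K ≤ Q ∧ Q ≤ P ∧ 2 * Nat.card Q = Nat.card P := by
  classical
  haveI : Fact (Nat.Prime 2) := ⟨Nat.prime_two⟩
  obtain ⟨m, hm⟩ := IsPGroup.iff_card.mp hP
  -- work inside `P`
  have hK2 : IsPGroup 2 (K.subgroupOf P) := hP.to_subgroup _
  obtain ⟨a, ha⟩ := IsPGroup.iff_card.mp hK2
  have hcK : Nat.card (K.subgroupOf P) = Nat.card K :=
    Nat.card_congr (Subgroup.subgroupOfEquivOfLe hK).toEquiv
  have hlt : a < m := by
    have hle : Nat.card K ≤ Nat.card P := Subgroup.card_le_of_le hK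
    have hne' : Nat.card K ≠ Nat.card P := by
      intro hc
      exact hne (Subgroup.eq_of_le_of_card_ge hK (by rw [hc]))
    rw [← hcK, ha, hm] at hle hne'
    have : a ≤ m := (Nat.pow_le_pow_iff_right (by norm_num)).mp hle
    rcases Nat.lt_or_ge a m with h | h
    · exact h
    · exact absurd (by rw [le_antisymm this h]) hne'
  -- climb
  have key : ∀ j : ℕ, a + j ≤ m - 1 → ∃ H : Subgroup P, K.subgroupOf P ≤ H ∧
      Nat.card H = 2 ^ (a + j) := by
    intro j
    induction j with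
    | zero => intro _; exact ⟨K.subgroupOf P, le_refl _, ha⟩
    | succ j ih =>
      intro hj
      obtain ⟨H, hKH, hH⟩ := ih (by omega)
      have hdvd : 2 ^ (a + j + 1) ∣ Nat.card P := by
        rw [hm]; exact pow_dvd_pow 2 (by omega)
      obtain ⟨H', hH', hle⟩ := Sylow.exists_subgroup_card_pow_succ hdvd hH
      exact ⟨H', hKH.trans hle, by rw [hH']; ring_nf⟩
  obtain ⟨H, hKH, hH⟩ := key (m - 1 - a) (by omega)
  refine ⟨H.map P.subtype, ?_, ?_, ?_⟩
  · intro k hk
    exact ⟨⟨k, hK hk⟩, hKH (by rw [Subgroup.mem_subgroupOf]; exact hk), rfl⟩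
  · rintro _ ⟨x, _, rfl⟩
    exact x.2
  · have : Nat.card (H.map P.subtype) = Nat.card H :=
      Nat.card_congr (H.equivMapOfInjective P.subtype P.subtype_injective).symm.toEquiv
    rw [this, hH, hm]
    have : a + (m - 1 - a) = m - 1 := by omega
    rw [this]
    obtain ⟨m', rfl⟩ : ∃ m', m = m' + 1 := ⟨m - 1, by omega⟩
    simp [pow_succ, mul_comm]

omit [Fintype α] [DecidableEq α] in
theorem orbit_subset_of_le {Q P : Subgroup (Perm α)} (h : Q ≤ P) (x : α) :
    orbit Q x ⊆ orbit P x := by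
  intro y hy
  obtain ⟨q, hq, rfl⟩ := mem_orbit_sub.mp hy
  exact mem_orbit_sub.mpr ⟨q, h hq, rfl⟩

omit [Fintype α] [DecidableEq α] in
/-- an element normalizing `Q` maps `Q`-orbits to `Q`-orbits -/
theorem image_orbit_of_normalizes {Q : Subgroup (Perm α)} (g : Perm α) (hg : Normalizes g Q)
    (x : α) : g '' (orbit Q x) = orbit Q (g x) := by
  ext z
  constructor
  · rintro ⟨w, hw, rfl⟩
    obtain ⟨q, hq, rfl⟩ := mem_orbit_sub.mp hw
    refine mem_orbit_sub.mpr ⟨g * q * g⁻¹, (hg q).mp hq, ?_⟩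
    simp
  · intro hz
    obtain ⟨q, hq, rfl⟩ := mem_orbit_sub.mp hz
    refine ⟨(g⁻¹ * q * g) x, mem_orbit_sub.mpr ⟨g⁻¹ * q * g, ?_, rfl⟩, by simp⟩
    rw [hg]
    simpa [mul_assoc] using hq

omit [Fintype α] [DecidableEq α] in
theorem normalizes_of_index_two [Finite α] {Q P : Subgroup (Perm α)} (h : Q ≤ P)
    (hidx : 2 * Nat.card Q = Nat.card P) {p : Perm α} (hp : p ∈ P) : Normalizes p Q := by
  intro q
  constructor
  · intro hq
    exact conj_mem_of_index_two h hidx hp hq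
  · intro hq
    have := conj_mem_of_index_two h hidx (P.inv_mem hp) hq
    simpa [mul_assoc] using this

end Cfsg.Agent.Helper29.AltPron
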