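import Mathlib
import Cfsg.Agent.Helper17.S2482GDefs
import Cfsg.Agent.Helper22.S2482NORMINV

/-! S2482 chapter (G), piece NORMY (driver helper17): a symmetric unit commuting with an isometry `g`
without eigenvalues `±1` is of the form `y^* y` with `y` commuting with `g`. -/

set_option autoImplicit false

namespace Cfsg.Agent.S2482P

open Polynomial Cfsg.Agent.Helper2.SympInvol Cfsg.Agent.S5955P Cfsg.Agent.S5961P Cfsg.Agent.S2676P
  Cfsg.Agent.S2478P Cfsg.Agent.S2481P

universe u

variable {F : Type u} [Field F]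

namespace NORMY

/-- pairwise commuting `a, b, θ`: `(a - bθ)(a + bθ) = a² - b² θ²` -/
theorem mul_conj {R : Type*} [Ring R] (a b θ : R) (hab : a * b = b * a) (haθ : a * θ = θ * a)
    (hbθ : b * θ = θ * b) :
    (a - b * θ) * (a + b * θ) = a * a - (θ * θ) * (b * b) ∧
    (a + b * θ) * (a - b * θ) = a * a - (θ * θ) * (b * b) := by
  have e1 : a * (b * θ) = (b * θ) * a := by
    calc a * (b * θ) = (a * b) * θ := by rw [mul_assoc]
      _ = (b * a) * θ := by rw [hab]
      _ = b * (a * θ) := by rw [mul_assoc]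
      _ = b * (θ * a) := by rw [haθ]
      _ = (b * θ) * a := by rw [mul_assoc]
  have e2 : (b * θ) * (b * θ) = (θ * θ) * (b * b) := by
    calc (b * θ) * (b * θ) = (θ * b) * (θ * b) := by rw [hbθ]
      _ = θ * (b * θ) * b := by simp only [mul_assoc]
      _ = θ * (θ * b) * b := by rw [hbθ]
      _ = (θ * θ) * (b * b) := by simp only [mul_assoc]
  constructor
  · calc (a - b * θ) * (a + b * θ)
        = a * a + a * (b * θ) - (b * θ) * a - (b * θ) * (b * θ) := by noncomm_ring
      _ = a * a - (θ * θ) * (b * b) := by rw [e1, e2]; abel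
  · calc (a + b * θ) * (a - b * θ)
        = a * a - a * (b * θ) + (b * θ) * a - (b * θ) * (b * θ) := by noncomm_ring
      _ = a * a - (θ * θ) * (b * b) := by rw [e1, e2]; abel

/-- private copy of UNITG.isUnit_g (so that NORMY does not wait for it) -/
theorem isUnit_g' (S : SpSpace F) (hS : S.IsSp) :
    ∃ gi : Module.End F S.V, S.g * gi = 1 ∧ gi * S.g = 1 ∧ (∀ u v, S.B (gi u) (gi v) = S.B u v) ∧
      ∀ u v, S.B (S.g u) v = S.B u (gi v) := by
  have hker : LinearMap.ker S.g = ⊥ := by
    rw [LinearMap.ker_eq_bot']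
    intro u hu
    by_contra hne
    obtain ⟨v, -, hv⟩ := hS.nondeg u Submodule.mem_top hne
    apply hv
    rw [← hS.isom u v, hu, map_zero, LinearMap.zero_apply]
  obtain ⟨gu, hgu⟩ := (LinearMap.isUnit_iff_ker_eq_bot S.g).mpr hker
  have h1 : S.g * ↑gu⁻¹ = 1 := by rw [← hgu, Units.mul_inv]
  have h2 : (↑gu⁻¹ : Module.End F S.V) * S.g = 1 := by rw [← hgu, Units.inv_mul]
  have e1 : ∀ u, S.g ((↑gu⁻¹ : Module.End F S.V) u) = u := by
    intro u
    have := congrArg (fun f : Module.End F S.V => f u) h1
    simpa using this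
  refine ⟨↑gu⁻¹, h1, h2, fun u v => ?_, fun u v => ?_⟩
  · rw [← hS.isom, e1, e1]
  · conv_lhs => rw [← e1 v]
    rw [hS.isom]

open scoped IsMulCommutative in
theorem exists_norm [Finite F] (h2 : (2 : F) ≠ 0) (S : SpSpace F) (hS : S.IsSp)
    (hm : IsUnit (S.g - 1)) (hp : IsUnit (S.g + 1)) (s : Module.End F S.V) (hs : IsUnit s)
    (hsym : ∀ u v, S.B (s u) v = S.B u (s v)) (hsg : s * S.g = S.g * s) :
    ∃ y : Module.End F S.V, IsUnit y ∧ y * S.g = S.g * y ∧ ∀ u v, S.B (y u) (y v) = S.B (s u) v := by
  classical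
  obtain ⟨gi, hggi, hgig, -, hadj⟩ := isUnit_g' S hS
  -- notation
  obtain ⟨V, B, g⟩ := S
  dsimp only at *
  -- adjoint of `gi`
  have hadj' : ∀ u v, B (gi u) v = B u (g v) := by
    intro u v
    have h := hadj (gi u) (g v)
    have e1 : g (gi u) = u := by
      have := congrArg (fun f : Module.End F V => f u) hggi
      simpa using this
    have e2 : gi (g v) = v := by
      have := congrArg (fun f : Module.End F V => f v) hgig
      simpa using this
    rw [e1, e2] at h
    exact h.symm
  set θ : Module.End F V := g - gi with hθ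
  have hθg : θ * g = g * θ := by
    rw [hθ, sub_mul, mul_sub, hgig, hggi]
  have hθgi : θ * gi = gi * θ := by
    rw [hθ, sub_mul, mul_sub, hgig, hggi]
  have hskew : ∀ u v, B (θ u) v = - B u (θ v) := by
    intro u v
    rw [hθ]
    simp only [LinearMap.sub_apply, map_sub]
    rw [hadj, hadj']
    ring
  have hθunit : IsUnit θ := by
    have hgiu : IsUnit gi := isUnit_iff_exists_and_exists.mpr ⟨⟨g, hgig⟩, ⟨g, hggi⟩⟩
    have e : θ = (g - 1) * (g + 1) * gi := by
      rw [hθ]
      have : (g - 1) * (g + 1) = g * g - 1 := by noncomm_ring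
      rw [this, sub_mul, mul_assoc, hggi, mul_one, one_mul]
    rw [e]
    exact (hm.mul hp).mul hgiu
  set δ : Module.End F V := θ * θ with hδ
  have hδunit : IsUnit δ := hθunit.mul hθunit
  have hδsym : ∀ u v, B (δ u) v = B u (δ v) := by
    intro u v
    rw [hδ]
    simp only [Module.End.mul_apply]
    rw [hskew, hskew, neg_neg]
  -- `s` commutes with `gi` and `θ`
  have hsgi : s * gi = gi * s := by
    calc s * gi = (gi * g) * (s * gi) := by rw [hgig, one_mul]
      _ = gi * (g * s) * gi := by simp only [mul_assoc]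
      _ = gi * (s * g) * gi := by rw [hsg]
      _ = gi * s * (g * gi) := by simp only [mul_assoc]
      _ = gi * s := by rw [hggi, mul_one]
  have hsθ : s * θ = θ * s := by
    rw [hθ, mul_sub, sub_mul, hsg, hsgi]
  have hsδ : s * δ = δ * s := by
    rw [hδ, ← mul_assoc, hsθ, mul_assoc, hsθ, ← mul_assoc]
  -- the commutative ring `R`
  have hcomm : ∀ a ∈ ({δ, s} : Set (Module.End F V)), ∀ b ∈ ({δ, s} : Set (Module.End F V)),
      a * b = b * a := by
    intro a ha b hb
    rcases ha with rfl | rfl <;> rcases hb with rfl | rfl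
    · rfl
    · exact hsδ.symm
    · exact hsδ
    · rfl
  haveI hRc : IsMulCommutative (Algebra.adjoin F ({δ, s} : Set (Module.End F V))) :=
    Algebra.isMulCommutative_adjoin F hcomm
  -- properties of the elements of `R`
  have hP : ∀ r ∈ Algebra.adjoin F ({δ, s} : Set (Module.End F V)),
      (∀ u v, B (r u) v = B u (r v)) ∧ r * θ = θ * r ∧ r * g = g * r := by
    intro r hr
    induction hr using Algebra.adjoin_induction with
    | mem x hx =>
      rcases hx with rfl | rfl
      · refine ⟨hδsym, ?_, ?_⟩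
        · rw [hδ, mul_assoc]
        · rw [hδ, mul_assoc, hθg, ← mul_assoc, hθg, mul_assoc]
      · exact ⟨hsym, hsθ, hsg⟩
    | algebraMap c =>
      refine ⟨fun u v => ?_, ?_, ?_⟩
      · simp only [Module.algebraMap_end_apply, map_smul, LinearMap.smul_apply]
      · exact Algebra.commutes c θ
      · exact Algebra.commutes c g
    | add x y hx hy ihx ihy =>
      refine ⟨fun u v => ?_, ?_, ?_⟩
      · simp only [LinearMap.add_apply, map_add]
        rw [ihx.1, ihy.1]
      · rw [add_mul, mul_add, ihx.2.1, ihy.2.1]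
      · rw [add_mul, mul_add, ihx.2.2, ihy.2.2]
    | mul x y hx hy ihx ihy =>
      have hxy : x * y = y * x := setLike_mul_comm hx hy
      refine ⟨fun u v => ?_, ?_, ?_⟩
      · rw [Module.End.mul_apply, ihx.1, ihy.1, ← Module.End.mul_apply, ← hxy]
      · rw [mul_assoc, ihy.2.1, ← mul_assoc, ihx.2.1, mul_assoc]
      · rw [mul_assoc, ihy.2.2, ← mul_assoc, ihx.2.2, mul_assoc]
  haveI : Module.Finite F (Module.End F V) := inferInstance
  haveI : Finite (Module.End F V) := Module.finite_of_finite F
  haveI : Finite (Algebra.adjoin F ({δ, s} : Set (Module.End F V))) := Subtype.finite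
  -- the elements `d`, `s'` of `R`
  have hδmem : δ ∈ Algebra.adjoin F ({δ, s} : Set (Module.End F V)) :=
    Algebra.subset_adjoin (Set.mem_insert _ _)
  have hsmem : s ∈ Algebra.adjoin F ({δ, s} : Set (Module.End F V)) :=
    Algebra.subset_adjoin (Set.mem_insert_of_mem _ rfl)
  -- units of `End V` lying in `R` are units of `R`
  have hunitR : ∀ x : Algebra.adjoin F ({δ, s} : Set (Module.End F V)),
      IsUnit (x : Module.End F V) → IsUnit x := by
    intro x hx
    have hinj : Function.Injective (fun z : Algebra.adjoin F ({δ, s} : Set (Module.End F V)) =>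
        x * z) := by
      intro z1 z2 h
      have h' : (x : Module.End F V) * z1 = (x : Module.End F V) * z2 := by
        have := congrArg Subtype.val h
        simpa using this
      exact Subtype.ext (hx.mul_left_cancel h')
    obtain ⟨z, hz⟩ := (Finite.injective_iff_surjective.mp hinj) 1
    exact IsUnit.of_mul_eq_one z hz
  have h2R : IsUnit (2 : Algebra.adjoin F ({δ, s} : Set (Module.End F V))) := by
    have := (IsUnit.mk0 (2 : F) h2).map
      (algebraMap F (Algebra.adjoin F ({δ, s} : Set (Module.End F V))))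
    rwa [map_ofNat] at this
  obtain ⟨a, b, hab⟩ := NORMINV.exists_sq_sub h2R ⟨δ, hδmem⟩ ⟨s, hsmem⟩
    (hunitR ⟨δ, hδmem⟩ hδunit) (hunitR ⟨s, hsmem⟩ hs)
  -- back in `End V`
  have hab' : (a : Module.End F V) * a - δ * ((b : Module.End F V) * b) = s := by
    have := congrArg Subtype.val hab
    simpa [pow_two] using this
  obtain ⟨hasym, haθ, hag⟩ := hP a a.2
  obtain ⟨hbsym, hbθ, hbg⟩ := hP b b.2
  have habc : (a : Module.End F V) * b = b * a := setLike_mul_comm a.2 b.2
  obtain ⟨hzy, hyz⟩ := mul_conj (a : Module.End F V) b θ habc haθ hbθ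
  rw [← hδ, hab'] at hzy hyz
  refine ⟨a + b * θ, ?_, ?_, ?_⟩
  · obtain ⟨su, hsu⟩ := hs
    refine isUnit_iff_exists_and_exists.mpr ⟨⟨(a - b * θ) * ↑su⁻¹, ?_⟩, ⟨↑su⁻¹ * (a - b * θ), ?_⟩⟩
    · rw [← mul_assoc, hyz, ← hsu, Units.mul_inv]
    · rw [mul_assoc, hzy, ← hsu, Units.inv_mul]
  · rw [add_mul, mul_add, hag, mul_assoc, hθg, ← mul_assoc, hbg, mul_assoc]
  · intro u v
    have key : ∀ w, B (((a : Module.End F V) + b * θ) u) w =
        B u (((a : Module.End F V) - b * θ) w) := by
      intro w
      simp only [LinearMap.add_apply, LinearMap.sub_apply, Module.End.mul_apply, map_add, map_sub]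
      rw [hasym, hbsym, hskew]
      have : θ ((b : Module.End F V) w) = (b : Module.End F V) (θ w) := by
        have := congrArg (fun f : Module.End F V => f w) hbθ
        simpa using this.symm
      rw [this]
      ring
    rw [key, ← Module.End.mul_apply, hzy, hsym]

end NORMY

end Cfsg.Agent.S2482P
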