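import Mathlib
import Cfsg.Agent.Helper29.TV2Basic

/-! Board `s2981pieces`, rows `Q2_*` (the `q = 2` half of S2981 part (B), driver helper29): definitions.
Blueprint: `departures/helper25_S2981_blueprint.md` §1; stubs: `departures/helper29_s2981q2_stubs.lean.txt`. -/

set_option autoImplicit false

namespace Cfsg.Agent.TV2

variable {P : Type*} [Group P] {W : Type*} [AddCommGroup W] [Module (ZMod 2) W] [DistribMulAction P W]

/-- the context with the same `T`, `M` and another given transvection `d`. -/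
def Ctx.withTv (C : Ctx P W) (d : P) (hd : Tv W d) : Ctx P W := { C with a := d, ha := hd }

theorem Ctx.withTv_T (C : Ctx P W) (d : P) (hd : Tv W d) : (C.withTv d hd).T = C.T := rfl

theorem Ctx.withTv_M (C : Ctx P W) (d : P) (hd : Tv W d) : (C.withTv d hd).M = C.M := rfl

theorem Ctx.withTv_a (C : Ctx P W) (d : P) (hd : Tv W d) : (C.withTv d hd).a = d := rfl

theorem Ctx.withTv_isBase (C : Ctx P W) (d : P) (hd : Tv W d) {z : W} (hz : C.IsBase z) : (C.withTv d hd).IsBase z :=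
  ⟨hz.fixT, hz.moved⟩

/-- the abstract conclusion (that of `ABSMAINS`) for an explicit family `E`. -/
def AbsFam (C : Ctx P W) (r n : ℕ) (E : Fin r → Subgroup P) : Prop :=
  1 ≤ r ∧ 1 ≤ n ∧
    (∀ i j, i ≠ j → ∀ g ∈ E i, ∀ h ∈ E j, g * h = h * g) ∧
    (∀ i, E i ⊓ (⨆ j ∈ {j | j ≠ i}, E j) = ⊥) ∧
    (⨆ i, E i) ⊔ (C.T : Subgroup P) = ⊤ ∧
    (∀ i j, ∃ t ∈ (C.T : Subgroup P), (E i).map (MulAut.conj t).toMonoidHom = E j) ∧
    (∀ w : W, ∃ w0 : W, (∀ i, ∀ e ∈ E i, e • w0 = w0) ∧ w - w0 ∈ ⨆ i, commS W (E i)) ∧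
    (∀ i j, i ≠ j → ∀ u ∈ commS W (E i), ∀ e ∈ E j, e • u = u) ∧
    (∀ i, ∃ (ρ : ↥(E i) →* Equiv.Perm (Fin (2 ^ n + 1))) (ψ : W →+ (Fin (2 ^ n + 1) → ZMod 2)),
      Function.Bijective ρ ∧ (∀ w : W, ∑ k, ψ w k = 0) ∧
      (∀ v : Fin (2 ^ n + 1) → ZMod 2, ∑ k, v k = 0 → ∃ u ∈ commS W (E i), ψ u = v) ∧
      (∀ w : W, ψ w = 0 ↔ ∀ e ∈ E i, e • w = w) ∧
      ∀ (e : ↥(E i)) (w : W) (k : Fin (2 ^ n + 1)), ψ ((e : P) • w) k = ψ w ((ρ e)⁻¹ k)) ∧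
    ∀ i, ∀ t ∈ (C.T : Subgroup P), ∃ j, (E i).map (MulAut.conj t).toMonoidHom = E j

end Cfsg.Agent.TV2
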