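import Mathlib
import Cfsg.Agent.Helper2.QuaternionLift

/-!
# Recognising `3² : Q₈` from generators and relations in a group of order 72
-/

set_option autoImplicit false

namespace Cfsg.Agent.Helper29.Q8Ext

open Subgroup Cfsg.Agent.Helper2.QLift

variable {G : Type*} [Group G]

theorem conj_zpow' (s x : G) (k : ℤ) : s * x ^ k * s⁻¹ = (s * x * s⁻¹) ^ k := by
  have := map_zpow (MulAut.conj s) x k
  simp only [MulAut.conj_apply] at this
  exact this

theorem not_three_dvd (k : ℤ) : ¬ (3 : ℤ) ∣ k * k + 1 := by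
  intro h
  have h1 : (k * k + 1) % 3 = 0 := Int.emod_eq_zero_of_dvd h
  have h2 : (k * k + 1) % 3 = ((k % 3) * (k % 3) + 1) % 3 := by
    rw [Int.add_emod, Int.mul_emod]
    simp [Int.add_emod]
  rw [h2] at h1
  have h3 : 0 ≤ k % 3 := Int.emod_nonneg k (by norm_num)
  have h4 : k % 3 < 3 := Int.emod_lt_of_pos k (by norm_num)
  interval_cases (k % 3) <;> simp at h1

/-- the subgroup generated by `d, c` has exponent three. -/
theorem pow_three_of_mem {d c : G} (hd3 : d ^ 3 = 1) (hc3 : c ^ 3 = 1) (hdc : d * c = c * d) :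
    ∀ x ∈ closure ({d, c} : Set G), x ^ 3 = 1 := by
  have hcomm : ∀ x ∈ ({d, c} : Set G), ∀ y ∈ ({d, c} : Set G), x * y = y * x := by
    intro x hx y hy
    rcases hx with rfl | rfl <;> rcases hy with rfl | rfl
    · rfl
    · exact hdc
    · exact hdc.symm
    · rfl
  have hmc : IsMulCommutative (closure ({d, c} : Set G)) := isMulCommutative_closure hcomm
  let _ : CommGroup (closure ({d, c} : Set G)) :=
    { (inferInstance : Group (closure ({d, c} : Set G))) with mul_comm := hmc.is_comm.comm }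
  have key : closure ({d, c} : Set G) ≤
      ((powMonoidHom 3 : closure ({d, c} : Set G) →* closure ({d, c} : Set G)).ker).map
        (closure ({d, c} : Set G)).subtype := by
    rw [closure_le]
    intro x hx
    have hxm : x ∈ closure ({d, c} : Set G) := subset_closure hx
    refine ⟨⟨x, hxm⟩, ?_, rfl⟩
    rw [SetLike.mem_coe, MonoidHom.mem_ker, powMonoidHom_apply]
    apply Subtype.ext
    rw [SubgroupClass.coe_pow]
    rcases hx with rfl | rfl
    · exact hd3
    · exact hc3
  intro x hx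
  obtain ⟨y, hy, rfl⟩ := key hx
  rw [SetLike.mem_coe, MonoidHom.mem_ker, powMonoidHom_apply] at hy
  have := congrArg Subtype.val hy
  simpa using this

theorem main [Finite G] (hG : Nat.card G = 72) (d c s t : G)
    (hd3 : d ^ 3 = 1) (hc3 : c ^ 3 = 1) (hdc : d * c = c * d) (hd1 : d ≠ 1)
    (hsc : s * c * s⁻¹ = d) (hsd : s * d * s⁻¹ = c⁻¹)
    (htd : t * d * t⁻¹ ∈ closure ({d, c} : Set G)) (htc : t * c * t⁻¹ ∈ closure ({d, c} : Set G))
    (hs4 : s ^ 4 = 1) (hs2 : s ^ 2 ≠ 1) (ht2 : t * t = s ^ 2) (hts : t * s * t⁻¹ = s⁻¹) :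
    ∃ (N : Subgroup G) (_ : N.Normal), Nat.card N = 9 ∧ (∀ x ∈ N, x ^ 3 = 1) ∧
      Nonempty (G ⧸ N ≃* QuaternionGroup 2) := by
  classical
  set N : Subgroup G := closure ({d, c} : Set G) with hN
  have hdN : d ∈ N := subset_closure (by simp)
  have hcN : c ∈ N := subset_closure (by simp)
  have hexp : ∀ x ∈ N, x ^ 3 = 1 := pow_three_of_mem hd3 hc3 hdc
  -- order of `d`
  have hod : orderOf d = 3 := by
    have h1 : orderOf d ∣ 3 := orderOf_dvd_of_pow_eq_one hd3
    rcases (Nat.dvd_prime Nat.prime_three).mp h1 with h | h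
    · exact absurd (orderOf_eq_one_iff.mp h) hd1
    · exact h
  -- `c ∉ ⟨d⟩`
  have hc_not : c ∉ zpowers d := by
    intro hc
    obtain ⟨k, hk⟩ := mem_zpowers_iff.mp hc
    have h1 : d = (c⁻¹) ^ k := by
      rw [← hsd, ← conj_zpow', hk, hsc]
    have h2 : d ^ (k * k + 1) = 1 := by
      have : (c⁻¹) ^ k = (d ^ (k * k))⁻¹ := by
        rw [← hk, inv_zpow, zpow_mul]
      rw [zpow_add, zpow_one]
      nth_rewrite 2 [h1]
      rw [this, mul_inv_cancel]
    have h3 : (orderOf d : ℤ) ∣ k * k + 1 := orderOf_dvd_iff_zpow_eq_one.mpr h2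
    rw [hod] at h3
    exact not_three_dvd k (by exact_mod_cast h3)
  -- `|N| = 9`
  have hpg : IsPGroup 3 N := by
    intro x
    refine ⟨1, ?_⟩
    apply Subtype.ext
    rw [SubgroupClass.coe_pow, pow_one]
    exact hexp x x.2
  obtain ⟨m, hm⟩ := hpg.exists_card_eq
  have hdvd : Nat.card N ∣ 72 := hG ▸ card_subgroup_dvd_card N
  have hlt : 3 < Nat.card N := by
    have h1 : zpowers d ≤ N := zpowers_le.mpr hdN
    have h2 : Nat.card (zpowers d) = 3 := by rw [Nat.card_zpowers, hod]
    have h3 : Nat.card (zpowers d) ≤ Nat.card N := card_le_of_le h1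
    rcases Nat.lt_or_ge 3 (Nat.card N) with h | h
    · exact h
    · exfalso
      have h4 : zpowers d = N := eq_of_le_of_card_ge h1 (by omega)
      exact hc_not (h4 ▸ hcN)
  have hN9 : Nat.card N = 9 := by
    rw [hm] at hdvd hlt ⊢
    have hm3 : m < 3 := by
      by_contra hcon
      push Not at hcon
      have : 3 ^ 3 ∣ 72 := (pow_dvd_pow 3 hcon).trans hdvd
      norm_num at this
    interval_cases m <;> simp_all
  -- the quaternion subgroup
  have hs4' : s ^ (2 * 2) = 1 := hs4
  have hos : orderOf s = 2 * 2 := by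
    have := orderOf_eq_prime_pow (x := s) (p := 2) (n := 1) (by simpa using hs2) (by simpa using hs4)
    rw [this]; norm_num
  have htnot : t ∉ zpowers s := not_mem_zpowers_of_sq_ne s t hts hs2
  have hinj := quaternionLift_injective 2 s t hs4' ht2 hts hos htnot
  set Q : Subgroup G := (quaternionLift 2 s t hs4' ht2 hts).range with hQ
  have hQ8 : Nat.card Q = 8 := by
    have e : QuaternionGroup 2 ≃* Q := MonoidHom.ofInjective hinj
    rw [← Nat.card_congr e.toEquiv, Nat.card_eq_fintype_card, QuaternionGroup.card]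
  -- `s, t` normalise `N`
  have hconj : ∀ g : G, g * d * g⁻¹ ∈ N → g * c * g⁻¹ ∈ N → ∀ x ∈ N, g * x * g⁻¹ ∈ N := by
    intro g h1 h2
    have : N ≤ N.comap (MulAut.conj g).toMonoidHom := by
      rw [hN, closure_le]
      intro x hx
      rcases hx with rfl | rfl
      · exact h1
      · exact h2
    intro x hx
    exact this hx
  have hnorm_of : ∀ g : G, (∀ x ∈ N, g * x * g⁻¹ ∈ N) → g ∈ normalizer (N : Set G) := by
    intro g hg
    rw [mem_normalizer_iff]
    intro x
    refine ⟨hg x, fun hx => ?_⟩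
    -- conjugation by `g` is an injective self-map of the finite set `N`
    have hinj' : Function.Injective (fun y : N => (⟨g * y * g⁻¹, hg y y.2⟩ : N)) := by
      intro y z hyz
      have := congrArg Subtype.val hyz
      simp only [mul_left_inj, mul_right_inj] at this
      exact Subtype.ext this
    obtain ⟨y, hy⟩ := (Finite.injective_iff_surjective.mp hinj') ⟨g * x * g⁻¹, hx⟩
    have := congrArg Subtype.val hy
    simp only [mul_left_inj, mul_right_inj] at this
    rw [← this]
    exact y.2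
  have hsN : s ∈ normalizer (N : Set G) := by
    apply hnorm_of
    apply hconj
    · rw [hsd]; exact N.inv_mem hcN
    · rw [hsc]; exact hdN
  have htN : t ∈ normalizer (N : Set G) := hnorm_of t (hconj t htd htc)
  have hQle : Q ≤ normalizer (N : Set G) := range_le 2 s t hs4' ht2 hts _ hsN htN
  -- the normaliser is everything
  have hNtop : normalizer (N : Set G) = ⊤ := by
    apply eq_top_of_card_eq
    have h1 : 9 ∣ Nat.card (normalizer (N : Set G)) := hN9 ▸ card_dvd_of_le le_normalizer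
    have h2 : 8 ∣ Nat.card (normalizer (N : Set G)) := hQ8 ▸ card_dvd_of_le hQle
    have h3 : 72 ∣ Nat.card (normalizer (N : Set G)) :=
      (Nat.Coprime.mul_dvd_of_dvd_of_dvd (by norm_num) h1 h2)
    have h4 : Nat.card (normalizer (N : Set G)) ∣ 72 := hG ▸ card_subgroup_dvd_card _
    rw [hG]
    exact Nat.dvd_antisymm h4 h3
  have hNn : N.Normal := normalizer_eq_top_iff.mp hNtop
  refine ⟨N, hNn, hN9, hexp, ?_⟩
  -- the quotient
  have hcardq : Nat.card (G ⧸ N) = 4 * 2 := by
    have := card_eq_card_quotient_mul_card_subgroup N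
    rw [hG, hN9] at this
    omega
  have hmk2 : (QuotientGroup.mk s : G ⧸ N) ^ 2 ≠ 1 := by
    rw [← QuotientGroup.mk_pow]
    intro h
    have h1 : s ^ 2 ∈ N := (QuotientGroup.eq_one_iff _).mp h
    have h2 := hexp _ h1
    have h3 : (s ^ 2) ^ 2 = 1 := by rw [← pow_mul]; exact hs4
    apply hs2
    calc s ^ 2 = (s ^ 2) ^ 3 * ((s ^ 2) ^ 2)⁻¹ := by group
      _ = 1 := by rw [h2, h3]; simp
  have hmk4 : (QuotientGroup.mk s : G ⧸ N) ^ 4 = 1 := by
    rw [← QuotientGroup.mk_pow, hs4]
    rfl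
  have hosq : orderOf (QuotientGroup.mk s : G ⧸ N) = 2 * 2 := by
    have := orderOf_eq_prime_pow (x := (QuotientGroup.mk s : G ⧸ N)) (p := 2) (n := 1)
      (by simpa using hmk2) (by simpa using hmk4)
    rw [this]; norm_num
  have hbq : (QuotientGroup.mk t : G ⧸ N) * QuotientGroup.mk t = (QuotientGroup.mk s : G ⧸ N) ^ 2 := by
    rw [← QuotientGroup.mk_mul, ← QuotientGroup.mk_pow, ht2]
  have habq : (QuotientGroup.mk t : G ⧸ N) * QuotientGroup.mk s * (QuotientGroup.mk t)⁻¹ =
      (QuotientGroup.mk s : G ⧸ N)⁻¹ := by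
    rw [← QuotientGroup.mk_mul, ← QuotientGroup.mk_inv, ← QuotientGroup.mk_mul, hts,
      QuotientGroup.mk_inv]
  exact nonempty_mulEquiv_quaternionGroup 2 hcardq _ _ hosq hbq habq
    (not_mem_zpowers_of_sq_ne _ _ habq hmk2)

end Cfsg.Agent.Helper29.Q8Ext
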