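import Mathlib
import Cfsg.Agent.Helper2.UnitaryCenter
import Cfsg.Agent.Helper29.Q8Ext
import Cfsg.Agent.S0282

/-!
# The structure of `PSU₃(2) = 3² : Q₈`, via explicit matrices over the field with four elements
-/

set_option autoImplicit false
set_option linter.unusedSectionVars false
set_option linter.unusedVariables false

namespace Cfsg.Agent.Helper29.PSU32

open Matrix Cfsg.Agent.Helper2.Herm

variable {F : Type*} [Field F] [Fintype F]

theorem two_eq_zero (hF : Fintype.card F = 4) : (2 : F) = 0 := by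
  have h1 : ((Fintype.card F : ℕ) : F) = 0 := Nat.cast_card_eq_zero F
  rw [hF] at h1
  have h2 : (2 : F) * 2 = 0 := by
    have : ((4 : ℕ) : F) = 2 * 2 := by norm_num
    rw [← this]; exact h1
  rcases mul_eq_zero.mp h2 with h | h <;> exact h

theorem exists_omega (hF : Fintype.card F = 4) : ∃ ω : F, ω ^ 2 + ω + 1 = 0 := by
  classical
  have h2 := two_eq_zero hF
  -- an element different from `0` and `1`
  have hcard : 2 < Fintype.card F := by rw [hF]; norm_num
  obtain ⟨ω, hω⟩ : ∃ ω : F, ω ∉ ({0, 1} : Finset F) := by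
    by_contra hcon
    push Not at hcon
    have : (Finset.univ : Finset F) ⊆ {0, 1} := fun x _ => hcon x
    have h3 := Finset.card_le_card this
    rw [Finset.card_univ] at h3
    have h4 : ({0, 1} : Finset F).card ≤ 2 := Finset.card_insert_le _ _
    omega
  simp only [Finset.mem_insert, Finset.mem_singleton, not_or] at hω
  refine ⟨ω, ?_⟩
  have h4 : ω ^ 4 = ω := by
    have := FiniteField.pow_card ω
    rwa [hF] at this
  have h5 : ω * (ω - 1) * (ω ^ 2 + ω + 1) = 0 := by linear_combination h4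
  rcases mul_eq_zero.mp h5 with h | h
  · rcases mul_eq_zero.mp h with h | h
    · exact absurd h hω.1
    · exact absurd (sub_eq_zero.mp h) hω.2
  · exact h

/-- the hypotheses on `ω`. -/
structure Om (ω : F) : Prop where
  h2 : (2 : F) = 0
  hω : ω ^ 2 + ω + 1 = 0

def dM (ω : F) : Matrix (Fin 3) (Fin 3) F := !![1, 0, 0; 0, ω, 0; 0, 0, ω ^ 2]
def cM : Matrix (Fin 3) (Fin 3) F := !![0, 0, 1; 1, 0, 0; 0, 1, 0]
def sM (ω : F) : Matrix (Fin 3) (Fin 3) F := !![1, 1, 1; 1, ω, ω ^ 2; 1, ω ^ 2, ω]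
def tM (ω : F) : Matrix (Fin 3) (Fin 3) F :=
  !![1, ω ^ 2, ω ^ 2; ω, ω, ω ^ 2; ω, ω ^ 2, ω]

section
variable {ω : F} (hom : Om ω)
include hom

theorem det_dM : (dM ω).det = 1 := by
  have h2 := hom.h2; have hω := hom.hω
  simp [dM, Matrix.det_fin_three]; grind

theorem det_cM : (cM : Matrix (Fin 3) (Fin 3) F).det = 1 := by
  simp [cM, Matrix.det_fin_three]

theorem det_sM : (sM ω).det = 1 := by
  have h2 := hom.h2; have hω := hom.hω
  simp [sM, Matrix.det_fin_three]; grind

theorem det_tM : (tM ω).det = 1 := by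
  have h2 := hom.h2; have hω := hom.hω
  simp [tM, Matrix.det_fin_three]; grind

theorem isON_dM : IsON 2 (cols (dM ω)) := by
  have h2 := hom.h2; have hω := hom.hω
  intro i j
  fin_cases i <;> fin_cases j <;>
    simp [Cfsg.hermForm, cols, Fin.sum_univ_three, dM] <;> grind

theorem isON_cM : IsON 2 (cols (cM : Matrix (Fin 3) (Fin 3) F)) := by
  intro i j
  fin_cases i <;> fin_cases j <;>
    simp [Cfsg.hermForm, cols, Fin.sum_univ_three, cM]

theorem isON_sM : IsON 2 (cols (sM ω)) := by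
  have h2 := hom.h2; have hω := hom.hω
  intro i j
  fin_cases i <;> fin_cases j <;>
    simp [Cfsg.hermForm, cols, Fin.sum_univ_three, sM] <;> grind

theorem isON_tM : IsON 2 (cols (tM ω)) := by
  have h2 := hom.h2; have hω := hom.hω
  intro i j
  fin_cases i <;> fin_cases j <;>
    simp [Cfsg.hermForm, cols, Fin.sum_univ_three, tM] <;> grind

end

/-! ### group elements -/

theorem hF' (hF : Fintype.card F = 4) : Fintype.card F = 2 ^ 2 := by rw [hF]; norm_num

/-- an element of `SU₃(2)` from an explicit matrix. -/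
def mkSU (hF : Fintype.card F = 4) (M : Matrix (Fin 3) (Fin 3) F) (hdet : M.det = 1)
    (hon : IsON 2 (cols M)) : Cfsg.SU 3 F 2 :=
  ⟨⟨M, hdet⟩, (mem_SU_iff_isON (hF' hF) _).mpr hon⟩

@[simp] theorem mkSU_coe (hF : Fintype.card F = 4) (M : Matrix (Fin 3) (Fin 3) F)
    (hdet : M.det = 1) (hon : IsON 2 (cols M)) : (mkSU hF M hdet hon).1.1 = M := rfl

/-- the matrix of an element of `SU`. -/
def mat (x : Cfsg.SU 3 F 2) : Matrix (Fin 3) (Fin 3) F := x.1.1

theorem mat_mul (x y : Cfsg.SU 3 F 2) : mat (x * y) = mat x * mat y := rfl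

theorem mat_one : mat (1 : Cfsg.SU 3 F 2) = 1 := rfl

theorem mat_injective : Function.Injective (mat : Cfsg.SU 3 F 2 → Matrix (Fin 3) (Fin 3) F) :=
  fun _ _ h => Subtype.ext (Subtype.ext h)

theorem mat_mkSU (hF : Fintype.card F = 4) (M : Matrix (Fin 3) (Fin 3) F)
    (hdet : M.det = 1) (hon : IsON 2 (cols M)) : mat (mkSU hF M hdet hon) = M := rfl

/-- scalar matrices are central. -/
theorem mem_center_of_scalar (x : Cfsg.SU 3 F 2) (ζ : F) (h : mat x = ζ • (1 : Matrix (Fin 3) (Fin 3) F)) :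
    x ∈ Subgroup.center (Cfsg.SU 3 F 2) := by
  rw [Subgroup.mem_center_iff]
  intro g
  apply mat_injective
  rw [mat_mul, mat_mul, h]
  simp

/-- proportional matrices give the same element of `PSU`. -/
theorem mk_eq_of_smul (x y : Cfsg.SU 3 F 2) (ζ : F) (h : mat y = ζ • mat x) :
    (QuotientGroup.mk y : Cfsg.PSU 3 F 2) = QuotientGroup.mk x := by
  symm
  rw [QuotientGroup.eq]
  apply mem_center_of_scalar _ ζ
  rw [mat_mul, h, Matrix.mul_smul, ← mat_mul, inv_mul_cancel, mat_one]

theorem not_mem_center_of_offdiag (hF : Fintype.card F = 4) (x : Cfsg.SU 3 F 2) (a b : Fin 3)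
    (hab : a ≠ b) (h : mat x a b ≠ 0) : x ∉ Subgroup.center (Cfsg.SU 3 F 2) := by
  intro hx
  rw [Subgroup.mem_center_iff] at hx
  apply h
  refine central_offdiag (hF' hF) x.1 ?_ a b hab
  intro g hg
  have := hx ⟨g, hg⟩
  exact congrArg Subtype.val this

theorem not_mem_center_of_diag (hF : Fintype.card F = 4) (x : Cfsg.SU 3 F 2) (a b : Fin 3)
    (h : mat x a a ≠ mat x b b) : x ∉ Subgroup.center (Cfsg.SU 3 F 2) := by
  intro hx
  rw [Subgroup.mem_center_iff] at hx
  apply h
  refine central_diag (hF' hF) x.1 ?_ a b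
  intro g hg
  have := hx ⟨g, hg⟩
  exact congrArg Subtype.val this

section
variable (hF : Fintype.card F = 4) {ω : F} (hom : Om ω)

def dS : Cfsg.SU 3 F 2 := mkSU hF (dM ω) (det_dM hom) (isON_dM hom)
def cS : Cfsg.SU 3 F 2 := mkSU hF cM (det_cM hom) (isON_cM hom)
def sS : Cfsg.SU 3 F 2 := mkSU hF (sM ω) (det_sM hom) (isON_sM hom)
def tS : Cfsg.SU 3 F 2 := mkSU hF (tM ω) (det_tM hom) (isON_tM hom)

theorem dS_pow : dS hF hom ^ 3 = 1 := by
  have h2 := hom.h2; have hω := hom.hω
  apply mat_injective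
  rw [pow_succ, pow_succ, pow_one, mat_mul, mat_mul, mat_one]
  change dM ω * dM ω * dM ω = 1
  ext i j
  fin_cases i <;> fin_cases j <;>
    simp [Matrix.mul_apply, Fin.sum_univ_three, dM] <;> grind

theorem cS_pow : cS hF hom ^ 3 = 1 := by
  apply mat_injective
  rw [pow_succ, pow_succ, pow_one, mat_mul, mat_mul, mat_one]
  change (cM : Matrix (Fin 3) (Fin 3) F) * cM * cM = 1
  ext i j
  fin_cases i <;> fin_cases j <;>
    simp [Matrix.mul_apply, Fin.sum_univ_three, cM]

theorem sS_pow : sS hF hom ^ 4 = 1 := by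
  have h2 := hom.h2; have hω := hom.hω
  apply mat_injective
  rw [pow_succ, pow_succ, pow_succ, pow_one, mat_mul, mat_mul, mat_mul, mat_one]
  change sM ω * sM ω * sM ω * sM ω = 1
  have hsq : sM ω * sM ω = !![1, 0, 0; 0, 0, 1; 0, 1, 0] := by
    ext i j
    fin_cases i <;> fin_cases j <;>
      simp [Matrix.mul_apply, Fin.sum_univ_three, sM] <;> grind
  rw [Matrix.mul_assoc (sM ω * sM ω), hsq]
  ext i j
  fin_cases i <;> fin_cases j <;>
    simp [Matrix.mul_apply, Fin.sum_univ_three]

theorem sS_sq_mat : mat (sS hF hom ^ 2) = !![1, 0, 0; 0, 0, 1; 0, 1, 0] := by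
  have h2 := hom.h2; have hω := hom.hω
  rw [pow_two, mat_mul]
  change sM ω * sM ω = _
  ext i j
  fin_cases i <;> fin_cases j <;>
    simp [Matrix.mul_apply, Fin.sum_univ_three, sM] <;> grind

theorem tS_sq : tS hF hom * tS hF hom = sS hF hom ^ 2 := by
  have h2 := hom.h2; have hω := hom.hω
  apply mat_injective
  rw [sS_sq_mat, mat_mul]
  change tM ω * tM ω = _
  ext i j
  fin_cases i <;> fin_cases j <;>
    simp [Matrix.mul_apply, Fin.sum_univ_three, tM] <;> grind

theorem sts : sS hF hom * tS hF hom * sS hF hom = tS hF hom := by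
  have h2 := hom.h2; have hω := hom.hω
  apply mat_injective
  rw [mat_mul, mat_mul]
  change sM ω * tM ω * sM ω = tM ω
  ext i j
  fin_cases i <;> fin_cases j <;>
    simp [Matrix.mul_apply, Fin.sum_univ_three, sM, tM] <;> grind

theorem sc : sS hF hom * cS hF hom = dS hF hom * sS hF hom := by
  have h2 := hom.h2; have hω := hom.hω
  apply mat_injective
  rw [mat_mul, mat_mul]
  change sM ω * cM = dM ω * sM ω
  ext i j
  fin_cases i <;> fin_cases j <;>
    simp [Matrix.mul_apply, Fin.sum_univ_three, sM, cM, dM] <;> grind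

theorem sd : sS hF hom * dS hF hom = cS hF hom * cS hF hom * sS hF hom := by
  have h2 := hom.h2; have hω := hom.hω
  apply mat_injective
  rw [mat_mul, mat_mul, mat_mul]
  change sM ω * dM ω = cM * cM * sM ω
  ext i j
  fin_cases i <;> fin_cases j <;>
    simp [Matrix.mul_apply, Fin.sum_univ_three, sM, cM, dM] <;> grind

theorem cd : mat (cS hF hom * dS hF hom) = ω ^ 2 • mat (dS hF hom * cS hF hom) := by
  have h2 := hom.h2; have hω := hom.hω
  rw [mat_mul, mat_mul]
  change cM * dM ω = ω ^ 2 • (dM ω * cM)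
  ext i j
  fin_cases i <;> fin_cases j <;>
    simp [Matrix.mul_apply, Fin.sum_univ_three, cM, dM] <;> grind

theorem td : mat (tS hF hom * dS hF hom) =
    ω ^ 2 • mat (dS hF hom * cS hF hom * cS hF hom * tS hF hom) := by
  have h2 := hom.h2; have hω := hom.hω
  rw [mat_mul, mat_mul, mat_mul, mat_mul]
  change tM ω * dM ω = ω ^ 2 • (dM ω * cM * cM * tM ω)
  ext i j
  fin_cases i <;> fin_cases j <;>
    simp [Matrix.mul_apply, Fin.sum_univ_three, cM, dM, tM] <;> grind

theorem tc : mat (tS hF hom * cS hF hom) =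
    ω • mat (dS hF hom * dS hF hom * cS hF hom * cS hF hom * tS hF hom) := by
  have h2 := hom.h2; have hω := hom.hω
  rw [mat_mul, mat_mul, mat_mul, mat_mul, mat_mul]
  change tM ω * cM = ω • (dM ω * dM ω * cM * cM * tM ω)
  ext i j
  fin_cases i <;> fin_cases j <;>
    simp [Matrix.mul_apply, Fin.sum_univ_three, cM, dM, tM] <;> grind

end

end Cfsg.Agent.Helper29.PSU32
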