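import Mathlib
import Cfsg.Agent.Helper29.PSU32

/-! # `PSU₃(2) = 3² : Q₈` -/

set_option autoImplicit false
set_option linter.unusedSectionVars false
set_option linter.unusedVariables false

namespace Cfsg.Agent.Helper29.PSU32

open Matrix Cfsg.Agent.Helper2.Herm

variable {F : Type*} [Field F] [Fintype F]

theorem structure_thm (hF : Fintype.card F = 4) :
    ∃ (N : Subgroup (Cfsg.PSU 3 F 2)) (_ : N.Normal), Nat.card N = 9 ∧ (∀ x ∈ N, x ^ 3 = 1) ∧
      Nonempty (Cfsg.PSU 3 F 2 ⧸ N ≃* QuaternionGroup 2) := by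
  obtain ⟨ω, hω⟩ := exists_omega hF
  have h2 := two_eq_zero hF
  have hom : Om ω := ⟨h2, hω⟩
  have hcard : Nat.card (Cfsg.PSU 3 F 2) = 72 := (Cfsg.Agent.S0282.result hF).1
  have hfin : Finite (Cfsg.PSU 3 F 2) := Nat.finite_of_card_ne_zero (by rw [hcard]; norm_num)
  obtain ⟨d, hd⟩ : ∃ d, d = dS hF hom := ⟨_, rfl⟩
  obtain ⟨c, hc⟩ : ∃ c, c = cS hF hom := ⟨_, rfl⟩
  obtain ⟨s, hs⟩ : ∃ s, s = sS hF hom := ⟨_, rfl⟩
  obtain ⟨t, ht⟩ : ∃ t, t = tS hF hom := ⟨_, rfl⟩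
  -- the relations
  have r1 : d ^ 3 = 1 := by rw [hd]; exact dS_pow hF hom
  have r2 : c ^ 3 = 1 := by rw [hc]; exact cS_pow hF hom
  have r3 : mat (c * d) = ω ^ 2 • mat (d * c) := by rw [hc, hd]; exact cd hF hom
  have r4 : s * c = d * s := by rw [hs, hc, hd]; exact sc hF hom
  have r5 : s * d = c * c * s := by rw [hs, hc, hd]; exact sd hF hom
  have r6 : mat (t * d) = ω ^ 2 • mat (d * c * c * t) := by rw [ht, hc, hd]; exact td hF hom
  have r7 : mat (t * c) = ω • mat (d * d * c * c * t) := by rw [ht, hc, hd]; exact tc hF hom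
  have r8 : s ^ 4 = 1 := by rw [hs]; exact sS_pow hF hom
  have r9 : t * t = s ^ 2 := by rw [ht, hs]; exact tS_sq hF hom
  have r10 : s * t * s = t := by rw [ht, hs]; exact sts hF hom
  have r11 : mat (s ^ 2) = !![1, 0, 0; 0, 0, 1; 0, 1, 0] := by rw [hs]; exact sS_sq_mat hF hom
  have r12 : mat d 0 0 ≠ mat d 1 1 := by
    rw [hd]
    change (dM ω) 0 0 ≠ (dM ω) 1 1
    simp only [dM, Matrix.of_apply, Matrix.cons_val_zero, Matrix.cons_val_one]
    intro h1
    grind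
  clear hd hc hs ht
  let π : Cfsg.SU 3 F 2 →* Cfsg.PSU 3 F 2 := QuotientGroup.mk' _
  have hd3 : (π d) ^ 3 = 1 := by rw [← map_pow, r1, map_one]
  have hc3 : (π c) ^ 3 = 1 := by rw [← map_pow, r2, map_one]
  have hdc : π d * π c = π c * π d := by
    rw [← map_mul, ← map_mul]
    exact (mk_eq_of_smul (d * c) (c * d) (ω ^ 2) r3).symm
  have hd1 : π d ≠ 1 := by
    intro h
    have h1 : d ∈ Subgroup.center (Cfsg.SU 3 F 2) := (QuotientGroup.eq_one_iff d).mp h
    exact not_mem_center_of_diag hF d 0 1 r12 h1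
  have hcinv : c⁻¹ = c * c := by
    rw [inv_eq_iff_mul_eq_one, ← r2, pow_succ, pow_succ, pow_one, mul_assoc]
  have hsc : π s * π c * (π s)⁻¹ = π d := by
    rw [← map_mul, ← map_inv, ← map_mul]
    congr 1
    rw [r4]
    group
  have hsd : π s * π d * (π s)⁻¹ = (π c)⁻¹ := by
    rw [← map_mul, ← map_inv, ← map_mul, ← map_inv]
    congr 1
    rw [r5, hcinv]
    group
  have hdm : π d ∈ Subgroup.closure ({π d, π c} : Set (Cfsg.PSU 3 F 2)) :=
    Subgroup.subset_closure (by simp)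
  have hcm : π c ∈ Subgroup.closure ({π d, π c} : Set (Cfsg.PSU 3 F 2)) :=
    Subgroup.subset_closure (by simp)
  have htd : π t * π d * (π t)⁻¹ ∈ Subgroup.closure ({π d, π c} : Set (Cfsg.PSU 3 F 2)) := by
    have h1 : π (t * d) = π (d * c * c * t) := mk_eq_of_smul _ _ (ω ^ 2) r6
    have h2 : π t * π d * (π t)⁻¹ = π d * π c * π c := by
      rw [← map_mul, h1]
      simp only [map_mul]
      group
    rw [h2]
    exact Subgroup.mul_mem _ (Subgroup.mul_mem _ hdm hcm) hcm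
  have htc : π t * π c * (π t)⁻¹ ∈ Subgroup.closure ({π d, π c} : Set (Cfsg.PSU 3 F 2)) := by
    have h1 : π (t * c) = π (d * d * c * c * t) := mk_eq_of_smul _ _ ω r7
    have h2 : π t * π c * (π t)⁻¹ = π d * π d * π c * π c := by
      rw [← map_mul, h1]
      simp only [map_mul]
      group
    rw [h2]
    exact Subgroup.mul_mem _ (Subgroup.mul_mem _ (Subgroup.mul_mem _ hdm hdm) hcm) hcm
  have hs4 : (π s) ^ 4 = 1 := by rw [← map_pow, r8, map_one]
  have hs2 : (π s) ^ 2 ≠ 1 := by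
    rw [← map_pow]
    intro h
    have h1 : s ^ 2 ∈ Subgroup.center (Cfsg.SU 3 F 2) := (QuotientGroup.eq_one_iff _).mp h
    refine not_mem_center_of_offdiag hF (s ^ 2) 1 2 (by decide) ?_ h1
    rw [r11]
    simp
  have ht2 : π t * π t = (π s) ^ 2 := by
    rw [← map_mul, ← map_pow, r9]
  have hts : π t * π s * (π t)⁻¹ = (π s)⁻¹ := by
    rw [← map_mul, ← map_inv, ← map_mul, ← map_inv]
    congr 1
    calc t * s * t⁻¹ = s⁻¹ * (s * t * s) * t⁻¹ := by group
      _ = s⁻¹ := by rw [r10]; group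
  exact Cfsg.Agent.Helper29.Q8Ext.main hcard (π d) (π c) (π s) (π t) hd3 hc3 hdc hd1 hsc hsd htd htc
    hs4 hs2 ht2 hts

end Cfsg.Agent.Helper29.PSU32
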