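import Mathlib
import Cfsg.Prelude.Def_GeometricClasses
import Cfsg.Prelude.Def_ClassicalGeometry
import Cfsg.Agent.Helper7.OrthUni3

set_option autoImplicit false
open scoped MatrixGroups

/-! S5977 / S5978 (PΩ^±_{2d}(q), q odd, subgroups of type O_d(q²)): shared definitions.
Everything is stated for an arbitrary finite index type `ι` and a quadratic form `Q` on `ι → F`
(`B = QuadraticMap.polar Q`). -/

namespace Cfsg.Agent.S5977P

variable {F : Type*} [Field F] {ι : Type} [Fintype ι] [DecidableEq ι]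

/-- The hypotheses on the quadratic field subalgebra `K` of the statements S5977, S5978. -/
structure HypS (Q : (ι → F) → F) (K : Subalgebra F (Matrix ι ι F)) : Prop where
  field : Cfsg.Geo.IsFieldSubalgebra 2 K
  sa : Cfsg.Geo.IsSelfAdjointFor (QuadraticMap.polar Q) K

/-- `J` is a generator of `K` with `J² = ν` (ν a non-square of `F`), self-adjoint for the polar
form of `Q`. -/
structure IsGenS (Q : (ι → F) → F) (K : Subalgebra F (Matrix ι ι F)) (ν : F)
    (J : Matrix ι ι F) : Prop where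
  mem : J ∈ K
  sq : J * J = ν • (1 : Matrix ι ι F)
  adj : ∀ u v : ι → F, QuadraticMap.polar Q (J.mulVec u) v = QuadraticMap.polar Q u (J.mulVec v)
  span : ∀ k ∈ K, ∃ α β : F, k = α • (1 : Matrix ι ι F) + β • J

/-- `e` is a `K`-orthogonal frame: the vectors `e a, J e a` form a basis of `F^ι`, different
`K`-lines `K e a` are orthogonal, and the `K`-valued form has value `c0 a + c1 a • J` on `e a`,
i.e. `Q (e a) = 2 c0 a`, `B (e a) (J e a) = 4 ν c1 a` (so the Gram matrix of `B` on the plane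
`K e a` w.r.t. `e a, J e a` is `4 • !![c0, ν c1; ν c1, ν c0]`). -/
structure IsFrameS (Q : (ι → F) → F) (ν : F) (J : Matrix ι ι F) (d : ℕ)
    (e : Fin d → (ι → F)) (c0 c1 : Fin d → F) : Prop where
  orth : ∀ a b, a ≠ b → QuadraticMap.polar Q (e a) (e b) = 0 ∧
    QuadraticMap.polar Q (e a) (J.mulVec (e b)) = 0
  val0 : ∀ a, Q (e a) = 2 * c0 a
  val1 : ∀ a, QuadraticMap.polar Q (e a) (J.mulVec (e a)) = 4 * ν * c1 a
  indep : LinearIndependent F (Sum.elim e (fun a => J.mulVec (e a)))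
  card : Fintype.card ι = 2 * d

/-- A normalised frame: value `1` on all frame vectors but the last, `δ0 + δ1 • J` on the last. -/
def IsNormFrameS (Q : (ι → F) → F) (ν : F) (J : Matrix ι ι F) (d : ℕ)
    (e : Fin d → (ι → F)) (δ0 δ1 : F) : Prop :=
  IsFrameS Q ν J d e (fun a => if a.val + 1 = d then δ0 else 1)
    (fun a => if a.val + 1 = d then δ1 else 0)

/-- Gram matrix of the standard model with values `c0 a + c1 a √ν`: coordinates `inl a ↔ e a`,
`inr a ↔ J e a`. -/
def Gstd (ν : F) (d : ℕ) (c0 c1 : Fin d → F) : Matrix (Fin d ⊕ Fin d) (Fin d ⊕ Fin d) F :=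
  Matrix.fromBlocks (Matrix.diagonal fun a => 4 * c0 a) (Matrix.diagonal fun a => 4 * ν * c1 a)
    (Matrix.diagonal fun a => 4 * ν * c1 a) (Matrix.diagonal fun a => 4 * ν * c0 a)

/-- The standard generator: `Jstd (single (inl a)) = single (inr a)`,
`Jstd (single (inr a)) = ν • single (inl a)`. -/
def Jstd (ν : F) (d : ℕ) : Matrix (Fin d ⊕ Fin d) (Fin d ⊕ Fin d) F :=
  Matrix.fromBlocks 0 (ν • (1 : Matrix (Fin d) (Fin d) F)) 1 0

/-- The standard model `Qstd v = (1/2) vᵀ Gstd v`. -/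
noncomputable def Qstd (ν : F) (d : ℕ) (c0 c1 : Fin d → F) :
    QuadraticForm F (Fin d ⊕ Fin d → F) :=
  Cfsg.Agent.Helper7.OrthUni.qf (Gstd ν d c0 c1)

/-- `|O^±_{2d}(q)|`. -/
def cardO (q d : ℕ) (plus : Bool) : ℕ :=
  2 * q ^ (d * (d - 1)) * (if plus = true then q ^ d - 1 else q ^ d + 1) *
    ∏ k ∈ Finset.range (d - 1), (q ^ (2 * (k + 1)) - 1)

/-- `|O_{2m+1}(q)|`. -/
def cardOodd (q m : ℕ) : ℕ :=
  2 * q ^ (m ^ 2) * ∏ k ∈ Finset.range m, (q ^ (2 * (k + 1)) - 1)

/-- `|O^±_d(q²)|` (`d` even) resp. `|O_d(q²)|` (`d` odd). -/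
def cardOK (q d : ℕ) (plus : Bool) : ℕ :=
  if Even d then cardO (q ^ 2) (d / 2) plus else cardOodd (q ^ 2) (d / 2)

/-- The type data of the form `Q` on a space of dimension `2d` used by the generic theorem. -/
structure IsTypeS [Fintype F] (Q : QuadraticForm F (ι → F)) (d : ℕ) (plus : Bool) : Prop where
  card : Fintype.card ι = 2 * d
  nondeg : (QuadraticMap.polarBilin Q).Nondegenerate
  cardO : Nat.card ↥(Cfsg.isometryGroup F ⇑Q) = cardO (Fintype.card F) d plus
  disc : IsSquare ((-1 : F) ^ d * (Cfsg.Agent.Helper7.OrthUni.gram Q).det) ↔ plus = true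

end Cfsg.Agent.S5977P
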