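import Mathlib
import Cfsg.Agent.Helper29.Eigen

set_option autoImplicit false
set_option linter.style.haveILetI false

/-! Towards Huppert's theorem: a minimal normal elementary abelian `p`-subgroup centralized by all
commutators and `(p-1)`-th powers has order `p`. -/

namespace Cfsg.Agent.Helper29

open Subgroup

open scoped IsMulCommutative in
theorem conj_eq_pow_of_centralizing {G : Type*} [Group G] [Finite G] (p : ℕ) [Fact p.Prime]
    (N : Subgroup G) [hNn : N.Normal] (hNbot : N ≠ ⊥)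
    (hmin : ∀ K : Subgroup G, K.Normal → K ≤ N → K = ⊥ ∨ K = N)
    [hcomm : IsMulCommutative N] (hexp : ∀ x ∈ N, x ^ p = 1)
    (hcent1 : ∀ g h : G, g * h * g⁻¹ * h⁻¹ ∈ centralizer (N : Set G))
    (hcent2 : ∀ g : G, g ^ (p - 1) ∈ centralizer (N : Set G)) (g : G) :
    ∃ k : ℕ, ∀ w ∈ N, g * w * g⁻¹ = w ^ k := by
  haveI : Nontrivial N := (Subgroup.nontrivial_iff_ne_bot N).mpr hNbot
  let φ : N →* N := (MulAut.conjNormal g : MulAut N).toMonoidHom
  have hφapp : ∀ x : N, ((φ x : N) : G) = g * x * g⁻¹ := fun x => MulAut.conjNormal_apply g x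
  have hiter : ∀ (n : ℕ) (x : N), ((φ^[n] x : N) : G) = g ^ n * x * (g ^ n)⁻¹ := by
    intro n
    induction n with
    | zero => intro x; simp
    | succ n ih =>
      intro x
      rw [Function.iterate_succ_apply', hφapp, ih, pow_succ']; group
  have hφ : ∀ x, φ^[p] x = φ x := by
    intro x
    apply Subtype.ext
    rw [hiter, hφapp]
    have hp1 : p = (p - 1) + 1 := (Nat.succ_pred_eq_of_pos (Fact.out : p.Prime).pos).symm
    have hc := hcent2 g
    have hmem : g * x * g⁻¹ ∈ N := hNn.conj_mem x x.2 g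
    have hcm := Subgroup.mem_centralizer_iff.mp hc _ hmem
    have e1 : g ^ p * x * (g ^ p)⁻¹ = g ^ (p - 1) * (g * x * g⁻¹) * (g ^ (p - 1))⁻¹ := by
      conv_lhs => rw [hp1, pow_succ]
      group
    rw [e1, ← hcm]; group
  obtain ⟨v, hv1, k, hk⟩ := exists_eigen_of_iterate p
    (fun x : N => Subtype.ext (by simpa using hexp x x.2)) φ hφ
  refine ⟨k, ?_⟩
  let E : Subgroup G :=
    { carrier := {w | w ∈ N ∧ g * w * g⁻¹ = w ^ k}
      one_mem' := ⟨N.one_mem, by simp⟩
      mul_mem' := by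
        rintro a b ⟨ha, ha'⟩ ⟨hb, hb'⟩
        refine ⟨N.mul_mem ha hb, ?_⟩
        have hab : Commute a b := setLike_mul_comm (s := N) ha hb
        rw [hab.mul_pow, ← ha', ← hb']; group
      inv_mem' := by
        rintro a ⟨ha, ha'⟩
        refine ⟨N.inv_mem ha, ?_⟩
        rw [inv_pow, ← ha']; group }
  have hEN : E ≤ N := fun w hw => hw.1
  have hEn : E.Normal := by
    refine ⟨fun w hw h => ?_⟩
    obtain ⟨hwN, hw'⟩ := hw
    refine ⟨hNn.conj_mem w hwN h, ?_⟩
    have hc := hcent1 g h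
    have hy : h * w ^ k * h⁻¹ ∈ N := hNn.conj_mem _ (N.pow_mem hwN k) h
    have hcm := Subgroup.mem_centralizer_iff.mp hc _ hy
    have e1 : g * (h * w * h⁻¹) * g⁻¹ =
        (g * h * g⁻¹ * h⁻¹) * (h * (g * w * g⁻¹) * h⁻¹) * (g * h * g⁻¹ * h⁻¹)⁻¹ := by group
    rw [e1, hw', ← hcm, conj_pow]; group
  have hvE : (v : G) ∈ E := by
    refine ⟨v.2, ?_⟩
    have := congrArg Subtype.val hk
    rw [hφapp] at this
    rw [this]; rfl
  have hEbot : E ≠ ⊥ := by
    intro h
    rw [h, Subgroup.mem_bot] at hvE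
    exact hv1 (Subtype.ext hvE)
  rcases hmin E hEn hEN with h | h
  · exact absurd h hEbot
  · intro w hw
    rw [← h] at hw
    exact hw.2

theorem card_minNormal_eq_prime {G : Type*} [Group G] [Finite G] (p : ℕ) [Fact p.Prime]
    (N : Subgroup G) [hNn : N.Normal] (hNbot : N ≠ ⊥)
    (hmin : ∀ K : Subgroup G, K.Normal → K ≤ N → K = ⊥ ∨ K = N)
    [hcomm : IsMulCommutative N] (hexp : ∀ x ∈ N, x ^ p = 1)
    (hcent1 : ∀ g h : G, g * h * g⁻¹ * h⁻¹ ∈ centralizer (N : Set G))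
    (hcent2 : ∀ g : G, g ^ (p - 1) ∈ centralizer (N : Set G)) :
    Nat.card N = p := by
  obtain ⟨v, hv⟩ := (Subgroup.ne_bot_iff_exists_ne_one).mp hNbot
  have hv1 : (v : G) ≠ 1 := fun h => hv (Subtype.ext h)
  set Z := Subgroup.zpowers (v : G) with hZ
  have hZN : Z ≤ N := (Subgroup.zpowers_le).mpr v.2
  have hZn : Z.Normal := by
    refine ⟨fun z hz g => ?_⟩
    obtain ⟨k, hk⟩ := conj_eq_pow_of_centralizing p N hNbot hmin hexp hcent1 hcent2 g
    rw [hk z (hZN hz)]
    exact Z.pow_mem hz k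
  have hZbot : Z ≠ ⊥ := (Subgroup.zpowers_ne_bot).mpr hv1
  rcases hmin Z hZn hZN with h | h
  · exact absurd h hZbot
  · rw [← h, hZ, Nat.card_zpowers]
    exact orderOf_eq_prime (hexp v v.2) hv1

end Cfsg.Agent.Helper29
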