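import Mathlib
import Cfsg.Prelude.Def_SolvableStructure

set_option autoImplicit false

namespace Cfsg.Agent.Helper29

open Subgroup

universe u

section Reach

variable {G : Type*} [Group G]

/-- `Reach N M`: `M` is obtained from `N` by successively adjoining single elements, every
intermediate term (after `N`) being normal in `G`. -/
inductive Reach (N : Subgroup G) : Subgroup G → Prop
  | refl : Reach N N
  | step {M : Subgroup G} (g : G) : Reach N M → (M ⊔ zpowers g).Normal → Reach N (M ⊔ zpowers g)

theorem Reach.trans {A B C : Subgroup G} (h1 : Reach A B) (h2 : Reach B C) : Reach A C := by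
  induction h2 with
  | refl => exact h1
  | step g _ hn ih => exact Reach.step g ih hn

theorem Reach.normal {N M : Subgroup G} (hN : N.Normal) (h : Reach N M) : M.Normal := by
  induction h with
  | refl => exact hN
  | step g _ hn _ => exact hn

theorem Reach.le {N M : Subgroup G} (h : Reach N M) : N ≤ M := by
  induction h with
  | refl => exact le_refl _
  | step g _ _ ih => exact ih.trans le_sup_left

/-- sequence form of `Reach` -/
theorem Reach.exists_seq {N M : Subgroup G} (hN : N.Normal) (h : Reach N M) :
    ∃ (n : ℕ) (H : ℕ → Subgroup G), H 0 = N ∧ H n = M ∧ (∀ i, i ≤ n → (H i).Normal) ∧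
      ∀ i, i < n → ∃ g : G, H (i + 1) = H i ⊔ zpowers g := by
  induction h with
  | refl => exact ⟨0, fun _ => N, rfl, rfl, fun _ _ => hN, fun i hi => absurd hi (Nat.not_lt_zero i)⟩
  | @step M g _ hn ih =>
    obtain ⟨n, H, h0, hlast, hnorm, hstep⟩ := ih
    refine ⟨n + 1, fun i => if i ≤ n then H i else M ⊔ zpowers g, ?_, ?_, ?_, ?_⟩
    · simp [h0]
    · simp
    · intro i hi
      by_cases h : i ≤ n
      · simp only [h, if_true]; exact hnorm i h
      · simp only [h, if_false]; exact hn
    · intro i hi
      by_cases h : i + 1 ≤ n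
      · have h' : i ≤ n := by omega
        simp only [h, h', if_true]
        exact hstep i (by omega)
      · have h' : i = n := by omega
        subst h'
        refine ⟨g, ?_⟩
        simp [hlast]

theorem isSupersolvable_iff_reach : Cfsg.IsSupersolvable G ↔ Reach (⊥ : Subgroup G) ⊤ := by
  constructor
  · rintro ⟨n, H, h0, hlast, hnorm, hstep⟩
    have key : ∀ i : Fin (n + 1), Reach (⊥ : Subgroup G) (H i) := by
      intro i
      induction i using Fin.induction with
      | zero => rw [h0]; exact Reach.refl
      | succ i ih =>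
        obtain ⟨g, hg⟩ := hstep i
        rw [hg]
        exact Reach.step g ih (hg ▸ hnorm i.succ)
    rw [← hlast]
    exact key _
  · intro h
    obtain ⟨n, H, h0, hlast, hnorm, hstep⟩ := h.exists_seq inferInstance
    refine ⟨n, fun i => H i.val, ?_, ?_, ?_, ?_⟩
    · simpa using h0
    · simpa using hlast
    · intro i
      exact hnorm i.val (Nat.lt_succ_iff.mp i.isLt)
    · intro i
      obtain ⟨g, hg⟩ := hstep i.val i.isLt
      exact ⟨g, by simpa using hg⟩


/-- image of a `Reach` chain under a surjective homomorphism -/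
theorem Reach.map {G' : Type*} [Group G'] (f : G →* G') (hf : Function.Surjective f)
    {A B : Subgroup G} (h : Reach A B) : Reach (A.map f) (B.map f) := by
  induction h with
  | refl => exact Reach.refl
  | @step M g _ hn ih =>
    have e : (M ⊔ zpowers g).map f = M.map f ⊔ zpowers (f g) := by
      rw [Subgroup.map_sup, MonoidHom.map_zpowers]
    rw [e]
    exact Reach.step (f g) ih (e ▸ hn.map f hf)

/-- preimage of a `Reach` chain under a surjective homomorphism -/
theorem Reach.comap {G' : Type*} [Group G'] (f : G →* G') (hf : Function.Surjective f)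
    {A B : Subgroup G'} (h : Reach A B) : Reach (A.comap f) (B.comap f) := by
  induction h with
  | refl => exact Reach.refl
  | @step M g' _ hn ih =>
    obtain ⟨g, rfl⟩ := hf g'
    have e : (M ⊔ zpowers (f g)).comap f = M.comap f ⊔ zpowers g := by
      rw [← Subgroup.comap_sup_eq f _ _ hf, ← MonoidHom.map_zpowers, Subgroup.comap_map_eq]
      apply le_antisymm
      · refine sup_le le_sup_left (sup_le le_sup_right ?_)
        refine le_trans ?_ le_sup_left
        intro x hx
        rw [Subgroup.mem_comap, MonoidHom.mem_ker.mp hx]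
        exact one_mem _
      · exact sup_le le_sup_left (le_trans le_sup_left le_sup_right)
    rw [e]
    exact Reach.step g ih (e ▸ hn.comap f)

theorem Reach.of_zpowers_normal (g : G) (hn : (zpowers g).Normal) :
    Reach (⊥ : Subgroup G) (zpowers g) := by
  have h := Reach.step (N := (⊥ : Subgroup G)) g Reach.refl (by rw [bot_sup_eq]; exact hn)
  rwa [bot_sup_eq] at h

/-- image under a surjective homomorphism is supersolvable -/
theorem isSupersolvable_of_surjective {G' : Type*} [Group G'] (f : G →* G')
    (hf : Function.Surjective f) (h : Cfsg.IsSupersolvable G) : Cfsg.IsSupersolvable G' := by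
  rw [isSupersolvable_iff_reach] at h ⊢
  have := h.map f hf
  rwa [Subgroup.map_bot, ← MonoidHom.range_eq_map, MonoidHom.range_eq_top.mpr hf] at this

theorem isSupersolvable_of_mulEquiv {G' : Type*} [Group G'] (e : G ≃* G')
    (h : Cfsg.IsSupersolvable G) : Cfsg.IsSupersolvable G' :=
  isSupersolvable_of_surjective e.toMonoidHom e.surjective h

/-- extension of a supersolvable group by a cyclic normal subgroup -/
theorem isSupersolvable_of_cyclic_normal (N : Subgroup G) [N.Normal] [hc : IsCyclic N]
    (h : Cfsg.IsSupersolvable (G ⧸ N)) : Cfsg.IsSupersolvable G := by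
  rw [isSupersolvable_iff_reach] at h ⊢
  have h1 := h.comap (QuotientGroup.mk' N) (QuotientGroup.mk'_surjective N)
  rw [Subgroup.comap_top, MonoidHom.comap_bot, QuotientGroup.ker_mk'] at h1
  obtain ⟨g, hg⟩ := (Subgroup.isCyclic_iff_exists_zpowers_eq_top N).mp hc
  have h0 : Reach (⊥ : Subgroup G) N := by
    rw [← hg]
    exact Reach.of_zpowers_normal g (hg ▸ inferInstance)
  exact h0.trans h1


/-- restriction of a `Reach` chain to a subgroup -/
theorem Reach.subgroupOf (K : Subgroup G) {A B : Subgroup G} (hA : A.Normal) (h : Reach A B) :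
    Reach (A.subgroupOf K) (B.subgroupOf K) := by
  induction h with
  | refl => exact Reach.refl
  | @step M g hAM hn ih =>
    have hM : M.Normal := hAM.normal hA
    set M' := M ⊔ zpowers g with hM'
    let φ : K →* G ⧸ M := (QuotientGroup.mk' M).comp K.subtype
    have hker : ∀ x : K, φ x = 1 ↔ x ∈ M.subgroupOf K := by
      intro x
      show (QuotientGroup.mk' M) (x : G) = 1 ↔ _
      rw [QuotientGroup.mk'_apply, QuotientGroup.eq_one_iff, Subgroup.mem_subgroupOf]
    let S : Subgroup (G ⧸ M) := (M'.subgroupOf K).map φ
    have hS : S ≤ zpowers (QuotientGroup.mk' M g) := by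
      rintro _ ⟨x, hx, rfl⟩
      have hx' : (x : G) ∈ M' := hx
      have : (QuotientGroup.mk' M) (x : G) ∈ M'.map (QuotientGroup.mk' M) := ⟨_, hx', rfl⟩
      rw [hM', Subgroup.map_sup, MonoidHom.map_zpowers] at this
      have hbot : M.map (QuotientGroup.mk' M) = ⊥ := by
        rw [Subgroup.map_eq_bot_iff, QuotientGroup.ker_mk']
      rw [hbot, bot_sup_eq] at this
      exact this
    have : IsCyclic S := Subgroup.isCyclic_of_le hS
    obtain ⟨s, hs⟩ := IsCyclic.exists_generator (α := S)
    obtain ⟨k, hk, hks⟩ := s.2
    have e : M'.subgroupOf K = M.subgroupOf K ⊔ zpowers k := by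
      apply le_antisymm
      · intro y hy
        have hyS : φ y ∈ S := ⟨y, hy, rfl⟩
        obtain ⟨n, hn⟩ := Subgroup.mem_zpowers_iff.mp (hs ⟨φ y, hyS⟩)
        have hn' : (φ k) ^ n = φ y := by
          have := congrArg Subtype.val hn
          simpa [← hks] using this
        have h1 : φ (y * k ^ (-n)) = 1 := by
          rw [map_mul, map_zpow, ← hn', ← zpow_add]; simp
        have h2 : y * k ^ (-n) ∈ M.subgroupOf K := (hker _).mp h1
        have : y = (y * k ^ (-n)) * k ^ n := by group
        rw [this]
        exact Subgroup.mul_mem _ (Subgroup.mem_sup_left h2)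
          (Subgroup.mem_sup_right (Subgroup.zpow_mem_zpowers k n))
      · refine sup_le ?_ ?_
        · intro x hx
          exact (le_sup_left : M ≤ M') hx
        · rw [Subgroup.zpowers_le]; exact hk
    rw [e]
    refine Reach.step k ih ?_
    rw [← e]
    infer_instance


/-- image of a `Reach` chain under a homomorphism sending normal subgroups to normal subgroups -/
theorem Reach.map_of_normal {G' : Type*} [Group G'] (f : G →* G')
    (hf : ∀ M : Subgroup G, M.Normal → (M.map f).Normal)
    {A B : Subgroup G} (h : Reach A B) : Reach (A.map f) (B.map f) := by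
  induction h with
  | refl => exact Reach.refl
  | @step M g _ hn ih =>
    have e : (M ⊔ zpowers g).map f = M.map f ⊔ zpowers (f g) := by
      rw [Subgroup.map_sup, MonoidHom.map_zpowers]
    rw [e]
    exact Reach.step (f g) ih (e ▸ hf _ hn)

theorem isSupersolvable_subgroup (h : Cfsg.IsSupersolvable G) (K : Subgroup G) :
    Cfsg.IsSupersolvable K := by
  rw [isSupersolvable_iff_reach] at h ⊢
  have := h.subgroupOf K inferInstance
  rwa [Subgroup.bot_subgroupOf, Subgroup.top_subgroupOf] at this

theorem isSupersolvable_quotient (h : Cfsg.IsSupersolvable G) (N : Subgroup G) [N.Normal] :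
    Cfsg.IsSupersolvable (G ⧸ N) :=
  isSupersolvable_of_surjective (QuotientGroup.mk' N) (QuotientGroup.mk'_surjective N) h

theorem map_inl_eq_prod_bot {H : Type*} [Group H] (M : Subgroup G) :
    M.map (MonoidHom.inl G H) = M.prod ⊥ := by
  ext ⟨a, b⟩
  simp only [Subgroup.mem_map, MonoidHom.inl_apply, Prod.mk.injEq, Subgroup.mem_prod,
    Subgroup.mem_bot]
  constructor
  · rintro ⟨x, hx, rfl, rfl⟩
    exact ⟨hx, rfl⟩
  · rintro ⟨ha, rfl⟩
    exact ⟨a, ha, rfl, rfl⟩

theorem isSupersolvable_prod {H : Type*} [Group H] (hG : Cfsg.IsSupersolvable G)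
    (hH : Cfsg.IsSupersolvable H) : Cfsg.IsSupersolvable (G × H) := by
  rw [isSupersolvable_iff_reach] at hG hH ⊢
  have h1 : Reach (⊥ : Subgroup (G × H)) ((⊤ : Subgroup G).prod ⊥) := by
    have := hG.map_of_normal (MonoidHom.inl G H) (fun M hM => by
      rw [map_inl_eq_prod_bot]
      infer_instance)
    rwa [Subgroup.map_bot, map_inl_eq_prod_bot] at this
  have h2 : Reach ((⊤ : Subgroup G).prod ⊥) (⊤ : Subgroup (G × H)) := by
    have := hH.comap (MonoidHom.snd G H) Prod.snd_surjective
    rwa [Subgroup.comap_top, MonoidHom.comap_bot, MonoidHom.ker_snd] at this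
  exact h1.trans h2

end Reach

end Cfsg.Agent.Helper29
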