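import Mathlib
import Cfsg.Agent.Helper29.Supersolvable

set_option autoImplicit false

namespace Cfsg.Agent.Helper29

open Subgroup

universe u

section

variable {G : Type*} [Group G]

/-- every subgroup of a cyclic normal subgroup is normal -/
theorem normal_of_le_cyclic_normal {C D : Subgroup G} [hC : C.Normal] [hcyc : IsCyclic C]
    (hD : D ≤ C) : D.Normal := by
  obtain ⟨c, hc⟩ := (Subgroup.isCyclic_iff_exists_zpowers_eq_top C).mp hcyc
  refine ⟨fun d hd x => ?_⟩
  have hcC : c ∈ C := by rw [← hc]; exact Subgroup.mem_zpowers c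
  have h1 : x * c * x⁻¹ ∈ zpowers c := by rw [hc]; exact hC.conj_mem c hcC x
  obtain ⟨m, hm⟩ := Subgroup.mem_zpowers_iff.mp h1
  have h2 : d ∈ zpowers c := by rw [hc]; exact hD hd
  obtain ⟨k, hk⟩ := Subgroup.mem_zpowers_iff.mp h2
  have : x * d * x⁻¹ = d ^ m := by
    rw [← hk]
    have e : x * c ^ k * x⁻¹ = (x * c * x⁻¹) ^ k := by
      rw [conj_zpow]
    rw [e, ← hm, ← zpow_mul, ← zpow_mul, mul_comm]
  rw [this]
  exact Subgroup.zpow_mem _ hd m

/-- a nontrivial cyclic normal subgroup of a finite group contains a normal subgroup of prime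
order -/
theorem exists_normal_prime_le_cyclic [Finite G] {C : Subgroup G} [hC : C.Normal] [IsCyclic C]
    (hne : C ≠ ⊥) : ∃ N : Subgroup G, N ≤ C ∧ N.Normal ∧ (Nat.card N).Prime := by
  have h1 : Nat.card C ≠ 1 := by
    intro h
    exact hne (Subgroup.card_eq_one.mp h)
  have : Fact (Nat.card C).minFac.Prime := ⟨Nat.minFac_prime h1⟩
  obtain ⟨x, hx⟩ := exists_prime_orderOf_dvd_card' (G := C) (Nat.card C).minFac
    (Nat.minFac_dvd _)
  refine ⟨zpowers (x : G), ?_, ?_, ?_⟩
  · rw [Subgroup.zpowers_le]; exact x.2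
  · exact normal_of_le_cyclic_normal (C := C) (by rw [Subgroup.zpowers_le]; exact x.2)
  · rw [Nat.card_zpowers, Subgroup.orderOf_coe, hx]
    exact Nat.minFac_prime h1

/-- auxiliary: along a `Reach` chain, a normal subgroup meeting a term nontrivially contains a
nontrivial cyclic normal subgroup -/
theorem Reach.exists_cyclic_normal_le {A M : Subgroup G} [hA : A.Normal]
    (h : Reach (⊥ : Subgroup G) M) (hne : A ⊓ M ≠ ⊥) :
    ∃ C : Subgroup G, C ≤ A ∧ C.Normal ∧ IsCyclic C ∧ C ≠ ⊥ := by
  induction h with
  | refl => exact absurd (inf_bot_eq A) hne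
  | @step M g hM hn ih =>
    by_cases h0 : A ⊓ M = ⊥
    · have hMn : M.Normal := hM.normal inferInstance
      refine ⟨A ⊓ (M ⊔ zpowers g), inf_le_left, ?_, ?_, hne⟩
      · have := hn
        infer_instance
      · set C := A ⊓ (M ⊔ zpowers g) with hC
        have hmem : ∀ x : C, (QuotientGroup.mk' M) (x : G) ∈ zpowers (QuotientGroup.mk' M g) := by
          intro x
          have hx : (x : G) ∈ M ⊔ zpowers g := x.2.2
          have : (QuotientGroup.mk' M) (x : G) ∈ (M ⊔ zpowers g).map (QuotientGroup.mk' M) :=
            ⟨_, hx, rfl⟩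
          rw [Subgroup.map_sup, MonoidHom.map_zpowers] at this
          have hbot : M.map (QuotientGroup.mk' M) = ⊥ := by
            rw [Subgroup.map_eq_bot_iff, QuotientGroup.ker_mk']
          rw [hbot, bot_sup_eq] at this
          exact this
        let f : C →* zpowers (QuotientGroup.mk' M g) :=
          ((QuotientGroup.mk' M).comp C.subtype).codRestrict _ hmem
        have hf : Function.Injective f := by
          rw [injective_iff_map_eq_one]
          intro x hx
          have h1 : (QuotientGroup.mk' M) (x : G) = 1 := congrArg Subtype.val hx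
          rw [QuotientGroup.mk'_apply, QuotientGroup.eq_one_iff] at h1
          have h2 : (x : G) ∈ A ⊓ M := Subgroup.mem_inf.mpr ⟨x.2.1, h1⟩
          rw [h0, Subgroup.mem_bot] at h2
          exact Subtype.ext h2
        exact isCyclic_of_injective f hf
    · exact ih h0

/-- a nontrivial normal subgroup of a finite supersolvable group contains a normal subgroup of
prime order -/
theorem exists_normal_prime_le [Finite G] (hG : Cfsg.IsSupersolvable G) {A : Subgroup G}
    [hA : A.Normal] (hne : A ≠ ⊥) : ∃ N : Subgroup G, N ≤ A ∧ N.Normal ∧ (Nat.card N).Prime := by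
  rw [isSupersolvable_iff_reach] at hG
  obtain ⟨C, hCA, hCn, hCc, hC0⟩ := hG.exists_cyclic_normal_le (A := A) (by rwa [inf_top_eq])
  obtain ⟨N, hNC, hNn, hNp⟩ := exists_normal_prime_le_cyclic hC0
  exact ⟨N, hNC.trans hCA, hNn, hNp⟩

theorem exists_normal_prime [Finite G] [Nontrivial G] (hG : Cfsg.IsSupersolvable G) :
    ∃ N : Subgroup G, N.Normal ∧ (Nat.card N).Prime := by
  obtain ⟨N, _, hn, hp⟩ := exists_normal_prime_le hG (A := ⊤) top_ne_bot
  exact ⟨N, hn, hp⟩

/-- image of a coatom containing the kernel under a surjective hom is a coatom -/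
theorem isCoatom_map_of_ker_le {H : Type*} [Group H] (f : G →* H) (hf : Function.Surjective f)
    {M : Subgroup G} (hM : IsCoatom M) (hker : f.ker ≤ M) : IsCoatom (M.map f) := by
  refine ⟨?_, ?_⟩
  · intro h
    apply hM.1
    have := congrArg (Subgroup.comap f) h
    rwa [Subgroup.comap_map_eq_self hker, Subgroup.comap_top] at this
  · intro K hK
    have h1 : M < K.comap f := by
      refine lt_of_le_of_ne ?_ ?_
      · rw [← Subgroup.comap_map_eq_self hker]
        exact Subgroup.comap_mono hK.le
      · intro h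
        apply hK.ne
        rw [h, Subgroup.map_comap_eq_self_of_surjective hf]
    have h2 := hM.2 _ h1
    have := congrArg (Subgroup.map f) h2
    rwa [Subgroup.map_comap_eq_self_of_surjective hf, ← MonoidHom.range_eq_map,
      MonoidHom.range_eq_top.mpr hf] at this

end

end Cfsg.Agent.Helper29
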