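import Mathlib
import Cfsg.Prelude.Def_SolvableStructure
import Cfsg.Agent.Helper29.Supersolvable
import Cfsg.Agent.Helper29.Supersolvable2
import Cfsg.Agent.S0526
import Cfsg.Agent.Lead.Coprime3

set_option autoImplicit false
set_option linter.style.haveILetI false

/-! The residual `expResidual p G` for abelian groups of exponent dividing `p - 1`, and its action on
normal `p`-subgroups of supersolvable groups. -/

namespace Cfsg.Agent.Helper29

open Subgroup

universe u

/-- generators: commutators and `(p-1)`-th powers -/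
def expGens (p : ℕ) (G : Type*) [Group G] : Set G :=
  {x | (∃ g h : G, x = g * h * g⁻¹ * h⁻¹) ∨ ∃ g : G, x = g ^ (p - 1)}

/-- the smallest normal subgroup with abelian quotient of exponent dividing `p - 1` -/
def expResidual (p : ℕ) (G : Type*) [Group G] : Subgroup G :=
  Subgroup.normalClosure (expGens p G)

instance expResidual_normal (p : ℕ) (G : Type*) [Group G] : (expResidual p G).Normal :=
  Subgroup.normalClosure_normal

theorem expResidual_le {p : ℕ} {G : Type*} [Group G] (C : Subgroup G) [C.Normal]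
    (h1 : ∀ g h : G, g * h * g⁻¹ * h⁻¹ ∈ C) (h2 : ∀ g : G, g ^ (p - 1) ∈ C) :
    expResidual p G ≤ C := by
  apply Subgroup.normalClosure_le_normal
  rintro x (⟨g, h, rfl⟩ | ⟨g, rfl⟩)
  · exact h1 g h
  · exact h2 g

theorem comm_mem_expResidual (p : ℕ) {G : Type*} [Group G] (g h : G) :
    g * h * g⁻¹ * h⁻¹ ∈ expResidual p G :=
  Subgroup.subset_normalClosure (Or.inl ⟨g, h, rfl⟩)

theorem pow_mem_expResidual (p : ℕ) {G : Type*} [Group G] (g : G) :
    g ^ (p - 1) ∈ expResidual p G :=
  Subgroup.subset_normalClosure (Or.inr ⟨g, rfl⟩)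

theorem map_expResidual_le (p : ℕ) {G H : Type*} [Group G] [Group H] (f : G →* H) :
    (expResidual p G).map f ≤ expResidual p H := by
  refine (Subgroup.map_normalClosure_le _ f).trans (Subgroup.normalClosure_mono ?_)
  rintro _ ⟨x, (⟨g, h, rfl⟩ | ⟨g, rfl⟩), rfl⟩
  · left; exact ⟨f g, f h, by simp⟩
  · right; exact ⟨f g, by simp⟩

/-- `expResidual p G` centralizes every normal subgroup of order `p`. -/
theorem expResidual_le_centralizer {p : ℕ} [hp : Fact p.Prime] {G : Type*} [Group G] [Finite G]
    (Z : Subgroup G) [Z.Normal] (hZ : Nat.card Z = p) :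
    expResidual p G ≤ centralizer (Z : Set G) := by
  haveI : IsCyclic Z := isCyclic_of_prime_card hZ
  apply expResidual_le
  · intro g h
    have := Cfsg.Agent.S0526.commutator_le_centralizer_of_cyclic_normal Z
      (Subgroup.commutator_mem_commutator (Subgroup.mem_top g) (Subgroup.mem_top h))
    rwa [commutatorElement_def] at this
  · intro g
    have hcard : Nat.card (MulAut Z) = p - 1 := by
      rw [IsCyclic.card_mulAut, hZ, Nat.totient_prime hp.out]
    have h1 : (MulAut.conjNormal (g ^ (p - 1)) : MulAut Z) = 1 := by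
      rw [map_pow, ← hcard]; exact pow_card_eq_one'
    rw [Subgroup.mem_centralizer_iff]
    intro n hn
    have h2 := MulAut.conjNormal_apply (g ^ (p - 1)) (⟨n, hn⟩ : Z)
    rw [h1] at h2
    have h3 : n = g ^ (p - 1) * n * (g ^ (p - 1))⁻¹ := h2
    calc n * g ^ (p - 1) = (g ^ (p - 1) * n * (g ^ (p - 1))⁻¹) * g ^ (p - 1) := by rw [← h3]
      _ = g ^ (p - 1) * n := by group

/-- In a finite supersolvable group, a `p'`-subgroup of `expResidual p G` centralizes every normal
`p`-subgroup. -/
theorem le_centralizer_pgroup_aux (p : ℕ) [hp : Fact p.Prime] (n : ℕ) :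
    ∀ {G : Type u} [Group G] [Finite G], Nat.card G = n → Cfsg.IsSupersolvable G →
    ∀ (P Q : Subgroup G) [P.Normal], IsPGroup p P → Q ≤ expResidual p G →
    (Nat.card Q).Coprime p → Q ≤ centralizer (P : Set G) := by
  induction n using Nat.strong_induction_on with
  | _ n ih =>
  intro G _ _ hn hss P Q hPn hP hQX hQp
  by_cases hPbot : P = ⊥
  · rw [hPbot]; intro x _
    rw [Subgroup.mem_centralizer_iff]
    intro y hy
    have : y = 1 := hy
    rw [this, one_mul, mul_one]
  obtain ⟨Z, hZP, hZn, hZp⟩ := exists_normal_prime_le hss hPbot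
  have hZcard : Nat.card Z = p := by
    obtain ⟨k, hk⟩ := (hP.to_le hZP).exists_card_eq
    have hk0 : k ≠ 0 := by
      intro h0; rw [h0, pow_zero] at hk; rw [hk] at hZp; exact Nat.not_prime_one hZp
    have hdvd : p ∣ Nat.card Z := by rw [hk]; exact dvd_pow_self p hk0
    rcases (Nat.dvd_prime hZp).mp hdvd with h | h
    · exact absurd h hp.out.one_lt.ne'
    · exact h.symm
  let π := QuotientGroup.mk' Z
  have hπs : Function.Surjective π := QuotientGroup.mk'_surjective Z
  have hcard : Nat.card (G ⧸ Z) < n := by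
    rw [← hn, Subgroup.card_eq_card_quotient_mul_card_subgroup Z, hZcard]
    have h0 : 0 < Nat.card (G ⧸ Z) := Nat.card_pos
    have := hp.out.one_lt
    nlinarith
  haveI : (P.map π).Normal := Subgroup.Normal.map hPn π hπs
  have hIH := ih _ hcard rfl (isSupersolvable_quotient hss Z) (P.map π) (Q.map π)
    (hP.map π) ((Subgroup.map_mono hQX).trans (map_expResidual_le p π))
    (Nat.Coprime.coprime_dvd_left (Subgroup.card_map_dvd Q π) hQp)
  have hPQZ : ⁅P, Q⁆ ≤ Z := by
    have h1 : ⁅P.map π, Q.map π⁆ = ⊥ := by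
      rw [Subgroup.commutator_comm]
      exact Subgroup.commutator_eq_bot_iff_le_centralizer.mpr hIH
    rw [← Subgroup.map_commutator, Subgroup.map_eq_bot_iff, QuotientGroup.ker_mk'] at h1
    exact h1
  have hZQ : ⁅Z, Q⁆ = ⊥ := by
    rw [Subgroup.commutator_comm]
    exact Subgroup.commutator_eq_bot_iff_le_centralizer.mpr
      (hQX.trans (expResidual_le_centralizer Z hZcard))
  have hQnorm : Q ≤ normalizer (P : Set G) := by
    rw [normalizer_eq_top_iff.mpr hPn]; exact le_top
  have hcop : (Nat.card Q).Coprime (Nat.card P) := by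
    obtain ⟨k, hk⟩ := hP.exists_card_eq
    rw [hk]; exact Nat.Coprime.pow_right _ hQp
  have hPsolv : Group.IsSolvable P := by
    haveI := hP.isNilpotent
    infer_instance
  have h2 := Cfsg.Agent.Lead.coprime_commutator_commutator Q P hQnorm hcop (Or.inr hPsolv)
  have h3 : ⁅P, Q⁆ = ⊥ := by
    rw [← h2, eq_bot_iff, ← hZQ]
    exact Subgroup.commutator_mono hPQZ le_rfl
  rw [Subgroup.commutator_comm] at h3
  exact Subgroup.commutator_eq_bot_iff_le_centralizer.mp h3

end Cfsg.Agent.Helper29
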