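import Mathlib
import Cfsg.Agent.Helper15.S1983Defs
import Cfsg.Agent.Helper10.StabSeries
import Cfsg.Agent.Helper14.PCore

set_option autoImplicit false

/-! # S1983 piece STABSER: a `p`-subgroup centralizing all chief factors below `A` lies in `O_p(G)`
when `C_G(A) ≤ O_p(G)`. -/

namespace Cfsg.Agent.S1983P

open Subgroup Cfsg Cfsg.Agent.Helper10
open scoped commutatorElement

universe u

/-- a maximal normal subgroup below a nontrivial normal subgroup -/
theorem STABSER.aux_chief {G : Type u} [Group G] [Finite G] (X : Subgroup G) (hXn : X.Normal)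
    (hX : X ≠ ⊥) : ∃ Y : Subgroup G, Cfsg.IsChiefFactor X Y := by
  let 𝒳 : Set (Subgroup G) := {Y | Y.Normal ∧ Y < X}
  obtain ⟨B, -, ⟨hBn, hBX⟩, hmax⟩ := (Set.toFinite 𝒳).exists_le_maximal (a := ⊥)
    ⟨inferInstance, bot_lt_iff_ne_bot.mpr hX⟩
  refine ⟨B, hBX, hXn, hBn, ?_⟩
  intro N hNn hBN hNX
  by_cases hN : N = X
  · exact Or.inr hN
  · left
    have hN𝒳 : N ∈ 𝒳 := ⟨hNn, lt_of_le_of_ne hNX hN⟩
    exact le_antisymm (hmax hN𝒳 hBN) hBN

/-- the coprime step -/
theorem STABSER.aux_coprime {G : Type u} [Group G] {p : ℕ} [Fact p.Prime] (x d y : G)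
    (hxy : x * d * x⁻¹ = y * d) (hyd : y * d = d * y) (hy : ∃ k : ℕ, y ^ (p ^ k) = 1)
    (m : ℕ) (hm : m.Coprime p) (hd : d ^ m = 1) : y = 1 := by
  have h1 : ∀ k : ℕ, x * d ^ k * x⁻¹ = y ^ k * d ^ k := by
    intro k
    have : x * d ^ k * x⁻¹ = (x * d * x⁻¹) ^ k := by rw [conj_pow]
    rw [this, hxy]
    exact (show Commute y d from hyd).mul_pow k
  have h2 := h1 m
  rw [hd, mul_one, mul_one, mul_inv_cancel] at h2
  obtain ⟨k, hk⟩ := hy
  have h3 : orderOf y ∣ m := orderOf_dvd_of_pow_eq_one h2.symm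
  have h4 : orderOf y ∣ p ^ k := orderOf_dvd_of_pow_eq_one hk
  have h5 : orderOf y ∣ Nat.gcd m (p ^ k) := Nat.dvd_gcd h3 h4
  rw [Nat.Coprime.pow_right k hm] at h5
  exact orderOf_eq_one_iff.mp (Nat.dvd_one.mp h5)

/-- a `p'`-element centralizing all chief factors below `A` centralizes every normal subgroup
below `A` -/
theorem STABSER.aux_cent {G : Type u} [Group G] [Finite G] {p : ℕ} [Fact p.Prime] (A : Subgroup G)
    (hAp : IsPGroup p ↥A) (d : G) (m : ℕ) (hm : m.Coprime p) (hd : d ^ m = 1)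
    (h : ∀ X Y : Subgroup G, Cfsg.IsChiefFactor X Y → X ≤ A → ∀ x ∈ X, x * d * x⁻¹ * d⁻¹ ∈ Y) :
    ∀ (n : ℕ) (X : Subgroup G), Nat.card ↥X = n → X.Normal → X ≤ A → ∀ x ∈ X, x * d = d * x := by
  intro n
  induction n using Nat.strong_induction_on with
  | _ n ih =>
    intro X hcard hXn hXA x hx
    by_cases hX : X = ⊥
    · rw [hX, Subgroup.mem_bot] at hx
      rw [hx, one_mul, mul_one]
    · obtain ⟨Y, hXY⟩ := STABSER.aux_chief X hXn hX
      have hYX : Y < X := hXY.1
      have hYn : Y.Normal := hXY.2.2.1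
      have hlt : Nat.card ↥Y < n := by
        rw [← hcard]
        have h1 : (Y : Set G) ⊂ (X : Set G) := SetLike.coe_ssubset_coe.mpr hYX
        have h2 := Set.ncard_lt_ncard h1 (Set.toFinite _)
        rwa [← Nat.card_coe_set_eq, ← Nat.card_coe_set_eq] at h2
      have hYc := ih (Nat.card ↥Y) hlt Y rfl hYn (hYX.le.trans hXA)
      set y := x * d * x⁻¹ * d⁻¹ with hy
      have hyY : y ∈ Y := h X Y hXY hXA x hx
      have hyd : y * d = d * y := hYc y hyY
      have hxy : x * d * x⁻¹ = y * d := by rw [hy]; group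
      have hyp : ∃ k : ℕ, y ^ (p ^ k) = 1 := by
        obtain ⟨k, hk⟩ := hAp ⟨y, hXA (hYX.le hyY)⟩
        exact ⟨k, by simpa using congrArg Subtype.val hk⟩
      have hy1 := STABSER.aux_coprime (p := p) x d y hxy hyd hyp m hm hd
      have : x * d * x⁻¹ = d := by rw [hxy, hy1, one_mul]
      calc x * d = (x * d * x⁻¹) * x := by group
        _ = d * x := by rw [this]

/-! ## STABSER (M): a `p`-subgroup centralizing all chief factors below `A` lies in `O_p(G)`
when `C_G(A) ≤ O_p(G)`. -/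
theorem STABSER.main {G : Type u} [Group G] [Finite G] {p : ℕ} [Fact p.Prime] (A : Subgroup G)
    [A.Normal] (hAT : A ≤ Cfsg.pCore p G)
    (hCA : centralizer (A : Set G) ≤ Cfsg.pCore p G) (B : Subgroup G) (hBp : IsPGroup p ↥B)
    (h : ∀ X Y : Subgroup G, Cfsg.IsChiefFactor X Y → X ≤ A → ⁅X, B⁆ ≤ Y) :
    B ≤ Cfsg.pCore p G := by
  have _ := hBp
  have hTp : IsPGroup p ↥(Cfsg.pCore p G) := Cfsg.Agent.Helper14.pCore_isPGroup p
  have hAp : IsPGroup p ↥A := hTp.to_le hAT
  set D : Subgroup G := Subgroup.normalClosure (B : Set G) with hD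
  have hBD : B ≤ D := Subgroup.le_normalClosure
  -- D centralizes the chief factors below A
  have hDc : ∀ X Y : Subgroup G, Cfsg.IsChiefFactor X Y → X ≤ A →
      ∀ d ∈ D, ∀ x ∈ X, x * d * x⁻¹ * d⁻¹ ∈ Y := by
    intro X Y hXY hXA d hd x hx
    have : X.Normal := hXY.2.1
    have : Y.Normal := hXY.2.2.1
    have h1 : B ≤ centMod X Y := le_centMod_iff.mpr (h X Y hXY hXA)
    have h2 : D ≤ centMod X Y := Subgroup.normalClosure_le_normal h1
    have h3 : ⁅X, D⁆ ≤ Y := le_centMod_iff.mp h2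
    have := h3 (Subgroup.commutator_mem_commutator hx hd)
    rwa [commutatorElement_def] at this
  -- D is a p-group
  have hDp : IsPGroup p ↥D := by
    intro g
    obtain ⟨k, m, hm, hkm⟩ := Nat.exists_eq_pow_mul_and_not_dvd
      (orderOf_pos (g : G)).ne' p (Fact.out : p.Prime).ne_one
    have hcop : m.Coprime p :=
      ((Nat.Prime.coprime_iff_not_dvd (Fact.out : p.Prime)).mpr hm).symm
    set d : G := (g : G) ^ (p ^ k) with hd
    have hdD : d ∈ D := Subgroup.pow_mem _ g.2 _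
    have hdm : d ^ m = 1 := by
      rw [hd, ← pow_mul, ← hkm]; exact pow_orderOf_eq_one _
    have hcent := STABSER.aux_cent (p := p) A hAp d m hcop hdm
      (fun X Y hXY hXA x hx => hDc X Y hXY hXA d hdD x hx) (Nat.card ↥A) A rfl inferInstance le_rfl
    have hdC : d ∈ centralizer (A : Set G) := by
      rw [Subgroup.mem_centralizer_iff]
      intro x hx
      exact hcent x hx
    obtain ⟨j, hj⟩ := hTp ⟨d, hCA hdC⟩
    have hj' : d ^ (p ^ j) = 1 := by simpa using congrArg Subtype.val hj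
    have h3 : orderOf d ∣ m := orderOf_dvd_of_pow_eq_one hdm
    have h4 : orderOf d ∣ p ^ j := orderOf_dvd_of_pow_eq_one hj'
    have h5 : orderOf d ∣ Nat.gcd m (p ^ j) := Nat.dvd_gcd h3 h4
    rw [Nat.Coprime.pow_right j hcop] at h5
    have hd1 : d = 1 := orderOf_eq_one_iff.mp (Nat.dvd_one.mp h5)
    refine ⟨k, ?_⟩
    apply Subtype.ext
    rw [Subgroup.coe_pow, Subgroup.coe_one]
    exact hd1
  exact hBD.trans (Cfsg.Agent.Helper14.le_pCore p Subgroup.normalClosure_normal hDp)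

end Cfsg.Agent.S1983P
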