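import Mathlib
import Cfsg.Agent.Helper29.S1983STABSER

set_option autoImplicit false

/-! # S1983/S1982 tool: a `p'`-element centralizing every chief factor of `G` below the normal
`p`-subgroup `A` centralizes `A` (commutator-subgroup form of `STABSER.aux_cent`). -/

namespace Cfsg.Agent.S1983P

open Subgroup Cfsg
open scoped commutatorElement

universe u

theorem STABSER.cent {G : Type u} [Group G] [Finite G] {p : ℕ} [Fact p.Prime] (A : Subgroup G) [A.Normal] (hAp : IsPGroup p ↥A) (d : G) (hd : (orderOf d).Coprime p) (h : ∀ X Y : Subgroup G, Cfsg.IsChiefFactor X Y → X ≤ A → ⁅X, Subgroup.zpowers d⁆ ≤ Y) : d ∈ Subgroup.centralizer (A : Set G) := by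
  have hcent := STABSER.aux_cent (p := p) A hAp d (orderOf d) hd (pow_orderOf_eq_one d)
    (fun X Y hXY hXA x hx => by
      have h1 : ⁅x, d⁆ ∈ ⁅X, Subgroup.zpowers d⁆ :=
        Subgroup.commutator_mem_commutator hx (Subgroup.mem_zpowers d)
      have h2 := h X Y hXY hXA h1
      rwa [commutatorElement_def] at h2)
    (Nat.card ↥A) A rfl inferInstance le_rfl
  rw [Subgroup.mem_centralizer_iff]
  intro x hx
  exact hcent x hx

end Cfsg.Agent.S1983P
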