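import Mathlib
import Cfsg.Agent.Helper26.S3050Defs
import Cfsg.Agent.Helper19.S3050A12
import Cfsg.Agent.Helper9.S3050A3
import Cfsg.Agent.Helper9.S3050A4
import Cfsg.Agent.Helper20.S3050A6
import Cfsg.Agent.Helper20.S3050A8

/-! # S3050 piece A9 (`al_trivial`): all `α_c = 1` on `W = C_M(u)`
Blueprint `departures/helper26_S3050_blueprint.md`, A9.  The algebra is done once and for all in an abstract ring
of characteristic 2 (`A9_aux_ring`), then applied to `AddMonoid.End W`. -/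

set_option autoImplicit false

namespace Cfsg.Agent.S3050P

open Cfsg.Agent.Helper18.NatMod

/-- The operator computation of A9 in an abstract ring `R` with `x + x = 0`. -/
theorem A9_aux_ring {F : Type*} [Field F] [CharP F 2] [Finite F] {R : Type*} [Ring R]
    (h2 : ∀ x : R, x + x = 0) (A B : F → R)
    (hA_add : ∀ c d, A (c + d) = A c * A d) (hA_sq : ∀ c, A c * A c = 1) (hA_one : A 1 = 1)
    (hB_one : B 1 = 1) (hB_add : ∀ c d, B (c + d) = A c * B d + B c * A d)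
    (hBB : ∀ t, t ≠ 0 → B t * B t⁻¹ = 1)
    (hBA' : ∀ t, t ≠ 0 → B t * A t⁻¹ = A t⁻¹ * B t)
    (hBA : ∀ t, t ≠ 0 → B t * A t = A t * B t)
    (E11 : ∀ t, t ≠ 0 → ∀ c, B t * A c = A (t ^ 2 * c) * B t + B (t ^ 2 * c) * (A t + A t⁻¹))
    (E12 : ∀ t, t ≠ 0 → ∀ c, B t * B c + (A t + A t⁻¹) * A c
        = A (t ^ 2 * c) * (A t + A t⁻¹) + B (t ^ 2 * c) * B t⁻¹)
    (E22 : ∀ t, t ≠ 0 → ∀ c, (A t + A t⁻¹) * B c + B t⁻¹ * A c = A (t ^ 2 * c) * B t⁻¹) :
    ∀ c, A c = 1 := by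
  -- characteristic 2 bookkeeping
  have hcancel : ∀ x y z : R, x + y = x + z → y = z := fun x y z h => add_left_cancel h
  have hmove : ∀ x y z : R, x + y = z → x = z + y := by
    intro x y z h
    rw [← h, add_assoc, h2, add_zero]
  have hA_comm : ∀ c d, A c * A d = A d * A c := fun c d => by
    rw [← hA_add, ← hA_add, add_comm]
  have hB'B : ∀ t, t ≠ 0 → B t⁻¹ * B t = 1 := by
    intro t ht
    have := hBB t⁻¹ (inv_ne_zero ht)
    rwa [inv_inv] at this
  -- σ² = 0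
  have hσσ : ∀ t : F, (A t + A t⁻¹) * (A t + A t⁻¹) = 0 := by
    intro t
    rw [mul_add, add_mul, add_mul, hA_sq, hA_sq, hA_comm t⁻¹ t]
    rw [← h2 (1 + A t * A t⁻¹)]
    abel
  -- (A t + 1)² = 0
  have hδδ : ∀ t : F, (A t + 1) * (A t + 1) = 0 := by
    intro t
    rw [mul_add, add_mul, mul_one, one_mul, hA_sq]
    rw [← h2 (1 + A t)]
    abel
  -- β commutes with σ
  have hβσ : ∀ t, t ≠ 0 → B t * (A t + A t⁻¹) = (A t + A t⁻¹) * B t := by
    intro t ht
    rw [mul_add, add_mul, hBA t ht, hBA' t ht]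
  -- (B'): δ_{t²} = σ β
  have hD2 : ∀ t, t ≠ 0 → A (t ^ 2) + 1 = (A t + A t⁻¹) * B t := by
    intro t ht
    have h := E22 t ht 1
    rw [hB_one, hA_one, mul_one, mul_one, mul_one] at h
    have h' : ((A t + A t⁻¹) + B t⁻¹) * B t = A (t ^ 2) * B t⁻¹ * B t := by rw [h]
    rw [add_mul, hB'B t ht, mul_assoc, hB'B t ht, mul_one] at h'
    rw [← h', add_assoc, h2, add_zero]
  -- β_{t²} = β_t²
  have hBsq : ∀ t, t ≠ 0 → B (t ^ 2) = B t * B t := by
    intro t ht
    have h := E12 t ht 1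
    rw [hB_one, hA_one, mul_one, mul_one, mul_one] at h
    have hA2 : A (t ^ 2) = (A t + A t⁻¹) * B t + 1 := hmove _ _ _ (hD2 t ht)
    have h1 : A (t ^ 2) * (A t + A t⁻¹) = A t + A t⁻¹ := by
      rw [hA2, add_mul, one_mul, mul_assoc, hβσ t ht, ← mul_assoc, hσσ, zero_mul, zero_add]
    rw [h1, add_comm] at h
    have h3 : B t = B (t ^ 2) * B t⁻¹ := hcancel _ _ _ h
    calc B (t ^ 2) = B (t ^ 2) * (B t⁻¹ * B t) := by rw [hB'B t ht, mul_one]
      _ = (B (t ^ 2) * B t⁻¹) * B t := by rw [mul_assoc]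
      _ = B t * B t := by rw [← h3]
  -- (A'): σ = β δ_{1/t²}
  have hσ : ∀ t, t ≠ 0 → A t + A t⁻¹ = B t * (A (t ^ 2)⁻¹ + 1) := by
    intro t ht
    have ht2 : t ^ 2 ≠ 0 := pow_ne_zero 2 ht
    have h := E11 t ht (t ^ 2)⁻¹
    rw [mul_inv_cancel₀ ht2, hA_one, hB_one, one_mul, one_mul] at h
    rw [mul_add, mul_one, h, add_comm (B t), add_assoc, h2, add_zero]
  -- (C'): δ_μ = β_μ δ_{1/μ}
  have hC : ∀ μ : F, μ ≠ 0 → A μ + 1 = B μ * (A μ⁻¹ + 1) := by
    intro μ hμ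
    obtain ⟨t, rfl⟩ : ∃ t : F, t ^ 2 = μ := by
      obtain ⟨r, hr⟩ := isSquare_of_charTwo' μ
      exact ⟨r, by rw [sq, hr]⟩
    have ht : t ≠ 0 := by
      rintro rfl
      exact hμ (by simp)
    rw [hD2 t ht, ← hβσ t ht, hσ t ht, ← mul_assoc, ← hBsq t ht]
  -- (D'): δ_{t²} = (β_t + 1) δ_t
  have hD : ∀ t, t ≠ 0 → A (t ^ 2) + 1 = (B t + 1) * (A t + 1) := by
    intro t ht
    have hs : A t + A t⁻¹ = (B t + 1) * (A t⁻¹ + 1) := by
      rw [add_mul, one_mul, ← hC t ht]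
      have h11 := h2 (1 : R)
      calc A t + A t⁻¹ = A t + A t⁻¹ + 0 := by rw [add_zero]
        _ = A t + A t⁻¹ + (1 + 1) := by rw [h11]
        _ = A t + 1 + (A t⁻¹ + 1) := by abel
    rw [hD2 t ht, ← hβσ t ht, hs, ← mul_assoc]
    have : B t * (B t + 1) = (B t + 1) * B t := by rw [mul_add, add_mul, mul_one, one_mul]
    rw [this, mul_assoc, ← hC t ht]
  -- conclusion
  intro c
  by_cases h0 : c = 0
  · subst h0
    have h := hA_add 0 0
    rw [add_zero, hA_sq] at h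
    exact h
  by_cases h1 : c = 1
  · subst h1; exact hA_one
  have hs0 : c + 1 ≠ 0 := by
    intro h
    apply h1
    have : c = -1 := eq_neg_of_add_eq_zero_left h
    rw [this, CharTwo.neg_eq]
  have hAs : A (c + 1) = A c := by rw [hA_add, hA_one, mul_one]
  have hBs : B (c + 1) = A c + B c := by rw [hB_add, hA_one, hB_one, mul_one, mul_one]
  have hs2 : (c + 1) ^ 2 = c ^ 2 + 1 := by
    rw [add_sq, mul_one, one_pow]
    have : (2 : F) = 0 := CharTwo.two_eq_zero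
    rw [this, zero_mul, add_zero]
  have hAs2 : A ((c + 1) ^ 2) = A (c ^ 2) := by rw [hs2, hA_add, hA_one, mul_one]
  have e1 := hD (c + 1) hs0
  rw [hAs2, hAs, hBs] at e1
  have e2 := hD c h0
  rw [e1] at e2
  -- (A c + B c + 1) * (A c + 1) = (B c + 1) * (A c + 1)
  have e3 : (A c + B c + 1) * (A c + 1) = B c * (A c + 1) := by
    have : A c + B c + 1 = B c + (A c + 1) := by abel
    rw [this, add_mul, hδδ, add_zero]
  rw [e3, add_mul, one_mul] at e2
  have e4 : A c + 1 = 0 := by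
    have := hcancel (B c * (A c + 1)) 0 (A c + 1) (by rw [add_zero]; exact e2)
    exact this.symm
  exact hmove _ _ _ e4 |>.trans (zero_add 1)

section apply

variable {F : Type*} [Field F] [CharP F 2]
variable {M : Type*} [AddCommGroup M] [DistribMulAction (Matrix.SpecialLinearGroup (Fin 2) F) M]

local notation "SF" => Matrix.SpecialLinearGroup (Fin 2) F

/-- `α_c` as an endomorphism of `W` -/
def A9_aux_A (h2 : Exp2 M) (h3 : Fpf F M) (c : F) : AddMonoid.End ↥(fixu F M) :=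
  AddMonoidHom.mk' (fun b => ⟨al F c (b : M), (block_uu h2 h3 c b.2).1⟩)
    (fun b b' => Subtype.ext (al_map_add c (b : M) (b' : M)))

/-- `β_c` as an endomorphism of `W` -/
def A9_aux_B (h2 : Exp2 M) (h3 : Fpf F M) (c : F) : AddMonoid.End ↥(fixu F M) :=
  AddMonoidHom.mk' (fun b => ⟨be F c (b : M), (block_uu h2 h3 c b.2).2.1⟩)
    (fun b b' => Subtype.ext (be_map_add c (b : M) (b' : M)))

theorem A9_aux_A_coe (h2 : Exp2 M) (h3 : Fpf F M) (c : F) (b : ↥(fixu F M)) :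
    ((A9_aux_A h2 h3 c b : ↥(fixu F M)) : M) = al F c (b : M) := rfl

theorem A9_aux_B_coe (h2 : Exp2 M) (h3 : Fpf F M) (c : F) (b : ↥(fixu F M)) :
    ((A9_aux_B h2 h3 c b : ↥(fixu F M)) : M) = be F c (b : M) := rfl

/-- A9 -/
theorem al_trivial [Finite F] (h2 : Exp2 M) (h3 : Fpf F M) (c : F) {b : M} (hb : b ∈ fixu F M) :
    al F c b = b := by
  have key := A9_aux_ring (F := F) (R := AddMonoid.End ↥(fixu F M))
    (fun x => AddMonoidHom.ext fun b => Subtype.ext (h2 ((x b : ↥(fixu F M)) : M)))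
    (A9_aux_A h2 h3) (A9_aux_B h2 h3)
    (fun c d => AddMonoidHom.ext fun b => Subtype.ext (al_add c d (b : M)))
    (fun c => AddMonoidHom.ext fun b => Subtype.ext (al_al c (b : M)))
    (AddMonoidHom.ext fun b => Subtype.ext (al_one b.2))
    (AddMonoidHom.ext fun b => Subtype.ext (be_one h2 h3 b.2))
    (fun c d => AddMonoidHom.ext fun b => Subtype.ext (be_add h2 h3 c d b.2))
    (fun t ht => AddMonoidHom.ext fun b => Subtype.ext (order3_rel h2 h3 t ht b.2).1)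
    (fun t ht => AddMonoidHom.ext fun b => Subtype.ext (order3_rel h2 h3 t ht b.2).2.1)
    (fun t ht => AddMonoidHom.ext fun b => Subtype.ext (be_al_comm h2 h3 t ht b.2))
    (fun t ht c => AddMonoidHom.ext fun b => Subtype.ext (torus_rel h2 h3 t ht c b.2).1)
    (fun t ht c => AddMonoidHom.ext fun b => Subtype.ext (torus_rel h2 h3 t ht c b.2).2.2.1)
    (fun t ht c => AddMonoidHom.ext fun b => Subtype.ext (torus_rel h2 h3 t ht c b.2).2.2.2)
    c
  have := congrArg (fun f : AddMonoid.End ↥(fixu F M) => ((f ⟨b, hb⟩ : ↥(fixu F M)) : M)) key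
  exact this

end apply

end Cfsg.Agent.S3050P
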