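import Mathlib
import Cfsg.Agent.Helper26.S3050Defs
import Cfsg.Agent.Helper29.S3050A9

/-! # S3050 piece A10 (`be_ring`), hedge copy: `β` is additive and multiplicative on `W`
Blueprint `departures/helper26_S3050_blueprint.md`, A10.  Abstract ring lemma `A10h_aux_ring`, applied to
`AddMonoid.End W` through `A9_aux_B`. -/

set_option autoImplicit false

namespace Cfsg.Agent.S3050P

open Cfsg.Agent.Helper18.NatMod

/-- In a ring with `x + x = 0`: an additive `B : F → R` with `B 1 = 1`, `B t⁻¹ B t = 1` and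
`B t B c = B (t² c) B t⁻¹` is multiplicative (`F` a finite field of characteristic 2). -/
theorem A10h_aux_ring {F : Type*} [Field F] [CharP F 2] [Finite F] {R : Type*} [Ring R]
    (h2 : ∀ x : R, x + x = 0) (B : F → R)
    (hB_one : B 1 = 1) (hadd : ∀ c d, B (c + d) = B c + B d)
    (hB'B : ∀ t, t ≠ 0 → B t⁻¹ * B t = 1)
    (E : ∀ t, t ≠ 0 → ∀ c, B t * B c = B (t ^ 2 * c) * B t⁻¹) :
    ∀ c d, B (c * d) = B c * B d := by
  have hB0 : B 0 = 0 := by
    have h := hadd 0 0
    rw [add_zero] at h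
    exact left_eq_add.mp h
  -- B t B c B t = B (t² c)
  have h3 : ∀ t, t ≠ 0 → ∀ c, B (t ^ 2 * c) = B t * B c * B t := by
    intro t ht c
    rw [E t ht c, mul_assoc, hB'B t ht, mul_one]
  -- B (t²) = B t B t, for all t
  have hsq : ∀ t, B (t ^ 2) = B t * B t := by
    intro t
    by_cases ht : t = 0
    · subst ht
      rw [zero_pow (by norm_num), hB0, zero_mul]
    · have := h3 t ht 1
      rwa [mul_one, hB_one, mul_one] at this
  -- the B's commute
  have hcomm : ∀ s t, B s * B t = B t * B s := by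
    intro s t
    have hst : (s + t) ^ 2 = s ^ 2 + t ^ 2 := by
      rw [add_sq]
      have : (2 : F) = 0 := CharTwo.two_eq_zero
      rw [this, zero_mul, zero_mul, add_zero]
    have h := hsq (s + t)
    rw [hst, hadd, hadd, hsq, hsq, mul_add, add_mul, add_mul] at h
    have h' : (B s * B s + B t * B t) + 0
        = (B s * B s + B t * B t) + (B t * B s + B s * B t) := by
      rw [add_zero]
      refine h.trans ?_
      abel
    have h'' : B t * B s + B s * B t = 0 := (add_left_cancel h').symm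
    calc B s * B t = (B t * B s + B t * B s) + B s * B t := by rw [h2, zero_add]
      _ = B t * B s + (B t * B s + B s * B t) := by abel
      _ = B t * B s := by rw [h'', add_zero]
  intro c d
  obtain ⟨t, rfl⟩ : ∃ t : F, t ^ 2 = c := by
    obtain ⟨r, hr⟩ := isSquare_of_charTwo' c
    exact ⟨r, by rw [sq, hr]⟩
  by_cases ht : t = 0
  · subst ht
    rw [zero_pow (by norm_num), zero_mul, hB0, zero_mul]
  · rw [h3 t ht d, hsq, mul_assoc, mul_assoc, hcomm d t]

section apply

variable {F : Type*} [Field F] [CharP F 2]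
variable {M : Type*} [AddCommGroup M] [DistribMulAction (Matrix.SpecialLinearGroup (Fin 2) F) M]

local notation "SF" => Matrix.SpecialLinearGroup (Fin 2) F

theorem A10h_aux_be_mem (h2 : Exp2 M) (h3 : Fpf F M) (c : F) {b : M} (hb : b ∈ fixu F M) :
    be F c b ∈ fixu F M := (block_uu h2 h3 c hb).2.1

/-- additivity of `β` in the parameter -/
theorem A10h_aux_add [Finite F] (h2 : Exp2 M) (h3 : Fpf F M) (c d : F) {b : M} (hb : b ∈ fixu F M) :
    be F (c + d) b = be F c b + be F d b := by
  rw [be_add h2 h3 c d hb, al_trivial h2 h3 c (A10h_aux_be_mem h2 h3 d hb), al_trivial h2 h3 d hb,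
    add_comm]

/-- (E12) with `α = 1` -/
theorem A10h_aux_E [Finite F] (h2 : Exp2 M) (h3 : Fpf F M) (t : F) (ht : t ≠ 0) (c : F) {b : M}
    (hb : b ∈ fixu F M) : be F t (be F c b) = be F (t ^ 2 * c) (be F t⁻¹ b) := by
  have h := (torus_rel h2 h3 t ht c hb).2.2.1
  rw [al_trivial h2 h3 c hb, al_trivial h2 h3 t hb, al_trivial h2 h3 t⁻¹ hb,
    al_trivial h2 h3 (t ^ 2 * c) ((fixu F M).add_mem hb hb), h2 b, add_zero, zero_add] at h
  exact h

/-- A10 -/
theorem be_ring [Finite F] (h2 : Exp2 M) (h3 : Fpf F M) {b : M} (hb : b ∈ fixu F M) :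
    (∀ c d : F, be F (c + d) b = be F c b + be F d b) ∧
      (∀ c d : F, be F (c * d) b = be F c (be F d b)) := by
  refine ⟨fun c d => A10h_aux_add h2 h3 c d hb, fun c d => ?_⟩
  have key := A10h_aux_ring (F := F) (R := AddMonoid.End ↥(fixu F M))
    (fun x => AddMonoidHom.ext fun b => Subtype.ext (h2 ((x b : ↥(fixu F M)) : M)))
    (A9_aux_B h2 h3)
    (AddMonoidHom.ext fun b => Subtype.ext (be_one h2 h3 b.2))
    (fun c d => AddMonoidHom.ext fun b => Subtype.ext (A10h_aux_add h2 h3 c d b.2))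
    (fun t ht => AddMonoidHom.ext fun b => Subtype.ext (by
      have := (order3_rel h2 h3 t⁻¹ (inv_ne_zero ht) b.2).1
      rw [inv_inv] at this
      exact this))
    (fun t ht c => AddMonoidHom.ext fun b => Subtype.ext (A10h_aux_E h2 h3 t ht c b.2))
    c d
  exact congrArg (fun f : AddMonoid.End ↥(fixu F M) => ((f ⟨b, hb⟩ : ↥(fixu F M)) : M)) key

end apply

end Cfsg.Agent.S3050P
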