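import Mathlib
import Cfsg.Agent.Helper26.S3050Defs
import Cfsg.Agent.Helper29.S3050A9
import Cfsg.Agent.Helper29.S3050A10h

/-! # S3050 piece A11 (`natStr_of_fpf`): the module theorem
Blueprint `departures/helper26_S3050_blueprint.md`, A11.  For a matrix `X` put
`Φ_X (a + w b) = (β_{X00} a + β_{X01} b) + w (β_{X10} a + β_{X11} b)`.  `Φ` is multiplicative (`β` is a ring
homomorphism, A10), `Φ_1 = id`, and `g • m = Φ_g m` for `g = u(c)` and `g = w`, hence for all `g ∈ SL₂(F)`.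
`κ_c = Φ_{cI}`, so `κ_c` commutes with the action. -/

set_option autoImplicit false

namespace Cfsg.Agent.S3050P

open Cfsg.Agent.Helper18.NatMod

section

variable {F : Type*} [Field F] [CharP F 2]
variable {M : Type*} [AddCommGroup M] [DistribMulAction (Matrix.SpecialLinearGroup (Fin 2) F) M]

local notation "SF" => Matrix.SpecialLinearGroup (Fin 2) F
local notation "MF" => Matrix (Fin 2) (Fin 2) F

/-- the block-matrix operator `Φ_X` -/
def A11_aux_Phi (X : MF) (m : M) : M :=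
  (be F (X 0 0) (pr1 F m) + be F (X 0 1) (pr2 F m))
    + (ww : SF) • (be F (X 1 0) (pr1 F m) + be F (X 1 1) (pr2 F m))

theorem A11_aux_be_map_zero (c : F) : be F c (0 : M) = 0 := by
  have h := be_map_add (F := F) c (0 : M) 0
  rw [add_zero] at h
  exact left_eq_add.mp h

theorem A11_aux_be_zero (h2 : Exp2 M) (h3 : Fpf F M) [Finite F] {b : M} (hb : b ∈ fixu F M) :
    be F 0 b = 0 := by
  have h := (be_ring h2 h3 hb).1 0 0
  rw [add_zero] at h
  exact left_eq_add.mp h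

theorem A11_aux_be_mem (h2 : Exp2 M) (h3 : Fpf F M) (c : F) {b : M} (hb : b ∈ fixu F M) :
    be F c b ∈ fixu F M := (block_uu h2 h3 c hb).2.1

/-- the components of `Φ_X m` -/
theorem A11_aux_pr_Phi (h2 : Exp2 M) (h3 : Fpf F M) (X : MF) (m : M) :
    pr1 F (A11_aux_Phi X m) = be F (X 0 0) (pr1 F m) + be F (X 0 1) (pr2 F m) ∧
      pr2 F (A11_aux_Phi X m) = be F (X 1 0) (pr1 F m) + be F (X 1 1) (pr2 F m) := by
  obtain ⟨h1, h2', -⟩ := dec_of_fpf h2 h3 m
  exact pr_of_fix h2 h3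
    ((fixu F M).add_mem (A11_aux_be_mem h2 h3 _ h1) (A11_aux_be_mem h2 h3 _ h2'))
    ((fixu F M).add_mem (A11_aux_be_mem h2 h3 _ h1) (A11_aux_be_mem h2 h3 _ h2'))

/-- `Φ` is multiplicative -/
theorem A11_aux_Phi_mul [Finite F] (h2 : Exp2 M) (h3 : Fpf F M) (X Y : MF) (m : M) :
    A11_aux_Phi (X * Y) m = A11_aux_Phi X (A11_aux_Phi Y m) := by
  obtain ⟨h1, h2', -⟩ := dec_of_fpf h2 h3 m
  obtain ⟨e1, e2⟩ := A11_aux_pr_Phi h2 h3 Y m
  have hm := fun (c : F) {b : M} (hb : b ∈ fixu F M) => A11_aux_be_mem h2 h3 c hb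
  have hadd := fun {b : M} (hb : b ∈ fixu F M) => (be_ring h2 h3 hb).1
  have hmul := fun {b : M} (hb : b ∈ fixu F M) => (be_ring h2 h3 hb).2
  show A11_aux_Phi (X * Y) m
    = (be F (X 0 0) (pr1 F (A11_aux_Phi Y m)) + be F (X 0 1) (pr2 F (A11_aux_Phi Y m)))
      + (ww : SF) • (be F (X 1 0) (pr1 F (A11_aux_Phi Y m)) + be F (X 1 1) (pr2 F (A11_aux_Phi Y m)))
  rw [e1, e2]
  unfold A11_aux_Phi
  simp only [Matrix.mul_apply, Fin.sum_univ_two, be_map_add, hadd h1, hadd h2', hmul h1, hmul h2']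
  congr 1
  · abel
  · congr 1
    abel

/-- `Φ_1 = id` -/
theorem A11_aux_Phi_one [Finite F] (h2 : Exp2 M) (h3 : Fpf F M) (m : M) :
    A11_aux_Phi (1 : MF) m = m := by
  obtain ⟨h1, h2', hd⟩ := dec_of_fpf h2 h3 m
  unfold A11_aux_Phi
  simp only [Matrix.one_apply_eq, Matrix.one_apply_ne, ne_eq, zero_ne_one, one_ne_zero, not_false_eq_true,
    be_one h2 h3 h1, be_one h2 h3 h2', A11_aux_be_zero h2 h3 h1, A11_aux_be_zero h2 h3 h2',
    add_zero, zero_add]
  exact hd.symm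

/-- `u(c)` acts as `Φ_{u(c)}` -/
theorem A11_aux_Phi_uu [Finite F] (h2 : Exp2 M) (h3 : Fpf F M) (c : F) (m : M) :
    (uu c : SF) • m = A11_aux_Phi ((uu c : SF) : MF) m := by
  obtain ⟨h1, h2', hd⟩ := dec_of_fpf h2 h3 m
  have hbl := (block_uu h2 h3 c h2').2.2
  have ha1 : (uu c : SF) • pr1 F m = pr1 F m := al_trivial h2 h3 c h1
  have ha2 : al F c (pr2 F m) = pr2 F m := al_trivial h2 h3 c h2'
  unfold A11_aux_Phi
  rw [uu_coe]
  simp only [Matrix.of_apply, Matrix.cons_val', Matrix.cons_val_zero, Matrix.cons_val_one,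
    Matrix.cons_val_fin_one, be_one h2 h3 h1, be_one h2 h3 h2', A11_aux_be_zero h2 h3 h1, zero_add]
  conv_lhs => rw [hd, smul_add, ha1, hbl, ha2]
  abel

/-- `w` acts as `Φ_w` -/
theorem A11_aux_Phi_ww [Finite F] (h2 : Exp2 M) (h3 : Fpf F M) (m : M) :
    (ww : SF) • m = A11_aux_Phi ((ww : SF) : MF) m := by
  obtain ⟨h1, h2', hd⟩ := dec_of_fpf h2 h3 m
  unfold A11_aux_Phi
  rw [ww_coe]
  simp only [Matrix.of_apply, Matrix.cons_val', Matrix.cons_val_zero, Matrix.cons_val_one,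
    Matrix.cons_val_fin_one, CharTwo.neg_eq, be_one h2 h3 h1, be_one h2 h3 h2',
    A11_aux_be_zero h2 h3 h1, A11_aux_be_zero h2 h3 h2', zero_add, add_zero]
  conv_lhs => rw [hd, smul_add, ← mul_smul, ww_sq, one_smul]
  abel

/-- every `g ∈ SL₂(F)` acts as `Φ_g` -/
theorem A11_aux_act [Finite F] (h2 : Exp2 M) (h3 : Fpf F M) (g : SF) (m : M) :
    g • m = A11_aux_Phi (g : MF) m := by
  let H : Subgroup SF :=
    { carrier := {g | ∀ m : M, g • m = A11_aux_Phi (g : MF) m}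
      one_mem' := fun m => by
        rw [one_smul, Matrix.SpecialLinearGroup.coe_one, A11_aux_Phi_one h2 h3]
      mul_mem' := fun {a b} ha hb m => by
        rw [mul_smul, Matrix.SpecialLinearGroup.coe_mul, A11_aux_Phi_mul h2 h3, ← hb m, ← ha]
      inv_mem' := fun {a} ha m => by
        have h1 : A11_aux_Phi ((a⁻¹ : SF) : MF) (A11_aux_Phi (a : MF) (a⁻¹ • m)) = a⁻¹ • m := by
          rw [← A11_aux_Phi_mul h2 h3, ← Matrix.SpecialLinearGroup.coe_mul, inv_mul_cancel,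
            Matrix.SpecialLinearGroup.coe_one, A11_aux_Phi_one h2 h3]
        rw [← ha, smul_inv_smul] at h1
        exact h1.symm }
  have hH : H = ⊤ := eq_top_of_uu_ww H (fun c m => A11_aux_Phi_uu h2 h3 c m)
    (fun m => A11_aux_Phi_ww h2 h3 m)
  have hg : g ∈ H := hH ▸ Subgroup.mem_top g
  exact hg m

/-- `κ_c = Φ_{cI}` -/
theorem A11_aux_ka_eq [Finite F] (h2 : Exp2 M) (h3 : Fpf F M) (c : F) (m : M) :
    ka F c m = A11_aux_Phi (c • (1 : MF)) m := by
  obtain ⟨h1, h2', -⟩ := dec_of_fpf h2 h3 m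
  unfold A11_aux_Phi ka
  simp only [Matrix.smul_apply, Matrix.one_apply_eq, Matrix.one_apply_ne, ne_eq, zero_ne_one, one_ne_zero,
    not_false_eq_true, smul_eq_mul, mul_one, mul_zero, A11_aux_be_zero h2 h3 h1,
    A11_aux_be_zero h2 h3 h2', add_zero, zero_add]

theorem A11_aux_pr_fix (h2 : Exp2 M) (h3 : Fpf F M) {a : M} (ha : a ∈ fixu F M) :
    pr1 F a = a ∧ pr2 F a = 0 := by
  have h := pr_of_fix h2 h3 ha (fixu F M).zero_mem
  rwa [smul_zero, add_zero] at h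

theorem A11_aux_ka_fix (h2 : Exp2 M) (h3 : Fpf F M) (c : F) {a : M} (ha : a ∈ fixu F M) :
    ka F c a = be F c a := by
  obtain ⟨e1, e2⟩ := A11_aux_pr_fix h2 h3 ha
  unfold ka
  rw [e1, e2, A11_aux_be_map_zero, smul_zero, add_zero]

/-- A11: the module theorem -/
theorem natStr_of_fpf [Finite F] (h2 : Exp2 M) (h3 : Fpf F M) : NatStr F M where
  dec := dec_of_fpf h2 h3
  uniq := fun a ha b hb h => uniq_of_fpf h2 h3 ha hb h
  ka_add := fun c d m => by
    obtain ⟨h1, h2', -⟩ := dec_of_fpf h2 h3 m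
    unfold ka
    rw [(be_ring h2 h3 h1).1, (be_ring h2 h3 h2').1, smul_add]
    abel
  ka_mul := fun c d m => by
    rw [A11_aux_ka_eq h2 h3, A11_aux_ka_eq h2 h3 c, A11_aux_ka_eq h2 h3 d, ← A11_aux_Phi_mul h2 h3]
    congr 1
    rw [smul_mul_assoc, one_mul, smul_smul]
  ka_one := fun m => by
    rw [A11_aux_ka_eq h2 h3, one_smul, A11_aux_Phi_one h2 h3]
  ka_map_add := fun c m m' => by
    have hp1 : pr1 F (m + m') = pr1 F m + pr1 F m' := by
      unfold pr1
      simp only [smul_add]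
      abel
    have hp2 : pr2 F (m + m') = pr2 F m + pr2 F m' := by
      unfold pr2
      simp only [smul_add]
      abel
    unfold ka
    rw [hp1, hp2, be_map_add, be_map_add, smul_add]
    abel
  ka_smul := fun c g m => by
    rw [A11_aux_ka_eq h2 h3, A11_aux_ka_eq h2 h3 c m, A11_aux_act h2 h3 g m,
      A11_aux_act h2 h3 g, ← A11_aux_Phi_mul h2 h3, ← A11_aux_Phi_mul h2 h3]
    congr 1
    rw [smul_mul_assoc, one_mul, mul_smul_comm, mul_one]
  act := fun g a ha => by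
    obtain ⟨e1, e2⟩ := A11_aux_pr_fix h2 h3 ha
    rw [A11_aux_ka_fix h2 h3 _ ha, A11_aux_ka_fix h2 h3 _ ha, A11_aux_act h2 h3 g a]
    unfold A11_aux_Phi
    rw [e1, e2, A11_aux_be_map_zero, A11_aux_be_map_zero, add_zero, add_zero]

end

end Cfsg.Agent.S3050P
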