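import Mathlib
import Cfsg.Agent.Helper16.FHDefs

/-!
Piece (C2) of helper16's Feit–Higman project (S1142): closed form of the Schur sum of the explicit
two-dimensional representations `Rm s t x_j` of the dihedral Hecke algebra.
-/

set_option autoImplicit false

namespace Cfsg.Agent.Helper29.FHC2

open Cfsg.Agent.Helper16.FH

/-! ### alternating words -/

theorem one_sub_one_sub (i : Fin 2) : 1 - (1 - i) = i := by
  fin_cases i <;> rfl

theorem alt_add_two {𝓐 : Type*} [Monoid 𝓐] (a : Fin 2 → 𝓐) (k : ℕ) (i : Fin 2) :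
    alt a (k + 2) i = a i * a (1 - i) * alt a k i := by
  rw [alt_succ, alt_succ, one_sub_one_sub, mul_assoc]

theorem alt_even {𝓐 : Type*} [Monoid 𝓐] (a : Fin 2 → 𝓐) (k : ℕ) (i : Fin 2) :
    alt a (2 * k) i = (a i * a (1 - i)) ^ k := by
  induction k with
  | zero => simp
  | succ k ih =>
    rw [show 2 * (k + 1) = 2 * k + 2 by ring, alt_add_two, ih, pow_succ']

theorem alt_odd {𝓐 : Type*} [Monoid 𝓐] (a : Fin 2 → 𝓐) (k : ℕ) (i : Fin 2) :
    alt a (2 * k + 1) i = (a i * a (1 - i)) ^ k * a i := by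
  induction k with
  | zero => simp [alt_succ]
  | succ k ih =>
    rw [show 2 * (k + 1) + 1 = (2 * k + 1) + 2 by ring, alt_add_two, ih, pow_succ']
    simp only [mul_assoc]

/-! ### traces of powers of a `2 × 2` matrix -/

theorem trace_rec (M L : Matrix (Fin 2) (Fin 2) ℝ) (a b : ℝ) (hM : M * M = a • M - b • 1)
    (k : ℕ) :
    Matrix.trace (M ^ (k + 2) * L) =
      a * Matrix.trace (M ^ (k + 1) * L) - b * Matrix.trace (M ^ k * L) := by
  have h : M ^ (k + 2) = a • M ^ (k + 1) - b • M ^ k := by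
    rw [pow_succ, pow_succ, mul_assoc, hM, mul_sub, Matrix.mul_smul, Matrix.mul_smul, mul_one,
      ← pow_succ]
  rw [h, Matrix.sub_mul, Matrix.smul_mul, Matrix.smul_mul, Matrix.trace_sub, Matrix.trace_smul,
    Matrix.trace_smul, smul_eq_mul, smul_eq_mul]

/-- solutions of the recurrence `τ (k+2) = 2 ρ cos θ τ (k+1) - ρ² τ k` -/
theorem closed_form (ρ θ : ℝ) (τ : ℕ → ℝ) (P Q : ℝ)
    (hrec : ∀ k, τ (k + 2) = 2 * (ρ * Real.cos θ) * τ (k + 1) - ρ ^ 2 * τ k)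
    (h0 : τ 0 = P) (h1 : τ 1 = ρ * (P * Real.cos θ + Q * Real.sin θ)) :
    ∀ k : ℕ, τ k = ρ ^ k * (P * Real.cos (k * θ) + Q * Real.sin (k * θ)) := by
  have key : ∀ k : ℕ, τ k = ρ ^ k * (P * Real.cos (k * θ) + Q * Real.sin (k * θ)) ∧
      τ (k + 1) = ρ ^ (k + 1) * (P * Real.cos ((k + 1 : ℕ) * θ) + Q * Real.sin ((k + 1 : ℕ) * θ)) := by
    intro k
    induction k with
    | zero =>
      refine ⟨?_, ?_⟩
      · simp [h0]
      · rw [h1]; simp
    | succ k ih =>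
      refine ⟨ih.2, ?_⟩
      rw [hrec k, ih.1, ih.2]
      have e1 : ((k + 1 + 1 : ℕ) : ℝ) * θ = ((k + 1 : ℕ) : ℝ) * θ + θ := by push_cast; ring
      have e2 : (k : ℝ) * θ = ((k + 1 : ℕ) : ℝ) * θ - θ := by push_cast; ring
      rw [e1, e2, Real.cos_add, Real.sin_add, Real.cos_sub, Real.sin_sub]
      ring
  exact fun k => (key k).1

/-! ### the explicit matrices -/

theorem Rm_mul_self_01 (s t x : ℝ) :
    (Rm s t x 0 * Rm s t x 1) * (Rm s t x 0 * Rm s t x 1) =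
      (2 * x) • (Rm s t x 0 * Rm s t x 1) - (s * t) • (1 : Matrix (Fin 2) (Fin 2) ℝ) := by
  ext i j
  fin_cases i <;> fin_cases j <;>
    simp [Rm, Matrix.mul_apply, Fin.sum_univ_two] <;> ring

theorem Rm_mul_self_10 (s t x : ℝ) :
    (Rm s t x 1 * Rm s t x 0) * (Rm s t x 1 * Rm s t x 0) =
      (2 * x) • (Rm s t x 1 * Rm s t x 0) - (s * t) • (1 : Matrix (Fin 2) (Fin 2) ℝ) := by
  ext i j
  fin_cases i <;> fin_cases j <;>
    simp [Rm, Matrix.mul_apply, Fin.sum_univ_two] <;> ring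


theorem trace_Rm_01 (s t x : ℝ) : Matrix.trace (Rm s t x 0 * Rm s t x 1) = 2 * x := by
  simp [Rm, Matrix.trace, Matrix.mul_apply, Fin.sum_univ_two]; ring

theorem trace_Rm_10 (s t x : ℝ) : Matrix.trace (Rm s t x 1 * Rm s t x 0) = 2 * x := by
  simp [Rm, Matrix.trace, Matrix.mul_apply, Fin.sum_univ_two]; ring

theorem trace_Rm_0 (s t x : ℝ) : Matrix.trace (Rm s t x 0) = s - 1 := by
  simp [Rm, Matrix.trace, Fin.sum_univ_two]; ring

theorem trace_Rm_1 (s t x : ℝ) : Matrix.trace (Rm s t x 1) = t - 1 := by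
  simp [Rm, Matrix.trace, Fin.sum_univ_two]; ring

theorem trace_Rm_010 (s t x : ℝ) :
    Matrix.trace (Rm s t x 0 * Rm s t x 1 * Rm s t x 0) = s * (t - 1) + 2 * x * (s - 1) := by
  simp [Rm, Matrix.trace, Matrix.mul_apply, Fin.sum_univ_two]; ring

theorem trace_Rm_101 (s t x : ℝ) :
    Matrix.trace (Rm s t x 1 * Rm s t x 0 * Rm s t x 1) = t * (s - 1) + 2 * x * (t - 1) := by
  simp [Rm, Matrix.trace, Matrix.mul_apply, Fin.sum_univ_two]; ring

/-- traces of the even words -/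
theorem trace_even (s t ρ θ : ℝ) (hρ : ρ ^ 2 = s * t) (i : Fin 2) (k : ℕ) :
    Matrix.trace (alt (Rm s t (ρ * Real.cos θ)) (2 * k) i) = 2 * ρ ^ k * Real.cos (k * θ) := by
  rw [alt_even]
  have hM : (Rm s t (ρ * Real.cos θ) i * Rm s t (ρ * Real.cos θ) (1 - i)) *
      (Rm s t (ρ * Real.cos θ) i * Rm s t (ρ * Real.cos θ) (1 - i)) =
      (2 * (ρ * Real.cos θ)) • (Rm s t (ρ * Real.cos θ) i * Rm s t (ρ * Real.cos θ) (1 - i)) -
        (ρ ^ 2) • (1 : Matrix (Fin 2) (Fin 2) ℝ) := by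
    rw [hρ]
    fin_cases i
    · exact Rm_mul_self_01 s t _
    · exact Rm_mul_self_10 s t _
  have htr : Matrix.trace (Rm s t (ρ * Real.cos θ) i * Rm s t (ρ * Real.cos θ) (1 - i)) =
      2 * (ρ * Real.cos θ) := by
    fin_cases i
    · exact trace_Rm_01 s t _
    · exact trace_Rm_10 s t _
  have h := closed_form ρ θ
    (fun k => Matrix.trace
      ((Rm s t (ρ * Real.cos θ) i * Rm s t (ρ * Real.cos θ) (1 - i)) ^ k * 1)) 2 0
    (fun k => trace_rec _ 1 _ _ hM k)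
    (by simp) (by simp only [pow_one, mul_one]; rw [htr]; ring) k
  simp only [mul_one] at h
  rw [h]; ring

/-- traces of the odd words starting with `0` -/
theorem trace_odd_0 (s t ρ θ : ℝ) (hρ : ρ ^ 2 = s * t) (k : ℕ) :
    ρ * Real.sin θ * Matrix.trace (alt (Rm s t (ρ * Real.cos θ)) (2 * k + 1) 0) =
      ρ ^ k * (ρ * (s - 1) * Real.sin ((k + 1 : ℕ) * θ) + s * (t - 1) * Real.sin (k * θ)) := by
  rw [alt_odd]
  have hM := Rm_mul_self_01 s t (ρ * Real.cos θ)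
  rw [← hρ] at hM
  have h := closed_form ρ θ
    (fun k => ρ * Real.sin θ * Matrix.trace
      ((Rm s t (ρ * Real.cos θ) 0 * Rm s t (ρ * Real.cos θ) 1) ^ k * Rm s t (ρ * Real.cos θ) 0))
    (ρ * Real.sin θ * (s - 1)) (ρ * (s - 1) * Real.cos θ + s * (t - 1))
    (fun k => by
      rw [trace_rec _ _ _ _ hM k]; ring)
    (by simp only [pow_zero, one_mul]; rw [trace_Rm_0])
    (by simp only [pow_one]; rw [trace_Rm_010]; ring) k
  have e : ((k + 1 : ℕ) : ℝ) * θ = (k : ℝ) * θ + θ := by push_cast; ring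
  rw [show (1 : Fin 2) - 0 = 1 from rfl, h, e, Real.sin_add]
  ring

/-- traces of the odd words starting with `1` -/
theorem trace_odd_1 (s t ρ θ : ℝ) (hρ : ρ ^ 2 = s * t) (k : ℕ) :
    ρ * Real.sin θ * Matrix.trace (alt (Rm s t (ρ * Real.cos θ)) (2 * k + 1) 1) =
      ρ ^ k * (ρ * (t - 1) * Real.sin ((k + 1 : ℕ) * θ) + t * (s - 1) * Real.sin (k * θ)) := by
  rw [alt_odd]
  have hM := Rm_mul_self_10 s t (ρ * Real.cos θ)
  rw [← hρ] at hM
  have h := closed_form ρ θ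
    (fun k => ρ * Real.sin θ * Matrix.trace
      ((Rm s t (ρ * Real.cos θ) 1 * Rm s t (ρ * Real.cos θ) 0) ^ k * Rm s t (ρ * Real.cos θ) 1))
    (ρ * Real.sin θ * (t - 1)) (ρ * (t - 1) * Real.cos θ + t * (s - 1))
    (fun k => by
      rw [trace_rec _ _ _ _ hM k]; ring)
    (by simp only [pow_zero, one_mul]; rw [trace_Rm_1])
    (by simp only [pow_one]; rw [trace_Rm_101]; ring) k
  have e : ((k + 1 : ℕ) : ℝ) * θ = (k : ℝ) * θ + θ := by push_cast; ring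
  rw [show (1 : Fin 2) - 1 = 0 from rfl, h, e, Real.sin_add]
  ring


/-! ### the unweighted summands -/

theorem g_even (s t ρ θ : ℝ) (hs : 0 < s) (ht : 0 < t) (hρ : ρ ^ 2 = s * t) (k : ℕ) :
    ∑ i : Fin 2, (alt ![s, t] (2 * k) i)⁻¹ *
        (Matrix.trace (alt (Rm s t (ρ * Real.cos θ)) (2 * k) i)) ^ 2 =
      8 * Real.cos (k * θ) ^ 2 := by
  have hst : (s * t) ^ k ≠ 0 := pow_ne_zero _ (mul_pos hs ht).ne'
  have hρk : (ρ ^ k) ^ 2 = (s * t) ^ k := by rw [← pow_mul, mul_comm, pow_mul, hρ]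
  rw [Fin.sum_univ_two, trace_even s t ρ θ hρ, trace_even s t ρ θ hρ, alt_even, alt_even]
  simp only [Matrix.cons_val_zero, Matrix.cons_val_one, sub_zero, sub_self]
  rw [mul_comm t s]
  have e : (2 * ρ ^ k * Real.cos (k * θ)) ^ 2 = 4 * (s * t) ^ k * Real.cos (k * θ) ^ 2 := by
    rw [← hρk]; ring
  rw [e]
  field_simp
  ring

theorem g_odd (s t ρ θ : ℝ) (hs : 0 < s) (ht : 0 < t) (hρ : ρ ^ 2 = s * t) (k : ℕ) :
    (∑ i : Fin 2, (alt ![s, t] (2 * k + 1) i)⁻¹ *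
        (Matrix.trace (alt (Rm s t (ρ * Real.cos θ)) (2 * k + 1) i)) ^ 2) *
        (s * t * Real.sin θ ^ 2) =
      (t * (s - 1) ^ 2 + s * (t - 1) ^ 2) *
          (Real.sin (k * θ) ^ 2 + Real.sin ((k + 1 : ℕ) * θ) ^ 2) +
        4 * (ρ * (s - 1) * (t - 1)) * (Real.sin (k * θ) * Real.sin ((k + 1 : ℕ) * θ)) := by
  have hst : (s * t) ^ k ≠ 0 := pow_ne_zero _ (mul_pos hs ht).ne'
  have hρk : (ρ ^ k) ^ 2 = (s * t) ^ k := by rw [← pow_mul, mul_comm, pow_mul, hρ]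
  have ha := trace_odd_0 s t ρ θ hρ k
  have hb := trace_odd_1 s t ρ θ hρ k
  rw [Fin.sum_univ_two]
  generalize Matrix.trace (alt (Rm s t (ρ * Real.cos θ)) (2 * k + 1) 0) = a at ha ⊢
  generalize Matrix.trace (alt (Rm s t (ρ * Real.cos θ)) (2 * k + 1) 1) = b at hb ⊢
  generalize Real.sin ((k + 1 : ℕ) * θ) = σ' at ha hb ⊢
  generalize Real.sin (k * θ) = σ at ha hb ⊢
  have h0 : a ^ 2 * (s * t * Real.sin θ ^ 2) =
      (s * t) ^ k * (ρ * (s - 1) * σ' + s * (t - 1) * σ) ^ 2 := by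
    calc a ^ 2 * (s * t * Real.sin θ ^ 2) = (ρ * Real.sin θ * a) ^ 2 := by rw [← hρ]; ring
      _ = (ρ ^ k * (ρ * (s - 1) * σ' + s * (t - 1) * σ)) ^ 2 := by rw [ha]
      _ = _ := by rw [mul_pow, hρk]
  have h1 : b ^ 2 * (s * t * Real.sin θ ^ 2) =
      (s * t) ^ k * (ρ * (t - 1) * σ' + t * (s - 1) * σ) ^ 2 := by
    calc b ^ 2 * (s * t * Real.sin θ ^ 2) = (ρ * Real.sin θ * b) ^ 2 := by rw [← hρ]; ring
      _ = (ρ ^ k * (ρ * (t - 1) * σ' + t * (s - 1) * σ)) ^ 2 := by rw [hb]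
      _ = _ := by rw [mul_pow, hρk]
  rw [alt_odd, alt_odd]
  simp only [Matrix.cons_val_zero, Matrix.cons_val_one, sub_zero, sub_self]
  rw [mul_comm t s]
  calc (((s * t) ^ k * s)⁻¹ * a ^ 2 + ((s * t) ^ k * t)⁻¹ * b ^ 2) * (s * t * Real.sin θ ^ 2)
      = ((s * t) ^ k * s)⁻¹ * (a ^ 2 * (s * t * Real.sin θ ^ 2)) +
          ((s * t) ^ k * t)⁻¹ * (b ^ 2 * (s * t * Real.sin θ ^ 2)) := by ring
    _ = (ρ * (s - 1) * σ' + s * (t - 1) * σ) ^ 2 / s +
          (ρ * (t - 1) * σ' + t * (s - 1) * σ) ^ 2 / t := by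
        rw [h0, h1]
        field_simp
    _ = _ := by
        field_simp
        linear_combination ((t * (s - 1) ^ 2 + s * (t - 1) ^ 2) * σ' ^ 2) * hρ


/-! ### trigonometric sums -/

theorem sumX (θ : ℝ) (m : ℕ) :
    2 * Real.sin θ * ∑ k ∈ Finset.range m, Real.cos (2 * (k : ℝ) * θ) =
      Real.sin (2 * (m : ℝ) * θ - θ) + Real.sin θ := by
  induction m with
  | zero => simp
  | succ m ih =>
    rw [Finset.sum_range_succ, mul_add, ih]
    have e : 2 * ((m + 1 : ℕ) : ℝ) * θ - θ = 2 * (m : ℝ) * θ + θ := by push_cast; ring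
    rw [e, Real.sin_sub, Real.sin_add]
    ring

theorem sumY (θ : ℝ) (m : ℕ) :
    2 * Real.sin θ * ∑ k ∈ Finset.range m, Real.cos ((2 * (k : ℝ) + 1) * θ) =
      Real.sin (2 * (m : ℝ) * θ) := by
  induction m with
  | zero => simp
  | succ m ih =>
    rw [Finset.sum_range_succ, mul_add, ih]
    have e : 2 * ((m + 1 : ℕ) : ℝ) * θ = (2 * (m : ℝ) + 1) * θ + θ := by push_cast; ring
    have e' : 2 * (m : ℝ) * θ = (2 * (m : ℝ) + 1) * θ - θ := by ring
    rw [e, e', Real.sin_sub, Real.sin_add]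
    ring

theorem sumZ (θ : ℝ) (m : ℕ) :
    2 * Real.sin θ * ∑ k ∈ Finset.range m, Real.cos ((2 * (k : ℝ) + 2) * θ) =
      Real.sin (2 * (m : ℝ) * θ + θ) - Real.sin θ := by
  induction m with
  | zero => simp
  | succ m ih =>
    rw [Finset.sum_range_succ, mul_add, ih]
    have e : 2 * ((m + 1 : ℕ) : ℝ) * θ + θ = (2 * (m : ℝ) + 2) * θ + θ := by push_cast; ring
    have e' : 2 * (m : ℝ) * θ + θ = (2 * (m : ℝ) + 2) * θ - θ := by ring
    rw [e, e', Real.sin_sub, Real.sin_add]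
    ring

/-- the pair of words of lengths `2k+1`, `2k+2` -/
theorem term_T (α β γ θ : ℝ) (k : ℕ) :
    α * (Real.sin (k * θ) ^ 2 + Real.sin ((k + 1 : ℕ) * θ) ^ 2) +
        4 * β * (Real.sin (k * θ) * Real.sin ((k + 1 : ℕ) * θ)) +
        8 * γ * Real.cos ((k + 1 : ℕ) * θ) ^ 2 =
      α * (1 - Real.cos (2 * (k : ℝ) * θ) / 2 - Real.cos ((2 * (k : ℝ) + 2) * θ) / 2) +
        2 * β * (Real.cos θ - Real.cos ((2 * (k : ℝ) + 1) * θ)) +
        4 * γ * (1 + Real.cos ((2 * (k : ℝ) + 2) * θ)) := by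
  have e1 : ((k + 1 : ℕ) : ℝ) * θ = (k : ℝ) * θ + θ := by push_cast; ring
  have e2 : 2 * (k : ℝ) * θ = 2 * ((k : ℝ) * θ) := by ring
  have e3 : (2 * (k : ℝ) + 2) * θ = 2 * ((k : ℝ) * θ + θ) := by ring
  have e4 : (2 * (k : ℝ) + 1) * θ = (k : ℝ) * θ + ((k : ℝ) * θ + θ) := by ring
  have e5 : Real.cos θ = Real.cos (((k : ℝ) * θ + θ) - (k : ℝ) * θ) := by ring_nf
  rw [e1, e2, e3, e4]
  rw [e5, Real.cos_sub, Real.cos_add ((k : ℝ) * θ) ((k : ℝ) * θ + θ), Real.cos_two_mul,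
    Real.cos_two_mul]
  have p1 := Real.sin_sq_add_cos_sq ((k : ℝ) * θ)
  have p2 := Real.sin_sq_add_cos_sq ((k : ℝ) * θ + θ)
  linear_combination (α) * p1 + (α) * p2

theorem sum_T (α β γ θ : ℝ) (m : ℕ) :
    2 * Real.sin θ * ∑ k ∈ Finset.range m,
      (α * (Real.sin (k * θ) ^ 2 + Real.sin ((k + 1 : ℕ) * θ) ^ 2) +
        4 * β * (Real.sin (k * θ) * Real.sin ((k + 1 : ℕ) * θ)) +
        8 * γ * Real.cos ((k + 1 : ℕ) * θ) ^ 2) =
      2 * Real.sin θ * m * (α + 2 * β * Real.cos θ + 4 * γ) -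
        α / 2 * (Real.sin (2 * (m : ℝ) * θ - θ) + Real.sin (2 * (m : ℝ) * θ + θ)) -
        2 * β * Real.sin (2 * (m : ℝ) * θ) +
        4 * γ * (Real.sin (2 * (m : ℝ) * θ + θ) - Real.sin θ) := by
  rw [Finset.sum_congr rfl (fun k _ => term_T α β γ θ k)]
  have hX := sumX θ m
  have hY := sumY θ m
  have hZ := sumZ θ m
  simp only [Finset.sum_add_distrib, Finset.sum_sub_distrib, ← Finset.mul_sum, Finset.sum_const,
    Finset.card_range, nsmul_eq_mul, ← Finset.sum_div, mul_one]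
  linear_combination (-α / 2) * hX + (-2 * β) * hY + (-α / 2 + 4 * γ) * hZ


/-! ### weights and splitting by parity -/

theorem sum_wt (n : ℕ) (hn : 1 ≤ n) (g : ℕ → ℝ) :
    ∑ k ∈ Finset.range (n + 1), wt n k * g k =
      ∑ k ∈ Finset.range (n + 1), g k - 1 / 2 * g 0 - 1 / 2 * g n := by
  have hwt : ∀ k, wt n k * g k =
      g k - (if k = 0 then 1 / 2 * g k else 0) - (if k = n then 1 / 2 * g k else 0) := by
    intro k
    unfold wt
    by_cases h0 : k = 0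
    · have hkn : k ≠ n := by omega
      simp [h0]
      rw [if_neg (by omega)]
      ring
    · by_cases hk : k = n
      · simp [h0, hk]
        rw [if_neg (by omega)]
        ring
      · simp [h0, hk]
  rw [Finset.sum_congr rfl (fun k _ => hwt k), Finset.sum_sub_distrib, Finset.sum_sub_distrib,
    Finset.sum_ite_eq', Finset.sum_ite_eq', if_pos (Finset.mem_range.mpr (by omega)),
    if_pos (Finset.mem_range.mpr (by omega))]

theorem sum_range_two_mul (g : ℕ → ℝ) (m : ℕ) :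
    ∑ k ∈ Finset.range (2 * m + 1), g k =
      g 0 + ∑ k ∈ Finset.range m, (g (2 * k + 1) + g (2 * (k + 1))) := by
  induction m with
  | zero => simp
  | succ m ih =>
    rw [show 2 * (m + 1) + 1 = (2 * m + 1) + 1 + 1 by ring, Finset.sum_range_succ,
      Finset.sum_range_succ, ih, Finset.sum_range_succ]
    rw [show 2 * m + 1 + 1 = 2 * (m + 1) by ring]
    ring

end Cfsg.Agent.Helper29.FHC2

namespace Cfsg.Agent.Helper16.FH

open Cfsg.Agent.Helper29.FHC2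

/-- (C2) closed form of the Schur sum of `Rm s t x_j` -/
theorem schurSum_Rm (n : ℕ) (hn : 2 ≤ n) (s t : ℝ) (hs : 0 < s) (ht : 0 < t)
    (hodd : Odd n → s = t) (j : ℕ) (hj : 1 ≤ j) (hj2 : 2 * j < n) :
    schurSum n ![s, t] (Rm s t (xj n s t j)) * (2 * (s * t - xj n s t j ^ 2)) =
      n * (s * t + 1 - 2 * xj n s t j) * (s + t + 2 * xj n s t j) := by
  obtain ⟨ρ, hρdef⟩ : ∃ ρ, ρ = Real.sqrt (s * t) := ⟨_, rfl⟩
  obtain ⟨θ, hθdef⟩ : ∃ θ, θ = 2 * Real.pi * j / n := ⟨_, rfl⟩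
  have hρ : ρ ^ 2 = s * t := by rw [hρdef]; exact Real.sq_sqrt (mul_pos hs ht).le
  have hρpos : 0 < ρ := by rw [hρdef]; exact Real.sqrt_pos.mpr (mul_pos hs ht)
  have hx : xj n s t j = ρ * Real.cos θ := by unfold xj; rw [hρdef, hθdef]
  rw [hx]
  have hnpos : (0 : ℝ) < n := by exact_mod_cast (by omega : 0 < n)
  have hjpos : (0 : ℝ) < j := by exact_mod_cast (by omega : 0 < j)
  have hθpos : 0 < θ := by rw [hθdef]; positivity
  have hθlt : θ < Real.pi := by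
    rw [hθdef, div_lt_iff₀ hnpos]
    have h2 : (2 * j : ℝ) < n := by exact_mod_cast hj2
    nlinarith [Real.pi_pos]
  have hsin : Real.sin θ ≠ 0 := (Real.sin_pos_of_pos_of_lt_pi hθpos hθlt).ne'
  have hnθ : (n : ℝ) * θ = j * (2 * Real.pi) := by rw [hθdef]; field_simp
  have hpyth := Real.sin_sq_add_cos_sq θ
  have hγ : s * t - (ρ * Real.cos θ) ^ 2 = s * t * Real.sin θ ^ 2 := by
    linear_combination (-Real.cos θ ^ 2) * hρ + (-(s * t)) * hpyth
  unfold schurSum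
  rw [sum_wt n (by omega)]
  have h0 := g_even s t ρ θ hs ht hρ 0
  simp only [Nat.mul_zero, Nat.cast_zero, zero_mul, Real.cos_zero, one_pow, mul_one] at h0
  rcases Nat.even_or_odd' n with ⟨m, rfl | rfl⟩
  · -- `n = 2 m`
    have h2m : 2 * (m : ℝ) * θ = j * (2 * Real.pi) := by rw [← hnθ]; push_cast; ring
    have hmθ : (m : ℝ) * θ = j * Real.pi := by linear_combination h2m / 2
    have hcos : Real.cos ((m : ℝ) * θ) ^ 2 = 1 := by
      have h1 := Real.sin_sq_add_cos_sq ((m : ℝ) * θ)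
      rw [hmθ, Real.sin_nat_mul_pi] at h1
      rw [hmθ]; linear_combination h1
    have hs1 : Real.sin (2 * (m : ℝ) * θ - θ) = -Real.sin θ := by
      rw [h2m, Real.sin_nat_mul_two_pi_sub]
    have hs2 : Real.sin (2 * (m : ℝ) * θ) = 0 := by
      rw [h2m, show (j : ℝ) * (2 * Real.pi) = ((2 * j : ℕ) : ℝ) * Real.pi by push_cast; ring,
        Real.sin_nat_mul_pi]
    have hs3 : Real.sin (2 * (m : ℝ) * θ + θ) = Real.sin θ := by
      rw [h2m, add_comm, Real.sin_add_nat_mul_two_pi]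
    have hgm := g_even s t ρ θ hs ht hρ m
    rw [hcos] at hgm
    rw [sum_range_two_mul, h0, hgm]
    have hSg : (∑ k ∈ Finset.range m,
        ((∑ i : Fin 2, (alt ![s, t] (2 * k + 1) i)⁻¹ *
            (Matrix.trace (alt (Rm s t (ρ * Real.cos θ)) (2 * k + 1) i)) ^ 2) +
          (∑ i : Fin 2, (alt ![s, t] (2 * (k + 1)) i)⁻¹ *
            (Matrix.trace (alt (Rm s t (ρ * Real.cos θ)) (2 * (k + 1)) i)) ^ 2))) *
        (s * t * Real.sin θ ^ 2) =
      ∑ k ∈ Finset.range m,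
        ((t * (s - 1) ^ 2 + s * (t - 1) ^ 2) *
            (Real.sin (k * θ) ^ 2 + Real.sin ((k + 1 : ℕ) * θ) ^ 2) +
          4 * (ρ * (s - 1) * (t - 1)) * (Real.sin (k * θ) * Real.sin ((k + 1 : ℕ) * θ)) +
          8 * (s * t * Real.sin θ ^ 2) * Real.cos ((k + 1 : ℕ) * θ) ^ 2) := by
      rw [Finset.sum_mul]
      apply Finset.sum_congr rfl
      intro k _
      rw [add_mul, g_odd s t ρ θ hs ht hρ k, g_even s t ρ θ hs ht hρ (k + 1)]
      ring
    have hT := sum_T (t * (s - 1) ^ 2 + s * (t - 1) ^ 2) (ρ * (s - 1) * (t - 1))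
      (s * t * Real.sin θ ^ 2) θ m
    rw [hs1, hs2, hs3] at hT
    generalize (∑ k ∈ Finset.range m,
        ((∑ i : Fin 2, (alt ![s, t] (2 * k + 1) i)⁻¹ *
            (Matrix.trace (alt (Rm s t (ρ * Real.cos θ)) (2 * k + 1) i)) ^ 2) +
          (∑ i : Fin 2, (alt ![s, t] (2 * (k + 1)) i)⁻¹ *
            (Matrix.trace (alt (Rm s t (ρ * Real.cos θ)) (2 * (k + 1)) i)) ^ 2))) = Sg at hSg ⊢
    generalize (∑ k ∈ Finset.range m,
        ((t * (s - 1) ^ 2 + s * (t - 1) ^ 2) *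
            (Real.sin (k * θ) ^ 2 + Real.sin ((k + 1 : ℕ) * θ) ^ 2) +
          4 * (ρ * (s - 1) * (t - 1)) * (Real.sin (k * θ) * Real.sin ((k + 1 : ℕ) * θ)) +
          8 * (s * t * Real.sin θ ^ 2) * Real.cos ((k + 1 : ℕ) * θ) ^ 2)) = ST at hSg hT
    have hST : ST = m * ((t * (s - 1) ^ 2 + s * (t - 1) ^ 2) +
        2 * (ρ * (s - 1) * (t - 1)) * Real.cos θ + 4 * (s * t * Real.sin θ ^ 2)) := by
      have h2 : (2 * Real.sin θ) ≠ 0 := mul_ne_zero two_ne_zero hsin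
      apply mul_left_cancel₀ h2
      linear_combination hT
    push_cast
    linear_combination (2 * Sg) * hγ + 2 * hSg + 2 * hST + (8 * m * Real.cos θ ^ 2) * hρ +
      (8 * m * s * t) * hpyth
  · -- `n = 2 m + 1`
    have hst : s = t := hodd ⟨m, rfl⟩
    subst hst
    have hρs : ρ = s := by
      have h1 : (ρ - s) * (ρ + s) = 0 := by linear_combination hρ
      rcases mul_eq_zero.mp h1 with h | h
      · linarith
      · exfalso; linarith
    subst hρs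
    have h2m : 2 * (m : ℝ) * θ + θ = j * (2 * Real.pi) := by rw [← hnθ]; push_cast; ring
    have hs3 : Real.sin (2 * (m : ℝ) * θ + θ) = 0 := by
      rw [h2m, show (j : ℝ) * (2 * Real.pi) = ((2 * j : ℕ) : ℝ) * Real.pi by push_cast; ring,
        Real.sin_nat_mul_pi]
    have hs2 : Real.sin (2 * (m : ℝ) * θ) = -Real.sin θ := by
      rw [show 2 * (m : ℝ) * θ = j * (2 * Real.pi) - θ by linear_combination h2m,
        Real.sin_nat_mul_two_pi_sub]
    have hs1 : Real.sin (2 * (m : ℝ) * θ - θ) = -(2 * Real.sin θ * Real.cos θ) := by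
      rw [show 2 * (m : ℝ) * θ - θ = j * (2 * Real.pi) - 2 * θ by linear_combination h2m,
        Real.sin_nat_mul_two_pi_sub, Real.sin_two_mul]
    have hσ : Real.sin ((m + 1 : ℕ) * θ) = -Real.sin (m * θ) := by
      rw [show ((m + 1 : ℕ) : ℝ) * θ = j * (2 * Real.pi) - m * θ by
        push_cast; linear_combination h2m, Real.sin_nat_mul_two_pi_sub]
    have hgtop := g_odd ρ ρ ρ θ hs hs hρ m
    rw [hσ] at hgtop
    rw [Finset.sum_range_succ, sum_range_two_mul, h0]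
    have hSg : (∑ k ∈ Finset.range m,
        ((∑ i : Fin 2, (alt ![ρ, ρ] (2 * k + 1) i)⁻¹ *
            (Matrix.trace (alt (Rm ρ ρ (ρ * Real.cos θ)) (2 * k + 1) i)) ^ 2) +
          (∑ i : Fin 2, (alt ![ρ, ρ] (2 * (k + 1)) i)⁻¹ *
            (Matrix.trace (alt (Rm ρ ρ (ρ * Real.cos θ)) (2 * (k + 1)) i)) ^ 2))) *
        (ρ * ρ * Real.sin θ ^ 2) =
      ∑ k ∈ Finset.range m,
        ((ρ * (ρ - 1) ^ 2 + ρ * (ρ - 1) ^ 2) *
            (Real.sin (k * θ) ^ 2 + Real.sin ((k + 1 : ℕ) * θ) ^ 2) +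
          4 * (ρ * (ρ - 1) * (ρ - 1)) * (Real.sin (k * θ) * Real.sin ((k + 1 : ℕ) * θ)) +
          8 * (ρ * ρ * Real.sin θ ^ 2) * Real.cos ((k + 1 : ℕ) * θ) ^ 2) := by
      rw [Finset.sum_mul]
      apply Finset.sum_congr rfl
      intro k _
      rw [add_mul, g_odd ρ ρ ρ θ hs hs hρ k, g_even ρ ρ ρ θ hs hs hρ (k + 1)]
      ring
    have hT := sum_T (ρ * (ρ - 1) ^ 2 + ρ * (ρ - 1) ^ 2) (ρ * (ρ - 1) * (ρ - 1))
      (ρ * ρ * Real.sin θ ^ 2) θ m
    rw [hs1, hs2, hs3] at hT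
    generalize (∑ k ∈ Finset.range m,
        ((∑ i : Fin 2, (alt ![ρ, ρ] (2 * k + 1) i)⁻¹ *
            (Matrix.trace (alt (Rm ρ ρ (ρ * Real.cos θ)) (2 * k + 1) i)) ^ 2) +
          (∑ i : Fin 2, (alt ![ρ, ρ] (2 * (k + 1)) i)⁻¹ *
            (Matrix.trace (alt (Rm ρ ρ (ρ * Real.cos θ)) (2 * (k + 1)) i)) ^ 2))) = Sg at hSg ⊢
    generalize (∑ k ∈ Finset.range m,
        ((ρ * (ρ - 1) ^ 2 + ρ * (ρ - 1) ^ 2) *
            (Real.sin (k * θ) ^ 2 + Real.sin ((k + 1 : ℕ) * θ) ^ 2) +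
          4 * (ρ * (ρ - 1) * (ρ - 1)) * (Real.sin (k * θ) * Real.sin ((k + 1 : ℕ) * θ)) +
          8 * (ρ * ρ * Real.sin θ ^ 2) * Real.cos ((k + 1 : ℕ) * θ) ^ 2)) = ST at hSg hT
    generalize (∑ i : Fin 2, (alt ![ρ, ρ] (2 * m + 1) i)⁻¹ *
            (Matrix.trace (alt (Rm ρ ρ (ρ * Real.cos θ)) (2 * m + 1) i)) ^ 2) = Gtop at hgtop ⊢
    have hST : ST = m * ((ρ * (ρ - 1) ^ 2 + ρ * (ρ - 1) ^ 2) +
        2 * (ρ * (ρ - 1) * (ρ - 1)) * Real.cos θ + 4 * (ρ * ρ * Real.sin θ ^ 2)) +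
        (ρ * (ρ - 1) ^ 2 + ρ * (ρ - 1) ^ 2) * Real.cos θ / 2 + ρ * (ρ - 1) * (ρ - 1) -
        2 * (ρ * ρ * Real.sin θ ^ 2) := by
      have h2 : (2 * Real.sin θ) ≠ 0 := mul_ne_zero two_ne_zero hsin
      apply mul_left_cancel₀ h2
      linear_combination hT
    push_cast
    linear_combination (2 * Sg + Gtop + 8) * hγ + 2 * hSg + 2 * hST + hgtop +
      (4 * (2 * m + 1) * ρ * ρ) * hpyth

end Cfsg.Agent.Helper16.FH
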