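import Mathlib

set_option autoImplicit false
set_option linter.unusedSectionVars false
set_option linter.unusedVariables false
set_option linter.style.haveILetI false

/-! # S3501 tools: existence of derangements (Jordan), normal subgroups of primitive groups. -/

namespace Cfsg.Agent.S3501P

open MulAction

/-- Jordan: a finite group acting transitively on at least two points contains a derangement. -/
theorem DER.exists {G Ω : Type*} [Group G] [Finite G] [Fintype Ω] [MulAction G Ω]
    [IsPretransitive G Ω] (h2 : 2 ≤ Fintype.card Ω) : ∃ g : G, ∀ ω : Ω, g • ω ≠ ω := by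
  classical
  haveI : Fintype G := Fintype.ofFinite G
  by_contra hcon
  push Not at hcon
  -- every element has a fixed point
  have hone : ∀ g : G, 1 ≤ Fintype.card (fixedBy Ω g) := by
    intro g
    obtain ⟨ω, hω⟩ := hcon g
    exact Fintype.card_pos_iff.mpr ⟨⟨ω, hω⟩⟩
  have hid : Fintype.card (fixedBy Ω (1 : G)) = Fintype.card Ω := by
    apply Fintype.card_congr
    exact ⟨fun x => x.1, fun x => ⟨x, by simp⟩, fun x => rfl, fun x => rfl⟩
  have hB := MulAction.sum_card_fixedBy_eq_card_orbits_mul_card_group G Ω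
  have horb : Fintype.card (Quotient (orbitRel G Ω)) = 1 := by
    rw [Fintype.card_eq_one_iff]
    haveI : Nonempty Ω := by
      rw [← Fintype.card_pos_iff]; omega
    obtain ⟨ω₀⟩ := ‹Nonempty Ω›
    refine ⟨Quotient.mk'' ω₀, fun q => ?_⟩
    induction q using Quotient.inductionOn' with
    | h ω =>
      apply Quotient.sound'
      obtain ⟨g, hg⟩ := exists_smul_eq G ω₀ ω
      exact ⟨g, hg⟩
  rw [horb, one_mul] at hB
  have hsum : Fintype.card G + 1 ≤ ∑ g : G, Fintype.card (fixedBy Ω g) := by
    have e1 : ∑ g : G, Fintype.card (fixedBy Ω g) = Fintype.card (fixedBy Ω (1 : G)) +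
        ∑ x ∈ Finset.univ.erase (1 : G), Fintype.card (fixedBy Ω x) :=
      (Finset.add_sum_erase Finset.univ _ (Finset.mem_univ (1 : G))).symm
    have e2 : Fintype.card G = 1 + ∑ x ∈ Finset.univ.erase (1 : G), 1 := by
      rw [Finset.sum_const, smul_eq_mul, mul_one, Finset.card_erase_of_mem (Finset.mem_univ _),
        Finset.card_univ]
      have : 0 < Fintype.card G := Fintype.card_pos
      omega
    have h1 : ∑ x ∈ Finset.univ.erase (1 : G), 1 ≤
        ∑ x ∈ Finset.univ.erase (1 : G), Fintype.card (fixedBy Ω x) :=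
      Finset.sum_le_sum (fun g _ => hone g)
    rw [e1, hid]
    omega
  omega

/-- The same inside a subgroup. -/
theorem DER.exists_mem {G Ω : Type*} [Group G] [Finite G] [Fintype Ω] [MulAction G Ω]
    (M : Subgroup G) [IsPretransitive M Ω] (h2 : 2 ≤ Fintype.card Ω) :
    ∃ g ∈ M, ∀ ω : Ω, g • ω ≠ ω := by
  obtain ⟨g, hg⟩ := DER.exists (G := M) (Ω := Ω) h2
  exact ⟨g, g.2, fun ω => hg ω⟩

/-- A non-trivial normal subgroup of a faithful primitive group is transitive. -/
theorem DER.normal_transitive {G Ω : Type*} [Group G] [MulAction G Ω] [IsPreprimitive G Ω]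
    [FaithfulSMul G Ω] (M : Subgroup G) [M.Normal] (hM : M ≠ ⊥) : IsPretransitive M Ω := by
  apply IsQuasiPreprimitive.isPretransitive_of_normal
  intro huniv
  apply hM
  rw [Subgroup.eq_bot_iff_forall]
  intro m hm
  apply FaithfulSMul.eq_of_smul_eq_smul (α := Ω)
  intro ω
  have : ω ∈ fixedPoints M Ω := by rw [huniv]; exact Set.mem_univ ω
  rw [one_smul]
  exact this ⟨m, hm⟩

end Cfsg.Agent.S3501P
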