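import Mathlib
import Cfsg.Prelude.Def_GeometricClasses
import Cfsg.Agent.Helper29.S5655.Defs
import Cfsg.Agent.Helper28.S5655QR
import Cfsg.Agent.Helper29.S5655BGEO1

/-! S5655 (half k ≥ 2), piece COMP. -/

set_option autoImplicit false

namespace Cfsg.Agent.S5655P

open Matrix Module
open Cfsg.Agent.S2644 Cfsg.Agent.Helper2.SUGen Cfsg.Agent.Helper28.SimMax Cfsg.Agent.S5658P

variable {K : Type*} [Field K] {q n t k : ℕ}

local notation "h" => Cfsg.hermForm n K q
local notation "T" => Cfsg.unitaryTransvection n q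

/-- piece COMP: an isometry of prescribed determinant living on `Y` (quasi-reflection `T d e`,
`d ∈ Y` anisotropic, `e = (δ - 1) / h d d`; `Cfsg.Agent.S5655K1.QR.pres`) -/
theorem COMP.exists [Fintype K] (D : Frob K q) (hK : Fintype.card K = q ^ 2)
    {Y : Submodule K (Fin n → K)} (hY : NonDeg q Y) (hd : 1 ≤ finrank K Y) (δ : K)
    (hδ : δ * D.σ δ = 1) :
    ∃ A : Matrix (Fin n) (Fin n) K, Pres (q := q) A ∧ A.det = δ ∧ (∀ y ∈ Y, A *ᵥ y ∈ Y) ∧
      ∀ z, (∀ y ∈ Y, h z y = 0) → A *ᵥ z = z := by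
  obtain ⟨d, hdY, hdd⟩ := GEO1.exists_aniso D hK hY hd
  set N := h d d with hNdef
  have hNfix : D.σ N = N := h_self_fix D d
  refine ⟨T d ((δ - 1) / N), ?_, ?_, ?_, ?_⟩
  · apply Cfsg.Agent.S5655K1.QR.pres D
    rw [← hNdef, map_div₀, map_sub, map_one, hNfix]
    field_simp
    linear_combination hδ
  · rw [det_T', ← hNdef, div_mul_cancel₀ _ hdd]
    ring
  · intro y hy
    rw [T_mulVec]
    exact Y.add_mem hy (Y.smul_mem _ hdY)
  · intro z hz
    rw [T_mulVec, hz d hdY, mul_zero, zero_smul, add_zero]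

end Cfsg.Agent.S5655P
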