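import Mathlib
import Cfsg.Prelude.Def_GeometricClasses
import Cfsg.Agent.Helper29.S5655.Defs
import Cfsg.Agent.Helper28.S5655QR
import Cfsg.Agent.Helper29.S5655BGEO1
import Cfsg.Agent.Helper29.S5655BCOMP

/-! S5655 (half k ≥ 2), piece TRB. -/

set_option autoImplicit false

namespace Cfsg.Agent.S5655P

open Matrix Module
open Cfsg.Agent.S2644 Cfsg.Agent.Helper2.SUGen Cfsg.Agent.Helper28.SimMax Cfsg.Agent.S5658P

variable {K : Type*} [Field K] {q n t k : ℕ}

local notation "h" => Cfsg.hermForm n K q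
local notation "T" => Cfsg.unitaryTransvection n q

/-- an isometry acting on the block `i` only -/
def TRB.On (q : ℕ) (B : Fin t → Submodule K (Fin n → K)) (i : Fin t)
    (A : Matrix (Fin n) (Fin n) K) : Prop :=
  Pres (q := q) A ∧ (∀ y ∈ B i, A *ᵥ y ∈ B i) ∧ ∀ j, j ≠ i → ∀ y ∈ B j, A *ᵥ y = y

theorem TRB.on_mul {B : Fin t → Submodule K (Fin n → K)} {i : Fin t}
    {A A' : Matrix (Fin n) (Fin n) K} (hA : TRB.On q B i A) (hA' : TRB.On q B i A') :
    TRB.On q B i (A * A') := by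
  refine ⟨hA.1.mul hA'.1, ?_, ?_⟩
  · intro y hy
    rw [← mulVec_mulVec]
    exact hA.2.1 _ (hA'.2.1 y hy)
  · intro j hj y hy
    rw [← mulVec_mulVec, hA'.2.2 j hj y hy, hA.2.2 j hj y hy]

/-- a quasi-reflection along a vector of the block -/
theorem TRB.on_T (D : Frob K q) {B : Fin t → Submodule K (Fin n → K)} (hB : UD q k B) {i : Fin t}
    {w : Fin n → K} (hw : w ∈ B i) {e : K} (hP : Pres (q := q) (T w e)) : TRB.On q B i (T w e) := by
  refine ⟨hP, ?_, ?_⟩
  · intro y hy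
    rw [T_mulVec]
    exact (B i).add_mem hy ((B i).smul_mem _ hw)
  · intro j hj y hy
    rw [T_mulVec, hB.orth j i hj y hy w hw, mul_zero, zero_smul, add_zero]

/-- membership in `H` -/
theorem TRB.mem_HH {B : Fin t → Submodule K (Fin n → K)} {i : Fin t}
    {A : Matrix (Fin n) (Fin n) K} (hA : TRB.On q B i A) (hdet : A.det = 1) : A ∈ HH q B := by
  refine ⟨hA.1, hdet, 1, ?_⟩
  intro j x hx
  by_cases hj : j = i
  · subst hj
    exact hA.2.1 x hx
  · rw [hA.2.2 j hj x hx]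
    exact hx

/-- one step: a quasi-reflection moving `c` to `c'` -/
theorem TRB.step (D : Frob K q) {B : Fin t → Submodule K (Fin n → K)} (hB : UD q k B) {i : Fin t}
    {c c' : Fin n → K} (hc : c ∈ B i) (hc' : c' ∈ B i) (hN : h c c = h c' c')
    (ht : h c c - h c c' ≠ 0) :
    ∃ A : Matrix (Fin n) (Fin n) K, TRB.On q B i A ∧ A *ᵥ c = c' ∧ A.det * D.σ A.det = 1 := by
  obtain ⟨h1, h2, h3⟩ := Cfsg.Agent.S5655K1.QR.move D c c' hN ht
  refine ⟨_, TRB.on_T D hB ((B i).sub_mem hc hc') h1, h2, ?_⟩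
  rw [h3]
  have hσ : D.σ (h c c - h c c') ≠ 0 := σ_ne_zero D ht
  rw [map_div₀, map_neg, D.invol]
  field_simp

/-- the general move, determinant not yet corrected -/
theorem TRB.move (D : Frob K q) {B : Fin t → Submodule K (Fin n → K)} (hB : UD q k B) {i : Fin t}
    {c c' : Fin n → K} (hc : c ∈ B i) (hc' : c' ∈ B i) (hN : h c c = h c' c') (hne : h c c ≠ 0) :
    ∃ A : Matrix (Fin n) (Fin n) K, TRB.On q B i A ∧ A *ᵥ c = c' ∧ A.det * D.σ A.det = 1 := by
  by_cases ht : h c c - h c c' = 0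
  · obtain ⟨ζ, hζ1, hζ⟩ := exists_norm_one_ne D
    have hcc' : h c c' = h c c := (sub_eq_zero.mp ht).symm
    have hζ0 : ζ ≠ 0 := by
      rintro rfl
      rw [zero_mul] at hζ
      exact zero_ne_one hζ
    have hσζ1 : D.σ ζ ≠ 1 := by
      intro h1
      rw [h1, mul_one] at hζ
      exact hζ1 hζ
    -- first step `c ↦ ζ • c'`
    have hN1 : h c c = h (ζ • c') (ζ • c') := by
      rw [h_smul_left, h_smul_right D, ← hN, ← mul_assoc, hζ, one_mul]
    have ht1 : h c c - h c (ζ • c') ≠ 0 := by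
      rw [h_smul_right D, hcc']
      intro h0
      have : h c c * (1 - D.σ ζ) = 0 := by linear_combination h0
      rcases mul_eq_zero.mp this with h1 | h1
      · exact hne h1
      · exact hσζ1 (sub_eq_zero.mp h1).symm
    obtain ⟨A1, hA1, hA1c, hA1d⟩ := TRB.step D hB hc ((B i).smul_mem ζ hc') hN1 ht1
    -- second step `ζ • c' ↦ c'`
    have hN2 : h (ζ • c') (ζ • c') = h c' c' := by rw [← hN1, hN]
    have ht2 : h (ζ • c') (ζ • c') - h (ζ • c') c' ≠ 0 := by
      rw [hN2, h_smul_left]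
      intro h0
      have : h c' c' * (1 - ζ) = 0 := by linear_combination h0
      rcases mul_eq_zero.mp this with h1 | h1
      · exact hne (hN.trans h1)
      · exact hζ1 (sub_eq_zero.mp h1).symm
    obtain ⟨A2, hA2, hA2c, hA2d⟩ := TRB.step D hB ((B i).smul_mem ζ hc') hc' hN2 ht2
    refine ⟨A2 * A1, TRB.on_mul hA2 hA1, ?_, ?_⟩
    · rw [← mulVec_mulVec, hA1c, hA2c]
    · rw [det_mul, map_mul]
      linear_combination A1.det * D.σ A1.det * hA2d + hA1d
  · exact TRB.step D hB hc hc' hN ht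

/-- the part of the block orthogonal to an anisotropic vector -/
def TRB.cut (q : ℕ) (Y : Submodule K (Fin n → K)) (c : Fin n → K) : Submodule K (Fin n → K) :=
  Y ⊓ perpL q (Submodule.span K {c})

theorem TRB.mem_cut (D : Frob K q) {Y : Submodule K (Fin n → K)} {c y : Fin n → K} :
    y ∈ TRB.cut q Y c ↔ y ∈ Y ∧ h y c = 0 := by
  unfold TRB.cut
  rw [Submodule.mem_inf, mem_perpL]
  constructor
  · rintro ⟨h1, h2⟩
    exact ⟨h1, h2 c (Submodule.subset_span rfl)⟩
  · rintro ⟨h1, h2⟩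
    refine ⟨h1, ?_⟩
    intro x hx
    obtain ⟨a, rfl⟩ := Submodule.mem_span_singleton.mp hx
    rw [h_smul_right D, h2, mul_zero]

theorem TRB.proj_mem_cut (D : Frob K q) {Y : Submodule K (Fin n → K)} {c : Fin n → K} (hc : c ∈ Y)
    (hne : h c c ≠ 0) {z : Fin n → K} (hz : z ∈ Y) : z - (h z c / h c c) • c ∈ TRB.cut q Y c := by
  refine (TRB.mem_cut D).2 ⟨Y.sub_mem hz (Y.smul_mem _ hc), ?_⟩
  rw [h_sub_left, h_smul_left, div_mul_cancel₀ _ hne, sub_self]

theorem TRB.cut_nondeg (D : Frob K q) {Y : Submodule K (Fin n → K)} (hY : NonDeg q Y)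
    {c : Fin n → K} (hc : c ∈ Y) (hne : h c c ≠ 0) : NonDeg q (TRB.cut q Y c) := by
  intro y hy hall
  obtain ⟨hyY, hyc⟩ := (TRB.mem_cut D).1 hy
  apply hY y hyY
  intro z hz
  have h1 := hall _ (TRB.proj_mem_cut D hc hne hz)
  rw [h_sub_right D, h_smul_right D, hyc, mul_zero, sub_zero] at h1
  exact h1

theorem TRB.cut_finrank (D : Frob K q) {Y : Submodule K (Fin n → K)} (hd : 2 ≤ finrank K Y)
    {c : Fin n → K} (hc : c ∈ Y) (hne : h c c ≠ 0) : 1 ≤ finrank K (TRB.cut q Y c) := by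
  obtain ⟨z, hz, hzn⟩ := exists_not_smul hd c
  have hz' := TRB.proj_mem_cut D hc hne hz
  have hz0 : z - (h z c / h c c) • c ≠ 0 := fun h0 => hzn _ (sub_eq_zero.mp h0)
  have hpos : 0 < finrank K (TRB.cut q Y c) :=
    Module.finrank_pos_iff_exists_ne_zero.mpr
      ⟨⟨_, hz'⟩, fun h0 => hz0 (congrArg Subtype.val h0)⟩
  omega

/-- piece TRB: `H` moves an anisotropic block vector to any block vector of the same norm, fixing the
other blocks pointwise -/
theorem TRB.aniso [Fintype K] (D : Frob K q) (hK : Fintype.card K = q ^ 2)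
    {B : Fin t → Submodule K (Fin n → K)} (hB : UD q k B) {i : Fin t} {c c' : Fin n → K}
    (hc : c ∈ B i) (hc' : c' ∈ B i) (hN : h c c = h c' c') (hne : h c c ≠ 0) :
    ∃ A ∈ HH q B, A *ᵥ c = c' ∧ ∀ j, j ≠ i → ∀ y ∈ B j, A *ᵥ y = y := by
  obtain ⟨A0, hA0, hA0c, hA0d⟩ := TRB.move D hB hc hc' hN hne
  have hne' : h c' c' ≠ 0 := hN ▸ hne
  have hA0det : A0.det ≠ 0 := by
    intro h0
    rw [h0, zero_mul] at hA0d
    exact zero_ne_one hA0d
  have hδ : A0.det⁻¹ * D.σ A0.det⁻¹ = 1 := by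
    rw [map_inv₀, ← mul_inv, hA0d, inv_one]
  obtain ⟨C, hCP, hCdet, hCY, hCfix⟩ := COMP.exists D hK (TRB.cut_nondeg D (hB.nd i) hc' hne')
    (TRB.cut_finrank D (by rw [hB.finrank_eq i]; exact hB.two_le_k) hc' hne') A0.det⁻¹ hδ
  have hCc' : C *ᵥ c' = c' :=
    hCfix c' (fun y hy => h_symm_zero D ((TRB.mem_cut D).1 hy).2)
  have hCon : TRB.On q B i C := by
    refine ⟨hCP, ?_, ?_⟩
    · intro y hy
      have hy' := TRB.proj_mem_cut D hc' hne' hy
      have hsplit : y = (y - (h y c' / h c' c') • c') + (h y c' / h c' c') • c' := by abel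
      rw [hsplit, mulVec_add, mulVec_smul, hCc']
      exact (B i).add_mem ((TRB.mem_cut D).1 (hCY _ hy')).1 ((B i).smul_mem _ hc')
    · intro j hj y hy
      apply hCfix
      intro y' hy'
      exact hB.orth j i hj y hy y' ((TRB.mem_cut D).1 hy').1
  have hon := TRB.on_mul hCon hA0
  refine ⟨C * A0, TRB.mem_HH hon ?_, ?_, hon.2.2⟩
  · rw [det_mul, hCdet, inv_mul_cancel₀ hA0det]
  · rw [← mulVec_mulVec, hA0c, hCc']

end Cfsg.Agent.S5655P
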