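import Mathlib
import Cfsg.Prelude.Def_GeometricClasses
import Cfsg.Prelude.Def_Classical
import Cfsg.Prelude.Def_LieClassical
import Cfsg.Agent.Helper27.S5989Defs
import Cfsg.Agent.Helper28.WittOmega

/-! S5989 / S5991 piece ORBIT (helper29): orbit–stabilizer for the isometry group acting on the
nondegenerate `m`-spaces isometric to a fixed one (Witt's extension theorem gives transitivity). -/

set_option autoImplicit false
open scoped MatrixGroups

namespace Cfsg.Agent.S5989P

open Cfsg.Agent.Helper2.SympInvol Cfsg.Agent.Helper2.SympUnits Cfsg.Agent.S5961P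
  Cfsg.Agent.S5992P

namespace ORBIT

variable {F : Type*} [Field F] {ι : Type} [Fintype ι] [DecidableEq ι]

/-- the action of the isometry group on subspaces -/
noncomputable def act (Q : QuadraticForm F (ι → F)) :
    MulAction ↥(Cfsg.isometryGroup F ⇑Q) (Submodule F (ι → F)) where
  smul g W := W.map (Matrix.toLin' ((g : GL ι F) : Matrix ι ι F))
  one_smul W := by
    show W.map (Matrix.toLin' (((1 : ↥(Cfsg.isometryGroup F ⇑Q)) : GL ι F) : Matrix ι ι F)) = W
    simp
  mul_smul g h W := by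
    show W.map (Matrix.toLin' (((g * h : ↥(Cfsg.isometryGroup F ⇑Q)) : GL ι F) : Matrix ι ι F)) =
      (W.map (Matrix.toLin' ((h : GL ι F) : Matrix ι ι F))).map
        (Matrix.toLin' ((g : GL ι F) : Matrix ι ι F))
    rw [Subgroup.coe_mul, Units.val_mul, Matrix.toLin'_mul, Submodule.map_comp]

theorem isom_apply (Q : QuadraticForm F (ι → F)) (g : ↥(Cfsg.isometryGroup F ⇑Q)) (v : ι → F) :
    Q (Matrix.toLin' ((g : GL ι F) : Matrix ι ι F) v) = Q v := by
  have := (Cfsg.Agent.Helper28.IsoTransport.mem_isometryGroup_iff (⇑Q) (g : GL ι F)).mp g.2 v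
  rwa [← Matrix.toLin'_apply] at this

theorem toLin_injective (g : GL ι F) :
    Function.Injective (Matrix.toLin' (g : Matrix ι ι F)) := by
  intro u v huv
  have h := congrArg (Matrix.toLin' ((g⁻¹ : GL ι F) : Matrix ι ι F)) huv
  rw [← LinearMap.comp_apply, ← LinearMap.comp_apply, ← Matrix.toLin'_mul, ← Units.val_mul,
    inv_mul_cancel] at h
  simpa using h

theorem polar_isom (Q : QuadraticForm F (ι → F)) (g : ↥(Cfsg.isometryGroup F ⇑Q)) (u v : ι → F) :
    PB Q (Matrix.toLin' ((g : GL ι F) : Matrix ι ι F) u)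
      (Matrix.toLin' ((g : GL ι F) : Matrix ι ι F) v) = PB Q u v := by
  simp only [PB_apply, QuadraticMap.polar, ← map_add, isom_apply]

end ORBIT

open ORBIT in
/-- ORBIT -/
theorem card_omSet_mul_stab {F : Type*} [Field F] [Fintype F] {ι : Type} [Fintype ι]
    [DecidableEq ι] (Q : QuadraticForm F (ι → F))
    (hQ : (QuadraticMap.polarBilin Q).Nondegenerate) (m : ℕ) (W₀ : Submodule F (ι → F))
    (hW₀ : Module.finrank F W₀ = m ∧ Nondeg (PB Q) W₀) :
    Nat.card {W : Submodule F (ι → F) // OmSet Q m W₀ W} * Nat.card ↥(stabW Q W₀) =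
      Nat.card ↥(Cfsg.isometryGroup F ⇑Q) := by
  classical
  letI := ORBIT.act Q
  have hsmul : ∀ (g : ↥(Cfsg.isometryGroup F ⇑Q)) (W : Submodule F (ι → F)),
      g • W = W.map (Matrix.toLin' ((g : GL ι F) : Matrix ι ι F)) := fun _ _ => rfl
  have hstab : MulAction.stabilizer ↥(Cfsg.isometryGroup F ⇑Q) W₀ = stabW Q W₀ := by
    ext g
    rw [MulAction.mem_stabilizer_iff, mem_stabW, hsmul]
  have horb : ∀ W : Submodule F (ι → F),
      W ∈ MulAction.orbit ↥(Cfsg.isometryGroup F ⇑Q) W₀ ↔ OmSet Q m W₀ W := by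
    intro W
    constructor
    · rintro ⟨g, rfl⟩
      show OmSet Q m W₀ (g • W₀)
      rw [hsmul]
      have hinj := toLin_injective (g : GL ι F)
      let e := Submodule.equivMapOfInjective (Matrix.toLin' ((g : GL ι F) : Matrix ι ι F)) hinj W₀
      refine ⟨?_, ?_, ?_⟩
      · rw [← hW₀.1]
        exact (LinearEquiv.finrank_eq e).symm
      · intro w hw hw0
        obtain ⟨w₀, hw₀, rfl⟩ := hw
        have hw₀0 : w₀ ≠ 0 := by
          rintro rfl
          exact hw0 (map_zero _)
        obtain ⟨v₀, hv₀, hne⟩ := hW₀.2 w₀ hw₀ hw₀0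
        refine ⟨_, Submodule.mem_map_of_mem hv₀, ?_⟩
        rw [polar_isom]
        exact hne
      · refine ⟨e.symm, fun w => ?_⟩
        have h1 : ((e (e.symm w) : _) : ι → F) = (w : ι → F) := by
          rw [LinearEquiv.apply_symm_apply]
        rw [← h1, Submodule.coe_equivMapOfInjective_apply, isom_apply]
    · rintro ⟨-, -, e, he⟩
      obtain ⟨g, hgQ, hg⟩ := Cfsg.Agent.Helper28.QWitt.witt_extension Q hQ W₀ W e.symm (fun x => by
        rw [← he (e.symm x), LinearEquiv.apply_symm_apply])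
      obtain ⟨M, hM⟩ := Cfsg.Agent.Helper28.WO.exists_isom Q g hgQ
      refine ⟨M, ?_⟩
      show M • W₀ = W
      rw [hsmul]
      apply le_antisymm
      · rintro _ ⟨x, hx, rfl⟩
        rw [Matrix.toLin'_apply, hM, hg ⟨x, hx⟩]
        exact (e.symm ⟨x, hx⟩).2
      · intro w hw
        refine ⟨(e ⟨w, hw⟩ : ι → F), (e ⟨w, hw⟩).2, ?_⟩
        rw [Matrix.toLin'_apply, hM, hg (e ⟨w, hw⟩), LinearEquiv.symm_apply_apply]
  have e1 : {W : Submodule F (ι → F) // OmSet Q m W₀ W} ≃
      MulAction.orbit ↥(Cfsg.isometryGroup F ⇑Q) W₀ :=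
    Equiv.subtypeEquivRight (fun W => (horb W).symm)
  rw [Nat.card_congr e1,
    Nat.card_congr (MulAction.orbitEquivQuotientStabilizer ↥(Cfsg.isometryGroup F ⇑Q) W₀), hstab]
  exact (Subgroup.card_eq_card_quotient_mul_card_subgroup (stabW Q W₀)).symm

end Cfsg.Agent.S5989P
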