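import Mathlib
import Cfsg.Prelude.Def_GeometricClasses
import Cfsg.Prelude.Def_Classical
import Cfsg.Prelude.Def_LieClassical
import Cfsg.Agent.Helper27.S5989Defs
import Cfsg.Agent.Helper28.Spin6
import Cfsg.Agent.Helper7.S5992ORTHSYM
import Cfsg.Agent.Helper7.S5992STDTRANS
import Cfsg.Agent.Helper8.S5975RESTRICT

/-! S5989 / S5991 piece STABDVD (helper29): the isometry group of the orthogonal complement of a
nondegenerate subspace `W₀` of odd codimension embeds in the stabilizer of `W₀`. -/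

set_option autoImplicit false
open scoped MatrixGroups

namespace Cfsg.Agent.S5989P

open Cfsg.Agent.Helper2.SympInvol Cfsg.Agent.Helper2.SympUnits Cfsg.Agent.S5961P
  Cfsg.Agent.S5992P Cfsg.Agent.Helper28.Spin

namespace STABDVD

open Module

variable {F : Type*} [Field F]

/-- the matrix `diag(1, g)` -/
def blockMat {μ κ : Type} [Fintype μ] [DecidableEq μ] [Fintype κ] [DecidableEq κ]
    (g : Matrix κ κ F) : Matrix (μ ⊕ κ) (μ ⊕ κ) F :=
  Matrix.fromBlocks (1 : Matrix μ μ F) 0 0 g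

theorem blockMat_mul {μ κ : Type} [Fintype μ] [DecidableEq μ] [Fintype κ] [DecidableEq κ]
    (g h : Matrix κ κ F) : blockMat (μ := μ) (g * h) = blockMat g * blockMat h := by
  unfold blockMat
  rw [Matrix.fromBlocks_multiply]
  simp

theorem blockMat_one {μ κ : Type} [Fintype μ] [DecidableEq μ] [Fintype κ] [DecidableEq κ] :
    blockMat (μ := μ) (1 : Matrix κ κ F) = 1 := by
  unfold blockMat
  rw [Matrix.fromBlocks_one]

/-- `g ↦ diag(1, g)` as a monoid homomorphism -/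
def blockHom (μ κ : Type) [Fintype μ] [DecidableEq μ] [Fintype κ] [DecidableEq κ] :
    Matrix κ κ F →* Matrix (μ ⊕ κ) (μ ⊕ κ) F where
  toFun := blockMat
  map_one' := blockMat_one
  map_mul' := blockMat_mul

theorem blockHom_injective (μ κ : Type) [Fintype μ] [DecidableEq μ] [Fintype κ] [DecidableEq κ] :
    Function.Injective (blockHom (F := F) μ κ) := by
  intro g h hgh
  have := congrArg Matrix.toBlocks₂₂ hgh
  simpa [blockHom, blockMat] using this

theorem blockMat_mulVec {μ κ : Type} [Fintype μ] [DecidableEq μ] [Fintype κ] [DecidableEq κ]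
    (g : Matrix κ κ F) (a : μ → F) (b : κ → F) :
    (blockMat (μ := μ) g).mulVec (Sum.elim a b) = Sum.elim a (g.mulVec b) := by
  unfold blockMat
  rw [Matrix.fromBlocks_mulVec]
  simp

end STABDVD

open STABDVD Module in
/-- STABDVD -/
theorem card_odd_dvd_stab {F : Type*} [Field F] [Fintype F] (h2 : (2 : F) ≠ 0) {ι : Type}
    [Fintype ι] [DecidableEq ι] (Q : QuadraticForm F (ι → F))
    (hQ : (QuadraticMap.polarBilin Q).Nondegenerate) (W₀ : Submodule F (ι → F))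
    (hW₀ : Nondeg (PB Q) W₀) (l : ℕ)
    (hl : Module.finrank F W₀ + (2 * l + 1) = Fintype.card ι) :
    Nat.card ↥(Cfsg.isometryGroup F (Cfsg.quadFormOdd l F)) ∣ Nat.card ↥(stabW Q W₀) := by
  classical
  have hndtop : Nondeg (PB Q) ⊤ := nondeg_top_of_nondegenerate Q hQ
  obtain ⟨U, -, hU, hWU, hsup, hdisj, hfin, -⟩ := orth_compl_sym Q ⊤ W₀ le_top hndtop hW₀
  have hcompl : IsCompl W₀ U := ⟨hdisj, codisjoint_iff.mpr hsup⟩
  have hfinU : finrank F U = 2 * l + 1 := by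
    rw [finrank_top, Module.finrank_fintype_fun_eq_card] at hfin
    omega
  -- the restricted form on `U`
  let QU : QuadraticForm F U := Q.comp U.subtype
  have hQU : ∀ u : U, QU u = Q (u : ι → F) := fun u => rfl
  have hndU : Nondeg (PB QU) ⊤ := by
    intro u _ hu0
    have hu0' : (u : ι → F) ≠ 0 := fun h => hu0 (Subtype.ext h)
    obtain ⟨v, hv, hne⟩ := hU (u : ι → F) u.2 hu0'
    refine ⟨⟨v, hv⟩, trivial, ?_⟩
    rw [PB_apply] at hne ⊢
    simpa [QuadraticMap.polar, QU] using hne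
  let e₀ : U ≃ₗ[F] (Fin (2 * l + 1) → F) := (Module.finBasisOfFinrankEq F U hfinU).equivFun
  obtain ⟨c, φ, hc0, hφ⟩ := Cfsg.Agent.S5981P.exists_std_odd h2 (2 * l + 1) l rfl
    (fun x : Fin (2 * l + 1) → F => QU (e₀.symm x)) (STDTRANS.isNondegQF QU hndU e₀)
  let θ : U ≃ₗ[F] (Unit ⊕ (Fin l ⊕ Fin l) → F) := e₀.trans φ
  have hθ : ∀ b : Unit ⊕ (Fin l ⊕ Fin l) → F,
      Q ((θ.symm b : U) : ι → F) = c⁻¹ * Cfsg.quadFormOdd l F b := by
    intro b
    have h1 := hφ (φ.symm b)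
    rw [LinearEquiv.apply_symm_apply] at h1
    rw [h1, ← mul_assoc, inv_mul_cancel₀ hc0, one_mul]
    rfl
  let bW : W₀ ≃ₗ[F] (Fin (finrank F W₀) → F) := (Module.finBasis F W₀).equivFun
  let Φ : (Fin (finrank F W₀) ⊕ (Unit ⊕ (Fin l ⊕ Fin l)) → F) ≃ₗ[F] (ι → F) :=
    (LinearEquiv.sumArrowLequivProdArrow (Fin (finrank F W₀)) (Unit ⊕ (Fin l ⊕ Fin l)) F F).trans
      ((bW.symm.prodCongr θ.symm).trans (Submodule.prodEquivOfIsCompl W₀ U hcompl))
  have hΦ : ∀ (a : Fin (finrank F W₀) → F) (b : Unit ⊕ (Fin l ⊕ Fin l) → F),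
      Φ (Sum.elim a b) = ((bW.symm a : W₀) : ι → F) + ((θ.symm b : U) : ι → F) := by
    intro a b
    rfl
  have hsurj : ∀ v : ι → F, ∃ a b, v = Φ (Sum.elim a b) := by
    intro v
    refine ⟨(Φ.symm v) ∘ Sum.inl, (Φ.symm v) ∘ Sum.inr, ?_⟩
    have : Sum.elim ((Φ.symm v) ∘ Sum.inl) ((Φ.symm v) ∘ Sum.inr) = Φ.symm v := by
      funext s; rcases s with s | s <;> rfl
    rw [this, LinearEquiv.apply_symm_apply]
  have hQΦ : ∀ (a : Fin (finrank F W₀) → F) (b : Unit ⊕ (Fin l ⊕ Fin l) → F),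
      Q (Φ (Sum.elim a b)) = Q ((bW.symm a : W₀) : ι → F) + c⁻¹ * Cfsg.quadFormOdd l F b := by
    intro a b
    rw [hΦ, ← hθ]
    have horth : QuadraticMap.polar (⇑Q) ((bW.symm a : W₀) : ι → F) ((θ.symm b : U) : ι → F) = 0 :=
      hWU _ (bW.symm a).2 _ (θ.symm b).2
    have := horth
    unfold QuadraticMap.polar at this
    linear_combination this
  obtain ⟨ρ, hρinj, hρ⟩ := Cfsg.Agent.S5975P.exists_restrict_hom (F := F) (L := F) Φ
  let ψ : GL (Unit ⊕ (Fin l ⊕ Fin l)) F →* GL ι F :=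
    ρ.comp (Units.map (blockHom (F := F) (Fin (finrank F W₀)) (Unit ⊕ (Fin l ⊕ Fin l))))
  have hψinj : Function.Injective ψ :=
    hρinj.comp (Units.map_injective (blockHom_injective _ _))
  have hψ : ∀ (g : GL (Unit ⊕ (Fin l ⊕ Fin l)) F) (a : Fin (finrank F W₀) → F)
      (b : Unit ⊕ (Fin l ⊕ Fin l) → F),
      ((ψ g : GL ι F) : Matrix ι ι F).mulVec (Φ (Sum.elim a b)) =
        Φ (Sum.elim a ((g : Matrix _ _ F).mulVec b)) := by
    intro g a b
    show ((ρ _ : GL ι F) : Matrix ι ι F).mulVec _ = _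
    rw [hρ, Units.coe_map]
    show Φ ((blockMat (g : Matrix _ _ F)).mulVec (Sum.elim a b)) = _
    rw [blockMat_mulVec]
  -- isometries
  have hiso : ∀ g : GL (Unit ⊕ (Fin l ⊕ Fin l)) F, g ∈ Cfsg.isometryGroup F (Cfsg.quadFormOdd l F) →
      ψ g ∈ Cfsg.isometryGroup F ⇑Q := by
    intro g hg
    rw [Cfsg.Agent.Helper28.IsoTransport.mem_isometryGroup_iff] at hg ⊢
    intro v
    obtain ⟨a, b, rfl⟩ := hsurj v
    rw [hψ, hQΦ, hQΦ, hg]
  have hfix : ∀ (g : GL (Unit ⊕ (Fin l ⊕ Fin l)) F) (w : ι → F), w ∈ W₀ →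
      ((ψ g : GL ι F) : Matrix ι ι F).mulVec w = w := by
    intro g w hw
    have hw' : w = Φ (Sum.elim (bW ⟨w, hw⟩) 0) := by
      rw [hΦ, LinearEquiv.symm_apply_apply, map_zero]
      simp
    rw [hw', hψ, Matrix.mulVec_zero]
  let ψ₁ : ↥(Cfsg.isometryGroup F (Cfsg.quadFormOdd l F)) →* ↥(Cfsg.isometryGroup F ⇑Q) :=
    (ψ.comp (Subgroup.subtype _)).codRestrict (Cfsg.isometryGroup F ⇑Q) (fun g => hiso g g.2)
  have hψ₁ : ∀ g, ((ψ₁ g : ↥(Cfsg.isometryGroup F ⇑Q)) : GL ι F) = ψ g := fun g => rfl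
  let ψ₂ : ↥(Cfsg.isometryGroup F (Cfsg.quadFormOdd l F)) →* ↥(stabW Q W₀) :=
    ψ₁.codRestrict (stabW Q W₀) (fun g => by
      rw [mem_stabW, hψ₁]
      ext x
      constructor
      · rintro ⟨w, hw, rfl⟩
        rw [Matrix.toLin'_apply, hfix g w hw]
        exact hw
      · intro hx
        exact ⟨x, hx, by rw [Matrix.toLin'_apply, hfix g x hx]⟩)
  have hinj₂ : Function.Injective ψ₂ := by
    intro g h hgh
    have h1 : (ψ₁ g : ↥(Cfsg.isometryGroup F ⇑Q)) = ψ₁ h := congrArg Subtype.val hgh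
    have h2 : ψ (g : GL _ F) = ψ (h : GL _ F) := congrArg Subtype.val h1
    exact Subtype.ext (hψinj h2)
  exact Subgroup.card_dvd_of_injective ψ₂ hinj₂

end Cfsg.Agent.S5989P
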