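import Mathlib
import Cfsg.Prelude.Def_GeometricClasses
import Cfsg.Prelude.Def_ClassicalGeometry
import Cfsg.Agent.Helper29.S5977Defs
import Cfsg.Agent.Helper28.Spin4
import Cfsg.Agent.Helper28.OrthSum
import Cfsg.Agent.Helper28.CDGen
import Cfsg.Agent.Helper28.NonMax

set_option autoImplicit false
open scoped MatrixGroups

/-! S5977 / S5978: basic generic lemmas (helper29). -/

namespace Cfsg.Agent.S5977P.BASIC

open Polynomial Module
open Cfsg.Agent.Helper28.Spin Cfsg.Agent.Helper28.IsoTransport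

variable {F : Type*} [Field F] {ι : Type} [Fintype ι] [DecidableEq ι]

theorem coe_inv_mul (g : GL ι F) : ((g⁻¹ : GL ι F) : Matrix ι ι F) * (g : Matrix ι ι F) = 1 := by
  rw [← Units.val_mul, inv_mul_cancel, Units.val_one]

theorem coe_mul_inv (g : GL ι F) : (g : Matrix ι ι F) * ((g⁻¹ : GL ι F) : Matrix ι ι F) = 1 := by
  rw [← Units.val_mul, mul_inv_cancel, Units.val_one]

/-- conjugation by `g` as a linear equivalence intertwines. -/
theorem finrank_ker_aeval_conj (g x : GL ι F) (f : F[X]) :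
    finrank F (LinearMap.ker (aeval (Matrix.toLin'
      ((g⁻¹ * x * g : GL ι F) : Matrix ι ι F)) f)) =
    finrank F (LinearMap.ker (aeval (Matrix.toLin' (x : Matrix ι ι F)) f)) := by
  let e : (ι → F) ≃ₗ[F] (ι → F) := Matrix.toLin'OfInv (coe_inv_mul g) (coe_mul_inv g)
  have he : ∀ v, e v = (g : Matrix ι ι F).mulVec v := fun v => rfl
  -- `e ∘ T' = T ∘ e`
  have hint : ∀ v, e (Matrix.toLin' ((g⁻¹ * x * g : GL ι F) : Matrix ι ι F) v) =
      Matrix.toLin' (x : Matrix ι ι F) (e v) := by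
    intro v
    rw [he, he, Matrix.toLin'_apply, Matrix.toLin'_apply, Matrix.mulVec_mulVec, Matrix.mulVec_mulVec,
      Units.val_mul, Units.val_mul, ← Matrix.mul_assoc, ← Matrix.mul_assoc, coe_mul_inv,
      Matrix.one_mul]
  have hpoly : ∀ (f : F[X]) v, e (aeval (Matrix.toLin'
      ((g⁻¹ * x * g : GL ι F) : Matrix ι ι F)) f v) =
      aeval (Matrix.toLin' (x : Matrix ι ι F)) f (e v) := by
    intro f
    induction f using Polynomial.induction_on with
    | C a =>
      intro v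
      rw [aeval_C, aeval_C, Module.algebraMap_end_apply, Module.algebraMap_end_apply, map_smul]
    | add p q hp hq =>
      intro v
      rw [map_add, map_add, LinearMap.add_apply, LinearMap.add_apply, map_add, hp, hq]
    | monomial n a ih =>
      intro v
      have h1 : ∀ T : Module.End F (ι → F), aeval T (C a * X ^ (n + 1)) =
          aeval T (C a * X ^ n) * T := by
        intro T
        rw [map_mul, map_mul, map_pow, map_pow, aeval_X, pow_succ, mul_assoc]
      rw [h1, h1, Module.End.mul_apply, Module.End.mul_apply, ih, hint]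
  have h : LinearMap.ker (aeval (Matrix.toLin' ((g⁻¹ * x * g : GL ι F) : Matrix ι ι F)) f) =
      (LinearMap.ker (aeval (Matrix.toLin' (x : Matrix ι ι F)) f)).comap e.toLinearMap := by
    ext v
    rw [Submodule.mem_comap, LinearMap.mem_ker, LinearMap.mem_ker]
    show _ ↔ aeval (Matrix.toLin' (x : Matrix ι ι F)) f (e v) = 0
    rw [← hpoly]
    constructor
    · intro hv; rw [hv, map_zero]
    · intro hv; exact e.injective (by rw [hv, map_zero])
  rw [h, Submodule.comap_equiv_eq_map_symm]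
  exact LinearEquiv.finrank_map_eq e.symm _

/-- a matrix with an odd-dimensional polynomial kernel is not scalar (even dimension). -/
theorem not_scalar_of_odd_kernel (hcard : Even (Fintype.card ι)) (x : Matrix ι ι F) (g₁ : F[X])
    (hodd : Odd (finrank F (LinearMap.ker (aeval (Matrix.toLin' x) g₁)))) (z : F) :
    x ≠ z • (1 : Matrix ι ι F) := by
  intro hx
  have h1 : aeval (Matrix.toLin' x) g₁ = (g₁.eval z) • (LinearMap.id : (ι → F) →ₗ[F] _) := by
    have h2 : Matrix.toLin' x = algebraMap F (Module.End F (ι → F)) z := by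
      rw [hx, map_smul, Matrix.toLin'_one, Algebra.algebraMap_eq_smul_one]
      rfl
    rw [h2, aeval_algebraMap_apply_eq_algebraMap_eval, Algebra.algebraMap_eq_smul_one]
    rfl
  rw [h1] at hodd
  by_cases hz : g₁.eval z = 0
  · rw [hz, zero_smul, LinearMap.ker_zero, finrank_top, Module.finrank_fintype_fun_eq_card] at hodd
    exact (Nat.not_odd_iff_even.mpr hcard) hodd
  · have hk : LinearMap.ker ((g₁.eval z) • (LinearMap.id : (ι → F) →ₗ[F] _)) = ⊥ := by
      rw [LinearMap.ker_eq_bot']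
      intro v hv
      rw [LinearMap.smul_apply, LinearMap.id_apply] at hv
      exact (smul_eq_zero.mp hv).resolve_left hz
    rw [hk, finrank_bot] at hodd
    exact (Nat.not_odd_iff_even.mpr ⟨0, rfl⟩) hodd

/-! ### fixed spaces (generic copy of `Helper2.SpDerange`) -/

/-- the fixed space of a matrix -/
def Fix (x : Matrix ι ι F) : Submodule F (ι → F) :=
  LinearMap.eqLocus (Matrix.toLin' x) LinearMap.id

theorem mem_Fix {x : Matrix ι ι F} {v : ι → F} : v ∈ Fix x ↔ x.mulVec v = v := by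
  rw [Fix, LinearMap.mem_eqLocus, Matrix.toLin'_apply, LinearMap.id_apply]

section count

variable [Fintype F]

theorem card_modEq (x : Matrix ι ι F) {r : ℕ} [Fact r.Prime] (hxr : x ^ r = 1)
    (U : Submodule F (ι → F)) (hU : ∀ u ∈ U, x.mulVec u ∈ U) :
    Nat.card U ≡ Nat.card ↥(U ⊓ Fix x) [MOD r] := by
  classical
  haveI : Fintype U := Fintype.ofFinite _
  let f : Function.End U := fun u => ⟨x.mulVec u.1, hU u.1 u.2⟩
  have hpow : ∀ (k : ℕ) (u : U), ((f ^ k) u : ι → F) = (x ^ k).mulVec (u : ι → F) := by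
    intro k
    induction k with
    | zero =>
      intro u
      rw [pow_zero, pow_zero, Matrix.one_mulVec]
      rfl
    | succ k ih =>
      intro u
      rw [pow_succ, pow_succ]
      show ((f ^ k) (f u) : ι → F) = _
      rw [ih (f u)]
      show (x ^ k).mulVec (x.mulVec (u : ι → F)) = _
      rw [Matrix.mulVec_mulVec]
  have hf : f ^ r ^ 1 = 1 := by
    rw [pow_one]
    funext u
    apply Subtype.ext
    rw [hpow, hxr, Matrix.one_mulVec]
    rfl
  have h := Equiv.Perm.card_fixedPoints_modEq (p := r) (n := 1) hf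
  have e : Function.fixedPoints f ≃ ↥(U ⊓ Fix x) :=
    { toFun := fun u => ⟨u.1.1, u.1.2, mem_Fix.mpr (congrArg Subtype.val u.2)⟩
      invFun := fun v => ⟨⟨v.1, v.2.1⟩, Subtype.ext (mem_Fix.mp v.2.2)⟩
      left_inv := fun u => rfl
      right_inv := fun v => rfl }
  rw [← Nat.card_eq_fintype_card, ← Nat.card_eq_fintype_card, Nat.card_congr e] at h
  exact h

theorem dvd_of_invariant {q : ℕ} (hq : Fintype.card F = q) (x : Matrix ι ι F) {r : ℕ}
    [Fact r.Prime] (hrq : ¬ r ∣ q) (hxr : x ^ r = 1) (U : Submodule F (ι → F))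
    (hU : ∀ u ∈ U, x.mulVec u ∈ U) :
    r ∣ q ^ (finrank F U - finrank F ↥(U ⊓ Fix x)) - 1 := by
  have hr : r.Prime := Fact.out
  have hq1 : 1 ≤ q := by rw [← hq]; exact Fintype.card_pos
  have h := card_modEq x hxr U hU
  have c1 : Nat.card U = q ^ finrank F U := by
    rw [Module.natCard_eq_pow_finrank (K := F), Nat.card_eq_fintype_card, hq]
  have c2 : Nat.card ↥(U ⊓ Fix x) = q ^ finrank F ↥(U ⊓ Fix x) := by
    rw [Module.natCard_eq_pow_finrank (K := F), Nat.card_eq_fintype_card, hq]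
  rw [c1, c2] at h
  have hle : finrank F ↥(U ⊓ Fix x) ≤ finrank F U := Submodule.finrank_mono inf_le_left
  obtain ⟨a, ha⟩ : ∃ a, a = finrank F U := ⟨_, rfl⟩
  obtain ⟨b, hb⟩ : ∃ b, b = finrank F ↥(U ⊓ Fix x) := ⟨_, rfl⟩
  rw [← ha, ← hb] at h hle ⊢
  have hpw : q ^ b ≤ q ^ a := Nat.pow_le_pow_right hq1 hle
  have h1 := (Nat.modEq_iff_dvd' hpw).mp h.symm
  have h2 : q ^ a - q ^ b = q ^ b * (q ^ (a - b) - 1) := by
    rw [Nat.mul_sub, mul_one, ← pow_add, Nat.add_sub_cancel' hle]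
  rw [h2] at h1
  rcases (Nat.Prime.dvd_mul hr).mp h1 with h3 | h3
  · exact absurd (hr.dvd_of_dvd_pow h3) hrq
  · exact h3

end count

/-! ### `Ω` -/

variable [Fintype F] (Q : QuadraticForm F (ι → F))

theorem omegaGL_le : Cfsg.Geo.omegaGL ⇑Q ≤ Cfsg.isometryGroup F ⇑Q := by
  intro g hg
  rw [Cfsg.Agent.Helper28.NM.mem_omegaGL_iff] at hg
  obtain ⟨h, -, rfl⟩ := hg
  exact h.2

/-- squares of isometries lie in `Ω`. -/
theorem sq_mem_Omega (h2 : (2 : F) ≠ 0) (hQ : (QuadraticMap.polarBilin Q).Nondegenerate)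
    (g : ↥(Cfsg.isometryGroup F ⇑Q)) : g * g ∈ Cfsg.Omega F ⇑Q := by
  obtain ⟨L, rfl⟩ := Cfsg.Agent.Helper28.CDG.cd_list Q h2 hQ g
  rw [← Cfsg.Agent.Helper28.OrthSum.prodO_append, prodO_mem_Omega_iff Q h2]
  refine ⟨?_, ?_⟩
  · rw [List.length_append]; exact ⟨_, rfl⟩
  · rw [Cfsg.Agent.Helper28.OrthSum.normProd_append]; exact ⟨_, rfl⟩

/-- isometries of odd order lie in `Ω`. -/
theorem mem_omegaGL_of_odd_order (h2 : (2 : F) ≠ 0)
    (hQ : (QuadraticMap.polarBilin Q).Nondegenerate) (x : GL ι F)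
    (hx : x ∈ Cfsg.isometryGroup F ⇑Q) (n : ℕ) (hn : Odd n) (hxn : x ^ n = 1) :
    x ∈ Cfsg.Geo.omegaGL ⇑Q := by
  rw [Cfsg.Agent.Helper28.NM.mem_omegaGL_iff]
  refine ⟨⟨x, hx⟩, ?_, rfl⟩
  obtain ⟨k, hk⟩ := hn
  have hxn' : (⟨x, hx⟩ : ↥(Cfsg.isometryGroup F ⇑Q)) ^ n = 1 := by
    apply Subtype.ext
    rw [Subgroup.coe_pow]
    exact hxn
  have h1 : (⟨x, hx⟩ : ↥(Cfsg.isometryGroup F ⇑Q)) =
      ((⟨x, hx⟩ : ↥(Cfsg.isometryGroup F ⇑Q)) * ⟨x, hx⟩) ^ (k + 1) := by
    rw [← pow_two, ← pow_mul]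
    have : 2 * (k + 1) = n + 1 := by omega
    rw [this, pow_succ, hxn', one_mul]
  rw [h1]
  exact Subgroup.pow_mem _ (sq_mem_Omega Q h2 hQ _) _

/-- a non-trivial isometry of odd order is not scalar. -/
theorem not_scalar_of_odd_order (hne : ∃ v, Q v ≠ 0) (h2 : (2 : F) ≠ 0) (x : GL ι F)
    (hx : x ∈ Cfsg.isometryGroup F ⇑Q) (n : ℕ) (hn : Odd n) (hxn : x ^ n = 1) (hx1 : x ≠ 1)
    (z : F) : (x : Matrix ι ι F) ≠ z • (1 : Matrix ι ι F) := by
  intro hxz
  obtain ⟨v, hv⟩ := hne
  have h1 := (mem_isometryGroup_iff (⇑Q) x).mp hx v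
  rw [hxz, Matrix.smul_mulVec, Matrix.one_mulVec, QuadraticMap.map_smul, smul_eq_mul] at h1
  have hz2 : z * z = 1 := by
    have : (z * z - 1) * Q v = 0 := by linear_combination h1
    rcases mul_eq_zero.mp this with h | h
    · linear_combination h
    · exact absurd h hv
  have hzn : z ^ n = 1 := by
    have h3 : ((x ^ n : GL ι F) : Matrix ι ι F) = (z ^ n) • (1 : Matrix ι ι F) := by
      rw [Units.val_pow_eq_pow_val, hxz, _root_.smul_pow, one_pow]
    rw [hxn, Units.val_one] at h3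
    have h4 := congrFun (congrFun h3 (Classical.choice (by
      by_contra hemp
      rw [not_nonempty_iff] at hemp
      apply hv
      have : v = 0 := Subsingleton.elim _ _
      rw [this, map_zero]))) (Classical.choice (by
      by_contra hemp
      rw [not_nonempty_iff] at hemp
      apply hv
      have : v = 0 := Subsingleton.elim _ _
      rw [this, map_zero]))
    simpa using h4.symm
  obtain ⟨k, hk⟩ := hn
  have hz1 : z = 1 := by
    have : z ^ n = z := by
      rw [hk, pow_succ, pow_mul, pow_two, hz2, one_pow, one_mul]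
    rw [← this, hzn]
  apply hx1
  apply Units.ext
  rw [hxz, hz1, one_smul, Units.val_one]

end Cfsg.Agent.S5977P.BASIC
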