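import Mathlib
import Cfsg.Prelude.Def_GeometricClasses
import Cfsg.Prelude.Def_ClassicalGeometry
import Cfsg.Agent.Helper29.S5977Defs
import Cfsg.Agent.Helper28.OrthSum
import Cfsg.Agent.Helper28.FieldM7
import Cfsg.Agent.Helper7.OrthUni3

set_option autoImplicit false
open scoped MatrixGroups

/-! S5977 / S5978 pieces EMBEDS, EMBELT (helper29). -/

namespace Cfsg.Agent.S5977P

open Polynomial Module
open Cfsg.Agent.Helper7.OrthUni (gram qf)
open Cfsg.Agent.Helper28.OrthSum (Qs)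

namespace EMBEDS

variable {F : Type*} [Field F] {κ κ' : Type} [Fintype κ] [DecidableEq κ] [Fintype κ']
  [DecidableEq κ']

/-- the Gram matrix of an orthogonal sum. -/
theorem gram_Qs (Q₁ : QuadraticForm F (κ → F)) (Q₂ : QuadraticForm F (κ' → F)) :
    gram (Qs Q₁ Q₂) = Matrix.fromBlocks (gram Q₁) 0 0 (gram Q₂) := by
  have hl : ∀ i : κ, (Pi.single (Sum.inl i) (1 : F) : κ ⊕ κ' → F) ∘ Sum.inl = Pi.single i 1 := by
    intro i; funext k; simp [Pi.single_apply]
  have hl' : ∀ i : κ, (Pi.single (Sum.inl i) (1 : F) : κ ⊕ κ' → F) ∘ Sum.inr = 0 := by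
    intro i; funext k; simp [Pi.single_apply]
  have hr : ∀ i : κ', (Pi.single (Sum.inr i) (1 : F) : κ ⊕ κ' → F) ∘ Sum.inr = Pi.single i 1 := by
    intro i; funext k; simp [Pi.single_apply]
  have hr' : ∀ i : κ', (Pi.single (Sum.inr i) (1 : F) : κ ⊕ κ' → F) ∘ Sum.inl = 0 := by
    intro i; funext k; simp [Pi.single_apply]
  ext s t
  rw [Cfsg.Agent.Helper7.OrthUni.gram_apply, Cfsg.Agent.Helper28.OrthSum.polar_Qs]
  rcases s with s | s <;> rcases t with t | t
  · rw [hl, hl, hl', hl', QuadraticMap.polar_zero_left, add_zero, Matrix.fromBlocks_apply₁₁,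
      Cfsg.Agent.Helper7.OrthUni.gram_apply]
  · rw [hl, hl', hr, hr', QuadraticMap.polar_zero_right, QuadraticMap.polar_zero_left, add_zero,
      Matrix.fromBlocks_apply₁₂]
    rfl
  · rw [hl, hl', hr, hr', QuadraticMap.polar_zero_right, QuadraticMap.polar_zero_left, add_zero,
      Matrix.fromBlocks_apply₂₁]
    rfl
  · rw [hr, hr, hr', hr', QuadraticMap.polar_zero_left, zero_add, Matrix.fromBlocks_apply₂₂,
      Cfsg.Agent.Helper7.OrthUni.gram_apply]

/-- conjugation by a linear equivalence does not change the kernels of polynomials. -/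
theorem finrank_ker_aeval_cj {ι : Type} [Fintype ι] [DecidableEq ι] (T : (κ → F) ≃ₗ[F] (ι → F))
    (M : Matrix κ κ F) (g : F[X]) :
    finrank F (LinearMap.ker (aeval (Matrix.toLin' (Cfsg.Agent.Helper28.FM.cj T M)) g)) =
      finrank F (LinearMap.ker (aeval (Matrix.toLin' M) g)) := by
  have h1 : Matrix.toLin' (Cfsg.Agent.Helper28.FM.cj T M) =
      T.conjAlgEquiv F (Matrix.toLin' M) := by
    rw [Cfsg.Agent.Helper28.FM.cj, Matrix.toLin'_toMatrix', LinearEquiv.conjAlgEquiv_apply]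
  have h1' := Polynomial.aeval_algHom_apply ((T.conjAlgEquiv F : Module.End F (κ → F) ≃ₐ[F]
    Module.End F (ι → F)) : Module.End F (κ → F) →ₐ[F] Module.End F (ι → F)) (Matrix.toLin' M) g
  rw [AlgEquiv.coe_algHom] at h1'
  rw [h1, h1', LinearEquiv.conjAlgEquiv_apply]
  have h2 : LinearMap.ker (T.toLinearMap ∘ₗ aeval (Matrix.toLin' M) g ∘ₗ T.symm.toLinearMap) =
      (LinearMap.ker (aeval (Matrix.toLin' M) g)).map T.toLinearMap := by
    ext v
    rw [LinearMap.mem_ker, Submodule.mem_map]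
    constructor
    · intro hv
      refine ⟨T.symm v, ?_, by simp⟩
      rw [LinearMap.mem_ker]
      have := congrArg T.symm hv
      simpa using this
    · rintro ⟨u, hu, rfl⟩
      rw [LinearMap.mem_ker] at hu
      simp [hu]
  rw [h2]
  exact LinearEquiv.finrank_map_eq T _

/-- polynomials of block diagonal matrices. -/
theorem aeval_fromBlocks (A : Matrix κ κ F) (D : Matrix κ' κ' F) (g : F[X]) :
    aeval (Matrix.fromBlocks A 0 0 D) g = Matrix.fromBlocks (aeval A g) 0 0 (aeval D g) := by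
  induction g using Polynomial.induction_on with
  | C a =>
    rw [aeval_C, aeval_C, aeval_C, Algebra.algebraMap_eq_smul_one, Algebra.algebraMap_eq_smul_one,
      Algebra.algebraMap_eq_smul_one, ← Matrix.fromBlocks_one, Matrix.fromBlocks_smul]
    simp
  | add p q hp hq =>
    rw [map_add, map_add, map_add, hp, hq, Matrix.fromBlocks_add]
    simp
  | monomial n a ih =>
    have h1 : aeval (Matrix.fromBlocks A 0 0 D) (C a * X ^ (n + 1) : F[X]) =
        aeval (Matrix.fromBlocks A 0 0 D) (C a * X ^ n : F[X]) * Matrix.fromBlocks A 0 0 D := by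
      rw [map_mul, map_mul, map_pow, map_pow, aeval_X, pow_succ, mul_assoc]
    have h1a : aeval A (C a * X ^ (n + 1) : F[X]) = aeval A (C a * X ^ n : F[X]) * A := by
      rw [map_mul, map_mul, map_pow, map_pow, aeval_X, pow_succ, mul_assoc]
    have h1d : aeval D (C a * X ^ (n + 1) : F[X]) = aeval D (C a * X ^ n : F[X]) * D := by
      rw [map_mul, map_mul, map_pow, map_pow, aeval_X, pow_succ, mul_assoc]
    rw [h1, h1a, h1d, ih, Matrix.fromBlocks_multiply]
    simp

/-- the kernel of a block diagonal matrix. -/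
theorem finrank_ker_fromBlocks (P : Matrix κ κ F) (R : Matrix κ' κ' F) :
    finrank F (LinearMap.ker (Matrix.toLin' (Matrix.fromBlocks P 0 0 R))) =
      finrank F (LinearMap.ker (Matrix.toLin' P)) + finrank F (LinearMap.ker (Matrix.toLin' R)) := by
  rw [← Module.finrank_prod]
  symm
  apply LinearEquiv.finrank_eq
  have hmem : ∀ uv : ↥(LinearMap.ker (Matrix.toLin' P)) × ↥(LinearMap.ker (Matrix.toLin' R)),
      Sum.elim uv.1.1 uv.2.1 ∈ LinearMap.ker (Matrix.toLin' (Matrix.fromBlocks P 0 0 R)) := by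
    intro uv
    rw [LinearMap.mem_ker, Matrix.toLin'_apply, Matrix.fromBlocks_mulVec]
    have h1 := LinearMap.mem_ker.mp uv.1.2
    have h2 := LinearMap.mem_ker.mp uv.2.2
    rw [Matrix.toLin'_apply] at h1 h2
    funext s
    rcases s with s | s
    · simp [h1]
    · simp [h2]
  let f : (↥(LinearMap.ker (Matrix.toLin' P)) × ↥(LinearMap.ker (Matrix.toLin' R))) →ₗ[F]
      ↥(LinearMap.ker (Matrix.toLin' (Matrix.fromBlocks P 0 0 R))) :=
    { toFun := fun uv => ⟨Sum.elim uv.1.1 uv.2.1, hmem uv⟩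
      map_add' := by
        intro a b
        apply Subtype.ext
        funext s
        rcases s with s | s <;> simp
      map_smul' := by
        intro c a
        apply Subtype.ext
        funext s
        rcases s with s | s <;> simp }
  refine LinearEquiv.ofBijective f ⟨?_, ?_⟩
  · intro a b hab
    have h : (Sum.elim a.1.1 a.2.1 : κ ⊕ κ' → F) = Sum.elim b.1.1 b.2.1 :=
      congrArg Subtype.val hab
    apply Prod.ext
    · apply Subtype.ext
      funext i
      exact congrFun h (Sum.inl i)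
    · apply Subtype.ext
      funext i
      exact congrFun h (Sum.inr i)
  · rintro ⟨v, hv⟩
    rw [LinearMap.mem_ker, Matrix.toLin'_apply, Matrix.fromBlocks_mulVec] at hv
    have hv1 : P.mulVec (v ∘ Sum.inl) = 0 := by
      funext i
      have := congrFun hv (Sum.inl i)
      simpa using this
    have hv2 : R.mulVec (v ∘ Sum.inr) = 0 := by
      funext i
      have := congrFun hv (Sum.inr i)
      simpa using this
    refine ⟨(⟨v ∘ Sum.inl, by rw [LinearMap.mem_ker, Matrix.toLin'_apply]; exact hv1⟩,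
      ⟨v ∘ Sum.inr, by rw [LinearMap.mem_ker, Matrix.toLin'_apply]; exact hv2⟩), ?_⟩
    apply Subtype.ext
    funext s
    rcases s with s | s <;> rfl

theorem aeval_toLin' (M : Matrix κ κ F) (g : F[X]) :
    aeval (Matrix.toLin' M) g = Matrix.toLin' (aeval M g) := by
  have := Polynomial.aeval_algHom_apply ((Matrix.toLinAlgEquiv' (R := F) (n := κ) :
    Matrix κ κ F ≃ₐ[F] Module.End F (κ → F)) : Matrix κ κ F →ₐ[F] Module.End F (κ → F)) M g
  exact this

end EMBEDS

open EMBEDS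

/-- EMBEDS -/
theorem exists_orthsum_equiv {F : Type*} [Field F] [Fintype F] {ι : Type} [Fintype ι]
    [DecidableEq ι] (h2 : (2 : F) ≠ 0) (Q : QuadraticForm F (ι → F))
    (hQ : (QuadraticMap.polarBilin Q).Nondegenerate)
    {κ : Type} [Fintype κ] [DecidableEq κ] (Q₁ : QuadraticForm F (κ → F))
    (hQ₁ : (QuadraticMap.polarBilin Q₁).Nondegenerate)
    (hlt : Fintype.card κ < Fintype.card ι) :
    ∃ (n : ℕ) (Q₂ : QuadraticForm F (Fin n → F)) (φ : (κ ⊕ Fin n → F) ≃ₗ[F] (ι → F)),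
      Fintype.card κ + n = Fintype.card ι ∧ (QuadraticMap.polarBilin Q₂).Nondegenerate ∧
      ∀ v, Q (φ v) = Qs Q₁ Q₂ v := by
  classical
  obtain ⟨n, hn⟩ : ∃ n, n = Fintype.card ι - Fintype.card κ := ⟨_, rfl⟩
  have hn1 : 1 ≤ n := by omega
  have hD₁ : (gram Q₁).det ≠ 0 := (Cfsg.Agent.Helper7.OrthUni.nondeg_iff_det Q₁).mp hQ₁
  have hD : (gram Q).det ≠ 0 := (Cfsg.Agent.Helper7.OrthUni.nondeg_iff_det Q).mp hQ
  obtain ⟨c, hc⟩ : ∃ c : F, c = (gram Q₁).det * (gram Q).det := ⟨_, rfl⟩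
  have hc0 : c ≠ 0 := by rw [hc]; exact mul_ne_zero hD₁ hD
  obtain ⟨B, hB⟩ : ∃ B : Matrix (Fin n) (Fin n) F,
      B = Matrix.diagonal (fun a : Fin n => if a.val = 0 then c else 1) := ⟨_, rfl⟩
  have hBt : B.transpose = B := by rw [hB, Matrix.diagonal_transpose]
  have hBdet : B.det = c := by
    rw [hB, Matrix.det_diagonal]
    have h0 : (⟨0, by omega⟩ : Fin n) ∈ (Finset.univ : Finset (Fin n)) := Finset.mem_univ _
    rw [← Finset.mul_prod_erase _ _ h0, if_pos rfl]
    have : ∏ a ∈ (Finset.univ : Finset (Fin n)).erase ⟨0, by omega⟩,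
        (if a.val = 0 then c else 1) = 1 := by
      apply Finset.prod_eq_one
      intro a ha
      have : a.val ≠ 0 := by
        intro h
        apply (Finset.mem_erase.mp ha).1
        exact Fin.ext h
      rw [if_neg this]
    rw [this, mul_one]
  have hBu : IsUnit B := by
    rw [Matrix.isUnit_iff_isUnit_det, hBdet]
    exact hc0.isUnit
  have hQ₂ : (QuadraticMap.polarBilin (qf B)).Nondegenerate :=
    Cfsg.Agent.Helper7.OrthUni.qf_nondeg h2 hBt hBu
  have hgram : (gram (Qs Q₁ (qf B))).det = (gram Q₁).det * c := by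
    rw [gram_Qs, Matrix.det_fromBlocks_zero₁₂, Cfsg.Agent.Helper7.OrthUni.gram_qf h2 hBt, hBdet]
  obtain ⟨φ, hφ⟩ := Cfsg.Agent.Helper7.OrthUni.exists_isometry_of_disc h2 (Qs Q₁ (qf B)) Q
    (Cfsg.Agent.Helper28.OrthSum.Qs_nondeg Q₁ (qf B) hQ₁ hQ₂) hQ
    (by rw [Fintype.card_sum, Fintype.card_fin]; omega)
    (by rw [hgram, hc]; exact ⟨(gram Q₁).det * (gram Q).det, by ring⟩)
  exact ⟨n, qf B, φ, by omega, hQ₂, hφ⟩

/-- EMBELT -/
theorem exists_embedded_elt {F : Type*} [Field F] [Fintype F] {ι : Type} [Fintype ι]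
    [DecidableEq ι] (h2 : (2 : F) ≠ 0) (Q : QuadraticForm F (ι → F))
    (hQ : (QuadraticMap.polarBilin Q).Nondegenerate)
    {κ : Type} [Fintype κ] [DecidableEq κ] (Q₁ : QuadraticForm F (κ → F))
    (hQ₁ : (QuadraticMap.polarBilin Q₁).Nondegenerate)
    (hc : Fintype.card κ < Fintype.card ι ∨
      (Fintype.card κ = Fintype.card ι ∧ IsSquare ((gram Q₁).det * (gram Q).det)))
    (x₁ : GL κ F) (hx₁ : x₁ ∈ Cfsg.isometryGroup F ⇑Q₁) :
    ∃ x : GL ι F, x ∈ Cfsg.isometryGroup F ⇑Q ∧ (∀ n : ℕ, x₁ ^ n = 1 → x ^ n = 1) ∧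
      ∀ g : F[X],
        (g.eval 1 ≠ 0 → Module.finrank F (LinearMap.ker (aeval (Matrix.toLin'
          (x : Matrix ι ι F)) g)) =
          Module.finrank F (LinearMap.ker (aeval (Matrix.toLin' (x₁ : Matrix κ κ F)) g))) ∧
        (g.eval 1 = 0 → Module.finrank F (LinearMap.ker (aeval (Matrix.toLin'
          (x : Matrix ι ι F)) g)) =
          Module.finrank F (LinearMap.ker (aeval (Matrix.toLin' (x₁ : Matrix κ κ F)) g)) +
            (Fintype.card ι - Fintype.card κ)) := by
  classical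
  rcases hc with hlt | ⟨heq, hsq⟩
  · obtain ⟨n, Q₂, φ, hn, hQ₂, hφ⟩ := exists_orthsum_equiv h2 Q hQ Q₁ hQ₁ hlt
    obtain ⟨y, hy⟩ : ∃ y : ↥(Cfsg.isometryGroup F ⇑(Qs Q₁ Q₂)),
        y = Cfsg.Agent.Helper28.OrthSum.embL Q₁ Q₂ ⟨x₁, hx₁⟩ := ⟨_, rfl⟩
    have hyval : ((y : GL (κ ⊕ Fin n) F) : Matrix (κ ⊕ Fin n) (κ ⊕ Fin n) F) =
        Matrix.fromBlocks (x₁ : Matrix κ κ F) 0 0 1 := by
      rw [hy]; exact Cfsg.Agent.Helper28.OrthSum.embL_val Q₁ Q₂ _
    refine ⟨Cfsg.Agent.Helper28.FM.conjGL φ (y : GL (κ ⊕ Fin n) F),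
      Cfsg.Agent.Helper28.FM.conjGL_mem hφ y.2, ?_, ?_⟩
    · intro m hm
      have h1 : (⟨x₁, hx₁⟩ : ↥(Cfsg.isometryGroup F ⇑Q₁)) ^ m = 1 := by
        apply Subtype.ext
        rw [Subgroup.coe_pow]
        exact hm
      have h3 : y ^ m = 1 := by rw [hy, ← map_pow, h1, map_one]
      rw [← map_pow, ← Subgroup.coe_pow, h3, Subgroup.coe_one, map_one]
    · intro g
      have hk : finrank F (LinearMap.ker (aeval (Matrix.toLin'
          ((Cfsg.Agent.Helper28.FM.conjGL φ (y : GL (κ ⊕ Fin n) F) : GL ι F) : Matrix ι ι F)) g)) =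
          finrank F (LinearMap.ker (aeval (Matrix.toLin' (x₁ : Matrix κ κ F)) g)) +
          finrank F (LinearMap.ker (Matrix.toLin' (aeval (1 : Matrix (Fin n) (Fin n) F) g))) := by
        rw [Cfsg.Agent.Helper28.FM.conjGL_val, finrank_ker_aeval_cj, hyval, aeval_toLin',
          aeval_fromBlocks, finrank_ker_fromBlocks, aeval_toLin']
      have hone : aeval (1 : Matrix (Fin n) (Fin n) F) g = (g.eval 1) • (1 : Matrix (Fin n) (Fin n) F) := by
        have : (1 : Matrix (Fin n) (Fin n) F) = algebraMap F _ 1 := by rw [map_one]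
        rw [this, aeval_algebraMap_apply_eq_algebraMap_eval, Algebra.algebraMap_eq_smul_one, map_one]
      rw [hone] at hk
      constructor
      · intro hg
        rw [hk]
        have : LinearMap.ker (Matrix.toLin' ((g.eval 1) • (1 : Matrix (Fin n) (Fin n) F))) = ⊥ := by
          rw [LinearMap.ker_eq_bot']
          intro v hv
          rw [Matrix.toLin'_apply, Matrix.smul_mulVec, Matrix.one_mulVec] at hv
          exact (smul_eq_zero.mp hv).resolve_left hg
        rw [this, finrank_bot, add_zero]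
      · intro hg
        rw [hk, hg, zero_smul, map_zero, LinearMap.ker_zero, finrank_top,
          Module.finrank_fintype_fun_eq_card, Fintype.card_fin]
        congr 1
        omega
  · obtain ⟨φ, hφ⟩ := Cfsg.Agent.Helper7.OrthUni.exists_isometry_of_disc h2 Q₁ Q hQ₁ hQ heq hsq
    refine ⟨Cfsg.Agent.Helper28.FM.conjGL φ x₁, Cfsg.Agent.Helper28.FM.conjGL_mem hφ hx₁, ?_, ?_⟩
    · intro m hm
      rw [← map_pow, hm, map_one]
    · intro g
      have hk : finrank F (LinearMap.ker (aeval (Matrix.toLin'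
          ((Cfsg.Agent.Helper28.FM.conjGL φ x₁ : GL ι F) : Matrix ι ι F)) g)) =
          finrank F (LinearMap.ker (aeval (Matrix.toLin' (x₁ : Matrix κ κ F)) g)) := by
        rw [Cfsg.Agent.Helper28.FM.conjGL_val, finrank_ker_aeval_cj]
      constructor
      · intro _; exact hk
      · intro _; rw [hk, heq, Nat.sub_self, add_zero]

end Cfsg.Agent.S5977P
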