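import Mathlib
import Cfsg.Prelude.Def_GeometricClasses
import Cfsg.Prelude.Def_Classical
import Cfsg.Prelude.Def_LieClassical
import Cfsg.Agent.Helper27.S5989Defs
import Cfsg.Agent.Helper28.Spin6
import Cfsg.Agent.Helper29.S5977Basic
import Cfsg.Agent.Helper29.S5977EMBEDS

/-! S5989 / S5991 piece LEVIP (helper29): the Levi element `diag(A, A⁻ᵀ)` of `Ω⁺_{2d}(q)`. -/

set_option autoImplicit false
open scoped MatrixGroups

namespace Cfsg.Agent.S5989P

open Cfsg.Agent.Helper2.SympInvol Cfsg.Agent.Helper2.SympUnits Cfsg.Agent.S5961P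
  Cfsg.Agent.S5992P Cfsg.Agent.Helper28.Spin

namespace LEVIP

open Module

variable {F : Type*} [Field F] {d : ℕ}

/-- the matrix `diag(A, A⁻ᵀ)` -/
def leviMat (A : GL (Fin d) F) : Matrix (Fin d ⊕ Fin d) (Fin d ⊕ Fin d) F :=
  Matrix.fromBlocks (A : Matrix (Fin d) (Fin d) F) 0 0 ((A⁻¹ : GL (Fin d) F) : Matrix (Fin d) (Fin d) F).transpose

theorem leviMat_mul (A B : GL (Fin d) F) : leviMat (A * B) = leviMat A * leviMat B := by
  unfold leviMat
  rw [Matrix.fromBlocks_multiply]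
  simp only [Matrix.mul_zero, Matrix.zero_mul, add_zero, zero_add]
  rw [mul_inv_rev, Units.val_mul, Units.val_mul, Matrix.transpose_mul]

theorem leviMat_one : leviMat (1 : GL (Fin d) F) = 1 := by
  unfold leviMat
  rw [inv_one, Units.val_one, Matrix.transpose_one, Matrix.fromBlocks_one]

/-- the Levi element as a group homomorphism -/
def levi : GL (Fin d) F →* GL (Fin d ⊕ Fin d) F where
  toFun A := ⟨leviMat A, leviMat A⁻¹, by rw [← leviMat_mul, mul_inv_cancel, leviMat_one],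
    by rw [← leviMat_mul, inv_mul_cancel, leviMat_one]⟩
  map_one' := Units.ext leviMat_one
  map_mul' A B := Units.ext (leviMat_mul A B)

theorem levi_val (A : GL (Fin d) F) :
    ((levi A : GL (Fin d ⊕ Fin d) F) : Matrix (Fin d ⊕ Fin d) (Fin d ⊕ Fin d) F) = leviMat A := rfl

theorem levi_isom (A : GL (Fin d) F) (v : Fin d ⊕ Fin d → F) :
    Cfsg.quadFormPlus d F ((leviMat A).mulVec v) = Cfsg.quadFormPlus d F v := by
  unfold Cfsg.quadFormPlus leviMat
  have hv : v = Sum.elim (v ∘ Sum.inl) (v ∘ Sum.inr) := by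
    funext s; rcases s with s | s <;> rfl
  rw [hv, Matrix.fromBlocks_mulVec]
  simp only [Matrix.zero_mulVec, add_zero, zero_add, Sum.elim_inl, Sum.elim_inr]
  have h1 : ∀ u w : Fin d → F, ∑ i, u i * w i = u ⬝ᵥ w := fun u w => rfl
  rw [h1, h1, Matrix.dotProduct_mulVec, Matrix.vecMul_transpose, Matrix.mulVec_mulVec,
    ← Units.val_mul, inv_mul_cancel, Units.val_one, Matrix.one_mulVec]
  rfl

theorem sub_one_pow (M : Matrix (Fin d) (Fin d) F) (j : ℕ) :
    (Matrix.toLin' M - 1) ^ j = Matrix.toLin' ((M - 1) ^ j) := by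
  induction j with
  | zero => rw [pow_zero, pow_zero, Matrix.toLin'_one]; rfl
  | succ j ih =>
    rw [pow_succ, pow_succ, ih, Matrix.toLin'_mul, map_sub, Matrix.toLin'_one]
    rfl

theorem sub_one_pow' {κ : Type} [Fintype κ] [DecidableEq κ] (M : Matrix κ κ F) (j : ℕ) :
    (Matrix.toLin' M - 1) ^ j = Matrix.toLin' ((M - 1) ^ j) := by
  induction j with
  | zero => rw [pow_zero, pow_zero, Matrix.toLin'_one]; rfl
  | succ j ih =>
    rw [pow_succ, pow_succ, ih, Matrix.toLin'_mul, map_sub, Matrix.toLin'_one]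
    rfl

theorem fromBlocks_pow {κ κ' : Type} [Fintype κ] [DecidableEq κ] [Fintype κ'] [DecidableEq κ']
    (P : Matrix κ κ F) (R : Matrix κ' κ' F) (j : ℕ) :
    (Matrix.fromBlocks P 0 0 R) ^ j = Matrix.fromBlocks (P ^ j) 0 0 (R ^ j) := by
  induction j with
  | zero => rw [pow_zero, pow_zero, pow_zero, Matrix.fromBlocks_one]
  | succ j ih =>
    rw [pow_succ, pow_succ, pow_succ, ih, Matrix.fromBlocks_multiply]
    simp

theorem finrank_ker_eq (M : Matrix (Fin d) (Fin d) F) :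
    finrank F (LinearMap.ker (Matrix.toLin' M)) + M.rank = d := by
  have h := LinearMap.finrank_range_add_finrank_ker (Matrix.toLin' M)
  rw [Module.finrank_fintype_fun_eq_card, Fintype.card_fin] at h
  rw [Matrix.rank, ← Matrix.toLin'_apply']
  omega

theorem rank_inv_sub_one_pow (A : GL (Fin d) F) (j : ℕ) :
    ((((A⁻¹ : GL (Fin d) F) : Matrix (Fin d) (Fin d) F).transpose - 1) ^ j).rank =
      (((A : Matrix (Fin d) (Fin d) F) - 1) ^ j).rank := by
  have h1 : ((A⁻¹ : GL (Fin d) F) : Matrix (Fin d) (Fin d) F).transpose - 1 =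
      (((A⁻¹ : GL (Fin d) F) : Matrix (Fin d) (Fin d) F) - 1).transpose := by
    rw [Matrix.transpose_sub, Matrix.transpose_one]
  rw [h1, ← Matrix.transpose_pow, Matrix.rank_transpose]
  have h2 : ((A⁻¹ : GL (Fin d) F) : Matrix (Fin d) (Fin d) F) - 1 =
      (-((A⁻¹ : GL (Fin d) F) : Matrix (Fin d) (Fin d) F)) * ((A : Matrix (Fin d) (Fin d) F) - 1) := by
    rw [mul_sub, neg_mul, ← Units.val_mul, inv_mul_cancel, Units.val_one, mul_one]
    abel
  have hc : Commute (-((A⁻¹ : GL (Fin d) F) : Matrix (Fin d) (Fin d) F))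
      ((A : Matrix (Fin d) (Fin d) F) - 1) := by
    apply Commute.neg_left
    apply Commute.sub_right _ (Commute.one_right _)
    show ((A⁻¹ : GL (Fin d) F) : Matrix (Fin d) (Fin d) F) * (A : Matrix (Fin d) (Fin d) F) =
      (A : Matrix (Fin d) (Fin d) F) * ((A⁻¹ : GL (Fin d) F) : Matrix (Fin d) (Fin d) F)
    rw [← Units.val_mul, ← Units.val_mul, inv_mul_cancel, mul_inv_cancel]
  rw [h2, hc.mul_pow]
  apply Matrix.rank_mul_eq_right_of_isUnit_det
  rw [Matrix.det_pow, Matrix.det_neg]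
  apply IsUnit.pow
  apply IsUnit.mul
  · exact (isUnit_one.neg).pow _
  · have := (Matrix.isUnit_iff_isUnit_det _).mp (A⁻¹ : GL (Fin d) F).isUnit
    exact this

end LEVIP

open LEVIP Module in
/-- LEVIP -/
theorem levi_plus {F : Type*} [Field F] [Fintype F] (h2 : (2 : F) ≠ 0) (d : ℕ) (hd : 1 ≤ d)
    (A : GL (Fin d) F) (n : ℕ) (hn : Odd n) (hA : A ^ n = 1) :
    ∃ x : GL (Fin d ⊕ Fin d) F, x ∈ Cfsg.Geo.omegaGL (Cfsg.quadFormPlus d F) ∧ x ^ n = 1 ∧
      ∀ j : ℕ, Module.finrank F (LinearMap.ker ((Matrix.toLin'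
        (x : Matrix (Fin d ⊕ Fin d) (Fin d ⊕ Fin d) F) - 1) ^ j)) =
        2 * Module.finrank F (LinearMap.ker ((Matrix.toLin'
          (A : Matrix (Fin d) (Fin d) F) - 1) ^ j)) := by
  classical
  have hxn : (levi A) ^ n = 1 := by rw [← map_pow, hA, map_one]
  refine ⟨levi A, ?_, hxn, ?_⟩
  · rw [← QfPlus_coe]
    apply Cfsg.Agent.S5977P.BASIC.mem_omegaGL_of_odd_order (QfPlus d F) h2 (QfPlus_nondeg d) (levi A) ?_ n hn hxn
    rw [Cfsg.Agent.Helper28.IsoTransport.mem_isometryGroup_iff]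
    intro u
    rw [QfPlus_coe, levi_val]
    exact levi_isom A u
  · intro j
    rw [sub_one_pow', sub_one_pow, levi_val]
    have h1 : leviMat A - 1 = Matrix.fromBlocks ((A : Matrix (Fin d) (Fin d) F) - 1) 0 0
        (((A⁻¹ : GL (Fin d) F) : Matrix (Fin d) (Fin d) F).transpose - 1) := by
      unfold leviMat
      rw [← Matrix.fromBlocks_one, sub_eq_add_neg, Matrix.fromBlocks_neg, Matrix.fromBlocks_add]
      simp [sub_eq_add_neg]
    rw [h1, fromBlocks_pow, Cfsg.Agent.S5977P.EMBEDS.finrank_ker_fromBlocks]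
    have e1 := finrank_ker_eq (((A : Matrix (Fin d) (Fin d) F) - 1) ^ j)
    have e2 := finrank_ker_eq ((((A⁻¹ : GL (Fin d) F) : Matrix (Fin d) (Fin d) F).transpose - 1) ^ j)
    rw [rank_inv_sub_one_pow] at e2
    omega

end Cfsg.Agent.S5989P
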