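import Mathlib
import Cfsg.Agent.Helper29.S2482CDefs
import Cfsg.Agent.Helper14.GLk.COUNTT
import Cfsg.Agent.Helper19.S2482DIVSHIFT
import Cfsg.Agent.Helper25.S2482SRCARD

/-! S2482 chapter (C), piece WEVCARD (driver helper29; helper16): the weighted number of
self-reciprocal monic polynomials of degree `b`. -/

set_option autoImplicit false

namespace Cfsg.Agent.S2482P

open Polynomial Cfsg.Agent.S2478P Cfsg.Agent.S2481P

universe u

section count

variable {F : Type u} [Field F] [Fintype F]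

namespace WEVCARD

/-- self-reciprocal monic polynomials of degree `b` with optional divisibility conditions -/
abbrev Fib (b : ℕ) (s : Bool × Bool) : Type u :=
  {h : F[X] // h.Monic ∧ h.natDegree = b ∧ h.coeff 0 ≠ 0 ∧ tilde0 h = h ∧
    (s.1 = true → (X - 1 : F[X]) ∣ h) ∧ (s.2 = true → (X + 1 : F[X]) ∣ h)}

theorem finite_Fib (b : ℕ) (s : Bool × Bool) : Finite (Fib (F := F) b s) := by
  have := COUNTT.finite_Mon F b
  exact Finite.of_injective
    (fun f : Fib (F := F) b s => (⟨f.1, f.2.1, f.2.2.1, f.2.2.2.1⟩ : COUNTT.Mon F b))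
    (fun x y h => Subtype.ext (congrArg (fun z : COUNTT.Mon F b => (z : F[X])) h))

/-- the total space as a sigma type over the two signs -/
def sigmaEquiv (b : ℕ) :
    {x : F[X] × Bool × Bool // x.1.Monic ∧ x.1.natDegree = b ∧ x.1.coeff 0 ≠ 0 ∧
        tilde0 x.1 = x.1 ∧ (x.2.1 = true → (X - 1 : F[X]) ∣ x.1) ∧
        (x.2.2 = true → (X + 1 : F[X]) ∣ x.1)} ≃ Σ s : Bool × Bool, Fib (F := F) b s where
  toFun x := ⟨x.1.2, ⟨x.1.1, x.2⟩⟩
  invFun y := ⟨(y.2.1, y.1), y.2.2⟩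
  left_inv _ := rfl
  right_inv _ := rfl

omit [Fintype F] in
theorem natDegree_pos_of_dvd {h d : F[X]} (hm : h.Monic) (hd : d ∣ h) (hdd : 0 < d.natDegree) :
    0 < h.natDegree := by
  have := Polynomial.natDegree_le_of_dvd hd hm.ne_zero
  omega

omit [Fintype F] in
theorem natDegree_X_sub_one : (X - 1 : F[X]).natDegree = 1 := by
  rw [← C_1]
  exact natDegree_X_sub_C 1

omit [Fintype F] in
theorem natDegree_X_add_one : (X + 1 : F[X]).natDegree = 1 := by
  rw [← C_1]
  exact natDegree_X_add_C 1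

omit [Fintype F] in
theorem isCoprime_sub_add (h2 : (2 : F) ≠ 0) : IsCoprime (X - 1 : F[X]) (X + 1) := by
  have e1 : (X - 1 : F[X]) = X - C 1 := by rw [C_1]
  have e2 : (X + 1 : F[X]) = X - C (-1) := by rw [C_neg, C_1, sub_neg_eq_add]
  rw [e1, e2]
  apply Polynomial.isCoprime_X_sub_C_of_isUnit_sub
  have h3 : (1 : F) - (-1) = 2 := by norm_num
  rw [h3]
  exact IsUnit.mk0 _ h2

theorem card_ff (hodd : Odd (Fintype.card F)) (b : ℕ) :
    Nat.card (Fib (F := F) b (false, false)) = SR (Fintype.card F) b := by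
  rw [← SRCARD.card_SR hodd b]
  refine Nat.card_congr (Equiv.subtypeEquivRight fun h => ?_)
  constructor
  · intro hh
    exact ⟨hh.1, hh.2.1, hh.2.2.1, hh.2.2.2.1⟩
  · intro hh
    exact ⟨hh.1, hh.2.1, hh.2.2.1, hh.2.2.2, fun h => by simp at h, fun h => by simp at h⟩

theorem card_tf (hodd : Odd (Fintype.card F)) (b : ℕ) :
    Nat.card (Fib (F := F) b (true, false)) =
      if 1 ≤ b then SR (Fintype.card F) (b - 1) else 0 := by
  split_ifs with hb
  · obtain ⟨b', rfl⟩ : ∃ b', b = b' + 1 := ⟨b - 1, by omega⟩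
    rw [Nat.add_sub_cancel, ← SRCARD.card_SR hodd b',
      ← DIVSHIFT.card_dvd_shift (1 : F) (by rw [mul_one]) b']
    refine Nat.card_congr (Equiv.subtypeEquivRight fun h => ?_)
    rw [C_1]
    constructor
    · intro hh
      exact ⟨hh.1, hh.2.1, hh.2.2.1, hh.2.2.2.1, hh.2.2.2.2.1 rfl⟩
    · intro hh
      exact ⟨hh.1, hh.2.1, hh.2.2.1, hh.2.2.2.1, fun _ => hh.2.2.2.2, fun h => by simp at h⟩
  · have hb0 : b = 0 := by omega
    subst hb0
    rw [Nat.card_eq_zero]
    left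
    constructor
    rintro ⟨h, hm, hdeg, -, -, h1, -⟩
    have := natDegree_pos_of_dvd hm (h1 rfl) (by rw [natDegree_X_sub_one]; exact Nat.one_pos)
    omega

theorem card_ft (hodd : Odd (Fintype.card F)) (b : ℕ) :
    Nat.card (Fib (F := F) b (false, true)) =
      if 1 ≤ b then SR (Fintype.card F) (b - 1) else 0 := by
  split_ifs with hb
  · obtain ⟨b', rfl⟩ : ∃ b', b = b' + 1 := ⟨b - 1, by omega⟩
    rw [Nat.add_sub_cancel, ← SRCARD.card_SR hodd b',
      ← DIVSHIFT.card_dvd_shift (-1 : F) (by ring) b']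
    refine Nat.card_congr (Equiv.subtypeEquivRight fun h => ?_)
    rw [C_neg, C_1, sub_neg_eq_add]
    constructor
    · intro hh
      exact ⟨hh.1, hh.2.1, hh.2.2.1, hh.2.2.2.1, hh.2.2.2.2.2 rfl⟩
    · intro hh
      exact ⟨hh.1, hh.2.1, hh.2.2.1, hh.2.2.2.1, fun h => by simp at h, fun _ => hh.2.2.2.2⟩
  · have hb0 : b = 0 := by omega
    subst hb0
    rw [Nat.card_eq_zero]
    left
    constructor
    rintro ⟨h, hm, hdeg, -, -, -, h1⟩
    have := natDegree_pos_of_dvd hm (h1 rfl) (by rw [natDegree_X_add_one]; exact Nat.one_pos)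
    omega

theorem card_tt (hodd : Odd (Fintype.card F)) (b : ℕ) :
    Nat.card (Fib (F := F) b (true, true)) =
      if 2 ≤ b then SR (Fintype.card F) (b - 2) else 0 := by
  split_ifs with hb
  · obtain ⟨b', rfl⟩ : ∃ b', b = b' + 2 := ⟨b - 2, by omega⟩
    rw [Nat.add_sub_cancel, ← SRCARD.card_SR hodd b', ← DIVSHIFT.card_dvd_shift2 hodd b']
    refine Nat.card_congr (Equiv.subtypeEquivRight fun h => ?_)
    constructor
    · intro hh
      exact ⟨hh.1, hh.2.1, hh.2.2.1, hh.2.2.2.1, hh.2.2.2.2.1 rfl, hh.2.2.2.2.2 rfl⟩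
    · intro hh
      exact ⟨hh.1, hh.2.1, hh.2.2.1, hh.2.2.2.1, fun _ => hh.2.2.2.2.1, fun _ => hh.2.2.2.2.2⟩
  · rw [Nat.card_eq_zero]
    left
    constructor
    rintro ⟨h, hm, hdeg, -, -, h1, h2⟩
    have h2F : (2 : F) ≠ 0 := DIVSHIFT.two_ne_zero_of_odd hodd
    have hdvd : (X - 1 : F[X]) * (X + 1) ∣ h := (isCoprime_sub_add h2F).mul_dvd (h1 rfl) (h2 rfl)
    have hle := Polynomial.natDegree_le_of_dvd hdvd hm.ne_zero
    have hmon1 : (X - 1 : F[X]).Monic := by
      rw [← C_1]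
      exact monic_X_sub_C 1
    have hmon2 : (X + 1 : F[X]).Monic := by
      rw [← C_1]
      exact monic_X_add_C 1
    rw [hmon1.natDegree_mul hmon2, natDegree_X_sub_one, natDegree_X_add_one] at hle
    omega

end WEVCARD

open WEVCARD in
theorem WEVCARD.card_wev (hodd : Odd (Fintype.card F)) (b : ℕ) :
    Nat.card {x : F[X] × Bool × Bool // x.1.Monic ∧ x.1.natDegree = b ∧ x.1.coeff 0 ≠ 0 ∧
        tilde0 x.1 = x.1 ∧ (x.2.1 = true → (X - 1 : F[X]) ∣ x.1) ∧
        (x.2.2 = true → (X + 1 : F[X]) ∣ x.1)} = Wev (Fintype.card F) b := by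
  have : ∀ s : Bool × Bool, Finite (Fib (F := F) b s) := fun s => finite_Fib b s
  rw [Nat.card_congr (sigmaEquiv b), Nat.card_sigma, Fintype.sum_prod_type, Fintype.sum_bool,
    Fintype.sum_bool, Fintype.sum_bool, card_ff hodd, card_tf hodd, card_ft hodd, card_tt hodd]
  unfold Wev
  split_ifs <;> omega

end count

end Cfsg.Agent.S2482P
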