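import Mathlib
import Cfsg.Agent.Helper29.S2482CDefs
import Cfsg.Agent.Helper14.GLk.COUNTT
import Cfsg.Agent.Helper29.S2482WEVCARD
import Cfsg.Agent.Helper25.S2482SRCARD

/-! S2482 chapter (C), piece COUNTSSP (driver helper29; helper16): the number of admissible type
tuples with signs is `ASp q r n`. -/

set_option autoImplicit false

namespace Cfsg.Agent.S2482P

open Polynomial Cfsg.Agent.S2478P Cfsg.Agent.S2481P

universe u

namespace COUNTSSP

section defs

variable {F : Type u} [Field F]

/-- the local condition on the entry `h` with signs `s` at the index `m` -/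
def Good (m : ℕ) (h : F[X]) (s : Bool × Bool) : Prop :=
  tilde0 h = h ∧ (Odd m → h.coeff 0 = 1 ∧ Even h.natDegree) ∧
    (s.1 = true → Even m ∧ (X - 1 : F[X]) ∣ h) ∧ (s.2 = true → Even m ∧ (X + 1 : F[X]) ∣ h)

/-- the tuples with signs of total weight `N` (so that `SSp F r n = SS F r (2 * n)`) -/
def SS (F : Type u) [Field F] (r N : ℕ) : Set ((ℕ → F[X]) × (ℕ → Bool × Bool)) :=
  {x | x.1 ∈ T F r N ∧ ∀ m, Good m (x.1 m) (x.2 m)}

theorem SSp_eq (r n : ℕ) : SSp F r n = SS F r (2 * n) := by
  ext x
  constructor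
  · rintro ⟨⟨hT, ht, ho⟩, hs⟩
    exact ⟨hT, fun m => ⟨ht m, ho m, (hs m).1, (hs m).2⟩⟩
  · rintro ⟨hT, hg⟩
    exact ⟨⟨hT, fun m => (hg m).1, fun m => (hg m).2.1⟩, fun m => ⟨(hg m).2.2.1, (hg m).2.2.2⟩⟩

theorem tilde0_one : tilde0 (1 : F[X]) = 1 := by
  have h : (1 : F[X]).reverse = 1 := by
    rw [← Polynomial.C_1, Polynomial.reverse_C]
  simp [tilde, h]

theorem not_X_sub_one_dvd_one : ¬ (X - 1 : F[X]) ∣ 1 := by
  intro h
  have h1 : (X - C (1 : F)) ∣ (1 : F[X]) := by rwa [C_1]
  rw [Polynomial.dvd_iff_isRoot] at h1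
  simp at h1

theorem not_X_add_one_dvd_one : ¬ (X + 1 : F[X]) ∣ 1 := by
  intro h
  have h1 : (X - C (-1 : F)) ∣ (1 : F[X]) := by rwa [C_neg, C_1, sub_neg_eq_add]
  rw [Polynomial.dvd_iff_isRoot] at h1
  simp at h1

theorem good_one (m : ℕ) (s : Bool × Bool) : Good m (1 : F[X]) s ↔ s = (false, false) := by
  constructor
  · rintro ⟨-, -, h1, h2⟩
    apply Prod.ext
    · by_contra h
      exact not_X_sub_one_dvd_one (h1 (by simpa using h)).2
    · by_contra h
      exact not_X_add_one_dvd_one (h2 (by simpa using h)).2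
  · rintro rfl
    refine ⟨tilde0_one, fun _ => ⟨by simp, by simp⟩, fun h => by simp at h, fun h => by simp at h⟩

theorem SS_zero (N : ℕ) :
    SS F 0 N = if N = 0 then {(fun _ => 1, fun _ => (false, false))} else ∅ := by
  ext x
  constructor
  · rintro ⟨hT, hg⟩
    rw [COUNTT.T_zero] at hT
    split_ifs at hT ⊢ with hN
    · have h1 : x.1 = fun _ => 1 := hT
      have h2 : x.2 = fun _ => (false, false) := by
        funext m
        have := hg m
        rw [h1] at this
        exact (good_one m _).1 this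
      show x = _
      exact Prod.ext h1 h2
    · exact absurd hT (Set.notMem_empty _)
  · intro hx
    split_ifs at hx with hN
    · have hx' : x = (fun _ => 1, fun _ => (false, false)) := hx
      subst hx'
      refine ⟨?_, fun m => (good_one m _).2 rfl⟩
      rw [COUNTT.T_zero, if_pos hN]
      rfl
    · exact absurd hx (Set.notMem_empty _)

theorem deg_lt {r N : ℕ} {x : (ℕ → F[X]) × (ℕ → Bool × Bool)} (hx : x ∈ SS F (r + 1) N) :
    (x.1 (r + 1)).natDegree < N / (r + 1) + 1 := COUNTT.deg_lt hx.1

theorem lower_mem {r N : ℕ} {x : (ℕ → F[X]) × (ℕ → Bool × Bool)} (hx : x ∈ SS F (r + 1) N) :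
    (Function.update x.1 (r + 1) 1, Function.update x.2 (r + 1) (false, false)) ∈
      SS F r (N - (r + 1) * (x.1 (r + 1)).natDegree) := by
  refine ⟨COUNTT.lower_mem hx.1, fun m => ?_⟩
  by_cases hm : m = r + 1
  · subst hm
    show Good (r + 1) (Function.update x.1 (r + 1) 1 (r + 1))
      (Function.update x.2 (r + 1) (false, false) (r + 1))
    rw [Function.update_self, Function.update_self]
    exact (good_one _ _).2 rfl
  · show Good m (Function.update x.1 (r + 1) 1 m) (Function.update x.2 (r + 1) (false, false) m)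
    rw [Function.update_of_ne hm, Function.update_of_ne hm]
    exact hx.2 m

theorem upper_mem {r N d : ℕ} (hd : (r + 1) * d ≤ N) {y : (ℕ → F[X]) × (ℕ → Bool × Bool)}
    (hy : y ∈ SS F r (N - (r + 1) * d)) {f : F[X]} {s : Bool × Bool}
    (hf : f.Monic ∧ f.natDegree = d ∧ f.coeff 0 ≠ 0) (hg : Good (r + 1) f s) :
    (Function.update y.1 (r + 1) f, Function.update y.2 (r + 1) s) ∈ SS F (r + 1) N := by
  refine ⟨COUNTT.upper_mem hd hy.1 hf, fun m => ?_⟩
  by_cases hm : m = r + 1
  · subst hm
    show Good (r + 1) (Function.update y.1 (r + 1) f (r + 1)) (Function.update y.2 (r + 1) s (r + 1))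
    rw [Function.update_self, Function.update_self]
    exact hg
  · show Good m (Function.update y.1 (r + 1) f m) (Function.update y.2 (r + 1) s m)
    rw [Function.update_of_ne hm, Function.update_of_ne hm]
    exact hy.2 m

/-- the entries of degree `d` at the index `m`, with their signs -/
abbrev Entry (F : Type u) [Field F] (m d : ℕ) : Type u :=
  {e : F[X] × (Bool × Bool) // (e.1.Monic ∧ e.1.natDegree = d ∧ e.1.coeff 0 ≠ 0) ∧ Good m e.1 e.2}

/-- the fibre equivalence -/
noncomputable def fibre (F : Type u) [Field F] (r N d : ℕ) (hd : (r + 1) * d ≤ N) :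
    {x : SS F (r + 1) N // ((x : (ℕ → F[X]) × (ℕ → Bool × Bool)).1 (r + 1)).natDegree = d} ≃
      Entry F (r + 1) d × SS F r (N - (r + 1) * d) where
  toFun x := (⟨((x.1 : (ℕ → F[X]) × (ℕ → Bool × Bool)).1 (r + 1),
        (x.1 : (ℕ → F[X]) × (ℕ → Bool × Bool)).2 (r + 1)),
      ⟨(x.1.2.1.1 (r + 1)).1, x.2, (x.1.2.1.1 (r + 1)).2⟩, x.1.2.2 (r + 1)⟩,
    ⟨(Function.update (x.1 : (ℕ → F[X]) × (ℕ → Bool × Bool)).1 (r + 1) 1,
        Function.update (x.1 : (ℕ → F[X]) × (ℕ → Bool × Bool)).2 (r + 1) (false, false)), by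
      have := lower_mem x.1.2
      rw [x.2] at this
      exact this⟩)
  invFun p := ⟨⟨(Function.update (p.2 : (ℕ → F[X]) × (ℕ → Bool × Bool)).1 (r + 1) p.1.1.1,
        Function.update (p.2 : (ℕ → F[X]) × (ℕ → Bool × Bool)).2 (r + 1) p.1.1.2),
      upper_mem hd p.2.2 p.1.2.1 p.1.2.2⟩, by
    show (Function.update (p.2 : (ℕ → F[X]) × (ℕ → Bool × Bool)).1 (r + 1) p.1.1.1
      (r + 1)).natDegree = d
    rw [Function.update_self]
    exact p.1.2.1.2.1⟩
  left_inv x := by
    apply Subtype.ext
    apply Subtype.ext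
    apply Prod.ext
    · show Function.update (Function.update (x.1 : (ℕ → F[X]) × (ℕ → Bool × Bool)).1 (r + 1) 1)
        (r + 1) ((x.1 : (ℕ → F[X]) × (ℕ → Bool × Bool)).1 (r + 1)) = x.1.1.1
      rw [Function.update_idem, Function.update_eq_self]
    · show Function.update (Function.update (x.1 : (ℕ → F[X]) × (ℕ → Bool × Bool)).2 (r + 1)
        (false, false)) (r + 1) ((x.1 : (ℕ → F[X]) × (ℕ → Bool × Bool)).2 (r + 1)) = x.1.1.2
      rw [Function.update_idem, Function.update_eq_self]
  right_inv p := by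
    obtain ⟨e, y⟩ := p
    have h1 : (y : (ℕ → F[X]) × (ℕ → Bool × Bool)).1 (r + 1) = 1 := y.2.1.2.1 (r + 1) (by omega)
    have h2 : (y : (ℕ → F[X]) × (ℕ → Bool × Bool)).2 (r + 1) = (false, false) := by
      have := y.2.2 (r + 1)
      rw [h1] at this
      exact (good_one _ _).1 this
    apply Prod.ext
    · apply Subtype.ext
      apply Prod.ext
      · show Function.update (y : (ℕ → F[X]) × (ℕ → Bool × Bool)).1 (r + 1) e.1.1 (r + 1) = e.1.1
        rw [Function.update_self]
      · show Function.update (y : (ℕ → F[X]) × (ℕ → Bool × Bool)).2 (r + 1) e.1.2 (r + 1) = e.1.2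
        rw [Function.update_self]
    · apply Subtype.ext
      apply Prod.ext
      · show Function.update (Function.update (y : (ℕ → F[X]) × (ℕ → Bool × Bool)).1 (r + 1) e.1.1)
          (r + 1) 1 = y.1.1
        rw [Function.update_idem, ← h1, Function.update_eq_self]
      · show Function.update (Function.update (y : (ℕ → F[X]) × (ℕ → Bool × Bool)).2 (r + 1) e.1.2)
          (r + 1) (false, false) = y.1.2
        rw [Function.update_idem, ← h2, Function.update_eq_self]

end defs

section count

variable {F : Type u} [Field F] [Fintype F]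

theorem finite_Entry (m d : ℕ) : Finite (Entry F m d) := by
  have := COUNTT.finite_Mon F d
  exact Finite.of_injective
    (fun e : Entry F m d => ((⟨e.1.1, e.2.1⟩ : COUNTT.Mon F d), e.1.2)) (by
      intro x y h
      apply Subtype.ext
      apply Prod.ext
      · exact congrArg (fun z : COUNTT.Mon F d × (Bool × Bool) => (z.1 : F[X])) h
      · exact congrArg (fun z : COUNTT.Mon F d × (Bool × Bool) => z.2) h)

/-- the number of entries of degree `d` at the index `m` -/
def E (q m d : ℕ) : ℕ := if Odd m then (if Even d then q ^ (d / 2) else 0) else Wev q d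

theorem card_Entry (hodd : Odd (Fintype.card F)) (m d : ℕ) :
    Nat.card (Entry F m d) = E (Fintype.card F) m d := by
  unfold E
  split_ifs with hm hd
  · -- `m` odd, `d` even
    obtain ⟨a, ha⟩ := hd
    have hda : d = 2 * a := by omega
    have hd2 : d / 2 = a := by omega
    rw [hd2, ← SRCARD.card_pal (F := F) a]
    refine Nat.card_congr
      { toFun := fun e => ⟨e.1.1, e.2.1.1, by rw [e.2.1.2.1, hda], (e.2.2.2.1 hm).1, e.2.2.1⟩
        invFun := fun h => ⟨(h.1, (false, false)), ⟨h.2.1, by rw [h.2.2.1, hda], by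
            rw [h.2.2.2.1]
            exact one_ne_zero⟩,
          h.2.2.2.2, fun _ => ⟨h.2.2.2.1, by rw [h.2.2.1]; exact even_two_mul a⟩,
          fun h' => by simp at h', fun h' => by simp at h'⟩
        left_inv := ?_
        right_inv := ?_ }
    · intro e
      apply Subtype.ext
      apply Prod.ext
      · rfl
      · have h1 : e.1.2.1 = false := by
          by_contra h
          have := (e.2.2.2.2.1 (by simpa using h)).1
          exact (Nat.not_even_iff_odd.2 hm) this
        have h2 : e.1.2.2 = false := by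
          by_contra h
          have := (e.2.2.2.2.2 (by simpa using h)).1
          exact (Nat.not_even_iff_odd.2 hm) this
        exact (Prod.ext h1 h2).symm
    · intro h
      rfl
  · -- `m` odd, `d` odd: no entries
    rw [Nat.card_eq_zero]
    left
    constructor
    rintro ⟨e, ⟨-, hdeg, -⟩, -, ho, -⟩
    apply hd
    rw [← hdeg]
    exact (ho hm).2
  · -- `m` even
    have hme : Even m := Nat.not_odd_iff_even.1 hm
    rw [← WEVCARD.card_wev hodd d]
    refine Nat.card_congr (Equiv.subtypeEquivRight fun e => ?_)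
    constructor
    · rintro ⟨⟨h1, h2, h3⟩, h4, -, h5, h6⟩
      exact ⟨h1, h2, h3, h4, fun h => (h5 h).2, fun h => (h6 h).2⟩
    · rintro ⟨h1, h2, h3, h4, h5, h6⟩
      exact ⟨⟨h1, h2, h3⟩, h4, fun h => absurd h hm, fun h => ⟨hme, h5 h⟩, fun h => ⟨hme, h6 h⟩⟩

/-- the number of tuples with signs of total weight `N` -/
def AS (q : ℕ) : ℕ → ℕ → ℕ
  | 0, N => if N = 0 then 1 else 0
  | (r + 1), N => ∑ d ∈ Finset.range (N / (r + 1) + 1), E q (r + 1) d * AS q r (N - (r + 1) * d)

theorem card_SS (hodd : Odd (Fintype.card F)) (r N : ℕ) :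
    (SS F r N).Finite ∧ Nat.card (SS F r N) = AS (Fintype.card F) r N := by
  induction r generalizing N with
  | zero =>
    rw [SS_zero]
    split_ifs with hN
    · refine ⟨Set.finite_singleton _, ?_⟩
      rw [Nat.card_coe_set_eq, Set.ncard_singleton]
      simp [AS, hN]
    · refine ⟨Set.finite_empty, ?_⟩
      rw [Nat.card_coe_set_eq, Set.ncard_empty]
      simp [AS, hN]
  | succ r ih =>
    have hfinT : ∀ m, Finite (SS F r m) := fun m => (ih m).1
    have hfinM : ∀ a, Finite (Entry F (r + 1) a) := fun a => finite_Entry (r + 1) a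
    let d : SS F (r + 1) N → Fin (N / (r + 1) + 1) := fun x =>
      ⟨((x : (ℕ → F[X]) × (ℕ → Bool × Bool)).1 (r + 1)).natDegree, deg_lt x.2⟩
    have hale : ∀ a : Fin (N / (r + 1) + 1), (r + 1) * (a : ℕ) ≤ N := by
      intro a
      have := a.2
      rw [Nat.lt_succ_iff, Nat.le_div_iff_mul_le (Nat.succ_pos r), mul_comm] at this
      exact this
    let EE : ∀ a : Fin (N / (r + 1) + 1),
        {x : SS F (r + 1) N // d x = a} ≃ Entry F (r + 1) a × SS F r (N - (r + 1) * a) := fun a =>
      (Equiv.subtypeEquivRight (fun x => by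
        show d x = a ↔ ((x : (ℕ → F[X]) × (ℕ → Bool × Bool)).1 (r + 1)).natDegree = (a : ℕ)
        exact Fin.ext_iff)).trans (fibre F r N a (hale a))
    let E' : SS F (r + 1) N ≃
        Σ a : Fin (N / (r + 1) + 1), Entry F (r + 1) a × SS F r (N - (r + 1) * a) :=
      (Equiv.sigmaFiberEquiv d).symm.trans (Equiv.sigmaCongrRight EE)
    have hfin : Finite (SS F (r + 1) N) := Finite.of_equiv _ E'.symm
    refine ⟨Set.toFinite _, ?_⟩
    rw [Nat.card_congr E', Nat.card_sigma]
    show _ = ∑ a ∈ Finset.range (N / (r + 1) + 1),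
      E (Fintype.card F) (r + 1) a * AS (Fintype.card F) r (N - (r + 1) * a)
    rw [← Fin.sum_univ_eq_sum_range
      (fun a => E (Fintype.card F) (r + 1) a * AS (Fintype.card F) r (N - (r + 1) * a))]
    refine Finset.sum_congr rfl (fun a _ => ?_)
    rw [Nat.card_prod, card_Entry hodd (r + 1) a, (ih _).2]

end count

/-- a sum whose odd terms vanish -/
theorem sum_even_terms (g : ℕ → ℕ) (hg : ∀ d, ¬ Even d → g d = 0) (M : ℕ) :
    ∑ d ∈ Finset.range (M + 1), g d = ∑ a ∈ Finset.range (M / 2 + 1), g (2 * a) := by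
  induction M with
  | zero => simp
  | succ M ih =>
    rw [Finset.sum_range_succ, ih]
    rcases Nat.even_or_odd (M + 1) with he | ho
    · have h1 : (M + 1) / 2 = M / 2 + 1 := by
        obtain ⟨k, hk⟩ := he
        omega
      have h2 : 2 * (M / 2 + 1) = M + 1 := by
        obtain ⟨k, hk⟩ := he
        omega
      rw [h1, Finset.sum_range_succ (fun a => g (2 * a)) (M / 2 + 1), h2]
    · have h1 : (M + 1) / 2 = M / 2 := by
        obtain ⟨k, hk⟩ := ho
        omega
      rw [h1, hg (M + 1) (Nat.not_even_iff_odd.2 ho), add_zero]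

theorem AS_two_mul (q r n : ℕ) : AS q r (2 * n) = ASp q r n := by
  induction r generalizing n with
  | zero =>
    unfold AS ASp
    by_cases hn : n = 0
    · subst hn
      simp
    · rw [if_neg hn, if_neg (by omega)]
  | succ r ih =>
    rw [AS, ASp]
    split_ifs with he
    · -- `r + 1` even
      obtain ⟨k, hk⟩ := he
      have hk2 : (r + 1) / 2 = k := by omega
      have hk0 : 0 < k := by omega
      have hr : r + 1 = 2 * k := by omega
      rw [hk2, hr, Nat.mul_div_mul_left n k (by norm_num : 0 < 2)]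
      refine Finset.sum_congr rfl (fun b _ => ?_)
      have h1 : 2 * n - 2 * k * b = 2 * (n - k * b) := by
        rw [Nat.mul_sub, mul_assoc]
      have hno : ¬ Odd (2 * k) := Nat.not_odd_iff_even.2 (even_two_mul k)
      rw [h1, ih, E, if_neg hno]
    · -- `r + 1` odd
      have ho : Odd (r + 1) := Nat.not_even_iff_odd.1 he
      rw [sum_even_terms (fun d => E q (r + 1) d * AS q r (2 * n - (r + 1) * d))]
      · have h1 : 2 * n / (r + 1) / 2 = n / (r + 1) := by
          rw [Nat.div_div_eq_div_mul, mul_comm (r + 1) 2, Nat.mul_div_mul_left n (r + 1)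
            (by norm_num : 0 < 2)]
        rw [h1]
        refine Finset.sum_congr rfl (fun a _ => ?_)
        have h2 : 2 * n - (r + 1) * (2 * a) = 2 * (n - (r + 1) * a) := by
          rw [Nat.mul_sub]
          congr 1
          ring
        have h3 : 2 * a / 2 = a := by omega
        show E q (r + 1) (2 * a) * AS q r (2 * n - (r + 1) * (2 * a)) = _
        rw [h2, ih, E, if_pos ho, if_pos (even_two_mul a), h3]
      · intro d hd
        show E q (r + 1) d * AS q r (2 * n - (r + 1) * d) = 0
        rw [E, if_pos ho, if_neg hd, zero_mul]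

end COUNTSSP

section final

variable {F : Type u} [Field F] [Fintype F]

open COUNTSSP in
theorem COUNTSSP.card_SSp (hodd : Odd (Fintype.card F)) (r n : ℕ) :
    (SSp F r n).Finite ∧ Nat.card (SSp F r n) = ASp (Fintype.card F) r n := by
  rw [SSp_eq, ← AS_two_mul]
  exact card_SS hodd r (2 * n)

end final

end Cfsg.Agent.S2482P
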