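import Mathlib
import Cfsg.Agent.Helper29.S2482CDefs

/-! S2482 chapter (C), piece WEVGF: the generating function of `Wev`. -/

set_option autoImplicit false

namespace Cfsg.Agent.S2482P

namespace WEVGF

theorem SR_zero (q : ℕ) : SR q 0 = 1 := by simp [SR]

theorem SR_one (q : ℕ) : SR q 1 = 2 := by simp [SR]

theorem SR_two (q : ℕ) : SR q 2 = q + 1 := by simp [SR]

theorem SR_add_two (q b : ℕ) (hb : 1 ≤ b) : SR q (b + 2) = q * SR q b := by
  unfold SR
  have h1 : b + 2 ≠ 0 := by omega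
  have h2 : b ≠ 0 := by omega
  rw [if_neg h1, if_neg h2]
  have h3 : (b + 2) / 2 = b / 2 + 1 := by omega
  by_cases he : Even b
  · have he2 : Even (b + 2) := by
      rcases he with ⟨k, hk⟩
      exact ⟨k + 1, by omega⟩
    rw [if_pos he, if_pos he2, h3]
    have h4 : 1 ≤ b / 2 := by
      rcases he with ⟨k, hk⟩
      omega
    obtain ⟨j, hj⟩ : ∃ j, b / 2 = j + 1 := ⟨b / 2 - 1, by omega⟩
    rw [hj]
    simp only [Nat.add_sub_cancel]
    ring
  · have he2 : ¬ Even (b + 2) := by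
      intro h
      apply he
      rcases h with ⟨k, hk⟩
      exact ⟨k - 1, by omega⟩
    rw [if_neg he, if_neg he2, h3]
    ring

theorem Wev_zero (q : ℕ) : Wev q 0 = 1 := by simp [Wev, SR]

theorem Wev_one (q : ℕ) : Wev q 1 = 4 := by simp [Wev, SR]

theorem Wev_add_two (q b : ℕ) : Wev q (b + 2) = q * Wev q b + Nat.choose 4 (b + 2) := by
  rcases b with _ | _ | _ | b
  · simp [Wev, SR_zero, SR_one, SR_two, Nat.choose]
    try ring
  · have h3 : SR q 3 = q * SR q 1 := SR_add_two q 1 le_rfl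
    simp [Wev, SR_zero, SR_one, SR_two, h3, Nat.choose]
    ring
  · have h4 : SR q 4 = q * SR q 2 := SR_add_two q 2 (by norm_num)
    have h3 : SR q 3 = q * SR q 1 := SR_add_two q 1 le_rfl
    simp [Wev, SR_zero, SR_one, SR_two, h3, h4, Nat.choose]
    ring
  · have e1 : SR q (b + 3 + 2) = q * SR q (b + 3) := SR_add_two q (b + 3) (by omega)
    have e2 : SR q (b + 2 + 2) = q * SR q (b + 2) := SR_add_two q (b + 2) (by omega)
    have e3 : SR q (b + 1 + 2) = q * SR q (b + 1) := SR_add_two q (b + 1) (by omega)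
    have hc : Nat.choose 4 (b + 3 + 2) = 0 := Nat.choose_eq_zero_of_lt (by omega)
    unfold Wev
    have c1 : 1 ≤ b + 3 + 2 := by omega
    have c2 : 2 ≤ b + 3 + 2 := by omega
    have c3 : 1 ≤ b + 3 := by omega
    have c4 : 2 ≤ b + 3 := by omega
    rw [if_pos c1, if_pos c2, if_pos c3, if_pos c4, hc]
    have d1 : b + 3 + 2 - 1 = b + 2 + 2 := by omega
    have d2 : b + 3 + 2 - 2 = b + 1 + 2 := by omega
    have d3 : b + 3 - 1 = b + 2 := by omega
    have d4 : b + 3 - 2 = b + 1 := by omega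
    rw [d1, d2, d3, d4, e1, e2, e3]
    ring

/-- the telescoping identity -/
theorem key (q : ℕ) (y : ℚ) (M : ℕ) :
    (∑ b ∈ Finset.range (M + 2), (Wev q b : ℚ) * y ^ b) * (1 - q * y ^ 2) +
      q * y ^ (M + 2) * ((Wev q M : ℚ) + (Wev q (M + 1) : ℚ) * y) =
      ∑ b ∈ Finset.range (M + 2), (Nat.choose 4 b : ℚ) * y ^ b := by
  induction M with
  | zero =>
    simp [Finset.sum_range_succ, Wev_zero, Wev_one, Nat.choose]
    ring
  | succ M ih =>
    rw [Finset.sum_range_succ, Finset.sum_range_succ _ (M + 2), ← ih]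
    have h := Wev_add_two q M
    have h' : (Wev q (M + 2) : ℚ) = q * Wev q M + Nat.choose 4 (M + 2) := by exact_mod_cast h
    rw [show M + 1 + 1 = M + 2 from rfl, h']
    ring

theorem choose_sum_le (y : ℚ) (hy0 : 0 ≤ y) (M : ℕ) :
    ∑ b ∈ Finset.range M, (Nat.choose 4 b : ℚ) * y ^ b ≤ (1 + y) ^ 4 := by
  have h5 : ∑ b ∈ Finset.range 5, (Nat.choose 4 b : ℚ) * y ^ b = (1 + y) ^ 4 := by
    simp [Finset.sum_range_succ, Nat.choose]
    ring
  rcases Nat.lt_or_ge M 5 with hM | hM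
  · rw [← h5]
    apply Finset.sum_le_sum_of_subset_of_nonneg
    · intro b hb
      rw [Finset.mem_range] at hb ⊢
      omega
    · intro b _ _
      positivity
  · rw [← h5]
    apply le_of_eq
    symm
    apply Finset.sum_subset
    · intro b hb
      rw [Finset.mem_range] at hb ⊢
      omega
    · intro b _ hb
      rw [Finset.mem_range, not_lt] at hb
      rw [Nat.choose_eq_zero_of_lt (by omega)]
      simp

end WEVGF

open WEVGF in
theorem WEVGF.wev_gf (q : ℕ) (y : ℚ) (hy0 : 0 ≤ y) (hy : (q : ℚ) * y ^ 2 < 1) (M : ℕ) :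
    ∑ b ∈ Finset.range M, (Wev q b : ℚ) * y ^ b ≤ (1 + y) ^ 4 / (1 - q * y ^ 2) := by
  have hpos : 0 < 1 - (q : ℚ) * y ^ 2 := by linarith
  rw [le_div_iff₀ hpos]
  have hq0 : (0 : ℚ) ≤ q := Nat.cast_nonneg q
  have hbig : ∀ N, (∑ b ∈ Finset.range (N + 2), (Wev q b : ℚ) * y ^ b) * (1 - q * y ^ 2) ≤
      (1 + y) ^ 4 := by
    intro N
    have h1 := key q y N
    have h2 := choose_sum_le y hy0 (N + 2)
    have h3 : 0 ≤ (q : ℚ) * y ^ (N + 2) * ((Wev q N : ℚ) + (Wev q (N + 1) : ℚ) * y) := by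
      positivity
    linarith
  rcases Nat.lt_or_ge M 2 with hM | hM
  · have hmono : ∑ b ∈ Finset.range M, (Wev q b : ℚ) * y ^ b ≤
        ∑ b ∈ Finset.range (0 + 2), (Wev q b : ℚ) * y ^ b := by
      apply Finset.sum_le_sum_of_subset_of_nonneg
      · intro b hb
        rw [Finset.mem_range] at hb ⊢
        omega
      · intro b _ _
        positivity
    exact (mul_le_mul_of_nonneg_right hmono hpos.le).trans (hbig 0)
  · obtain ⟨N, rfl⟩ : ∃ N, M = N + 2 := ⟨M - 2, by omega⟩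
    exact hbig N

end Cfsg.Agent.S2482P
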