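import Mathlib
import Cfsg.Agent.Helper29.S2558CDefs
import Cfsg.Agent.Helper29.S2482WEVGF

/-! S2558 chapter (C), piece NUMO, part A: unfolding lemmas, the values of `Wev`, the generating
functions of the even and odd parts of `Wev`, and the one-step estimates for `AO` (two parity states). -/

set_option autoImplicit false
set_option linter.unusedVariables false

namespace Cfsg.Agent.S2558P

open Cfsg.Agent.S2482P

namespace NUMO

theorem AO_zero (q N : ℕ) : AO q 0 N = if N = 0 then 1 else 0 := by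
  rw [AO]

theorem AO_succ_even (q r N : ℕ) (h : Even (r + 1)) : AO q (r + 1) N =
    ∑ a ∈ Finset.range (N / (2 * (r + 1)) + 1), q ^ a * AO q r (N - 2 * (r + 1) * a) := by
  rw [AO, if_pos h]

theorem AO_succ_odd (q r N : ℕ) (h : ¬ Even (r + 1)) : AO q (r + 1) N =
    ∑ b ∈ Finset.range (N / (r + 1) + 1), Wev q b * AO q r (N - (r + 1) * b) := by
  rw [AO, if_neg h]

theorem AO_zero_le (q N : ℕ) : AO q 0 N ≤ 1 := by
  rw [AO_zero]
  split_ifs <;> omega

theorem AO_one (q N : ℕ) : AO q 1 N = Wev q N := by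
  have h := AO_succ_odd q 0 N (by decide)
  rw [zero_add] at h
  rw [h, Finset.sum_eq_single N]
  · rw [one_mul, Nat.sub_self, AO_zero, if_pos rfl, mul_one]
  · intro a ha hne
    rw [Finset.mem_range, Nat.div_one] at ha
    have : N - 1 * a ≠ 0 := by omega
    rw [AO_zero, if_neg this, mul_zero]
  · intro h
    exfalso
    apply h
    rw [Finset.mem_range, Nat.div_one]
    omega

/-- values of `Wev` at even arguments -/
theorem Wev_even (q k : ℕ) : Wev q (2 * (k + 2)) = q ^ k * (q ^ 2 + 6 * q + 1) := by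
  induction k with
  | zero =>
    have h4 : SR q 4 = q * SR q 2 := WEVGF.SR_add_two q 2 (by norm_num)
    have h3 : SR q 3 = q * SR q 1 := WEVGF.SR_add_two q 1 le_rfl
    simp [Wev, WEVGF.SR_one, WEVGF.SR_two, h3, h4]
    ring
  | succ k ih =>
    have h := WEVGF.Wev_add_two q (2 * (k + 2))
    have hc : Nat.choose 4 (2 * (k + 2) + 2) = 0 := Nat.choose_eq_zero_of_lt (by omega)
    rw [show 2 * (k + 1 + 2) = 2 * (k + 2) + 2 by ring, h, hc, ih]
    ring

/-- values of `Wev` at odd arguments -/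
theorem Wev_odd (q k : ℕ) : Wev q (2 * (k + 1) + 1) = q ^ k * (4 * q + 4) := by
  induction k with
  | zero =>
    have h3 : SR q 3 = q * SR q 1 := WEVGF.SR_add_two q 1 le_rfl
    simp [Wev, WEVGF.SR_one, WEVGF.SR_two, h3]
    ring
  | succ k ih =>
    have h := WEVGF.Wev_add_two q (2 * (k + 1) + 1)
    have hc : Nat.choose 4 (2 * (k + 1) + 1 + 2) = 0 := Nat.choose_eq_zero_of_lt (by omega)
    rw [show 2 * (k + 1 + 1) + 1 = 2 * (k + 1) + 1 + 2 by ring, h, hc, ih]
    ring

theorem Wev_two (q : ℕ) : Wev q 2 = q + 6 := by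
  simp [Wev, WEVGF.SR_one, WEVGF.SR_two, WEVGF.SR_zero]
  try ring

/-- `Wev q (2k) ≤ (1 + 6/q + 1/q^2) q^k` -/
theorem Wev_even_le (q k : ℕ) (hq : 2 ≤ q) :
    (Wev q (2 * k) : ℚ) ≤ (1 + 6 * (1 / (q : ℚ)) + (1 / (q : ℚ)) ^ 2) * (q : ℚ) ^ k := by
  have hq1 : (2 : ℚ) ≤ q := by exact_mod_cast hq
  have hq0 : (q : ℚ) ≠ 0 := by linarith
  have hx : (0 : ℚ) ≤ 1 / (q : ℚ) := by positivity
  rcases k with _ | _ | k
  · rw [Nat.mul_zero, WEVGF.Wev_zero, pow_zero, mul_one]
    push_cast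
    nlinarith
  · rw [show 2 * (0 + 1) = 2 from rfl, Wev_two]
    push_cast
    rw [pow_one]
    have : (1 + 6 * (1 / (q : ℚ)) + (1 / (q : ℚ)) ^ 2) * (q : ℚ) = q + 6 + 1 / q := by
      field_simp
    rw [this]
    linarith
  · rw [Wev_even]
    push_cast
    apply le_of_eq
    rw [pow_add]
    field_simp
    try ring

/-- `Wev q (2k+1) ≤ (4 + 4/q) q^k` -/
theorem Wev_odd_le (q k : ℕ) (hq : 2 ≤ q) :
    (Wev q (2 * k + 1) : ℚ) ≤ (4 + 4 * (1 / (q : ℚ))) * (q : ℚ) ^ k := by
  have hq1 : (2 : ℚ) ≤ q := by exact_mod_cast hq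
  have hq0 : (q : ℚ) ≠ 0 := by linarith
  have hx : (0 : ℚ) ≤ 1 / (q : ℚ) := by positivity
  rcases k with _ | k
  · rw [Nat.mul_zero, zero_add, WEVGF.Wev_one, pow_zero, mul_one]
    push_cast
    linarith
  · rw [Wev_odd]
    push_cast
    apply le_of_eq
    rw [pow_succ]
    field_simp

/-- generating function of the even part of `Wev` -/
theorem key_even (q : ℕ) (z : ℚ) (M : ℕ) :
    (∑ c ∈ Finset.range (M + 1), (Wev q (2 * c) : ℚ) * z ^ c) * (1 - q * z) +
      q * z ^ (M + 1) * (Wev q (2 * M) : ℚ) =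
      ∑ c ∈ Finset.range (M + 1), (Nat.choose 4 (2 * c) : ℚ) * z ^ c := by
  induction M with
  | zero =>
    simp [WEVGF.Wev_zero]
  | succ M ih =>
    rw [Finset.sum_range_succ, Finset.sum_range_succ _ (M + 1), ← ih]
    have h := WEVGF.Wev_add_two q (2 * M)
    have h' : (Wev q (2 * (M + 1)) : ℚ) = q * Wev q (2 * M) + Nat.choose 4 (2 * (M + 1)) := by
      rw [show 2 * (M + 1) = 2 * M + 2 by ring]
      exact_mod_cast h
    rw [h']
    ring

/-- generating function of the odd part of `Wev` -/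
theorem key_odd (q : ℕ) (z : ℚ) (M : ℕ) :
    (∑ c ∈ Finset.range (M + 1), (Wev q (2 * c + 1) : ℚ) * z ^ c) * (1 - q * z) +
      q * z ^ (M + 1) * (Wev q (2 * M + 1) : ℚ) =
      ∑ c ∈ Finset.range (M + 1), (Nat.choose 4 (2 * c + 1) : ℚ) * z ^ c := by
  induction M with
  | zero =>
    simp [WEVGF.Wev_one]
    try ring
  | succ M ih =>
    rw [Finset.sum_range_succ, Finset.sum_range_succ _ (M + 1), ← ih]
    have h := WEVGF.Wev_add_two q (2 * M + 1)
    have h' : (Wev q (2 * (M + 1) + 1) : ℚ) =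
        q * Wev q (2 * M + 1) + Nat.choose 4 (2 * (M + 1) + 1) := by
      rw [show 2 * (M + 1) + 1 = 2 * M + 1 + 2 by ring]
      exact_mod_cast h
    rw [h']
    ring

theorem choose_even_le (z : ℚ) (hz : 0 ≤ z) (M : ℕ) :
    ∑ c ∈ Finset.range M, (Nat.choose 4 (2 * c) : ℚ) * z ^ c ≤ 1 + 6 * z + z ^ 2 := by
  have h3 : ∑ c ∈ Finset.range 3, (Nat.choose 4 (2 * c) : ℚ) * z ^ c = 1 + 6 * z + z ^ 2 := by
    simp [Finset.sum_range_succ, Nat.choose]
    try ring
  rcases Nat.lt_or_ge M 3 with hM | hM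
  · rw [← h3]
    apply Finset.sum_le_sum_of_subset_of_nonneg
    · intro b hb
      rw [Finset.mem_range] at hb ⊢
      omega
    · intro b _ _
      positivity
  · rw [← h3]
    apply le_of_eq
    symm
    apply Finset.sum_subset
    · intro b hb
      rw [Finset.mem_range] at hb ⊢
      omega
    · intro b _ hb
      rw [Finset.mem_range, not_lt] at hb
      rw [Nat.choose_eq_zero_of_lt (by omega)]
      simp

theorem choose_odd_le (z : ℚ) (hz : 0 ≤ z) (M : ℕ) :
    ∑ c ∈ Finset.range M, (Nat.choose 4 (2 * c + 1) : ℚ) * z ^ c ≤ 4 + 4 * z := by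
  have h2 : ∑ c ∈ Finset.range 2, (Nat.choose 4 (2 * c + 1) : ℚ) * z ^ c = 4 + 4 * z := by
    simp [Finset.sum_range_succ, Nat.choose]
    try ring
  rcases Nat.lt_or_ge M 2 with hM | hM
  · rw [← h2]
    apply Finset.sum_le_sum_of_subset_of_nonneg
    · intro b hb
      rw [Finset.mem_range] at hb ⊢
      omega
    · intro b _ _
      positivity
  · rw [← h2]
    apply le_of_eq
    symm
    apply Finset.sum_subset
    · intro b hb
      rw [Finset.mem_range] at hb ⊢
      omega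
    · intro b _ hb
      rw [Finset.mem_range, not_lt] at hb
      rw [Nat.choose_eq_zero_of_lt (by omega)]
      simp

theorem gf_even (q : ℕ) (z : ℚ) (hz : 0 ≤ z) (hqz : (q : ℚ) * z < 1) (M : ℕ) :
    ∑ c ∈ Finset.range M, (Wev q (2 * c) : ℚ) * z ^ c ≤ (1 + 6 * z + z ^ 2) / (1 - q * z) := by
  have hpos : 0 < 1 - (q : ℚ) * z := by linarith
  rw [le_div_iff₀ hpos]
  rcases M with _ | M
  · simp only [Finset.range_zero, Finset.sum_empty, zero_mul]
    positivity
  · have h1 := key_even q z M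
    have h2 := choose_even_le z hz (M + 1)
    have h3 : 0 ≤ (q : ℚ) * z ^ (M + 1) * (Wev q (2 * M) : ℚ) := by positivity
    linarith

theorem gf_odd (q : ℕ) (z : ℚ) (hz : 0 ≤ z) (hqz : (q : ℚ) * z < 1) (M : ℕ) :
    ∑ c ∈ Finset.range M, (Wev q (2 * c + 1) : ℚ) * z ^ c ≤ (4 + 4 * z) / (1 - q * z) := by
  have hpos : 0 < 1 - (q : ℚ) * z := by linarith
  rw [le_div_iff₀ hpos]
  rcases M with _ | M
  · simp only [Finset.range_zero, Finset.sum_empty, zero_mul]
    positivity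
  · have h1 := key_odd q z M
    have h2 := choose_odd_le z hz (M + 1)
    have h3 : 0 ≤ (q : ℚ) * z ^ (M + 1) * (Wev q (2 * M + 1) : ℚ) := by positivity
    linarith

/-- splitting a sum by parity -/
theorem sum_parity (f : ℕ → ℚ) (hf : ∀ b, 0 ≤ f b) (B : ℕ) :
    ∑ b ∈ Finset.range B, f b ≤
      ∑ c ∈ Finset.range B, f (2 * c) + ∑ c ∈ Finset.range B, f (2 * c + 1) := by
  have h2 : ∀ M, ∑ b ∈ Finset.range (2 * M), f b =
      ∑ c ∈ Finset.range M, f (2 * c) + ∑ c ∈ Finset.range M, f (2 * c + 1) := by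
    intro M
    induction M with
    | zero => simp
    | succ M ih =>
      rw [show 2 * (M + 1) = 2 * M + 1 + 1 by ring, Finset.sum_range_succ, Finset.sum_range_succ,
        ih, Finset.sum_range_succ, Finset.sum_range_succ]
      ring
  rw [← h2]
  apply Finset.sum_le_sum_of_subset_of_nonneg
  · intro b hb
    rw [Finset.mem_range] at hb ⊢
    omega
  · intro b _ _
    exact hf b

/-- the geometric series -/
theorem geom_le (x : ℚ) (hx0 : 0 ≤ x) (hx1 : x < 1) (M : ℕ) :
    ∑ a ∈ Finset.range M, x ^ a ≤ 1 / (1 - x) := by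
  have h := geom_sum_mul_neg x M
  have hpos : 0 < 1 - x := by linarith
  rw [le_div_iff₀ hpos, h]
  have : 0 ≤ x ^ M := pow_nonneg hx0 M
  linarith

theorem x_pow_lt_one (q r : ℕ) (hq : 2 ≤ q) (hr : 1 ≤ r) : (1 / (q : ℚ)) ^ r < 1 := by
  have hq1 : (2 : ℚ) ≤ q := by exact_mod_cast hq
  have h0 : (0 : ℚ) ≤ 1 / (q : ℚ) := by positivity
  have h1 : (1 / (q : ℚ)) < 1 := by
    rw [div_lt_one (by linarith)]
    linarith
  exact pow_lt_one₀ h0 h1 (by omega)

end NUMO

end Cfsg.Agent.S2558P
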