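import Mathlib
import Cfsg.Agent.Helper29.S2558CDefs
import Cfsg.Agent.Helper29.S2558NUMA

/-! S2558 chapter (C), piece NUMO, part B: the two-state step estimates for `AO`. -/

set_option autoImplicit false
set_option linter.unusedVariables false

namespace Cfsg.Agent.S2558P

open Cfsg.Agent.S2482P

namespace NUMO

/-- the state: bounds for even and odd total dimension -/
def St (q r : ℕ) (E O : ℚ) : Prop :=
  (∀ k, (AO q r (2 * k) : ℚ) ≤ E * (q : ℚ) ^ k) ∧ (∀ k, (AO q r (2 * k + 1) : ℚ) ≤ O * (q : ℚ) ^ k)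

theorem qpow_sub (q : ℕ) (hq : 2 ≤ q) (k e : ℕ) (he : e ≤ k) :
    (q : ℚ) ^ (k - e) = (q : ℚ) ^ k * (1 / (q : ℚ)) ^ e := by
  have hq1 : (2 : ℚ) ≤ q := by exact_mod_cast hq
  have hq0 : (q : ℚ) ≠ 0 := by linarith
  obtain ⟨d, rfl⟩ : ∃ d, k = d + e := ⟨k - e, by omega⟩
  rw [Nat.add_sub_cancel, pow_add, one_div_pow]
  field_simp

/-- multiplier of an even step `r → r + 1` -/
noncomputable def gE (q r : ℕ) : ℚ := 1 / (1 - (1 / (q : ℚ)) ^ r)

theorem gE_nonneg (q r : ℕ) (hq : 2 ≤ q) (hr : 1 ≤ r) : 0 ≤ gE q r := by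
  unfold gE
  have := x_pow_lt_one q r hq hr
  apply div_nonneg zero_le_one
  linarith

/-- the even step -/
theorem step_even (q r : ℕ) (hq : 2 ≤ q) (hr : 1 ≤ r) (heven : Even (r + 1)) (E O : ℚ)
    (hE : 0 ≤ E) (hO : 0 ≤ O) (h : St q r E O) : St q (r + 1) (E * gE q r) (O * gE q r) := by
  have hq1 : (2 : ℚ) ≤ q := by exact_mod_cast hq
  have hq0 : (q : ℚ) ≠ 0 := by linarith
  have hx0 : (0 : ℚ) ≤ (1 / (q : ℚ)) ^ r := by positivity
  have hx1 : (1 / (q : ℚ)) ^ r < 1 := x_pow_lt_one q r hq hr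
  -- a common estimate
  have key : ∀ (C : ℚ) (hC : 0 ≤ C) (N k : ℕ) (hN : N = 2 * k ∨ N = 2 * k + 1)
      (hb : ∀ a, (r + 1) * a ≤ k → (AO q r (N - 2 * (r + 1) * a) : ℚ) ≤ C * (q : ℚ) ^ (k - (r + 1) * a)),
      (AO q (r + 1) N : ℚ) ≤ C * gE q r * (q : ℚ) ^ k := by
    intro C hC N k hN hb
    rw [AO_succ_even q r N heven]
    push_cast
    have h1 : ∑ a ∈ Finset.range (N / (2 * (r + 1)) + 1),
        (q : ℚ) ^ a * (AO q r (N - 2 * (r + 1) * a) : ℚ) ≤
        ∑ a ∈ Finset.range (N / (2 * (r + 1)) + 1), C * (q : ℚ) ^ k * ((1 / (q : ℚ)) ^ r) ^ a := by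
      apply Finset.sum_le_sum
      intro a ha
      rw [Finset.mem_range] at ha
      have ha1 : a ≤ N / (2 * (r + 1)) := by omega
      have ha2 : a * (2 * (r + 1)) ≤ N := (Nat.le_div_iff_mul_le (by positivity)).mp ha1
      have ha' : (r + 1) * a ≤ k := by
        rcases hN with rfl | rfl
        · nlinarith
        · have : 2 * ((r + 1) * a) ≤ 2 * k + 1 := by nlinarith
          omega
      calc (q : ℚ) ^ a * (AO q r (N - 2 * (r + 1) * a) : ℚ)
          ≤ (q : ℚ) ^ a * (C * (q : ℚ) ^ (k - (r + 1) * a)) :=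
            mul_le_mul_of_nonneg_left (hb a ha') (by positivity)
        _ = C * (q : ℚ) ^ k * ((1 / (q : ℚ)) ^ r) ^ a := by
            rw [qpow_sub q hq k _ ha', ← pow_mul, one_div_pow, one_div_pow,
              show (r + 1) * a = r * a + a by ring, pow_add]
            field_simp
    refine h1.trans ?_
    rw [← Finset.mul_sum]
    have h3 := geom_le _ hx0 hx1 (N / (2 * (r + 1)) + 1)
    have hcoef : 0 ≤ C * (q : ℚ) ^ k := by positivity
    calc C * (q : ℚ) ^ k * ∑ a ∈ Finset.range (N / (2 * (r + 1)) + 1), ((1 / (q : ℚ)) ^ r) ^ a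
        ≤ C * (q : ℚ) ^ k * (1 / (1 - (1 / (q : ℚ)) ^ r)) := mul_le_mul_of_nonneg_left h3 hcoef
      _ = C * gE q r * (q : ℚ) ^ k := by
          unfold gE
          ring
  constructor
  · intro k
    apply key E hE (2 * k) k (Or.inl rfl)
    intro a ha
    have : 2 * k - 2 * (r + 1) * a = 2 * (k - (r + 1) * a) := by
      rw [Nat.mul_sub, mul_assoc]
    rw [this]
    exact h.1 _
  · intro k
    apply key O hO (2 * k + 1) k (Or.inr rfl)
    intro a ha
    have : 2 * k + 1 - 2 * (r + 1) * a = 2 * (k - (r + 1) * a) + 1 := by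
      have : 2 * (r + 1) * a ≤ 2 * k := by nlinarith
      rw [Nat.mul_sub, mul_assoc]
      omega
    rw [this]
    exact h.2 _

/-- numerators of the generating functions -/
def Pe (z : ℚ) : ℚ := 1 + 6 * z + z ^ 2

def Po (z : ℚ) : ℚ := 4 + 4 * z

/-- the new constants after an odd step `r → r + 1` (`r` even) -/
noncomputable def stepE (q r : ℕ) (E O : ℚ) : ℚ :=
  (E * Pe ((1 / (q : ℚ)) ^ (r + 1)) + O * (1 / (q : ℚ)) ^ (r / 2 + 1) * Po ((1 / (q : ℚ)) ^ (r + 1))) /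
    (1 - (1 / (q : ℚ)) ^ r)

noncomputable def stepO (q r : ℕ) (E O : ℚ) : ℚ :=
  (O * Pe ((1 / (q : ℚ)) ^ (r + 1)) + E * (1 / (q : ℚ)) ^ (r / 2) * Po ((1 / (q : ℚ)) ^ (r + 1))) /
    (1 - (1 / (q : ℚ)) ^ r)

theorem qz_eq (q r : ℕ) (hq : 2 ≤ q) : (q : ℚ) * (1 / (q : ℚ)) ^ (r + 1) = (1 / (q : ℚ)) ^ r := by
  have hq1 : (2 : ℚ) ≤ q := by exact_mod_cast hq
  have hq0 : (q : ℚ) ≠ 0 := by linarith
  rw [pow_succ]
  field_simp

/-- a general estimate for an odd step: `N - m b` runs over one parity class for even `b` and over the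
other one for odd `b` -/
theorem odd_key (q r : ℕ) (hq : 2 ≤ q) (hr : 1 ≤ r) (hodd : ¬ Even (r + 1)) (C D : ℚ)
    (hC : 0 ≤ C) (hD : 0 ≤ D) (N k jj : ℕ)
    (hb0 : ∀ c, (r + 1) * (2 * c) ≤ N → (r + 1) * c ≤ k ∧
      (AO q r (N - (r + 1) * (2 * c)) : ℚ) ≤ C * (q : ℚ) ^ (k - (r + 1) * c))
    (hb1 : ∀ c, (r + 1) * (2 * c + 1) ≤ N → (r + 1) * c + jj ≤ k ∧
      (AO q r (N - (r + 1) * (2 * c + 1)) : ℚ) ≤ D * (q : ℚ) ^ (k - ((r + 1) * c + jj))) :
    (AO q (r + 1) N : ℚ) ≤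
      ((C * Pe ((1 / (q : ℚ)) ^ (r + 1)) + D * (1 / (q : ℚ)) ^ jj * Po ((1 / (q : ℚ)) ^ (r + 1))) /
        (1 - (1 / (q : ℚ)) ^ r)) * (q : ℚ) ^ k := by
  have hq1 : (2 : ℚ) ≤ q := by exact_mod_cast hq
  have hq0 : (q : ℚ) ≠ 0 := by linarith
  set z : ℚ := (1 / (q : ℚ)) ^ (r + 1) with hz
  have hz0 : 0 ≤ z := by rw [hz]; positivity
  have hqz : (q : ℚ) * z = (1 / (q : ℚ)) ^ r := qz_eq q r hq
  have hx1 : (1 / (q : ℚ)) ^ r < 1 := x_pow_lt_one q r hq hr
  have hqz1 : (q : ℚ) * z < 1 := by rw [hqz]; exact hx1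
  have hden : 0 < 1 - (1 / (q : ℚ)) ^ r := by linarith
  rw [AO_succ_odd q r N hodd]
  push_cast
  set B := N / (r + 1) + 1 with hB
  -- truncated terms
  let f : ℕ → ℚ := fun b => if (r + 1) * b ≤ N then (Wev q b : ℚ) * (AO q r (N - (r + 1) * b) : ℚ) else 0
  have hf0 : ∀ b, 0 ≤ f b := by
    intro b
    simp only [f]
    split_ifs
    · positivity
    · exact le_rfl
  have h1 : ∑ b ∈ Finset.range B, (Wev q b : ℚ) * (AO q r (N - (r + 1) * b) : ℚ) =
      ∑ b ∈ Finset.range B, f b := by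
    apply Finset.sum_congr rfl
    intro b hb
    rw [Finset.mem_range] at hb
    have hb1' : b ≤ N / (r + 1) := by omega
    have hb2 : b * (r + 1) ≤ N := (Nat.le_div_iff_mul_le (Nat.succ_pos r)).mp hb1'
    simp only [f]
    rw [if_pos (by rw [mul_comm]; exact hb2)]
  rw [h1]
  refine (sum_parity f hf0 B).trans ?_
  -- even part
  have he : ∑ c ∈ Finset.range B, f (2 * c) ≤
      ∑ c ∈ Finset.range B, C * (q : ℚ) ^ k * ((Wev q (2 * c) : ℚ) * z ^ c) := by
    apply Finset.sum_le_sum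
    intro c _
    simp only [f]
    split_ifs with hc
    · obtain ⟨h1, h2⟩ := hb0 c hc
      calc (Wev q (2 * c) : ℚ) * (AO q r (N - (r + 1) * (2 * c)) : ℚ)
          ≤ (Wev q (2 * c) : ℚ) * (C * (q : ℚ) ^ (k - (r + 1) * c)) :=
            mul_le_mul_of_nonneg_left h2 (by positivity)
        _ = C * (q : ℚ) ^ k * ((Wev q (2 * c) : ℚ) * z ^ c) := by
            rw [qpow_sub q hq k _ h1, hz, ← pow_mul]
            ring
    · positivity
  have ho : ∑ c ∈ Finset.range B, f (2 * c + 1) ≤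
      ∑ c ∈ Finset.range B,
        D * (1 / (q : ℚ)) ^ jj * (q : ℚ) ^ k * ((Wev q (2 * c + 1) : ℚ) * z ^ c) := by
    apply Finset.sum_le_sum
    intro c _
    simp only [f]
    split_ifs with hc
    · obtain ⟨h1, h2⟩ := hb1 c hc
      calc (Wev q (2 * c + 1) : ℚ) * (AO q r (N - (r + 1) * (2 * c + 1)) : ℚ)
          ≤ (Wev q (2 * c + 1) : ℚ) * (D * (q : ℚ) ^ (k - ((r + 1) * c + jj))) :=
            mul_le_mul_of_nonneg_left h2 (by positivity)
        _ = D * (1 / (q : ℚ)) ^ jj * (q : ℚ) ^ k * ((Wev q (2 * c + 1) : ℚ) * z ^ c) := by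
            rw [qpow_sub q hq k _ h1, hz, ← pow_mul, pow_add]
            ring
    · positivity
  have ge := gf_even q z hz0 hqz1 B
  have go := gf_odd q z hz0 hqz1 B
  rw [hqz] at ge go
  have hCk : 0 ≤ C * (q : ℚ) ^ k := by positivity
  have hDk : 0 ≤ D * (1 / (q : ℚ)) ^ jj * (q : ℚ) ^ k := by positivity
  calc ∑ c ∈ Finset.range B, f (2 * c) + ∑ c ∈ Finset.range B, f (2 * c + 1)
      ≤ C * (q : ℚ) ^ k * ((1 + 6 * z + z ^ 2) / (1 - (1 / (q : ℚ)) ^ r)) +
        D * (1 / (q : ℚ)) ^ jj * (q : ℚ) ^ k * ((4 + 4 * z) / (1 - (1 / (q : ℚ)) ^ r)) := by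
        apply add_le_add
        · refine he.trans ?_
          rw [← Finset.mul_sum]
          exact mul_le_mul_of_nonneg_left ge hCk
        · refine ho.trans ?_
          rw [← Finset.mul_sum]
          exact mul_le_mul_of_nonneg_left go hDk
    _ = ((C * Pe z + D * (1 / (q : ℚ)) ^ jj * Po z) / (1 - (1 / (q : ℚ)) ^ r)) * (q : ℚ) ^ k := by
        unfold Pe Po
        field_simp

/-- the odd step -/
theorem step_odd (q r : ℕ) (hq : 2 ≤ q) (hr : 1 ≤ r) (hodd : ¬ Even (r + 1)) (E O : ℚ)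
    (hE : 0 ≤ E) (hO : 0 ≤ O) (h : St q r E O) :
    St q (r + 1) (stepE q r E O) (stepO q r E O) := by
  obtain ⟨j, hj⟩ : ∃ j, r = 2 * j := by
    rcases Nat.even_or_odd' r with ⟨j, hj | hj⟩
    · exact ⟨j, hj⟩
    · exfalso
      apply hodd
      exact ⟨j + 1, by omega⟩
  have hj2 : r / 2 = j := by omega
  constructor
  · intro k
    unfold stepE
    rw [hj2]
    apply odd_key q r hq hr hodd E O hE hO (2 * k) k (j + 1)
    · intro c hc
      have h1 : (r + 1) * c ≤ k := by nlinarith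
      refine ⟨h1, ?_⟩
      have : 2 * k - (r + 1) * (2 * c) = 2 * (k - (r + 1) * c) := by
        rw [Nat.mul_sub]
        congr 1
        ring
      rw [this]
      exact h.1 _
    · intro c hc
      have h1 : (r + 1) * c + (j + 1) ≤ k := by
        have : (r + 1) * (2 * c + 1) = 2 * ((r + 1) * c + j) + 1 := by rw [hj]; ring
        omega
      refine ⟨h1, ?_⟩
      have : 2 * k - (r + 1) * (2 * c + 1) = 2 * (k - ((r + 1) * c + (j + 1))) + 1 := by
        have : (r + 1) * (2 * c + 1) = 2 * ((r + 1) * c + j) + 1 := by rw [hj]; ring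
        omega
      rw [this]
      exact h.2 _
  · intro k
    unfold stepO
    rw [hj2]
    apply odd_key q r hq hr hodd O E hO hE (2 * k + 1) k j
    · intro c hc
      have h1 : (r + 1) * c ≤ k := by
        have : (r + 1) * (2 * c) = 2 * ((r + 1) * c) := by ring
        omega
      refine ⟨h1, ?_⟩
      have : 2 * k + 1 - (r + 1) * (2 * c) = 2 * (k - (r + 1) * c) + 1 := by
        have : (r + 1) * (2 * c) = 2 * ((r + 1) * c) := by ring
        omega
      rw [this]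
      exact h.2 _
    · intro c hc
      have h1 : (r + 1) * c + j ≤ k := by
        have : (r + 1) * (2 * c + 1) = 2 * ((r + 1) * c + j) + 1 := by rw [hj]; ring
        omega
      refine ⟨h1, ?_⟩
      have : 2 * k + 1 - (r + 1) * (2 * c + 1) = 2 * (k - ((r + 1) * c + j)) := by
        have : (r + 1) * (2 * c + 1) = 2 * ((r + 1) * c + j) + 1 := by rw [hj]; ring
        omega
      rw [this]
      exact h.1 _

/-- the first state -/
theorem st_one (q : ℕ) (hq : 2 ≤ q) :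
    St q 1 (1 + 6 * (1 / (q : ℚ)) + (1 / (q : ℚ)) ^ 2) (4 + 4 * (1 / (q : ℚ))) := by
  constructor
  · intro k
    rw [AO_one]
    exact Wev_even_le q k hq
  · intro k
    rw [AO_one]
    exact Wev_odd_le q k hq

end NUMO

end Cfsg.Agent.S2558P
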