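import Mathlib
import Cfsg.Agent.Helper29.S2558CDefs
import Cfsg.Agent.Helper29.S2558NUMB

/-! S2558 chapter (C), piece NUMO, part C: the invariant `E ≤ K (1 - c/q^i)`, `O ≤ ρ K (1 - c/q^i)` and
the bound `AO q r (2k) ≤ K q^k`. -/

set_option autoImplicit false
set_option linter.unusedVariables false

namespace Cfsg.Agent.S2558P

open Cfsg.Agent.S2482P

namespace NUMO

/-- the polynomial inequality behind the invariant -/
theorem poly_ineq (x y lam c : ℚ) (hx0 : 0 < x) (hx : x ≤ 1 / 3) (hy0 : 0 < y) (hy : y ≤ x)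
    (hl0 : 0 ≤ lam) (hl1 : lam ≤ 1) (hc0 : 0 ≤ c) (hcy : c * y ≤ 1) (h1 : 4 * lam ≤ c * (1 - x))
    (h2 : 4 ≤ 4 * lam * c) :
    (1 - c * y) * (Pe (x * y ^ 2) + lam * y * Po (x * y ^ 2)) ≤
      (1 - c * (x * y)) * (1 - y ^ 2) * (1 - x * y ^ 2) := by
  unfold Pe Po
  have hy3 : y ≤ 1 / 3 := hy.trans hx
  have hxy : x * y ≤ 1 / 9 := by
    have : x * y ≤ (1 / 3) * (1 / 3) := mul_le_mul hx hy3 hy0.le (by norm_num)
    linarith
  -- the left hand side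
  have hk : 6 * (x * y ^ 2) + (x * y ^ 2) ^ 2 + lam * y * (4 * (x * y ^ 2)) ≤ (5 / 2) * y ^ 2 := by
    have e : 6 * (x * y ^ 2) + (x * y ^ 2) ^ 2 + lam * y * (4 * (x * y ^ 2)) =
        y ^ 2 * (6 * x + (x * y) ^ 2 + 4 * lam * (x * y)) := by ring
    rw [e, mul_comm (5 / 2 : ℚ)]
    apply mul_le_mul_of_nonneg_left _ (by positivity)
    have a1 : (x * y) ^ 2 ≤ (1 / 9) ^ 2 := pow_le_pow_left₀ (by positivity) hxy 2
    have a2 : 4 * lam * (x * y) ≤ 4 * 1 * (1 / 9) := by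
      apply mul_le_mul _ hxy (by positivity) (by norm_num)
      linarith
    linarith
  have hcy0 : 0 ≤ 1 - c * y := by linarith
  have hL : (1 - c * y) * (1 + 6 * (x * y ^ 2) + (x * y ^ 2) ^ 2 + lam * y * (4 + 4 * (x * y ^ 2))) ≤
      (1 - c * y) * (1 + 4 * lam * y + (5 / 2) * y ^ 2) := by
    apply mul_le_mul_of_nonneg_left _ hcy0
    linarith
  refine hL.trans ?_
  -- the right hand side
  have hcxy : c * (x * y) ≤ 1 := by
    have : c * (x * y) = x * (c * y) := by ring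
    rw [this]
    have : x * (c * y) ≤ 1 * 1 := mul_le_mul (by linarith) hcy (by positivity) (by norm_num)
    linarith
  have hR : 1 - c * (x * y) - (y ^ 2 + x * y ^ 2) ≤
      (1 - c * (x * y)) * (1 - y ^ 2) * (1 - x * y ^ 2) := by
    have e : (1 - c * (x * y)) * (1 - y ^ 2) * (1 - x * y ^ 2) =
        1 - c * (x * y) - (y ^ 2 + x * y ^ 2) +
          (c * (x * y) * (y ^ 2 + x * y ^ 2) + (1 - c * (x * y)) * (x * y ^ 4)) := by ring
    rw [e]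
    have : 0 ≤ c * (x * y) * (y ^ 2 + x * y ^ 2) + (1 - c * (x * y)) * (x * y ^ 4) := by
      have : 0 ≤ 1 - c * (x * y) := by linarith
      positivity
    linarith
  refine le_trans ?_ hR
  have e : 1 - c * (x * y) - (y ^ 2 + x * y ^ 2) - (1 - c * y) * (1 + 4 * lam * y + (5 / 2) * y ^ 2) =
      y * ((c * (1 - x) - 4 * lam) + (4 * lam * c - 7 / 2 - x) * y + (5 / 2) * c * y ^ 2) := by ring
  have hpos : 0 ≤ y * ((c * (1 - x) - 4 * lam) + (4 * lam * c - 7 / 2 - x) * y +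
      (5 / 2) * c * y ^ 2) := by
    apply mul_nonneg hy0.le
    have a1 : 0 ≤ c * (1 - x) - 4 * lam := by linarith
    have a2 : 0 ≤ (4 * lam * c - 7 / 2 - x) * y := by
      apply mul_nonneg _ hy0.le
      linarith
    have a3 : 0 ≤ (5 / 2) * c * y ^ 2 := by positivity
    linarith
  linarith

/-- the invariant after the steps `m ≤ 2 i` -/
def Inv (q i : ℕ) (K c ρ : ℚ) : Prop :=
  ∃ E O : ℚ, 0 ≤ E ∧ 0 ≤ O ∧ E ≤ K * (1 - c * (1 / (q : ℚ)) ^ i) ∧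
    O ≤ ρ * K * (1 - c * (1 / (q : ℚ)) ^ i) ∧ St q (2 * i) E O

/-- the quantities of one double step in terms of `x = 1/q`, `y = x^i` -/
theorem double_step (q i : ℕ) (hq : 3 ≤ q) (hi : 1 ≤ i) (E O : ℚ) :
    stepE q (2 * i) E O * gE q (2 * i + 1) =
      (E * Pe ((1 / (q : ℚ)) * ((1 / (q : ℚ)) ^ i) ^ 2) +
        O * ((1 / (q : ℚ)) * (1 / (q : ℚ)) ^ i) * Po ((1 / (q : ℚ)) * ((1 / (q : ℚ)) ^ i) ^ 2)) /
        ((1 - ((1 / (q : ℚ)) ^ i) ^ 2) * (1 - (1 / (q : ℚ)) * ((1 / (q : ℚ)) ^ i) ^ 2)) ∧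
    stepO q (2 * i) E O * gE q (2 * i + 1) =
      (O * Pe ((1 / (q : ℚ)) * ((1 / (q : ℚ)) ^ i) ^ 2) +
        E * (1 / (q : ℚ)) ^ i * Po ((1 / (q : ℚ)) * ((1 / (q : ℚ)) ^ i) ^ 2)) /
        ((1 - ((1 / (q : ℚ)) ^ i) ^ 2) * (1 - (1 / (q : ℚ)) * ((1 / (q : ℚ)) ^ i) ^ 2)) := by
  have e1 : (1 / (q : ℚ)) ^ (2 * i + 1) = (1 / (q : ℚ)) * ((1 / (q : ℚ)) ^ i) ^ 2 := by
    rw [pow_succ, ← pow_mul, mul_comm i 2, mul_comm]
  have e2 : (1 / (q : ℚ)) ^ (2 * i / 2 + 1) = (1 / (q : ℚ)) * (1 / (q : ℚ)) ^ i := by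
    rw [Nat.mul_div_cancel_left i (by norm_num : 0 < 2), pow_succ, mul_comm]
  have e3 : (1 / (q : ℚ)) ^ (2 * i / 2) = (1 / (q : ℚ)) ^ i := by
    rw [Nat.mul_div_cancel_left i (by norm_num : 0 < 2)]
  have e4 : (1 / (q : ℚ)) ^ (2 * i) = ((1 / (q : ℚ)) ^ i) ^ 2 := by
    rw [← pow_mul, mul_comm i 2]
  unfold stepE stepO gE
  rw [e1, e2, e3, e4]
  constructor <;> rw [div_mul_div_comm, mul_one]

theorem Pe_nonneg (z : ℚ) (hz : 0 ≤ z) : 0 ≤ Pe z := by unfold Pe; positivity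

theorem Po_nonneg (z : ℚ) (hz : 0 ≤ z) : 0 ≤ Po z := by unfold Po; positivity

/-- the rational inequalities of one double step -/
theorem inv_step_real (x y E O K c ρ lam : ℚ) (hx0 : 0 < x) (hx : x ≤ 1 / 3) (hy0 : 0 < y)
    (hy : y ≤ x) (hE0 : 0 ≤ E) (hO0 : 0 ≤ O) (hK : 0 ≤ K) (hρ : 0 < ρ)
    (hlE : ρ * x ≤ lam) (hlO : 1 / ρ ≤ lam) (hl1 : lam ≤ 1) (hc0 : 0 ≤ c)
    (hcy : c * y ≤ 1) (h1 : 4 * lam ≤ c * (1 - x)) (h2 : 4 ≤ 4 * lam * c)
    (hE : E ≤ K * (1 - c * y)) (hO : O ≤ ρ * K * (1 - c * y)) :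
    (E * Pe (x * y ^ 2) + O * (x * y) * Po (x * y ^ 2)) / ((1 - y ^ 2) * (1 - x * y ^ 2)) ≤
        K * (1 - c * (x * y)) ∧
    (O * Pe (x * y ^ 2) + E * y * Po (x * y ^ 2)) / ((1 - y ^ 2) * (1 - x * y ^ 2)) ≤
        ρ * K * (1 - c * (x * y)) := by
  have hl0 : 0 ≤ lam := le_trans (by positivity) hlO
  have hpoly := poly_ineq x y lam c hx0 hx hy0 hy hl0 hl1 hc0 hcy h1 h2
  have hy3 : y ≤ 1 / 3 := hy.trans hx
  have hy2 : 0 < 1 - y ^ 2 := by nlinarith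
  have hxy2 : 0 < 1 - x * y ^ 2 := by nlinarith
  have hden : 0 < (1 - y ^ 2) * (1 - x * y ^ 2) := mul_pos hy2 hxy2
  have hz0 : 0 ≤ x * y ^ 2 := by positivity
  have hPe : 0 ≤ Pe (x * y ^ 2) := Pe_nonneg _ hz0
  have hPo : 0 ≤ Po (x * y ^ 2) := Po_nonneg _ hz0
  have hcy0 : 0 ≤ 1 - c * y := by linarith
  have hKc : 0 ≤ K * (1 - c * y) := mul_nonneg hK hcy0
  constructor
  · rw [div_le_iff₀ hden]
    have a1 : E * Pe (x * y ^ 2) ≤ K * (1 - c * y) * Pe (x * y ^ 2) :=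
      mul_le_mul_of_nonneg_right hE hPe
    have a2 : O * (x * y) * Po (x * y ^ 2) ≤ K * (1 - c * y) * (lam * y * Po (x * y ^ 2)) := by
      have b1 : O * (x * y) ≤ ρ * K * (1 - c * y) * (x * y) :=
        mul_le_mul_of_nonneg_right hO (by positivity)
      have b2 : ρ * K * (1 - c * y) * (x * y) ≤ K * (1 - c * y) * (lam * y) := by
        have e1 : ρ * K * (1 - c * y) * (x * y) = K * (1 - c * y) * y * (ρ * x) := by ring
        have e2 : K * (1 - c * y) * (lam * y) = K * (1 - c * y) * y * lam := by ring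
        rw [e1, e2]
        exact mul_le_mul_of_nonneg_left hlE (mul_nonneg hKc hy0.le)
      have := mul_le_mul_of_nonneg_right (b1.trans b2) hPo
      calc O * (x * y) * Po (x * y ^ 2) ≤ K * (1 - c * y) * (lam * y) * Po (x * y ^ 2) := this
        _ = K * (1 - c * y) * (lam * y * Po (x * y ^ 2)) := by ring
    have a3 : K * ((1 - c * y) * (Pe (x * y ^ 2) + lam * y * Po (x * y ^ 2))) ≤
        K * ((1 - c * (x * y)) * (1 - y ^ 2) * (1 - x * y ^ 2)) :=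
      mul_le_mul_of_nonneg_left hpoly hK
    calc E * Pe (x * y ^ 2) + O * (x * y) * Po (x * y ^ 2)
        ≤ K * (1 - c * y) * Pe (x * y ^ 2) + K * (1 - c * y) * (lam * y * Po (x * y ^ 2)) :=
          add_le_add a1 a2
      _ = K * ((1 - c * y) * (Pe (x * y ^ 2) + lam * y * Po (x * y ^ 2))) := by ring
      _ ≤ K * ((1 - c * (x * y)) * (1 - y ^ 2) * (1 - x * y ^ 2)) := a3
      _ = K * (1 - c * (x * y)) * ((1 - y ^ 2) * (1 - x * y ^ 2)) := by ring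
  · rw [div_le_iff₀ hden]
    have a1 : O * Pe (x * y ^ 2) ≤ ρ * K * (1 - c * y) * Pe (x * y ^ 2) :=
      mul_le_mul_of_nonneg_right hO hPe
    have a2 : E * y * Po (x * y ^ 2) ≤ ρ * K * (1 - c * y) * (lam * y * Po (x * y ^ 2)) := by
      have b1 : E * y ≤ K * (1 - c * y) * y := mul_le_mul_of_nonneg_right hE hy0.le
      have b2 : K * (1 - c * y) * y ≤ ρ * K * (1 - c * y) * (lam * y) := by
        have e : ρ * K * (1 - c * y) * (lam * y) = K * (1 - c * y) * y * (ρ * lam) := by ring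
        rw [e]
        have hρl : 1 ≤ ρ * lam := by
          have := mul_le_mul_of_nonneg_left hlO hρ.le
          rwa [mul_one_div_cancel hρ.ne'] at this
        have hnn : 0 ≤ K * (1 - c * y) * y := mul_nonneg hKc hy0.le
        nlinarith
      have := mul_le_mul_of_nonneg_right (b1.trans b2) hPo
      calc E * y * Po (x * y ^ 2) ≤ ρ * K * (1 - c * y) * (lam * y) * Po (x * y ^ 2) := this
        _ = ρ * K * (1 - c * y) * (lam * y * Po (x * y ^ 2)) := by ring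
    have a3 : ρ * K * ((1 - c * y) * (Pe (x * y ^ 2) + lam * y * Po (x * y ^ 2))) ≤
        ρ * K * ((1 - c * (x * y)) * (1 - y ^ 2) * (1 - x * y ^ 2)) :=
      mul_le_mul_of_nonneg_left hpoly (by positivity)
    calc O * Pe (x * y ^ 2) + E * y * Po (x * y ^ 2)
        ≤ ρ * K * (1 - c * y) * Pe (x * y ^ 2) + ρ * K * (1 - c * y) * (lam * y * Po (x * y ^ 2)) :=
          add_le_add a1 a2
      _ = ρ * K * ((1 - c * y) * (Pe (x * y ^ 2) + lam * y * Po (x * y ^ 2))) := by ring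
      _ ≤ ρ * K * ((1 - c * (x * y)) * (1 - y ^ 2) * (1 - x * y ^ 2)) := a3
      _ = ρ * K * (1 - c * (x * y)) * ((1 - y ^ 2) * (1 - x * y ^ 2)) := by ring

theorem stepE_nonneg (q r : ℕ) (hq : 2 ≤ q) (hr : 1 ≤ r) (E O : ℚ) (hE0 : 0 ≤ E) (hO0 : 0 ≤ O) :
    0 ≤ stepE q r E O := by
  unfold stepE
  have hx := x_pow_lt_one q r hq hr
  apply div_nonneg
  · exact add_nonneg (mul_nonneg hE0 (Pe_nonneg _ (by positivity)))
      (mul_nonneg (mul_nonneg hO0 (by positivity)) (Po_nonneg _ (by positivity)))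
  · linarith

theorem stepO_nonneg (q r : ℕ) (hq : 2 ≤ q) (hr : 1 ≤ r) (E O : ℚ) (hE0 : 0 ≤ E) (hO0 : 0 ≤ O) :
    0 ≤ stepO q r E O := by
  unfold stepO
  have hx := x_pow_lt_one q r hq hr
  apply div_nonneg
  · exact add_nonneg (mul_nonneg hO0 (Pe_nonneg _ (by positivity)))
      (mul_nonneg (mul_nonneg hE0 (by positivity)) (Po_nonneg _ (by positivity)))
  · linarith

theorem Inv_succ (q i : ℕ) (hq : 3 ≤ q) (hi : 1 ≤ i) (K c ρ lam : ℚ) (hK : 0 ≤ K) (hρ : 0 < ρ)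
    (hlE : ρ * (1 / (q : ℚ)) ≤ lam) (hlO : 1 / ρ ≤ lam) (hl1 : lam ≤ 1) (hc0 : 0 ≤ c)
    (hcy : c * (1 / (q : ℚ)) ^ i ≤ 1) (h1 : 4 * lam ≤ c * (1 - 1 / (q : ℚ))) (h2 : 4 ≤ 4 * lam * c)
    (h : Inv q i K c ρ) : Inv q (i + 1) K c ρ := by
  obtain ⟨E, O, hE0, hO0, hE, hO, hst⟩ := h
  have hq1 : (3 : ℚ) ≤ q := by exact_mod_cast hq
  have hodd : ¬ Even (2 * i + 1) := by
    intro h
    rcases h with ⟨k, hk⟩
    omega
  have heven : Even (2 * i + 1 + 1) := ⟨i + 1, by ring⟩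
  have s1 := step_odd q (2 * i) (by omega) (by omega) hodd E O hE0 hO0 hst
  have hx0 : (0 : ℚ) < 1 / (q : ℚ) := by positivity
  have hx3 : 1 / (q : ℚ) ≤ 1 / 3 := one_div_le_one_div_of_le (by norm_num) hq1
  have hy0 : 0 < (1 / (q : ℚ)) ^ i := by positivity
  have hyx : (1 / (q : ℚ)) ^ i ≤ 1 / (q : ℚ) := by
    calc (1 / (q : ℚ)) ^ i ≤ (1 / (q : ℚ)) ^ 1 := pow_le_pow_of_le_one hx0.le (by linarith) hi
      _ = 1 / (q : ℚ) := pow_one _
  have hds := double_step q i hq hi E O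
  have hreal := inv_step_real (1 / (q : ℚ)) ((1 / (q : ℚ)) ^ i) E O K c ρ lam hx0 hx3 hy0 hyx hE0 hO0
    hK hρ hlE hlO hl1 hc0 hcy h1 h2 hE hO
  have e5 : (1 / (q : ℚ)) ^ (i + 1) = (1 / (q : ℚ)) * (1 / (q : ℚ)) ^ i := by
    rw [pow_succ, mul_comm]
  have hE1 : 0 ≤ stepE q (2 * i) E O := stepE_nonneg q _ (by omega) (by omega) E O hE0 hO0
  have hO1 : 0 ≤ stepO q (2 * i) E O := stepO_nonneg q _ (by omega) (by omega) E O hE0 hO0
  have s2 := step_even q (2 * i + 1) (by omega) (by omega) heven _ _ hE1 hO1 s1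
  have hg : 0 ≤ gE q (2 * i + 1) := gE_nonneg q _ (by omega) (by omega)
  refine ⟨stepE q (2 * i) E O * gE q (2 * i + 1), stepO q (2 * i) E O * gE q (2 * i + 1),
    mul_nonneg hE1 hg, mul_nonneg hO1 hg, ?_, ?_, ?_⟩
  · rw [hds.1, e5]
    exact hreal.1
  · rw [hds.2, e5]
    exact hreal.2
  · rw [show 2 * (i + 1) = 2 * i + 1 + 1 by ring]
    exact s2

end NUMO

end Cfsg.Agent.S2558P
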