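import Mathlib
import Cfsg.Agent.Helper29.S2558CDefs
import Cfsg.Agent.Helper29.S2558NUMC

/-! S2558 chapter (C), piece NUMO, part D: monotonicity in `r`, the invariant for all `i`, the bound
`AO q r (2k) ≤ K q^k`, and the base cases. -/

set_option autoImplicit false
set_option linter.unusedVariables false

namespace Cfsg.Agent.S2558P

open Cfsg.Agent.S2482P

namespace NUMO

theorem Wev_zero (q : ℕ) : Wev q 0 = 1 := by
  unfold Wev SR
  simp

theorem AO_mono_succ (q r N : ℕ) : AO q r N ≤ AO q (r + 1) N := by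
  by_cases h : Even (r + 1)
  · rw [AO_succ_even q r N h]
    have h0 : (0 : ℕ) ∈ Finset.range (N / (2 * (r + 1)) + 1) := by
      rw [Finset.mem_range]; exact Nat.succ_pos _
    have := Finset.single_le_sum (f := fun a => q ^ a * AO q r (N - 2 * (r + 1) * a))
      (fun a _ => Nat.zero_le _) h0
    simpa using this
  · rw [AO_succ_odd q r N h]
    have h0 : (0 : ℕ) ∈ Finset.range (N / (r + 1) + 1) := by
      rw [Finset.mem_range]; exact Nat.succ_pos _
    have := Finset.single_le_sum (f := fun b => Wev q b * AO q r (N - (r + 1) * b))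
      (fun a _ => Nat.zero_le _) h0
    simpa [Wev_zero] using this

theorem AO_mono (q N : ℕ) {r r' : ℕ} (h : r ≤ r') : AO q r N ≤ AO q r' N := by
  induction r', h using Nat.le_induction with
  | base => exact le_rfl
  | succ r' _ ih => exact ih.trans (AO_mono_succ q r' N)

theorem St_mono (q r : ℕ) {E O E' O' : ℚ} (h : St q r E O) (hE : E ≤ E') (hO : O ≤ O') :
    St q r E' O' := by
  constructor
  · intro k
    exact (h.1 k).trans (mul_le_mul_of_nonneg_right hE (by positivity))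
  · intro k
    exact (h.2 k).trans (mul_le_mul_of_nonneg_right hO (by positivity))

/-- the invariant for all `i ≥ i₀` -/
theorem Inv_all (q i₀ : ℕ) (hq : 3 ≤ q) (hi₀ : 1 ≤ i₀) (K c ρ lam : ℚ) (hK : 0 ≤ K) (hρ : 0 < ρ)
    (hlE : ρ * (1 / (q : ℚ)) ≤ lam) (hlO : 1 / ρ ≤ lam) (hl1 : lam ≤ 1) (hc0 : 0 ≤ c)
    (hcy : c * (1 / (q : ℚ)) ^ i₀ ≤ 1) (h1 : 4 * lam ≤ c * (1 - 1 / (q : ℚ))) (h2 : 4 ≤ 4 * lam * c)
    (h : Inv q i₀ K c ρ) : ∀ i, i₀ ≤ i → Inv q i K c ρ := by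
  have hq1 : (3 : ℚ) ≤ q := by exact_mod_cast hq
  have hx0 : (0 : ℚ) ≤ 1 / (q : ℚ) := by positivity
  have hx1 : 1 / (q : ℚ) ≤ 1 := by
    rw [div_le_one (by linarith)]
    linarith
  intro i hi
  induction i, hi using Nat.le_induction with
  | base => exact h
  | succ i hi ih =>
    apply Inv_succ q i hq (hi₀.trans hi) K c ρ lam hK hρ hlE hlO hl1 hc0 _ h1 h2 ih
    have : (1 / (q : ℚ)) ^ i ≤ (1 / (q : ℚ)) ^ i₀ := pow_le_pow_of_le_one hx0 hx1 hi
    exact (mul_le_mul_of_nonneg_left this hc0).trans hcy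

/-- the bound from the invariant -/
theorem bound_of_Inv (q i : ℕ) (K c ρ : ℚ) (hK : 0 ≤ K) (hc0 : 0 ≤ c) (h : Inv q i K c ρ) (k : ℕ) :
    (AO q (2 * i) (2 * k) : ℚ) ≤ K * (q : ℚ) ^ k := by
  obtain ⟨E, O, hE0, hO0, hE, hO, hst⟩ := h
  refine (hst.1 k).trans (mul_le_mul_of_nonneg_right ?_ (by positivity))
  refine hE.trans ?_
  have : 0 ≤ c * (1 / (q : ℚ)) ^ i := by positivity
  nlinarith

/-- the bound for all `r` -/
theorem bound_all (q i₀ : ℕ) (hq : 3 ≤ q) (hi₀ : 1 ≤ i₀) (K c ρ lam : ℚ) (hK : 0 ≤ K) (hρ : 0 < ρ)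
    (hlE : ρ * (1 / (q : ℚ)) ≤ lam) (hlO : 1 / ρ ≤ lam) (hl1 : lam ≤ 1) (hc0 : 0 ≤ c)
    (hcy : c * (1 / (q : ℚ)) ^ i₀ ≤ 1) (h1 : 4 * lam ≤ c * (1 - 1 / (q : ℚ))) (h2 : 4 ≤ 4 * lam * c)
    (h : Inv q i₀ K c ρ) (r k : ℕ) : (AO q r (2 * k) : ℚ) ≤ K * (q : ℚ) ^ k := by
  have hinv := Inv_all q i₀ hq hi₀ K c ρ lam hK hρ hlE hlO hl1 hc0 hcy h1 h2 h (max i₀ r)
    (le_max_left _ _)
  have hb := bound_of_Inv q (max i₀ r) K c ρ hK hc0 hinv k
  have hm : AO q r (2 * k) ≤ AO q (2 * max i₀ r) (2 * k) := by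
    apply AO_mono
    have := le_max_right i₀ r
    omega
  have hm' : (AO q r (2 * k) : ℚ) ≤ (AO q (2 * max i₀ r) (2 * k) : ℚ) := by exact_mod_cast hm
  exact hm'.trans hb

/-- one double step `2 i → 2 i + 2` -/
theorem double_St (q i : ℕ) (hq : 2 ≤ q) (hi : 1 ≤ i) (E O : ℚ) (hE0 : 0 ≤ E) (hO0 : 0 ≤ O)
    (h : St q (2 * i) E O) :
    St q (2 * i + 1 + 1) (stepE q (2 * i) E O * gE q (2 * i + 1))
      (stepO q (2 * i) E O * gE q (2 * i + 1)) := by
  have hodd : ¬ Even (2 * i + 1) := by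
    intro h
    rcases h with ⟨k, hk⟩
    omega
  have heven : Even (2 * i + 1 + 1) := ⟨i + 1, by ring⟩
  have s1 := step_odd q (2 * i) hq (by omega) hodd E O hE0 hO0 h
  have hE1 : 0 ≤ stepE q (2 * i) E O := stepE_nonneg q _ hq (by omega) E O hE0 hO0
  have hO1 : 0 ≤ stepO q (2 * i) E O := stepO_nonneg q _ hq (by omega) E O hE0 hO0
  exact step_even q (2 * i + 1) hq (by omega) heven _ _ hE1 hO1 s1

/-- the state after the first two steps -/
theorem st_two (q : ℕ) (hq : 2 ≤ q) :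
    St q 2 ((1 + 6 * (1 / (q : ℚ)) + (1 / (q : ℚ)) ^ 2) * gE q 1)
      ((4 + 4 * (1 / (q : ℚ))) * gE q 1) := by
  have s1 := st_one q hq
  have hx0 : (0 : ℚ) ≤ 1 / (q : ℚ) := by positivity
  exact step_even q 1 hq le_rfl ⟨1, rfl⟩ _ _ (by positivity) (by positivity) s1

/-- the base case for `q = 3` -/
theorem Inv_three : Inv 3 4 (33 / 2) 4 (7 / 4) := by
  have s2 : St 3 2 (14 / 3) 8 := by
    refine St_mono 3 2 (st_two 3 (by norm_num)) ?_ ?_ <;> norm_num [gE]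
  have s4 : St 3 4 (10979 / 1000) (759 / 40) := by
    have := double_St 3 1 (by norm_num) le_rfl _ _ (by norm_num) (by norm_num) s2
    refine St_mono 3 4 this ?_ ?_ <;> norm_num [stepE, stepO, gE, Pe, Po]
  have s6 : St 3 6 (3577 / 250) (99 / 4) := by
    have := double_St 3 2 (by norm_num) (by norm_num) _ _ (by norm_num) (by norm_num) s4
    refine St_mono 3 6 this ?_ ?_ <;> norm_num [stepE, stepO, gE, Pe, Po]
  have s8 : St 3 8 (15599 / 1000) (6747 / 250) := by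
    have := double_St 3 3 (by norm_num) (by norm_num) _ _ (by norm_num) (by norm_num) s6
    refine St_mono 3 8 this ?_ ?_ <;> norm_num [stepE, stepO, gE, Pe, Po]
  exact ⟨15599 / 1000, 6747 / 250, by norm_num, by norm_num, by norm_num, by norm_num, s8⟩

/-- the base case for `q ≥ 5` -/
theorem Inv_five (q : ℕ) (hq : 5 ≤ q) : Inv q 1 8 3 2 := by
  have hq1 : (5 : ℚ) ≤ q := by exact_mod_cast hq
  have hx0 : (0 : ℚ) < 1 / (q : ℚ) := by positivity
  have hx5 : 1 / (q : ℚ) ≤ 1 / 5 := one_div_le_one_div_of_le (by norm_num) hq1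
  have s2 := st_two q (by omega)
  have hg : 0 ≤ gE q 1 := gE_nonneg q 1 (by omega) le_rfl
  refine ⟨_, _, mul_nonneg (by positivity) hg, mul_nonneg (by positivity) hg, ?_, ?_, s2⟩
  · unfold gE
    rw [pow_one]
    generalize 1 / (q : ℚ) = x at *
    rw [mul_one_div, div_le_iff₀ (by linarith)]
    nlinarith [sq_nonneg (x - 1 / 5)]
  · unfold gE
    rw [pow_one]
    generalize 1 / (q : ℚ) = x at *
    rw [mul_one_div, div_le_iff₀ (by linarith)]
    nlinarith [sq_nonneg (x - 1 / 5)]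

/-- the bound for `AO` -/
theorem AO_le (q : ℕ) (hq : 3 ≤ q) (hodd : Odd q) (r k : ℕ) :
    (AO q r (2 * k) : ℚ) ≤ 33 / 2 * (q : ℚ) ^ k := by
  rcases Nat.lt_or_ge q 5 with h5 | h5
  · have h3 : q = 3 := by
      rcases hodd with ⟨j, hj⟩
      omega
    subst h3
    apply bound_all 3 4 le_rfl (by norm_num) (33 / 2) 4 (7 / 4) (7 / 12) (by norm_num) (by norm_num)
      _ _ (by norm_num) (by norm_num) _ _ (by norm_num) Inv_three r k <;> norm_num
  · have hq1 : (5 : ℚ) ≤ q := by exact_mod_cast h5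
    have hx0 : (0 : ℚ) < 1 / (q : ℚ) := by positivity
    have hx5 : 1 / (q : ℚ) ≤ 1 / 5 := one_div_le_one_div_of_le (by norm_num) hq1
    have h8 := bound_all q 1 hq le_rfl 8 3 2 (1 / 2) (by norm_num) (by norm_num)
      (by linarith) (by norm_num) (by norm_num) (by norm_num) (by rw [pow_one]; linarith)
      (by linarith) (by norm_num) (Inv_five q h5) r k
    have : (0 : ℚ) ≤ (q : ℚ) ^ k := by positivity
    linarith

end NUMO

end Cfsg.Agent.S2558P
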