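import Mathlib
import Cfsg.Agent.Helper29.S2558CDefs
import Cfsg.Agent.Helper29.S2558NUMD

/-! S2558 chapter (C), piece NUMO, part E: the tuples without slot, `AOfree q r (2k) ≤ 2 q^k`, and the
final bound `AO + AOfree ≤ 19 q^n`. -/

set_option autoImplicit false
set_option linter.unusedVariables false

namespace Cfsg.Agent.S2558P

open Cfsg.Agent.S2482P

namespace NUMO

theorem AOfree_zero (q N : ℕ) : AOfree q 0 N = if N = 0 then 1 else 0 := by
  rw [AOfree]

theorem AOfree_succ_even (q r N : ℕ) (h : Even (r + 1)) : AOfree q (r + 1) N =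
    ∑ a ∈ Finset.range (N / (2 * (r + 1)) + 1), q ^ a * AOfree q r (N - 2 * (r + 1) * a) := by
  rw [AOfree, if_pos h]

theorem AOfree_succ_odd (q r N : ℕ) (h : ¬ Even (r + 1)) : AOfree q (r + 1) N =
    ∑ b ∈ Finset.range (N / (r + 1) + 1), Wfree q b * AOfree q r (N - (r + 1) * b) := by
  rw [AOfree, if_neg h]

theorem Wfree_zero (q : ℕ) : Wfree q 0 = 1 := by
  unfold Wfree
  simp

theorem Wfree_odd (q c : ℕ) : Wfree q (2 * c + 1) = 0 := by
  unfold Wfree
  rw [if_neg]
  intro h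
  rcases h with ⟨k, hk⟩
  omega

theorem Wfree_even_le (q c : ℕ) (hq : 2 ≤ q) : Wfree q (2 * c) ≤ q ^ c := by
  unfold Wfree
  rw [if_pos ⟨c, by ring⟩]
  rcases c with _ | _ | c
  · simp
  · simp
  · rw [if_neg (by omega), if_neg (by omega)]
    have e1 : 2 * (c + 1 + 1) / 2 = c + 2 := by omega
    rw [e1]
    have e2 : c + 2 - 2 = c := by omega
    have e3 : c + 2 - 1 = c + 1 := by omega
    rw [e2, e3]
    have : q ^ c ≤ 2 * q ^ (c + 1) := by
      rw [pow_succ]
      nlinarith [pow_pos (by omega : 0 < q) c]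
    show q ^ (c + 2) + q ^ c - 2 * q ^ (c + 1) ≤ q ^ (c + 2)
    omega

theorem AOfree_mono_succ (q r N : ℕ) : AOfree q r N ≤ AOfree q (r + 1) N := by
  by_cases h : Even (r + 1)
  · rw [AOfree_succ_even q r N h]
    have h0 : (0 : ℕ) ∈ Finset.range (N / (2 * (r + 1)) + 1) := by
      rw [Finset.mem_range]; exact Nat.succ_pos _
    have := Finset.single_le_sum (f := fun a => q ^ a * AOfree q r (N - 2 * (r + 1) * a))
      (fun a _ => Nat.zero_le _) h0
    simpa using this
  · rw [AOfree_succ_odd q r N h]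
    have h0 : (0 : ℕ) ∈ Finset.range (N / (r + 1) + 1) := by
      rw [Finset.mem_range]; exact Nat.succ_pos _
    have := Finset.single_le_sum (f := fun b => Wfree q b * AOfree q r (N - (r + 1) * b))
      (fun a _ => Nat.zero_le _) h0
    simpa [Wfree_zero] using this

theorem AOfree_mono (q N : ℕ) {r r' : ℕ} (h : r ≤ r') : AOfree q r N ≤ AOfree q r' N := by
  induction r', h using Nat.le_induction with
  | base => exact le_rfl
  | succ r' _ ih => exact ih.trans (AOfree_mono_succ q r' N)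

/-- in both kinds of steps the new count is bounded by the sum of the even kind -/
theorem AOfree_succ_le (q r N : ℕ) (hq : 2 ≤ q) : AOfree q (r + 1) N ≤
    ∑ a ∈ Finset.range (N / (2 * (r + 1)) + 1), q ^ a * AOfree q r (N - 2 * (r + 1) * a) := by
  by_cases h : Even (r + 1)
  · rw [AOfree_succ_even q r N h]
  · rw [AOfree_succ_odd q r N h]
    -- only even `b` contribute
    have hsub : ∑ b ∈ Finset.range (N / (r + 1) + 1), Wfree q b * AOfree q r (N - (r + 1) * b) =
        ∑ b ∈ (Finset.range (N / (r + 1) + 1)).filter (fun b => Even b),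
          Wfree q b * AOfree q r (N - (r + 1) * b) := by
      rw [Finset.sum_filter]
      apply Finset.sum_congr rfl
      intro b _
      split_ifs with hb
      · rfl
      · rcases Nat.even_or_odd' b with ⟨c, hc | hc⟩
        · exact absurd ⟨c, by omega⟩ hb
        · rw [hc, Wfree_odd, zero_mul]
    rw [hsub]
    have hinj : ∀ a ∈ Finset.range (N / (2 * (r + 1)) + 1), 2 * a ∈
        (Finset.range (N / (r + 1) + 1)).filter (fun b => Even b) := by
      intro a ha
      rw [Finset.mem_range] at ha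
      rw [Finset.mem_filter, Finset.mem_range]
      refine ⟨?_, ⟨a, by ring⟩⟩
      have ha1 : a ≤ N / (2 * (r + 1)) := by omega
      have ha2 : a * (2 * (r + 1)) ≤ N := (Nat.le_div_iff_mul_le (by positivity)).mp ha1
      have : 2 * a ≤ N / (r + 1) := by
        rw [Nat.le_div_iff_mul_le (Nat.succ_pos r)]
        nlinarith
      omega
    have himg : (Finset.range (N / (r + 1) + 1)).filter (fun b => Even b) =
        (Finset.range (N / (2 * (r + 1)) + 1)).image (fun a => 2 * a) := by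
      ext b
      rw [Finset.mem_image]
      constructor
      · intro hb
        rw [Finset.mem_filter, Finset.mem_range] at hb
        obtain ⟨hb1, c, hc⟩ := hb
        refine ⟨c, ?_, by omega⟩
        rw [Finset.mem_range]
        have hb2 : b ≤ N / (r + 1) := by omega
        have hb3 : b * (r + 1) ≤ N := (Nat.le_div_iff_mul_le (Nat.succ_pos r)).mp hb2
        have : c ≤ N / (2 * (r + 1)) := by
          rw [Nat.le_div_iff_mul_le (by positivity)]
          rw [hc] at hb3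
          nlinarith
        omega
      · rintro ⟨a, ha, rfl⟩
        exact hinj a ha
    rw [himg, Finset.sum_image (by intro a _ b _ h; dsimp only at h; omega)]
    apply Finset.sum_le_sum
    intro a _
    have e : (r + 1) * (2 * a) = 2 * (r + 1) * a := by ring
    rw [e]
    exact Nat.mul_le_mul_right _ (Wfree_even_le q a hq)

/-- the state of the free count -/
def StF (q r : ℕ) (C : ℚ) : Prop := ∀ k, (AOfree q r (2 * k) : ℚ) ≤ C * (q : ℚ) ^ k

theorem stF_one (q : ℕ) (hq : 2 ≤ q) : StF q 1 1 := by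
  intro k
  have h := AOfree_succ_odd q 0 (2 * k) (by decide)
  rw [zero_add] at h
  have h2 : AOfree q 1 (2 * k) = Wfree q (2 * k) := by
    rw [h, Finset.sum_eq_single (2 * k)]
    · rw [one_mul, Nat.sub_self, AOfree_zero, if_pos rfl, mul_one]
    · intro a ha hne
      rw [Finset.mem_range, Nat.div_one] at ha
      have : 2 * k - 1 * a ≠ 0 := by omega
      rw [AOfree_zero, if_neg this, mul_zero]
    · intro h
      exfalso
      apply h
      rw [Finset.mem_range, Nat.div_one]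
      omega
  rw [h2, one_mul]
  exact_mod_cast Wfree_even_le q k hq

theorem stF_succ (q r : ℕ) (hq : 2 ≤ q) (hr : 1 ≤ r) (C : ℚ) (hC : 0 ≤ C) (h : StF q r C) :
    StF q (r + 1) (C * gE q r) := by
  have hq1 : (2 : ℚ) ≤ q := by exact_mod_cast hq
  have hq0 : (q : ℚ) ≠ 0 := by linarith
  have hx0 : (0 : ℚ) ≤ (1 / (q : ℚ)) ^ r := by positivity
  have hx1 : (1 / (q : ℚ)) ^ r < 1 := x_pow_lt_one q r hq hr
  intro k
  have h0 : (AOfree q (r + 1) (2 * k) : ℚ) ≤
      ∑ a ∈ Finset.range (2 * k / (2 * (r + 1)) + 1),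
        (q : ℚ) ^ a * (AOfree q r (2 * k - 2 * (r + 1) * a) : ℚ) := by
    exact_mod_cast AOfree_succ_le q r (2 * k) hq
  refine h0.trans ?_
  have h1 : ∑ a ∈ Finset.range (2 * k / (2 * (r + 1)) + 1),
      (q : ℚ) ^ a * (AOfree q r (2 * k - 2 * (r + 1) * a) : ℚ) ≤
      ∑ a ∈ Finset.range (2 * k / (2 * (r + 1)) + 1), C * (q : ℚ) ^ k * ((1 / (q : ℚ)) ^ r) ^ a := by
    apply Finset.sum_le_sum
    intro a ha
    rw [Finset.mem_range] at ha
    have ha1 : a ≤ 2 * k / (2 * (r + 1)) := by omega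
    have ha2 : a * (2 * (r + 1)) ≤ 2 * k := (Nat.le_div_iff_mul_le (by positivity)).mp ha1
    have ha' : (r + 1) * a ≤ k := by nlinarith
    have e : 2 * k - 2 * (r + 1) * a = 2 * (k - (r + 1) * a) := by
      rw [Nat.mul_sub, mul_assoc]
    rw [e]
    calc (q : ℚ) ^ a * (AOfree q r (2 * (k - (r + 1) * a)) : ℚ)
        ≤ (q : ℚ) ^ a * (C * (q : ℚ) ^ (k - (r + 1) * a)) :=
          mul_le_mul_of_nonneg_left (h _) (by positivity)
      _ = C * (q : ℚ) ^ k * ((1 / (q : ℚ)) ^ r) ^ a := by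
          rw [qpow_sub q hq k _ ha', ← pow_mul, one_div_pow, one_div_pow,
            show (r + 1) * a = r * a + a by ring, pow_add]
          field_simp
  refine h1.trans ?_
  rw [← Finset.mul_sum]
  have h3 := geom_le _ hx0 hx1 (2 * k / (2 * (r + 1)) + 1)
  have hcoef : 0 ≤ C * (q : ℚ) ^ k := by positivity
  calc C * (q : ℚ) ^ k * ∑ a ∈ Finset.range (2 * k / (2 * (r + 1)) + 1), ((1 / (q : ℚ)) ^ r) ^ a
      ≤ C * (q : ℚ) ^ k * (1 / (1 - (1 / (q : ℚ)) ^ r)) := mul_le_mul_of_nonneg_left h3 hcoef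
    _ = C * gE q r * (q : ℚ) ^ k := by
        unfold gE
        ring

/-- the invariant of the free count: `C ≤ 2 (1 - x^(r-1))` -/
theorem stF_inv (q : ℕ) (hq : 3 ≤ q) (r : ℕ) :
    ∃ C : ℚ, 0 ≤ C ∧ C ≤ 2 * (1 - (1 / (q : ℚ)) ^ (r + 2)) ∧ StF q (r + 3) C := by
  have hq1 : (3 : ℚ) ≤ q := by exact_mod_cast hq
  have hx0 : (0 : ℚ) < 1 / (q : ℚ) := by positivity
  have hx3 : 1 / (q : ℚ) ≤ 1 / 3 := one_div_le_one_div_of_le (by norm_num) hq1
  induction r with
  | zero =>
    have s1 := stF_one q (by omega)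
    have s2 := stF_succ q 1 (by omega) le_rfl 1 zero_le_one s1
    have hg1 : 0 ≤ gE q 1 := gE_nonneg q 1 (by omega) le_rfl
    have s3 := stF_succ q 2 (by omega) (by norm_num) _ (mul_nonneg zero_le_one hg1) s2
    have hg2 : 0 ≤ gE q 2 := gE_nonneg q 2 (by omega) (by norm_num)
    refine ⟨_, mul_nonneg (mul_nonneg zero_le_one hg1) hg2, ?_, s3⟩
    unfold gE
    rw [pow_one, zero_add]
    generalize 1 / (q : ℚ) = x at *
    have h1 : 0 < 1 - x := by linarith
    have h2 : 0 < 1 - x ^ 2 := by nlinarith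
    rw [one_mul, div_mul_div_comm, one_mul, div_le_iff₀ (mul_pos h1 h2)]
    -- `1 ≤ 2 (1 - x^2)^2 (1 - x)`
    have a1 : 2 / 3 ≤ 1 - x := by linarith
    have a2 : 8 / 9 ≤ 1 - x ^ 2 := by nlinarith
    have a3 : (8 / 9 : ℚ) * (8 / 9) ≤ (1 - x ^ 2) * (1 - x ^ 2) :=
      mul_le_mul a2 a2 (by norm_num) (by linarith)
    have a4 : (8 / 9 : ℚ) * (8 / 9) * (2 / 3) ≤ (1 - x ^ 2) * (1 - x ^ 2) * (1 - x) :=
      mul_le_mul a3 a1 (by norm_num) (by nlinarith)
    nlinarith
  | succ r ih =>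
    obtain ⟨C, hC0, hC, hst⟩ := ih
    have s := stF_succ q (r + 3) (by omega) (by omega) C hC0 hst
    have hg : 0 ≤ gE q (r + 3) := gE_nonneg q _ (by omega) (by omega)
    refine ⟨_, mul_nonneg hC0 hg, ?_, s⟩
    unfold gE
    have hy0 : 0 < (1 / (q : ℚ)) ^ (r + 2) := by positivity
    have hy1 : (1 / (q : ℚ)) ^ (r + 2) < 1 := x_pow_lt_one q _ (by omega) (by omega)
    have e1 : (1 / (q : ℚ)) ^ (r + 3) = (1 / (q : ℚ)) * (1 / (q : ℚ)) ^ (r + 2) := by
      rw [pow_succ, mul_comm]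
    rw [e1]
    generalize (1 / (q : ℚ)) ^ (r + 2) = y at *
    generalize 1 / (q : ℚ) = x at *
    have hxy : 0 < 1 - x * y := by nlinarith
    rw [mul_one_div, div_le_iff₀ hxy]
    -- `C ≤ 2 (1 - y) ≤ 2 (1 - x y)^2`
    refine hC.trans ?_
    nlinarith [mul_pos hx0 hy0, sq_nonneg (x * y)]

/-- the bound for `AOfree` -/
theorem AOfree_le (q : ℕ) (hq : 3 ≤ q) (r k : ℕ) :
    (AOfree q r (2 * k) : ℚ) ≤ 2 * (q : ℚ) ^ k := by
  obtain ⟨C, hC0, hC, hst⟩ := stF_inv q hq r
  have hm : AOfree q r (2 * k) ≤ AOfree q (r + 3) (2 * k) := AOfree_mono q _ (by omega)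
  have hm' : (AOfree q r (2 * k) : ℚ) ≤ (AOfree q (r + 3) (2 * k) : ℚ) := by exact_mod_cast hm
  refine hm'.trans ((hst k).trans (mul_le_mul_of_nonneg_right ?_ (by positivity)))
  have : (0 : ℚ) ≤ (1 / (q : ℚ)) ^ (r + 2) := by positivity
  linarith

/-- NUMO -/
theorem AO_bound (q : ℕ) (hq : 3 ≤ q) (hodd : Odd q) (r n : ℕ) :
    AO q r (2 * n) + AOfree q r (2 * n) ≤ 19 * q ^ n := by
  have h1 := AO_le q hq hodd r n
  have h2 := AOfree_le q hq r n
  have h3 : ((AO q r (2 * n) + AOfree q r (2 * n) : ℕ) : ℚ) ≤ ((19 * q ^ n : ℕ) : ℚ) := by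
    push_cast
    have : (0 : ℚ) ≤ (q : ℚ) ^ n := by positivity
    linarith
  exact_mod_cast h3

end NUMO

end Cfsg.Agent.S2558P
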