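import Mathlib
import Cfsg.Agent.Helper29.S2558CDefs
import Cfsg.Agent.Helper26.S2558COUNTSO
import Cfsg.Agent.Helper26.S2558COUNTFREE
import Cfsg.Agent.Helper1.S2558PARITY
import Cfsg.Agent.Helper29.S2558NUME

/-! S2558 chapter (C) COUNT, FINAL (helper29): a set `R` of tuples with signs of total dimension `2n` in which
two elements with the same tuple have the same parity of the number of `true` signs satisfies
`2 #R ≤ 19 q^n`. -/

set_option autoImplicit false

namespace Cfsg.Agent.S2558P

open Polynomial Cfsg.Agent.S2478P Cfsg.Agent.S2481P Cfsg.Agent.S2482P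

universe u

/-- FINAL (helper29): the deliverable of chapter (C). -/
theorem two_card_le_of_parity {F : Type u} [Field F] [Fintype F] (hodd : Odd (Fintype.card F))
    (r n : ℕ) (R : Set ((ℕ → F[X]) × (ℕ → Bool × Bool))) (hR : R ⊆ SO F r (2 * n))
    (hpar : ∀ x ∈ R, ∀ x' ∈ R, x.1 = x'.1 → Even (nsq r x.2 + nsq r x'.2)) :
    R.Finite ∧ 2 * Nat.card R ≤ 19 * Fintype.card F ^ n := by
  have h1 := COUNTSO.card_SO hodd r (2 * n)
  have h2 := COUNTFREE.card_SOfree hodd r (2 * n)
  refine ⟨h1.1.subset hR, ?_⟩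
  have h3 := PARITY.two_card_le r (2 * n) R hR h1.1 hpar
  rw [h1.2, h2.2] at h3
  have hq : 3 ≤ Fintype.card F := by
    have h1 : 1 < Fintype.card F := Fintype.one_lt_card
    rcases hodd with ⟨k, hk⟩
    omega
  exact h3.trans (NUMO.AO_bound _ hq hodd r n)

end Cfsg.Agent.S2558P
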