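import Mathlib
import Cfsg.Agent.Helper17.S2558GDefs

/-! # S2558, chapter (D) DISCRIMINANTS (driver helper29): definitions.

`DISC.SqDisc S` : the discriminant of the space `S` (Gram determinant of `S.B` in some basis) is a square.
Over a finite field, for nondegenerate symmetric `S`, `S'`:
`S.SameDisc S' ↔ finrank S.V = finrank S'.V ∧ (SqDisc S ↔ SqDisc S')` (piece FINDISC). -/

set_option autoImplicit false

namespace Cfsg.Agent.S2558P

open Cfsg.Agent.Helper2.SympInvol Cfsg.Agent.S2482P

universe u

namespace DISC

/-- the discriminant of `S` is a square -/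
def SqDisc {F : Type u} [Field F] (S : SpSpace F) : Prop :=
  ∃ (k : ℕ) (b : Module.Basis (Fin k) F S.V),
    IsSquare (LinearMap.BilinForm.toMatrix b S.B).det

end DISC

end Cfsg.Agent.S2558P
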