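import Mathlib
import Cfsg.Agent.Helper17.S2558GDefs
import Cfsg.Agent.Helper7.OrthUni3

/-! S2560 chapter (S), piece CLASSIF (driver helper17): nondegenerate symmetric spaces over a finite field of odd
characteristic with the same dimension and discriminant are isometric. -/

set_option autoImplicit false

namespace Cfsg.Agent.S2560P

open Cfsg.Agent.Helper2.SympInvol Cfsg.Agent.S2482P Cfsg.Agent.S2558P Cfsg.Agent.Helper7.OrthUni

universe u

variable {F : Type u} [Field F]

namespace CLASSIF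

theorem det_ne_zero {V : Type*} [AddCommGroup V] [Module F V] [FiniteDimensional F V] {κ : Type*}
    [Fintype κ] [DecidableEq κ] (B : LinearMap.BilinForm F V) (hnd : Nondeg B ⊤)
    (b : Module.Basis κ F V) : (LinearMap.BilinForm.toMatrix b B).det ≠ 0 := by
  have hnd' : B.Nondegenerate := by
    apply LinearMap.BilinForm.Nondegenerate.ofSeparatingLeft
    intro x hx
    by_contra hx0
    obtain ⟨v, _, hv⟩ := hnd x Submodule.mem_top hx0
    exact hv (hx v)
  exact (LinearMap.BilinForm.nondegenerate_iff_det_ne_zero b).mp hnd'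

/-- polarization -/
theorem polarize (h2 : (2 : F) ≠ 0) {V V' : Type*} [AddCommGroup V] [Module F V] [AddCommGroup V']
    [Module F V'] (B : LinearMap.BilinForm F V) (B' : LinearMap.BilinForm F V')
    (hs : ∀ u v, B u v = B v u) (hs' : ∀ u v, B' u v = B' v u) (φ : V →ₗ[F] V')
    (h : ∀ w, B' (φ w) (φ w) = B w w) (u v : V) : B' (φ u) (φ v) = B u v := by
  have h1 := h (u + v)
  rw [map_add, map_add, map_add, LinearMap.add_apply, LinearMap.add_apply, map_add, map_add,
    LinearMap.add_apply, LinearMap.add_apply, h u, h v, hs' (φ v) (φ u), hs v u] at h1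
  have h3 : (2 : F) * B' (φ u) (φ v) = 2 * B u v := by linear_combination h1
  exact mul_left_cancel₀ h2 h3

theorem self_eq_qf (h2 : (2 : F) ≠ 0) {V : Type*} [AddCommGroup V] [Module F V] {k : ℕ}
    (B : LinearMap.BilinForm F V) (b : Module.Basis (Fin k) F V) (u : V) :
    B u u = 2 * qf (LinearMap.BilinForm.toMatrix b B) (b.equivFun u) := by
  rw [qf_apply, LinearMap.BilinForm.apply_eq_dotProduct_toMatrix_mulVec b B u u, ← mul_assoc,
    mul_inv_cancel₀ h2, one_mul]
  rfl

end CLASSIF

open CLASSIF in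
theorem CLASSIF.exists_isometry [Fintype F] (h2 : (2 : F) ≠ 0) (C C' : SpSpace F) (hC : C.IsOrth)
    (hC' : C'.IsOrth) (hd : C.SameDisc C') :
    ∃ φ : C.V ≃ₗ[F] C'.V, ∀ u v, C'.B (φ u) (φ v) = C.B u v := by
  classical
  obtain ⟨k, b, b', hsq⟩ := hd
  set M : Matrix (Fin k) (Fin k) F := LinearMap.BilinForm.toMatrix b C.B with hM
  set M' : Matrix (Fin k) (Fin k) F := LinearMap.BilinForm.toMatrix b' C'.B with hM'
  have hMt : M.transpose = M := by
    ext i j
    rw [Matrix.transpose_apply, hM, LinearMap.BilinForm.toMatrix_apply,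
      LinearMap.BilinForm.toMatrix_apply, hC.symm]
  have hMt' : M'.transpose = M' := by
    ext i j
    rw [Matrix.transpose_apply, hM', LinearMap.BilinForm.toMatrix_apply,
      LinearMap.BilinForm.toMatrix_apply, hC'.symm]
  have hMu : IsUnit M :=
    (Matrix.isUnit_iff_isUnit_det M).2 (isUnit_iff_ne_zero.2 (det_ne_zero C.B hC.nondeg b))
  have hMu' : IsUnit M' :=
    (Matrix.isUnit_iff_isUnit_det M').2 (isUnit_iff_ne_zero.2 (det_ne_zero C'.B hC'.nondeg b'))
  have hsq' : IsSquare ((gram (qf M)).det * (gram (qf M')).det) := by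
    rw [gram_qf h2 hMt, gram_qf h2 hMt']
    exact hsq
  obtain ⟨φ₀, hφ₀⟩ := exists_isometry_of_disc h2 (qf M) (qf M') (qf_nondeg h2 hMt hMu)
    (qf_nondeg h2 hMt' hMu') rfl hsq'
  set φ : C.V ≃ₗ[F] C'.V := b.equivFun.trans (φ₀.trans b'.equivFun.symm) with hφ
  refine ⟨φ, ?_⟩
  have hq : ∀ w, C'.B (φ w) (φ w) = C.B w w := by
    intro w
    rw [self_eq_qf h2 C'.B b' (φ w), self_eq_qf h2 C.B b w, ← hφ₀]
    congr 2
    rw [hφ, LinearEquiv.trans_apply, LinearEquiv.trans_apply, LinearEquiv.apply_symm_apply]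
  intro u v
  exact polarize h2 C.B C'.B hC.symm hC'.symm φ.toLinearMap hq u v

end Cfsg.Agent.S2560P
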