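import Mathlib
import Cfsg.Agent.Helper28.Spin5

/-! S2560 chapter (S), piece THUNI (driver helper17): a unipotent isometry has spinor sign `1` (it has odd order). -/

set_option autoImplicit false

namespace Cfsg.Agent.S2560P

open Cfsg.Agent.Helper28.Spin

universe u

variable {F : Type u} [Field F] [Fintype F] {ι : Type} [Fintype ι] [DecidableEq ι]

theorem THUNI.theta_eq_one (h2 : (2 : F) ≠ 0) (Q : QuadraticForm F (ι → F))
    (x : Cfsg.isometryGroup F ⇑Q)
    (hx : IsNilpotent (Matrix.toLin' ((x : Matrix.GeneralLinearGroup ι F) : Matrix ι ι F) - 1)) :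
    theta Q x = 1 := by
  rcases isEmpty_or_nonempty ι with hι | hι
  · have : x = 1 := by
      apply Subtype.ext
      apply Units.ext
      exact Subsingleton.elim _ _
    rw [this, map_one]
  obtain ⟨p, hp⟩ := CharP.exists F
  have hpp : p.Prime := by
    rcases CharP.char_is_prime_or_zero F p with h | h
    · exact h
    · exfalso
      subst h
      have := CharP.charP_to_charZero F
      exact absurd (inferInstance : Finite F) (by
        intro hfin
        exact not_finite F)
  have : Fact p.Prime := ⟨hpp⟩
  have hp2 : p ≠ 2 := by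
    rintro rfl
    apply h2
    have := CharP.cast_eq_zero F 2
    exact_mod_cast this
  have hodd : Odd p := hpp.odd_of_ne_two hp2
  set M : Matrix ι ι F := ((x : Matrix.GeneralLinearGroup ι F) : Matrix ι ι F) with hM
  have hnil : IsNilpotent (M - 1) := by
    have h1 := hx.map (Matrix.toLinAlgEquiv'.symm : Module.End F (ι → F) ≃ₐ[F] Matrix ι ι F)
    have e : (Matrix.toLinAlgEquiv'.symm : Module.End F (ι → F) ≃ₐ[F] Matrix ι ι F)
        (Matrix.toLin' M - 1) = M - 1 := by
      rw [map_sub, map_one]
      congr 1
      exact (Matrix.toLinAlgEquiv' : Matrix ι ι F ≃ₐ[F] Module.End F (ι → F)).symm_apply_apply M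
    rwa [e] at h1
  obtain ⟨k, hk⟩ := hnil
  have hk' : (M - 1) ^ (p ^ k) = 0 :=
    pow_eq_zero_of_le (Nat.lt_pow_self hpp.one_lt).le hk
  have hMp : M ^ (p ^ k) = 1 := by
    have h1 : M = (M - 1) + 1 := by abel
    have h3 := add_pow_char_pow_of_commute p k (Commute.one_right (M - 1))
    rw [← h1, hk', one_pow, zero_add] at h3
    exact h3
  have hxp : x ^ (p ^ k) = 1 := by
    apply Subtype.ext
    apply Units.ext
    rw [Subgroup.coe_pow, Units.val_pow_eq_pow_val]
    exact hMp
  have hth : theta Q x ^ (p ^ k) = 1 := by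
    rw [← map_pow, hxp, map_one]
  rcases Int.units_eq_one_or (theta Q x) with h | h
  · exact h
  · exfalso
    rw [h, (hodd.pow : Odd (p ^ k)).neg_one_pow] at hth
    exact absurd hth (by decide)

end Cfsg.Agent.S2560P
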