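import Mathlib
import Cfsg.Agent.Helper29.S2558CDefs
import Cfsg.Agent.Helper26.S2558CGEN

/-!
# S2560 (class number of `Ω_{2n+1}(q)`, `q` odd), chapter (C) COUNT: definitions (driver helper29)

Route: `G = O(V)`, `V = quadFormOdd n F`, `N = 2n+1`, `Ω = [G, G]`, `K = Ω ∪ (-1)Ω`.
`8 k(Ω) ≤ 4 #R_K + 4 #R_S`, where `R_K ⊆ SO F N N` are the data of the classes inside `K` (two elements with the same
tuple have the same parity of `(+1)`-signs AND of `(-1)`-signs) and `R_S ⊆ TOone F N N` are the tuples of the classes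
with `C_G(x) ≤ K` (all slots have multiplicity one).

`SOm F r N` / `SOp F r N` : the data without `(-1)`-slot / without `(+1)`-slot.
`TOone F r N`  : tuples of `TO F r N` with `(X + 1)^2 ∤ t m` for odd `m`.
`Wns q b`      : `#{h self-reciprocal monic of degree b, (X+1)^2 ∤ h} = SR b - SR (b - 2)`
                 `= #{(h, s) : X + 1 ∤ h, s = true → X - 1 ∣ h}`; generating function `(1+v)^2 (1-v^2)/(1-q v^2)`.
`nsqp r s`, `nsqm r s` : the numbers of `(+1)`-signs, `(-1)`-signs `true`.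
All three sets have `CGEN.AG q (Wns q) r N` elements.
-/

set_option autoImplicit false

namespace Cfsg.Agent.S2560P

open Polynomial Cfsg.Agent.S2478P Cfsg.Agent.S2481P Cfsg.Agent.S2482P Cfsg.Agent.S2558P

/-- data without `(-1)`-slot -/
def SOm (F : Type*) [Field F] (r N : ℕ) : Set ((ℕ → F[X]) × (ℕ → Bool × Bool)) :=
  {x | x ∈ SO F r N ∧ ∀ m, Odd m → ¬ (X + 1 : F[X]) ∣ x.1 m}

/-- data without `(+1)`-slot -/
def SOp (F : Type*) [Field F] (r N : ℕ) : Set ((ℕ → F[X]) × (ℕ → Bool × Bool)) :=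
  {x | x ∈ SO F r N ∧ ∀ m, Odd m → ¬ (X - 1 : F[X]) ∣ x.1 m}

/-- tuples whose `(-1)`-slots have multiplicity at most one -/
def TOone (F : Type*) [Field F] (r N : ℕ) : Set (ℕ → F[X]) :=
  {t | t ∈ TO F r N ∧ ∀ m, Odd m → ¬ (X + 1 : F[X]) ^ 2 ∣ t m}

/-- the common entry count -/
def Wns (q b : ℕ) : ℕ := SR q b - (if 2 ≤ b then SR q (b - 2) else 0)

/-- the number of `(+1)`-signs `true` among the indices `≤ r` -/
def nsqp (r : ℕ) (s : ℕ → Bool × Bool) : ℕ := ∑ m ∈ Finset.range (r + 1), (s m).1.toNat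

/-- the number of `(-1)`-signs `true` among the indices `≤ r` -/
def nsqm (r : ℕ) (s : ℕ → Bool × Bool) : ℕ := ∑ m ∈ Finset.range (r + 1), (s m).2.toNat

end Cfsg.Agent.S2560P
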