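import Mathlib
import Cfsg.Agent.Helper29.S2560CDefs
import Cfsg.Agent.Helper29.S2558NUMD

/-! S2560 chapter (C), piece NUM2, part A: the two-state step estimates of S2558 (`NUMO`) for the GENERIC recursion
`CGEN.AG q W`: unfolding lemmas, monotonicity in `r`, the even step, the odd step with arbitrary numerators
`pe`, `po` of the generating functions of the even / odd part of `W` at `z = (1/q)^(r+1)`, and the invariant
machinery (for `pe ≤ Pe z`, `po ≤ Po z`). -/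

set_option autoImplicit false
set_option linter.unusedVariables false

namespace Cfsg.Agent.S2560P

open Cfsg.Agent.S2482P Cfsg.Agent.S2558P Cfsg.Agent.S2558P.NUMO

namespace NUM2

theorem AG_zero (q : ℕ) (W : ℕ → ℕ) (N : ℕ) : CGEN.AG q W 0 N = if N = 0 then 1 else 0 := by
  rw [CGEN.AG]

theorem AG_succ_even (q : ℕ) (W : ℕ → ℕ) (r N : ℕ) (h : Even (r + 1)) : CGEN.AG q W (r + 1) N =
    ∑ a ∈ Finset.range (N / (2 * (r + 1)) + 1), q ^ a * CGEN.AG q W r (N - 2 * (r + 1) * a) := by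
  rw [CGEN.AG, if_pos h]

theorem AG_succ_odd (q : ℕ) (W : ℕ → ℕ) (r N : ℕ) (h : ¬ Even (r + 1)) : CGEN.AG q W (r + 1) N =
    ∑ b ∈ Finset.range (N / (r + 1) + 1), W b * CGEN.AG q W r (N - (r + 1) * b) := by
  rw [CGEN.AG, if_neg h]

theorem AG_one (q : ℕ) (W : ℕ → ℕ) (N : ℕ) : CGEN.AG q W 1 N = W N := by
  have h := AG_succ_odd q W 0 N (by decide)
  rw [zero_add] at h
  rw [h, Finset.sum_eq_single N]
  · rw [one_mul, Nat.sub_self, AG_zero, if_pos rfl, mul_one]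
  · intro a ha hne
    rw [Finset.mem_range, Nat.div_one] at ha
    have : N - 1 * a ≠ 0 := by omega
    rw [AG_zero, if_neg this, mul_zero]
  · intro h
    exfalso
    apply h
    rw [Finset.mem_range, Nat.div_one]
    omega

theorem AG_mono_succ (q : ℕ) (W : ℕ → ℕ) (hW : W 0 = 1) (r N : ℕ) :
    CGEN.AG q W r N ≤ CGEN.AG q W (r + 1) N := by
  by_cases h : Even (r + 1)
  · rw [AG_succ_even q W r N h]
    have h0 : (0 : ℕ) ∈ Finset.range (N / (2 * (r + 1)) + 1) := by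
      rw [Finset.mem_range]; exact Nat.succ_pos _
    have := Finset.single_le_sum (f := fun a => q ^ a * CGEN.AG q W r (N - 2 * (r + 1) * a))
      (fun a _ => Nat.zero_le _) h0
    simpa using this
  · rw [AG_succ_odd q W r N h]
    have h0 : (0 : ℕ) ∈ Finset.range (N / (r + 1) + 1) := by
      rw [Finset.mem_range]; exact Nat.succ_pos _
    have := Finset.single_le_sum (f := fun b => W b * CGEN.AG q W r (N - (r + 1) * b))
      (fun a _ => Nat.zero_le _) h0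
    simpa [hW] using this

theorem AG_mono (q : ℕ) (W : ℕ → ℕ) (hW : W 0 = 1) (N : ℕ) {r r' : ℕ} (h : r ≤ r') :
    CGEN.AG q W r N ≤ CGEN.AG q W r' N := by
  induction r', h using Nat.le_induction with
  | base => exact le_rfl
  | succ r' _ ih => exact ih.trans (AG_mono_succ q W hW r' N)

/-- the state: bounds for even and odd total dimension -/
def StG (q : ℕ) (W : ℕ → ℕ) (r : ℕ) (E O : ℚ) : Prop :=
  (∀ k, (CGEN.AG q W r (2 * k) : ℚ) ≤ E * (q : ℚ) ^ k) ∧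
    (∀ k, (CGEN.AG q W r (2 * k + 1) : ℚ) ≤ O * (q : ℚ) ^ k)

theorem StG_mono (q : ℕ) (W : ℕ → ℕ) (r : ℕ) {E O E' O' : ℚ} (h : StG q W r E O) (hE : E ≤ E')
    (hO : O ≤ O') : StG q W r E' O' := by
  constructor
  · intro k
    exact (h.1 k).trans (mul_le_mul_of_nonneg_right hE (by positivity))
  · intro k
    exact (h.2 k).trans (mul_le_mul_of_nonneg_right hO (by positivity))

/-- the even step -/
theorem step_evenG (q : ℕ) (W : ℕ → ℕ) (r : ℕ) (hq : 2 ≤ q) (hr : 1 ≤ r) (heven : Even (r + 1))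
    (E O : ℚ) (hE : 0 ≤ E) (hO : 0 ≤ O) (h : StG q W r E O) :
    StG q W (r + 1) (E * gE q r) (O * gE q r) := by
  have hq1 : (2 : ℚ) ≤ q := by exact_mod_cast hq
  have hq0 : (q : ℚ) ≠ 0 := by linarith
  have hx0 : (0 : ℚ) ≤ (1 / (q : ℚ)) ^ r := by positivity
  have hx1 : (1 / (q : ℚ)) ^ r < 1 := x_pow_lt_one q r hq hr
  have key : ∀ (C : ℚ) (hC : 0 ≤ C) (N k : ℕ) (hN : N = 2 * k ∨ N = 2 * k + 1)
      (hb : ∀ a, (r + 1) * a ≤ k →
        (CGEN.AG q W r (N - 2 * (r + 1) * a) : ℚ) ≤ C * (q : ℚ) ^ (k - (r + 1) * a)),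
      (CGEN.AG q W (r + 1) N : ℚ) ≤ C * gE q r * (q : ℚ) ^ k := by
    intro C hC N k hN hb
    rw [AG_succ_even q W r N heven]
    push_cast
    have h1 : ∑ a ∈ Finset.range (N / (2 * (r + 1)) + 1),
        (q : ℚ) ^ a * (CGEN.AG q W r (N - 2 * (r + 1) * a) : ℚ) ≤
        ∑ a ∈ Finset.range (N / (2 * (r + 1)) + 1), C * (q : ℚ) ^ k * ((1 / (q : ℚ)) ^ r) ^ a := by
      apply Finset.sum_le_sum
      intro a ha
      rw [Finset.mem_range] at ha
      have ha1 : a ≤ N / (2 * (r + 1)) := by omega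
      have ha2 : a * (2 * (r + 1)) ≤ N := (Nat.le_div_iff_mul_le (by positivity)).mp ha1
      have ha' : (r + 1) * a ≤ k := by
        rcases hN with rfl | rfl
        · nlinarith
        · have : 2 * ((r + 1) * a) ≤ 2 * k + 1 := by nlinarith
          omega
      calc (q : ℚ) ^ a * (CGEN.AG q W r (N - 2 * (r + 1) * a) : ℚ)
          ≤ (q : ℚ) ^ a * (C * (q : ℚ) ^ (k - (r + 1) * a)) :=
            mul_le_mul_of_nonneg_left (hb a ha') (by positivity)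
        _ = C * (q : ℚ) ^ k * ((1 / (q : ℚ)) ^ r) ^ a := by
            rw [qpow_sub q hq k _ ha', ← pow_mul, one_div_pow, one_div_pow,
              show (r + 1) * a = r * a + a by ring, pow_add]
            field_simp
    refine h1.trans ?_
    rw [← Finset.mul_sum]
    have h3 := geom_le _ hx0 hx1 (N / (2 * (r + 1)) + 1)
    have hcoef : 0 ≤ C * (q : ℚ) ^ k := by positivity
    calc C * (q : ℚ) ^ k * ∑ a ∈ Finset.range (N / (2 * (r + 1)) + 1), ((1 / (q : ℚ)) ^ r) ^ a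
        ≤ C * (q : ℚ) ^ k * (1 / (1 - (1 / (q : ℚ)) ^ r)) := mul_le_mul_of_nonneg_left h3 hcoef
      _ = C * gE q r * (q : ℚ) ^ k := by
          unfold gE
          ring
  constructor
  · intro k
    apply key E hE (2 * k) k (Or.inl rfl)
    intro a ha
    have : 2 * k - 2 * (r + 1) * a = 2 * (k - (r + 1) * a) := by
      rw [Nat.mul_sub, mul_assoc]
    rw [this]
    exact h.1 _
  · intro k
    apply key O hO (2 * k + 1) k (Or.inr rfl)
    intro a ha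
    have : 2 * k + 1 - 2 * (r + 1) * a = 2 * (k - (r + 1) * a) + 1 := by
      have : 2 * (r + 1) * a ≤ 2 * k := by nlinarith
      rw [Nat.mul_sub, mul_assoc]
      omega
    rw [this]
    exact h.2 _

/-- a general estimate for an odd step -/
theorem odd_keyG (q : ℕ) (W : ℕ → ℕ) (r : ℕ) (hq : 2 ≤ q) (hr : 1 ≤ r) (hodd : ¬ Even (r + 1))
    (pe po : ℚ)
    (hge : ∀ M, ∑ c ∈ Finset.range M, (W (2 * c) : ℚ) * ((1 / (q : ℚ)) ^ (r + 1)) ^ c ≤
      pe / (1 - (1 / (q : ℚ)) ^ r))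
    (hgo : ∀ M, ∑ c ∈ Finset.range M, (W (2 * c + 1) : ℚ) * ((1 / (q : ℚ)) ^ (r + 1)) ^ c ≤
      po / (1 - (1 / (q : ℚ)) ^ r))
    (C D : ℚ) (hC : 0 ≤ C) (hD : 0 ≤ D) (N k jj : ℕ)
    (hb0 : ∀ c, (r + 1) * (2 * c) ≤ N → (r + 1) * c ≤ k ∧
      (CGEN.AG q W r (N - (r + 1) * (2 * c)) : ℚ) ≤ C * (q : ℚ) ^ (k - (r + 1) * c))
    (hb1 : ∀ c, (r + 1) * (2 * c + 1) ≤ N → (r + 1) * c + jj ≤ k ∧
      (CGEN.AG q W r (N - (r + 1) * (2 * c + 1)) : ℚ) ≤ D * (q : ℚ) ^ (k - ((r + 1) * c + jj))) :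
    (CGEN.AG q W (r + 1) N : ℚ) ≤
      ((C * pe + D * (1 / (q : ℚ)) ^ jj * po) / (1 - (1 / (q : ℚ)) ^ r)) * (q : ℚ) ^ k := by
  have hq1 : (2 : ℚ) ≤ q := by exact_mod_cast hq
  have hq0 : (q : ℚ) ≠ 0 := by linarith
  have hx1 : (1 / (q : ℚ)) ^ r < 1 := x_pow_lt_one q r hq hr
  have hden : 0 < 1 - (1 / (q : ℚ)) ^ r := by linarith
  rw [AG_succ_odd q W r N hodd]
  push_cast
  -- truncated terms
  let f : ℕ → ℚ := fun b =>
    if (r + 1) * b ≤ N then (W b : ℚ) * (CGEN.AG q W r (N - (r + 1) * b) : ℚ) else 0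
  have hf0 : ∀ b, 0 ≤ f b := by
    intro b
    simp only [f]
    split_ifs
    · positivity
    · exact le_rfl
  have h1 : ∑ b ∈ Finset.range (N / (r + 1) + 1), (W b : ℚ) * (CGEN.AG q W r (N - (r + 1) * b) : ℚ) =
      ∑ b ∈ Finset.range (N / (r + 1) + 1), f b := by
    apply Finset.sum_congr rfl
    intro b hb
    rw [Finset.mem_range] at hb
    have hb1' : b ≤ N / (r + 1) := by omega
    have hb2 : b * (r + 1) ≤ N := (Nat.le_div_iff_mul_le (Nat.succ_pos r)).mp hb1'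
    simp only [f]
    rw [if_pos (by rw [mul_comm]; exact hb2)]
  rw [h1]
  refine (sum_parity f hf0 _).trans ?_
  have he : ∑ c ∈ Finset.range (N / (r + 1) + 1), f (2 * c) ≤
      ∑ c ∈ Finset.range (N / (r + 1) + 1),
        C * (q : ℚ) ^ k * ((W (2 * c) : ℚ) * ((1 / (q : ℚ)) ^ (r + 1)) ^ c) := by
    apply Finset.sum_le_sum
    intro c _
    simp only [f]
    split_ifs with hc
    · obtain ⟨h1, h2⟩ := hb0 c hc
      calc (W (2 * c) : ℚ) * (CGEN.AG q W r (N - (r + 1) * (2 * c)) : ℚ)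
          ≤ (W (2 * c) : ℚ) * (C * (q : ℚ) ^ (k - (r + 1) * c)) :=
            mul_le_mul_of_nonneg_left h2 (by positivity)
        _ = C * (q : ℚ) ^ k * ((W (2 * c) : ℚ) * ((1 / (q : ℚ)) ^ (r + 1)) ^ c) := by
            rw [qpow_sub q hq k _ h1, ← pow_mul]
            ring
    · positivity
  have ho : ∑ c ∈ Finset.range (N / (r + 1) + 1), f (2 * c + 1) ≤
      ∑ c ∈ Finset.range (N / (r + 1) + 1),
        D * (1 / (q : ℚ)) ^ jj * (q : ℚ) ^ k *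
          ((W (2 * c + 1) : ℚ) * ((1 / (q : ℚ)) ^ (r + 1)) ^ c) := by
    apply Finset.sum_le_sum
    intro c _
    simp only [f]
    split_ifs with hc
    · obtain ⟨h1, h2⟩ := hb1 c hc
      calc (W (2 * c + 1) : ℚ) * (CGEN.AG q W r (N - (r + 1) * (2 * c + 1)) : ℚ)
          ≤ (W (2 * c + 1) : ℚ) * (D * (q : ℚ) ^ (k - ((r + 1) * c + jj))) :=
            mul_le_mul_of_nonneg_left h2 (by positivity)
        _ = D * (1 / (q : ℚ)) ^ jj * (q : ℚ) ^ k *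
              ((W (2 * c + 1) : ℚ) * ((1 / (q : ℚ)) ^ (r + 1)) ^ c) := by
            rw [qpow_sub q hq k _ h1, ← pow_mul, pow_add]
            ring
    · positivity
  have ge := hge (N / (r + 1) + 1)
  have go := hgo (N / (r + 1) + 1)
  have hCk : 0 ≤ C * (q : ℚ) ^ k := by positivity
  have hDk : 0 ≤ D * (1 / (q : ℚ)) ^ jj * (q : ℚ) ^ k := by positivity
  calc ∑ c ∈ Finset.range (N / (r + 1) + 1), f (2 * c) +
        ∑ c ∈ Finset.range (N / (r + 1) + 1), f (2 * c + 1)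
      ≤ C * (q : ℚ) ^ k * (pe / (1 - (1 / (q : ℚ)) ^ r)) +
        D * (1 / (q : ℚ)) ^ jj * (q : ℚ) ^ k * (po / (1 - (1 / (q : ℚ)) ^ r)) := by
        apply add_le_add
        · refine he.trans ?_
          rw [← Finset.mul_sum]
          exact mul_le_mul_of_nonneg_left ge hCk
        · refine ho.trans ?_
          rw [← Finset.mul_sum]
          exact mul_le_mul_of_nonneg_left go hDk
    _ = ((C * pe + D * (1 / (q : ℚ)) ^ jj * po) / (1 - (1 / (q : ℚ)) ^ r)) * (q : ℚ) ^ k := by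
        field_simp

/-- the odd step -/
theorem step_oddG (q : ℕ) (W : ℕ → ℕ) (r : ℕ) (hq : 2 ≤ q) (hr : 1 ≤ r) (hodd : ¬ Even (r + 1))
    (pe po : ℚ)
    (hge : ∀ M, ∑ c ∈ Finset.range M, (W (2 * c) : ℚ) * ((1 / (q : ℚ)) ^ (r + 1)) ^ c ≤
      pe / (1 - (1 / (q : ℚ)) ^ r))
    (hgo : ∀ M, ∑ c ∈ Finset.range M, (W (2 * c + 1) : ℚ) * ((1 / (q : ℚ)) ^ (r + 1)) ^ c ≤
      po / (1 - (1 / (q : ℚ)) ^ r))
    (E O : ℚ) (hE : 0 ≤ E) (hO : 0 ≤ O) (h : StG q W r E O) :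
    StG q W (r + 1)
      ((E * pe + O * (1 / (q : ℚ)) ^ (r / 2 + 1) * po) / (1 - (1 / (q : ℚ)) ^ r))
      ((O * pe + E * (1 / (q : ℚ)) ^ (r / 2) * po) / (1 - (1 / (q : ℚ)) ^ r)) := by
  obtain ⟨j, hj⟩ : ∃ j, r = 2 * j := by
    rcases Nat.even_or_odd' r with ⟨j, hj | hj⟩
    · exact ⟨j, hj⟩
    · exfalso
      apply hodd
      exact ⟨j + 1, by omega⟩
  have hj2 : r / 2 = j := by omega
  constructor
  · intro k
    rw [hj2]
    apply odd_keyG q W r hq hr hodd pe po hge hgo E O hE hO (2 * k) k (j + 1)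
    · intro c hc
      have h1 : (r + 1) * c ≤ k := by nlinarith
      refine ⟨h1, ?_⟩
      have : 2 * k - (r + 1) * (2 * c) = 2 * (k - (r + 1) * c) := by
        rw [Nat.mul_sub]
        congr 1
        ring
      rw [this]
      exact h.1 _
    · intro c hc
      have h1 : (r + 1) * c + (j + 1) ≤ k := by
        have : (r + 1) * (2 * c + 1) = 2 * ((r + 1) * c + j) + 1 := by rw [hj]; ring
        omega
      refine ⟨h1, ?_⟩
      have : 2 * k - (r + 1) * (2 * c + 1) = 2 * (k - ((r + 1) * c + (j + 1))) + 1 := by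
        have : (r + 1) * (2 * c + 1) = 2 * ((r + 1) * c + j) + 1 := by rw [hj]; ring
        omega
      rw [this]
      exact h.2 _
  · intro k
    rw [hj2]
    apply odd_keyG q W r hq hr hodd pe po hge hgo O E hO hE (2 * k + 1) k j
    · intro c hc
      have h1 : (r + 1) * c ≤ k := by
        have : (r + 1) * (2 * c) = 2 * ((r + 1) * c) := by ring
        omega
      refine ⟨h1, ?_⟩
      have : 2 * k + 1 - (r + 1) * (2 * c) = 2 * (k - (r + 1) * c) + 1 := by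
        have : (r + 1) * (2 * c) = 2 * ((r + 1) * c) := by ring
        omega
      rw [this]
      exact h.2 _
    · intro c hc
      have h1 : (r + 1) * c + j ≤ k := by
        have : (r + 1) * (2 * c + 1) = 2 * ((r + 1) * c + j) + 1 := by rw [hj]; ring
        omega
      refine ⟨h1, ?_⟩
      have : 2 * k + 1 - (r + 1) * (2 * c + 1) = 2 * (k - ((r + 1) * c + j)) := by
        have : (r + 1) * (2 * c + 1) = 2 * ((r + 1) * c + j) + 1 := by rw [hj]; ring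
        omega
      rw [this]
      exact h.1 _

/-- the generating functions of the even and odd part of `W` are dominated by those of `Wev` -/
def Dom (q : ℕ) (W : ℕ → ℕ) : Prop :=
  ∀ z : ℚ, 0 ≤ z → (q : ℚ) * z < 1 → ∀ M,
    ∑ c ∈ Finset.range M, (W (2 * c) : ℚ) * z ^ c ≤ Pe z / (1 - (q : ℚ) * z) ∧
    ∑ c ∈ Finset.range M, (W (2 * c + 1) : ℚ) * z ^ c ≤ Po z / (1 - (q : ℚ) * z)

/-- the odd step with the numerators of `Wev` -/
theorem step_oddG_dom (q : ℕ) (W : ℕ → ℕ) (hdom : Dom q W) (r : ℕ) (hq : 2 ≤ q) (hr : 1 ≤ r)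
    (hodd : ¬ Even (r + 1)) (E O : ℚ) (hE : 0 ≤ E) (hO : 0 ≤ O) (h : StG q W r E O) :
    StG q W (r + 1) (stepE q r E O) (stepO q r E O) := by
  have hz0 : (0 : ℚ) ≤ (1 / (q : ℚ)) ^ (r + 1) := by positivity
  have hqz : (q : ℚ) * (1 / (q : ℚ)) ^ (r + 1) = (1 / (q : ℚ)) ^ r := qz_eq q r hq
  have hx1 : (1 / (q : ℚ)) ^ r < 1 := x_pow_lt_one q r hq hr
  have hqz1 : (q : ℚ) * (1 / (q : ℚ)) ^ (r + 1) < 1 := by rw [hqz]; exact hx1
  have hd := hdom _ hz0 hqz1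
  rw [hqz] at hd
  exact step_oddG q W r hq hr hodd _ _ (fun M => (hd M).1) (fun M => (hd M).2) E O hE hO h

/-- the invariant after the steps `m ≤ 2 i` -/
def InvG (q : ℕ) (W : ℕ → ℕ) (i : ℕ) (K c ρ : ℚ) : Prop :=
  ∃ E O : ℚ, 0 ≤ E ∧ 0 ≤ O ∧ E ≤ K * (1 - c * (1 / (q : ℚ)) ^ i) ∧
    O ≤ ρ * K * (1 - c * (1 / (q : ℚ)) ^ i) ∧ StG q W (2 * i) E O

theorem InvG_succ (q : ℕ) (W : ℕ → ℕ) (hdom : Dom q W) (i : ℕ) (hq : 3 ≤ q) (hi : 1 ≤ i)
    (K c ρ lam : ℚ) (hK : 0 ≤ K) (hρ : 0 < ρ)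
    (hlE : ρ * (1 / (q : ℚ)) ≤ lam) (hlO : 1 / ρ ≤ lam) (hl1 : lam ≤ 1) (hc0 : 0 ≤ c)
    (hcy : c * (1 / (q : ℚ)) ^ i ≤ 1) (h1 : 4 * lam ≤ c * (1 - 1 / (q : ℚ))) (h2 : 4 ≤ 4 * lam * c)
    (h : InvG q W i K c ρ) : InvG q W (i + 1) K c ρ := by
  obtain ⟨E, O, hE0, hO0, hE, hO, hst⟩ := h
  have hq1 : (3 : ℚ) ≤ q := by exact_mod_cast hq
  have hodd : ¬ Even (2 * i + 1) := by
    intro h
    rcases h with ⟨k, hk⟩
    omega
  have heven : Even (2 * i + 1 + 1) := ⟨i + 1, by ring⟩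
  have s1 := step_oddG_dom q W hdom (2 * i) (by omega) (by omega) hodd E O hE0 hO0 hst
  have hx0 : (0 : ℚ) < 1 / (q : ℚ) := by positivity
  have hx3 : 1 / (q : ℚ) ≤ 1 / 3 := one_div_le_one_div_of_le (by norm_num) hq1
  have hy0 : 0 < (1 / (q : ℚ)) ^ i := by positivity
  have hyx : (1 / (q : ℚ)) ^ i ≤ 1 / (q : ℚ) := by
    calc (1 / (q : ℚ)) ^ i ≤ (1 / (q : ℚ)) ^ 1 := pow_le_pow_of_le_one hx0.le (by linarith) hi
      _ = 1 / (q : ℚ) := pow_one _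
  have hds := double_step q i hq hi E O
  have hreal := inv_step_real (1 / (q : ℚ)) ((1 / (q : ℚ)) ^ i) E O K c ρ lam hx0 hx3 hy0 hyx hE0 hO0
    hK hρ hlE hlO hl1 hc0 hcy h1 h2 hE hO
  have e5 : (1 / (q : ℚ)) ^ (i + 1) = (1 / (q : ℚ)) * (1 / (q : ℚ)) ^ i := by
    rw [pow_succ, mul_comm]
  have hE1 : 0 ≤ stepE q (2 * i) E O := stepE_nonneg q _ (by omega) (by omega) E O hE0 hO0
  have hO1 : 0 ≤ stepO q (2 * i) E O := stepO_nonneg q _ (by omega) (by omega) E O hE0 hO0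
  have s2 := step_evenG q W (2 * i + 1) (by omega) (by omega) heven _ _ hE1 hO1 s1
  have hg : 0 ≤ gE q (2 * i + 1) := gE_nonneg q _ (by omega) (by omega)
  refine ⟨stepE q (2 * i) E O * gE q (2 * i + 1), stepO q (2 * i) E O * gE q (2 * i + 1),
    mul_nonneg hE1 hg, mul_nonneg hO1 hg, ?_, ?_, ?_⟩
  · rw [hds.1, e5]
    exact hreal.1
  · rw [hds.2, e5]
    exact hreal.2
  · rw [show 2 * (i + 1) = 2 * i + 1 + 1 by ring]
    exact s2

/-- the invariant for all `i ≥ i₀` -/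
theorem InvG_all (q : ℕ) (W : ℕ → ℕ) (hdom : Dom q W) (i₀ : ℕ) (hq : 3 ≤ q) (hi₀ : 1 ≤ i₀)
    (K c ρ lam : ℚ) (hK : 0 ≤ K) (hρ : 0 < ρ)
    (hlE : ρ * (1 / (q : ℚ)) ≤ lam) (hlO : 1 / ρ ≤ lam) (hl1 : lam ≤ 1) (hc0 : 0 ≤ c)
    (hcy : c * (1 / (q : ℚ)) ^ i₀ ≤ 1) (h1 : 4 * lam ≤ c * (1 - 1 / (q : ℚ))) (h2 : 4 ≤ 4 * lam * c)
    (h : InvG q W i₀ K c ρ) : ∀ i, i₀ ≤ i → InvG q W i K c ρ := by
  have hq1 : (3 : ℚ) ≤ q := by exact_mod_cast hq
  have hx0 : (0 : ℚ) ≤ 1 / (q : ℚ) := by positivity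
  have hx1 : 1 / (q : ℚ) ≤ 1 := by
    rw [div_le_one (by linarith)]
    linarith
  intro i hi
  induction i, hi using Nat.le_induction with
  | base => exact h
  | succ i hi ih =>
    apply InvG_succ q W hdom i hq (hi₀.trans hi) K c ρ lam hK hρ hlE hlO hl1 hc0 _ h1 h2 ih
    have : (1 / (q : ℚ)) ^ i ≤ (1 / (q : ℚ)) ^ i₀ := pow_le_pow_of_le_one hx0 hx1 hi
    exact (mul_le_mul_of_nonneg_left this hc0).trans hcy

/-- the bounds from the invariant -/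
theorem boundG_of_Inv (q : ℕ) (W : ℕ → ℕ) (i : ℕ) (K c ρ : ℚ) (hK : 0 ≤ K) (hρ : 0 < ρ) (hc0 : 0 ≤ c)
    (h : InvG q W i K c ρ) (k : ℕ) :
    (CGEN.AG q W (2 * i) (2 * k) : ℚ) ≤ K * (q : ℚ) ^ k ∧
      (CGEN.AG q W (2 * i) (2 * k + 1) : ℚ) ≤ ρ * K * (q : ℚ) ^ k := by
  obtain ⟨E, O, hE0, hO0, hE, hO, hst⟩ := h
  have h0 : 0 ≤ c * (1 / (q : ℚ)) ^ i := by positivity
  constructor
  · refine (hst.1 k).trans (mul_le_mul_of_nonneg_right ?_ (by positivity))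
    refine hE.trans ?_
    nlinarith
  · refine (hst.2 k).trans (mul_le_mul_of_nonneg_right ?_ (by positivity))
    refine hO.trans ?_
    have : 0 ≤ ρ * K := by positivity
    nlinarith

/-- the bounds for all `r` -/
theorem boundG_all (q : ℕ) (W : ℕ → ℕ) (hW : W 0 = 1) (hdom : Dom q W) (i₀ : ℕ) (hq : 3 ≤ q)
    (hi₀ : 1 ≤ i₀) (K c ρ lam : ℚ) (hK : 0 ≤ K) (hρ : 0 < ρ)
    (hlE : ρ * (1 / (q : ℚ)) ≤ lam) (hlO : 1 / ρ ≤ lam) (hl1 : lam ≤ 1) (hc0 : 0 ≤ c)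
    (hcy : c * (1 / (q : ℚ)) ^ i₀ ≤ 1) (h1 : 4 * lam ≤ c * (1 - 1 / (q : ℚ))) (h2 : 4 ≤ 4 * lam * c)
    (h : InvG q W i₀ K c ρ) (r k : ℕ) :
    (CGEN.AG q W r (2 * k) : ℚ) ≤ K * (q : ℚ) ^ k ∧
      (CGEN.AG q W r (2 * k + 1) : ℚ) ≤ ρ * K * (q : ℚ) ^ k := by
  have hinv := InvG_all q W hdom i₀ hq hi₀ K c ρ lam hK hρ hlE hlO hl1 hc0 hcy h1 h2 h (max i₀ r)
    (le_max_left _ _)
  have hb := boundG_of_Inv q W (max i₀ r) K c ρ hK hρ hc0 hinv k
  have hr : r ≤ 2 * max i₀ r := by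
    have := le_max_right i₀ r
    omega
  have hm : CGEN.AG q W r (2 * k) ≤ CGEN.AG q W (2 * max i₀ r) (2 * k) := AG_mono q W hW _ hr
  have hm2 : CGEN.AG q W r (2 * k + 1) ≤ CGEN.AG q W (2 * max i₀ r) (2 * k + 1) :=
    AG_mono q W hW _ hr
  have hm' : (CGEN.AG q W r (2 * k) : ℚ) ≤ (CGEN.AG q W (2 * max i₀ r) (2 * k) : ℚ) := by
    exact_mod_cast hm
  have hm2' : (CGEN.AG q W r (2 * k + 1) : ℚ) ≤ (CGEN.AG q W (2 * max i₀ r) (2 * k + 1) : ℚ) := by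
    exact_mod_cast hm2
  exact ⟨hm'.trans hb.1, hm2'.trans hb.2⟩

/-- `Wev` dominates itself: the bounds of `NUMO` for odd total dimension -/
theorem dom_Wev (q : ℕ) : Dom q (Wev q) := fun z hz hqz M => ⟨gf_even q z hz hqz M, gf_odd q z hz hqz M⟩

end NUM2

end Cfsg.Agent.S2560P
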