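import Mathlib
import Cfsg.Agent.Helper29.S2560NUMA

/-! S2560 chapter (C), piece NUM2, part B: the values of `Wns`, its generating functions, the state after the steps
`m ≤ 2` (computed exactly), and the resulting bounds for `CGEN.AG q (Wns q)`. -/

set_option autoImplicit false
set_option linter.unusedVariables false

namespace Cfsg.Agent.S2560P

open Cfsg.Agent.S2482P Cfsg.Agent.S2558P Cfsg.Agent.S2558P.NUMO

namespace NUM2

theorem Wns_zero (q : ℕ) : Wns q 0 = 1 := by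
  simp [Wns, WEVGF.SR_zero]

theorem Wns_one (q : ℕ) : Wns q 1 = 2 := by
  simp [Wns, WEVGF.SR_one]

theorem Wns_two (q : ℕ) : Wns q 2 = q := by
  simp [Wns, WEVGF.SR_two, WEVGF.SR_zero]

theorem Wns_add_two (q b : ℕ) (hb : 1 ≤ b) : Wns q (b + 2) = SR q (b + 2) - SR q b := by
  unfold Wns
  rw [if_pos (by omega), Nat.add_sub_cancel]

theorem SR_even (q k : ℕ) : SR q (2 * (k + 1)) = q ^ (k + 1) + q ^ k := by
  unfold SR
  rw [if_neg (by omega), if_pos ⟨k + 1, by ring⟩]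
  have : 2 * (k + 1) / 2 = k + 1 := by omega
  rw [this, Nat.add_sub_cancel]

theorem SR_odd (q k : ℕ) : SR q (2 * k + 1) = 2 * q ^ k := by
  unfold SR
  rw [if_neg (by omega), if_neg (by rintro ⟨j, hj⟩; omega)]
  have : (2 * k + 1) / 2 = k := by omega
  rw [this]

theorem Wns_even (q k : ℕ) (hq : 1 ≤ q) : Wns q (2 * (k + 2)) + q ^ k = q ^ (k + 2) := by
  rw [show 2 * (k + 2) = 2 * (k + 1) + 2 by ring, Wns_add_two q _ (by omega),
    show 2 * (k + 1) + 2 = 2 * (k + 1 + 1) by ring, SR_even, SR_even,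
    show k + 1 + 1 = k + 2 by ring]
  have : q ^ k ≤ q ^ (k + 2) := Nat.pow_le_pow_right hq (by omega)
  omega

theorem Wns_odd (q k : ℕ) (hq : 1 ≤ q) : Wns q (2 * (k + 1) + 1) + 2 * q ^ k = 2 * q ^ (k + 1) := by
  rw [show 2 * (k + 1) + 1 = (2 * k + 1) + 2 by ring, Wns_add_two q _ (by omega),
    show 2 * k + 1 + 2 = 2 * (k + 1) + 1 by ring, SR_odd, SR_odd]
  have : q ^ k ≤ q ^ (k + 1) := Nat.pow_le_pow_right hq (by omega)
  omega

theorem Wns_even_le (q c : ℕ) (hq : 1 ≤ q) : Wns q (2 * c) ≤ q ^ c := by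
  rcases c with _ | _ | k
  · simp [Wns_zero]
  · simp [Wns_two]
  · have := Wns_even q k hq
    rw [show k + 1 + 1 = k + 2 by ring]
    omega

theorem Wns_odd_le (q c : ℕ) (hq : 1 ≤ q) : Wns q (2 * c + 1) ≤ 2 * q ^ c := by
  rcases c with _ | k
  · simp [Wns_one]
  · have := Wns_odd q k hq
    omega

/-- the generating functions of `Wns`: numerators `1` and `2` -/
theorem Wns_gf (q : ℕ) (hq : 1 ≤ q) (z : ℚ) (hz : 0 ≤ z) (hqz : (q : ℚ) * z < 1) (M : ℕ) :
    ∑ c ∈ Finset.range M, (Wns q (2 * c) : ℚ) * z ^ c ≤ 1 / (1 - (q : ℚ) * z) ∧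
    ∑ c ∈ Finset.range M, (Wns q (2 * c + 1) : ℚ) * z ^ c ≤ 2 / (1 - (q : ℚ) * z) := by
  have hqz0 : 0 ≤ (q : ℚ) * z := by positivity
  have hg := geom_le _ hqz0 hqz M
  constructor
  · refine le_trans (Finset.sum_le_sum fun c _ => ?_) hg
    have h1 : (Wns q (2 * c) : ℚ) ≤ (q : ℚ) ^ c := by exact_mod_cast Wns_even_le q c hq
    calc (Wns q (2 * c) : ℚ) * z ^ c ≤ (q : ℚ) ^ c * z ^ c :=
          mul_le_mul_of_nonneg_right h1 (by positivity)
      _ = ((q : ℚ) * z) ^ c := (mul_pow _ _ _).symm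
  · have h2 : ∑ c ∈ Finset.range M, (Wns q (2 * c + 1) : ℚ) * z ^ c ≤
        ∑ c ∈ Finset.range M, 2 * ((q : ℚ) * z) ^ c := by
      refine Finset.sum_le_sum fun c _ => ?_
      have h1 : (Wns q (2 * c + 1) : ℚ) ≤ 2 * (q : ℚ) ^ c := by exact_mod_cast Wns_odd_le q c hq
      calc (Wns q (2 * c + 1) : ℚ) * z ^ c ≤ 2 * (q : ℚ) ^ c * z ^ c :=
            mul_le_mul_of_nonneg_right h1 (by positivity)
        _ = 2 * ((q : ℚ) * z) ^ c := by rw [mul_pow]; ring
    refine h2.trans ?_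
    rw [← Finset.mul_sum]
    calc 2 * ∑ c ∈ Finset.range M, ((q : ℚ) * z) ^ c ≤ 2 * (1 / (1 - (q : ℚ) * z)) :=
          mul_le_mul_of_nonneg_left hg (by norm_num)
      _ = 2 / (1 - (q : ℚ) * z) := by ring

theorem dom_Wns (q : ℕ) (hq : 1 ≤ q) : Dom q (Wns q) := by
  intro z hz hqz M
  obtain ⟨h1, h2⟩ := Wns_gf q hq z hz hqz M
  have hden : 0 < 1 - (q : ℚ) * z := by linarith
  constructor
  · refine h1.trans (div_le_div_of_nonneg_right ?_ hden.le)
    unfold Pe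
    nlinarith
  · refine h2.trans (div_le_div_of_nonneg_right ?_ hden.le)
    unfold Po
    nlinarith

/-- the recursion of the state `r = 2` -/
theorem AG_two_rec (q : ℕ) (W : ℕ → ℕ) (N : ℕ) :
    CGEN.AG q W 2 (N + 4) = W (N + 4) + q * CGEN.AG q W 2 N := by
  have h1 := AG_succ_even q W 1 (N + 4) ⟨1, rfl⟩
  have h2 := AG_succ_even q W 1 N ⟨1, rfl⟩
  rw [show (1 : ℕ) + 1 = 2 from rfl] at h1 h2
  rw [h1, h2, show (N + 4) / (2 * 2) = N / (2 * 2) + 1 by omega, Finset.sum_range_succ',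
    Finset.mul_sum, add_comm]
  congr 1
  · simp [AG_one]
  · apply Finset.sum_congr rfl
    intro a _
    rw [show N + 4 - 2 * 2 * (a + 1) = N - 2 * 2 * a by omega, pow_succ]
    ring

theorem AG_two_small (q : ℕ) (W : ℕ → ℕ) (N : ℕ) (hN : N < 4) : CGEN.AG q W 2 N = W N := by
  have h1 := AG_succ_even q W 1 N ⟨1, rfl⟩
  rw [show (1 : ℕ) + 1 = 2 from rfl] at h1
  rw [h1, show N / (2 * 2) = 0 by omega]
  simp [AG_one]

/-- the state after the steps `m ≤ 2` -/
theorem st_two_Wns (q : ℕ) (hq : 2 ≤ q) : StG q (Wns q) 2 (1 + 1 / (q : ℚ)) 2 := by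
  have hq1 : (2 : ℚ) ≤ q := by exact_mod_cast hq
  have hq0 : (q : ℚ) ≠ 0 := by linarith
  have hx0 : (0 : ℚ) ≤ 1 / (q : ℚ) := by positivity
  constructor
  · -- even total dimension, induction with step 2
    have key : ∀ k, (CGEN.AG q (Wns q) 2 (2 * k) : ℚ) ≤ (1 + 1 / (q : ℚ)) * (q : ℚ) ^ k ∧
        (CGEN.AG q (Wns q) 2 (2 * (k + 1)) : ℚ) ≤ (1 + 1 / (q : ℚ)) * (q : ℚ) ^ (k + 1) := by
      intro k
      induction k with
      | zero =>
        rw [AG_two_small _ _ _ (by norm_num), AG_two_small _ _ _ (by norm_num)]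
        constructor
        · rw [Nat.mul_zero, Wns_zero, pow_zero, mul_one, Nat.cast_one]
          linarith
        · rw [show 2 * (0 + 1) = 2 from rfl, Wns_two, zero_add, pow_one]
          have h0 : (0 : ℚ) ≤ (1 / (q : ℚ)) * q := by positivity
          have e : (1 + 1 / (q : ℚ)) * q = q + (1 / (q : ℚ)) * q := by ring
          rw [e]
          linarith
      | succ k ih =>
        refine ⟨ih.2, ?_⟩
        rw [show 2 * (k + 1 + 1) = 2 * k + 4 by ring, AG_two_rec]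
        push_cast
        have hw : (Wns q (2 * k + 4) : ℚ) + (q : ℚ) ^ k = (q : ℚ) ^ (k + 2) := by
          have := Wns_even q k (by omega)
          rw [show 2 * (k + 2) = 2 * k + 4 by ring] at this
          exact_mod_cast this
        have h1 := ih.1
        have h2 : (q : ℚ) * (CGEN.AG q (Wns q) 2 (2 * k) : ℚ) ≤
            (q : ℚ) * ((1 + 1 / (q : ℚ)) * (q : ℚ) ^ k) :=
          mul_le_mul_of_nonneg_left h1 (by positivity)
        have e : (q : ℚ) * ((1 + 1 / (q : ℚ)) * (q : ℚ) ^ k) = (q : ℚ) ^ (k + 1) + (q : ℚ) ^ k := by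
          rw [pow_succ]
          field_simp
        have e2 : (1 + 1 / (q : ℚ)) * (q : ℚ) ^ (k + 1 + 1) = (q : ℚ) ^ (k + 2) + (q : ℚ) ^ (k + 1) := by
          rw [pow_succ (q : ℚ) (k + 1)]
          field_simp
        rw [e2]
        linarith
    exact fun k => (key k).1
  · have key : ∀ k, (CGEN.AG q (Wns q) 2 (2 * k + 1) : ℚ) ≤ 2 * (q : ℚ) ^ k ∧
        (CGEN.AG q (Wns q) 2 (2 * (k + 1) + 1) : ℚ) ≤ 2 * (q : ℚ) ^ (k + 1) := by
      intro k
      induction k with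
      | zero =>
        rw [AG_two_small _ _ _ (by norm_num), AG_two_small _ _ _ (by norm_num)]
        have h3 := Wns_odd q 0 (by omega)
        have h3' : (Wns q (2 * (0 + 1) + 1) : ℚ) + 2 * (q : ℚ) ^ 0 = 2 * (q : ℚ) ^ (0 + 1) := by
          exact_mod_cast h3
        constructor
        · norm_num [Wns_one]
        · norm_num at h3' ⊢
          linarith
      | succ k ih =>
        refine ⟨ih.2, ?_⟩
        rw [show 2 * (k + 1 + 1) + 1 = (2 * k + 1) + 4 by ring, AG_two_rec]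
        push_cast
        have hw : (Wns q (2 * k + 1 + 4) : ℚ) + 2 * (q : ℚ) ^ (k + 1) = 2 * (q : ℚ) ^ (k + 2) := by
          have := Wns_odd q (k + 1) (by omega)
          rw [show 2 * (k + 1 + 1) + 1 = 2 * k + 1 + 4 by ring] at this
          exact_mod_cast this
        have h1 := ih.1
        have h2 : (q : ℚ) * (CGEN.AG q (Wns q) 2 (2 * k + 1) : ℚ) ≤ (q : ℚ) * (2 * (q : ℚ) ^ k) :=
          mul_le_mul_of_nonneg_left h1 (by positivity)
        have e : (q : ℚ) * (2 * (q : ℚ) ^ k) = 2 * (q : ℚ) ^ (k + 1) := by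
          rw [pow_succ]
          ring
        rw [show k + 1 + 1 = k + 2 by ring]
        linarith
    exact fun k => (key k).1

/-- one double step `2 i → 2 i + 2` with the numerators `1`, `2` of `Wns` -/
theorem double_StG_Wns (q i : ℕ) (hq : 2 ≤ q) (hi : 1 ≤ i) (E O : ℚ) (hE0 : 0 ≤ E) (hO0 : 0 ≤ O)
    (h : StG q (Wns q) (2 * i) E O) :
    StG q (Wns q) (2 * i + 1 + 1)
      ((E * 1 + O * (1 / (q : ℚ)) ^ (2 * i / 2 + 1) * 2) / (1 - (1 / (q : ℚ)) ^ (2 * i)) *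
        gE q (2 * i + 1))
      ((O * 1 + E * (1 / (q : ℚ)) ^ (2 * i / 2) * 2) / (1 - (1 / (q : ℚ)) ^ (2 * i)) *
        gE q (2 * i + 1)) := by
  have hodd : ¬ Even (2 * i + 1) := by
    intro h
    rcases h with ⟨k, hk⟩
    omega
  have heven : Even (2 * i + 1 + 1) := ⟨i + 1, by ring⟩
  have hz0 : (0 : ℚ) ≤ (1 / (q : ℚ)) ^ (2 * i + 1) := by positivity
  have hqz : (q : ℚ) * (1 / (q : ℚ)) ^ (2 * i + 1) = (1 / (q : ℚ)) ^ (2 * i) := qz_eq q (2 * i) hq
  have hx1 : (1 / (q : ℚ)) ^ (2 * i) < 1 := x_pow_lt_one q (2 * i) hq (by omega)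
  have hqz1 : (q : ℚ) * (1 / (q : ℚ)) ^ (2 * i + 1) < 1 := by rw [hqz]; exact hx1
  have hd := Wns_gf q (by omega) _ hz0 hqz1
  rw [hqz] at hd
  have s1 := step_oddG q (Wns q) (2 * i) hq (by omega) hodd 1 2 (fun M => (hd M).1)
    (fun M => (hd M).2) E O hE0 hO0 h
  have hden : 0 < 1 - (1 / (q : ℚ)) ^ (2 * i) := by linarith
  have hE1 : 0 ≤ (E * 1 + O * (1 / (q : ℚ)) ^ (2 * i / 2 + 1) * 2) / (1 - (1 / (q : ℚ)) ^ (2 * i)) :=
    div_nonneg (by positivity) hden.le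
  have hO1 : 0 ≤ (O * 1 + E * (1 / (q : ℚ)) ^ (2 * i / 2) * 2) / (1 - (1 / (q : ℚ)) ^ (2 * i)) :=
    div_nonneg (by positivity) hden.le
  exact step_evenG q (Wns q) (2 * i + 1) hq (by omega) heven _ _ hE1 hO1 s1

/-- the base case for `q = 3` -/
theorem InvG_three : InvG 3 (Wns 3) 4 (27 / 10) 4 (7 / 4) := by
  have s2 : StG 3 (Wns 3) 2 (4 / 3) 2 := by
    refine StG_mono 3 _ 2 (st_two_Wns 3 (by norm_num)) ?_ ?_ <;> norm_num
  have s4 : StG 3 (Wns 3) 4 (2077 / 1000) (27 / 8) := by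
    have := double_StG_Wns 3 1 (by norm_num) le_rfl _ _ (by norm_num) (by norm_num) s2
    refine StG_mono 3 _ 4 this ?_ ?_ <;> norm_num [gE]
  have s6 : StG 3 (Wns 3) 6 (1183 / 500) (3901 / 1000) := by
    have := double_StG_Wns 3 2 (by norm_num) (by norm_num) _ _ (by norm_num) (by norm_num) s4
    refine StG_mono 3 _ 6 this ?_ ?_ <;> norm_num [gE]
  have s8 : StG 3 (Wns 3) 8 (2467 / 1000) (1021 / 250) := by
    have := double_StG_Wns 3 3 (by norm_num) (by norm_num) _ _ (by norm_num) (by norm_num) s6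
    refine StG_mono 3 _ 8 this ?_ ?_ <;> norm_num [gE]
  exact ⟨2467 / 1000, 1021 / 250, by norm_num, by norm_num, by norm_num, by norm_num, s8⟩

/-- the base case for `q ≥ 5` -/
theorem InvG_five (q : ℕ) (hq : 5 ≤ q) : InvG q (Wns q) 1 3 3 2 := by
  have hq1 : (5 : ℚ) ≤ q := by exact_mod_cast hq
  have hx0 : (0 : ℚ) < 1 / (q : ℚ) := by positivity
  have hx5 : 1 / (q : ℚ) ≤ 1 / 5 := one_div_le_one_div_of_le (by norm_num) hq1
  refine ⟨_, _, by positivity, by norm_num, ?_, ?_, st_two_Wns q (by omega)⟩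
  · rw [pow_one]
    linarith
  · rw [pow_one]
    linarith

/-- the bounds for `CGEN.AG q (Wns q)` -/
theorem AGWns_three (r k : ℕ) :
    (CGEN.AG 3 (Wns 3) r (2 * k + 1) : ℚ) ≤ 189 / 40 * (3 : ℚ) ^ k := by
  have h := (boundG_all 3 (Wns 3) (Wns_zero 3) (dom_Wns 3 (by norm_num)) 4 le_rfl (by norm_num)
    (27 / 10) 4 (7 / 4) (7 / 12) (by norm_num) (by norm_num)
    (by norm_num) (by norm_num) (by norm_num) (by norm_num) (by norm_num) (by norm_num) (by norm_num)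
    InvG_three r k).2
  have e : (7 / 4 : ℚ) * (27 / 10) = 189 / 40 := by norm_num
  rw [e] at h
  exact_mod_cast h

theorem AGWns_five (q : ℕ) (hq : 5 ≤ q) (r k : ℕ) :
    (CGEN.AG q (Wns q) r (2 * k + 1) : ℚ) ≤ 6 * (q : ℚ) ^ k := by
  have hq1 : (5 : ℚ) ≤ q := by exact_mod_cast hq
  have hx0 : (0 : ℚ) < 1 / (q : ℚ) := by positivity
  have hx5 : 1 / (q : ℚ) ≤ 1 / 5 := one_div_le_one_div_of_le (by norm_num) hq1
  have h := (boundG_all q (Wns q) (Wns_zero q) (dom_Wns q (by omega)) 1 (by omega) le_rfl 3 3 2 (1 / 2)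
    (by norm_num) (by norm_num)
    (by linarith) (by norm_num) (by norm_num) (by norm_num) (by rw [pow_one]; linarith)
    (by linarith) (by norm_num) (InvG_five q hq) r k).2
  have e : (2 : ℚ) * 3 = 6 := by norm_num
  rw [e] at h
  exact h

/-- the states of `NUMO` are states of the generic recursion -/
theorem StG_of_St (q r : ℕ) (E O : ℚ) (h : St q r E O) : StG q (Wev q) r E O := by
  constructor
  · intro k
    rw [← CGEN.AO_eq_AG]
    exact h.1 k
  · intro k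
    rw [← CGEN.AO_eq_AG]
    exact h.2 k

theorem InvG_of_Inv (q i : ℕ) (K c ρ : ℚ) (h : Inv q i K c ρ) : InvG q (Wev q) i K c ρ := by
  obtain ⟨E, O, h1, h2, h3, h4, h5⟩ := h
  exact ⟨E, O, h1, h2, h3, h4, StG_of_St q _ E O h5⟩

/-- the bounds for `AO` in odd total dimension -/
theorem AO_odd_three (r k : ℕ) : (AO 3 r (2 * k + 1) : ℚ) ≤ 231 / 8 * (3 : ℚ) ^ k := by
  have h := (boundG_all 3 (Wev 3) (Wev_zero 3) (dom_Wev 3) 4 le_rfl (by norm_num)
    (33 / 2) 4 (7 / 4) (7 / 12) (by norm_num) (by norm_num)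
    (by norm_num) (by norm_num) (by norm_num) (by norm_num) (by norm_num) (by norm_num) (by norm_num)
    (InvG_of_Inv _ _ _ _ _ Inv_three) r k).2
  have e : (7 / 4 : ℚ) * (33 / 2) = 231 / 8 := by norm_num
  rw [e, ← CGEN.AO_eq_AG] at h
  exact_mod_cast h

theorem AO_odd_five (q : ℕ) (hq : 5 ≤ q) (r k : ℕ) :
    (AO q r (2 * k + 1) : ℚ) ≤ 16 * (q : ℚ) ^ k := by
  have hq1 : (5 : ℚ) ≤ q := by exact_mod_cast hq
  have hx0 : (0 : ℚ) < 1 / (q : ℚ) := by positivity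
  have hx5 : 1 / (q : ℚ) ≤ 1 / 5 := one_div_le_one_div_of_le (by norm_num) hq1
  have h := (boundG_all q (Wev q) (Wev_zero q) (dom_Wev q) 1 (by omega) le_rfl 8 3 2 (1 / 2)
    (by norm_num) (by norm_num)
    (by linarith) (by norm_num) (by norm_num) (by norm_num) (by rw [pow_one]; linarith)
    (by linarith) (by norm_num) (InvG_of_Inv _ _ _ _ _ (Inv_five q hq)) r k).2
  have e : (2 : ℚ) * 8 = 16 := by norm_num
  rw [e, ← CGEN.AO_eq_AG] at h
  exact h

end NUM2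

end Cfsg.Agent.S2560P
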