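import Mathlib
import Cfsg.Agent.Helper29.S2560NUMB
import Cfsg.Agent.Helper29.S2558NUME

/-! S2560 chapter (C), piece NUM2: `AOfree q r (2n+1) = 0` and
`10 * (AO q r (2n+1) + 6 * CGEN.AG q (Wns q) r (2n+1)) ≤ 584 * q^n`. -/

set_option autoImplicit false
set_option linter.unusedVariables false

namespace Cfsg.Agent.S2560P

open Cfsg.Agent.S2482P Cfsg.Agent.S2558P Cfsg.Agent.S2558P.NUMO

theorem NUM2.AOfree_odd (q r n : ℕ) : AOfree q r (2 * n + 1) = 0 := by
  induction r generalizing n with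
  | zero =>
    rw [AOfree_zero, if_neg (by omega)]
  | succ r ih =>
    by_cases h : Even (r + 1)
    · rw [AOfree_succ_even q r _ h]
      apply Finset.sum_eq_zero
      intro a ha
      rw [Finset.mem_range] at ha
      have ha1 : a ≤ (2 * n + 1) / (2 * (r + 1)) := by omega
      have ha2 : a * (2 * (r + 1)) ≤ 2 * n + 1 := (Nat.le_div_iff_mul_le (by positivity)).mp ha1
      have : 2 * n + 1 - 2 * (r + 1) * a = 2 * (n - (r + 1) * a) + 1 := by
        have e : 2 * (r + 1) * a = 2 * ((r + 1) * a) := by ring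
        have e2 : a * (2 * (r + 1)) = 2 * ((r + 1) * a) := by ring
        omega
      rw [this, ih, mul_zero]
    · rw [AOfree_succ_odd q r _ h]
      apply Finset.sum_eq_zero
      intro b hb
      rw [Finset.mem_range] at hb
      have hb1 : b ≤ (2 * n + 1) / (r + 1) := by omega
      have hb2 : b * (r + 1) ≤ 2 * n + 1 := (Nat.le_div_iff_mul_le (Nat.succ_pos r)).mp hb1
      rcases Nat.even_or_odd' b with ⟨c, hc | hc⟩
      · have : 2 * n + 1 - (r + 1) * b = 2 * (n - (r + 1) * c) + 1 := by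
          have e : (r + 1) * b = 2 * ((r + 1) * c) := by rw [hc]; ring
          have e2 : b * (r + 1) = 2 * ((r + 1) * c) := by rw [hc]; ring
          omega
        rw [this, ih, mul_zero]
      · rw [hc, Wfree_odd, zero_mul]

theorem NUM2.bound (q : ℕ) (hq : 3 ≤ q) (hodd : Odd q) (r n : ℕ) :
    10 * (AO q r (2 * n + 1) + 6 * CGEN.AG q (Wns q) r (2 * n + 1)) ≤ 584 * q ^ n := by
  have hpos : (0 : ℚ) ≤ (q : ℚ) ^ n := by positivity
  rcases Nat.lt_or_ge q 5 with h5 | h5
  · have h3 : q = 3 := by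
      rcases hodd with ⟨j, hj⟩
      omega
    subst h3
    have h1 := NUM2.AO_odd_three r n
    have h2 := NUM2.AGWns_three r n
    have : (10 * (AO 3 r (2 * n + 1) + 6 * CGEN.AG 3 (Wns 3) r (2 * n + 1)) : ℚ) ≤ 584 * (3 : ℚ) ^ n := by
      have hpos3 : (0 : ℚ) ≤ (3 : ℚ) ^ n := by positivity
      linarith
    exact_mod_cast this
  · have h1 := NUM2.AO_odd_five q h5 r n
    have h2 := NUM2.AGWns_five q h5 r n
    have : (10 * (AO q r (2 * n + 1) + 6 * CGEN.AG q (Wns q) r (2 * n + 1)) : ℚ) ≤ 584 * (q : ℚ) ^ n := by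
      linarith
    exact_mod_cast this

end Cfsg.Agent.S2560P
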