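import Mathlib
import Cfsg.Agent.Helper29.S2560CDefs
import Cfsg.Agent.Helper29.S2560NUM2
import Cfsg.Agent.Helper26.S2558COUNTSO
import Cfsg.Agent.Helper26.S2558COUNTFREE
import Cfsg.Agent.Helper20.S2560CARDM
import Cfsg.Agent.Helper20.S2560CARDP
import Cfsg.Agent.Helper25.S2560CARDONE
import Cfsg.Agent.Helper25.S2560PARITY2

/-! S2560 chapter (C) COUNT, FINAL (driver helper29): for `RK ⊆ SO F r (2n+1)` with the double parity property and
`RS ⊆ TOone F r (2n+1)`: `10 * (4 #RK + 4 #RS) ≤ 584 q^n`. -/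

set_option autoImplicit false

namespace Cfsg.Agent.S2560P

open Polynomial Cfsg.Agent.S2478P Cfsg.Agent.S2481P Cfsg.Agent.S2482P Cfsg.Agent.S2558P

universe u

/-- FINAL of chapter (C) -/
theorem count_final {F : Type u} [Field F] [Fintype F] (hodd : Odd (Fintype.card F)) (r n : ℕ)
    (RK : Set ((ℕ → F[X]) × (ℕ → Bool × Bool))) (hRK : RK ⊆ SO F r (2 * n + 1))
    (hp : ∀ x ∈ RK, ∀ x' ∈ RK, x.1 = x'.1 → Even (nsqp r x.2 + nsqp r x'.2))
    (hm : ∀ x ∈ RK, ∀ x' ∈ RK, x.1 = x'.1 → Even (nsqm r x.2 + nsqm r x'.2))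
    (RS : Set (ℕ → F[X])) (hRS : RS ⊆ TOone F r (2 * n + 1)) :
    RK.Finite ∧ RS.Finite ∧
      10 * (4 * Nat.card RK + 4 * Nat.card RS) ≤ 584 * Fintype.card F ^ n := by
  have h1 := COUNTSO.card_SO hodd r (2 * n + 1)
  have h2 := COUNTFREE.card_SOfree hodd r (2 * n + 1)
  have h3 := CARDM.card_SOm hodd r (2 * n + 1)
  have h4 := CARDP.card_SOp hodd r (2 * n + 1)
  have h5 := CARDONE.card_TOone hodd r (2 * n + 1)
  have hfK : RK.Finite := h1.1.subset hRK
  have hfS : RS.Finite := h5.1.subset hRS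
  refine ⟨hfK, hfS, ?_⟩
  have h6 := PARITY2.four_card_le r (2 * n + 1) RK hRK h1.1 hp hm
  rw [h1.2, h2.2, h3.2, h4.2, NUM2.AOfree_odd] at h6
  have h7 : Nat.card RS ≤ Nat.card (TOone F r (2 * n + 1)) := by
    have : Finite (TOone F r (2 * n + 1)) := h5.1
    exact Nat.card_le_card_of_injective (fun x => (⟨x.1, hRS x.2⟩ : TOone F r (2 * n + 1)))
      (fun x y h => Subtype.ext (by simpa using congrArg Subtype.val h))
  rw [h5.2] at h7
  have hq : 3 ≤ Fintype.card F := by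
    have h1 : 1 < Fintype.card F := Fintype.one_lt_card
    rcases hodd with ⟨k, hk⟩
    omega
  have h8 := NUM2.bound _ hq hodd r n
  omega

end Cfsg.Agent.S2560P
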