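import Mathlib
import Cfsg.Agent.Helper17.S2558GDefs
import Cfsg.Agent.Helper14.S2558OGLLIN
import Cfsg.Agent.Helper28.Spin5

/-! S2560 chapter (S), piece SAMEDET (driver helper17): isometries with the same type have the same determinant. -/

set_option autoImplicit false

namespace Cfsg.Agent.S2560P

open Polynomial Cfsg.Agent.Helper2.SympInvol Cfsg.Agent.S2676P Cfsg.Agent.S2478P Cfsg.Agent.S2481P
  Cfsg.Agent.S2482P Cfsg.Agent.S2558P Cfsg.Agent.Helper28.Spin

universe u

variable {F : Type u} [Field F] [Fintype F] {ι : Type} [Fintype ι] [DecidableEq ι]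

theorem SAMEDET.det_eq_of_conj (M M' : Matrix ι ι F) (φ : (ι → F) ≃ₗ[F] (ι → F))
    (hφ : ∀ v : ι → F, φ (Matrix.toLin' M v) = Matrix.toLin' M' (φ v)) : M.det = M'.det := by
  have hconj : Matrix.toLin' M' = φ.conj (Matrix.toLin' M) := by
    apply LinearMap.ext
    intro v
    rw [LinearEquiv.conj_apply_apply, hφ, LinearEquiv.apply_symm_apply]
  have h1 : LinearMap.det (Matrix.toLin' M') = LinearMap.det (Matrix.toLin' M) := by
    rw [hconj, LinearEquiv.conj_apply, LinearMap.comp_assoc, LinearMap.det_conj]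
  rw [LinearMap.det_toLin', LinearMap.det_toLin'] at h1
  exact h1.symm

theorem SAMEDET.det_eq_of_linIso (B : LinearMap.BilinForm F (ι → F)) (M M' : Matrix ι ι F)
    (h : (ofO B M).LinIso (ofO B M')) : M.det = M'.det := by
  obtain ⟨φ, hφ⟩ := h
  exact SAMEDET.det_eq_of_conj M M' φ hφ

theorem SAMEDET.detHom_eq {N : ℕ} (Q : QuadraticForm F (ι → F))
    (B : LinearMap.BilinForm F (ι → F)) (e : ι ≃ Fin N)
    (g g' : Cfsg.isometryGroup F ⇑Q) (x x' : (ℕ → F[X]) × (ℕ → Bool × Bool))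
    (h : RelO B e ((g : Matrix.GeneralLinearGroup ι F) : Matrix ι ι F) x)
    (h' : RelO B e ((g' : Matrix.GeneralLinearGroup ι F) : Matrix ι ι F) x')
    (htt : x.1 = x'.1) : detHom Q g = detHom Q g' := by
  obtain ⟨ht, -⟩ := h
  obtain ⟨ht', -⟩ := h'
  rw [← htt] at ht'
  apply Units.ext
  rw [detHom_val, detHom_val]
  exact SAMEDET.det_eq_of_linIso B _ _ (OGLLIN.linIso_of_hasType B e _ _ x.1 ht ht')

end Cfsg.Agent.S2560P
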