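import Mathlib

set_option autoImplicit false
set_option linter.unusedSectionVars false
set_option linter.unusedVariables false

/-! # S0679, step (1), case `d = 1` (helper29): Burnside transfer

A transitive permutation group `G` of prime degree `p` whose Sylow `p`-subgroup `P` satisfies
`N_G(P) ≤ C_G(P)` is solvable (indeed `G = P`): the normal `p`-complement `K` of Burnside's transfer
theorem has orbits which are blocks, of size dividing `p` and dividing `|K|`, hence `K = 1`. -/

namespace Cfsg.Agent.S0679P

open Equiv MulAction Subgroup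

variable {α : Type*} [Fintype α] [DecidableEq α]

/-- a normal subgroup of order prime to `p` of a transitive group of prime degree `p` is trivial -/
theorem D1.normal_trivial {p : ℕ} [Fact p.Prime] (hα : Fintype.card α = p)
    (G : Subgroup (Equiv.Perm α)) [MulAction.IsPretransitive G α] (K : Subgroup G) [K.Normal]
    (hK : ¬ p ∣ Nat.card K) : K = ⊥ := by
  classical
  rw [Subgroup.eq_bot_iff_forall]
  intro k hk
  -- `k` fixes every point
  have hfix : ∀ a : α, (k : Equiv.Perm α) a = a := by
    intro a
    have hblock : IsBlock G (orbit K a) := IsBlock.orbit_of_normal a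
    have hne : (orbit K a).Nonempty := ⟨a, mem_orbit_self a⟩
    have hdvd : Set.ncard (orbit K a) ∣ Nat.card α := hblock.ncard_dvd_card hne
    rw [Nat.card_eq_fintype_card, hα] at hdvd
    have hdvdK : Set.ncard (orbit K a) ∣ Nat.card K := by
      have h1 := MulAction.card_orbit_mul_card_stabilizer_eq_card_group K a
      have h2 : Set.ncard (orbit K a) = Nat.card (orbit K a) := (Nat.card_coe_set_eq _).symm
      rw [h2]
      haveI : Fintype (orbit K a) := Fintype.ofFinite _
      haveI : Fintype (stabilizer K a) := Fintype.ofFinite _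
      haveI : Fintype K := Fintype.ofFinite _
      rw [Nat.card_eq_fintype_card, Nat.card_eq_fintype_card]
      exact Dvd.intro _ (by convert h1)
    have h1 : Set.ncard (orbit K a) = 1 := by
      rcases (Nat.dvd_prime (Fact.out : p.Prime)).mp hdvd with h | h
      · exact h
      · exfalso; rw [h] at hdvdK; exact hK hdvdK
    rw [Set.ncard_eq_one] at h1
    obtain ⟨b, hb⟩ := h1
    have ha : a ∈ orbit K a := mem_orbit_self a
    have hka : (⟨k, hk⟩ : K) • a ∈ orbit K a := mem_orbit a _
    rw [hb, Set.mem_singleton_iff] at ha hka
    have : (⟨k, hk⟩ : K) • a = a := by rw [hka, ha]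
    exact this
  apply Subtype.ext
  apply Equiv.Perm.ext
  intro a
  rw [hfix a]
  rfl

/-- **case `d = 1`**: `N_G(P) ≤ C_G(P)` forces `G = P`, so `G` is solvable -/
theorem D1 {p : ℕ} [Fact p.Prime] (hα : Fintype.card α = p) (G : Subgroup (Equiv.Perm α))
    [MulAction.IsPretransitive G α] (P : Sylow p G)
    (hP : normalizer (P : Set G) ≤ centralizer (P : Set G)) : Group.IsSolvable G := by
  classical
  have hcompl := MonoidHom.ker_transferSylow_isComplement' P hP
  have hnd := MonoidHom.not_dvd_card_ker_transferSylow P hP
  have hK : (MonoidHom.transferSylow P hP).ker = ⊥ :=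
    D1.normal_trivial hα G _ hnd
  rw [hK, isComplement'_bot_left] at hcompl
  apply Group.isSolvable_of_comm
  intro a b
  have ha : a ∈ (P : Subgroup G) := by rw [hcompl]; trivial
  have hb : b ∈ (P : Subgroup G) := by rw [hcompl]; trivial
  exact (hP (le_normalizer ha) b hb).symm

/-- variant: `N_G(P) = P` and `P` commutative -/
theorem D1' {p : ℕ} [Fact p.Prime] (hα : Fintype.card α = p) (G : Subgroup (Equiv.Perm α))
    [MulAction.IsPretransitive G α] (P : Sylow p G)
    (hN : normalizer (P : Set G) = (P : Subgroup G))
    (hc : ∀ a ∈ (P : Subgroup G), ∀ b ∈ (P : Subgroup G), a * b = b * a) : Group.IsSolvable G := by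
  apply D1 hα G P
  rw [hN]
  intro a ha
  rw [mem_centralizer_iff]
  intro b hb
  exact hc b hb a ha

end Cfsg.Agent.S0679P
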