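import Mathlib

/-! S2221 (driver helper29): direct decomposability of the Sylow 2-subgroups of `A_n`.
Shared definitions.

Model: `Om k` is a set with `2 ^ k` points (`Om (k+1) = Om k ⊕ Om k`), `W k ≤ Perm (Om k)` is the
iterated wreath product `C₂ ≀ ⋯ ≀ C₂` (a Sylow 2-subgroup of `S_{2^k}`); for `n = ∑_{k ∈ bitsF n} 2^k`
the group `PW n = Π_{k ∈ bitsF n} W k` acts on `Σ k, Om k ≃ Fin n` and `QW n = ker (sign)` is a Sylow
2-subgroup of `A_n`. -/

set_option autoImplicit false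

namespace Cfsg.Agent.S2221P

open Equiv

/-- abstract direct decomposability of a group -/
def Decomp (H : Type*) [Group H] : Prop :=
  ∃ A B : Subgroup H, A ≠ ⊥ ∧ B ≠ ⊥ ∧ (∀ a ∈ A, ∀ b ∈ B, a * b = b * a) ∧ A ⊓ B = ⊥ ∧ A ⊔ B = ⊤

/-- the hypotheses on a factor used in the abstract indecomposability theorem -/
structure GoodFactor (G : Type*) [Group G] (s : G →* ℤˣ) : Prop where
  nonab : ∃ x y : G, x * y ≠ y * x
  cen : ∃ z : G, z ∈ commutator G ∧ ∀ c : G, (∀ g, c * g = g * c) → c = 1 ∨ c = z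
  odd : ∃ t : G, s t = -1
  claimC : ∀ X Y : Subgroup G, (∀ x ∈ X, ∀ y ∈ Y, x * y = y * x) → X ⊔ Y = ⊤ →
    X ≤ Subgroup.center G ∨ Y ≤ Subgroup.center G

section family

variable {ι : Type*} (G : ι → Type*) [∀ i, Group (G i)] (S : ((i : ι) → G i) →* ℤˣ)

/-- the projection of the kernel of `S` onto a factor -/
def proj (i : ι) : ↥S.ker →* G i := (Pi.evalMonoidHom G i).comp S.ker.subtype

@[simp] theorem proj_apply (i : ι) (q : ↥S.ker) : proj G S i q = (q : (i : ι) → G i) i := rfl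

end family

section wreath

variable {α : Type*}

/-- the swap of the two halves -/
def tau : Perm (α ⊕ α) := Equiv.sumComm α α

/-- the base group element `(a, b)` -/
def pr (a b : Perm α) : Perm (α ⊕ α) := Equiv.sumCongr a b

@[simp] theorem tau_inl (x : α) : (tau : Perm (α ⊕ α)) (Sum.inl x) = Sum.inr x := rfl
@[simp] theorem tau_inr (x : α) : (tau : Perm (α ⊕ α)) (Sum.inr x) = Sum.inl x := rfl
@[simp] theorem pr_inl (a b : Perm α) (x : α) : pr a b (Sum.inl x) = Sum.inl (a x) := rfl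
@[simp] theorem pr_inr (a b : Perm α) (x : α) : pr a b (Sum.inr x) = Sum.inr (b x) := rfl

theorem tau_mul_tau : (tau : Perm (α ⊕ α)) * tau = 1 := by
  ext x; cases x <;> rfl

theorem tau_inv : (tau : Perm (α ⊕ α))⁻¹ = tau := inv_eq_of_mul_eq_one_right tau_mul_tau

theorem pr_mul (a b c d : Perm α) : pr a b * pr c d = pr (a * c) (b * d) := by
  ext x; cases x <;> rfl

theorem pr_one : pr (1 : Perm α) 1 = 1 := by
  ext x; cases x <;> rfl

theorem pr_inv (a b : Perm α) : (pr a b)⁻¹ = pr a⁻¹ b⁻¹ := by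
  apply inv_eq_of_mul_eq_one_right
  rw [pr_mul, mul_inv_cancel, mul_inv_cancel, pr_one]

theorem tau_mul_pr (a b : Perm α) : tau * pr a b = pr b a * tau := by
  ext x; cases x <;> rfl

theorem pr_injective {a b c d : Perm α} (h : pr a b = pr c d) : a = c ∧ b = d := by
  constructor
  · ext x
    have := congrArg (fun σ : Perm (α ⊕ α) => σ (Sum.inl x)) h
    simpa using this
  · ext x
    have := congrArg (fun σ : Perm (α ⊕ α) => σ (Sum.inr x)) h
    simpa using this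

theorem pr_ne_pr_mul_tau [Nonempty α] (a b c d : Perm α) : pr a b ≠ pr c d * tau := by
  intro h
  obtain ⟨x⟩ := ‹Nonempty α›
  have := congrArg (fun σ : Perm (α ⊕ α) => σ (Sum.inl x)) h
  simp [Perm.mul_apply] at this

/-- the wreath product `B ≀ C₂` acting on `α ⊕ α` -/
def wr (B : Subgroup (Perm α)) : Subgroup (Perm (α ⊕ α)) where
  carrier := {σ | ∃ a ∈ B, ∃ b ∈ B, σ = pr a b ∨ σ = pr a b * tau}
  one_mem' := ⟨1, B.one_mem, 1, B.one_mem, Or.inl pr_one.symm⟩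
  mul_mem' := by
    rintro σ ρ ⟨a, ha, b, hb, h1 | h1⟩ ⟨c, hc, d, hd, h2 | h2⟩
    · exact ⟨a * c, B.mul_mem ha hc, b * d, B.mul_mem hb hd, Or.inl (by rw [h1, h2, pr_mul])⟩
    · exact ⟨a * c, B.mul_mem ha hc, b * d, B.mul_mem hb hd,
        Or.inr (by rw [h1, h2, ← mul_assoc, pr_mul])⟩
    · exact ⟨a * d, B.mul_mem ha hd, b * c, B.mul_mem hb hc,
        Or.inr (by rw [h1, h2, mul_assoc, tau_mul_pr, ← mul_assoc, pr_mul])⟩
    · exact ⟨a * d, B.mul_mem ha hd, b * c, B.mul_mem hb hc,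
        Or.inl (by rw [h1, h2, mul_assoc, ← mul_assoc tau, tau_mul_pr, mul_assoc, tau_mul_tau,
          mul_one, pr_mul])⟩
  inv_mem' := by
    rintro σ ⟨a, ha, b, hb, h1 | h1⟩
    · exact ⟨a⁻¹, B.inv_mem ha, b⁻¹, B.inv_mem hb, Or.inl (by rw [h1, pr_inv])⟩
    · refine ⟨b⁻¹, B.inv_mem hb, a⁻¹, B.inv_mem ha, Or.inr ?_⟩
      rw [h1, mul_inv_rev, tau_inv, pr_inv, tau_mul_pr]

theorem mem_wr_iff {B : Subgroup (Perm α)} {σ : Perm (α ⊕ α)} :
    σ ∈ wr B ↔ ∃ a ∈ B, ∃ b ∈ B, σ = pr a b ∨ σ = pr a b * tau := Iff.rfl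

theorem pr_mem_wr {B : Subgroup (Perm α)} {a b : Perm α} (ha : a ∈ B) (hb : b ∈ B) :
    pr a b ∈ wr B := ⟨a, ha, b, hb, Or.inl rfl⟩

theorem tau_mem_wr (B : Subgroup (Perm α)) : (tau : Perm (α ⊕ α)) ∈ wr B :=
  ⟨1, B.one_mem, 1, B.one_mem, Or.inr (by rw [pr_one, one_mul])⟩

end wreath

/-- the point set with `2 ^ k` elements -/
def Om : ℕ → Type
  | 0 => Unit
  | (k + 1) => Om k ⊕ Om k

instance instFintypeOm : ∀ k, Fintype (Om k)
  | 0 => inferInstanceAs (Fintype Unit)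
  | (k + 1) => @instFintypeSum _ _ (instFintypeOm k) (instFintypeOm k)

instance instDecidableEqOm : ∀ k, DecidableEq (Om k)
  | 0 => inferInstanceAs (DecidableEq Unit)
  | (k + 1) => @instDecidableEqSum _ _ (instDecidableEqOm k) (instDecidableEqOm k)

instance instNonemptyOm : ∀ k, Nonempty (Om k)
  | 0 => ⟨()⟩
  | (k + 1) => ⟨Sum.inl (instNonemptyOm k).some⟩

/-- the iterated wreath product, a Sylow 2-subgroup of `Perm (Om k)` -/
def W : (k : ℕ) → Subgroup (Perm (Om k))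
  | 0 => ⊥
  | (k + 1) => wr (W k)

/-- the central involution of `W k` (`k ≥ 1`) -/
def zc : (k : ℕ) → Perm (Om k)
  | 0 => 1
  | 1 => (tau : Perm (Om 0 ⊕ Om 0))
  | (k + 2) => (pr (zc (k + 1)) (zc (k + 1)) : Perm (Om (k + 1) ⊕ Om (k + 1)))

/-- an odd element of `W k` (`k ≥ 1`): a transposition -/
def tc : (k : ℕ) → Perm (Om k)
  | 0 => 1
  | 1 => (tau : Perm (Om 0 ⊕ Om 0))
  | (k + 2) => (pr (tc (k + 1)) 1 : Perm (Om (k + 1) ⊕ Om (k + 1)))

/-- the sign character on `W k` -/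
def sW (k : ℕ) : ↥(W k) →* ℤˣ := Perm.sign.comp (W k).subtype

/-- the binary digits of `n` -/
def bitsF (n : ℕ) : Finset ℕ := n.bitIndices.toFinset

/-- the index type: the positions of the binary digits `1` of `n` -/
abbrev Idx (n : ℕ) : Type := ↥(bitsF n)

/-- the points: `n = ∑_{k ∈ bitsF n} 2 ^ k` of them -/
abbrev Pts (n : ℕ) : Type := (k : Idx n) × Om k.1

/-- the Sylow 2-subgroup of `S_n`, abstractly -/
abbrev PW (n : ℕ) : Type := (k : Idx n) → ↥(W k.1)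

/-- the action of `PW n` on the `n` points -/
def rho (n : ℕ) : PW n →* Perm (Pts n) :=
  (Perm.sigmaCongrRightHom (fun k : Idx n => Om k.1)).comp
    (MonoidHom.pi fun k => ((W k.1).subtype).comp (Pi.evalMonoidHom _ k))

/-- the sign character on `PW n` -/
def sgn (n : ℕ) : PW n →* ℤˣ := Perm.sign.comp (rho n)

end Cfsg.Agent.S2221P
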