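import Mathlib
import Cfsg.Prelude.Def_GeometricClasses

set_option autoImplicit false

/-! S5965 (subfield subgroups of `PSL_n(q)`, odd primes `r ≠ p`): shared definition. -/

namespace Cfsg.Agent.S5965P

/-- `x` is *rational* over the subfield `F₀`: in some basis its matrix has all entries in `F₀`. -/
def IsRat {F V : Type*} [Field F] [AddCommGroup V] [Module F V] (F₀ : Subfield F)
    (x : Module.End F V) : Prop :=
  ∃ (ι : Type) (_ : Fintype ι) (_ : DecidableEq ι) (b : Module.Basis ι F V) (M₀ : Matrix ι ι F₀),
    LinearMap.toMatrix b b x = M₀.map F₀.subtype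

end Cfsg.Agent.S5965P
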