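import Mathlib
import Cfsg.Prelude.Def_Characters
import Cfsg.Prelude.Def_Blocks
import Cfsg.Agent.Helper24.Abelian
import Cfsg.Agent.Helper24.Gagola

/-!
Shared definitions for the S4467 (Winter) project: the conclusion `Good p n` and the subgroup
`fixSub E x` of elements of `E` commuting with `x` modulo the centre.
-/

set_option autoImplicit false

namespace Cfsg.Agent.S4467P

open Cfsg Cfsg.Agent.Helper24
open scoped commutatorElement

universe u

/-- The conclusion of Winter's theorem: `n` has a prime power divisor `q > 1` with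
`q ≡ -1, 0, 1 (mod p)`. -/
def Good (p n : ℕ) : Prop :=
  ∃ q : ℕ, IsPrimePow q ∧ q ∣ n ∧
    ((q : ℤ) ≡ -1 [ZMOD p] ∨ (q : ℤ) ≡ 0 [ZMOD p] ∨ (q : ℤ) ≡ 1 [ZMOD p])

theorem Good.of_dvd {p n m : ℕ} (h : Good p n) (hnm : n ∣ m) : Good p m := by
  obtain ⟨q, hq, hqn, hc⟩ := h
  exact ⟨q, hq, hqn.trans hnm, hc⟩

/-- A prime power `q ∣ n` with `q ≡ 0` or `1 (mod p)` (natural number congruence). -/
theorem Good.of_modEq {p n q : ℕ} (hq : IsPrimePow q) (hqn : q ∣ n)
    (h : q ≡ 0 [MOD p] ∨ q ≡ 1 [MOD p]) : Good p n := by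
  refine ⟨q, hq, hqn, ?_⟩
  rcases h with h | h
  · right; left
    have := (Int.natCast_modEq_iff (a := q) (b := 0) (n := p)).mpr h
    simpa using this
  · right; right
    have := (Int.natCast_modEq_iff (a := q) (b := 1) (n := p)).mpr h
    simpa using this

variable {G : Type u} [Group G]

/-- The elements of `E` that commute with `x` modulo the centre of `G`. -/
def fixSub (E : Subgroup G) (x : G) : Subgroup G :=
  E ⊓ (Subgroup.centralizer
    {(QuotientGroup.mk' (Subgroup.center G) x)}).comap (QuotientGroup.mk' (Subgroup.center G))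

theorem mem_fixSub (E : Subgroup G) (x e : G) :
    e ∈ fixSub E x ↔ e ∈ E ∧ ⁅e, x⁆ ∈ Subgroup.center G := by
  unfold fixSub
  rw [Subgroup.mem_inf, Subgroup.mem_comap, Subgroup.mem_centralizer_iff]
  refine and_congr Iff.rfl ?_
  simp only [Set.mem_singleton_iff, forall_eq]
  rw [← QuotientGroup.eq_one_iff (N := Subgroup.center G), commutatorElement_def]
  simp only [QuotientGroup.mk'_apply, QuotientGroup.mk_mul, QuotientGroup.mk_inv]
  constructor
  · intro h
    rw [← h]; group
  · intro h
    have h2 : (e : G ⧸ Subgroup.center G) * x = x * e := by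
      have := congrArg (fun t => t * ((x : G ⧸ Subgroup.center G) * e)) h
      simp only [one_mul] at this
      rw [← this]; group
    exact h2.symm

theorem fixSub_le (E : Subgroup G) (x : G) : fixSub E x ≤ E := inf_le_left

theorem center_le_fixSub (E : Subgroup G) (x : G) (hZE : Subgroup.center G ≤ E) :
    Subgroup.center G ≤ fixSub E x := by
  intro z hz
  rw [mem_fixSub]
  refine ⟨hZE hz, ?_⟩
  have : ⁅z, x⁆ = 1 := by
    rw [commutatorElement_def, (Subgroup.mem_center_iff.mp hz x).symm]; group
  rw [this]; exact Subgroup.one_mem _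

end Cfsg.Agent.S4467P
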