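import Mathlib
import Cfsg.Agent.Helper2.S2099.DefsA
import Cfsg.Agent.Helper2.S2099.DefsZ
import Cfsg.Agent.Helper7.S2096YIND
import Cfsg.Agent.Helper18.S2099C2Q
import Cfsg.Agent.Helper22.S2099LNGQ
import Cfsg.Agent.Helper22.S2099LBALQ

set_option autoImplicit false
set_option linter.unusedSectionVars false
set_option linter.unusedVariables false

/-! S2099 chapter A, piece LYINDQ: the canonical commutator of the lifts of two long root elements
does not depend on the middle index. (`LYINDQ.four_index'` is an own copy of the four index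
identity of S2096 with the commutation of the lifts as a hypothesis.) -/

namespace Cfsg.Agent.S2099P

open Matrix Cfsg.Agent.S3352P Cfsg.Agent.S3351P Cfsg.Agent.S2096P Cfsg.Agent.S2086P
open Cfsg.Agent.S2094P (LongOK isRoot_ng_right' isRoot_ng_left')
open scoped commutatorElement

variable {n : ℕ} {F : Type*} [Field F] [Fintype F] {P : Type*} [AddCommGroup P] [Module F P]
  {G : Type*} [Group G] {E : Type*} [Group E] {Q0 : QuadraticForm F P}
  {X : J n → J n → F → G} {Ys : J n → P → G} {h₀ : G} {R D : P →ₗ[F] P}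

namespace LYINDQ

open Cfsg.Agent.S2096P.YIND in
/-- the four index identity from the commutation of the lifts -/
theorem four_index' (hn : 3 ≤ n) (hX : DRel X) (ψ : E →* G)
    (hψ : Function.Surjective ψ) (hc : ψ.ker ≤ Subgroup.center E)
    (hC2 : ∀ a b c d, IsRoot a b → IsRoot c d → b ≠ c → a ≠ d → a ≠ ng c → a ≠ ng d → b ≠ ng c →
      b ≠ ng d → ∀ s t : F, CL ψ (X a b s) (X c d t))
    {a b c m : J n} (hab : ab a ≠ ab b) (hbc : ab b ≠ ab c) (ham : ab a ≠ ab m)
    (hmc : ab m ≠ ab c) (hac : ab a ≠ ab c) (hbm : ab b ≠ ab m) (s t : F) :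
    cl ψ hψ (X a b s) (X b c t) = cl ψ hψ (X a m (s * t)) (X m c 1) := by
  set l : List (J n) := [a, b, c, m] with hl
  have hinj : ∀ x ∈ l, ∀ y ∈ l, ab x = ab y → x = y := by
    intro x hx y hy hxy
    simp only [hl, List.mem_cons, List.not_mem_nil, or_false] at hx hy
    rcases hx with rfl | rfl | rfl | rfl <;> rcases hy with rfl | rfl | rfl | rfl <;>
      first
        | rfl
        | exact absurd hxy hab | exact absurd hxy.symm hab
        | exact absurd hxy hbc | exact absurd hxy.symm hbc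
        | exact absurd hxy ham | exact absurd hxy.symm ham
        | exact absurd hxy hmc | exact absurd hxy.symm hmc
        | exact absurd hxy hac | exact absurd hxy.symm hac
        | exact absurd hxy hbm | exact absurd hxy.symm hbm
  obtain ⟨S, hS⟩ := exists_half_stD (F := F) hn hX (hB l)
  have ha : half (hB l) (ab a) = a := half_hB l hinj a (by simp [hl])
  have hb : half (hB l) (ab b) = b := half_hB l hinj b (by simp [hl])
  have hc' : half (hB l) (ab c) = c := half_hB l hinj c (by simp [hl])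
  have hm : half (hB l) (ab m) = m := half_hB l hinj m (by simp [hl])
  have hC2' : ∀ (a b : Root n) (t u : F), a.1.1 ≠ b.1.2 → a.1.2 ≠ b.1.1 →
      CL ψ (S.T a t) (S.T b u) := by
    intro a b t u h1 h2
    rw [hS, hS]
    exact hC2 _ _ _ _ (isRoot_half (hB l) a.2) (isRoot_half (hB l) b.2) (half_ne (hB l) h2)
      (half_ne (hB l) h1) (half_ne_ng (hB l) _ _) (half_ne_ng (hB l) _ _)
      (half_ne_ng (hB l) _ _) (half_ne_ng (hB l) _ _) t u
  have key := four_index S ψ hψ hc hC2' (ab a) (ab b) (ab c)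
    (ab m) hab hbc ham hmc hac hbm s t
  rw [hS, hS, hS, hS] at key
  simp only [rt_fst, rt_snd] at key
  rw [ha, hb, hc', hm] at key
  exact key

end LYINDQ

/-- LYINDQ: the canonical commutator does not depend on the middle index -/
theorem cl_eq_Y_Q (hn : 3 ≤ n) (hB : QRel Q0 X Ys) (hR : Rot Q0 X Ys h₀ R D)
    (hnd : ∃ w v : P, QuadraticMap.polar Q0 w v ≠ 0)
    (hsurj : ∀ μ : F, μ ≠ 0 → ∃ w : P, Q0 w = μ) (ψ : E →* G)
    (hψ : Function.Surjective ψ) (hc : ψ.ker ≤ Subgroup.center E) {a b c : J n}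
    (hab : IsRoot a b) (hbc : IsRoot b c) (hac : IsRoot a c) (s t : F) :
    cl ψ hψ (X a b s) (X b c t) = Y X ψ hψ hn a c (s * t) := by
  unfold Y
  have hka : ab (th hn a c) ≠ ab a := ab_th_ne_left hn a c
  have hkc : ab (th hn a c) ≠ ab c := ab_th_ne_right hn a c
  have hak : IsRoot a (th hn a c) := isRoot_left_th hn a c
  have hkc' : IsRoot (th hn a c) c := isRoot_th_right hn a c
  generalize th hn a c = k at hka hkc hak hkc'
  by_cases hbk : ab b = ab k
  · rcases eq_or_eq_ng_of_ab_eq hbk with h | h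
    · rw [h]
      exact cl_bal hn hB hR hsurj ψ hψ hc hak hkc' hac s t
    · obtain ⟨w, hw⟩ := hsurj 1 one_ne_zero
      have hw0 : Q0 w ≠ 0 := by rw [hw]; exact one_ne_zero
      have h1 := cl_ng hn hB hR ψ hψ hc hab hbc hac hw0 s t
      rw [h1, h, ng_ng, hw, one_mul, inv_one, one_mul,
        cl_bal hn hB hR hsurj ψ hψ hc hak hkc' hac (-s) (-t), neg_mul_neg]
  · have hab' : ab a ≠ ab b := isRoot_iff_ab.1 hab
    have hbc'' : ab b ≠ ab c := isRoot_iff_ab.1 hbc
    have hac' : ab a ≠ ab c := isRoot_iff_ab.1 hac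
    exact LYINDQ.four_index' hn hB.dX ψ hψ hc
      (fun a b c d hab hcd h1 h2 h3 h4 h5 h6 s t =>
        cl_X_X hn hB hnd ψ hψ hc hab hcd h1 h2 h3 h4 h5 h6 s t)
      hab' hbc'' hka.symm hkc hac' hbk s t

end Cfsg.Agent.S2099P
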