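import Mathlib
import Cfsg.Agent.Helper2.S4130Defs

/-! # s4130pieces, piece C3: summing the fibre identity over the non-central `p`-elements. -/

set_option autoImplicit false

namespace Cfsg.Agent.S4130P

open Subgroup

/-- The pairs of `Pout` as a sigma type over the non-central `p`-elements. -/
def C3_aux_equivP (p : ℕ) (G : Type*) [Group G] :
    Pout p G ≃ Σ z : {z : G // IsPEl p z ∧ z ∉ center G},
      {y : G // IsPpEl p y ∧ (z : G) * y = y * (z : G)} where
  toFun x := ⟨⟨x.1.1, x.2.1.1, x.2.2⟩, ⟨x.1.2, x.2.1.2.1, x.2.1.2.2⟩⟩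
  invFun s := ⟨(s.1.1, s.2.1), ⟨s.1.2.1, s.2.2.1, s.2.2.2⟩, s.1.2.2⟩
  left_inv x := by rcases x with ⟨⟨z, y⟩, h⟩; rfl
  right_inv s := by rcases s with ⟨⟨z, hz⟩, ⟨y, hy⟩⟩; rfl

/-- The pairs of `Qout` as a sigma type over the non-central `p`-elements. -/
def C3_aux_equivQ (p : ℕ) (G : Type*) [Group G] :
    Qout p G ≃ Σ z : {z : G // IsPEl p z ∧ z ∉ center G},
      (centralizer ({(z : G)} : Set G)) where
  toFun x := ⟨⟨x.1.1, x.2.1, x.2.2.1⟩, ⟨x.1.2, by
    rw [mem_centralizer_iff]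
    intro h hh
    rw [Set.mem_singleton_iff] at hh
    subst hh
    exact x.2.2.2⟩⟩
  invFun s := ⟨(s.1.1, s.2.1), s.1.2.1, s.1.2.2, by
    have := s.2.2
    rw [mem_centralizer_iff] at this
    exact this _ rfl⟩
  left_inv x := by rcases x with ⟨⟨z, y⟩, h⟩; rfl
  right_inv s := by rcases s with ⟨⟨z, hz⟩, ⟨y, hy⟩⟩; rfl

/-- C3: summing C2 over z. -/
theorem C3 {G : Type*} [Group G] [Finite G] {p : ℕ} [Fact p.Prime] (n : ℕ)
    (h2 : ∀ z : G, IsPEl p z → z ∉ center G →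
      Nat.card {y : G // IsPpEl p y ∧ z * y = y * z} * n = Nat.card (centralizer ({z} : Set G))) :
    Nat.card (Pout p G) * n = Nat.card (Qout p G) := by
  classical
  letI : Fintype {z : G // IsPEl p z ∧ z ∉ center G} := Fintype.ofFinite _
  rw [Nat.card_congr (C3_aux_equivP p G), Nat.card_congr (C3_aux_equivQ p G), Nat.card_sigma,
    Nat.card_sigma, Finset.sum_mul]
  refine Finset.sum_congr rfl ?_
  intro z _
  exact h2 z.1 z.2.1 z.2.2

end Cfsg.Agent.S4130P
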