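import Mathlib
import Cfsg.Agent.Helper2.S4130Defs

/-! # s4130pieces, piece INH2: `N_Y(Q) ≤ C_Y(Q)` in `Y = C_G(x)` gives `N_G(P) ⊓ C_G(x) ≤ C_G(P)`. -/

set_option autoImplicit false

namespace Cfsg.Agent.S4130P

open Subgroup

/-- membership in `Q` is membership of the value in `P`. -/
theorem INH2_aux_mem {G : Type*} [Group G] {Y P : Subgroup G} {Q : Subgroup Y}
    (hQ : Q.map Y.subtype = P) (q : Y) : q ∈ Q ↔ (q : G) ∈ P := by
  rw [← hQ, Subgroup.mem_map]
  constructor
  · intro h
    exact ⟨q, h, rfl⟩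
  · rintro ⟨q', hq', he⟩
    have : q' = q := Subtype.ext he
    rw [← this]
    exact hq'

/-- INH2. -/
theorem INH2 {G : Type*} [Group G] [Finite G] {p : ℕ} [Fact p.Prime] (P : Sylow p G)
    (x : G) (Q : Sylow p (centralizer ({x} : Set G)))
    (hQ : (Q : Subgroup (centralizer ({x} : Set G))).map (Subgroup.subtype _) = (P : Subgroup G))
    (h : normalizer ((Q : Subgroup (centralizer ({x} : Set G))) : Set (centralizer ({x} : Set G))) ≤
      centralizer ((Q : Subgroup (centralizer ({x} : Set G))) : Set (centralizer ({x} : Set G)))) :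
    normalizer ((P : Subgroup G) : Set G) ⊓ centralizer ({x} : Set G) ≤
      centralizer ((P : Subgroup G) : Set G) := by
  intro g hg
  rw [Subgroup.mem_inf] at hg
  obtain ⟨hgN, hgC⟩ := hg
  have hmem := INH2_aux_mem hQ
  have hgn : (⟨g, hgC⟩ : centralizer ({x} : Set G)) ∈
      normalizer ((Q : Subgroup (centralizer ({x} : Set G))) : Set (centralizer ({x} : Set G))) := by
    rw [Subgroup.mem_normalizer_iff]
    intro q
    rw [hmem, hmem]
    rw [Subgroup.mem_normalizer_iff] at hgN
    exact hgN (q : G)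
  have hgc := h hgn
  rw [Subgroup.mem_centralizer_iff] at hgc ⊢
  intro a ha
  have ha' : (a : G) ∈ (P : Subgroup G) := ha
  rw [← hQ, Subgroup.mem_map] at ha'
  obtain ⟨q, hq, rfl⟩ := ha'
  have := hgc q hq
  exact congrArg Subtype.val this

end Cfsg.Agent.S4130P
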