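import Mathlib
import Cfsg.Prelude

set_option autoImplicit false

/-! S5876 (fixed-point spaces in primitive soluble linear groups): shared definitions.

`lin g` is the linear map of `g ∈ GL_n(F)`, `fix g` its fixed space, `d g = dim (fix g)`,
`alg A` the `F`-subalgebra of `End(F^n)` spanned by a subgroup `A`. -/

namespace Cfsg.Agent.S5876P

open Matrix Module

variable {n : ℕ} {F : Type*} [Field F]

/-- `GL_n(F)` -/
abbrev GLn (n : ℕ) (F : Type*) [Field F] := Matrix.GeneralLinearGroup (Fin n) F

/-- the linear map of `g` -/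
noncomputable def lin (g : GLn n F) : Module.End F (Fin n → F) :=
  Matrix.toLin' (g : Matrix (Fin n) (Fin n) F)

theorem lin_def (g : GLn n F) : lin g = Matrix.toLin' (g : Matrix (Fin n) (Fin n) F) := rfl

theorem lin_apply (g : GLn n F) (v : Fin n → F) :
    lin g v = (g : Matrix (Fin n) (Fin n) F) *ᵥ v := rfl

@[simp] theorem lin_one : lin (1 : GLn n F) = 1 := by
  rw [lin_def, Units.val_one, Matrix.toLin'_one]; rfl

theorem lin_mul (g h : GLn n F) : lin (g * h) = lin g * lin h := by
  rw [lin_def, Units.val_mul, Matrix.toLin'_mul]; rfl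

theorem lin_mul_apply (g h : GLn n F) (v : Fin n → F) : lin (g * h) v = lin g (lin h v) := by
  rw [lin_mul]; rfl

@[simp] theorem lin_inv_lin (g : GLn n F) (v : Fin n → F) : lin g⁻¹ (lin g v) = v := by
  rw [← lin_mul_apply, inv_mul_cancel, lin_one]; rfl

@[simp] theorem lin_lin_inv (g : GLn n F) (v : Fin n → F) : lin g (lin g⁻¹ v) = v := by
  rw [← lin_mul_apply, mul_inv_cancel, lin_one]; rfl

theorem lin_injective : Function.Injective (lin : GLn n F → Module.End F (Fin n → F)) := by
  intro g h hgh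
  apply Units.ext
  exact Matrix.toLin'.injective hgh

/-- `lin g` as a linear equivalence -/
noncomputable def linEquiv (g : GLn n F) : (Fin n → F) ≃ₗ[F] (Fin n → F) :=
  LinearEquiv.ofLinearMap (lin g) (lin g⁻¹)
    (LinearMap.ext fun v => lin_lin_inv g v) (LinearMap.ext fun v => lin_inv_lin g v)

@[simp] theorem linEquiv_apply (g : GLn n F) (v : Fin n → F) : linEquiv g v = lin g v := rfl

@[simp] theorem linEquiv_symm_apply (g : GLn n F) (v : Fin n → F) :
    (linEquiv g).symm v = lin g⁻¹ v := rfl

theorem coe_linEquiv (g : GLn n F) : ((linEquiv g : (Fin n → F) ≃ₗ[F] (Fin n → F)) :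
    (Fin n → F) →ₗ[F] (Fin n → F)) = lin g := rfl

/-- the fixed space of `g` -/
noncomputable def fix (g : GLn n F) : Submodule F (Fin n → F) :=
  Module.End.eigenspace (lin g) 1

theorem fix_def (g : GLn n F) :
    fix g = Module.End.eigenspace (Matrix.toLin' (g : Matrix (Fin n) (Fin n) F)) 1 := rfl

theorem mem_fix {g : GLn n F} {v : Fin n → F} : v ∈ fix g ↔ lin g v = v := by
  rw [fix, Module.End.mem_eigenspace_iff, one_smul]

/-- the dimension of the fixed space of `g` -/
noncomputable def d (g : GLn n F) : ℕ := finrank F (fix g)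

theorem d_def (g : GLn n F) :
    d g = finrank F (Module.End.eigenspace (Matrix.toLin' (g : Matrix (Fin n) (Fin n) F)) 1) := rfl

/-- the `F`-subalgebra of `End(F^n)` spanned by `A` -/
noncomputable def alg (A : Subgroup (GLn n F)) : Subalgebra F (Module.End F (Fin n → F)) :=
  Algebra.adjoin F (lin '' (A : Set (GLn n F)))

theorem lin_mem_alg {A : Subgroup (GLn n F)} {a : GLn n F} (ha : a ∈ A) : lin a ∈ alg A :=
  Algebra.subset_adjoin ⟨a, ha, rfl⟩

theorem alg_smul_def (A : Subgroup (GLn n F)) (r : alg A) (v : Fin n → F) :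
    r • v = (r : Module.End F (Fin n → F)) v := rfl

/-- a subgroup `Y` has class at most two: commutators are central in `Y`. -/
def ClassTwo {H : Type*} [Group H] (Y : Subgroup H) : Prop :=
  ∀ a ∈ Y, ∀ b ∈ Y, ∀ c ∈ Y, (a * b * a⁻¹ * b⁻¹) * c = c * (a * b * a⁻¹ * b⁻¹)

end Cfsg.Agent.S5876P
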