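import Mathlib
import Cfsg.Agent.Helper29.TV2Q2Defs
import Cfsg.Agent.Helper24.TV2_DE
import Cfsg.Agent.Helper24.TV2_CA
import Cfsg.Agent.Helper29.TV2_INJh

/-! Board `s2981pieces`, row Q2_PTV: point vectors `z + c_y`, `y ∈ D1`. -/

set_option autoImplicit false

namespace Cfsg.Agent.TV2

variable {P : Type*} [Group P] [Finite P] {W : Type*} [AddCommGroup W] [Module (ZMod 2) W] [Finite W] [DistribMulAction P W]

/-- Q2_PTV: point vectors.  (`CA`, `DE_tv`, `Tv.cen_conj`.) -/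
theorem PTV (C : Ctx P W) {z : W} (hz : C.IsBase z) {y : P} (hy : y ∈ C.D1) {t : P} (ht : t ∈ C.M) :
    t • (z + cen W y) = z + cen W (t * y * t⁻¹) := by
  rw [smul_add, CA C hz ht, (DE_tv C hy.1).cen_conj t]

/-- Q2_PTV: `t ∈ M` fixes the point vector of `y` iff it centralises `y`.  (`PTV`, `INJ_cen`, `DE_conj`.) -/
theorem PTV_fix (C : Ctx P W) {z : W} (hz : C.IsBase z) {y : P} (hy : y ∈ C.D1) {t : P} (ht : t ∈ C.M) :
    t • (z + cen W y) = z + cen W y ↔ t * y * t⁻¹ = y := by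
  rw [PTV C hz hy ht]
  constructor
  · intro h
    exact INJ_cen C (DE_conj C hy.1 t) hy.1 (add_left_cancel h)
  · intro h
    rw [h]

end Cfsg.Agent.TV2
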