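import Mathlib
import Cfsg.Agent.Helper28.BTDefs
import Cfsg.Agent.Helper6.Chev.BruhatNF
import Cfsg.Agent.Helper6.Chev.TablesBN
import Cfsg.Agent.Helper18.BTLEV
import Cfsg.Agent.Helper8.BTWACT

set_option autoImplicit false
set_option linter.unusedSectionVars false
set_option linter.unusedVariables false

/-!
# S2154 piece DOM: every real weight vector has a dominant conjugate under the monomial group
-/

namespace Cfsg.Agent.Helper29.BT

open Cfsg.Lie Cfsg.Agent.Helper6 Cfsg.Agent.Helper28.BT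
open Cfsg.Agent.Helper18.BT (lev_neg)
open Cfsg.Agent.Helper8.BT (lev_refl simple_Tr qf_refl)

variable {D : ChevalleyDatum} {F : Type*} [Field F]

/-- the positive roots of negative level -/
noncomputable def negSet (D : ChevalleyDatum) (μ : Fin D.rank → ℝ) : Finset (Fin D.nroots) :=
  Finset.univ.filter fun r => D.IsPosRoot r.val ∧ lev D μ r.val < 0

theorem mem_negSet {μ : Fin D.rank → ℝ} {r : Fin D.nroots} :
    r ∈ negSet D μ ↔ D.IsPosRoot r.val ∧ lev D μ r.val < 0 := by
  unfold negSet
  rw [Finset.mem_filter]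
  exact ⟨fun h => h.2, fun h => ⟨Finset.mem_univ _, h⟩⟩

theorem simple_pos (Δ : BNData D F) {i : ℕ} (hi : i < D.rank) : D.IsPosRoot (D.simple i) :=
  (Δ.hsign' _ (Δ.hAll i hi).hS.1).2 (Δ.hpN i hi)

theorem wR_simple_self (i : ℕ) : wR D (D.simple i) (D.simple i) = D.neg (D.simple i) := by
  unfold wR
  rw [if_pos rfl]

theorem wR_lt (Δ : BNData D F) {i : ℕ} (hi : i < D.rank) {s : ℕ} (hs : D.IsPosRoot s) :
    wR D (D.simple i) s < D.nroots := by
  by_cases h : s = D.simple i
  · rw [h, wR_simple_self]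
    exact (Δ.hB.neg _ (Δ.hAll i hi).hS.1).1
  · exact (Δ.wpos hi hs h).1.1

theorem card_negSet_refl_lt (Δ : BNData D F) (i : Fin D.rank) (μ : Fin D.rank → ℝ)
    (hneg : lev D μ (D.simple i.val) < 0) :
    (negSet D (refl D i μ)).card < (negSet D μ).card := by
  have hA := Δ.hAll i.val i.isLt
  have hp : D.simple i.val < D.nroots := hA.hS.1
  have hpos : D.IsPosRoot (D.simple i.val) := simple_pos Δ i.isLt
  -- the simple root lies in `negSet μ`
  have hmem : (⟨D.simple i.val, hp⟩ : Fin D.nroots) ∈ negSet D μ := mem_negSet.2 ⟨hpos, hneg⟩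
  -- `wR` maps `negSet (refl μ)` injectively into `negSet μ` minus the simple root
  have key : ∀ r ∈ negSet D (refl D i μ), r.val ≠ D.simple i.val := by
    intro r hr heq
    have h2 := (mem_negSet.1 hr).2
    rw [lev_refl Δ i μ r.isLt, heq, wR_simple_self, lev_neg Δ μ hp] at h2
    linarith
  have hcard : (negSet D (refl D i μ)).card ≤ ((negSet D μ).erase ⟨D.simple i.val, hp⟩).card := by
    apply Finset.card_le_card_of_injOn
      (fun r => if h : wR D (D.simple i.val) r.val < D.nroots then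
        (⟨wR D (D.simple i.val) r.val, h⟩ : Fin D.nroots) else r)
    · intro r hr
      have hr' : r ∈ negSet D (refl D i μ) := hr
      have hne := key r hr'
      obtain ⟨h1, h2⟩ := mem_negSet.1 hr'
      have hw := Δ.wpos i.isLt h1 hne
      have hlt : wR D (D.simple i.val) r.val < D.nroots := hw.1.1
      show (if h : wR D (D.simple i.val) r.val < D.nroots then
        (⟨wR D (D.simple i.val) r.val, h⟩ : Fin D.nroots) else r) ∈ _
      rw [dif_pos hlt]
      rw [Finset.mem_coe, Finset.mem_erase]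
      refine ⟨?_, mem_negSet.2 ⟨hw.1, ?_⟩⟩
      · intro h
        exact hw.2 (congrArg Fin.val h)
      · rw [lev_refl Δ i μ r.isLt] at h2
        exact h2
    · intro r hr r' hr' heq
      have hr1 : r ∈ negSet D (refl D i μ) := hr
      have hr1' : r' ∈ negSet D (refl D i μ) := hr'
      have hlt : wR D (D.simple i.val) r.val < D.nroots :=
        (Δ.wpos i.isLt (mem_negSet.1 hr1).1 (key r hr1)).1.1
      have hlt' : wR D (D.simple i.val) r'.val < D.nroots :=
        (Δ.wpos i.isLt (mem_negSet.1 hr1').1 (key r' hr1')).1.1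
      simp only [dif_pos hlt, dif_pos hlt'] at heq
      have := congrArg Fin.val heq
      exact Fin.ext (wR_inj Δ.hB hA r.isLt r'.isLt this)
  have h2 : ((negSet D μ).erase ⟨D.simple i.val, hp⟩).card < (negSet D μ).card :=
    Finset.card_erase_lt_of_mem hmem
  omega

theorem exists_dominant_aux (Δ : BNData D F) :
    ∀ (k : ℕ) (μ : Fin D.rank → ℝ), (negSet D μ).card = k →
      ∃ n ∈ D.monomialSubgroup F, ∃ μ' : Fin D.rank → ℝ, Dominant D μ' ∧
        Tr n (degI D μ') (degI D μ) ∧ qf D μ' = qf D μ := by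
  intro k
  induction k using Nat.strong_induction_on with
  | _ k ih =>
    intro μ hk
    by_cases hdom : Dominant D μ
    · exact ⟨1, Subgroup.one_mem _, μ, hdom, Tr.one _, rfl⟩
    · unfold Dominant at hdom
      push Not at hdom
      obtain ⟨i, hi⟩ := hdom
      have hlt := card_negSet_refl_lt Δ i μ hi
      obtain ⟨n, hn, μ', hd, hTr, hq⟩ := ih _ (hk ▸ hlt) (refl D i μ) rfl
      have hs := (simple_Tr (F := F) Δ i μ).symm
      refine ⟨(nU Δ.hB (D.simple i.val) (one_ne_zero (α := F)))⁻¹ * n, ?_, μ', hd, hTr.mul hs, ?_⟩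
      · exact Subgroup.mul_mem _ (Subgroup.inv_mem _
          (nU_one_mem_monomial Δ.hB (Δ.hAll i.val i.isLt).hS.1)) hn
      · rw [hq, qf_refl Δ i μ]

theorem exists_dominant (hD : IsTabulated D) (F : Type*) [Field F] (μ : Fin D.rank → ℝ) :
    ∃ n ∈ D.monomialSubgroup F, ∃ μ' : Fin D.rank → ℝ, Dominant D μ' ∧
      Tr n (degI D μ') (degI D μ) ∧ qf D μ' = qf D μ :=
  exists_dominant_aux (bnData_of_tabulated F hD) _ μ rfl

end Cfsg.Agent.Helper29.BT
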