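import Mathlib
import Cfsg.Agent.Helper21.S2286DEFS
import Cfsg.Agent.Helper21.S2289DEFS
import Cfsg.Agent.Helper8.S2286DARG
import Cfsg.Agent.Helper8.S2289TRI3
import Cfsg.Agent.Helper8.S2289ABBLOCK

/-! S2289 piece QSTAGE (driver helper21): `|Û ⊔ Zs| ≤ |Zs| * |F|`, by passing to the quotient of the
normalizer of `Zs` by `Zs`. -/

set_option autoImplicit false

namespace Cfsg.Agent.Helper21.S2289

open Cfsg.Agent.Helper21.S2286 Polynomial Multiplicative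

namespace QSTAGE

variable {Γ : Type*} [Group Γ]

/-- an element commuting with every element of `Zs` normalizes `Zs` -/
theorem mem_normalizer_of_commute (Zs : Subgroup Γ) (g : Γ) (hg : ∀ x ∈ Zs, Commute g x) :
    g ∈ Subgroup.normalizer (Zs : Set Γ) := by
  rw [Subgroup.mem_normalizer_iff]
  intro n
  constructor
  · intro hn
    have : g * n * g⁻¹ = n := by
      rw [(hg n hn).eq, mul_inv_cancel_right]
    rw [this]
    exact hn
  · intro hn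
    have h1 := hg _ hn
    have : n = g * n * g⁻¹ := by
      have h2 : g * (g * n * g⁻¹) = (g * n * g⁻¹) * g := h1.eq
      have h3 : g * (g * n * g⁻¹) = g * n := by
        rw [h2]
        group
      have h4 := mul_left_cancel h3
      exact h4.symm
    rw [this]
    exact hn

/-- an element of finite order mapping `Zs` into itself normalizes `Zs` -/
theorem mem_normalizer_of_pow (Zs : Subgroup Γ) (h : Γ) (N : ℕ) (hN : 0 < N) (hhN : h ^ N = 1)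
    (hZh : ∀ x ∈ Zs, h * x * h⁻¹ ∈ Zs) : h ∈ Subgroup.normalizer (Zs : Set Γ) := by
  have hpow : ∀ k : ℕ, ∀ x ∈ Zs, h ^ k * x * (h ^ k)⁻¹ ∈ Zs := by
    intro k
    induction k with
    | zero => intro x hx; simpa using hx
    | succ k ih =>
      intro x hx
      have := hZh _ (ih x hx)
      have e : h * (h ^ k * x * (h ^ k)⁻¹) * h⁻¹ = h ^ (k + 1) * x * (h ^ (k + 1))⁻¹ := by
        rw [pow_succ']
        group
      rwa [e] at this
  have hinv : h ^ (N - 1) = h⁻¹ := by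
    apply eq_inv_of_mul_eq_one_left
    rw [← pow_succ, Nat.sub_add_cancel hN, hhN]
  rw [Subgroup.mem_normalizer_iff]
  intro n
  constructor
  · exact hZh n
  · intro hn
    have := hpow (N - 1) _ hn
    rw [hinv] at this
    have e : h⁻¹ * (h * n * h⁻¹) * h⁻¹⁻¹ = n := by group
    rwa [e] at this

theorem commute_of_comm_eq_one {G : Type*} [Group G] {a b : G} (h : a * b * a⁻¹ * b⁻¹ = 1) :
    Commute a b := by
  have h1 : a * b * a⁻¹ = b := mul_inv_eq_one.mp h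
  have h2 : a * b = b * a := mul_inv_eq_iff_eq_mul.mp h1
  exact h2

end QSTAGE

theorem card_U_le (p : ℕ) [Fact p.Prime] {F : Type*} [Field F] [Fintype F] [CharP F p] (μ : F)
    {Γ : Type*} [Group Γ] (h u : Γ) (N : ℕ) (hN : 0 < N) (hhN : h ^ N = 1) (Zs : Subgroup Γ)
    [Finite Zs] (hZh : ∀ x ∈ Zs, h * x * h⁻¹ ∈ Zs)
    (hZc : ∀ i : ℤ, ∀ x ∈ Zs, Commute (cj h u i) x)
    (hup : u ^ p ∈ Zs) (h01 : zW h u ∈ Zs)
    (hB : (∃ k : ℕ, (cj h u (k : ℤ))⁻¹ * (u * cj h u 1) ∈ Zs) ∨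
      (∃ j : ℕ, ¬ 3 ∣ j ∧
        (u * cj h u 1) * (cj h u 1 * cj h u 2) * (u * cj h u 1)⁻¹ * (cj h u 1 * cj h u 2)⁻¹ ∈ Zs ∧
        (u * cj h u 1 * (cj h u 1 * cj h u 2)) * (cj h u 1 * cj h u 2 * (cj h u 2 * cj h u 3)) *
          (u * cj h u 1 * (cj h u 1 * cj h u 2))⁻¹ *
          (cj h u 1 * cj h u 2 * (cj h u 2 * cj h u 3))⁻¹ ∈ Zs ∧
        (cj h u (j : ℤ))⁻¹ * ((u * cj h u 1 * (cj h u 1 * cj h u 2)) *
          (cj h u 1 * cj h u 2 * (cj h u 2 * cj h u 3))) ∈ Zs))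
    (hm : prodA h u (mcoef p μ) (mdeg p μ + 1) ∈ Zs) :
    Finite (Subgroup.closure {g : Γ | ∃ i : ℤ, g = cj h u i} ⊔ Zs : Subgroup Γ) ∧
    Nat.card (Subgroup.closure {g : Γ | ∃ i : ℤ, g = cj h u i} ⊔ Zs : Subgroup Γ) ≤
      Nat.card Zs * Fintype.card F := by
  classical
  -- the normalizer and the quotient
  have hhΓ : h ∈ Subgroup.normalizer (Zs : Set Γ) :=
    QSTAGE.mem_normalizer_of_pow Zs h N hN hhN hZh
  have huΓ : u ∈ Subgroup.normalizer (Zs : Set Γ) := by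
    apply QSTAGE.mem_normalizer_of_commute
    intro x hx
    have := hZc 0 x hx
    rwa [cj_zero] at this
  let Γ₀ : Subgroup Γ := Subgroup.normalizer (Zs : Set Γ)
  let Z₀ : Subgroup Γ₀ := Zs.subgroupOf Γ₀
  have : Z₀.Normal := Subgroup.normal_in_normalizer
  let πs : Γ₀ →* Γ₀ ⧸ Z₀ := QuotientGroup.mk' Z₀
  let h₀ : Γ₀ := ⟨h, hhΓ⟩
  let u₀ : Γ₀ := ⟨u, huΓ⟩
  have coe_cj : ∀ i : ℤ, ((cj h₀ u₀ i : Γ₀) : Γ) = cj h u i :=
    fun i => map_cj Γ₀.subtype h₀ u₀ i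
  have key : ∀ w : Γ₀, (w : Γ) ∈ Zs → πs w = 1 := by
    intro w hw
    exact (QuotientGroup.eq_one_iff w).mpr (Subgroup.mem_subgroupOf.mpr hw)
  have hcjb : ∀ i : ℤ, πs (cj h₀ u₀ i) = cj (πs h₀) (πs u₀) i := fun i => map_cj πs h₀ u₀ i
  -- relations in the quotient
  have r_up : (πs u₀) ^ p = 1 := by
    rw [← map_pow]
    apply key
    rw [Subgroup.coe_pow]
    exact hup
  have r_hN : (πs h₀) ^ N = 1 := by
    rw [← map_pow]
    have : h₀ ^ N = 1 := Subtype.ext (by rw [Subgroup.coe_pow]; exact hhN)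
    rw [this, map_one]
  have r_01 : Commute (πs u₀) (cj (πs h₀) (πs u₀) 1) := by
    apply QSTAGE.commute_of_comm_eq_one
    have := key (u₀ * cj h₀ u₀ 1 * u₀⁻¹ * (cj h₀ u₀ 1)⁻¹) (by
      simp only [Subgroup.coe_mul, Subgroup.coe_inv, coe_cj]
      exact h01)
    simpa only [map_mul, map_inv, hcjb] using this
  have r_m : prodA (πs h₀) (πs u₀) (mcoef p μ) (mdeg p μ + 1) = 1 := by
    rw [← map_prodA]
    apply key
    have := map_prodA Γ₀.subtype h₀ u₀ (mcoef p μ) (mdeg p μ + 1)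
    rw [Subgroup.coe_subtype] at this
    rw [this]
    exact hm
  have r_comm : ∀ i j : ℤ, Commute (cj (πs h₀) (πs u₀) i) (cj (πs h₀) (πs u₀) j) := by
    rcases hB with ⟨k, hk⟩ | ⟨j, hj, h02, h03, hk⟩
    · apply comm_S (πs h₀) (πs u₀) k r_01
      have := key ((cj h₀ u₀ (k : ℤ))⁻¹ * (u₀ * cj h₀ u₀ 1)) (by
        simp only [Subgroup.coe_mul, Subgroup.coe_inv, coe_cj]
        exact hk)
      rw [map_mul, map_inv, map_mul, hcjb, hcjb] at this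
      exact inv_mul_eq_one.mp this
    · apply comm_NS3 (πs h₀) (πs u₀) j (by exact_mod_cast hj) r_01
      · apply QSTAGE.commute_of_comm_eq_one
        have := key ((u₀ * cj h₀ u₀ 1) * (cj h₀ u₀ 1 * cj h₀ u₀ 2) * (u₀ * cj h₀ u₀ 1)⁻¹ *
          (cj h₀ u₀ 1 * cj h₀ u₀ 2)⁻¹) (by
          simp only [Subgroup.coe_mul, Subgroup.coe_inv, coe_cj]
          exact h02)
        simpa only [map_mul, map_inv, hcjb] using this
      · apply QSTAGE.commute_of_comm_eq_one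
        have := key ((u₀ * cj h₀ u₀ 1 * (cj h₀ u₀ 1 * cj h₀ u₀ 2)) *
          (cj h₀ u₀ 1 * cj h₀ u₀ 2 * (cj h₀ u₀ 2 * cj h₀ u₀ 3)) *
          (u₀ * cj h₀ u₀ 1 * (cj h₀ u₀ 1 * cj h₀ u₀ 2))⁻¹ *
          (cj h₀ u₀ 1 * cj h₀ u₀ 2 * (cj h₀ u₀ 2 * cj h₀ u₀ 3))⁻¹) (by
          simp only [Subgroup.coe_mul, Subgroup.coe_inv, coe_cj]
          exact h03)
        simpa only [map_mul, map_inv, hcjb] using this
      · have := key ((cj h₀ u₀ (j : ℤ))⁻¹ * ((u₀ * cj h₀ u₀ 1 * (cj h₀ u₀ 1 * cj h₀ u₀ 2)) *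
          (cj h₀ u₀ 1 * cj h₀ u₀ 2 * (cj h₀ u₀ 2 * cj h₀ u₀ 3)))) (by
          simp only [Subgroup.coe_mul, Subgroup.coe_inv, coe_cj]
          exact hk)
        apply inv_mul_eq_one.mp
        simpa only [map_mul, map_inv, hcjb] using this
  obtain ⟨hfin, hcard, -, -⟩ := ab_block_card p μ (πs h₀) (πs u₀) r_up r_comm r_m N hN r_hN
    Set.univ (fun _ _ => Set.mem_univ _)
  -- back to `Γ`
  have hle : Subgroup.closure {g : Γ | ∃ i : ℤ, g = cj h u i} ⊔ Zs ≤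
      ((Subgroup.closure {g | ∃ i : ℤ, g = cj (πs h₀) (πs u₀) i}).comap πs).map Γ₀.subtype := by
    apply sup_le
    · rw [Subgroup.closure_le]
      rintro g ⟨i, rfl⟩
      refine ⟨cj h₀ u₀ i, Subgroup.mem_comap.mpr ?_, coe_cj i⟩
      rw [hcjb]
      exact Subgroup.subset_closure ⟨i, rfl⟩
    · intro z hz
      have hzΓ : z ∈ Γ₀ := Subgroup.le_normalizer hz
      refine ⟨⟨z, hzΓ⟩, Subgroup.mem_comap.mpr ?_, rfl⟩
      rw [key ⟨z, hzΓ⟩ hz]
      exact Subgroup.one_mem _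
  have hx : ∀ x : (Subgroup.closure {g : Γ | ∃ i : ℤ, g = cj h u i} ⊔ Zs : Subgroup Γ),
      ∃ y : Γ₀, (y : Γ) = (x : Γ) ∧
        πs y ∈ Subgroup.closure {g | ∃ i : ℤ, g = cj (πs h₀) (πs u₀) i} := by
    intro x
    obtain ⟨y, hy, hyx⟩ := hle x.2
    exact ⟨y, hyx, hy⟩
  choose ψ hψ1 hψ2 using hx
  have hker : ∀ x y : (Subgroup.closure {g : Γ | ∃ i : ℤ, g = cj h u i} ⊔ Zs : Subgroup Γ),
      πs (ψ x) = πs (ψ y) → (x : Γ)⁻¹ * (y : Γ) ∈ Zs := by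
    intro x y hxy
    have h1 : πs ((ψ x)⁻¹ * ψ y) = 1 := by
      rw [map_mul, map_inv, hxy, inv_mul_cancel]
    have h2 := (QuotientGroup.eq_one_iff _).mp h1
    have h3 := Subgroup.mem_subgroupOf.mp h2
    rw [Subgroup.coe_mul, Subgroup.coe_inv, hψ1, hψ1] at h3
    exact h3
  -- the surjection
  let s : (Subgroup.closure {g | ∃ i : ℤ, g = cj (πs h₀) (πs u₀) i}) →
      (Subgroup.closure {g : Γ | ∃ i : ℤ, g = cj h u i} ⊔ Zs : Subgroup Γ) := fun w =>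
    if hw : ∃ x, πs (ψ x) = (w : Γ₀ ⧸ Z₀) then hw.choose else 1
  let G : Zs × (Subgroup.closure {g | ∃ i : ℤ, g = cj (πs h₀) (πs u₀) i}) →
      (Subgroup.closure {g : Γ | ∃ i : ℤ, g = cj h u i} ⊔ Zs : Subgroup Γ) := fun zw =>
    s zw.2 * ⟨(zw.1 : Γ), (le_sup_right : Zs ≤ _) zw.1.2⟩
  have hsurj : Function.Surjective G := by
    intro x
    have hw : ∃ x', πs (ψ x') = πs (ψ x) := ⟨x, rfl⟩
    have hs : s ⟨πs (ψ x), hψ2 x⟩ = hw.choose := dif_pos hw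
    have hsw : πs (ψ (s ⟨πs (ψ x), hψ2 x⟩)) = πs (ψ x) := by
      rw [hs]
      exact hw.choose_spec
    have hz := hker (s ⟨πs (ψ x), hψ2 x⟩) x hsw
    refine ⟨(⟨_, hz⟩, ⟨πs (ψ x), hψ2 x⟩), ?_⟩
    apply Subtype.ext
    show ((s ⟨πs (ψ x), hψ2 x⟩ : _) : Γ) * (((s ⟨πs (ψ x), hψ2 x⟩ : _) : Γ)⁻¹ * (x : Γ)) = x
    group
  have := hfin
  refine ⟨Finite.of_surjective G hsurj, ?_⟩
  calc Nat.card (Subgroup.closure {g : Γ | ∃ i : ℤ, g = cj h u i} ⊔ Zs : Subgroup Γ)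
      ≤ Nat.card (Zs × (Subgroup.closure {g | ∃ i : ℤ, g = cj (πs h₀) (πs u₀) i})) :=
        Nat.card_le_card_of_surjective G hsurj
    _ = Nat.card Zs * Nat.card (Subgroup.closure {g | ∃ i : ℤ, g = cj (πs h₀) (πs u₀) i}) :=
        Nat.card_prod _ _
    _ ≤ Nat.card Zs * Fintype.card F := by
        apply Nat.mul_le_mul_left
        refine le_trans hcard ?_
        rw [Nat.card_univ, Nat.card_eq_fintype_card]

end Cfsg.Agent.Helper21.S2289
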