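import Mathlib
import Cfsg.Agent.Helper21.S2286DEFS
import Cfsg.Agent.Helper18.S2286FIELD2
import Cfsg.Agent.Helper2.HermCount
import Cfsg.Agent.Helper5.S2289FMU

/-! S2289 piece FXI (driver helper21): `1, μ, μ²` span `F` over `F_p[ξ]`, `ξ = μ^(q-1)`. -/

set_option autoImplicit false

namespace Cfsg.Agent.Helper21.S2289

open Cfsg.Agent.Helper21.S2286 Polynomial

variable {F : Type*} [Field F] [Fintype F] {q : ℕ}

namespace FXI

/-- `q + 1 ≤ 3 * ord ξ` -/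
theorem order_bound (hF : Fintype.card F = q ^ 2) (ζ : Fˣ)
    (hζ : ∀ y : Fˣ, y ∈ Subgroup.zpowers ζ) :
    q + 1 ≤ 3 * orderOf (((ζ : F) ^ 2 / (ζ : F) ^ q) ^ (q - 1)) := by
  classical
  have hq : 2 ≤ q := Cfsg.Agent.Helper2.Herm.two_le_q hF
  have hval : ((ζ : F) ^ 2 / (ζ : F) ^ q) ^ (q - 1) = (((ζ ^ 2 / ζ ^ q) ^ (q - 1) : Fˣ) : F) := by
    push_cast
    rfl
  rw [hval, orderOf_units]
  set o := orderOf ((ζ ^ 2 / ζ ^ q) ^ (q - 1) : Fˣ) with ho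
  have hopos : 0 < o := orderOf_pos _
  have hordζ : orderOf ζ = q ^ 2 - 1 := by
    rw [orderOf_eq_card_of_forall_mem_zpowers hζ, Cfsg.Agent.Helper2.Herm.card_units hF]
  have h1 : ((ζ ^ 2 / ζ ^ q) ^ (q - 1) : Fˣ) ^ o = 1 := pow_orderOf_eq_one _
  have e1 : (ζ ^ 2 / ζ ^ q : Fˣ) = ζ ^ ((2 : ℤ) - q) := by
    rw [zpow_sub, zpow_natCast, zpow_ofNat, div_eq_mul_inv]
  have h2 : ((ζ ^ 2 / ζ ^ q) ^ (q - 1) : Fˣ) ^ o = ζ ^ (((2 : ℤ) - q) * ((q : ℤ) - 1) * o) := by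
    have : ((q : ℤ) - 1) = ((q - 1 : ℕ) : ℤ) := by
      rw [Nat.cast_sub (by omega)]
      simp
    rw [e1, this, zpow_mul, zpow_mul, zpow_natCast, zpow_natCast]
  rw [h2] at h1
  have h3 := (orderOf_dvd_iff_zpow_eq_one).mpr h1
  rw [hordζ, Cfsg.Agent.Helper2.Herm.factor hq] at h3
  have h4 : ((q : ℤ) + 1) * ((q : ℤ) - 1) ∣ (((2 : ℤ) - q) * o) * ((q : ℤ) - 1) := by
    have e : (((q + 1) * (q - 1) : ℕ) : ℤ) = ((q : ℤ) + 1) * ((q : ℤ) - 1) := by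
      rw [Nat.cast_mul, Nat.cast_sub (by omega)]
      simp
    rw [e] at h3
    have e2 : ((2 : ℤ) - q) * ((q : ℤ) - 1) * o = (((2 : ℤ) - q) * o) * ((q : ℤ) - 1) := by ring
    rw [e2] at h3
    exact h3
  have hq1 : ((q : ℤ) - 1) ≠ 0 := by omega
  have h5 : ((q : ℤ) + 1) ∣ ((2 : ℤ) - q) * o := (mul_dvd_mul_iff_right hq1).mp h4
  have h6 : ((q : ℤ) + 1) ∣ 3 * (o : ℤ) := by
    have : (3 : ℤ) * o = ((2 : ℤ) - q) * o + ((q : ℤ) + 1) * o := by ring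
    rw [this]
    exact dvd_add h5 (dvd_mul_right _ _)
  have h7 : (q + 1) ∣ 3 * o := by
    have : (((q + 1 : ℕ)) : ℤ) ∣ ((3 * o : ℕ) : ℤ) := by
      push_cast
      exact h6
    exact Int.natCast_dvd_natCast.mp this
  exact Nat.le_of_dvd (by omega) h7

theorem card_sq_gt {c : ℕ} (hc : q + 4 ≤ 3 * c) : q < c ^ 2 := by
  have h1 := Nat.mul_le_mul hc hc
  have h2 := Nat.le_mul_self q
  by_contra h
  push Not at h
  nlinarith

omit [Fintype F] in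
/-- every element of `F_p[ξ]` is an `ev` -/
theorem exists_ev (p : ℕ) [Fact p.Prime] [CharP F p] (ξ y : F)
    (hy : letI := ZMod.algebra F p; y ∈ Algebra.adjoin (ZMod p) {ξ}) :
    ∃ (e : ℕ → ℕ) (n : ℕ), y = ev ξ e n := by
  let _ := ZMod.algebra F p
  rw [Algebra.adjoin_singleton_eq_range_aeval] at hy
  obtain ⟨S, hS⟩ := hy
  refine ⟨fun i => (S.coeff i).val, S.natDegree + 1, ?_⟩
  rw [FIELD2.ev_coeff p ξ S]
  exact hS.symm

end FXI

theorem xi_span (p : ℕ) [Fact p.Prime] [CharP F p] (hF : Fintype.card F = q ^ 2) (h2 : q ≠ 2)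
    (h3 : q ≠ 3) (ζ : Fˣ) (hζ : ∀ y : Fˣ, y ∈ Subgroup.zpowers ζ) (x : F) :
    ∃ (e₀ : ℕ → ℕ) (n₀ : ℕ) (e₁ : ℕ → ℕ) (n₁ : ℕ) (e₂ : ℕ → ℕ) (n₂ : ℕ),
      x = ev (((ζ : F) ^ 2 / (ζ : F) ^ q) ^ (q - 1)) e₀ n₀ +
        ev (((ζ : F) ^ 2 / (ζ : F) ^ q) ^ (q - 1)) e₁ n₁ * ((ζ : F) ^ 2 / (ζ : F) ^ q) +
        ev (((ζ : F) ^ 2 / (ζ : F) ^ q) ^ (q - 1)) e₂ n₂ * ((ζ : F) ^ 2 / (ζ : F) ^ q) ^ 2 := by
  classical
  let _ := ZMod.algebra F p
  have hadj : Algebra.adjoin (ZMod p) {(ζ : F) ^ 2 / (ζ : F) ^ q} = ⊤ :=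
    (mu_facts p hF h2 h3 ζ hζ).1
  have hob := FXI.order_bound hF ζ hζ
  have hμ0 : (ζ : F) ^ 2 / (ζ : F) ^ q ≠ 0 :=
    div_ne_zero (pow_ne_zero _ ζ.ne_zero) (pow_ne_zero _ ζ.ne_zero)
  generalize (ζ : F) ^ 2 / (ζ : F) ^ q = μ at *
  have hξ0 : μ ^ (q - 1) ≠ 0 := pow_ne_zero _ hμ0
  generalize hξ : μ ^ (q - 1) = ξ at *
  let E : IntermediateField (ZMod p) F := IntermediateField.adjoin (ZMod p) {ξ}
  have hEalg : E.toSubalgebra = Algebra.adjoin (ZMod p) {ξ} :=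
    IntermediateField.adjoin_simple_toSubalgebra_of_isAlgebraic
      (Algebra.IsAlgebraic.isAlgebraic ξ)
  -- cardinalities
  have hξE : ξ ∈ E := IntermediateField.mem_adjoin_simple_self _ _
  have hcard : orderOf ξ + 1 ≤ Nat.card E := by
    let u : Eˣ := Units.mk0 ⟨ξ, hξE⟩ (by
      intro h
      exact hξ0 (congrArg Subtype.val h))
    have h1 : orderOf u ≤ Nat.card Eˣ := orderOf_le_card
    have h2 : orderOf u = orderOf ξ := by
      rw [← orderOf_units, ← orderOf_injective (algebraMap E F : E →* F) (algebraMap E F).injective]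
      rfl
    rw [Nat.card_units] at h1
    have : 0 < Nat.card E := Nat.card_pos
    omega
  have hc : q + 4 ≤ 3 * Nat.card E := by omega
  have hsq : q < Nat.card E ^ 2 := FXI.card_sq_gt hc
  have hpow : Nat.card E ^ Module.finrank E F = q ^ 2 := by
    rw [← Module.natCard_eq_pow_finrank, Nat.card_eq_fintype_card, hF]
  have hk : Module.finrank E F ≤ 3 := by
    by_contra hk
    push Not at hk
    have h4 : Nat.card E ^ 4 ≤ Nat.card E ^ Module.finrank E F :=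
      Nat.pow_le_pow_right Nat.card_pos hk
    have h5 : q ^ 2 < Nat.card E ^ 4 := by nlinarith
    omega
  -- the minimal polynomial
  have hint : IsIntegral E μ := Algebra.IsIntegral.isIntegral μ
  have hdeg : (minpoly E μ).natDegree ≤ 3 := le_trans (minpoly.natDegree_le μ) hk
  -- `x` as a polynomial in `μ`
  have hx : x ∈ Algebra.adjoin (ZMod p) {μ} := by
    rw [hadj]
    exact Algebra.mem_top
  rw [Algebra.adjoin_singleton_eq_range_aeval] at hx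
  obtain ⟨P₀, hP₀⟩ := hx
  have hP : aeval μ (P₀.map (algebraMap (ZMod p) E)) = x := by
    rw [Polynomial.aeval_map_algebraMap]
    exact hP₀
  have hR : aeval μ ((P₀.map (algebraMap (ZMod p) E)) %ₘ minpoly E μ) = x := by
    rw [minpoly.aeval_modByMonic_minpoly]
    exact hP
  have hRdeg : ((P₀.map (algebraMap (ZMod p) E)) %ₘ minpoly E μ).natDegree < 3 :=
    lt_of_lt_of_le (Polynomial.natDegree_modByMonic_lt _ (minpoly.monic hint)
      (minpoly.ne_one E μ)) hdeg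
  generalize (P₀.map (algebraMap (ZMod p) E)) %ₘ minpoly E μ = R at hR hRdeg
  rw [Polynomial.aeval_eq_sum_range' hRdeg] at hR
  -- coefficients
  have hcoef : ∀ i, ∃ (e : ℕ → ℕ) (n : ℕ), ((R.coeff i : E) : F) = ev ξ e n := by
    intro i
    apply FXI.exists_ev p ξ
    rw [← hEalg]
    exact (R.coeff i).2
  obtain ⟨e₀, n₀, h₀⟩ := hcoef 0
  obtain ⟨e₁, n₁, h₁⟩ := hcoef 1
  obtain ⟨e₂, n₂, h₂⟩ := hcoef 2
  refine ⟨e₀, n₀, e₁, n₁, e₂, n₂, ?_⟩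
  rw [← hR, Finset.sum_range_succ, Finset.sum_range_succ, Finset.sum_range_one, ← h₀, ← h₁, ← h₂]
  simp only [pow_zero, pow_one, IntermediateField.smul_def, smul_eq_mul, mul_one]

end Cfsg.Agent.Helper21.S2289
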