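import Mathlib
import Cfsg.Agent.Helper29.TV2Basic
import Cfsg.Agent.Helper17.TV2_EKcore
import Cfsg.Agent.Helper24.TV2_DE
import Cfsg.Agent.Helper18.TV2_USPAN
import Cfsg.Agent.Helper11.TV2_L0ND
import Cfsg.Agent.Helper11.TV2_SYMC
import Cfsg.Agent.Helper11.TV2_TRANS

/-! Board `tv2pieces`, row EK (helper17): the subgroups `E_K = ⟨K x⟩` generated by the cliques. -/

set_option autoImplicit false

namespace Cfsg.Agent.TV2

variable {P : Type*} [Group P] [Finite P] {W : Type*} [AddCommGroup W] [Module (ZMod 2) W] [Finite W] [DistribMulAction P W]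

theorem EK_aux_deps (C : Ctx P W) : EKDeps C where
  tv := fun hd => DE_tv C hd
  closure_D1 := DE_closure_D1 C
  sub_mem := fun S hS _ he w => USPAN_sub_mem S hS he w
  U_D1 := USPAN_D1 C
  l0 := fun he h => L0 C he h
  commute := fun hd he h => SYMC_commute C hd he h
  K_eq := fun hx hy => TRANS_K_eq C hx hy
  B_zero := fun hx hy hy' hn => TRANS_B_zero C hx hy hy' hn

theorem EK_comm (C : Ctx P W) {x y : P} (hx : x ∈ C.D1) (hy : y ∈ C.D1) (hne : C.K x ≠ C.K y) {g h : P}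
    (hg : g ∈ Subgroup.closure (C.K x)) (hh : h ∈ Subgroup.closure (C.K y)) : g * h = h * g :=
  EK_comm_core C (EK_aux_deps C) hx hy hne hg hh

theorem EK_iSup (C : Ctx P W) : (⨆ x ∈ C.D1, Subgroup.closure (C.K x)) = C.E :=
  EK_iSup_core C (EK_aux_deps C)

theorem EK_fix (C : Ctx P W) {x y : P} (hx : x ∈ C.D1) (hy : y ∈ C.D1) (hne : C.K x ≠ C.K y) {g : P}
    (hg : g ∈ Subgroup.closure (C.K x)) {u : W} (hu : u ∈ cspan W (C.K y)) : g • u = u :=
  EK_fix_core C (EK_aux_deps C) hx hy hne hg hu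

theorem EK_commS (C : Ctx P W) {x : P} (hx : x ∈ C.D1) : commS W (Subgroup.closure (C.K x)) = cspan W (C.K x) :=
  EK_commS_core C (EK_aux_deps C) hx

theorem EK_U (C : Ctx P W) : C.U = ⨆ x ∈ C.D1, cspan W (C.K x) :=
  EK_U_core C (EK_aux_deps C)

theorem EK_indep (C : Ctx P W) {x : P} (hx : x ∈ C.D1) :
    Subgroup.closure (C.K x) ⊓ (⨆ y ∈ {y | y ∈ C.D1 ∧ C.K y ≠ C.K x}, Subgroup.closure (C.K y)) = ⊥ :=
  EK_indep_core C (EK_aux_deps C) hx

end Cfsg.Agent.TV2
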