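import Mathlib
import Cfsg.Agent.Helper29.TV2Basic
import Cfsg.Agent.Helper24.TV2_DE
import Cfsg.Agent.Helper24.TV2_ZB
import Cfsg.Agent.Helper29.TV2_INJh
import Cfsg.Agent.Helper11.TV2_L0ND
import Cfsg.Agent.Helper18.TV2_USPAN
import Cfsg.Agent.Helper11.TV2_TRANS
import Cfsg.Agent.Helper29.TV2_EKh

/-! Board `tv2pieces`, piece RHO: `E_K = ⟨K⟩` acts on the points `pt` as the full symmetric group. -/

set_option autoImplicit false

namespace Cfsg.Agent.TV2

variable {P : Type*} [Group P] [Finite P] {W : Type*} [AddCommGroup W] [Module (ZMod 2) W] [Finite W] [DistribMulAction P W]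

theorem RHO_aux_tv (C : Ctx P W) {x : P} (y : ↥(C.K x)) : Tv W (y : P) := DE_tv C y.2.1.1

theorem RHO_aux_pt_none (C : Ctx P W) (z : W) (x : P) : pt C z x none = z := rfl

theorem RHO_aux_pt_some (C : Ctx P W) (z : W) (x : P) (y : ↥(C.K x)) : pt C z x (some y) = z + cen W (y : P) := rfl

theorem RHO_aux_pt_inj (C : Ctx P W) (z : W) (x : P) : Function.Injective (pt C z x) := by
  intro a b h
  cases a with
  | none =>
    cases b with
    | none => rfl
    | some y =>
      exfalso
      rw [RHO_aux_pt_none, RHO_aux_pt_some] at h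
      have : cen W (y : P) = 0 := by
        have := h.symm
        rwa [add_eq_left] at this
      exact (RHO_aux_tv C y).cen_ne_zero this
  | some y =>
    cases b with
    | none =>
      exfalso
      rw [RHO_aux_pt_none, RHO_aux_pt_some] at h
      have : cen W (y : P) = 0 := by rwa [add_eq_left] at h
      exact (RHO_aux_tv C y).cen_ne_zero this
    | some y' =>
      rw [RHO_aux_pt_some, RHO_aux_pt_some] at h
      have h1 : cen W (y : P) = cen W (y' : P) := add_left_cancel h
      have h2 : (y : P) = (y' : P) := INJ_cen C y.2.1.1 y'.2.1.1 h1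
      rw [Subtype.ext h2]

/-- the action of a generator on the points. -/
theorem RHO_aux_gen (C : Ctx P W) {z : W} (hz : C.IsBase z) {x : P} (hx : x ∈ C.D1) [DecidableEq (Option ↥(C.K x))]
    (k : ↥(C.K x)) (δ : Option ↥(C.K x)) : (k : P) • pt C z x δ = pt C z x (Equiv.swap none (some k) δ) := by
  have hk := RHO_aux_tv C k
  have hkz : fn W (k : P) z = 1 := ZB_fn C hz k.2.1
  have h0 : (k : P) • z = z + cen W (k : P) := by rw [hk.act, hkz, one_smul]
  cases δ with
  | none =>
    rw [Equiv.swap_apply_left, RHO_aux_pt_none, RHO_aux_pt_some, h0]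
  | some y =>
    by_cases hy : y = k
    · subst hy
      rw [Equiv.swap_apply_right, RHO_aux_pt_none, RHO_aux_pt_some, smul_add, h0, hk.smul_cen_self, add_assoc,
        add_self_W, add_zero]
    · have hne : (some y : Option ↥(C.K x)) ≠ some k := fun h => hy (Option.some.inj h)
      rw [Equiv.swap_apply_of_ne_of_ne (Option.some_ne_none y) hne, RHO_aux_pt_some, smul_add, h0, hk.smul_cen]
      have hB : B W (k : P) (y : P) = 1 :=
        TRANS_B_one C hx k.2 y.2 (fun h => hy (Subtype.ext h.symm))
      rw [hB, one_smul]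
      have := add_self_W (cen W (k : P))
      calc z + cen W (k : P) + (cen W (y : P) + cen W (k : P))
          = z + cen W (y : P) + (cen W (k : P) + cen W (k : P)) := by abel
        _ = z + cen W (y : P) := by rw [this, add_zero]

/-- every element of `E_K` permutes the points. -/
theorem RHO_aux_perm (C : Ctx P W) {z : W} (hz : C.IsBase z) {x : P} (hx : x ∈ C.D1) {e : P}
    (he : e ∈ Subgroup.closure (C.K x)) :
    ∃ σ : Equiv.Perm (Option ↥(C.K x)), ∀ δ, e • pt C z x δ = pt C z x (σ δ) := by
  classical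
  induction he using Subgroup.closure_induction with
  | mem k hk => exact ⟨Equiv.swap none (some ⟨k, hk⟩), fun δ => RHO_aux_gen C hz hx ⟨k, hk⟩ δ⟩
  | one => exact ⟨1, fun δ => by rw [one_smul]; rfl⟩
  | mul a b _ _ ha hb =>
    obtain ⟨σa, hσa⟩ := ha
    obtain ⟨σb, hσb⟩ := hb
    exact ⟨σa * σb, fun δ => by rw [mul_smul, hσb, hσa]; rfl⟩
  | inv a _ ha =>
    obtain ⟨σa, hσa⟩ := ha
    refine ⟨σa⁻¹, fun δ => ?_⟩
    rw [inv_smul_eq_iff, hσa]
    simp

/-- elements of `E_K` fix the centres of the other cliques; an element fixing `z` and all `z + c_y` is trivial. -/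
theorem RHO_aux_ker (C : Ctx P W) {z : W} {x : P} (hx : x ∈ C.D1) {e : P}
    (he : e ∈ Subgroup.closure (C.K x)) (hfix : ∀ δ, e • pt C z x δ = pt C z x δ) : e = 1 := by
  have heE : e ∈ C.E := by
    refine Subgroup.closure_mono ?_ he
    intro y hy
    exact hy.1.1
  apply L0 C heE
  intro u hu
  rw [USPAN_D1 C] at hu
  unfold cspan at hu
  induction hu using AddSubgroup.closure_induction with
  | mem v hv =>
    obtain ⟨d, hd, rfl⟩ := hv
    by_cases hdK : d ∈ C.K x
    · have h1 := hfix (some ⟨d, hdK⟩)
      have h0 := hfix none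
      rw [RHO_aux_pt_none] at h0
      rw [RHO_aux_pt_some, smul_add, h0] at h1
      exact add_left_cancel h1
    · have hne : C.K x ≠ C.K d := by
        intro h
        apply hdK
        rw [h]
        exact ⟨hd, Or.inl rfl⟩
      apply EK_fix C hx hd hne he
      exact AddSubgroup.subset_closure ⟨d, ⟨hd, Or.inl rfl⟩, rfl⟩
  | zero => exact smul_zero e
  | add a b _ _ ha hb => rw [smul_add, ha, hb]
  | neg a _ ha => rw [smul_neg, ha]

/-- the star transpositions generate the symmetric group. -/
theorem RHO_aux_star {α : Type*} [Finite α] [DecidableEq (Option α)] (H : Subgroup (Equiv.Perm (Option α)))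
    (h : ∀ a : α, Equiv.swap none (some a) ∈ H) : H = ⊤ := by
  rw [eq_top_iff, ← Equiv.Perm.closure_isSwap, Subgroup.closure_le]
  rintro σ ⟨a, b, hab, rfl⟩
  cases a with
  | none =>
    cases b with
    | none => exact absurd rfl hab
    | some b => exact h b
  | some a =>
    cases b with
    | none => rw [Equiv.swap_comm]; exact h a
    | some b =>
      have hne : a ≠ b := fun h => hab (congrArg some h)
      have := Equiv.swap_mul_swap_mul_swap (x := some a) (y := none) (z := some b) (by simp)
        (fun h => hne (Option.some.inj h))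
      rw [Equiv.swap_comm (some b) (some a)] at this
      rw [← this]
      refine H.mul_mem (H.mul_mem (h b) ?_) (h b)
      rw [Equiv.swap_comm]; exact h a

/-- RHO. -/
theorem RHO (C : Ctx P W) {z : W} (hz : C.IsBase z) {x : P} (hx : x ∈ C.D1) :
    ∃ ρ : ↥(Subgroup.closure (C.K x)) →* Equiv.Perm (Option ↥(C.K x)), Function.Bijective ρ ∧
      ∀ (e : ↥(Subgroup.closure (C.K x))) (δ : Option ↥(C.K x)), (e : P) • pt C z x δ = pt C z x (ρ e δ) := by
  classical
  have hinj := RHO_aux_pt_inj C z x
  -- the permutation attached to `e`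
  let f : ↥(Subgroup.closure (C.K x)) → Equiv.Perm (Option ↥(C.K x)) :=
    fun e => (RHO_aux_perm C hz hx e.2).choose
  have hf : ∀ (e : ↥(Subgroup.closure (C.K x))) δ, (e : P) • pt C z x δ = pt C z x (f e δ) :=
    fun e => (RHO_aux_perm C hz hx e.2).choose_spec
  let ρ : ↥(Subgroup.closure (C.K x)) →* Equiv.Perm (Option ↥(C.K x)) :=
    { toFun := f
      map_one' := by
        ext1 δ
        apply hinj
        rw [← hf, Subgroup.coe_one, one_smul]
        rfl
      map_mul' := by
        intro a b
        ext1 δ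
        apply hinj
        rw [← hf, Subgroup.coe_mul, mul_smul, hf b, hf a]
        rfl }
  have hρ : ∀ e δ, ρ e δ = f e δ := fun e δ => rfl
  refine ⟨ρ, ⟨?_, ?_⟩, fun e δ => hf e δ⟩
  · -- injective
    rw [injective_iff_map_eq_one]
    intro e he
    apply Subtype.ext
    rw [Subgroup.coe_one]
    apply RHO_aux_ker C hx e.2
    intro δ
    rw [hf, ← hρ, he]
    rfl
  · -- surjective
    have hfinK : Finite ↥(C.K x) := Subtype.finite
    have htop : ρ.range = ⊤ := by
      apply RHO_aux_star
      intro k
      refine ⟨⟨(k : P), Subgroup.subset_closure k.2⟩, ?_⟩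
      ext1 δ
      apply hinj
      rw [hρ, ← hf]
      exact RHO_aux_gen C hz hx k δ
    exact MonoidHom.range_eq_top.mp htop

end Cfsg.Agent.TV2
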