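import Mathlib
import Cfsg.Agent.Helper29.TV2Basic
import Cfsg.Agent.Helper24.TV2_KCARD
import Cfsg.Agent.Helper29.TV2_RHO

/-! Board `tv2pieces`, piece PSI: the even-weight module map. -/

set_option autoImplicit false

namespace Cfsg.Agent.TV2

variable {P : Type*} [Group P] [Finite P] {W : Type*} [AddCommGroup W] [Module (ZMod 2) W] [Finite W] [DistribMulAction P W]

/-- `B` on a clique. -/
theorem PSIh_aux_B_ne (C : Ctx P W) {x : P} (hx : x ∈ C.D1) {y y' : ↥(C.K x)} (h : y ≠ y') :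
    B W (y : P) (y' : P) = 1 :=
  TRANS_B_one C hx y.2 y'.2 (fun h' => h (Subtype.ext h'))

theorem PSIh_aux_B_self (C : Ctx P W) {x : P} (y : ↥(C.K x)) : B W (y : P) (y : P) = 0 := B_self (RHO_aux_tv C y)

/-- the clique has even size. -/
theorem PSIh_aux_even (C : Ctx P W) {x : P} (hx : x ∈ C.D1) [Fintype ↥(C.K x)] :
    ((Fintype.card ↥(C.K x) : ℕ) : ZMod 2) = 0 := by
  obtain ⟨n, hn, hcard⟩ := KCARD C
  have h1 : Fintype.card ↥(C.K x) = 2 ^ n := by
    rw [← Nat.card_eq_fintype_card, Nat.card_coe_set_eq, hcard x hx]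
  rw [h1]
  obtain ⟨m, rfl⟩ : ∃ m, n = m + 1 := ⟨n - 1, by omega⟩
  rw [pow_succ, Nat.cast_mul]
  rw [show ((2 : ℕ) : ZMod 2) = 0 from rfl, mul_zero]

/-- the sum of all functionals of the clique. -/
noncomputable def PSIh_aux_s (C : Ctx P W) (x : P) [Fintype ↥(C.K x)] : W →+ ZMod 2 := ∑ y : ↥(C.K x), fn W (y : P)

theorem PSIh_aux_s_apply (C : Ctx P W) (x : P) [Fintype ↥(C.K x)] (w : W) :
    PSIh_aux_s C x w = ∑ y : ↥(C.K x), fn W (y : P) w := by
  unfold PSIh_aux_s
  rw [AddMonoidHom.finsetSum_apply]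

theorem PSIh_aux_s_cen (C : Ctx P W) {x : P} (hx : x ∈ C.D1) [Fintype ↥(C.K x)] (y : ↥(C.K x)) :
    PSIh_aux_s C x (cen W (y : P)) = 1 := by
  classical
  rw [PSIh_aux_s_apply]
  have h1 : ∀ y' : ↥(C.K x), fn W (y' : P) (cen W (y : P)) = 1 - (if y' = y then 1 else 0) := by
    intro y'
    by_cases h : y' = y
    · subst h
      rw [if_pos rfl, sub_self]
      exact PSIh_aux_B_self C y'
    · rw [if_neg h, sub_zero]
      exact PSIh_aux_B_ne C hx h
  rw [Finset.sum_congr rfl (fun y' _ => h1 y'), Finset.sum_sub_distrib, Finset.sum_const, Finset.card_univ,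
    Finset.sum_ite_eq' Finset.univ y (fun _ => (1 : ZMod 2)), if_pos (Finset.mem_univ y), nsmul_eq_mul, mul_one,
    PSIh_aux_even C hx, zero_sub]
  rfl

/-- the module map. -/
noncomputable def PSIh_aux_psi (C : Ctx P W) (x : P) [Fintype ↥(C.K x)] : W →+ (Option ↥(C.K x) → ZMod 2) :=
  AddMonoidHom.mk' (fun w δ => δ.elim (PSIh_aux_s C x w) (fun y => PSIh_aux_s C x w + fn W (y : P) w)) (by
    intro a b
    funext δ
    cases δ with
    | none => simp only [Option.elim, map_add, Pi.add_apply]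
    | some y =>
      simp only [Option.elim, map_add, Pi.add_apply]
      abel)

theorem PSIh_aux_psi_none (C : Ctx P W) (x : P) [Fintype ↥(C.K x)] (w : W) :
    PSIh_aux_psi C x w none = PSIh_aux_s C x w := rfl

theorem PSIh_aux_psi_some (C : Ctx P W) (x : P) [Fintype ↥(C.K x)] (w : W) (y : ↥(C.K x)) :
    PSIh_aux_psi C x w (some y) = PSIh_aux_s C x w + fn W (y : P) w := rfl

/-- the value of `ψ` on a centre. -/
theorem PSIh_aux_psi_cen_none (C : Ctx P W) {x : P} (hx : x ∈ C.D1) [Fintype ↥(C.K x)] (y : ↥(C.K x)) :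
    PSIh_aux_psi C x (cen W (y : P)) none = 1 := by
  rw [PSIh_aux_psi_none, PSIh_aux_s_cen C hx]

theorem PSIh_aux_psi_cen_self (C : Ctx P W) {x : P} (hx : x ∈ C.D1) [Fintype ↥(C.K x)] (y : ↥(C.K x)) :
    PSIh_aux_psi C x (cen W (y : P)) (some y) = 1 := by
  rw [PSIh_aux_psi_some, PSIh_aux_s_cen C hx]
  have := PSIh_aux_B_self C y
  unfold B at this
  rw [this, add_zero]

theorem PSIh_aux_psi_cen_ne (C : Ctx P W) {x : P} (hx : x ∈ C.D1) [Fintype ↥(C.K x)] {y y' : ↥(C.K x)} (h : y' ≠ y) :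
    PSIh_aux_psi C x (cen W (y : P)) (some y') = 0 := by
  rw [PSIh_aux_psi_some, PSIh_aux_s_cen C hx]
  have := PSIh_aux_B_ne C hx h
  unfold B at this
  rw [this]
  rfl

/-- even weight. -/
theorem PSIh_aux_weight (C : Ctx P W) {x : P} (hx : x ∈ C.D1) [Fintype ↥(C.K x)] (w : W) :
    ∑ δ : Option ↥(C.K x), PSIh_aux_psi C x w δ = 0 := by
  rw [Fintype.sum_option]
  simp only [PSIh_aux_psi_none, PSIh_aux_psi_some]
  rw [Finset.sum_add_distrib, Finset.sum_const, Finset.card_univ, ← PSIh_aux_s_apply, nsmul_eq_mul, PSIh_aux_even C hx,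
    zero_mul, zero_add]
  have : PSIh_aux_s C x w + PSIh_aux_s C x w = 0 := by
    rcases zmod2_cases (PSIh_aux_s C x w) with h | h <;> rw [h] <;> rfl
  exact this

/-- `ψ` of a combination of centres. -/
theorem PSIh_aux_psi_comb (C : Ctx P W) {x : P} (hx : x ∈ C.D1) [Fintype ↥(C.K x)] (a : ↥(C.K x) → ZMod 2) :
    (∀ y' : ↥(C.K x), PSIh_aux_psi C x (∑ y : ↥(C.K x), a y • cen W (y : P)) (some y') = a y') ∧
      PSIh_aux_psi C x (∑ y : ↥(C.K x), a y • cen W (y : P)) none = ∑ y : ↥(C.K x), a y := by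
  classical
  have hsum : ∀ δ, PSIh_aux_psi C x (∑ y : ↥(C.K x), a y • cen W (y : P)) δ =
      ∑ y : ↥(C.K x), a y * PSIh_aux_psi C x (cen W (y : P)) δ := by
    intro δ
    rw [map_sum, Finset.sum_apply]
    refine Finset.sum_congr rfl fun y _ => ?_
    rw [ZMod.map_smul]
    rfl
  constructor
  · intro y'
    rw [hsum]
    have h1 : ∀ y : ↥(C.K x), a y * PSIh_aux_psi C x (cen W (y : P)) (some y') = if y = y' then a y else 0 := by
      intro y
      by_cases h : y = y'
      · subst h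
        rw [if_pos rfl, PSIh_aux_psi_cen_self C hx, mul_one]
      · rw [if_neg h, PSIh_aux_psi_cen_ne C hx (Ne.symm h), mul_zero]
    rw [Finset.sum_congr rfl (fun y _ => h1 y), Finset.sum_ite_eq' Finset.univ y' a, if_pos (Finset.mem_univ y')]
  · rw [hsum]
    refine Finset.sum_congr rfl fun y _ => ?_
    rw [PSIh_aux_psi_cen_none C hx, mul_one]

theorem PSIh_aux_comb_mem (C : Ctx P W) {x : P} [Fintype ↥(C.K x)] (a : ↥(C.K x) → ZMod 2) :
    (∑ y : ↥(C.K x), a y • cen W (y : P)) ∈ cspan W (C.K x) := by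
  apply AddSubgroup.sum_mem
  intro y _
  apply ZMod.smul_mem
  exact AddSubgroup.subset_closure ⟨(y : P), y.2, rfl⟩

/-- kernel. -/
theorem PSIh_aux_ker (C : Ctx P W) {x : P} [Fintype ↥(C.K x)] (w : W) :
    PSIh_aux_psi C x w = 0 ↔ ∀ e ∈ Subgroup.closure (C.K x), e • w = w := by
  constructor
  · intro h
    have h0 : PSIh_aux_s C x w = 0 := by
      have := congrFun h none
      rwa [PSIh_aux_psi_none] at this
    have h1 : ∀ y : ↥(C.K x), fn W (y : P) w = 0 := by
      intro y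
      have := congrFun h (some y)
      rw [PSIh_aux_psi_some, h0, zero_add] at this
      exact this
    have hle : Subgroup.closure (C.K x) ≤ MulAction.stabilizer P w := by
      rw [Subgroup.closure_le]
      intro y hy
      rw [SetLike.mem_coe, MulAction.mem_stabilizer_iff]
      exact ((RHO_aux_tv C ⟨y, hy⟩).fixed_iff w).mpr (h1 ⟨y, hy⟩)
    intro e he
    exact MulAction.mem_stabilizer_iff.mp (hle he)
  · intro h
    have h1 : ∀ y : ↥(C.K x), fn W (y : P) w = 0 := by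
      intro y
      exact ((RHO_aux_tv C y).fixed_iff w).mp (h _ (Subgroup.subset_closure y.2))
    have h0 : PSIh_aux_s C x w = 0 := by
      rw [PSIh_aux_s_apply]
      exact Finset.sum_eq_zero fun y _ => h1 y
    funext δ
    cases δ with
    | none => rw [PSIh_aux_psi_none, h0]; rfl
    | some y => rw [PSIh_aux_psi_some, h0, h1 y, add_zero]; rfl

/-- equivariance for a generator. -/
theorem PSIh_aux_gen (C : Ctx P W) {x : P} (hx : x ∈ C.D1) [Fintype ↥(C.K x)] [DecidableEq (Option ↥(C.K x))]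
    (k : ↥(C.K x)) (w : W) (δ : Option ↥(C.K x)) :
    PSIh_aux_psi C x ((k : P) • w) δ = PSIh_aux_psi C x w (Equiv.swap none (some k) δ) := by
  have hk := RHO_aux_tv C k
  have h1 : PSIh_aux_psi C x ((k : P) • w) δ =
      PSIh_aux_psi C x w δ + fn W (k : P) w * PSIh_aux_psi C x (cen W (k : P)) δ := by
    rw [hk.act, map_add, ZMod.map_smul]
    rfl
  rw [h1]
  cases δ with
  | none =>
    rw [Equiv.swap_apply_left, PSIh_aux_psi_cen_none C hx, mul_one, PSIh_aux_psi_none, PSIh_aux_psi_some]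
  | some y =>
    by_cases hy : y = k
    · subst hy
      rw [Equiv.swap_apply_right, PSIh_aux_psi_cen_self C hx, mul_one, PSIh_aux_psi_none, PSIh_aux_psi_some, add_assoc]
      have : fn W (y : P) w + fn W (y : P) w = 0 := by
        rcases zmod2_cases (fn W (y : P) w) with h | h <;> rw [h] <;> rfl
      rw [this, add_zero]
    · have hne : (some y : Option ↥(C.K x)) ≠ some k := fun h => hy (Option.some.inj h)
      rw [Equiv.swap_apply_of_ne_of_ne (Option.some_ne_none y) hne, PSIh_aux_psi_cen_ne C hx hy, mul_zero, add_zero]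

/-- PSI. -/
theorem PSI (C : Ctx P W) {z : W} (hz : C.IsBase z) {x : P} (hx : x ∈ C.D1)
    (ρ : ↥(Subgroup.closure (C.K x)) →* Equiv.Perm (Option ↥(C.K x)))
    (hρ : ∀ (e : ↥(Subgroup.closure (C.K x))) (δ : Option ↥(C.K x)), (e : P) • pt C z x δ = pt C z x (ρ e δ)) :
    ∃ ψ : W →+ (Option ↥(C.K x) → ZMod 2),
      (∀ w : W, ∑ᶠ δ, ψ w δ = 0) ∧
      (∀ v : Option ↥(C.K x) → ZMod 2, ∑ᶠ δ, v δ = 0 → ∃ u ∈ cspan W (C.K x), ψ u = v) ∧
      (∀ w : W, ψ w = 0 ↔ ∀ e ∈ Subgroup.closure (C.K x), e • w = w) ∧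
      ∀ (e : ↥(Subgroup.closure (C.K x))) (w : W) (δ : Option ↥(C.K x)), ψ ((e : P) • w) δ = ψ w ((ρ e)⁻¹ δ) := by
  classical
  have hfinK : Finite ↥(C.K x) := Subtype.finite
  let _ : Fintype ↥(C.K x) := Fintype.ofFinite _
  have hinj := RHO_aux_pt_inj C z x
  refine ⟨PSIh_aux_psi C x, ?_, ?_, PSIh_aux_ker C, ?_⟩
  · intro w
    rw [finsum_eq_sum_of_fintype]
    exact PSIh_aux_weight C hx w
  · intro v hv
    rw [finsum_eq_sum_of_fintype, Fintype.sum_option] at hv
    obtain ⟨h1, h2⟩ := PSIh_aux_psi_comb C hx (fun y => v (some y))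
    refine ⟨∑ y : ↥(C.K x), v (some y) • cen W (y : P), PSIh_aux_comb_mem C _, ?_⟩
    funext δ
    cases δ with
    | none =>
      rw [h2]
      have : v none = -∑ y : ↥(C.K x), v (some y) := eq_neg_of_add_eq_zero_left hv
      rw [this]
      rcases zmod2_cases (∑ y : ↥(C.K x), v (some y)) with h | h <;> rw [h] <;> rfl
    | some y => exact h1 y
  · -- equivariance
    have key : ∀ (e : P) (he : e ∈ Subgroup.closure (C.K x)) (w : W) (δ : Option ↥(C.K x)),
        PSIh_aux_psi C x (e • w) δ = PSIh_aux_psi C x w ((ρ ⟨e, he⟩)⁻¹ δ) := by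
      intro e he
      induction he using Subgroup.closure_induction with
      | mem k hk =>
        intro w δ
        have hρk : ρ ⟨k, Subgroup.subset_closure hk⟩ = Equiv.swap none (some ⟨k, hk⟩) := by
          ext1 δ'
          apply hinj
          rw [← hρ]
          exact RHO_aux_gen C hz hx ⟨k, hk⟩ δ'
        rw [hρk, Equiv.swap_inv]
        exact PSIh_aux_gen C hx ⟨k, hk⟩ w δ
      | one =>
        intro w δ
        have : ρ ⟨1, Subgroup.one_mem _⟩ = 1 := map_one ρ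
        rw [this, one_smul]
        rfl
      | mul a b ha hb iha ihb =>
        intro w δ
        have : ρ ⟨a * b, Subgroup.mul_mem _ ha hb⟩ = ρ ⟨a, ha⟩ * ρ ⟨b, hb⟩ := map_mul ρ ⟨a, ha⟩ ⟨b, hb⟩
        rw [this, mul_smul, iha, ihb, mul_inv_rev]
        rfl
      | inv a ha iha =>
        intro w δ
        have : ρ ⟨a⁻¹, Subgroup.inv_mem _ ha⟩ = (ρ ⟨a, ha⟩)⁻¹ := map_inv ρ ⟨a, ha⟩
        rw [this, inv_inv]
        have h := iha (a⁻¹ • w) (ρ ⟨a, ha⟩ δ)
        rw [smul_inv_smul] at h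
        rw [h]
        simp
    intro e w δ
    exact key (e : P) e.2 w δ

end Cfsg.Agent.TV2
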