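import Mathlib
import Cfsg.Prelude.Def_PLocal
import Cfsg.Agent.Helper29.TV2_TR2
import Cfsg.Agent.Helper29.TV2_ABSMAIN

/-! Board `tv2pieces`, piece FINAL: `Cfsg.Agent.TV2.main`, the transvection case of S3000. -/

set_option autoImplicit false

namespace Cfsg.Agent.TV2

/-- TV2: the transvection case of S3000. -/
theorem main {G : Type*} [Group G] [Finite G] {p : ℕ} [Fact p.Prime] (hp : p = 2) (V P : Subgroup G)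
    (hV : Cfsg.IsElementaryAbelian p V) (hPV : P ≤ Subgroup.normalizer (V : Set G))
    (hfaith : P ⊓ Subgroup.centralizer (V : Set G) = ⊥) (hmin : Cfsg.IsPMinimal p ↥P) (T : Sylow p ↥P) (M : Subgroup ↥P)
    (hM : IsCoatom M) (hTM : (T : Subgroup ↥P) ≤ M) (hOp : Cfsg.pCore p ↥P = ⊥)
    (htv : ∃ a ∈ P, a ∉ Subgroup.centralizer (V : Set G) ∧
      Nat.card ↥V ≤ 2 * Nat.card ↥(V ⊓ Subgroup.centralizer ({a} : Set G)))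
    (hCT : P ⊓ Subgroup.centralizer ((V ⊓ Subgroup.centralizer ((((T : Subgroup ↥P).map P.subtype) : Subgroup G) : Set G)) : Set G)
      ≤ M.map P.subtype) :
    ∃ (r : ℕ) (E : Fin r → Subgroup G), 1 ≤ r ∧ (∀ i, E i ≤ P) ∧ (∀ i j, i ≠ j → ⁅E i, E j⁆ = ⊥) ∧ (∀ i, E i ⊓ (⨆ j ∈ {j | j ≠ i}, E j) = ⊥) ∧ (⨆ i, E i) ⊔ ((T : Subgroup ↥P).map P.subtype) = P ∧ (∀ i j, ∃ t ∈ ((T : Subgroup ↥P).map P.subtype), (E i).map (MulAut.conj t).toMonoidHom = E j) ∧ (V ⊓ Subgroup.centralizer (((⨆ i, E i) : Subgroup G) : Set G)) ⊔ (⨆ i, ⁅V, E i⁆) = V ∧ (∀ i j, i ≠ j → ⁅⁅V, E i⁆, E j⁆ = ⊥) ∧ ∀ i, ∃ n : ℕ, 1 ≤ n ∧ ((∃ (F : Type) (_ : Field F) (_ : Fintype F), Fintype.card F = p ^ n ∧ Nonempty (↥(E i) ≃* Matrix.SpecialLinearGroup (Fin 2) F) ∧ Cfsg.ActsAsSL2OnSection F ⊤ (E i) ⁅V, E i⁆ (⁅V, E i⁆ ⊓ Subgroup.centralizer ((E i : Subgroup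 G) : Set G))) ∨ (p = 2 ∧ Nonempty (↥(E i) ≃* Equiv.Perm (Fin (2 ^ n + 1))) ∧ Cfsg.ActsAsOddPermModuleOnSection (2 ^ n + 1) ⊤ (E i) ⁅V, E i⁆ (⁅V, E i⁆ ⊓ Subgroup.centralizer ((E i : Subgroup G) : Set G)))) := by
  subst hp
  obtain ⟨a, haP, haV, hcard⟩ := htv
  have hatv := TR1_tv (hV := hV) (hPV := hPV) haP haV hcard
  have key := TR2 V P hV hPV (mkCtx V P hV hPV hfaith hmin T M hM hTM hOp ⟨a, haP⟩ hatv hCT)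
    (ABSMAIN _)
  obtain ⟨r, E, h1, h2, h3, h4, h5, h6, h7, h8, h9⟩ := key
  refine ⟨r, E, h1, h2, h3, h4, h5, h6, h7, h8, ?_⟩
  intro i
  obtain ⟨n, hn, hiso, hact⟩ := h9 i
  exact ⟨n, hn, Or.inr ⟨rfl, hiso, hact⟩⟩

end Cfsg.Agent.TV2
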