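import Mathlib
import Cfsg.Prelude.Def_BaumannBlocks
import Cfsg.Agent.Helper29.TV2_TR2

/-! Board `tv2pieces`, strengthened transfer `TR2S`: `TR2` with one more conjunct (TINV) carried through.
New file, new names; `TV2_TR2` is untouched (its auxiliary lemmas are reused). -/

set_option autoImplicit false

namespace Cfsg.Agent.TV2

open scoped commutatorElement

/-- the conclusion of the strengthened abstract theorem `ABSMAINS`. -/
def AbsConclS {P : Type*} [Group P] {W : Type*} [AddCommGroup W] [Module (ZMod 2) W] [DistribMulAction P W] (C : Ctx P W) : Prop :=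
  ∃ (r n : ℕ) (E : Fin r → Subgroup P), 1 ≤ r ∧ 1 ≤ n ∧
    (∀ i j, i ≠ j → ∀ g ∈ E i, ∀ h ∈ E j, g * h = h * g) ∧
    (∀ i, E i ⊓ (⨆ j ∈ {j | j ≠ i}, E j) = ⊥) ∧
    (⨆ i, E i) ⊔ (C.T : Subgroup P) = ⊤ ∧
    (∀ i j, ∃ t ∈ (C.T : Subgroup P), (E i).map (MulAut.conj t).toMonoidHom = E j) ∧
    (∀ w : W, ∃ w0 : W, (∀ i, ∀ e ∈ E i, e • w0 = w0) ∧ w - w0 ∈ ⨆ i, commS W (E i)) ∧
    (∀ i j, i ≠ j → ∀ u ∈ commS W (E i), ∀ e ∈ E j, e • u = u) ∧
    (∀ i, ∃ (ρ : ↥(E i) →* Equiv.Perm (Fin (2 ^ n + 1))) (ψ : W →+ (Fin (2 ^ n + 1) → ZMod 2)),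
      Function.Bijective ρ ∧ (∀ w : W, ∑ k, ψ w k = 0) ∧
      (∀ v : Fin (2 ^ n + 1) → ZMod 2, ∑ k, v k = 0 → ∃ u ∈ commS W (E i), ψ u = v) ∧
      (∀ w : W, ψ w = 0 ↔ ∀ e ∈ E i, e • w = w) ∧
      ∀ (e : ↥(E i)) (w : W) (k : Fin (2 ^ n + 1)), ψ ((e : P) • w) k = ψ w ((ρ e)⁻¹ k)) ∧
    ∀ i, ∀ t ∈ (C.T : Subgroup P), ∃ j, (E i).map (MulAut.conj t).toMonoidHom = E j

variable {G : Type*} [Group G]
variable {V P : Subgroup G} {hV : Cfsg.IsElementaryAbelian 2 V} {hPV : P ≤ Subgroup.normalizer (V : Set G)}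

/-- TR2S: transfer of the strengthened abstract conclusion. -/
theorem TR2S (V P : Subgroup G) (hV : Cfsg.IsElementaryAbelian 2 V) (hPV : P ≤ Subgroup.normalizer (V : Set G))
    (C : Ctx ↥P (WV V P hV hPV)) (habs : AbsConclS C) :
    ∃ (r : ℕ) (E : Fin r → Subgroup G), 1 ≤ r ∧ (∀ i, E i ≤ P) ∧ (∀ i j, i ≠ j → ⁅E i, E j⁆ = ⊥) ∧
      (∀ i, E i ⊓ (⨆ j ∈ {j | j ≠ i}, E j) = ⊥) ∧
      (⨆ i, E i) ⊔ ((C.T : Subgroup ↥P).map P.subtype) = P ∧
      (∀ i j, ∃ t ∈ ((C.T : Subgroup ↥P).map P.subtype), (E i).map (MulAut.conj t).toMonoidHom = E j) ∧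
      (V ⊓ Subgroup.centralizer (((⨆ i, E i) : Subgroup G) : Set G)) ⊔ (⨆ i, ⁅V, E i⁆) = V ∧
      (∀ i j, i ≠ j → ⁅⁅V, E i⁆, E j⁆ = ⊥) ∧
      (∀ i, ∃ n : ℕ, 1 ≤ n ∧ Nonempty (↥(E i) ≃* Equiv.Perm (Fin (2 ^ n + 1))) ∧
        Cfsg.ActsAsOddPermModuleOnSection (2 ^ n + 1) ⊤ (E i) ⁅V, E i⁆
          (⁅V, E i⁆ ⊓ Subgroup.centralizer ((E i : Subgroup G) : Set G))) ∧
      ∀ i, ∀ t ∈ ((C.T : Subgroup ↥P).map P.subtype), ∃ j, (E i).map (MulAut.conj t).toMonoidHom = E j := by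
  obtain ⟨r, n, E', hr, hn, hcomm, hind, hsup, hconj, hdec, hfix, hmod, htinv⟩ := habs
  have hinj : Function.Injective P.subtype := Subtype.coe_injective
  refine ⟨r, fun i => (E' i).map P.subtype, hr, fun i => Subgroup.map_subtype_le _, ?_, ?_, ?_, ?_, ?_, ?_, ?_, ?_⟩
  · -- pairwise commuting
    intro i j hij
    rw [← Subgroup.map_commutator]
    have : ⁅E' i, E' j⁆ = ⊥ := by
      rw [Subgroup.commutator_eq_bot_iff_le_centralizer]
      intro g hg
      rw [Subgroup.mem_centralizer_iff]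
      intro h hh
      exact (hcomm i j hij g hg h hh).symm
    rw [this, Subgroup.map_bot]
  · -- independence
    intro i
    have h1 : (⨆ j ∈ {j | j ≠ i}, (E' j).map P.subtype) = (⨆ j ∈ {j | j ≠ i}, E' j).map P.subtype := by
      rw [Subgroup.map_iSup]
      congr 1
      funext j
      rw [Subgroup.map_iSup]
    rw [h1, ← Subgroup.map_inf _ _ _ hinj, hind i, Subgroup.map_bot]
  · -- product
    rw [← Subgroup.map_iSup, ← Subgroup.map_sup, hsup, ← MonoidHom.range_eq_map, Subgroup.range_subtype]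
  · -- conjugacy
    intro i j
    obtain ⟨t, ht, htE⟩ := hconj i j
    refine ⟨(t : G), ⟨t, ht, rfl⟩, ?_⟩
    show Subgroup.map _ (Subgroup.map P.subtype (E' i)) = Subgroup.map P.subtype (E' j)
    rw [← htE, Subgroup.map_map, Subgroup.map_map]
    congr 1
  · -- decomposition of V
    apply le_antisymm
    · refine sup_le inf_le_left (iSup_le fun i => TR2_aux_comm_le_V hPV _)
    · intro v hv
      obtain ⟨w0, hw0, hw1⟩ := hdec (toW hV hPV ⟨v, hv⟩)
      have hv_eq : v = ofW w0 * ofW (toW hV hPV ⟨v, hv⟩ - w0) := by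
        rw [← ofW_add, add_sub_cancel, ofW_toW]
      rw [hv_eq]
      apply Subgroup.mul_mem
      · apply Subgroup.mem_sup_left
        refine Subgroup.mem_inf.mpr ⟨ofW_mem w0, ?_⟩
        rw [Subgroup.mem_centralizer_iff]
        intro h hh
        refine Subgroup.iSup_induction (fun i => (E' i).map P.subtype)
          (C := fun h => h * ofW w0 = ofW w0 * h) hh ?_ ?_ ?_
        · intro i x hx
          obtain ⟨e, he, rfl⟩ := hx
          exact (smul_eq_iff e w0).mp (hw0 i e he)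
        · simp
        · intro x y hx hy
          rw [mul_assoc, hy, ← mul_assoc, hx, mul_assoc]
      · apply Subgroup.mem_sup_right
        have : ∀ u ∈ ⨆ i, commS (WV V P hV hPV) (E' i), ofW u ∈ ⨆ i, ⁅V, (E' i).map P.subtype⁆ := by
          intro u hu
          refine AddSubgroup.iSup_induction (fun i => commS (WV V P hV hPV) (E' i))
            (C := fun u => ofW u ∈ ⨆ i, ⁅V, (E' i).map P.subtype⁆) hu ?_ ?_ ?_
          · intro i x hx
            exact Subgroup.mem_iSup_of_mem i (TR2_aux_commS_le (E' i) hx)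
          · rw [ofW_zero]; exact Subgroup.one_mem _
          · intro x y hx hy
            rw [ofW_add]; exact Subgroup.mul_mem _ hx hy
        exact this _ hw1
  · -- [[V,E i],E j] = 1
    intro i j hij
    rw [Subgroup.commutator_eq_bot_iff_le_centralizer, Subgroup.commutator_le]
    intro v hv e he
    obtain ⟨heP, heE⟩ := TR2_aux_mem_map.mp he
    obtain ⟨u, hu, hue⟩ := TR2_aux_comm_mem (hV := hV) (hPV := hPV) (E' i) hv heE
    rw [show ⁅v, e⁆ = ⁅v, ((⟨e, heP⟩ : ↥P) : G)⁆ from rfl, ← hue]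
    exact TR2_aux_mem_centralizer (E' j) (fun e2 he2 => hfix i j hij u hu e2 he2)
  · -- module structure
    intro i
    obtain ⟨ρ', ψ', hρbij, hwt, hsurj, hker, hequiv⟩ := hmod i
    let iso : ↥((E' i).map P.subtype) ≃* ↥(E' i) := (Subgroup.equivMapOfInjective (E' i) P.subtype hinj).symm
    have hiso : ∀ e : ↥((E' i).map P.subtype), (((iso e : ↥(E' i)) : ↥P) : G) = (e : G) := by
      intro e
      have h1 : (Subgroup.equivMapOfInjective (E' i) P.subtype hinj) (iso e) = e := MulEquiv.apply_symm_apply _ e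
      have h2 := congrArg Subtype.val h1
      rw [Subgroup.coe_equivMapOfInjective_apply] at h2
      exact h2
    let ρ : ↥((E' i).map P.subtype) →* Equiv.Perm (Fin (2 ^ n + 1)) := ρ'.comp iso.toMonoidHom
    have hρbij' : Function.Bijective ρ := hρbij.comp iso.bijective
    have hUV : ∀ u : ↥(⁅V, (E' i).map P.subtype⁆), (u : G) ∈ V := fun u => TR2_aux_comm_le_V hPV _ u.2
    let ψ : ↥(⁅V, (E' i).map P.subtype⁆) →* Multiplicative (Fin (2 ^ n + 1) → ZMod 2) :=
      { toFun := fun u => Multiplicative.ofAdd (ψ' (toW hV hPV ⟨(u : G), hUV u⟩))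
        map_one' := by
          have : toW hV hPV ⟨((1 : ↥(⁅V, (E' i).map P.subtype⁆)) : G), hUV 1⟩ = 0 := rfl
          rw [this, map_zero]; rfl
        map_mul' := by
          intro x y
          have : toW hV hPV ⟨((x * y : ↥(⁅V, (E' i).map P.subtype⁆)) : G), hUV (x * y)⟩ =
              toW hV hPV ⟨(x : G), hUV x⟩ + toW hV hPV ⟨(y : G), hUV y⟩ := rfl
          rw [this, map_add]; rfl }
    have hψ : ∀ u : ↥(⁅V, (E' i).map P.subtype⁆),
        Multiplicative.toAdd (ψ u) = ψ' (toW hV hPV ⟨(u : G), hUV u⟩) := fun u => rfl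
    refine ⟨n, hn, ⟨MulEquiv.ofBijective ρ hρbij'⟩, TR2_aux_le_normalizer hPV _, inf_le_left, ρ, ψ, ?_, ?_, ?_, ?_, ?_⟩
    · exact MonoidHom.range_eq_top.mpr hρbij'.2
    · intro u
      rw [hψ]; exact hwt _
    · intro v hv
      obtain ⟨u, hu, huv⟩ := hsurj v hv
      refine ⟨⟨ofW u, TR2_aux_commS_le (E' i) hu⟩, ?_⟩
      rw [hψ]
      exact huv
    · intro u
      have h1 : ψ u = 1 ↔ ψ' (toW hV hPV ⟨(u : G), hUV u⟩) = 0 := by
        constructor
        · intro h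
          have := congrArg Multiplicative.toAdd h
          rwa [hψ] at this
        · intro h
          apply Multiplicative.toAdd.injective
          rw [hψ, h]; rfl
      rw [h1, hker]
      constructor
      · intro h
        refine Subgroup.mem_inf.mpr ⟨u.2, ?_⟩
        have := TR2_aux_mem_centralizer (E' i) h
        rwa [ofW_toW] at this
      · intro h
        apply TR2_aux_fix_of_mem_centralizer (E' i)
        rw [ofW_toW]
        exact (Subgroup.mem_inf.mp h).2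
    · intro e u
      have hmem : (e : G) * (u : G) * (e : G)⁻¹ ∈ ⁅V, (E' i).map P.subtype⁆ :=
        (Subgroup.mem_normalizer_iff.mp (TR2_aux_le_normalizer hPV (E' i) e.2) _).mp u.2
      refine ⟨⟨(e : G) * (u : G) * (e : G)⁻¹, hmem⟩, rfl, ?_⟩
      intro k
      rw [hψ, hψ]
      have h2 : toW hV hPV ⟨(e : G) * (u : G) * (e : G)⁻¹, hUV ⟨_, hmem⟩⟩ =
          ((iso e : ↥(E' i)) : ↥P) • toW hV hPV ⟨(u : G), hUV u⟩ := by
        apply ofW_injective
        rw [ofW_smul, ofW_toW, ofW_toW, hiso]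
      rw [h2, hequiv]
      rfl
  · -- (TINV)
    rintro i _ ⟨t, ht, rfl⟩
    obtain ⟨j, hj⟩ := htinv i t ht
    refine ⟨j, ?_⟩
    show Subgroup.map _ (Subgroup.map P.subtype (E' i)) = Subgroup.map P.subtype (E' j)
    rw [← hj, Subgroup.map_map, Subgroup.map_map]
    congr 1

end Cfsg.Agent.TV2
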