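import Mathlib
import Cfsg.Agent.Helper29.TV2Q2Defs
import Cfsg.Agent.Helper29.S2981Q2_PTV
import Cfsg.Agent.Helper24.TV2_ZB
import Cfsg.Agent.Helper14.S2981Q2CTE
import Cfsg.Agent.Helper18.S2981Q2LIN

/-! Board `s2981pieces`, row Q2_UNIF2: a uniform subgroup of exponent 2 of `T` has order at most 2. -/

set_option autoImplicit false

namespace Cfsg.Agent.TV2

variable {P : Type*} [Group P] [Finite P] {W : Type*} [AddCommGroup W] [Module (ZMod 2) W] [Finite W] [DistribMulAction P W]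

/-- Q2_UNIF2: a uniform subgroup of exponent 2 of `T` has order at most 2. -/
theorem UNIF2 (C : Ctx P W) (B₁ : Subgroup P) (hBT : B₁ ≤ (C.T : Subgroup P)) (hexp : ∀ b ∈ B₁, b * b = 1)
    (huni : ∀ b ∈ B₁, b ≠ 1 → ∀ b' ∈ B₁, b' ≠ 1 → ∀ w : W, b • w = w → b' • w = w) : Nat.card ↥B₁ ≤ 2 := by
  classical
  by_contra hcon
  rw [not_le] at hcon
  have : Fintype ↥B₁ := Fintype.ofFinite _
  rw [Nat.card_eq_fintype_card, Fintype.two_lt_card_iff] at hcon
  obtain ⟨a0, b0, c0, hab, hac, hbc⟩ := hcon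
  -- two distinct nonidentity elements
  obtain ⟨b, hb, hb1, b', hb', hb'1, hbb'⟩ : ∃ b ∈ B₁, b ≠ 1 ∧ ∃ b' ∈ B₁, b' ≠ 1 ∧ b ≠ b' := by
    refine ⟨((a0⁻¹ * b0 : ↥B₁) : P), (a0⁻¹ * b0).2, ?_, ((a0⁻¹ * c0 : ↥B₁) : P), (a0⁻¹ * c0).2, ?_, ?_⟩
    · intro h
      apply hab
      have : a0⁻¹ * b0 = 1 := Subtype.ext h
      rw [inv_mul_eq_one] at this
      exact this
    · intro h
      apply hac
      have : a0⁻¹ * c0 = 1 := Subtype.ext h
      rw [inv_mul_eq_one] at this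
      exact this
    · intro h
      apply hbc
      have : a0⁻¹ * b0 = a0⁻¹ * c0 := Subtype.ext h
      exact mul_left_cancel this
  have hinv : ∀ g ∈ B₁, g⁻¹ = g := fun g hg => inv_eq_of_mul_eq_one_left (hexp g hg)
  obtain ⟨z, hz⟩ := ZB_exists C
  have hM : ∀ g ∈ B₁, g ∈ C.M := fun g hg => C.hTM (hBT hg)
  -- `b` moves some `y ∈ D1`
  obtain ⟨y, hy, hby⟩ : ∃ y ∈ C.D1, b * y * b⁻¹ ≠ y := by
    by_contra h
    push Not at h
    apply hb1
    apply CTE C (hBT hb)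
    intro e he
    rw [← DE_closure_D1 C] at he
    have hle : Subgroup.closure C.D1 ≤ Subgroup.centralizer {b} := by
      rw [Subgroup.closure_le]
      intro y hy
      rw [SetLike.mem_coe, Subgroup.mem_centralizer_iff]
      intro h' hh'
      rw [Set.mem_singleton_iff] at hh'
      subst hh'
      have := h y hy
      calc h' * y = h' * y * h'⁻¹ * h' := by group
        _ = y * h' := by rw [this]
    exact (Subgroup.mem_centralizer_iff.mp (hle he)) b rfl
  have hbw : b • (z + cen W y) ≠ z + cen W y := fun h => hby ((PTV_fix C hz hy (hM b hb)).mp h)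
  have hstab : ∀ g ∈ B₁, g ≠ 1 → g * y * g⁻¹ ≠ y := by
    intro g hg hg1 h
    exact hbw (huni g hg hg1 b hb hb1 _ ((PTV_fix C hz hy (hM g hg)).mpr h))
  have hinj : ∀ g ∈ B₁, ∀ h ∈ B₁, g * y * g⁻¹ = h * y * h⁻¹ → g = h := by
    intro g hg h hh heq
    by_contra hne
    have h1 : h⁻¹ * g ∈ B₁ := B₁.mul_mem (B₁.inv_mem hh) hg
    have h2 : h⁻¹ * g ≠ 1 := by
      intro h3
      rw [inv_mul_eq_one] at h3
      exact hne h3.symm
    apply hstab _ h1 h2
    calc h⁻¹ * g * y * (h⁻¹ * g)⁻¹ = h⁻¹ * (g * y * g⁻¹) * h := by group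
      _ = y := by rw [heq]; group
  have hb'' : b' * b ∈ B₁ := B₁.mul_mem hb' hb
  have hb''1 : b' * b ≠ 1 := by
    intro h
    apply hbb'
    have h1 : b' = b⁻¹ := eq_inv_of_mul_eq_one_left h
    rw [h1, hinv b hb]
  have hb''b : b' * b ≠ b := by
    intro h
    exact hb'1 (mul_eq_right.mp h)
  have hb''b' : b' * b ≠ b' := by
    intro h
    exact hb1 (mul_eq_left.mp h)
  have hfD : ∀ g ∈ B₁, g * y * g⁻¹ ∈ C.D1 := fun g hg => DE_conj_D1 C hy (hM g hg)
  have hcen : ∀ g : P, cen W (g * y * g⁻¹) = g • cen W y := fun g => (DE_tv C hy.1).cen_conj g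
  have d12 : (1 : P) * y * 1⁻¹ ≠ b * y * b⁻¹ := fun h => hb1 (hinj 1 B₁.one_mem b hb h).symm
  have d13 : (1 : P) * y * 1⁻¹ ≠ b' * y * b'⁻¹ := fun h => hb'1 (hinj 1 B₁.one_mem b' hb' h).symm
  have d14 : (1 : P) * y * 1⁻¹ ≠ (b' * b) * y * (b' * b)⁻¹ := fun h => hb''1 (hinj 1 B₁.one_mem _ hb'' h).symm
  have d23 : b * y * b⁻¹ ≠ b' * y * b'⁻¹ := fun h => hbb' (hinj b hb b' hb' h)
  have d24 : b * y * b⁻¹ ≠ (b' * b) * y * (b' * b)⁻¹ := fun h => hb''b (hinj b hb _ hb'' h).symm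
  have d34 : b' * y * b'⁻¹ ≠ (b' * b) * y * (b' * b)⁻¹ := fun h => hb''b' (hinj b' hb' _ hb'' h).symm
  have hlin := LIN C {(1 : P) * y * 1⁻¹, b * y * b⁻¹, b' * y * b'⁻¹, (b' * b) * y * (b' * b)⁻¹} (by
    intro y' hy'
    simp only [Finset.mem_insert, Finset.mem_singleton] at hy'
    rcases hy' with rfl | rfl | rfl | rfl
    · exact hfD 1 B₁.one_mem
    · exact hfD b hb
    · exact hfD b' hb'
    · exact hfD _ hb'') ⟨(1 : P) * y * 1⁻¹, by simp⟩
  apply hlin
  rw [Finset.sum_insert (by simp only [Finset.mem_insert, Finset.mem_singleton]; tauto),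
    Finset.sum_insert (by simp only [Finset.mem_insert, Finset.mem_singleton]; tauto),
    Finset.sum_insert (by simp only [Finset.mem_singleton]; tauto), Finset.sum_singleton, hcen, hcen, hcen, hcen, one_smul]
  have hu : b • (cen W y + b • cen W y) = cen W y + b • cen W y := by
    rw [smul_add, ← mul_smul, hexp b hb, one_smul, add_comm]
  have hu' : b' • (cen W y + b • cen W y) = cen W y + b • cen W y := huni b hb hb1 b' hb' hb'1 _ hu
  rw [smul_add, ← mul_smul] at hu'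
  calc cen W y + (b • cen W y + (b' • cen W y + (b' * b) • cen W y))
      = (cen W y + b • cen W y) + (b' • cen W y + (b' * b) • cen W y) := by abel
    _ = (cen W y + b • cen W y) + (cen W y + b • cen W y) := by rw [hu']
    _ = 0 := add_self_W _

end Cfsg.Agent.TV2
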