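import Mathlib
import Cfsg.Agent.Helper29.TV2Q2Defs
import Cfsg.Agent.Helper29.S2981Q2_UNIF2
import Cfsg.Agent.Helper29.TV2_TR1
import Cfsg.Agent.Helper12.S3000F3

/-! Board `s2981pieces`, row Q2_STR2: for `q = 2`, a strict offender inside `T` has order 2 and is generated by a transvection. -/

set_option autoImplicit false

namespace Cfsg.Agent.S2981P

open Cfsg.Agent.TV2 Cfsg.Agent.S2789P Cfsg.Agent.S2999P Cfsg.Agent.S3000P
open scoped commutatorElement

variable {G : Type*} [Group G] [Finite G] {V P : Subgroup G} {hV : Cfsg.IsElementaryAbelian 2 V}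
  {hPV : P ≤ Subgroup.normalizer (V : Set G)}

/-- Q2_STR2: a strict offender inside `T` has order 2 and is generated by a transvection.  (Uniform by `F3_fix_elt`, `UNIF2`; then
`F3_card` and `TR1_tv`.) -/
theorem STR2 (C : Ctx ↥P (WV V P hV hPV)) (Hy : Hyp 2 V P C.T C.M) {B₁ : Subgroup ↥P} (hBT : B₁ ≤ (C.T : Subgroup ↥P))
    (hS : StrictOff 2 V (B₁.map P.subtype)) : ∃ d ∈ B₁, Tv (WV V P hV hPV) d ∧ ∀ b ∈ B₁, b = 1 ∨ b = d := by
  have hBP : B₁.map P.subtype ≤ P := Subgroup.map_subtype_le _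
  have hexp : ∀ b ∈ B₁, b * b = 1 := by
    intro b hb
    have h1 : (b : G) ^ 2 = 1 := hS.hA.2 (b : G) ⟨b, hb, rfl⟩
    apply Subtype.ext
    rw [Subgroup.coe_mul, Subgroup.coe_one, ← pow_two]
    exact h1
  have huni : ∀ b ∈ B₁, b ≠ 1 → ∀ b' ∈ B₁, b' ≠ 1 → ∀ w : WV V P hV hPV, b • w = w → b' • w = w := by
    intro b hb hb1 b' hb' _ w hw
    have h1 : (b : G) * ofW w = ofW w * (b : G) := (smul_eq_iff b w).mp hw
    have hb1' : (b : G) ≠ 1 := fun h => hb1 (Subtype.ext h)
    have h2 : ofW w ∈ fixV V (B₁.map P.subtype) :=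
      F3_fix_elt Hy hBP hS (a := (b : G)) ⟨b, hb, rfl⟩ hb1' (ofW_mem w) h1
    have h3 := (Subgroup.mem_centralizer_iff.mp (Subgroup.mem_inf.mp h2).2) (b' : G) ⟨b', hb', rfl⟩
    exact (smul_eq_iff b' w).mpr h3
  have hcard2 : Nat.card ↥B₁ ≤ 2 := UNIF2 C B₁ hBT hexp huni
  have hne : B₁ ≠ ⊥ := by
    intro h
    apply hS.ne
    rw [h, Subgroup.map_bot]
  obtain ⟨d, hdB, hd1⟩ : ∃ d ∈ B₁, d ≠ 1 := by
    by_contra hcon
    push Not at hcon
    apply hne
    rw [eq_bot_iff]
    intro b hb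
    rw [Subgroup.mem_bot]
    exact hcon b hb
  have hall : ∀ b ∈ B₁, b = 1 ∨ b = d := by
    intro b hb
    by_contra hcon
    push Not at hcon
    have hinj : Function.Injective (![(⟨1, B₁.one_mem⟩ : ↥B₁), ⟨d, hdB⟩, ⟨b, hb⟩] : Fin 3 → ↥B₁) := by
      intro i j hij
      fin_cases i <;> fin_cases j <;> simp at hij ⊢
      · exact absurd hij.symm hd1
      · exact absurd hij.symm hcon.1
      · exact absurd hij hd1
      · exact absurd hij.symm hcon.2
      · exact absurd hij hcon.1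
      · exact absurd hij hcon.2
    have := Nat.card_le_card_of_injective _ hinj
    rw [Nat.card_fin] at this
    omega
  refine ⟨d, hdB, ?_, hall⟩
  have hdV : (d : G) ∉ Subgroup.centralizer (V : Set G) := by
    intro hc
    apply hd1
    have : (d : G) ∈ P ⊓ Subgroup.centralizer (V : Set G) := ⟨d.2, hc⟩
    rw [Hy.hf, Subgroup.mem_bot] at this
    exact Subtype.ext this
  have hcard : Nat.card ↥V ≤ 2 * Nat.card ↥(V ⊓ Subgroup.centralizer ({(d : G)} : Set G)) := by
    have h1 := F3_card Hy hBP hS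
    have h2 : Nat.card ↥(B₁.map P.subtype) = Nat.card ↥B₁ :=
      (Nat.card_congr (Subgroup.equivMapOfInjective B₁ P.subtype Subtype.coe_injective).toEquiv).symm
    have h3 : Nat.card ↥(fixV V (B₁.map P.subtype)) ≤ Nat.card ↥(V ⊓ Subgroup.centralizer ({(d : G)} : Set G)) := by
      apply Subgroup.card_le_of_le
      unfold fixV
      apply inf_le_inf_left
      apply Subgroup.centralizer_le
      intro x hx
      rw [Set.mem_singleton_iff] at hx
      rw [hx]
      exact ⟨d, hdB, rfl⟩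
    rw [← h1, h2]
    exact Nat.mul_le_mul hcard2 h3
  exact TR1_tv (hV := hV) (hPV := hPV) d.2 hdV hcard

end Cfsg.Agent.S2981P
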