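import Mathlib
import Cfsg.Prelude.Def_GeometricClasses
import Cfsg.Prelude.Def_ClassicalGeometry
import Cfsg.Agent.Helper21.S5949IRR
import Cfsg.Agent.Helper21.S5949Basic
import Cfsg.Agent.Helper25.S5976ODDLIN

set_option autoImplicit false
set_option linter.style.haveILetI false
open scoped MatrixGroups

/-! S5977 / S5978 pieces EVENDIMS, NOCONJS: generic-index copies of the S5976 pieces EVENDIM (helper3)
and NOCONJ (helper24). -/

namespace Cfsg.Agent.S5977P

open Polynomial

/-- EVENDIMS: generic-index copy of `S5976P.even_finrank_of_invariant` (helper3). -/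
theorem even_finrank_of_invariantS {F : Type*} [Field F] {n : Type} [Fintype n] [DecidableEq n]
    (K : Subalgebra F (Matrix (n) (n) F)) (hK : Cfsg.Geo.IsFieldSubalgebra 2 K)
    (W : Submodule F (n → F)) (hW : ∀ k ∈ K, ∀ w ∈ W, k.mulVec w ∈ W) :
    Even (Module.finrank F W) := by
  classical
  have hfin : Module.finrank F K = 2 := hK.finrank_eq
  haveI : Module.Finite F K := Module.finite_of_finrank_pos (by rw [hfin]; norm_num)
  haveI : Nontrivial K := Module.nontrivial_of_finrank_pos (R := F) (by rw [hfin]; norm_num)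
  -- `K` is a domain
  haveI : NoZeroDivisors K := ⟨by
    intro x y hxy
    by_cases hx : x = 0
    · exact Or.inl hx
    · right
      have hx' : (x : Matrix (n) (n) F) ≠ 0 := fun h => hx (Subtype.ext h)
      obtain ⟨x', hx'K, hxx'⟩ := hK.inv x x.2 hx'
      have hcomm := hK.comm x x.2 x' hx'K
      have h1 : (⟨x', hx'K⟩ : K) * x = 1 := by
        apply Subtype.ext
        show x' * (x : Matrix (n) (n) F) = 1
        rw [← hcomm]; exact hxx'
      calc y = (⟨x', hx'K⟩ : K) * x * y := by rw [h1, one_mul]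
        _ = 0 := by rw [mul_assoc, hxy, mul_zero]⟩
  haveI : IsDomain K := NoZeroDivisors.to_isDomain K
  -- a non-scalar element
  obtain ⟨ι, hι⟩ : ∃ ι : K, ι ∉ (algebraMap F K).range := by
    by_contra hall
    push Not at hall
    have hsurj : Function.Surjective (Algebra.linearMap F K) := fun x => by
      obtain ⟨a, ha⟩ := hall x
      exact ⟨a, ha⟩
    have := LinearMap.finrank_le_finrank_of_surjective hsurj  -- hmm direction
    rw [hfin, Module.finrank_self] at this
    omega
  have hint : IsIntegral F ι := IsIntegral.of_finite F ι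
  set g := minpoly F ι with hg
  have hirr : Irreducible g := minpoly.irreducible hint
  have hmon : g.Monic := minpoly.monic hint
  have hdeg : g.natDegree = 2 := by
    have h1 : 2 ≤ g.natDegree := (minpoly.two_le_natDegree_iff hint).mpr hι
    have h2 : g.natDegree ≤ 2 := by rw [← hfin]; exact minpoly.natDegree_le ι
    omega
  -- `g (toLin' ι) = 0`
  have hgι : aeval (ι : Matrix (n) (n) F) g = 0 := by
    have h1 : aeval ι g = 0 := minpoly.aeval F ι
    have h2 := congrArg K.val h1
    rwa [← aeval_algHom_apply, map_zero] at h2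
  have hgT : aeval (Matrix.toLin' (ι : Matrix (n) (n) F)) g = 0 := by
    have h2 := congrArg (Matrix.toLinAlgEquiv' (R := F) (n := n)) hgι
    rw [← aeval_algHom_apply, map_zero] at h2
    exact h2
  obtain ⟨-, hinv, -, -⟩ := Cfsg.Agent.S5949P.irr_module
    (Matrix.toLin' (ι : Matrix (n) (n) F)) g hirr hmon hgT
  have hWinv : W.map (Matrix.toLin' (ι : Matrix (n) (n) F)) ≤ W := by
    rintro _ ⟨w, hw, rfl⟩
    rw [Matrix.toLin'_apply]
    exact hW ι ι.2 w hw
  have := hinv W hWinv
  rw [hdeg] at this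
  exact even_iff_two_dvd.mpr this


namespace NOCONJS

theorem mainS {F : Type*} [Field F] {n : Type} [Fintype n] [DecidableEq n]
    (K : Subalgebra F (Matrix (n) (n) F))
    (r : ℕ) (x : GL (n) F) (z : F)
    (hodd_lin : ∀ y : GL (n) F, y ∈ Cfsg.Geo.subalgebraNormalizer K →
      ((y ^ r : GL (n) F) : Matrix (n) (n) F) =
        z • (1 : Matrix (n) (n) F) →
      ∀ k ∈ K, (y : Matrix (n) (n) F) * k =
        k * (y : Matrix (n) (n) F))
    (heven : ∀ W : Submodule F (n → F), (∀ k ∈ K, ∀ w ∈ W, k.mulVec w ∈ W) →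
      Even (Module.finrank F W))
    (hxr : ((x ^ r : GL (n) F) : Matrix (n) (n) F) =
      z • (1 : Matrix (n) (n) F))
    (g₁ : F[X]) (hodd : Odd (Module.finrank F (LinearMap.ker (aeval (Matrix.toLin'
      (x : Matrix (n) (n) F)) g₁)))) :
    ¬ ∃ g : GL (n) F, g⁻¹ * x * g ∈ Cfsg.Geo.subalgebraNormalizer K := by
  rintro ⟨g, hg⟩
  obtain ⟨y, hy⟩ : ∃ y : GL (n) F, y = g⁻¹ * x * g := ⟨_, rfl⟩
  rw [← hy] at hg
  -- `y ^ r = z`
  have hyr : ((y ^ r : GL (n) F) : Matrix (n) (n) F) =
      z • (1 : Matrix (n) (n) F) := by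
    have h1 : y ^ r = g⁻¹ * x ^ r * g := by
      have h0 : y = g⁻¹ * x * g⁻¹⁻¹ := by rw [inv_inv]; exact hy
      rw [h0, conj_pow, inv_inv]
    rw [h1, Units.val_mul, Units.val_mul, hxr, Matrix.mul_smul, Matrix.mul_one, Matrix.smul_mul,
      ← Units.val_mul, inv_mul_cancel, Units.val_one]
  have hcomm := hodd_lin y hg hyr
  -- the kernel of `g₁(y)` is `K`-invariant
  have hinv : ∀ k ∈ K, ∀ w ∈ LinearMap.ker (aeval (Matrix.toLin'
      (y : Matrix (n) (n) F)) g₁),
      k.mulVec w ∈ LinearMap.ker (aeval (Matrix.toLin'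
      (y : Matrix (n) (n) F)) g₁) := by
    intro k hk w hw
    rw [LinearMap.mem_ker] at hw ⊢
    have h1 := Cfsg.Agent.S5949P.Basic.aeval_intertwine (Matrix.toLin' k)
      (Matrix.toLin' (y : Matrix (n) (n) F))
      (Matrix.toLin' (y : Matrix (n) (n) F)) (by
        intro v
        rw [Matrix.toLin'_apply, Matrix.toLin'_apply, Matrix.toLin'_apply, Matrix.toLin'_apply,
          Matrix.mulVec_mulVec, Matrix.mulVec_mulVec, hcomm k hk]) g₁ w
    rw [hw, map_zero, Matrix.toLin'_apply] at h1
    exact h1.symm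
  have hev := heven _ hinv
  -- the two kernels have the same dimension
  have hdim : Module.finrank F (LinearMap.ker (aeval (Matrix.toLin'
      (y : Matrix (n) (n) F)) g₁)) =
      Module.finrank F (LinearMap.ker (aeval (Matrix.toLin'
      (x : Matrix (n) (n) F)) g₁)) := by
    have hgx : ∀ v, Matrix.toLin' (g : Matrix (n) (n) F)
        (Matrix.toLin' (y : Matrix (n) (n) F) v) =
        Matrix.toLin' (x : Matrix (n) (n) F)
        (Matrix.toLin' (g : Matrix (n) (n) F) v) := by
      intro v
      rw [Matrix.toLin'_apply, Matrix.toLin'_apply, Matrix.toLin'_apply, Matrix.toLin'_apply,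
        Matrix.mulVec_mulVec, Matrix.mulVec_mulVec, hy, Units.val_mul, Units.val_mul,
        ← mul_assoc, ← mul_assoc, ← Units.val_mul, mul_inv_cancel, Units.val_one, one_mul]
    have hgy : ∀ v, Matrix.toLin' ((g⁻¹ : GL (n) F) :
          Matrix (n) (n) F)
        (Matrix.toLin' (x : Matrix (n) (n) F) v) =
        Matrix.toLin' (y : Matrix (n) (n) F)
        (Matrix.toLin' ((g⁻¹ : GL (n) F) :
          Matrix (n) (n) F) v) := by
      intro v
      rw [Matrix.toLin'_apply, Matrix.toLin'_apply, Matrix.toLin'_apply, Matrix.toLin'_apply,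
        Matrix.mulVec_mulVec, Matrix.mulVec_mulVec, hy, Units.val_mul, Units.val_mul,
        mul_assoc, mul_assoc, ← Units.val_mul g, mul_inv_cancel, Units.val_one, mul_one]
    have hgg : ∀ v, Matrix.toLin' (g : Matrix (n) (n) F)
        (Matrix.toLin' ((g⁻¹ : GL (n) F) :
          Matrix (n) (n) F) v) = v := by
      intro v
      rw [Matrix.toLin'_apply, Matrix.toLin'_apply, Matrix.mulVec_mulVec, ← Units.val_mul,
        mul_inv_cancel, Units.val_one, Matrix.one_mulVec]
    have hgg' : ∀ v, Matrix.toLin' ((g⁻¹ : GL (n) F) :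
          Matrix (n) (n) F)
        (Matrix.toLin' (g : Matrix (n) (n) F) v) = v := by
      intro v
      rw [Matrix.toLin'_apply, Matrix.toLin'_apply, Matrix.mulVec_mulVec, ← Units.val_mul,
        inv_mul_cancel, Units.val_one, Matrix.one_mulVec]
    apply LinearEquiv.finrank_eq
    exact
    { toFun := fun w => ⟨Matrix.toLin' (g : Matrix (n) (n) F) w.1, by
        rw [LinearMap.mem_ker,
          ← Cfsg.Agent.S5949P.Basic.aeval_intertwine _ _ _ hgx g₁ w.1,
          LinearMap.mem_ker.mp w.2, map_zero]⟩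
      map_add' := by
        intro a b
        apply Subtype.ext
        exact map_add (Matrix.toLin' (g : Matrix (n) (n) F)) a.1 b.1
      map_smul' := by
        intro c a
        apply Subtype.ext
        exact map_smul (Matrix.toLin' (g : Matrix (n) (n) F)) c a.1
      invFun := fun w => ⟨Matrix.toLin' ((g⁻¹ : GL (n) F) :
          Matrix (n) (n) F) w.1, by
        rw [LinearMap.mem_ker,
          ← Cfsg.Agent.S5949P.Basic.aeval_intertwine _ _ _ hgy g₁ w.1,
          LinearMap.mem_ker.mp w.2, map_zero]⟩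
      left_inv := by
        intro w
        apply Subtype.ext
        exact hgg' w.1
      right_inv := by
        intro w
        apply Subtype.ext
        exact hgg w.1 }
  rw [hdim] at hev
  exact (Nat.not_even_iff_odd.mpr hodd) hev


end NOCONJS

/-- NOCONJS -/
theorem not_conj_of_odd_kernelS {F : Type*} [Field F] {n : Type} [Fintype n] [DecidableEq n]
    (K : Subalgebra F (Matrix n n F)) (hK : Cfsg.Geo.IsFieldSubalgebra 2 K)
    (r : ℕ) (hr : Odd r) (x : GL n F) (z : F)
    (hxr : ((x ^ r : GL n F) : Matrix n n F) = z • (1 : Matrix n n F))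
    (g₁ : F[X]) (hodd : Odd (Module.finrank F (LinearMap.ker (aeval (Matrix.toLin'
      (x : Matrix n n F)) g₁)))) :
    ¬ ∃ g : GL n F, g⁻¹ * x * g ∈ Cfsg.Geo.subalgebraNormalizer K :=
  NOCONJS.mainS K r x z
    (fun y hy hyr => Cfsg.Agent.S5976P.ODDLIN.commute_generic K hK y hy r hr z hyr)
    (fun W hW => even_finrank_of_invariantS K hK W hW) hxr g₁ hodd

end Cfsg.Agent.S5977P
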