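import Mathlib
import Cfsg.Prelude.Def_GeometricClasses
import Cfsg.Prelude.Def_ClassicalGeometry
import Cfsg.Agent.Helper29.S5977Defs
import Cfsg.Agent.Helper29.S5977Basic
import Cfsg.Agent.Helper29.S5977NOCONJS
import Cfsg.Agent.Helper21.S5977ROOTS
import Cfsg.Agent.Helper21.S5977FRAMES
import Cfsg.Agent.Helper14.S5977DISCS
import Cfsg.Agent.Helper14.S5977STDMODEL
import Cfsg.Agent.Helper24.S5977NORMSQ
import Cfsg.Agent.Helper14.S5977FRAMESCALE

set_option autoImplicit false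
open scoped MatrixGroups

/-! S5977 / S5978: CONJK (helper29): all self-adjoint quadratic field subalgebras are conjugate
under the isometry group. -/

namespace Cfsg.Agent.S5977P

open Polynomial Module BASIC
open Cfsg.Agent.Helper7.OrthUni (gram qf)

namespace CONJK

variable {F : Type*} [Field F] {ι : Type} [Fintype ι] [DecidableEq ι]

/-- the `GL` element of a linear equivalence of `ι → F`. -/
noncomputable def glOf (T : (ι → F) ≃ₗ[F] (ι → F)) : GL ι F :=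
  ⟨LinearMap.toMatrix' T.toLinearMap, LinearMap.toMatrix' T.symm.toLinearMap, by
    rw [← LinearMap.toMatrix'_comp]
    have : T.toLinearMap ∘ₗ T.symm.toLinearMap = LinearMap.id := by
      apply LinearMap.ext; intro v; simp
    rw [this, LinearMap.toMatrix'_id], by
    rw [← LinearMap.toMatrix'_comp]
    have : T.symm.toLinearMap ∘ₗ T.toLinearMap = LinearMap.id := by
      apply LinearMap.ext; intro v; simp
    rw [this, LinearMap.toMatrix'_id]⟩

theorem glOf_mulVec (T : (ι → F) ≃ₗ[F] (ι → F)) (v : ι → F) :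
    ((glOf T : GL ι F) : Matrix ι ι F).mulVec v = T v := by
  show (LinearMap.toMatrix' T.toLinearMap).mulVec v = T v
  rw [LinearMap.toMatrix'_mulVec]
  rfl

theorem matrix_ext_mulVec {A B : Matrix ι ι F} (h : ∀ x, A.mulVec x = B.mulVec x) : A = B := by
  apply Matrix.toLin'.injective
  apply LinearMap.ext
  intro x
  simpa using h x

end CONJK

open CONJK

/-- CONJK -/
theorem exists_conj_of_fields {F : Type*} [Field F] [Fintype F] (h2 : (2 : F) ≠ 0)
    {ι : Type} [Fintype ι] [DecidableEq ι] (Q : QuadraticForm F (ι → F))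
    (hQ : (QuadraticMap.polarBilin Q).Nondegenerate)
    (K K' : Subalgebra F (Matrix ι ι F)) (hK : Cfsg.Geo.IsFieldSubalgebra 2 K)
    (hK' : Cfsg.Geo.IsFieldSubalgebra 2 K')
    (hsa : Cfsg.Geo.IsSelfAdjointFor (QuadraticMap.polar ⇑Q) K)
    (hsa' : Cfsg.Geo.IsSelfAdjointFor (QuadraticMap.polar ⇑Q) K') :
    ∃ g : ↥(Cfsg.isometryGroup F ⇑Q), ∀ k : Matrix ι ι F,
      k ∈ K ↔ ((g : GL ι F) : Matrix ι ι F) * k * (((g : GL ι F)⁻¹ : GL ι F) : Matrix ι ι F) ∈ K' := by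
  classical
  -- the dimension is even and positive
  obtain ⟨d, hd⟩ : Even (Fintype.card ι) := by
    have := even_finrank_of_invariantS K hK ⊤ (fun _ _ _ _ => Submodule.mem_top)
    rwa [finrank_top, Module.finrank_fintype_fun_eq_card] at this
  have hcard : Fintype.card ι = 2 * d := by rw [hd]; ring
  have hd1 : 1 ≤ d := by
    by_contra h0
    have hd0 : d = 0 := by omega
    rw [hd0] at hcard
    haveI : IsEmpty ι := Fintype.card_eq_zero_iff.mp hcard
    have h1 := hK.finrank_eq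
    haveI : Subsingleton K := ⟨fun a b => Subtype.ext (Subsingleton.elim _ _)⟩
    rw [Module.finrank_zero_of_subsingleton] at h1
    omega
  obtain ⟨ν, hν⟩ : ∃ ν : F, ¬ IsSquare ν := by
    apply FiniteField.exists_nonsquare
    intro h
    apply h2
    have := ringChar.Nat.cast_ringChar (R := F)
    rw [h] at this
    exact_mod_cast this
  have hν0 : ν ≠ 0 := by
    rintro rfl
    exact hν ⟨0, by ring⟩
  obtain ⟨J, hJ⟩ := exists_genS h2 (⇑Q) K ⟨hK, hsa⟩ ν hν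
  obtain ⟨J', hJ'⟩ := exists_genS h2 (⇑Q) K' ⟨hK', hsa'⟩ ν hν
  obtain ⟨e, δ0, δ1, he⟩ := exists_frameS h2 Q hQ ν hν J hJ.sq hJ.adj d hd1 hcard
  obtain ⟨e', η0, η1, he'⟩ := exists_frameS h2 Q hQ ν hν J' hJ'.sq hJ'.adj d hd1 hcard
  obtain ⟨t, ht0, ht⟩ := disc_of_frame h2 Q ν J hJ.sq hJ.adj d e _ _ he
  obtain ⟨t', ht'0, ht'⟩ := disc_of_frame h2 Q ν J' hJ'.sq hJ'.adj d e' _ _ he'
  -- the product over a normalised frame
  have hprod : ∀ γ0 γ1 : F, ∏ a : Fin d, (16 * ν * ((if a.val + 1 = d then γ0 else 1) ^ 2 -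
      ν * (if a.val + 1 = d then γ1 else 0) ^ 2)) = (16 * ν) ^ d * (γ0 ^ 2 - ν * γ1 ^ 2) := by
    intro γ0 γ1
    rw [Finset.prod_mul_distrib, Finset.prod_const, Finset.card_univ, Fintype.card_fin]
    congr 1
    have hlast : (⟨d - 1, by omega⟩ : Fin d) ∈ (Finset.univ : Finset (Fin d)) := Finset.mem_univ _
    rw [← Finset.mul_prod_erase _ _ hlast]
    have h1 : ∏ a ∈ (Finset.univ : Finset (Fin d)).erase ⟨d - 1, by omega⟩,
        ((if a.val + 1 = d then γ0 else 1) ^ 2 - ν * (if a.val + 1 = d then γ1 else 0) ^ 2) = 1 := by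
      apply Finset.prod_eq_one
      intro a ha
      have hne : a.val + 1 ≠ d := by
        intro h
        apply (Finset.mem_erase.mp ha).1
        apply Fin.ext
        show a.val = d - 1
        omega
      rw [if_neg hne, if_neg hne]
      ring
    rw [h1, mul_one, if_pos (show (d - 1) + 1 = d by omega), if_pos (show (d - 1) + 1 = d by omega)]
  rw [hprod] at ht ht'
  obtain ⟨D, hD⟩ : ∃ D : F, D = (gram Q).det := ⟨_, rfl⟩
  rw [← hD] at ht ht'
  have hD0 : D ≠ 0 := by rw [hD]; exact (Cfsg.Agent.Helper7.OrthUni.nondeg_iff_det Q).mp hQ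
  have hu : (16 * ν : F) ^ d ≠ 0 := by
    apply pow_ne_zero
    have : (16 : F) = 2 ^ 4 := by norm_num
    rw [this]
    exact mul_ne_zero (pow_ne_zero _ h2) hν0
  obtain ⟨u, hu'⟩ : ∃ u : F, u = (16 * ν) ^ d := ⟨_, rfl⟩
  rw [← hu'] at ht ht' hu
  have hNδ : δ0 ^ 2 - ν * δ1 ^ 2 ≠ 0 := by
    intro h
    rw [h, mul_zero] at ht
    exact mul_ne_zero hD0 (pow_ne_zero 2 ht0) ht
  have hNη : η0 ^ 2 - ν * η1 ^ 2 ≠ 0 := by
    intro h
    rw [h, mul_zero] at ht'
    exact mul_ne_zero hD0 (pow_ne_zero 2 ht'0) ht'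
  obtain ⟨N', hN'⟩ : ∃ N' : F, N' = η0 ^ 2 - ν * η1 ^ 2 := ⟨_, rfl⟩
  rw [← hN'] at hNη ht'
  -- the quotient `δ / η`
  obtain ⟨a, ha⟩ : ∃ a : F, a = (δ0 * η0 - ν * δ1 * η1) / N' := ⟨_, rfl⟩
  obtain ⟨b, hb⟩ : ∃ b : F, b = (δ1 * η0 - δ0 * η1) / N' := ⟨_, rfl⟩
  have hab : a ^ 2 - ν * b ^ 2 = (t / t') ^ 2 := by
    have h1 : a ^ 2 - ν * b ^ 2 = (δ0 ^ 2 - ν * δ1 ^ 2) / N' := by
      rw [ha, hb]
      field_simp
      rw [hN']
      ring
    have h3 : (δ0 ^ 2 - ν * δ1 ^ 2) = D * t ^ 2 / u := by rw [ht]; field_simp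
    have h4 : N' = D * t' ^ 2 / u := by rw [ht']; field_simp
    rw [h1, h3]
    rw [h4]
    field_simp
  obtain ⟨x, y, hxy1, hxy2⟩ := exists_sqrt_of_norm_sq h2 ν hν a b (t / t')
    (div_ne_zero ht0 ht'0) hab
  have hxyN : x ^ 2 - ν * y ^ 2 ≠ 0 := by
    intro h
    have h1 : (x ^ 2 - ν * y ^ 2) ^ 2 = a ^ 2 - ν * b ^ 2 := by
      rw [← hxy1, ← hxy2]; ring
    rw [h, hab] at h1
    exact pow_ne_zero 2 (div_ne_zero ht0 ht'0) (by rw [← h1]; ring)
  have he'' := frame_scale_last h2 Q ν J' hJ'.sq hJ'.adj d e' η0 η1 he' x y hxyN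
  have hv0 : η0 * (x ^ 2 + ν * y ^ 2) + 2 * ν * η1 * x * y = δ0 := by
    have : 2 * ν * η1 * x * y = ν * η1 * (2 * x * y) := by ring
    rw [this, hxy1, hxy2, ha, hb]
    field_simp
    rw [hN']
    ring
  have hv1 : η1 * (x ^ 2 + ν * y ^ 2) + 2 * η0 * x * y = δ1 := by
    have : 2 * η0 * x * y = η0 * (2 * x * y) := by ring
    rw [this, hxy1, hxy2, ha, hb]
    field_simp
    rw [hN']
    ring
  rw [hv0, hv1] at he''
  obtain ⟨φ, hφQ, hφJ, -⟩ := exists_std_equiv h2 Q ν J hJ.sq hJ.adj d e _ _ he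
  obtain ⟨φ', hφ'Q, hφ'J, -⟩ := exists_std_equiv h2 Q ν J' hJ'.sq hJ'.adj d _ _ _ he''
  -- the isometry
  obtain ⟨T, hT⟩ : ∃ T : (ι → F) ≃ₗ[F] (ι → F), T = φ.symm.trans φ' := ⟨_, rfl⟩
  have hTQ : ∀ v, Q (T v) = Q v := by
    intro v
    rw [hT, LinearEquiv.trans_apply, hφ'Q, ← hφQ, LinearEquiv.apply_symm_apply]
  have hTJ : ∀ v, T (J.mulVec v) = J'.mulVec (T v) := by
    intro v
    obtain ⟨w, rfl⟩ := φ.surjective v
    rw [hT, LinearEquiv.trans_apply, LinearEquiv.trans_apply, hφJ, LinearEquiv.symm_apply_apply,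
      LinearEquiv.symm_apply_apply, hφ'J]
  have hgO : glOf T ∈ Cfsg.isometryGroup F ⇑Q := by
    rw [Cfsg.Agent.Helper28.IsoTransport.mem_isometryGroup_iff]
    intro v
    rw [glOf_mulVec, hTQ]
  have hgJ : ((glOf T : GL ι F) : Matrix ι ι F) * J = J' * ((glOf T : GL ι F) : Matrix ι ι F) := by
    apply matrix_ext_mulVec
    intro v
    rw [← Matrix.mulVec_mulVec, ← Matrix.mulVec_mulVec, glOf_mulVec, glOf_mulVec, hTJ]
  have h1 : ((glOf T : GL ι F) : Matrix ι ι F) * J * (((glOf T)⁻¹ : GL ι F) : Matrix ι ι F) = J' := by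
    rw [hgJ, Matrix.mul_assoc, coe_mul_inv, Matrix.mul_one]
  have h1' : (((glOf T)⁻¹ : GL ι F) : Matrix ι ι F) * J' * ((glOf T : GL ι F) : Matrix ι ι F) = J := by
    rw [Matrix.mul_assoc, ← hgJ, ← Matrix.mul_assoc, coe_inv_mul, Matrix.one_mul]
  refine ⟨⟨glOf T, hgO⟩, ?_⟩
  intro k
  show k ∈ K ↔ ((glOf T : GL ι F) : Matrix ι ι F) * k *
    (((glOf T)⁻¹ : GL ι F) : Matrix ι ι F) ∈ K'
  constructor
  · intro hk
    obtain ⟨α, β, rfl⟩ := hJ.span k hk
    have : ((glOf T : GL ι F) : Matrix ι ι F) * (α • (1 : Matrix ι ι F) + β • J) *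
        (((glOf T)⁻¹ : GL ι F) : Matrix ι ι F) = α • (1 : Matrix ι ι F) + β • J' := by
      rw [Matrix.mul_add, Matrix.add_mul, Matrix.mul_smul, Matrix.smul_mul, Matrix.mul_one,
        coe_mul_inv, Matrix.mul_smul, Matrix.smul_mul, h1]
    rw [this]
    exact K'.add_mem (K'.smul_mem K'.one_mem α) (K'.smul_mem hJ'.mem β)
  · intro hk
    obtain ⟨α, β, hαβ⟩ := hJ'.span _ hk
    have : k = α • (1 : Matrix ι ι F) + β • J := by
      have h3 : k = (((glOf T)⁻¹ : GL ι F) : Matrix ι ι F) *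
          (((glOf T : GL ι F) : Matrix ι ι F) * k * (((glOf T)⁻¹ : GL ι F) : Matrix ι ι F)) *
          ((glOf T : GL ι F) : Matrix ι ι F) := by
        simp only [Matrix.mul_assoc]
        rw [coe_inv_mul, Matrix.mul_one, ← Matrix.mul_assoc, coe_inv_mul, Matrix.one_mul]
      rw [h3, hαβ, Matrix.mul_add, Matrix.add_mul, Matrix.mul_smul, Matrix.smul_mul, Matrix.mul_one,
        coe_inv_mul, Matrix.mul_smul, Matrix.smul_mul, h1']
    rw [this]
    exact K.add_mem (K.smul_mem K.one_mem α) (K.smul_mem hJ.mem β)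

end Cfsg.Agent.S5977P
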