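import Mathlib
import Cfsg.Agent.Helper2.ElusC
import Cfsg.Agent.Helper2.SpCard
import Cfsg.Agent.Helper29.S5976Defs

set_option autoImplicit false
open scoped MatrixGroups

namespace Cfsg.Agent.S5976P

/-- CARDSP -/
theorem card_spGL {F : Type*} [Field F] [Fintype F] (d : ℕ) :
    Nat.card ↥(Cfsg.spGL d F) =
      Fintype.card F ^ (d ^ 2) * ∏ m ∈ Finset.range d, (Fintype.card F ^ (2 * (m + 1)) - 1) := by
  rw [Cfsg.Agent.Helper2.Elus.card_spGL, Cfsg.Agent.Helper2.Sp.card_symplectic_fin]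

end Cfsg.Agent.S5976P
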