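import Mathlib
import Cfsg.Agent.Helper23.CMDefs
import Cfsg.Agent.Helper24.Abelian
set_option autoImplicit false
namespace Cfsg.Agent.Helper23.CM
open Cfsg Cfsg.Agent.Helper24
universe u
variable {G : Type u} [Group G] [Finite G]

/-- BW3d -/
theorem not_mem_of_coprimePP (p : ℕ) [Fact p.Prime] (P : Sylow p G)
    (hPn : (P : Subgroup G).Normal) (hab : commutator G ≤ (P : Subgroup G)) (x y : G)
    (hx : x ≠ 1) (hy : y ≠ 1) (hxy : CoprimePP x y) :
    (x ∉ (P : Subgroup G) ∨ y ∉ (P : Subgroup G)) ∧ x * y ∉ (P : Subgroup G) := by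
  obtain ⟨p', q, a, b, hp', hq, hpq, hox, hoy⟩ := hxy
  -- an element of `P` of order `r ^ c`, `r` prime, nontrivial, forces `r = p`
  have key : ∀ (z : G) (r c : ℕ), r.Prime → z ≠ 1 → orderOf z = r ^ c → z ∈ (P : Subgroup G) →
      r = p := by
    intro z r c hr hz hoz hzP
    obtain ⟨k, hk⟩ := P.isPGroup' ⟨z, hzP⟩
    have hk' : z ^ p ^ k = 1 := by
      have := congrArg Subtype.val hk
      simpa using this
    have hdvd : r ^ c ∣ p ^ k := by
      rw [← hoz]; exact orderOf_dvd_of_pow_eq_one hk'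
    have hc : c ≠ 0 := by
      intro hc
      rw [hc, pow_zero, orderOf_eq_one_iff] at hoz
      exact hz hoz
    have hrdvd : r ∣ p ^ k := (dvd_pow_self r hc).trans hdvd
    have := (Nat.prime_dvd_prime_iff_eq hr (Fact.out : p.Prime)).mp (hr.dvd_of_dvd_pow hrdvd)
    exact this
  have part1 : x ∉ (P : Subgroup G) ∨ y ∉ (P : Subgroup G) := by
    by_contra hcon
    push Not at hcon
    have h1 := key x p' a hp' hx hox hcon.1
    have h2 := key y q b hq hy hoy hcon.2
    exact hpq (h1.trans h2.symm)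
  refine ⟨part1, ?_⟩
  intro hxyP
  haveI := hPn
  let π : G →* G ⧸ (P : Subgroup G) := QuotientGroup.mk' _
  have h1 : π x * π y = 1 := by
    rw [← map_mul]
    exact (QuotientGroup.eq_one_iff _).mpr hxyP
  have h2 : π x = (π y)⁻¹ := eq_inv_of_mul_eq_one_left h1
  have hd1 : orderOf (π x) ∣ p' ^ a := hox ▸ orderOf_map_dvd π x
  have hd2 : orderOf (π x) ∣ q ^ b := by
    rw [h2, orderOf_inv]
    exact hoy ▸ orderOf_map_dvd π y
  have hcop : Nat.Coprime (p' ^ a) (q ^ b) :=
    Nat.Coprime.pow _ _ ((Nat.coprime_primes hp' hq).mpr hpq)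
  have h3 : orderOf (π x) = 1 := Nat.eq_one_of_dvd_coprimes hcop hd1 hd2
  rw [orderOf_eq_one_iff] at h3
  have hxP : x ∈ (P : Subgroup G) := (QuotientGroup.eq_one_iff _).mp h3
  have hyP : y ∈ (P : Subgroup G) := by
    have : π y = 1 := by rw [h3] at h1; simpa using h1
    exact (QuotientGroup.eq_one_iff _).mp this
  rcases part1 with h | h
  · exact h hxP
  · exact h hyP

end Cfsg.Agent.Helper23.CM
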