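import Mathlib
import Cfsg.Agent.Helper29.GalConjC
import Cfsg.Agent.Helper24.FaithfulPGroup
import Cfsg.Agent.Helper24.LinUnits
import Cfsg.Agent.Helper8.CliffordAb
import Cfsg.Agent.Helper29.TwoDegB

/-!
S4845, forward direction: the induction.
-/

set_option autoImplicit false

namespace Cfsg.Agent.Helper29.GalConj

open Cfsg Cfsg.Agent.Helper24
open scoped commutatorElement

universe u

section Step1

variable {P : Type u} [Group P] [Finite P]

/-- Under `SameKer`, the kernel of a nonlinear irreducible character lies in the derived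
subgroup. -/
theorem SameKer.irrKer_le_commutator (h : SameKer P) (χ : IrrCharacter P) (hχ : irrDeg χ ≠ 1) :
    irrKer χ ≤ commutator P := by
  haveI : Fintype P := Fintype.ofFinite P
  intro g hg
  by_contra hgc
  have hne : (QuotientGroup.mk g : P ⧸ commutator P) ≠ 1 := by
    intro h1
    exact hgc ((QuotientGroup.eq_one_iff g).mp h1)
  obtain ⟨lam', hlam'⟩ := exists_irr_ne _ hne
  obtain ⟨lam, hlam⟩ : ∃ lam : IrrCharacter P, lam = irrInflate (commutator P) lam' := ⟨_, rfl⟩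
  have hlin : irrDeg lam = 1 := by
    rw [hlam]
    exact (irrDeg_eq_one_iff_commutator_le _).mpr (le_irrKer_irrInflate _ lam')
  have hlam1 : (lam : P → ℂ) 1 = 1 := (irrDeg_eq_one_iff lam).mp hlin
  obtain ⟨φ, hφ⟩ : ∃ φ : P →* ℂˣ, φ = linUnits (IsIrrCharacter.isCharacter lam.2) hlam1 := ⟨_, rfl⟩
  have hφa : ∀ x : P, ((φ x : ℂˣ) : ℂ) = (lam : P → ℂ) x := by
    intro x; rw [hφ]; exact linUnits_apply _ _ x
  obtain ⟨ψ, hψ⟩ : ∃ ψ : IrrCharacter P, ψ = ⟨fun x => ((φ x : ℂˣ) : ℂ) * (χ : P → ℂ) x,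
      Helper8.isIrrCharacter_linear_mul φ χ.2⟩ := ⟨_, rfl⟩
  have hψa : ∀ x : P, (ψ : P → ℂ) x = (lam : P → ℂ) x * (χ : P → ℂ) x := by
    intro x; rw [hψ, ← hφa x]
  have hdeg : irrDeg χ = irrDeg ψ := by
    have h1 := irrDeg_spec ψ
    rw [hψa 1, hlam1, one_mul, irrDeg_spec χ] at h1
    exact_mod_cast h1
  have hker := h χ ψ hχ hdeg
  have hgχ : (χ : P → ℂ) g = (χ : P → ℂ) 1 := (mem_irrKer χ g).mp hg
  rw [hker, mem_irrKer, hψa g, hψa 1, hlam1, one_mul, hgχ] at hg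
  have hχ1 : (χ : P → ℂ) 1 ≠ 0 := by
    rw [irrDeg_spec]
    exact_mod_cast (irrDeg_pos χ).ne'
  have h2 : (lam : P → ℂ) g = 1 := by
    have : ((lam : P → ℂ) g - 1) * (χ : P → ℂ) 1 = 0 := by rw [sub_mul, one_mul, hg, sub_self]
    rcases mul_eq_zero.mp this with h3 | h3
    · exact sub_eq_zero.mp h3
    · exact absurd h3 hχ1
  apply hlam'
  have h3 : (lam : P → ℂ) g = (lam' : P ⧸ commutator P → ℂ) (QuotientGroup.mk g) := by
    rw [hlam]; rfl
  have h4 : (lam : P → ℂ) 1 = (lam' : P ⧸ commutator P → ℂ) 1 := by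
    rw [hlam]; rfl
  rw [← h3, ← h4, h2, hlam1]

end Step1

section PGroup

variable {H : Type u} [Group H] [Finite H]

/-- In a finite `p`-group, a normal subgroup of order `p` is central. -/
theorem le_center_of_card_prime {p : ℕ} [hp : Fact p.Prime] (hH : IsPGroup p H)
    (K : Subgroup H) [K.Normal] (hK : Nat.card K = p) : K ≤ Subgroup.center H := by
  have hne : K ≠ ⊥ := by
    intro h
    rw [h, Subgroup.card_bot] at hK
    exact hp.out.one_lt.ne hK
  obtain ⟨z, hzK, hz1, hzZ⟩ := Helper10.exists_ne_one_mem_inf_center hH K hne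
  rw [← zpowers_eq_of_card_prime hp.out K hK z hzK hz1, Subgroup.zpowers_le]
  exact hzZ

theorem map_mk_commutator (N : Subgroup H) [N.Normal] :
    (commutator H).map (QuotientGroup.mk' N) = commutator (H ⧸ N) := by
  rw [commutator_def, commutator_def, Subgroup.map_commutator]
  have htop : (⊤ : Subgroup H).map (QuotientGroup.mk' N) = ⊤ := by
    rw [← MonoidHom.range_eq_map, MonoidHom.range_eq_top]
    exact QuotientGroup.mk'_surjective N
  rw [htop]

theorem commutator_le_of_quotient_le_bot (N : Subgroup H) [N.Normal]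
    (h : commutator (H ⧸ N) ≤ ⊥) : commutator H ≤ N := by
  intro x hx
  have h1 := Subgroup.mem_map_of_mem (QuotientGroup.mk' N) hx
  rw [map_mk_commutator] at h1
  have h2 := h h1
  rw [Subgroup.mem_bot] at h2
  exact (QuotientGroup.eq_one_iff x).mp h2

end PGroup

section CaseA

variable {P : Type u} [Group P] [Finite P] {p : ℕ} {N : Subgroup P} {t : P}

theorem CenQuot.quot_numerics [hp : Fact p.Prime] [N.Normal] (h : CenQuot p N t)
    (hP : IsPGroup p P)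
    (hcH : commutator (P ⧸ N) ≤ Subgroup.center (P ⧸ N))
    (hcard : Nat.card (commutator (P ⧸ N)) = p)
    (θ : IrrCharacter (P ⧸ N)) (hθ : irrDeg θ ≠ 1) {n a ε : ℕ} (hn : Nat.card P = p ^ n)
    (ha : Nat.card (Subgroup.center P) = p ^ a) (hε : irrDeg θ = p ^ ε) :
    ∃ b : ℕ, ε * 2 + b = n ∧ a ≤ b ∧ b ≤ a + 1 := by
  have hp1 : 1 < p := hp.out.one_lt
  obtain ⟨b, hb⟩ := exists_card_pow hP (zTwo N)
  refine ⟨b, ?_, ?_, ?_⟩
  · have h1 := irrDeg_sq_mul_card_center_of_prime hp.out hcH hcard θ hθ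
    have h2 : Nat.card (zTwo N) = Nat.card (Subgroup.center (P ⧸ N)) * Nat.card N :=
      Cfsg.Agent.Helper1.PrimeGraph.card_comap_mk N _
    have h3 := Subgroup.card_eq_card_quotient_mul_card_subgroup N
    have h4 : irrDeg θ ^ 2 * Nat.card (zTwo N) = Nat.card P := by
      rw [h2, ← mul_assoc, h1, h3]
    rw [hε, hb, hn, ← pow_mul, ← pow_add] at h4
    exact Nat.pow_right_injective hp1 h4
  · have := Subgroup.card_le_of_le (center_le_zTwo (N := N))
    rw [ha, hb] at this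
    exact (Nat.pow_le_pow_iff_right hp1).mp this
  · have := h.card_zTwo_le hp.out.pos
    rw [ha, hb, ← pow_succ'] at this
    exact (Nat.pow_le_pow_iff_right hp1).mp this

/-- Two distinct central subgroups of order `p` inside a derived subgroup of order `p²` are
incompatible with `SameKer`. -/
theorem caseA_false [hp : Fact p.Prime] (hP : IsPGroup p P) (hS : SameKer P)
    (N₁ N₂ : Subgroup P) [N₁.Normal] [N₂.Normal]
    (h₁ : N₁ ≤ Subgroup.center P) (h₂ : N₂ ≤ Subgroup.center P)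
    (hc₁ : Nat.card N₁ = p) (hc₂ : Nat.card N₂ = p) (hne : N₁ ≠ N₂)
    (hle₁ : N₁ ≤ commutator P) (hle₂ : N₂ ≤ commutator P)
    (hcP : Nat.card (commutator P) = p ^ 2)
    (hcyc₁ : IsCyclic (Subgroup.center (P ⧸ N₁))) (hcyc₂ : IsCyclic (Subgroup.center (P ⧸ N₂)))
    (hq₁ : Nat.card (commutator (P ⧸ N₁)) = p) (hq₂ : Nat.card (commutator (P ⧸ N₂)) = p) :
    False := by
  haveI : Fintype P := Fintype.ofFinite P
  have hp1 : 1 < p := hp.out.one_lt
  obtain ⟨n, hn⟩ := IsPGroup.iff_card.mp hP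
  obtain ⟨a, ha⟩ := exists_card_pow hP (Subgroup.center P)
  have hPq₁ : IsPGroup p (P ⧸ N₁) := hP.to_quotient N₁
  have hPq₂ : IsPGroup p (P ⧸ N₂) := hP.to_quotient N₂
  have hcH₁ := le_center_of_card_prime hPq₁ (commutator (P ⧸ N₁)) hq₁
  have hcH₂ := le_center_of_card_prime hPq₂ (commutator (P ⧸ N₂)) hq₂
  have hna₁ : ¬ commutator (P ⧸ N₁) ≤ ⊥ := by
    intro h
    rw [le_bot_iff.mp h, Subgroup.card_bot] at hq₁
    exact hp1.ne hq₁
  have hna₂ : ¬ commutator (P ⧸ N₂) ≤ ⊥ := by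
    intro h
    rw [le_bot_iff.mp h, Subgroup.card_bot] at hq₂
    exact hp1.ne hq₂
  haveI : Fintype (P ⧸ N₁) := Fintype.ofFinite _
  haveI : Fintype (P ⧸ N₂) := Fintype.ofFinite _
  obtain ⟨θ₁, hθ₁⟩ := TwoDeg.exists_nonlinear hna₁
  obtain ⟨θ₂, hθ₂⟩ := TwoDeg.exists_nonlinear hna₂
  obtain ⟨t₁, ht₁⟩ := exists_cenQuot p N₁ h₁ hc₁ hcyc₁
  obtain ⟨t₂, ht₂⟩ := exists_cenQuot p N₂ h₂ hc₂ hcyc₂
  obtain ⟨ε₁, hε₁⟩ := exists_irrDeg_pow hPq₁ θ₁
  obtain ⟨ε₂, hε₂⟩ := exists_irrDeg_pow hPq₂ θ₂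
  obtain ⟨b₁, e₁, l₁, u₁⟩ := ht₁.quot_numerics hP hcH₁ hq₁ θ₁ hθ₁ hn ha hε₁
  obtain ⟨b₂, e₂, l₂, u₂⟩ := ht₂.quot_numerics hP hcH₂ hq₂ θ₂ hθ₂ hn ha hε₂
  have hεε : ε₁ = ε₂ := by omega
  have hker := hS (irrInflate N₁ θ₁) (irrInflate N₂ θ₂) (by rwa [irrDeg_irrInflate])
    (by rw [irrDeg_irrInflate, irrDeg_irrInflate, hε₁, hε₂, hεε])
  have hN₁ : N₁ ≤ irrKer (irrInflate N₁ θ₁) := le_irrKer_irrInflate N₁ θ₁
  have hN₂ : N₂ ≤ irrKer (irrInflate N₁ θ₁) := by
    rw [hker]; exact le_irrKer_irrInflate N₂ θ₂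
  have hsup : N₁ ⊔ N₂ = commutator P := by
    apply Subgroup.eq_of_le_of_card_ge (sup_le hle₁ hle₂)
    have hdvd : Nat.card (N₁ ⊔ N₂ : Subgroup P) ∣ p ^ 2 := by
      rw [← hcP]; exact Subgroup.card_dvd_of_le (sup_le hle₁ hle₂)
    obtain ⟨k, hk2, hk⟩ := (Nat.dvd_prime_pow hp.out).mp hdvd
    have hlt : p < Nat.card (N₁ ⊔ N₂ : Subgroup P) := by
      have hle : N₁ ≤ N₁ ⊔ N₂ := le_sup_left
      have h3 := Subgroup.card_le_of_le hle
      rw [hc₁] at h3
      rcases h3.lt_or_eq with h4 | h4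
      · exact h4
      · exfalso
        have h5 : N₁ = N₁ ⊔ N₂ := Subgroup.eq_of_le_of_card_ge hle (by rw [hc₁, ← h4])
        have h6 : N₂ ≤ N₁ := by rw [h5]; exact le_sup_right
        exact hne (Subgroup.eq_of_le_of_card_ge h6 (by rw [hc₁, hc₂])).symm
    rw [hcP, hk]
    rw [hk] at hlt
    have : 1 < k := by
      by_contra hk1
      push Not at hk1
      have := Nat.pow_le_pow_right hp.out.pos hk1
      rw [pow_one] at this
      omega
    exact Nat.pow_le_pow_right hp.out.pos (by omega)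
  have hcomm : commutator P ≤ irrKer (irrInflate N₁ θ₁) := by
    rw [← hsup]; exact sup_le hN₁ hN₂
  have := (irrDeg_eq_one_iff_commutator_le _).mpr hcomm
  rw [irrDeg_irrInflate] at this
  exact hθ₁ this

/-- A unique central subgroup of order `p` inside a derived subgroup of order `p²` is incompatible
with `SameKer`. -/
theorem caseB_false [hp : Fact p.Prime] (hP : IsPGroup p P) (hS : SameKer P)
    (N : Subgroup P) [N.Normal] (hN : N ≤ Subgroup.center P) (hNp : Nat.card N = p)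
    (hU : ∀ c ∈ Subgroup.center P, c ≠ 1 → N ≤ Subgroup.zpowers c)
    (hcP : Nat.card (commutator P) = p ^ 2)
    (hcyc : IsCyclic (Subgroup.center (P ⧸ N)))
    (hq : Nat.card (commutator (P ⧸ N)) = p) : False := by
  haveI : Fintype P := Fintype.ofFinite P
  have hp1 : 1 < p := hp.out.one_lt
  have hNne : N ≠ ⊥ := by
    intro h
    rw [h, Subgroup.card_bot] at hNp
    exact hp1.ne hNp
  obtain ⟨⟨z₀, hz₀N⟩, hz₀⟩ := (Subgroup.ne_bot_iff_exists_ne_one).mp hNne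
  have hz₀1 : z₀ ≠ 1 := fun h => hz₀ (Subtype.ext h)
  obtain ⟨χ, hχ⟩ := exists_irr_ne z₀ hz₀1
  have hNK : ∀ c ∈ Subgroup.center P, c ≠ 1 → (χ : P → ℂ) c ≠ (χ : P → ℂ) 1 := by
    intro c hc hc1 heq
    have h1 : c ∈ irrKer χ := (mem_irrKer χ c).mpr heq
    have h2 : Subgroup.zpowers c ≤ irrKer χ := Subgroup.zpowers_le.mpr h1
    exact hχ ((mem_irrKer χ z₀).mp (h2 (hU c hc hc1 hz₀N)))
  have hPq : IsPGroup p (P ⧸ N) := hP.to_quotient N
  have hcH := le_center_of_card_prime hPq (commutator (P ⧸ N)) hq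
  have hna : ¬ commutator (P ⧸ N) ≤ ⊥ := by
    intro h
    rw [le_bot_iff.mp h, Subgroup.card_bot] at hq
    exact hp1.ne hq
  haveI : Fintype (P ⧸ N) := Fintype.ofFinite _
  obtain ⟨θ, hθ⟩ := TwoDeg.exists_nonlinear hna
  obtain ⟨t, ht⟩ := exists_cenQuot p N hN hNp hcyc
  have hdeg := ht.deg_eq hP hcH hq hcP χ hNK θ hθ
  have hker := hS (irrInflate N θ) χ (by rwa [irrDeg_irrInflate])
    (by rw [irrDeg_irrInflate, hdeg])
  have h3 : z₀ ∈ irrKer χ := by
    rw [← hker]; exact le_irrKer_irrInflate N θ hz₀N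
  exact hχ ((mem_irrKer χ z₀).mp h3)

end CaseA

end Cfsg.Agent.Helper29.GalConj
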