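import Mathlib
import Cfsg.Agent.Helper29.GalConjD

/-!
S4845, forward direction: main induction.
-/

set_option autoImplicit false

namespace Cfsg.Agent.Helper29.GalConj

open Cfsg Cfsg.Agent.Helper24
open scoped commutatorElement

universe u

section Main

variable {P : Type u} [Group P] [Finite P] {p : ℕ}

theorem normal_of_le_center (N : Subgroup P) (h : N ≤ Subgroup.center P) : N.Normal := by
  constructor
  intro n hn g
  have : g * n * g⁻¹ = n := by
    rw [(Subgroup.mem_center_iff.mp (h hn) g), mul_inv_cancel_right]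
  rw [this]; exact hn

theorem lemX [hp : Fact p.Prime] (hna : ¬ commutator P ≤ ⊥)
    (hq : ∀ (N : Subgroup P) [N.Normal], N ≠ ⊥ → ¬ commutator P ≤ N →
      IsCyclic (Subgroup.center (P ⧸ N)) ∧ Nat.card (commutator (P ⧸ N)) = p)
    (hne : Nat.card (commutator P) ≠ p) (N : Subgroup P) [N.Normal] (hNp : Nat.card N = p) :
    N ≤ commutator P ∧ Nat.card (commutator P) = p ^ 2 ∧
      IsCyclic (Subgroup.center (P ⧸ N)) ∧ Nat.card (commutator (P ⧸ N)) = p := by
  have hp1 : 1 < p := hp.out.one_lt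
  have hNne : N ≠ ⊥ := by
    intro h
    rw [h, Subgroup.card_bot] at hNp
    exact hp1.ne hNp
  have hnot : ¬ commutator P ≤ N := by
    intro hle
    have h1 := Subgroup.card_dvd_of_le hle
    rw [hNp] at h1
    rcases (Nat.dvd_prime hp.out).mp h1 with h2 | h2
    · apply hna
      rw [Subgroup.card_eq_one.mp h2]
    · exact hne h2
  obtain ⟨hcyc, hcard⟩ := hq N hNne hnot
  rcases le_or_inf_eq_bot_of_card_prime hp.out N (commutator P) hNp with hle | hbot
  · refine ⟨hle, ?_, hcyc, hcard⟩
    have := Cfsg.Agent.Helper1.PrimeGraph.card_map_mk_mul N (commutator P) hle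
    rw [map_mk_commutator, hcard, hNp] at this
    rw [← this, sq]
  · exfalso
    apply hne
    obtain ⟨f, hf⟩ : ∃ f : commutator P →* P ⧸ N,
        f = (QuotientGroup.mk' N).comp (commutator P).subtype := ⟨_, rfl⟩
    have hinj : Function.Injective f := by
      rw [injective_iff_map_eq_one]
      intro x hx
      rw [hf, MonoidHom.comp_apply, Subgroup.coe_subtype, QuotientGroup.mk'_apply,
        QuotientGroup.eq_one_iff] at hx
      have : (x : P) ∈ N ⊓ commutator P := ⟨hx, x.2⟩
      rw [hbot, Subgroup.mem_bot] at this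
      exact Subtype.ext this
    have hrange : f.range = commutator (P ⧸ N) := by
      rw [hf, MonoidHom.range_comp, Subgroup.range_subtype, map_mk_commutator]
    have h1 : Nat.card (commutator P) = Nat.card f.range :=
      Nat.card_congr (MonoidHom.ofInjective hinj).toEquiv
    rw [h1, hrange, hcard]

theorem isCyclic_center_of_irrKer_eq_bot (χ : IrrCharacter P) (h : irrKer χ = ⊥) :
    IsCyclic (Subgroup.center P) := by
  obtain ⟨m, ρ, hρ, hρχ⟩ := χ.2
  haveI := hρ
  apply isCyclic_center_of_faithful_irr ρ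
  intro a b hab
  have h1 : ρ (a * b⁻¹) = ρ 1 := by
    rw [map_mul, hab, ← map_mul, mul_inv_cancel]
  have h2 : (χ : P → ℂ) (a * b⁻¹) = (χ : P → ℂ) 1 := by
    rw [← hρχ]
    unfold Representation.character
    rw [h1]
  have h3 : a * b⁻¹ ∈ irrKer χ := (mem_irrKer χ _).mpr h2
  rw [h, Subgroup.mem_bot] at h3
  exact mul_inv_eq_one.mp h3

theorem forward_aux [hp : Fact p.Prime] : ∀ n : ℕ, ∀ (P : Type u) [Group P] [Finite P],
    Nat.card P = n → IsPGroup p P → ¬ commutator P ≤ ⊥ → SameKer P →
    IsCyclic (Subgroup.center P) ∧ Nat.card (commutator P) = p := by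
  intro n
  induction n using Nat.strong_induction_on with
  | _ n ih =>
  intro P _ _ hn hP hna hS
  haveI : Fintype P := Fintype.ofFinite P
  have hp1 : 1 < p := hp.out.one_lt
  have hq : ∀ (N : Subgroup P) [N.Normal], N ≠ ⊥ → ¬ commutator P ≤ N →
      IsCyclic (Subgroup.center (P ⧸ N)) ∧ Nat.card (commutator (P ⧸ N)) = p := by
    intro N _ hNne hnot
    have hlt : Nat.card (P ⧸ N) < n := by
      rw [← hn, Subgroup.card_eq_card_quotient_mul_card_subgroup N]
      have h1 : 1 < Nat.card N := (Subgroup.one_lt_card_iff_ne_bot N).mpr hNne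
      have h2 : 0 < Nat.card (P ⧸ N) := Nat.card_pos
      nlinarith
    exact ih _ hlt (P ⧸ N) rfl (hP.to_quotient N)
      (fun h => hnot (commutator_le_of_quotient_le_bot N h)) (hS.quot N)
  -- the derived subgroup has order `p`
  have hcard : Nat.card (commutator P) = p := by
    by_contra hne
    haveI : Nontrivial P := by
      by_contra hnt
      rw [not_nontrivial_iff_subsingleton] at hnt
      apply hna
      intro x _
      rw [Subgroup.mem_bot]
      exact Subsingleton.elim _ _
    haveI := IsPGroup.center_nontrivial hP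
    have hZp : IsPGroup p (Subgroup.center P) := hP.to_subgroup _
    obtain ⟨k, hk0, hk⟩ := (IsPGroup.nontrivial_iff_card hZp).mp inferInstance
    have hdvd : p ∣ Nat.card (Subgroup.center P) := by
      rw [hk]; exact dvd_pow_self p hk0.ne'
    obtain ⟨⟨z₀, hz₀Z⟩, hz₀⟩ := exists_prime_orderOf_dvd_card' p hdvd
    rw [Subgroup.orderOf_mk] at hz₀
    -- facts about central elements of order `p`
    have hcen : ∀ z : P, z ∈ Subgroup.center P → orderOf z = p →
        ∃ (N : Subgroup P) (_ : N.Normal), N = Subgroup.zpowers z ∧ N ≤ Subgroup.center P ∧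
          Nat.card N = p ∧ N ≤ commutator P ∧ Nat.card (commutator P) = p ^ 2 ∧
          IsCyclic (Subgroup.center (P ⧸ N)) ∧ Nat.card (commutator (P ⧸ N)) = p := by
      intro z hz hoz
      have hle : Subgroup.zpowers z ≤ Subgroup.center P := Subgroup.zpowers_le.mpr hz
      haveI hnorm : (Subgroup.zpowers z).Normal := normal_of_le_center _ hle
      have hc : Nat.card (Subgroup.zpowers z) = p := by rw [Nat.card_zpowers, hoz]
      obtain ⟨h1, h2, h3, h4⟩ := lemX hna hq hne (Subgroup.zpowers z) hc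
      exact ⟨_, hnorm, rfl, hle, hc, h1, h2, h3, h4⟩
    by_cases hA : ∃ z₁ z₂ : P, z₁ ∈ Subgroup.center P ∧ z₂ ∈ Subgroup.center P ∧
        orderOf z₁ = p ∧ orderOf z₂ = p ∧ Subgroup.zpowers z₁ ≠ Subgroup.zpowers z₂
    · obtain ⟨z₁, z₂, hz₁, hz₂, ho₁, ho₂, hzz⟩ := hA
      obtain ⟨N₁, hn₁, rfl, hc₁, hp₁, hle₁, hcP, hcyc₁, hq₁⟩ := hcen z₁ hz₁ ho₁
      obtain ⟨N₂, hn₂, rfl, hc₂, hp₂, hle₂, -, hcyc₂, hq₂⟩ := hcen z₂ hz₂ ho₂
      exact caseA_false hP hS _ _ hc₁ hc₂ hp₁ hp₂ hzz hle₁ hle₂ hcP hcyc₁ hcyc₂ hq₁ hq₂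
    · push Not at hA
      obtain ⟨N, hnN, hNeq, hc, hpN, hle, hcP, hcyc, hqN⟩ := hcen z₀ hz₀Z hz₀
      have hU : ∀ c ∈ Subgroup.center P, c ≠ 1 → N ≤ Subgroup.zpowers c := by
        intro c hc hc1
        obtain ⟨j, hj⟩ := (IsPGroup.iff_orderOf.mp hP) c
        have hj0 : j ≠ 0 := by
          rintro rfl
          rw [pow_zero, orderOf_eq_one_iff] at hj
          exact hc1 hj
        have hord : orderOf (c ^ (p ^ (j - 1))) = p := by
          rw [orderOf_pow_of_dvd (pow_ne_zero _ hp.out.ne_zero), hj]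
          · rw [Nat.pow_div (by omega) hp.out.pos]
            have : j - (j - 1) = 1 := by omega
            rw [this, pow_one]
          · rw [hj]
            exact pow_dvd_pow p (by omega)
        have hmem : c ^ (p ^ (j - 1)) ∈ Subgroup.center P := Subgroup.pow_mem _ hc _
        have := hA (c ^ (p ^ (j - 1))) z₀ hmem hz₀Z hord hz₀
        rw [hNeq, ← this, Subgroup.zpowers_le]
        exact Subgroup.pow_mem _ (Subgroup.mem_zpowers c) _
      exact caseB_false hP hS N hc hpN hU hcP hcyc hqN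
  refine ⟨?_, hcard⟩
  -- the centre is cyclic
  obtain ⟨χ, hχ⟩ := TwoDeg.exists_nonlinear hna
  have h1 := hS.irrKer_le_commutator χ hχ
  apply isCyclic_center_of_irrKer_eq_bot χ
  rcases le_or_inf_eq_bot_of_card_prime hp.out (commutator P) (irrKer χ) hcard with h2 | h2
  · exact absurd ((irrDeg_eq_one_iff_commutator_le χ).mpr h2) hχ
  · rw [← h2]
    exact (inf_eq_right.mpr h1).symm

end Main

end Cfsg.Agent.Helper29.GalConj
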