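import Mathlib
import Cfsg.Agent.Helper29.GalConjE

/-!
S4845, backward direction: cyclic centre and derived subgroup of order `p` force Galois
conjugacy of nonlinear irreducible characters of equal degree.
-/

set_option autoImplicit false

namespace Cfsg.Agent.Helper29.GalConj

open Cfsg Cfsg.Agent.Helper24
open scoped commutatorElement

universe u

section Central

variable {G : Type u} [Group G] [Finite G]

/-- The central character of an irreducible character, as a homomorphism. -/
theorem exists_central_hom (χ : IrrCharacter G) :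
    ∃ f : Subgroup.center G →* ℂˣ, ∀ z : Subgroup.center G,
      (χ : G → ℂ) z = ((f z : ℂˣ) : ℂ) * (χ : G → ℂ) 1 := by
  have hχ1 : (χ : G → ℂ) 1 ≠ 0 := by
    rw [irrDeg_spec]
    exact_mod_cast (irrDeg_pos χ).ne'
  let f₀ : Subgroup.center G →* ℂ :=
    { toFun := fun z => (χ : G → ℂ) z / (χ : G → ℂ) 1
      map_one' := by
        show (χ : G → ℂ) ((1 : Subgroup.center G) : G) / (χ : G → ℂ) 1 = 1
        rw [Subgroup.coe_one, div_self hχ1]
      map_mul' := by
        intro z z'
        show (χ : G → ℂ) ((z * z' : Subgroup.center G) : G) / (χ : G → ℂ) 1 =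
          (χ : G → ℂ) z / (χ : G → ℂ) 1 * ((χ : G → ℂ) z' / (χ : G → ℂ) 1)
        have hz' : ∀ d : G, d * (z' : G) = (z' : G) * d :=
          fun d => (Subgroup.mem_center_iff.mp z'.2 d)
        obtain ⟨ω, -, hω⟩ := exists_central_scalar χ (z' : G) hz'
        have h1 := hω 1 1
        rw [pow_one, pow_one, one_mul] at h1
        have h2 := hω (z : G) 1
        rw [pow_one, pow_one] at h2
        rw [Subgroup.coe_mul, h2, h1]
        field_simp }
  refine ⟨f₀.toHomUnits, ?_⟩
  intro z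
  rw [MonoidHom.coe_toHomUnits]
  show (χ : G → ℂ) z = (χ : G → ℂ) z / (χ : G → ℂ) 1 * (χ : G → ℂ) 1
  rw [div_mul_cancel₀ _ hχ1]

/-- Two injective homomorphisms from a finite cyclic group into `ℂˣ` differ by a power coprime to
the order. -/
theorem exists_pow_of_injective {Z : Type*} [Group Z] [Finite Z] [IsCyclic Z] (f g : Z →* ℂˣ)
    (hf : Function.Injective f) (hg : Function.Injective g) :
    ∃ k : ℕ, Nat.Coprime k (Nat.card Z) ∧ ∀ z : Z, g z = f z ^ k := by
  obtain ⟨ζ, hζ⟩ := IsCyclic.exists_generator (α := Z)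
  have hm : orderOf ζ = Nat.card Z := orderOf_eq_card_of_forall_mem_zpowers hζ
  have hm0 : 0 < Nat.card Z := Nat.card_pos
  have hoa : orderOf (f ζ) = Nat.card Z := by rw [orderOf_injective f hf ζ, hm]
  have hob : orderOf (g ζ) = Nat.card Z := by rw [orderOf_injective g hg ζ, hm]
  have hpa : IsPrimitiveRoot (f ζ) (Nat.card Z) := hoa ▸ IsPrimitiveRoot.orderOf (f ζ)
  have hpb : IsPrimitiveRoot (g ζ) (Nat.card Z) := hob ▸ IsPrimitiveRoot.orderOf (g ζ)
  have hpa' : IsPrimitiveRoot ((f ζ : ℂˣ) : ℂ) (Nat.card Z) := IsPrimitiveRoot.coe_units_iff.mpr hpa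
  have hb1 : ((g ζ : ℂˣ) : ℂ) ^ (Nat.card Z) = 1 := by
    rw [← Units.val_pow_eq_pow_val, hpb.pow_eq_one, Units.val_one]
  obtain ⟨i, -, hab'⟩ := hpa'.eq_pow_of_pow_eq_one hb1
  have hab : f ζ ^ i = g ζ := by
    apply Units.ext
    rw [Units.val_pow_eq_pow_val, hab']
  refine ⟨i, ?_, ?_⟩
  · rw [← hab] at hpb
    exact (hpa.pow_iff_coprime hm0 i).mp hpb
  · intro z
    obtain ⟨j, rfl⟩ := Subgroup.mem_zpowers_iff.mp (hζ z)
    rw [map_zpow, map_zpow, ← hab, ← zpow_natCast, ← zpow_natCast, ← zpow_mul, ← zpow_mul, mul_comm]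

end Central

section Backward

variable {P : Type u} [Group P] [Finite P] {p : ℕ}

/-- The central character of a nonlinear irreducible character is faithful when the centre is
cyclic and the derived subgroup has order `p`. -/
theorem central_hom_injective [hp : Fact p.Prime] (hP : IsPGroup p P)
    (hna : ¬ commutator P ≤ ⊥) (hcyc : IsCyclic (Subgroup.center P))
    (hcard : Nat.card (commutator P) = p) (χ : IrrCharacter P) (hχ : irrDeg χ ≠ 1)
    (f : Subgroup.center P →* ℂˣ)
    (hf : ∀ z : Subgroup.center P, (χ : P → ℂ) z = ((f z : ℂˣ) : ℂ) * (χ : P → ℂ) 1) :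
    Function.Injective f := by
  have hc : commutator P ≤ Subgroup.center P := le_center_of_card_prime hP _ hcard
  have hbot : commutator P ⊓ irrKer χ = ⊥ := by
    rcases le_or_inf_eq_bot_of_card_prime hp.out (commutator P) (irrKer χ) hcard with h1 | h1
    · exact absurd ((irrDeg_eq_one_iff_commutator_le χ).mpr h1) hχ
    · exact h1
  rw [injective_iff_map_eq_one]
  intro z hz
  have hzk : (z : P) ∈ irrKer χ := by
    rw [mem_irrKer, hf z, hz, Units.val_one, one_mul]
  by_contra hz1
  obtain ⟨⟨c, hcm⟩, hc1⟩ := (Subgroup.ne_bot_iff_exists_ne_one).mp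
    (fun h => hna (le_of_eq h))
  have hc1' : c ≠ 1 := fun h => hc1 (Subtype.ext h)
  obtain ⟨j, hj⟩ := (IsPGroup.iff_orderOf.mp (hP.to_subgroup (Subgroup.center P))) z
  have hj0 : j ≠ 0 := by
    rintro rfl
    rw [pow_zero, orderOf_eq_one_iff] at hj
    exact hz1 hj
  have hord : orderOf (z ^ (p ^ (j - 1))) = p := by
    rw [orderOf_pow_of_dvd (pow_ne_zero _ hp.out.ne_zero), hj]
    · rw [Nat.pow_div (by omega) hp.out.pos]
      have : j - (j - 1) = 1 := by omega
      rw [this, pow_one]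
    · rw [hj]
      exact pow_dvd_pow p (by omega)
  have hcp : (⟨c, hc hcm⟩ : Subgroup.center P) ^ p = 1 := by
    apply Subtype.ext
    rw [Subgroup.coe_pow, Subgroup.coe_one]
    show c ^ p = 1
    rw [← orderOf_dvd_iff_pow_eq_one, ← hcard]
    exact Subgroup.orderOf_dvd_natCard _ hcm
  haveI := hcyc
  have hmem := mem_zpowers_of_orderOf_eq hp.out.pos (z ^ (p ^ (j - 1))) ⟨c, hc hcm⟩ hord hcp
  obtain ⟨m, hm⟩ := Subgroup.mem_zpowers_iff.mp hmem
  have hck : c ∈ irrKer χ := by
    have h3 : c = ((z : P) ^ (p ^ (j - 1))) ^ m := by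
      have := congrArg (fun w : Subgroup.center P => (w : P)) hm
      simp only [Subgroup.coe_zpow, Subgroup.coe_pow] at this
      exact this.symm
    rw [h3]
    exact Subgroup.zpow_mem _ (Subgroup.pow_mem _ hzk _) _
  have : c ∈ commutator P ⊓ irrKer χ := ⟨hcm, hck⟩
  rw [hbot, Subgroup.mem_bot] at this
  exact hc1' this

theorem backward [hp : Fact p.Prime] (hP : IsPGroup p P)
    (hna : ¬ commutator P ≤ ⊥) (hcyc : IsCyclic (Subgroup.center P))
    (hcard : Nat.card (commutator P) = p) (χ ψ : IrrCharacter P) (h1 : irrDeg χ ≠ 1)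
    (h2 : irrDeg χ = irrDeg ψ) :
    ∃ k : ℕ, Nat.Coprime k (Nat.card P) ∧ ∀ g : P, (ψ : P → ℂ) g = (χ : P → ℂ) (g ^ k) := by
  have hc : commutator P ≤ Subgroup.center P := le_center_of_card_prime hP _ hcard
  have hψ1 : irrDeg ψ ≠ 1 := h2 ▸ h1
  have hvχ := vanish_off_center_of_prime hp.out hc hcard χ h1
  have hvψ := vanish_off_center_of_prime hp.out hc hcard ψ hψ1
  obtain ⟨f, hf⟩ := exists_central_hom χ
  obtain ⟨g, hg⟩ := exists_central_hom ψ
  have hfi := central_hom_injective hP hna hcyc hcard χ h1 f hf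
  have hgi := central_hom_injective hP hna hcyc hcard ψ hψ1 g hg
  haveI := hcyc
  obtain ⟨k, hk, hkz⟩ := exists_pow_of_injective f g hfi hgi
  have h11 : (ψ : P → ℂ) 1 = (χ : P → ℂ) 1 := by rw [irrDeg_spec, irrDeg_spec, h2]
  have hkP : Nat.Coprime k (Nat.card P) := by
    haveI : Nontrivial P := by
      by_contra hnt
      rw [not_nontrivial_iff_subsingleton] at hnt
      apply hna
      intro x _
      rw [Subgroup.mem_bot]
      exact Subsingleton.elim _ _
    haveI := IsPGroup.center_nontrivial hP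
    have hZp : IsPGroup p (Subgroup.center P) := hP.to_subgroup _
    obtain ⟨a, ha0, ha⟩ := (IsPGroup.nontrivial_iff_card hZp).mp inferInstance
    obtain ⟨n, hn⟩ := IsPGroup.iff_card.mp hP
    rw [ha] at hk
    have hkp : Nat.Coprime k p :=
      Nat.Coprime.coprime_dvd_right (dvd_pow_self p ha0.ne') hk
    rw [hn]
    exact Nat.Coprime.pow_right n hkp
  refine ⟨k, hkP, ?_⟩
  intro x
  by_cases hx : x ∈ Subgroup.center P
  · have e1 := hg ⟨x, hx⟩
    have e2 := hf (⟨x, hx⟩ ^ k)
    rw [map_pow] at e2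
    rw [hkz ⟨x, hx⟩] at e1
    rw [Subgroup.coe_pow] at e2
    show (ψ : P → ℂ) x = (χ : P → ℂ) (x ^ k)
    rw [show (ψ : P → ℂ) x = (ψ : P → ℂ) ((⟨x, hx⟩ : Subgroup.center P) : P) from rfl, e1,
      show (χ : P → ℂ) (x ^ k) = (χ : P → ℂ) (((⟨x, hx⟩ : Subgroup.center P) : P) ^ k) from rfl,
      e2, h11]
  · rw [hvψ x hx]
    have hxk : x ^ k ∉ Subgroup.center P := by
      intro hmem
      apply hx
      have hcop : Nat.Coprime k (orderOf x) :=
        Nat.Coprime.coprime_dvd_right (orderOf_dvd_natCard x) hkP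
      obtain ⟨m, hm⟩ := exists_pow_eq_self_of_coprime hcop
      rw [← hm]
      exact Subgroup.pow_mem _ hmem m
    rw [hvχ _ hxk]

end Backward

end Cfsg.Agent.Helper29.GalConj
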