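import Cfsg.Agent.Helper29.CdpC
import Cfsg.Agent.Helper29.TwoDegMain
import Cfsg.Agent.Helper29.GalConjF

set_option autoImplicit false

namespace Cfsg.Agent.Helper29.Cdp

open Cfsg Cfsg.Agent.Helper24 Cfsg.Agent.Helper29.TwoDeg Cfsg.Agent.Helper29.GalConj
open scoped commutatorElement ComplexConjugate

universe u

section Central

variable {G : Type u} [Group G] [Finite G]

/-- At a central element an irreducible character has absolute value its degree. -/
theorem irr_mul_conj_central (χ : IrrCharacter G) (z : G) (hz : z ∈ Subgroup.center G) :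
    (χ : G → ℂ) z * conj ((χ : G → ℂ) z) = ((irrDeg χ : ℕ) : ℂ) ^ 2 := by
  obtain ⟨f, hf⟩ := exists_central_hom χ
  have h1 := hf ⟨z, hz⟩
  have hpow : ((f ⟨z, hz⟩ : ℂˣ) : ℂ) ^ orderOf (⟨z, hz⟩ : Subgroup.center G) = 1 := by
    rw [← Units.val_pow_eq_pow_val, ← map_pow, pow_orderOf_eq_one, map_one, Units.val_one]
  have hnorm : ‖((f ⟨z, hz⟩ : ℂˣ) : ℂ)‖ = 1 :=
    Complex.norm_eq_one_of_pow_eq_one hpow (orderOf_pos _).ne'
  have h2 : ((f ⟨z, hz⟩ : ℂˣ) : ℂ) * conj ((f ⟨z, hz⟩ : ℂˣ) : ℂ) = 1 := by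
    rw [Complex.mul_conj, Complex.normSq_eq_norm_sq, hnorm]
    norm_num
  show (χ : G → ℂ) ((⟨z, hz⟩ : Subgroup.center G) : G) * conj ((χ : G → ℂ) ((⟨z, hz⟩ : Subgroup.center G) : G)) = _
  rw [h1, irrDeg_spec, map_mul, Complex.conj_natCast]
  calc ((f ⟨z, hz⟩ : ℂˣ) : ℂ) * (irrDeg χ : ℂ) * (conj ((f ⟨z, hz⟩ : ℂˣ) : ℂ) * (irrDeg χ : ℂ))
      = (((f ⟨z, hz⟩ : ℂˣ) : ℂ) * conj ((f ⟨z, hz⟩ : ℂˣ) : ℂ)) * (irrDeg χ : ℂ) ^ 2 := by ring
    _ = _ := by rw [h2, one_mul]

end Central

section Quot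

variable {Q : Type u} [Group Q] [Fintype Q]

/-- The structure of the minimal nonabelian `p`-quotient. -/
theorem quot_structure {p : ℕ} (hp : p.Prime) (hQ : IsPGroup p Q)
    (hna : ¬ commutator Q ≤ (⊥ : Subgroup Q))
    (hmin : ∀ L : Subgroup Q, L.Normal → L ≠ ⊥ → commutator Q ≤ L)
    (h : TwoDegrees Q p) :
    commutator Q ≤ Subgroup.center Q ∧ (Subgroup.center Q).index = p * p ∧
      (∀ g : Q, g ^ p ∈ Subgroup.center Q) ∧
      ∃ θ : IrrCharacter Q, irrDeg θ = p ∧ ∀ g : Q, g ∉ Subgroup.center Q → (θ : Q → ℂ) g = 0 := by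
  classical
  haveI : Fact p.Prime := ⟨hp⟩
  haveI : Nontrivial Q := by
    by_contra hcon
    rw [not_nontrivial_iff_subsingleton] at hcon
    apply hna
    intro x _
    rw [Subgroup.mem_bot]
    exact Subsingleton.elim _ _
  have hZne : Subgroup.center Q ≠ ⊥ := (IsPGroup.bot_lt_center hQ).ne'
  have hcZ : commutator Q ≤ Subgroup.center Q := hmin _ inferInstance hZne
  -- an element of order p in the centre
  have hpdvd : p ∣ Nat.card (Subgroup.center Q) := by
    obtain ⟨k, hk⟩ := IsPGroup.iff_card.mp (hQ.to_subgroup (Subgroup.center Q))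
    rw [hk]
    apply dvd_pow_self
    intro h0
    rw [h0, pow_zero] at hk
    exact hZne (Subgroup.card_eq_one.mp hk)
  obtain ⟨z, hz⟩ := exists_prime_orderOf_dvd_card' p hpdvd
  have hzn : (Subgroup.zpowers (z : Q)).Normal := by
    constructor
    intro x hx g
    have hxc : x ∈ Subgroup.center Q := by
      obtain ⟨k, rfl⟩ := Subgroup.mem_zpowers_iff.mp hx
      exact Subgroup.zpow_mem _ z.2 k
    rw [Subgroup.mem_center_iff.mp hxc g, mul_inv_cancel_right]
    exact hx
  have hzord : orderOf (z : Q) = p := by rw [Subgroup.orderOf_coe]; exact hz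
  have hzne : Subgroup.zpowers (z : Q) ≠ ⊥ := by
    intro hbot
    rw [Subgroup.zpowers_eq_bot] at hbot
    rw [hbot, orderOf_one] at hzord
    exact hp.one_lt.ne hzord
  have hle : commutator Q ≤ Subgroup.zpowers (z : Q) := hmin _ hzn hzne
  have hcard : Nat.card (commutator Q) = p := by
    have h1 : Nat.card (commutator Q) ∣ p := by
      have := Subgroup.card_dvd_of_le hle
      rwa [Nat.card_zpowers, hzord] at this
    rcases (Nat.dvd_prime hp).mp h1 with h2 | h2
    · exfalso
      apply hna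
      rw [Subgroup.card_eq_one.mp h2]
    · exact h2
  obtain ⟨θ, hθ⟩ := exists_nonlinear hna
  have hθp : irrDeg θ = p := by
    rcases h.irrDeg_cases θ with h1 | h1
    · exact absurd h1 hθ
    · exact h1
  have hvan := vanish_off_center_of_prime hp hcZ hcard θ hθ
  have hnum := irrDeg_sq_mul_card_center_of_prime hp hcZ hcard θ hθ
  refine ⟨hcZ, ?_, ?_, θ, hθp, hvan⟩
  · have h1 := Subgroup.card_mul_index (Subgroup.center Q)
    rw [← hnum, hθp, mul_comm] at h1
    have h2 : (Subgroup.center Q).index * Nat.card (Subgroup.center Q) =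
        (p * p) * Nat.card (Subgroup.center Q) := by rw [h1]; ring
    exact Nat.eq_of_mul_eq_mul_right Nat.card_pos h2
  · intro g
    have hc : ∀ a b : Q, ⁅a, b⁆ ∈ Subgroup.center Q := fun a b =>
      hcZ (Subgroup.commutator_mem_commutator (Subgroup.mem_top a) (Subgroup.mem_top b))
    rw [Subgroup.mem_center_iff]
    intro x
    have h1 := map_pow (Helper12.commHomOf hc x) g p
    rw [Helper12.commHomOf_apply, Helper12.commHomOf_apply] at h1
    have h2 : ⁅g, x⁆ ^ p = 1 := by
      have hmem : ⁅g, x⁆ ∈ commutator Q :=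
        Subgroup.commutator_mem_commutator (Subgroup.mem_top g) (Subgroup.mem_top x)
      have : (⟨⁅g, x⁆, hmem⟩ : commutator Q) ^ Nat.card (commutator Q) = 1 := pow_card_eq_one'
      rw [hcard] at this
      exact congrArg Subtype.val this
    rw [h2, commutatorElement_eq_one_iff_commute] at h1
    exact h1.eq.symm

end Quot

section Abelian

variable {G : Type u} [Group G] [Fintype G]

/-- If an irreducible character vanishes off `Z` of index `p²` and has absolute value `p` on
`Z`, and all degrees are `1` or `p`, then `Z` is abelian. -/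
theorem abelian_of_vanishing {p : ℕ} (hp : p.Prime) (h : TwoDegrees G p)
    (Z : Subgroup G) [hZ : Z.Normal] (hidx : Z.index = p * p)
    (χ₀ : IrrCharacter G) (hvan : ∀ g : G, g ∉ Z → (χ₀ : G → ℂ) g = 0)
    (hval : ∀ z ∈ Z, (χ₀ : G → ℂ) z * conj ((χ₀ : G → ℂ) z) = (p : ℂ) ^ 2) :
    ∀ a ∈ Z, ∀ b ∈ Z, a * b = b * a := by
  classical
  haveI : Fintype Z := Fintype.ofFinite _
  haveI : Fintype (IrrCharacter Z) := Fintype.ofFinite _
  haveI : Fintype (IrrCharacter G) := Fintype.ofFinite _
  by_contra hcon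
  have hna : ¬ commutator Z ≤ (⊥ : Subgroup Z) := by
    intro hle
    apply hcon
    intro a ha b hb
    have h1 : ⁅(⟨a, ha⟩ : Z), ⟨b, hb⟩⁆ ∈ commutator Z :=
      Subgroup.commutator_mem_commutator (Subgroup.mem_top _) (Subgroup.mem_top _)
    have h2 := hle h1
    rw [Subgroup.mem_bot, commutatorElement_eq_one_iff_commute] at h2
    exact congrArg Subtype.val h2.eq
  obtain ⟨η, hη⟩ := exists_nonlinear hna
  obtain ⟨ψ, hψ⟩ := exists_irr_over Z η
  obtain ⟨e, he, -⟩ := irrDeg_dvd_of_over Z ψ η hψ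
  have hψp : irrDeg ψ = p := by
    rcases h.irrDeg_cases ψ with h1 | h1
    · exfalso
      rw [h1] at he
      exact hη (Nat.eq_one_of_mul_eq_one_left he.symm)
    · exact h1
  have hηp : irrDeg η = p := by
    rw [hψp] at he
    have h1 : irrDeg η ∣ p := ⟨e, by rw [he]; ring⟩
    rcases (Nat.dvd_prime hp).mp h1 with h2 | h2
    · exact absurd h2 hη
    · exact h2
  have hres : IsCharacter Z (fun z : Z => (ψ : G → ℂ) z) :=
    Helper8.isCharacter_restrict Z (IsIrrCharacter.isCharacter ψ.2)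
  have heq : (fun z : Z => (ψ : G → ℂ) z) = (η : Z → ℂ) := by
    apply IsCharacter.eq_irr_of_constituent_of_deg hres η hψ
    show (ψ : G → ℂ) ((1 : Z) : G) = _
    rw [Subgroup.coe_one, irrDeg_spec, irrDeg_spec, hψp, hηp]
  have hprod : IsCharacter G ((ψ : G → ℂ) * (χ₀ : G → ℂ)) :=
    IsCharacter.mul (IsIrrCharacter.isCharacter ψ.2) (IsIrrCharacter.isCharacter χ₀.2)
  have hcardG : (Nat.card G : ℂ) = (Nat.card Z : ℂ) * ((p : ℂ) * p) := by
    rw [← Subgroup.card_mul_index Z, hidx]
    push_cast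
    ring
  have hinner : classInner ((ψ : G → ℂ) * (χ₀ : G → ℂ)) ((ψ : G → ℂ) * (χ₀ : G → ℂ)) = 1 := by
    unfold classInner
    have h1 : ∑ g : G, ((ψ : G → ℂ) * (χ₀ : G → ℂ)) g * conj (((ψ : G → ℂ) * (χ₀ : G → ℂ)) g) =
        ∑ g ∈ Finset.univ.filter (fun g : G => g ∈ Z),
          ((ψ : G → ℂ) g * conj ((ψ : G → ℂ) g)) * (p : ℂ) ^ 2 := by
      rw [Finset.sum_filter]
      refine Finset.sum_congr rfl fun g _ => ?_
      by_cases hg : g ∈ Z
      · rw [if_pos hg, Pi.mul_apply, map_mul, ← hval g hg]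
        ring
      · rw [if_neg hg, Pi.mul_apply, hvan g hg, mul_zero, zero_mul]
    have h2 : ∑ g ∈ Finset.univ.filter (fun g : G => g ∈ Z),
          ((ψ : G → ℂ) g * conj ((ψ : G → ℂ) g)) * (p : ℂ) ^ 2 =
        ∑ z : Z, ((ψ : G → ℂ) z * conj ((ψ : G → ℂ) z)) * (p : ℂ) ^ 2 := by
      apply Finset.sum_subtype
      intro x
      simp
    have h3 : ∑ z : Z, (ψ : G → ℂ) z * conj ((ψ : G → ℂ) z) = (Nat.card Z : ℂ) := by
      have h4 := classInner_irr_self η
      unfold classInner at h4
      rw [← heq] at h4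
      have hZ0 : (Nat.card Z : ℂ) ≠ 0 := Nat.cast_ne_zero.mpr Nat.card_pos.ne'
      field_simp at h4
      exact h4
    rw [h1, h2, ← Finset.sum_mul, h3, hcardG]
    have hZ0 : (Nat.card Z : ℂ) ≠ 0 := Nat.cast_ne_zero.mpr Nat.card_pos.ne'
    have hp0 : (p : ℂ) ≠ 0 := Nat.cast_ne_zero.mpr hp.ne_zero
    field_simp
  have hirr := IsCharacter.isIrrCharacter_of_classInner_self hprod hinner
  have hdeg := h ⟨_, hirr⟩
  have hval1 : charDegree ((ψ : G → ℂ) * (χ₀ : G → ℂ)) = p * irrDeg χ₀ := by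
    unfold charDegree
    rw [Pi.mul_apply, irrDeg_spec, irrDeg_spec, hψp]
    have : ((p : ℂ) * (irrDeg χ₀ : ℂ)).re = ((p * irrDeg χ₀ : ℕ) : ℝ) := by
      push_cast
      simp
    rw [this, Nat.floor_natCast]
  have hχ₀p : irrDeg χ₀ = p := by
    have h1 := hval 1 (Subgroup.one_mem Z)
    rw [irrDeg_spec, Complex.conj_natCast] at h1
    have h2 : ((irrDeg χ₀ * irrDeg χ₀ : ℕ) : ℂ) = ((p * p : ℕ) : ℂ) := by
      push_cast
      rw [h1]; ring
    have h3 : irrDeg χ₀ * irrDeg χ₀ = p * p := by exact_mod_cast h2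
    exact Nat.mul_self_inj.mp h3
  simp only at hdeg
  rw [hval1, hχ₀p] at hdeg
  have := hp.two_le
  rcases hdeg with h1 | h1
  · nlinarith
  · nlinarith

end Abelian

section Final

variable {G : Type u} [Group G] [Fintype G]

/-- No linear character of `Z` has inertia group `Z`, as its induction would be irreducible of
degree `p²`. -/
theorem exists_stab_of_twoDegrees {p : ℕ} (hp : p.Prime) (h : TwoDegrees G p)
    (Z : Subgroup G) [hZ : Z.Normal] (hidx : Z.index = p * p) (L : Z →* ℂˣ) :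
    ∃ g, g ∉ Z ∧ g ∈ stabHom Z L := by
  classical
  by_contra hcon
  push Not at hcon
  have hθ : IsIrrCharacter Z (fun z : Z => ((L z : ℂˣ) : ℂ)) :=
    isIrrCharacter_of_monoidHom ((Units.coeHom ℂ).comp L)
  have hirr := isIrrCharacter_indFun_of_inertia Z _ hθ (by
    intro g hg
    by_contra hgZ
    apply hcon g hgZ
    rw [mem_stabHom]
    intro z
    exact Units.ext (hg z))
  have hdeg := h ⟨_, hirr⟩
  have hval : charDegree (indFun Z (fun z : Z => ((L z : ℂˣ) : ℂ))) = p * p := by
    unfold charDegree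
    rw [Helper5.indFun_apply_one, hidx, map_one, Units.val_one, mul_one]
    have : (((p * p : ℕ) : ℂ)).re = ((p * p : ℕ) : ℝ) := by
      push_cast
      simp
    rw [this, Nat.floor_natCast]
  simp only at hdeg
  rw [hval] at hdeg
  have := hp.two_le
  rcases hdeg with h1 | h1
  · nlinarith
  · nlinarith

omit [Fintype G] in
/-- If some element outside `Z` centralizes `Z`, there is an abelian normal subgroup of index
`p`. -/
theorem abelian_index_p_of_centralizing [Finite G] {p : ℕ} (hp : p.Prime)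
    (Z : Subgroup G) [hZ : Z.Normal] (hab : ∀ a ∈ Z, ∀ b ∈ Z, a * b = b * a)
    (hidx : Z.index = p * p) (hpow : ∀ g : G, g ^ p ∈ Z)
    (g : G) (hg : g ∉ Z) (hgc : ∀ z ∈ Z, g * z = z * g) :
    ∃ A : Subgroup G, A.Normal ∧ (∀ a ∈ A, ∀ b ∈ A, a * b = b * a) ∧ A.index = p := by
  haveI : Fact p.Prime := ⟨hp⟩
  refine ⟨lineOf Z g, ?_, ?_, index_lineOf Z hp hidx g hg (hpow g)⟩
  · have hcard : Nat.card (G ⧸ Z) = p ^ 2 := by rw [pow_two]; exact hidx
    have hcomm : ∀ a b : G ⧸ Z, a * b = b * a := by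
      intro a b
      have := IsPGroup.isMulCommutative_of_card_eq_prime_sq (p := p) hcard
      exact this.is_comm.comm a b
    have hn : (Subgroup.zpowers (QuotientGroup.mk' Z g)).Normal := by
      constructor
      intro n hn x
      rw [hcomm x n, mul_inv_cancel_right]
      exact hn
    exact hn.comap _
  · have h1 : ∀ a ∈ lineOf Z g, (∀ z ∈ Z, a * z = z * a) ∧ a * g = g * a := by
      intro a ha
      have hle : lineOf Z g ≤ Subgroup.centralizer ((Z : Set G) ∪ {g}) := by
        apply lineOf_le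
        · intro z hz
          rw [Subgroup.mem_centralizer_iff]
          intro w hw
          rcases hw with hw | hw
          · exact hab w hw z hz
          · rw [Set.mem_singleton_iff] at hw
            rw [hw]
            exact hgc z hz
        · rw [Subgroup.mem_centralizer_iff]
          intro w hw
          rcases hw with hw | hw
          · exact (hgc w hw).symm
          · rw [Set.mem_singleton_iff] at hw
            rw [hw]
      have h2 := Subgroup.mem_centralizer_iff.mp (hle ha)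
      exact ⟨fun z hz => (h2 z (Or.inl hz)).symm, (h2 g (Or.inr rfl)).symm⟩
    intro a ha b hb
    have hle : lineOf Z g ≤ Subgroup.centralizer {a} := by
      apply lineOf_le
      · intro z hz
        rw [Subgroup.mem_centralizer_iff]
        intro w hw
        rw [Set.mem_singleton_iff] at hw
        rw [hw]
        exact (h1 a ha).1 z hz
      · rw [Subgroup.mem_centralizer_iff]
        intro w hw
        rw [Set.mem_singleton_iff] at hw
        rw [hw]
        exact (h1 a ha).2
    have h2 := Subgroup.mem_centralizer_iff.mp (hle hb)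
    exact h2 a rfl

end Final

/-- Isaacs 12.11, forward direction. -/
theorem forward {G : Type u} [Group G] [Finite G] (p : ℕ) (hp : p.Prime)
    (hG : ∃ a b : G, a * b ≠ b * a)
    (hcd : ∀ χ : IrrCharacter G, charDegree (χ : G → ℂ) = 1 ∨ charDegree (χ : G → ℂ) = p) :
    (∃ A : Subgroup G, A.Normal ∧ (∀ a ∈ A, ∀ b ∈ A, a * b = b * a) ∧ A.index = p) ∨
      (Subgroup.center G).index = p ^ 3 := by
  classical
  haveI : Fintype G := Fintype.ofFinite G
  have h : TwoDegrees G p := hcd
  have hGna : ¬ commutator G ≤ (⊥ : Subgroup G) := by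
    intro hle
    obtain ⟨a, b, hab⟩ := hG
    apply hab
    have h1 : ⁅a, b⁆ ∈ commutator G :=
      Subgroup.commutator_mem_commutator (Subgroup.mem_top _) (Subgroup.mem_top _)
    have h2 := hle h1
    rw [Subgroup.mem_bot, commutatorElement_eq_one_iff_commute] at h2
    exact h2.eq
  obtain ⟨K, hKn, hKc, hKmax⟩ := exists_max_normal hGna
  haveI : Fintype (G ⧸ K) := Fintype.ofFinite _
  have hmin := quot_min K hKmax
  have hna := quot_nonabelian K hKc
  have habc := commutator_comm_of_twoDegrees (h.quot K) hmin hna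
  by_cases hZ : Subgroup.center (G ⧸ K) = ⊥
  · left
    exact caseII h K hna habc (fpf_of_center_eq_bot hmin habc hZ)
  · obtain ⟨p', hp', hpg⟩ := isPGroup_of_center_ne_bot hmin hna hZ
    obtain ⟨⟨χ, hχ⟩, -⟩ := (h.quot K).exists_deg hna
    haveI : Fact p'.Prime := ⟨hp'⟩
    obtain ⟨n, hn⟩ := IsPGroup.iff_card.mp hpg
    have hdvd : p ∣ p' ^ n := by
      rw [← hχ, ← hn]; exact TwoDeg.irrDeg_dvd_card χ
    have hpp : p = p' := (Nat.prime_dvd_prime_iff_eq hp hp').mp (hp.dvd_of_dvd_pow hdvd)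
    subst hpp
    obtain ⟨hcZ, hidxQ, hpowQ, θ, hθp, hvanQ⟩ := quot_structure hp hpg hna hmin (h.quot K)
    obtain ⟨Z, hZdef⟩ : ∃ Z : Subgroup G,
        Z = (Subgroup.center (G ⧸ K)).comap (QuotientGroup.mk' K) := ⟨_, rfl⟩
    have hZn : Z.Normal := by
      rw [hZdef]
      exact Subgroup.Normal.comap inferInstance _
    have hmemZ : ∀ g : G, g ∈ Z ↔ QuotientGroup.mk' K g ∈ Subgroup.center (G ⧸ K) := by
      intro g
      rw [hZdef, Subgroup.mem_comap]
    have hidx : Z.index = p * p := by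
      rw [hZdef, Subgroup.index_comap_of_surjective _ (QuotientGroup.mk'_surjective K), hidxQ]
    have hpow : ∀ g : G, g ^ p ∈ Z := by
      intro g
      rw [hmemZ, map_pow]
      exact hpowQ _
    have hvan : ∀ g : G, g ∉ Z → ((irrInflate K θ : IrrCharacter G) : G → ℂ) g = 0 := by
      intro g hg
      rw [hmemZ] at hg
      exact hvanQ _ hg
    have hval : ∀ z ∈ Z, ((irrInflate K θ : IrrCharacter G) : G → ℂ) z *
        conj (((irrInflate K θ : IrrCharacter G) : G → ℂ) z) = (p : ℂ) ^ 2 := by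
      intro z hz
      rw [hmemZ] at hz
      have := irr_mul_conj_central θ _ hz
      rw [hθp] at this
      exact this
    have hab : ∀ a ∈ Z, ∀ b ∈ Z, a * b = b * a :=
      abelian_of_vanishing hp h Z hidx (irrInflate K θ) hvan hval
    by_cases hself : ∀ g : G, (∀ z ∈ Z, g * z = z * g) → g ∈ Z
    · right
      exact center_index_of_selfcentralizing p hp Z hab hidx hpow hself
        (fun L => exists_stab_of_twoDegrees hp h Z hidx L)
    · left
      push Not at hself
      obtain ⟨g, hgc, hg⟩ := hself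
      exact abelian_index_p_of_centralizing hp Z hab hidx hpow g hg hgc

end Cfsg.Agent.Helper29.Cdp
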