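import Mathlib

set_option autoImplicit false
set_option linter.unusedSectionVars false
set_option linter.unusedVariables false
set_option linter.style.haveILetI false

/-! # S3501 / S3556 / S3520: derangement criteria in a transitive normal subgroup `N ≅ T^m`. -/

namespace Cfsg.Agent.S3501P

open MulAction

variable {G Ω : Type*} [Group G] [MulAction G Ω] (N : Subgroup G) [IsPretransitive N Ω] (a : Ω)

/-- An element of the transitive subgroup `N` fixes a point iff an `N`-conjugate fixes `a`. -/
theorem CRIT.fix_iff (x : N) :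
    (∃ ω : Ω, (x : G) • ω = ω) ↔ ∃ n : N, ((n⁻¹ * x * n : N) : G) ∈ stabilizer G a := by
  constructor
  · rintro ⟨ω, hω⟩
    obtain ⟨n, hn⟩ := exists_smul_eq N a ω
    refine ⟨n, ?_⟩
    rw [mem_stabilizer_iff]
    have hn' : (n : G) • a = ω := hn
    simp only [Subgroup.coe_mul, Subgroup.coe_inv, mul_smul]
    rw [hn', hω, ← hn', inv_smul_smul]
  · rintro ⟨n, hn⟩
    refine ⟨(n : G) • a, ?_⟩
    rw [mem_stabilizer_iff] at hn
    simp only [Subgroup.coe_mul, Subgroup.coe_inv, mul_smul] at hn
    have := congrArg (fun z => (n : G) • z) hn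
    simpa using this

variable {T : Type*} [Group T] {m : ℕ} (e : N ≃* (Fin m → T))

/-- Product case: `x` is a derangement iff some coordinate is not conjugate into `K i`. -/
theorem CRIT.prod (K : Fin m → Subgroup T)
    (hK : ∀ n : N, (n : G) ∈ stabilizer G a ↔ ∀ i, e n i ∈ K i) (x : N) :
    (∀ ω : Ω, (x : G) • ω ≠ ω) ↔ ∃ i, ∀ g : T, g⁻¹ * e x i * g ∉ K i := by
  have key : (∃ ω : Ω, (x : G) • ω = ω) ↔ ∀ i, ∃ g : T, g⁻¹ * e x i * g ∈ K i := by
    rw [CRIT.fix_iff N a x]
    constructor
    · rintro ⟨n, hn⟩ i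
      have := (hK _).mp hn i
      refine ⟨e n i, ?_⟩
      simpa [map_mul, map_inv] using this
    · intro h
      choose g hg using h
      refine ⟨e.symm g, (hK _).mpr fun i => ?_⟩
      simpa [map_mul, map_inv] using hg i
  constructor
  · intro h
    by_contra hcon
    push Not at hcon
    obtain ⟨ω, hω⟩ := key.mpr hcon
    exact h ω hω
  · rintro ⟨i, hi⟩ ω hω
    obtain ⟨g, hg⟩ := key.mp ⟨ω, hω⟩ i
    exact hi g hg

/-- Diagonal case: `x` is a derangement iff no coordinatewise conjugate is constant on blocks. -/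
theorem CRIT.diag (c : Fin m → Fin m)
    (hc : ∀ n : N, (n : G) ∈ stabilizer G a ↔ ∀ i j : Fin m, c i = c j → e n i = e n j)
    (x : N) :
    (∀ ω : Ω, (x : G) • ω ≠ ω) ↔
      ∀ g : Fin m → T, ∃ i j, c i = c j ∧ (g i)⁻¹ * e x i * g i ≠ (g j)⁻¹ * e x j * g j := by
  have key : (∃ ω : Ω, (x : G) • ω = ω) ↔
      ∃ g : Fin m → T, ∀ i j, c i = c j → (g i)⁻¹ * e x i * g i = (g j)⁻¹ * e x j * g j := by
    rw [CRIT.fix_iff N a x]
    constructor
    · rintro ⟨n, hn⟩
      refine ⟨e n, fun i j hij => ?_⟩
      have := (hc _).mp hn i j hij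
      simpa [map_mul, map_inv] using this
    · rintro ⟨g, hg⟩
      refine ⟨e.symm g, (hc _).mpr fun i j hij => ?_⟩
      simpa [map_mul, map_inv] using hg i j hij
  constructor
  · intro h g
    by_contra hcon
    push Not at hcon
    obtain ⟨ω, hω⟩ := key.mpr ⟨g, fun i j hij => hcon i j hij⟩
    exact h ω hω
  · intro h ω hω
    obtain ⟨g, hg⟩ := key.mp ⟨ω, hω⟩
    obtain ⟨i, j, hij, hne⟩ := h g
    exact hne (hg i j hij)

/-- Diagonal case, sufficient form: two coordinates of one block that are not conjugate in `T`. -/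
theorem CRIT.diag_of_not_conj (c : Fin m → Fin m)
    (hc : ∀ n : N, (n : G) ∈ stabilizer G a ↔ ∀ i j : Fin m, c i = c j → e n i = e n j)
    (x : N) {i j : Fin m} (hij : c i = c j)
    (h : ∀ g h : T, g⁻¹ * e x i * g ≠ h⁻¹ * e x j * h) : ∀ ω : Ω, (x : G) • ω ≠ ω := by
  rw [CRIT.diag N a e c hc x]
  intro g
  exact ⟨i, j, hij, h (g i) (g j)⟩

/-- `G`-conjugate elements of the normal subgroup `N` have centralisers in `N` of the same order. -/
theorem CRIT.card_centralizer_eq {G : Type*} [Group G] (N : Subgroup G) [N.Normal] (x y : N) (g : G)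
    (h : g * (x : G) * g⁻¹ = (y : G)) :
    Nat.card (Subgroup.centralizer ({x} : Set N)) = Nat.card (Subgroup.centralizer ({y} : Set N)) := by
  let φ : N ≃* N := MulAut.conjNormal g
  have hφ : φ x = y := Subtype.ext (by simpa [φ, MulAut.conjNormal_apply] using h)
  have hmap : Subgroup.centralizer ({y} : Set N) =
      (Subgroup.centralizer ({x} : Set N)).map φ.toMonoidHom := by
    ext z
    rw [Subgroup.mem_map, Subgroup.mem_centralizer_singleton_iff]
    constructor
    · intro hz
      refine ⟨φ.symm z, ?_, by simp⟩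
      rw [Subgroup.mem_centralizer_singleton_iff]
      apply φ.injective
      rw [map_mul, map_mul, hφ]
      simpa using hz
    · rintro ⟨w, hw, rfl⟩
      rw [Subgroup.mem_centralizer_singleton_iff] at hw
      have := congrArg φ hw
      rw [map_mul, map_mul, hφ] at this
      exact this
  rw [hmap]
  exact (Subgroup.card_map_of_injective φ.injective).symm

/-- The centraliser of `x` in `N ≅ T^m` has order the product of the coordinate centralisers. -/
theorem CRIT.card_centralizer_pi {G : Type*} [Group G] (N : Subgroup G) {T : Type*} [Group T]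
    {m : ℕ} (e : N ≃* (Fin m → T)) (x : N) :
    Nat.card (Subgroup.centralizer ({x} : Set N)) =
      ∏ i, Nat.card (Subgroup.centralizer ({e x i} : Set T)) := by
  rw [← Nat.card_pi]
  apply Nat.card_congr
  refine
    { toFun := fun z i => ⟨e z i, ?_⟩
      invFun := fun f => ⟨e.symm (fun i => (f i : T)), ?_⟩
      left_inv := ?_
      right_inv := ?_ }
  · have hz := z.2
    rw [Subgroup.mem_centralizer_singleton_iff] at hz ⊢
    have := congrFun (congrArg e hz) i
    simpa [map_mul] using this
  · rw [Subgroup.mem_centralizer_singleton_iff]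
    apply e.injective
    rw [map_mul, map_mul, MulEquiv.apply_symm_apply]
    funext i
    have := (f i).2
    rw [Subgroup.mem_centralizer_singleton_iff] at this
    simpa using this
  · intro z
    apply Subtype.ext
    simp
  · intro f
    funext i
    apply Subtype.ext
    simp

end Cfsg.Agent.S3501P
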