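import Mathlib
import Cfsg.Agent.Helper21.S5949CYCMAIN

set_option autoImplicit false

/-! S5958 piece FIXED: an element of prime order `r` (prime to the characteristic) fixing every
summand of a decomposition into `t` subspaces of dimension `a`. -/

namespace Cfsg.Agent.S5958P

open Polynomial

namespace FIXEDAux

/-- The sum of the dimensions of an independent family of subspaces of `U` is at most `dim U`. -/
theorem sum_finrank_le {F V : Type*} [Field F] [AddCommGroup V] [Module F V]
    [FiniteDimensional F V] {t : ℕ} (K : Fin t → Submodule F V) (hind : iSupIndep K)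
    (U : Submodule F V) (hle : ∀ j, K j ≤ U) :
    ∑ j, Module.finrank F (K j) ≤ Module.finrank F U := by
  classical
  have hinj := hind.dfinsupp_lsum_injective
  have hφU : ∀ x, (DFinsupp.lsum ℕ (fun j => (K j).subtype)) x ∈ U := by
    intro x
    have h1 : (DFinsupp.lsum ℕ (fun j => (K j).subtype)) x ∈
        LinearMap.range (DFinsupp.lsum ℕ (fun j => (K j).subtype)) := ⟨x, rfl⟩
    rw [← Submodule.iSup_eq_range_dfinsupp_lsum] at h1
    exact (iSup_le hle) h1
  have hψ : Function.Injective
      (LinearMap.codRestrict U (DFinsupp.lsum ℕ (fun j => (K j).subtype)) hφU) :=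
    fun x y h => hinj (congrArg Subtype.val h)
  have h2 := LinearMap.finrank_le_finrank_of_injective hψ
  have h3 := Module.finrank_directSum (R := F) (fun j => K j)
  rw [← h3]
  exact h2

end FIXEDAux

/-- FIXED (uses S5949P.cyc_main) -/
theorem fixed_decomp {F V : Type*} [Field F] [Fintype F] [AddCommGroup V] [Module F V]
    [FiniteDimensional F V] {p : ℕ} [Fact p.Prime] [CharP F p] (r : ℕ) [Fact r.Prime] (hrp : r ≠ p)
    (f : Module.End F V) (hf : f ^ r = 1) (hf1 : f ≠ 1) {t : ℕ} (a : ℕ)
    (D : Fin t → Submodule F V) (hdim : ∀ j, Module.finrank F (D j) = a) (hind : iSupIndep D)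
    (hsup : iSup D = ⊤) (hinv : ∀ j, (D j).map f = D j) :
    orderOf ((Fintype.card F : ℕ) : ZMod r) ≤ a ∧
    t * (a % orderOf ((Fintype.card F : ℕ) : ZMod r)) ≤
      Module.finrank F (LinearMap.ker (f - 1)) := by
  obtain ⟨c, hc⟩ : ∃ c : ℕ, c = orderOf ((Fintype.card F : ℕ) : ZMod r) := ⟨_, rfl⟩
  rw [← hc]
  have hD : ∀ j, ∀ v ∈ D j, f v ∈ D j := fun j v hv => by
    rw [← hinv j]; exact ⟨v, hv, rfl⟩
  have hfj : ∀ j, (f.restrict (hD j)) ^ r = 1 := by
    intro j
    ext w
    have := S5949P.Basic.pow_intertwine (D j).subtype (f.restrict (hD j)) f (fun _ => rfl) r w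
    rw [hf] at this
    exact this
  have hκ : ∀ j, c ∣ a - Module.finrank F (LinearMap.ker (f.restrict (hD j) - 1)) := by
    intro j
    have := (S5949P.cyc_main r hrp (f.restrict (hD j)) (hfj j)).1
    rw [hdim j, ← hc] at this
    exact this
  have hκle : ∀ j, Module.finrank F (LinearMap.ker (f.restrict (hD j) - 1)) ≤ a := by
    intro j
    rw [← hdim j]
    exact Submodule.finrank_le _
  have hKdim : ∀ j, Module.finrank F
      ((LinearMap.ker (f.restrict (hD j) - 1)).map (D j).subtype) =
      Module.finrank F (LinearMap.ker (f.restrict (hD j) - 1)) :=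
    fun j => Submodule.finrank_map_subtype_eq _ _
  have hKD : ∀ j, (LinearMap.ker (f.restrict (hD j) - 1)).map (D j).subtype ≤ D j := by
    rintro j _ ⟨w, _, rfl⟩; exact w.2
  have hKker : ∀ j, (LinearMap.ker (f.restrict (hD j) - 1)).map (D j).subtype ≤
      LinearMap.ker (f - 1) := by
    rintro j _ ⟨w, hw, rfl⟩
    rw [SetLike.mem_coe, LinearMap.mem_ker, LinearMap.sub_apply, sub_eq_zero] at hw
    rw [LinearMap.mem_ker, LinearMap.sub_apply, sub_eq_zero]
    exact congrArg Subtype.val hw
  have hKind : iSupIndep
      (fun j => (LinearMap.ker (f.restrict (hD j) - 1)).map (D j).subtype) := hind.mono hKD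
  have hsum := FIXEDAux.sum_finrank_le _ hKind _ hKker
  constructor
  · by_contra hlt
    push Not at hlt
    apply hf1
    have hκa : ∀ j, Module.finrank F (LinearMap.ker (f.restrict (hD j) - 1)) = a := by
      intro j
      have h1 := hκ j
      have h2 := hκle j
      have : a - Module.finrank F (LinearMap.ker (f.restrict (hD j) - 1)) = 0 :=
        Nat.eq_zero_of_dvd_of_lt h1 (by omega)
      omega
    have htop : ∀ j, LinearMap.ker (f.restrict (hD j) - 1) = ⊤ := by
      intro j
      apply Submodule.eq_top_of_finrank_eq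
      rw [hκa j, hdim j]
    have hfix : ∀ j, ∀ v ∈ D j, f v = v := by
      intro j v hv
      have : (⟨v, hv⟩ : D j) ∈ LinearMap.ker (f.restrict (hD j) - 1) := by
        rw [htop j]; trivial
      rw [LinearMap.mem_ker, LinearMap.sub_apply, sub_eq_zero] at this
      exact congrArg Subtype.val this
    ext v
    have hv : v ∈ ⨆ j, D j := by rw [hsup]; trivial
    change f v = v
    refine Submodule.iSup_induction D (motive := fun v => f v = v) hv
      (fun j x hx => hfix j x hx) (map_zero f) (fun x y hx hy => ?_)
    rw [map_add, hx, hy]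
  · have hmod : ∀ j, a % c ≤ Module.finrank F
        ((LinearMap.ker (f.restrict (hD j) - 1)).map (D j).subtype) := by
      intro j
      rw [hKdim j]
      obtain ⟨m, hm⟩ := hκ j
      have h2 := hκle j
      have h3 : a = Module.finrank F (LinearMap.ker (f.restrict (hD j) - 1)) + c * m := by omega
      calc a % c = (Module.finrank F (LinearMap.ker (f.restrict (hD j) - 1)) + c * m) % c := by
            rw [← h3]
        _ = Module.finrank F (LinearMap.ker (f.restrict (hD j) - 1)) % c :=
            Nat.add_mul_mod_self_left _ _ _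
        _ ≤ _ := Nat.mod_le _ _
    calc t * (a % c) = ∑ _j : Fin t, a % c := by simp
      _ ≤ ∑ j, Module.finrank F
          ((LinearMap.ker (f.restrict (hD j) - 1)).map (D j).subtype) :=
          Finset.sum_le_sum (fun j _ => hmod j)
      _ ≤ _ := hsum

end Cfsg.Agent.S5958P
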