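import Mathlib
import Cfsg.Agent.Helper29.TV2Q2Defs
import Cfsg.Agent.Helper29.TV2_ABSMAIN

/-! Board `s2981pieces`, row Q2_ABSF: the abstract theorem `ABSMAINS` with the family explicit (`AbsFam`) and its supremum
identified: `⨆ i, E i = C.E`.  (Same proof as `ABSMAINS`.) -/

set_option autoImplicit false

namespace Cfsg.Agent.TV2

variable {P : Type*} [Group P] [Finite P] {W : Type*} [AddCommGroup W] [Module (ZMod 2) W] [Finite W] [DistribMulAction P W]

/-- Q2_ABSF: `ABSMAINS` with the family explicit and its supremum identified. -/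
theorem ABSMAINF (C : Ctx P W) : ∃ (r n : ℕ) (E : Fin r → Subgroup P), AbsFam C r n E ∧ (⨆ i, E i) = C.E := by
  classical
  obtain ⟨r, x, hx1, hx2, hx3⟩ := ABSMAIN_aux_reps C
  obtain ⟨n, hn, hcard⟩ := KCARD C
  obtain ⟨z, hz⟩ := ZB_exists C
  have hne : ∀ i j, i ≠ j → C.K (x i) ≠ C.K (x j) := fun i j hij h => hij (hx2 i j h)
  -- the supremum of the `E i`
  have hsupE : (⨆ i, Subgroup.closure (C.K (x i))) = C.E := by
    rw [← EK_iSup C]
    apply le_antisymm
    · exact iSup_le fun i => le_iSup₂_of_le (x i) (hx1 i) le_rfl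
    · refine iSup₂_le fun y hy => ?_
      obtain ⟨i, hi⟩ := hx3 y hy
      rw [hi]
      exact le_iSup (fun i => Subgroup.closure (C.K (x i))) i
  have hsupU : (⨆ i, commS W (Subgroup.closure (C.K (x i)))) = C.U := by
    rw [EK_U C]
    apply le_antisymm
    · refine iSup_le fun i => ?_
      rw [EK_commS C (hx1 i)]
      exact le_iSup₂_of_le (x i) (hx1 i) le_rfl
    · refine iSup₂_le fun y hy => ?_
      obtain ⟨i, hi⟩ := hx3 y hy
      rw [hi, ← EK_commS C (hx1 i)]
      exact le_iSup (fun i => commS W (Subgroup.closure (C.K (x i)))) i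
  refine ⟨r, n, fun i => Subgroup.closure (C.K (x i)), ⟨?_, hn, ?_, ?_, ?_, ?_, ?_, ?_, ?_, ?_⟩, hsupE⟩
  · -- 1 ≤ r
    obtain ⟨y, hy⟩ := DE_exists_D1 C
    obtain ⟨i, -⟩ := hx3 y hy
    exact Nat.one_le_iff_ne_zero.mpr (fun h => by subst h; exact i.elim0)
  · intro i j hij g hg h hh
    exact EK_comm C (hx1 i) (hx1 j) (hne i j hij) hg hh
  · intro i
    rw [eq_bot_iff, ← EK_indep C (hx1 i)]
    apply inf_le_inf_left
    refine iSup₂_le fun j hj => ?_
    exact le_iSup₂_of_le (x j) ⟨hx1 j, hne j i hj⟩ le_rfl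
  · show (⨆ i, Subgroup.closure (C.K (x i))) ⊔ (C.T : Subgroup P) = ⊤
    rw [hsupE]
    exact DE_sup C
  · intro i j
    obtain ⟨t, ht, hK⟩ := KTRANS C (hx1 i) (hx1 j)
    refine ⟨t, ht, ?_⟩
    show (Subgroup.closure (C.K (x i))).map (MulAut.conj t).toMonoidHom = Subgroup.closure (C.K (x j))
    rw [MonoidHom.map_closure, hK]
    congr 1
    ext d
    constructor
    · rintro ⟨k, hk, rfl⟩
      exact ⟨k, hk, rfl⟩
    · rintro ⟨k, hk, rfl⟩
      exact ⟨k, hk, rfl⟩
  · intro w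
    obtain ⟨w0, hw0, hw1⟩ := DEC C w
    refine ⟨w0, fun i e he => hw0 e (ABSMAIN_aux_closure_le C (x i) he), ?_⟩
    show w - w0 ∈ ⨆ i, commS W (Subgroup.closure (C.K (x i)))
    rw [hsupU]
    exact hw1
  · intro i j hij u hu e he
    have hu' : u ∈ cspan W (C.K (x i)) := by
      rw [← EK_commS C (hx1 i)]; exact hu
    exact EK_fix C (hx1 j) (hx1 i) (hne j i (Ne.symm hij)) he hu'
  · intro i
    obtain ⟨ρ0, hρbij, hρpt⟩ := RHO C hz (hx1 i)
    obtain ⟨ψ0, hwt, hsurj, hker, hequiv⟩ := PSI C hz (hx1 i) ρ0 hρpt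
    have hfinK : Finite ↥(C.K (x i)) := Subtype.finite
    have hcardO : Nat.card (Option ↥(C.K (x i))) = 2 ^ n + 1 := by
      rw [Finite.card_option, Nat.card_coe_set_eq, hcard (x i) (hx1 i)]
    let σ : Option ↥(C.K (x i)) ≃ Fin (2 ^ n + 1) := Finite.equivFinOfCardEq hcardO
    let ρ : ↥(Subgroup.closure (C.K (x i))) →* Equiv.Perm (Fin (2 ^ n + 1)) :=
      σ.permCongrHom.toMonoidHom.comp ρ0
    let ψ : W →+ (Fin (2 ^ n + 1) → ZMod 2) :=
      AddMonoidHom.mk' (fun w k => ψ0 w (σ.symm k)) (by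
        intro a b
        funext k
        rw [map_add]
        rfl)
    have hψ : ∀ w k, ψ w k = ψ0 w (σ.symm k) := fun w k => rfl
    have hρ : ∀ e k, ρ e k = σ (ρ0 e (σ.symm k)) := fun e k => rfl
    have hsum : ∀ f : Option ↥(C.K (x i)) → ZMod 2, ∑ k, f (σ.symm k) = ∑ᶠ δ, f δ := by
      intro f
      have : Fintype (Option ↥(C.K (x i))) := Fintype.ofFinite _
      rw [finsum_eq_sum_of_fintype]
      exact Equiv.sum_comp σ.symm f
    refine ⟨ρ, ψ, ?_, ?_, ?_, ?_, ?_⟩
    · exact (σ.permCongrHom.bijective).comp hρbij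
    · intro w
      have := hsum (ψ0 w)
      simp only [hψ]
      rw [this]
      exact hwt w
    · intro v hv
      have hv0 : ∑ᶠ δ, (fun δ => v (σ δ)) δ = 0 := by
        rw [← hsum]
        simpa using hv
      obtain ⟨u, hu, huv⟩ := hsurj (fun δ => v (σ δ)) hv0
      refine ⟨u, ?_, ?_⟩
      · show u ∈ commS W (Subgroup.closure (C.K (x i)))
        rw [EK_commS C (hx1 i)]; exact hu
      · funext k
        rw [hψ, huv]
        simp
    · intro w
      rw [← hker w]
      constructor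
      · intro h
        funext δ
        have := congrFun h (σ δ)
        rw [hψ] at this
        simpa using this
      · intro h
        funext k
        rw [hψ, h]
        rfl
    · intro e w k
      rw [hψ, hψ, hequiv]
      congr 1
      have h1 : (ρ e)⁻¹ = ρ e⁻¹ := (map_inv ρ e).symm
      have h2 : (ρ0 e)⁻¹ = ρ0 e⁻¹ := (map_inv ρ0 e).symm
      rw [h1, h2, hρ]
      simp
  · -- (TINV)
    intro i t ht
    have htM : t ∈ C.M := C.hTM ht
    obtain ⟨j, hj⟩ := hx3 (t * x i * t⁻¹) (DE_conj_D1 C (hx1 i) htM)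
    refine ⟨j, ?_⟩
    show (Subgroup.closure (C.K (x i))).map (MulAut.conj t).toMonoidHom = Subgroup.closure (C.K (x j))
    rw [MonoidHom.map_closure, ← hj, TRANS_conj C (hx1 i) htM]
    congr 1
    ext d
    constructor
    · rintro ⟨k, hk, rfl⟩
      exact ⟨k, hk, rfl⟩
    · rintro ⟨k, hk, rfl⟩
      exact ⟨k, hk, rfl⟩

end Cfsg.Agent.TV2
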