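import Mathlib
import Cfsg.Agent.Helper29.TV2Q2Defs
import Cfsg.Agent.Helper29.S2981Q2_PTV
import Cfsg.Agent.Helper24.TV2_ZB
import Cfsg.Agent.Helper10.S2981Q2TAU2

/-! Board `s2981pieces`, row Q2_OFFST: the inductive step of `OFF2`. -/

set_option autoImplicit false

namespace Cfsg.Agent.TV2

variable {P : Type*} [Group P] [Finite P] {W : Type*} [AddCommGroup W] [Module (ZMod 2) W] [Finite W] [DistribMulAction P W]

omit [Finite P] in
/-- elements of a subgroup of exponent 2 commute. -/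
theorem OFFST_aux_comm (B : Subgroup P) (hexp : ∀ b ∈ B, b * b = 1) {b c : P} (hb : b ∈ B) (hc : c ∈ B) : b * c = c * b := by
  have h1 : b * c * (b * c) = 1 := hexp (b * c) (B.mul_mem hb hc)
  have hb' : b⁻¹ = b := inv_eq_of_mul_eq_one_left (hexp b hb)
  have hc' : c⁻¹ = c := inv_eq_of_mul_eq_one_left (hexp c hc)
  have hbc : (b * c)⁻¹ = b * c := inv_eq_of_mul_eq_one_left h1
  rw [← hbc, mul_inv_rev, hb', hc']

/-- Q2_OFFST: the inductive step of `OFF2`. -/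
theorem OFF2_step (C : Ctx P W) (B : Subgroup P) (hBT : B ≤ (C.T : Subgroup P)) (hexp : ∀ b ∈ B, b * b = 1) {τ : P} (hτB : τ ∈ B)
    (hτ : τ ∈ C.D) : ∃ B' : Subgroup P, B' ≤ B ∧ τ ∉ B' ∧ (∀ b ∈ B, b ∈ B' ∨ τ * b ∈ B') ∧ ∃ w ∈ fixS W B', τ • w ≠ w := by
  obtain ⟨z, hz⟩ := ZB_exists C
  have hM : ∀ g ∈ B, g ∈ C.M := fun g hg => C.hTM (hBT hg)
  have hτtv : Tv W τ := DE_tv C hτ
  obtain ⟨y, hy, hB1, hy', hne, hcen, huniq⟩ := TAU2 C hτ (hM τ hτB)
  have hytv : Tv W y := DE_tv C hy.1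
  have hτw : τ • (z + cen W y) ≠ z + cen W y := by
    rw [PTV C hz hy (hM τ hτB), hcen]
    intro h
    have h1 : cen W y + cen W τ = cen W y := add_left_cancel h
    exact hτtv.cen_ne_zero (add_eq_left.mp h1)
  refine ⟨B ⊓ MulAction.stabilizer P (z + cen W y), inf_le_left, ?_, ?_, z + cen W y, ?_, hτw⟩
  · intro h
    exact hτw (MulAction.mem_stabilizer_iff.mp h.2)
  · intro b hb
    have hcomm : b * τ = τ * b := OFFST_aux_comm B hexp hb hτB
    have hbτ : b * τ * b⁻¹ = τ := by rw [hcomm, mul_inv_cancel_right]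
    have h1 : TV2.B W τ (b * y * b⁻¹) = 1 := by
      have := Tv.B_conj hτtv hytv b
      rw [hbτ] at this
      rw [this, hB1]
    rcases huniq (b * y * b⁻¹) (DE_conj_D1 C hy (hM b hb)) h1 with h2 | h2
    · left
      exact ⟨hb, MulAction.mem_stabilizer_iff.mpr ((PTV_fix C hz hy (hM b hb)).mpr h2)⟩
    · right
      refine ⟨B.mul_mem hτB hb, MulAction.mem_stabilizer_iff.mpr ?_⟩
      rw [mul_smul, PTV C hz hy (hM b hb), h2, ← PTV C hz hy (hM τ hτB), hτtv.sq_smul]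
  · intro h hh
    exact MulAction.mem_stabilizer_iff.mp hh.2

end Cfsg.Agent.TV2
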