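import Mathlib
import Cfsg.Agent.Helper29.TV2Q2Defs
import Cfsg.Agent.Helper20.S2981Q2_TVD
import Cfsg.Agent.Helper29.S2981Q2_OFFST

/-! Board `s2981pieces`, row Q2_OFF2: exact offenders of exponent 2 inside `T` lie in `E`. -/

set_option autoImplicit false

namespace Cfsg.Agent.TV2

variable {P : Type*} [Group P] [Finite P] {W : Type*} [AddCommGroup W] [Module (ZMod 2) W] [Finite W] [DistribMulAction P W]

omit [Finite W] [Module (ZMod 2) W] in
/-- a subgroup `B'` of `B` with `B = B' ∪ τ B'`, `τ ∈ B \ B'`, `B` of exponent 2, has index 2. -/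
theorem OFF2_aux_card (B B' : Subgroup P) (hB'B : B' ≤ B) (hexp : ∀ b ∈ B, b * b = 1) {τ : P} (hτB : τ ∈ B) (hτB' : τ ∉ B')
    (hcos : ∀ b ∈ B, b ∈ B' ∨ τ * b ∈ B') : Nat.card ↥B = 2 * Nat.card ↥B' := by
  have hcomm : ∀ b ∈ B, b * τ = τ * b := by
    intro b hb
    have h1 := hexp (b * τ) (B.mul_mem hb hτB)
    have h2 := hexp b hb
    have h3 := hexp τ hτB
    calc b * τ = (τ * τ) * (b * τ) * (b * b) := by rw [h2, h3, one_mul, mul_one]
      _ = τ * (τ * b) * ((τ * b) * b) := by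
          have : (b * τ) * (b * τ) = 1 := h1
          have e : τ * b * (τ * b) = 1 := by
            calc τ * b * (τ * b) = τ * ((b * τ) * (b * τ)) * τ⁻¹ := by group
              _ = 1 := by rw [this]; group
          calc τ * τ * (b * τ) * (b * b) = τ * (τ * b) * ((τ * b) * b) := by group
            _ = τ * (τ * b) * ((τ * b) * b) := rfl
      _ = τ * ((τ * b) * (τ * b)) * b := by group
      _ = τ * b := by
          have e : τ * b * (τ * b) = 1 := hexp (τ * b) (B.mul_mem hτB hb)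
          rw [e, mul_one]
  have hidx : (B'.subgroupOf B).index = 2 := by
    rw [Subgroup.index_eq_two_iff]
    refine ⟨⟨τ, hτB⟩, fun b => ?_⟩
    by_cases hb : (b : P) ∈ B'
    · refine Or.inr ⟨Subgroup.mem_subgroupOf.mpr hb, fun h => hτB' ?_⟩
      have h' : (b : P) * τ ∈ B' := Subgroup.mem_subgroupOf.mp h
      have : τ = (b : P)⁻¹ * ((b : P) * τ) := by group
      rw [this]
      exact B'.mul_mem (B'.inv_mem hb) h'
    · refine Or.inl ⟨?_, fun h => hb (Subgroup.mem_subgroupOf.mp h)⟩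
      rw [Subgroup.mem_subgroupOf]
      show (b : P) * τ ∈ B'
      rw [hcomm b b.2]
      exact (hcos b b.2).resolve_left hb
  have h1 := Subgroup.card_mul_index (B'.subgroupOf B)
  rw [hidx, Nat.card_congr (Subgroup.subgroupOfEquivOfLe hB'B).toEquiv] at h1
  omega

omit [Module (ZMod 2) W] in
/-- a proper additive subgroup has at most half the order. -/
theorem OFF2_aux_half {H K : AddSubgroup W} (hle : H ≤ K) (hne : H ≠ K) : 2 * Nat.card ↥H ≤ Nat.card ↥K := by
  obtain ⟨m, hm⟩ := AddSubgroup.card_dvd_of_le hle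
  have hK : 0 < Nat.card ↥K := Nat.card_pos
  have hH : 0 < Nat.card ↥H := Nat.card_pos
  have hm0 : m ≠ 0 := by
    rintro rfl
    rw [mul_zero] at hm
    omega
  have hm1 : m ≠ 1 := by
    rintro rfl
    rw [mul_one] at hm
    exact hne (AddSubgroup.eq_of_le_of_card_ge hle hm.le)
  have : 2 ≤ m := by omega
  calc 2 * Nat.card ↥H ≤ m * Nat.card ↥H := Nat.mul_le_mul_right _ this
    _ = Nat.card ↥K := by rw [hm, mul_comm]

/-- Q2_OFF2: exact offenders of exponent 2 inside `T` lie in `E` (strong induction on `Nat.card ↥B`: `hS`, `TVD`, `OFF2_step`; `B'` has index 2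
in `B` and `fixS W B < fixS W B'`, so `B'` is exact by `hF2`). -/
theorem OFF2 (C : Ctx P W)
    (hF2 : ∀ B : Subgroup P, B ≤ (C.T : Subgroup P) → (∀ b ∈ B, b * b = 1) → Nat.card ↥B * Nat.card ↥(fixS W B) ≤ Nat.card W)
    (hS : ∀ B : Subgroup P, B ≤ (C.T : Subgroup P) → (∀ b ∈ B, b * b = 1) → B ≠ ⊥ →
      Nat.card ↥B * Nat.card ↥(fixS W B) = Nat.card W → ∃ d ∈ B, Tv W d)
    (B : Subgroup P) (hBT : B ≤ (C.T : Subgroup P)) (hexp : ∀ b ∈ B, b * b = 1)
    (hval : Nat.card ↥B * Nat.card ↥(fixS W B) = Nat.card W) : B ≤ C.E := by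
  induction' hn : Nat.card ↥B using Nat.strong_induction_on with n ih generalizing B
  by_cases hB : B = ⊥
  · rw [hB]; exact bot_le
  obtain ⟨τ, hτB, hτtv⟩ := hS B hBT hexp hB hval
  have hτD := TVD C hτtv
  obtain ⟨B', hB'B, hτB', hcos, w, hw, hτw⟩ := OFF2_step C B hBT hexp hτB hτD
  have hcard := OFF2_aux_card B B' hB'B hexp hτB hτB' hcos
  have hle : fixS W B ≤ fixS W B' := fun v hv b hb => hv b (hB'B hb)
  have hne : fixS W B ≠ fixS W B' := by
    intro h
    have hw' : w ∈ fixS W B := by rw [h]; exact hw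
    exact hτw (hw' τ hτB)
  have h2 := OFF2_aux_half hle hne
  have h1 := hF2 B' (hB'B.trans hBT) (fun b hb => hexp b (hB'B hb))
  have hB'val : Nat.card ↥B' * Nat.card ↥(fixS W B') = Nat.card W := by
    apply le_antisymm h1
    rw [← hval, hcard]
    calc 2 * Nat.card ↥B' * Nat.card ↥(fixS W B) = Nat.card ↥B' * (2 * Nat.card ↥(fixS W B)) := by ring
      _ ≤ Nat.card ↥B' * Nat.card ↥(fixS W B') := Nat.mul_le_mul_left _ h2
  have hpos : 0 < Nat.card ↥B' := Nat.card_pos
  have hB'E := ih (Nat.card ↥B') (by omega) B' (hB'B.trans hBT) (fun b hb => hexp b (hB'B hb)) hB'val rfl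
  intro b hb
  rcases hcos b hb with h | h
  · exact hB'E h
  · have e : b = τ⁻¹ * (τ * b) := by group
    rw [e]
    exact C.E.mul_mem (C.E.inv_mem (Subgroup.subset_closure hτD)) (hB'E h)

end Cfsg.Agent.TV2
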