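import Mathlib
import Cfsg.Agent.Helper25.S2981BDefs
import Cfsg.Agent.Helper28.S3000Q2
import Cfsg.Agent.Helper29.S2981Q2_ABSF
import Cfsg.Agent.Helper29.S2981Q2_TR2F
import Cfsg.Agent.Helper29.S2981Q2_OFF2
import Cfsg.Agent.Helper29.S2981Q2_STR2
import Cfsg.Agent.Helper20.S2981Q2_TVD
import Cfsg.Agent.Helper28.S2981Q2TR3
import Cfsg.Agent.Helper28.S2981Q2HF2
import Cfsg.Agent.Helper28.S2981Q2HS
import Cfsg.Agent.Helper13.S2981Q2B2core
import Cfsg.Agent.Helper21.S2981Q2B3core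

/-! Board `s2981pieces`, row Q2_PARTB2: the `q = 2` half of S2981 part (B) (assembly of the rows `Q2_*`). -/

set_option autoImplicit false

namespace Cfsg.Agent.S2981P

open Cfsg.Agent.TV2 Cfsg.Agent.S2789P Cfsg.Agent.S2999P Cfsg.Agent.S3000P
open scoped commutatorElement

variable {G : Type*} [Group G] [Finite G] {p : ℕ} [Fact p.Prime] {V P : Subgroup G} {T : Sylow p ↥P} {M : Subgroup ↥P}

/-- a normal subgroup is fixed by conjugation. -/
theorem PARTB2_aux_cjs_normal {H : Type*} [Group H] (N : Subgroup H) [hN : N.Normal] (x : H) : cjs x N = N := by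
  ext y
  constructor
  · rintro ⟨n, hn, rfl⟩
    exact hN.conj_mem n hn x
  · intro hy
    refine ⟨x⁻¹ * y * x, ?_, ?_⟩
    · have := hN.conj_mem y hy x⁻¹
      rwa [inv_inv] at this
    · simp [MulAut.conj_apply, mul_assoc]

/-- Q2_PARTB2: the `q = 2` half of part (B). -/
theorem PARTB2 (Hy : Hyp p V P T M) (hq : MinQ p V P 2) : ∃ (r : ℕ) (E : Fin r → Subgroup G), PartBFam p V P (TT T) r E := by
  obtain ⟨hp, a, haP, haV, hcard⟩ := Q2_aux_tv Hy hq
  subst hp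
  have hatv := TR1_tv (hV := Hy.hV) (hPV := Hy.hPV) haP haV hcard
  let C : Ctx ↥P (WV V P Hy.hV Hy.hPV) :=
    mkCtx V P Hy.hV Hy.hPV Hy.hf Hy.hmin T M Hy.hM Hy.hTM Hy.hOp ⟨a, haP⟩ hatv Hy.hCT
  obtain ⟨r, n, E', hfam, hsup⟩ := ABSMAINF C
  have Hy' : Hyp 2 V P C.T C.M := Hy
  have hsupG : (⨆ i, (E' i).map P.subtype) = (C.E).map P.subtype := by rw [← Subgroup.map_iSup, hsup]
  refine ⟨r, fun i => (E' i).map P.subtype, TR2F V P Hy.hV Hy.hPV C hfam, ?_, ?_, ?_⟩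
  · intro x hx
    rw [hsupG]
    have hN : (C.E).Normal := DE_normal C
    have := F1_aux_map_cjs P C.E ⟨x, hx⟩
    rw [PARTB2_aux_cjs_normal C.E] at this
    exact this.symm
  · intro B hB
    rw [hsupG]
    exact Q2_B2_aux_core C Hy' TR3_card_W TR3_card_fix
      (fun B' hB'T hexp hval => OFF2 C (fun B hBT hexp => TR3_hF2 C Hy' B hexp)
        (fun B hBT hexp hne hval => TR3_hS C Hy' B hBT hexp hne hval) B' hB'T hexp hval) hB
  · intro B₁ hBP hS
    rw [hsupG]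
    exact Q2_B3_aux_core C Hy' hBP hS
      (fun B₂ hB₂ hS₂ => by
        obtain ⟨d, hd, htv, -⟩ := STR2 C Hy' hB₂ hS₂
        exact ⟨d, hd, htv⟩)
      (fun d hd => TVD C hd)

end Cfsg.Agent.S2981P
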