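import Mathlib
import Cfsg.Agent.Helper25.S5165.Defs
import Cfsg.Agent.Helper24.S5165LIBA

set_option autoImplicit false
set_option linter.unusedSectionVars false
set_option linter.unusedVariables false

/-! # S5165 piece R0CENT (driver helper25): the abelian group `R0 r O` is self-centralizing (`r ≤ 1`). -/

namespace Cfsg.Agent.S5165P

open Equiv

section chapB2

variable {p : ℕ} [Fact p.Prime] {I' : Type} [Fintype I'] [DecidableEq I'] {r' r : ℕ}

namespace R0CENT

/-- the function `t` on the plane `j`, `0` elsewhere -/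
def pl (j : I') (t : ZMod p) : X p I' r' → ZMod p
  | Sum.inl (j', _) => if j' = j then t else 0
  | Sum.inr _ => 0

theorem base_pl_mem (O : Finset I') {j : I'} (hj : j ∈ O) (t : ZMod p) :
    base (pl (r' := r') j t) ∈ R0 (p := p) (r' := r') r O :=
  Subgroup.subset_closure (Or.inl ⟨pl j t, fun j' _ x x' => rfl, rfl⟩)

theorem lift_single_mem (O : Finset I') {j : I'} (hj : j ∈ O) (s : ZMod p) :
    lift (base (Pi.single j s)) ∈ R0 (p := p) (r' := r') r O :=
  Subgroup.subset_closure (Or.inr ⟨Pi.single j s, fun j' hj' => by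
    rw [Pi.single_eq_of_ne]
    rintro rfl
    exact hj' hj, rfl⟩)

theorem base_single_mem (O : Finset I') {i : X p I' r'}
    (hi : ∀ j ∈ O, ∀ x, i ≠ Sum.inl (j, x)) (t : ZMod p) :
    base (Pi.single i t) ∈ R0 (p := p) (r' := r') r O :=
  Subgroup.subset_closure (Or.inl ⟨Pi.single i t, fun j hj x x' => by
    rw [Pi.single_eq_of_ne (hi j hj x).symm, Pi.single_eq_of_ne (hi j hj x').symm], rfl⟩)

/-- a permutation commuting with `base f₀` preserves the union of the blocks `i` with `f₀ i ≠ 0` -/
theorem apply_inl_of_comm {J : Type} {g : Perm (X p J r)} {f₀ : J → ZMod p}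
    (hc : base f₀ * g = g * base f₀) {i : J} (hi : f₀ i ≠ 0) (y : ZMod p) :
    ∃ i' y', g (Sum.inl (i, y)) = Sum.inl (i', y') ∧ f₀ i' ≠ 0 := by
  have h1 : base f₀ (g (Sum.inl (i, y))) = g (Sum.inl (i, y + f₀ i)) := by
    have := congrArg (fun e : Perm (X p J r) => e (Sum.inl (i, y))) hc
    simpa using this
  have h2 : base f₀ (g (Sum.inl (i, y))) ≠ g (Sum.inl (i, y)) := by
    rw [h1]
    intro h
    have := g.injective h
    simp only [Sum.inl.injEq, Prod.mk.injEq, true_and, add_eq_left] at this
    exact hi this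
  rcases h0 : g (Sum.inl (i, y)) with ⟨i', y'⟩ | k
  · refine ⟨i', y', rfl, ?_⟩
    intro h
    apply h2
    rw [h0, base_inl, h, add_zero]
  · exfalso
    apply h2
    rw [h0, base_inr]

/-- a permutation commuting with `base f₀` maps the points `inr k` away from the blocks with `f₀ i ≠ 0` -/
theorem apply_inr_of_comm {J : Type} {g : Perm (X p J r)} {f₀ : J → ZMod p}
    (hc : base f₀ * g = g * base f₀) {i : J} (hi : f₀ i ≠ 0) (y : ZMod p) (k : Fin r) :
    g (Sum.inr k) ≠ Sum.inl (i, y) := by
  intro h
  have h1 : base f₀ (g (Sum.inr k)) = g (Sum.inr k) := by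
    have := congrArg (fun e : Perm (X p J r) => e (Sum.inr k)) hc
    simpa using this
  rw [h, base_inl] at h1
  simp only [Sum.inl.injEq, Prod.mk.injEq, true_and, add_eq_left] at h1
  exact hi h1

theorem comm_of_mem {O : Finset I'} {g h : Perm (X p (X p I' r') r)}
    (hg : g ∈ Subgroup.centralizer ((R0 (p := p) (r' := r') r O :
      Subgroup (Perm (X p (X p I' r') r))) : Set (Perm (X p (X p I' r') r))))
    (hh : h ∈ R0 (p := p) (r' := r') r O) : h * g = g * h :=
  Subgroup.mem_centralizer_iff.mp hg h hh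

theorem apply_comm {O : Finset I'} {g h : Perm (X p (X p I' r') r)}
    (hg : g ∈ Subgroup.centralizer ((R0 (p := p) (r' := r') r O :
      Subgroup (Perm (X p (X p I' r') r))) : Set (Perm (X p (X p I' r') r))))
    (hh : h ∈ R0 (p := p) (r' := r') r O) (P : X p (X p I' r') r) : g (h P) = h (g P) := by
  have := congrArg (fun e : Perm (X p (X p I' r') r) => e P) (comm_of_mem hg hh)
  simpa using this.symm

/-- the planes `j ∈ O` are translated -/
theorem plane {O : Finset I'} {g : Perm (X p (X p I' r') r)}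
    (hg : g ∈ Subgroup.centralizer ((R0 (p := p) (r' := r') r O :
      Subgroup (Perm (X p (X p I' r') r))) : Set (Perm (X p (X p I' r') r))))
    (j : I') : ∃ a b : ZMod p, j ∈ O → ∀ s t : ZMod p,
      g (Sum.inl (Sum.inl (j, s), t)) = Sum.inl (Sum.inl (j, s + a), t + b) := by
  by_cases hj : j ∈ O
  swap
  · exact ⟨0, 0, fun h => absurd h hj⟩
  have h1 : (1 : ZMod p) ≠ 0 := by
    have : Fact (1 < p) := ⟨(Fact.out : p.Prime).one_lt⟩
    exact one_ne_zero
  have hpl : pl (p := p) (r' := r') j 1 (Sum.inl (j, 0)) ≠ 0 := by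
    simp only [pl, if_true]
    exact h1
  obtain ⟨i', b, h0, hi'⟩ := apply_inl_of_comm (comm_of_mem hg (base_pl_mem (r := r) O hj 1)) hpl 0
  obtain ⟨a, rfl⟩ : ∃ a, i' = Sum.inl (j, a) := by
    rcases i' with ⟨j', a⟩ | k
    · by_cases hjj : j' = j
      · subst hjj
        exact ⟨a, rfl⟩
      · exfalso
        apply hi'
        simp only [pl, if_neg hjj]
    · exfalso
      apply hi'
      simp only [pl]
  refine ⟨a, b, fun _ s t => ?_⟩
  have e1 : g (Sum.inl (Sum.inl (j, s), 0)) = Sum.inl (Sum.inl (j, s + a), b) := by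
    have := apply_comm hg (lift_single_mem (r' := r') (r := r) O hj s) (Sum.inl (Sum.inl (j, 0), 0))
    rw [h0] at this
    simpa [add_comm] using this
  have := apply_comm hg (base_pl_mem (r' := r') (r := r) O hj t) (Sum.inl (Sum.inl (j, s), 0))
  rw [e1] at this
  simpa [pl, add_comm] using this

/-- the little blocks outside the planes `j ∈ O` are translated -/
theorem line {O : Finset I'} {g : Perm (X p (X p I' r') r)}
    (hg : g ∈ Subgroup.centralizer ((R0 (p := p) (r' := r') r O :
      Subgroup (Perm (X p (X p I' r') r))) : Set (Perm (X p (X p I' r') r))))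
    (i : X p I' r') : ∃ b : ZMod p, (∀ j ∈ O, ∀ x, i ≠ Sum.inl (j, x)) → ∀ t : ZMod p,
      g (Sum.inl (i, t)) = Sum.inl (i, t + b) := by
  by_cases hi : ∀ j ∈ O, ∀ x, i ≠ Sum.inl (j, x)
  swap
  · exact ⟨0, fun h => absurd h hi⟩
  have h1 : (1 : ZMod p) ≠ 0 := by
    have : Fact (1 < p) := ⟨(Fact.out : p.Prime).one_lt⟩
    exact one_ne_zero
  have hs : (Pi.single i (1 : ZMod p) : X p I' r' → ZMod p) i ≠ 0 := by
    rw [Pi.single_eq_same]
    exact h1
  obtain ⟨i', b, h0, hi'⟩ :=
    apply_inl_of_comm (comm_of_mem hg (base_single_mem (r := r) O hi 1)) hs 0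
  have hii : i' = i := by
    by_contra hne
    exact hi' (Pi.single_eq_of_ne hne _)
  rw [hii] at h0
  refine ⟨b, fun _ t => ?_⟩
  have := apply_comm hg (base_single_mem (r' := r') (r := r) O hi t) (Sum.inl (i, 0))
  rw [h0] at this
  simpa [add_comm] using this

/-- the further points are fixed -/
theorem point {O : Finset I'} {g : Perm (X p (X p I' r') r)} (hr : r ≤ 1)
    (hg : g ∈ Subgroup.centralizer ((R0 (p := p) (r' := r') r O :
      Subgroup (Perm (X p (X p I' r') r))) : Set (Perm (X p (X p I' r') r))))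
    (k : Fin r) : g (Sum.inr k) = Sum.inr k := by
  have h1 : (1 : ZMod p) ≠ 0 := by
    have : Fact (1 < p) := ⟨(Fact.out : p.Prime).one_lt⟩
    exact one_ne_zero
  rcases h0 : g (Sum.inr k) with ⟨i, y⟩ | k'
  · exfalso
    by_cases hi : ∀ j ∈ O, ∀ x, i ≠ Sum.inl (j, x)
    · have hs : (Pi.single i (1 : ZMod p) : X p I' r' → ZMod p) i ≠ 0 := by
        rw [Pi.single_eq_same]
        exact h1
      exact apply_inr_of_comm (comm_of_mem hg (base_single_mem (r := r) O hi 1)) hs y k h0
    · push Not at hi
      obtain ⟨j, hj, x, rfl⟩ := hi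
      have hpl : pl (p := p) (r' := r') j 1 (Sum.inl (j, x)) ≠ 0 := by
        simp only [pl, if_true]
        exact h1
      exact apply_inr_of_comm (comm_of_mem hg (base_pl_mem (r := r) O hj 1)) hpl y k h0
  · congr 1
    have : Subsingleton (Fin r) := by
      interval_cases r
      · infer_instance
      · infer_instance
    exact Subsingleton.elim _ _

end R0CENT

theorem R0CENT.centralizer_le (hr : r ≤ 1) (O : Finset I') :
    Subgroup.centralizer ((R0 (p := p) (r' := r') r O : Subgroup (Perm (X p (X p I' r') r))) :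
      Set (Perm (X p (X p I' r') r))) ≤ R0 r O := by
  intro g hg
  choose a b hab using R0CENT.plane hg
  choose c hc using R0CENT.line hg
  let f : X p I' r' → ZMod p := fun i =>
    match i with
    | Sum.inl (j, x) => if j ∈ O then b j else c (Sum.inl (j, x))
    | Sum.inr k => c (Sum.inr k)
  let f' : I' → ZMod p := fun j => if j ∈ O then a j else 0
  have hgeq : g = base f * lift (base f') := by
    ext P
    rcases P with ⟨i, t⟩ | k
    · rcases i with ⟨j, s⟩ | k'
      · by_cases hj : j ∈ O
        · rw [hab j hj]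
          simp [f, f', hj]
        · rw [hc (Sum.inl (j, s)) (by
            intro j' hj' x h
            simp only [Sum.inl.injEq, Prod.mk.injEq] at h
            exact hj (h.1 ▸ hj'))]
          simp [f, f', hj]
      · rw [hc (Sum.inr k') (by
            intro j' hj' x h
            simp at h)]
        simp [f]
    · rw [R0CENT.point hr hg]
      simp
  rw [hgeq]
  refine Subgroup.mul_mem _ (Subgroup.subset_closure (Or.inl ⟨f, ?_, rfl⟩))
    (Subgroup.subset_closure (Or.inr ⟨f', ?_, rfl⟩))
  · intro j hj x x'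
    simp only [f, if_pos hj]
  · intro j hj
    simp only [f', if_neg hj]

end chapB2

end Cfsg.Agent.S5165P
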