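import Mathlib

set_option autoImplicit false

/-!
# S2222 piece AR: arithmetic of `ν₂(n!)`
-/

namespace Cfsg.Agent.Helper29.AltPron

open scoped Nat

theorem val_two_pow_factorial' (k : ℕ) : padicValNat 2 (2 ^ k)! = 2 ^ k - 1 := by
  induction k with
  | zero => simp
  | succ k ih =>
    rw [pow_succ', padicValNat_factorial_mul, ih]
    have : 1 ≤ 2 ^ k := Nat.one_le_two_pow
    omega

theorem val_le_of_dvd {a b : ℕ} (hb : b ≠ 0) (h : a ∣ b) : padicValNat 2 a ≤ padicValNat 2 b := by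
  haveI : Fact (Nat.Prime 2) := ⟨Nat.prime_two⟩
  rw [← padicValNat_dvd_iff_le hb]
  exact (pow_padicValNat_dvd).trans h

theorem val_prod_factorial {ι : Type*} (s : Finset ι) (c : ι → ℕ) :
    padicValNat 2 (∏ i ∈ s, (c i)!) = ∑ i ∈ s, padicValNat 2 (c i)! := by
  haveI : Fact (Nat.Prime 2) := ⟨Nat.prime_two⟩
  classical
  induction s using Finset.induction_on with
  | empty => simp
  | insert a s ha ih =>
    rw [Finset.prod_insert ha, Finset.sum_insert ha,
      padicValNat.mul (Nat.factorial_ne_zero _) (Nat.prod_factorial_pos s c).ne', ih]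

theorem sum_val_le {ι : Type*} (s : Finset ι) (c : ι → ℕ) :
    ∑ i ∈ s, padicValNat 2 (c i)! ≤ padicValNat 2 (∑ i ∈ s, c i)! := by
  rw [← val_prod_factorial]
  exact val_le_of_dvd (Nat.factorial_ne_zero _) (Nat.prod_factorial_dvd_factorial_sum s c)

theorem sum_le_val_add_card_finset {ι : Type*} (s : Finset ι) (c : ι → ℕ)
    (hc : ∀ i ∈ s, ∃ a, c i = 2 ^ a) :
    (∑ i ∈ s, c i) ≤ padicValNat 2 (∑ i ∈ s, c i)! + s.card := by
  have h1 := sum_val_le s c
  have h2 : ∑ i ∈ s, c i = ∑ i ∈ s, (padicValNat 2 (c i)! + 1) := by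
    apply Finset.sum_congr rfl
    intro i hi
    obtain ⟨a, ha⟩ := hc i hi
    rw [ha, val_two_pow_factorial']
    have : 1 ≤ 2 ^ a := Nat.one_le_two_pow
    omega
  rw [Finset.sum_add_distrib, Finset.sum_const, smul_eq_mul, mul_one] at h2
  omega

theorem sum_le_val_add_card {ι : Type*} [Fintype ι] (c : ι → ℕ) (hc : ∀ i, ∃ a, c i = 2 ^ a) :
    (∑ i, c i) ≤ padicValNat 2 (∑ i, c i)! + Fintype.card ι := by
  have := sum_le_val_add_card_finset Finset.univ c (fun i _ => hc i)
  simpa using this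

theorem sum_lt_val_add_card {ι : Type*} [Fintype ι] (c : ι → ℕ) (hc : ∀ i, ∃ a, c i = 2 ^ a)
    (i j : ι) (hij : i ≠ j) (h : c i = c j) :
    (∑ i, c i) + 1 ≤ padicValNat 2 (∑ i, c i)! + Fintype.card ι := by
  classical
  -- split off `i` and `j`
  set s : Finset ι := (Finset.univ.erase i).erase j with hs
  have hj : j ∈ Finset.univ.erase i := Finset.mem_erase.mpr ⟨hij.symm, Finset.mem_univ _⟩
  have hsum : ∑ k, c k = (c i + c j) + ∑ k ∈ s, c k := by
    rw [← Finset.add_sum_erase Finset.univ c (Finset.mem_univ i),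
      ← Finset.add_sum_erase (Finset.univ.erase i) c hj, add_assoc]
  have hcard : Fintype.card ι = s.card + 2 := by
    rw [hs, Finset.card_erase_of_mem hj, Finset.card_erase_of_mem (Finset.mem_univ i),
      Finset.card_univ]
    have : 2 ≤ Fintype.card ι := by
      have := Finset.card_pos.mpr ⟨j, hj⟩
      rw [Finset.card_erase_of_mem (Finset.mem_univ i), Finset.card_univ] at this
      omega
    omega
  have h1 := sum_le_val_add_card_finset s c (fun k _ => hc k)
  obtain ⟨a, ha⟩ := hc i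
  have h2 : padicValNat 2 (c i + c j)! = 2 ^ (a + 1) - 1 := by
    rw [← h, ha, ← two_mul, ← pow_succ', val_two_pow_factorial']
  have h3 : padicValNat 2 (c i + c j)! + padicValNat 2 (∑ k ∈ s, c k)! ≤
      padicValNat 2 ((c i + c j) + ∑ k ∈ s, c k)! := by
    haveI : Fact (Nat.Prime 2) := ⟨Nat.prime_two⟩
    rw [← padicValNat.mul (Nat.factorial_ne_zero _) (Nat.factorial_ne_zero _)]
    exact val_le_of_dvd (Nat.factorial_ne_zero _)
      (Nat.factorial_mul_factorial_dvd_factorial_add _ _)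
  rw [hsum, hcard]
  have h4 : c i + c j = 2 ^ (a + 1) := by rw [← h, ha, pow_succ]; ring
  have h5 : 1 ≤ 2 ^ (a + 1) := Nat.one_le_two_pow
  omega

theorem val_succ_succ (n : ℕ) : padicValNat 2 n ! + 1 ≤ padicValNat 2 (n + 2)! := by
  haveI : Fact (Nat.Prime 2) := ⟨Nat.prime_two⟩
  rw [Nat.factorial_succ, Nat.factorial_succ,
    padicValNat.mul (by omega) (Nat.mul_ne_zero (by omega) (Nat.factorial_ne_zero _)),
    padicValNat.mul (by omega) (Nat.factorial_ne_zero _)]
  rcases Nat.even_or_odd n with he | ho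
  · have : 2 ∣ n + 1 + 1 := by
      obtain ⟨k, hk⟩ := he
      exact ⟨k + 1, by omega⟩
    have := one_le_padicValNat_of_dvd (p := 2) (n := n + 1 + 1) (by omega) this
    omega
  · have : 2 ∣ n + 1 := by
      obtain ⟨k, hk⟩ := ho
      exact ⟨k + 1, by omega⟩
    have := one_le_padicValNat_of_dvd (p := 2) (n := n + 1) (by omega) this
    omega

theorem val_six : padicValNat 2 6 ! = 4 := by
  have h1 : (6 : ℕ) = 2 * 3 := by norm_num
  have h2 : (3 : ℕ) = 2 * 1 + 1 := by norm_num
  rw [h1, padicValNat_factorial_mul, h2, padicValNat_factorial_mul_add 1 (by norm_num : 1 < 2),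
    padicValNat_factorial_mul]
  simp

theorem val_seven : padicValNat 2 7 ! = 4 := by
  have h1 : (7 : ℕ) = 2 * 3 + 1 := by norm_num
  rw [h1, padicValNat_factorial_mul_add 3 (by norm_num : 1 < 2)]
  exact val_six

theorem lt_two_pow_val_aux (n : ℕ) (hn : 6 ≤ n) :
    n < 2 ^ (padicValNat 2 n ! - 1) ∧ 2 ≤ padicValNat 2 n ! := by
  induction n using Nat.strong_induction_on with
  | _ n ih =>
    rcases Nat.lt_or_ge n 8 with h | h
    · have : n = 6 ∨ n = 7 := by omega
      rcases this with rfl | rfl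
      · rw [val_six]; norm_num
      · rw [val_seven]; norm_num
    · obtain ⟨m, rfl⟩ : ∃ m, n = m + 2 := ⟨n - 2, by omega⟩
      obtain ⟨h1, h2⟩ := ih m (by omega) (by omega)
      have h3 := val_succ_succ m
      refine ⟨?_, by omega⟩
      have h4 : 2 ^ (padicValNat 2 m ! - 1 + 1) ≤ 2 ^ (padicValNat 2 (m + 2)! - 1) :=
        Nat.pow_le_pow_right (by norm_num) (by omega)
      rw [pow_succ] at h4
      omega

theorem lt_two_pow_val (n : ℕ) (hn : 6 ≤ n) : n < 2 ^ (padicValNat 2 n ! - 1) :=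
  (lt_two_pow_val_aux n hn).1

end Cfsg.Agent.Helper29.AltPron
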