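import Mathlib
import Cfsg.Agent.Helper26.S4394Defs
import Cfsg.Agent.Lead.PSolvHall
import Cfsg.Agent.Helper21.S4394GI
import Cfsg.Agent.Helper19.S4394GQ

/-!
# S4394 piece RED2 (helper29): the quotient by a normal subgroup inside `Z` has `p`-length one.
-/

set_option autoImplicit false

namespace Cfsg.Agent.S4394P

open Cfsg Subgroup

universe u

/-- RED2: case (i), the quotient by a normal subgroup inside `Z` has `p`-length one. -/
theorem RED2 {G : Type u} [Group G] [Finite G] {p : ℕ} [Fact p.Prime] (hsol : Cfsg.IsPSolvable p G)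
    (T : Sylow p G) (Z : Subgroup ↥(T : Subgroup G)) (hZ : GoodZ p ↥(T : Subgroup G) Z)
    (N₀ : Subgroup G) [N₀.Normal] (hN₀ : N₀ ≠ ⊥) (hN₀Z : N₀ ≤ Z.map (T : Subgroup G).subtype)
    (IH : ∀ (H : Type u) [Group H] [Finite H], Nat.card H < Nat.card G → Cfsg.IsPSolvable p H →
      ∀ S : Sylow p H, Good p ↥(S : Subgroup H) → Cfsg.PLengthLE p 1 H) :
    Cfsg.PLengthLE p 1 (G ⧸ N₀) := by
  classical
  -- the quotient is smaller
  have hcard : Nat.card (G ⧸ N₀) < Nat.card G := by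
    have h1 : Nat.card N₀ * Nat.card (G ⧸ N₀) = Nat.card G := by
      rw [mul_comm]
      exact (Subgroup.card_eq_card_quotient_mul_card_subgroup N₀).symm
    have h2 : 1 < Nat.card N₀ := by
      rcases Nat.lt_or_ge 1 (Nat.card N₀) with h | h
      · exact h
      · exfalso
        have hpos : 0 < Nat.card N₀ := Nat.card_pos
        have : Nat.card N₀ = 1 := le_antisymm h hpos
        exact hN₀ (Subgroup.card_eq_one.mp this)
    have h3 : 0 < Nat.card (G ⧸ N₀) := Nat.card_pos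
    nlinarith
  have hsolq : Cfsg.IsPSolvable p (G ⧸ N₀) := Cfsg.Agent.Lead.isPSolvable_quotient hsol N₀
  -- the Sylow subgroup of the quotient
  set S : Sylow p (G ⧸ N₀) := T.mapSurjective (QuotientGroup.mk'_surjective N₀) with hS
  have hScoe : (S : Subgroup (G ⧸ N₀)) = (T : Subgroup G).map (QuotientGroup.mk' N₀) := rfl
  -- N' = N₀ ∩ T inside T
  set N' : Subgroup ↥(T : Subgroup G) := N₀.subgroupOf (T : Subgroup G) with hN'
  have hN'n : N'.Normal := by
    rw [hN']; infer_instance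
  have hN'Z : N' ≤ Z := by
    intro x hx
    have hx' : (x : G) ∈ N₀ := hx
    obtain ⟨z, hz, hzx⟩ := hN₀Z hx'
    have : z = x := Subtype.ext hzx
    rw [← this]; exact hz
  have hgood : GoodZ p (↥(T : Subgroup G) ⧸ N') (Z.map (QuotientGroup.mk' N')) :=
    GQ Z N' hN'Z hZ
  -- the isomorphism T/N' ≃* S
  let φ : ↥(T : Subgroup G) →* G ⧸ N₀ := (QuotientGroup.mk' N₀).comp (T : Subgroup G).subtype
  have hker : φ.ker = N' := by
    ext x
    rw [MonoidHom.mem_ker]
    change (QuotientGroup.mk' N₀) (x : G) = 1 ↔ _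
    rw [QuotientGroup.mk'_apply, QuotientGroup.eq_one_iff]
    rfl
  have hrange : φ.range = (S : Subgroup (G ⧸ N₀)) := by
    rw [hScoe]
    ext x
    constructor
    · rintro ⟨t, rfl⟩
      exact ⟨(t : G), t.2, rfl⟩
    · rintro ⟨t, ht, rfl⟩
      exact ⟨⟨t, ht⟩, rfl⟩
  let e1 : (↥(T : Subgroup G) ⧸ N') ≃* (↥(T : Subgroup G) ⧸ φ.ker) :=
    QuotientGroup.quotientMulEquivOfEq hker.symm
  let e2 : (↥(T : Subgroup G) ⧸ φ.ker) ≃* ↥φ.range := QuotientGroup.quotientKerEquivRange φ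
  let e3 : ↥φ.range ≃* ↥(S : Subgroup (G ⧸ N₀)) := MulEquiv.subgroupCongr hrange
  have hGoodS : Good p ↥(S : Subgroup (G ⧸ N₀)) :=
    GI ((e1.trans e2).trans e3) ⟨_, hgood⟩
  exact IH (G ⧸ N₀) hcard hsolq S hGoodS

end Cfsg.Agent.S4394P
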