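import Mathlib
import Cfsg.Agent.Helper26.S4394Defs
import Cfsg.Agent.Helper29.Schmidt2

/-!
# S4394 piece GSa (helper29): the Schmidt structure gives `SchData`.
-/

set_option autoImplicit false

namespace Cfsg.Agent.S4394P

open Cfsg Subgroup Cfsg.Agent.Helper29
open scoped Pointwise

/-- GSa: from Schmidt's theorem (`Cfsg.Agent.Helper29.schmidt_structure`). -/
theorem GSa {X : Type*} [Group X] [Finite X] (p : ℕ) [Fact p.Prime]
    (hX : Cfsg.IsMinimalNonNilpotent X) (P : Sylow p X) (hPn : (P : Subgroup X).Normal)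
    (hP1 : (P : Subgroup X) ≠ ⊥) :
    ∃ (y : X) (q : ℕ), q.Prime ∧ q ≠ p ∧ (∃ k : ℕ, orderOf y = q ^ k) ∧
      (∀ u ∈ (P : Subgroup X), y ^ q * u = u * y ^ q) ∧ SchData p (P : Subgroup X) y := by
  classical
  obtain ⟨p₀, q₀, hp₀, hq₀, hpq, S₀, Q₀, hSc, hQ₀n, hSQ⟩ := schmidt_structure hX
  have : Fact p₀.Prime := ⟨hp₀⟩
  have : Fact q₀.Prime := ⟨hq₀⟩
  have hdis : Disjoint (S₀ : Subgroup X) (Q₀ : Subgroup X) :=
    IsPGroup.disjoint_of_ne p₀ q₀ hpq _ _ S₀.isPGroup' Q₀.isPGroup'
  have hcard := card_mul_card_of_sup_eq_top hdis hSQ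
  -- p divides |X|
  have hp_dvd : p ∣ Nat.card X := by
    obtain ⟨n, hn⟩ := IsPGroup.iff_card.mp P.isPGroup'
    have hn0 : n ≠ 0 := by
      rintro rfl
      rw [pow_zero] at hn
      exact hP1 ((Subgroup.card_eq_one).mp hn)
    have h1 : p ∣ Nat.card (P : Subgroup X) := by
      rw [hn]; exact dvd_pow_self p hn0
    exact h1.trans (Subgroup.card_subgroup_dvd_card _)
  have hpq₀ : p = q₀ := by
    by_contra hne
    have hq_dvd : p ∣ Nat.card S₀ * Nat.card Q₀ := hcard ▸ hp_dvd
    have hqp : p = p₀ := by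
      rcases (Nat.Prime.dvd_mul Fact.out).mp hq_dvd with h | h
      · obtain ⟨n, hn⟩ := IsPGroup.iff_card.mp S₀.isPGroup'
        rw [hn] at h
        exact (Nat.prime_dvd_prime_iff_eq Fact.out hp₀).mp
          ((Fact.out : p.Prime).dvd_of_dvd_pow h)
      · obtain ⟨n, hn⟩ := IsPGroup.iff_card.mp Q₀.isPGroup'
        rw [hn] at h
        exact absurd ((Nat.prime_dvd_prime_iff_eq Fact.out hq₀).mp
          ((Fact.out : p.Prime).dvd_of_dvd_pow h)) hne
    subst hqp
    have := Sylow.unique_of_normal P hPn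
    have hPQ' : S₀ = P := Subsingleton.elim _ _
    have hSn : (S₀ : Subgroup X).Normal := hPQ' ▸ hPn
    exact hX.1 (isNilpotent_of_normal_pgroups_sup hpq S₀.isPGroup' Q₀.isPGroup' hSn hQ₀n hSQ)
  subst hpq₀
  have hQQ₀ : Q₀ = P := by
    have := Sylow.unique_of_normal P hPn
    exact Subsingleton.elim _ _
  subst hQQ₀
  -- generator of S₀
  obtain ⟨g, hg⟩ := IsCyclic.exists_generator (α := (S₀ : Subgroup X))
  set y : X := (g : X) with hy
  have hyS : y ∈ (S₀ : Subgroup X) := g.2
  have hzp : Subgroup.zpowers y = (S₀ : Subgroup X) := by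
    apply le_antisymm
    · rw [Subgroup.zpowers_le]; exact hyS
    · intro s hs
      obtain ⟨i, hi⟩ := mem_zpowers_iff.mp (hg ⟨s, hs⟩)
      refine mem_zpowers_iff.mpr ⟨i, ?_⟩
      have := congrArg Subtype.val hi
      simpa using this
  have hdis' : ∀ x : X, x ∈ (S₀ : Subgroup X) → x ∈ (Q₀ : Subgroup X) → x = 1 := by
    intro x h1 h2
    have : x ∈ (S₀ : Subgroup X) ⊓ (Q₀ : Subgroup X) := ⟨h1, h2⟩
    rw [hdis.eq_bot] at this
    exact (Subgroup.mem_bot).mp this
  -- order of y
  obtain ⟨k, hk⟩ := IsPGroup.iff_card.mp S₀.isPGroup'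
  have hordy : orderOf y = p₀ ^ k := by
    rw [← Nat.card_zpowers, hzp, hk]
  -- nc
  have hnc : ∃ u ∈ (Q₀ : Subgroup X), y * u ≠ u * y := by
    by_contra hcon
    push Not at hcon
    apply hX.1
    have hSn : (S₀ : Subgroup X).Normal := by
      have hle : (⊤ : Subgroup X) ≤ Subgroup.normalizer ((S₀ : Subgroup X) : Set X) := by
        rw [← hSQ]
        apply sup_le
        · exact Subgroup.le_normalizer
        · intro u hu
          rw [Subgroup.mem_normalizer_iff]
          intro s
          have hcomm : ∀ s' ∈ (S₀ : Subgroup X), u * s' = s' * u := by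
            intro s' hs'
            rw [← hzp] at hs'
            obtain ⟨i, rfl⟩ := mem_zpowers_iff.mp hs'
            have h1 : Commute y u := hcon u hu
            exact ((h1.zpow_left i).eq).symm
          constructor
          · intro hs
            rw [hcomm s hs, mul_inv_cancel_right]; exact hs
          · intro hs
            have h2 := hcomm _ hs
            -- u * (u s u⁻¹) = (u s u⁻¹) * u  ⟹  u s u⁻¹ = s
            have h3 : u * s * u⁻¹ = s := by
              have : u * (u * s * u⁻¹) = u * s := by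
                rw [h2]; group
              exact mul_left_cancel this
            rw [h3] at hs; exact hs
      exact Subgroup.normalizer_eq_top_iff.mp (top_le_iff.mp hle)
    exact isNilpotent_of_normal_pgroups_sup hpq S₀.isPGroup' Q₀.isPGroup' hSn hQ₀n hSQ
  have hk0 : k ≠ 0 := by
    rintro rfl
    rw [pow_zero, orderOf_eq_one_iff] at hordy
    obtain ⟨u, _, hu⟩ := hnc
    rw [hordy] at hu
    simp at hu
  -- irr
  have hirr : ∀ M : Subgroup X, M ≤ (Q₀ : Subgroup X) → M ≠ (Q₀ : Subgroup X) →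
      (∀ m ∈ M, y * m * y⁻¹ ∈ M) → ∀ m ∈ M, y * m = m * y := by
    intro M hMP hMne hinv m hm
    have hnorm : Subgroup.zpowers y ≤ Subgroup.normalizer (M : Set X) := by
      rw [Subgroup.zpowers_le]
      -- y M y⁻¹ ⊆ M, finite ⟹ equality
      have hfin : Finite X := inferInstance
      rw [Subgroup.mem_normalizer_iff]
      intro h
      constructor
      · exact hinv h
      · intro hh
        -- conjugation by y is an injective self-map of the finite set M, hence surjective
        let f : M → M := fun m => ⟨y * m * y⁻¹, hinv m m.2⟩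
        have hfinj : Function.Injective f := by
          intro a b hab
          have := congrArg Subtype.val hab
          simp only [f] at this
          apply Subtype.ext
          have h1 := mul_left_cancel (mul_right_cancel this)
          exact h1
        have hfsurj : Function.Surjective f := Finite.surjective_of_injective hfinj
        obtain ⟨m', hm'⟩ := hfsurj ⟨y * h * y⁻¹, hh⟩
        have := congrArg Subtype.val hm'
        simp only [f] at this
        have h1 : (m' : X) = h := mul_left_cancel (mul_right_cancel this)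
        rw [← h1]; exact m'.2
    set H : Subgroup X := M ⊔ Subgroup.zpowers y with hH
    have hHne : H ≠ ⊤ := by
      intro htop
      apply hMne
      apply le_antisymm hMP
      intro u hu
      have huH : u ∈ H := htop ▸ Subgroup.mem_top u
      have hcoe : ((M ⊔ Subgroup.zpowers y : Subgroup X) : Set X) = (M : Set X) * (Subgroup.zpowers y : Set X) :=
        Subgroup.coe_mul_of_right_le_normalizer_left M (Subgroup.zpowers y) hnorm
      have : u ∈ ((M ⊔ Subgroup.zpowers y : Subgroup X) : Set X) := huH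
      rw [hcoe] at this
      obtain ⟨a, ha, b, hb, hab⟩ := Set.mem_mul.mp this
      have hbS : b ∈ (S₀ : Subgroup X) := hzp ▸ hb
      have hbQ : b ∈ (Q₀ : Subgroup X) := by
        have : b = a⁻¹ * u := by rw [← hab]; group
        rw [this]
        exact (Q₀ : Subgroup X).mul_mem ((Q₀ : Subgroup X).inv_mem (hMP ha)) hu
      have hb1 := hdis' b hbS hbQ
      rw [hb1, mul_one] at hab
      rw [← hab]; exact ha
    have hHnil : Group.IsNilpotent H := hX.2 H hHne
    have hMpg : IsPGroup p M := Q₀.isPGroup'.to_le hMP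
    have hYpg : IsPGroup p₀ (Subgroup.zpowers y) := by
      rw [hzp]; exact S₀.isPGroup'
    have := commute_of_nilpotent_of_pgroups hHnil (le_sup_left : M ≤ H)
      (le_sup_right : Subgroup.zpowers y ≤ H) hpq.symm hMpg hYpg m hm y (Subgroup.mem_zpowers y)
    exact this.symm
  -- y^q centralizes P
  have hyq : ∀ u ∈ (Q₀ : Subgroup X), y ^ p₀ * u = u * y ^ p₀ := by
    intro u hu
    set H : Subgroup X := (Q₀ : Subgroup X) ⊔ Subgroup.zpowers (y ^ p₀) with hH
    have hHne : H ≠ ⊤ := by
      intro htop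
      have hyH : y ∈ H := htop ▸ Subgroup.mem_top y
      have hQn : (Q₀ : Subgroup X).Normal := hQ₀n
      obtain ⟨a, ha, b, hb, hab⟩ := Subgroup.mem_sup_of_normal_left.mp hyH
      obtain ⟨i, rfl⟩ := mem_zpowers_iff.mp hb
      -- a = y * (y^p₀)^(-i)
      have ha' : a = y * ((y ^ p₀) ^ i)⁻¹ := eq_mul_inv_of_mul_eq hab
      have haS : a ∈ (S₀ : Subgroup X) := by
        rw [ha']
        exact (S₀ : Subgroup X).mul_mem hyS ((S₀ : Subgroup X).inv_mem
          ((S₀ : Subgroup X).zpow_mem ((S₀ : Subgroup X).pow_mem hyS _) _))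
      have ha1 := hdis' a haS ha
      -- y = (y^p₀)^i = y^(p₀ i)
      rw [ha1, one_mul] at hab
      have h2 : y ^ ((p₀ : ℤ) * i - 1) = 1 := by
        rw [zpow_sub, zpow_mul, zpow_natCast, zpow_one, hab, mul_inv_cancel]
      have h3 : ((orderOf y : ℕ) : ℤ) ∣ (p₀ : ℤ) * i - 1 := orderOf_dvd_iff_zpow_eq_one.mpr h2
      have h4 : (p₀ : ℤ) ∣ ((orderOf y : ℕ) : ℤ) := by
        rw [hordy]
        exact_mod_cast dvd_pow_self p₀ hk0
      have h5 : (p₀ : ℤ) ∣ (p₀ : ℤ) * i - 1 := h4.trans h3
      have h6 : (p₀ : ℤ) ∣ 1 := by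
        have := dvd_sub (dvd_mul_right (p₀ : ℤ) i) h5
        simpa using this
      have h7 : p₀ ∣ 1 := by exact_mod_cast h6
      exact hp₀.one_lt.ne' (Nat.dvd_one.mp h7)
    have hHnil : Group.IsNilpotent H := hX.2 H hHne
    have hYpg : IsPGroup p₀ (Subgroup.zpowers (y ^ p₀)) := by
      apply S₀.isPGroup'.to_le
      rw [Subgroup.zpowers_le]
      exact (S₀ : Subgroup X).pow_mem hyS _
    have := commute_of_nilpotent_of_pgroups hHnil (le_sup_left : (Q₀ : Subgroup X) ≤ H)
      (le_sup_right : Subgroup.zpowers (y ^ p₀) ≤ H) hpq.symm Q₀.isPGroup' hYpg u hu (y ^ p₀)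
      (Subgroup.mem_zpowers _)
    exact this.symm
  refine ⟨y, p₀, hp₀, hpq, ⟨k, hordy⟩, hyq, ?_⟩
  refine ⟨Q₀.isPGroup', ?_, ?_, hnc, hirr⟩
  · intro u hu
    exact hQ₀n.conj_mem u hu y
  · rw [hordy]
    exact Nat.Coprime.pow_left k ((Nat.coprime_primes hp₀ hq₀).mpr hpq)

end Cfsg.Agent.S4394P
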