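import Mathlib
import Cfsg.Agent.Helper29.PqAsm
import Cfsg.Agent.Helper29.PqWt
import Cfsg.Agent.Helper1.PqB
import Cfsg.Agent.Lead.Coprime3
import Cfsg.Agent.Lead.CoprimeAbelian

/-!
# S4306, piece (N): group-theoretic preliminaries

`Z = C_S(Q)` is central in `X = SQ` and normal in `Γ`; `Q₀ = C_Q(S)` is normal in `Γ`.
-/

set_option autoImplicit false

namespace Cfsg.Agent.Helper29.Pq

open scoped commutatorElement
open Cfsg.Agent.Helper29.S3f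

variable {Γ : Type*} [Group Γ] {A : Type*} [Group A]

/-- `C_S(Q)`. -/
def cenSQ (S Q : Subgroup Γ) : Subgroup Γ := S ⊓ Subgroup.centralizer (Q : Set Γ)

theorem mem_cenSQ {S Q : Subgroup Γ} {u : Γ} :
    u ∈ cenSQ S Q ↔ u ∈ S ∧ ∀ x ∈ Q, x * u * x⁻¹ = u := by
  unfold cenSQ
  rw [Subgroup.mem_inf, Subgroup.mem_centralizer_iff]
  constructor
  · rintro ⟨h1, h2⟩
    refine ⟨h1, fun x hx => ?_⟩
    rw [h2 x hx]; group
  · rintro ⟨h1, h2⟩
    refine ⟨h1, fun x hx => ?_⟩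
    have := h2 x hx
    calc x * u = x * u * x⁻¹ * x := by group
      _ = u * x := by rw [this]

theorem mem_cenSQ' {S Q : Subgroup Γ} {u : Γ} :
    u ∈ cenSQ S Q ↔ u ∈ S ∧ ∀ x ∈ Q, u * x = x * u := by
  unfold cenSQ
  rw [Subgroup.mem_inf, Subgroup.mem_centralizer_iff]
  constructor
  · rintro ⟨h1, h2⟩
    exact ⟨h1, fun x hx => (h2 x hx).symm⟩
  · rintro ⟨h1, h2⟩
    exact ⟨h1, fun x hx => (h2 x hx).symm⟩

theorem cenSQ_le (S Q : Subgroup Γ) : cenSQ S Q ≤ S := inf_le_left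

theorem cenSQ_ginv (j : A →* Γ) (S Q : Subgroup Γ) (hS : GInv j S) (hQ : GInv j Q) :
    GInv j (cenSQ S Q) := by
  intro a u hu
  obtain ⟨huS, huQ⟩ := mem_cenSQ.mp hu
  refine mem_cenSQ.mpr ⟨hS a u huS, fun x hx => ?_⟩
  have hx' : (j a)⁻¹ * x * j a ∈ Q := hQ.inv_conj a hx
  have h1 := huQ _ hx'
  calc x * (j a * u * (j a)⁻¹) * x⁻¹
      = j a * (((j a)⁻¹ * x * j a) * u * ((j a)⁻¹ * x * j a)⁻¹) * (j a)⁻¹ := by group
    _ = j a * u * (j a)⁻¹ := by rw [h1]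

/-- `[S,S] ≤ C_S(Q)`. -/
theorem commutator_mem_cenSQ [Finite Γ] (j : A →* Γ) (S Q : Subgroup Γ) [S.Normal] {s : ℕ}
    [Fact s.Prime] (hSp : IsPGroup s S) (hSne : S ≠ ⊥)
    (hSmin : ∀ S1 : Subgroup Γ, S1 ≤ S → S1 ≠ S → (∀ x ∈ Q, ∀ u ∈ S1, x * u * x⁻¹ ∈ S1) →
      GInv j S1 → ∀ x ∈ Q, ∀ u ∈ S1, x * u * x⁻¹ = u)
    {a b : Γ} (ha : a ∈ S) (hb : b ∈ S) : ⁅a, b⁆ ∈ cenSQ S Q := by
  have hder : ⁅S, S⁆ ≠ S := Cfsg.Agent.Helper1.PqB.commutator_ne_self_of_pgroup S hSp hSne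
  have hchar : ∀ g : Γ, ∀ u ∈ ⁅S, S⁆, g * u * g⁻¹ ∈ ⁅S, S⁆ := by
    intro g u hu
    have : (⁅S, S⁆).Normal := Subgroup.commutator_normal S S
    exact this.conj_mem u hu g
  have hcent := hSmin ⁅S, S⁆ (Subgroup.commutator_le_left S S) hder
    (fun x _ u hu => hchar x u hu) (fun a u hu => hchar (j a) u hu)
  have h1 : ⁅a, b⁆ ∈ ⁅S, S⁆ := Subgroup.commutator_mem_commutator ha hb
  exact mem_cenSQ.mpr ⟨Subgroup.commutator_le_left S S h1, fun x hx => hcent x hx _ h1⟩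

/-- `C_S(Q) ≤ Z(S)` when `[S,S] ≤ C_S(Q)` and `[S,Q] = S`. -/
theorem cenSQ_central (S Q : Subgroup Γ) (hcomm : ⁅S, Q⁆ = S)
    (hder : ∀ a ∈ S, ∀ b ∈ S, ⁅a, b⁆ ∈ cenSQ S Q)
    {z : Γ} (hz : z ∈ cenSQ S Q) {u : Γ} (hu : u ∈ S) : z * u = u * z := by
  obtain ⟨hzS, hzQ⟩ := mem_cenSQ.mp hz
  have hle : ⁅S, Q⁆ ≤ Subgroup.centralizer ({z} : Set Γ) := by
    rw [Subgroup.commutator_le]
    intro u hu x hx
    rw [Subgroup.mem_centralizer_iff]
    intro z' hz'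
    rw [Set.mem_singleton_iff] at hz'
    subst hz'
    -- `z' ⁅u,x⁆ z'⁻¹ = ⁅u,x⁆`
    set c : Γ := u⁻¹ * z' * u * z'⁻¹ with hc
    have hcZ : c ∈ cenSQ S Q := by
      have : c = ⁅u⁻¹, z'⁆ := by rw [hc, commutatorElement_def]; group
      rw [this]
      exact hder _ (S.inv_mem hu) _ hzS
    have h1 : z' * x * z'⁻¹ = x := by
      have := hzQ x hx
      calc z' * x * z'⁻¹ = (x * z' * x⁻¹) * x * z'⁻¹ := by rw [this]
        _ = x * (z' * (x⁻¹ * x) * z'⁻¹) := by group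
        _ = x := by group
    have h2 : z' * u * z'⁻¹ = u * c := by rw [hc]; group
    have h3 : c * x * c⁻¹ = x := by
      have := (mem_cenSQ.mp hcZ).2 x hx
      calc c * x * c⁻¹ = (x * c * x⁻¹) * x * c⁻¹ := by rw [this]
        _ = x * (c * (x⁻¹ * x) * c⁻¹) := by group
        _ = x := by group
    have h4 : z' * ⁅u, x⁆ * z'⁻¹ = ⁅u, x⁆ := by
      calc z' * ⁅u, x⁆ * z'⁻¹
          = (z' * u * z'⁻¹) * (z' * x * z'⁻¹) * (z' * u * z'⁻¹)⁻¹ * (z' * x * z'⁻¹)⁻¹ := by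
            rw [commutatorElement_def]; group
        _ = (u * c) * x * (u * c)⁻¹ * x⁻¹ := by rw [h1, h2]
        _ = u * (c * x * c⁻¹) * u⁻¹ * x⁻¹ := by group
        _ = ⁅u, x⁆ := by rw [h3, commutatorElement_def]
    calc z' * ⁅u, x⁆ = (z' * ⁅u, x⁆ * z'⁻¹) * z' := by group
      _ = ⁅u, x⁆ * z' := by rw [h4]
  rw [hcomm] at hle
  have := hle hu
  rw [Subgroup.mem_centralizer_iff] at this
  exact this z rfl

/-- `X = S ⊔ Q` centralises `C_S(Q)`. -/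
theorem cenSQ_centralX (X S Q : Subgroup Γ) (hSQ : S ⊔ Q = X) (hcomm : ⁅S, Q⁆ = S)
    (hder : ∀ a ∈ S, ∀ b ∈ S, ⁅a, b⁆ ∈ cenSQ S Q)
    {g : Γ} (hg : g ∈ X) {z : Γ} (hz : z ∈ cenSQ S Q) : g * z * g⁻¹ = z := by
  have hle : X ≤ Subgroup.centralizer ((cenSQ S Q : Subgroup Γ) : Set Γ) := by
    rw [← hSQ]
    apply sup_le
    · intro u hu
      rw [Subgroup.mem_centralizer_iff]
      intro z hz
      exact cenSQ_central S Q hcomm hder hz hu
    · intro x hx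
      rw [Subgroup.mem_centralizer_iff]
      intro z hz
      exact ((mem_cenSQ'.mp hz).2 x hx)
  have := hle hg
  rw [Subgroup.mem_centralizer_iff] at this
  have h1 := this z hz
  calc g * z * g⁻¹ = (g * z) * g⁻¹ := by group
    _ = (z * g) * g⁻¹ := by rw [h1]
    _ = z := by group

theorem cenSQ_normal (j : A →* Γ) (X S Q : Subgroup Γ)
    (hcov : ∀ γ : Γ, ∃ g ∈ X, ∃ a : A, γ = g * j a) (hSQ : S ⊔ Q = X) (hcomm : ⁅S, Q⁆ = S)
    (hder : ∀ a ∈ S, ∀ b ∈ S, ⁅a, b⁆ ∈ cenSQ S Q) (hS : GInv j S) (hQ : GInv j Q) :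
    (cenSQ S Q).Normal := by
  apply normal_of_cover j X hcov
  · intro g hg z hz
    rw [cenSQ_centralX X S Q hSQ hcomm hder hg hz]
    exact hz
  · exact cenSQ_ginv j S Q hS hQ

/-- `Q₀ = C_Q(S)` is normal in `Γ`. -/
theorem cenQS_normal (j : A →* Γ) (X S Q : Subgroup Γ) [S.Normal]
    (hcov : ∀ γ : Γ, ∃ g ∈ X, ∃ a : A, γ = g * j a) (hSQ : S ⊔ Q = X) (hQ : GInv j Q) :
    (cenSQ Q S).Normal := by
  apply normal_of_cover j X hcov
  · have hle : X ≤ Subgroup.normalizer ((cenSQ Q S : Subgroup Γ) : Set Γ) := by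
      rw [← hSQ]
      apply sup_le
      · intro u hu
        rw [Subgroup.mem_normalizer_iff]
        intro x
        constructor
        · intro hx
          rw [(mem_cenSQ.mp hx).2 u hu]; exact hx
        · intro hx
          have h1 := (mem_cenSQ.mp hx).2 u⁻¹ (S.inv_mem hu)
          rw [inv_inv] at h1
          have : u⁻¹ * (u * x * u⁻¹) * u = x := by group
          rw [h1] at this
          rw [← this]; exact hx
      · intro y hy
        have hle2 : cenSQ Q S ≤ Q := cenSQ_le Q S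
        have hn : (Subgroup.centralizer (S : Set Γ)).Normal := Subgroup.normal_centralizer
        rw [Subgroup.mem_normalizer_iff]
        intro x
        unfold cenSQ
        rw [Subgroup.mem_inf, Subgroup.mem_inf]
        constructor
        · rintro ⟨h1, h2⟩
          exact ⟨Q.mul_mem (Q.mul_mem hy h1) (Q.inv_mem hy), hn.conj_mem x h2 y⟩
        · rintro ⟨h1, h2⟩
          have e : x = y⁻¹ * (y * x * y⁻¹) * y⁻¹⁻¹ := by group
          rw [e]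
          exact ⟨Q.mul_mem (Q.mul_mem (Q.inv_mem hy) h1) (Q.inv_mem (Q.inv_mem hy)),
            hn.conj_mem _ h2 y⁻¹⟩
    intro g hg x hx
    exact (Subgroup.mem_normalizer_iff.mp (hle hg) x).mp hx
  · exact cenSQ_ginv j Q S hQ (GInv.of_normal j S)

end Cfsg.Agent.Helper29.Pq
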