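import Mathlib
import Cfsg.Agent.Helper29.PqN1

/-!
# S4306, piece (N): group-theoretic preliminaries II
-/

set_option autoImplicit false

namespace Cfsg.Agent.Helper29.Pq

open scoped commutatorElement
open Cfsg.Agent.Helper29.S3f

variable {Γ : Type*} [Group Γ] {A : Type*} [Group A]

/-- If `[x, K] ⊆ N` then `[y, K] ⊆ N` for every power `y` of `x`. -/
theorem comm_mem_of_mem_zpowers (K N : Subgroup Γ) (x : Γ)
    (hxK : x ∈ Subgroup.normalizer (K : Set Γ)) (hxN : x ∈ Subgroup.normalizer (N : Set Γ))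
    (hKN : K ≤ Subgroup.normalizer (N : Set Γ))
    (h : ∀ k ∈ K, x * k * x⁻¹ * k⁻¹ ∈ N) :
    ∀ y ∈ Subgroup.zpowers x, ∀ k ∈ K, y * k * y⁻¹ * k⁻¹ ∈ N := by
  let T : Subgroup Γ :=
    { carrier := {y | y ∈ Subgroup.normalizer (K : Set Γ) ∧ y ∈ Subgroup.normalizer (N : Set Γ) ∧
        ∀ k ∈ K, y * k * y⁻¹ * k⁻¹ ∈ N}
      one_mem' := by
        refine ⟨Subgroup.one_mem _, Subgroup.one_mem _, fun k _ => ?_⟩
        have : (1 : Γ) * k * 1⁻¹ * k⁻¹ = 1 := by group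
        rw [this]; exact N.one_mem
      mul_mem' := by
        rintro y1 y2 ⟨h1K, h1N, h1⟩ ⟨h2K, h2N, h2⟩
        refine ⟨Subgroup.mul_mem _ h1K h2K, Subgroup.mul_mem _ h1N h2N, fun k hk => ?_⟩
        have e : y1 * y2 * k * (y1 * y2)⁻¹ * k⁻¹
            = (y1 * (y2 * k * y2⁻¹ * k⁻¹) * y1⁻¹) * (y1 * k * y1⁻¹ * k⁻¹) := by group
        rw [e]
        exact N.mul_mem ((Subgroup.mem_normalizer_iff.mp h1N _).mp (h2 k hk)) (h1 k hk)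
      inv_mem' := by
        rintro y ⟨hK, hN, h1⟩
        refine ⟨Subgroup.inv_mem _ hK, Subgroup.inv_mem _ hN, fun k hk => ?_⟩
        have hk' : y⁻¹ * k * y⁻¹⁻¹ ∈ K :=
          (Subgroup.mem_normalizer_iff.mp (Subgroup.inv_mem _ hK) k).mp hk
        have h2 := h1 _ hk'
        have e : y * (y⁻¹ * k * y⁻¹⁻¹) * y⁻¹ * (y⁻¹ * k * y⁻¹⁻¹)⁻¹
            = (y⁻¹ * k * y⁻¹⁻¹ * k⁻¹)⁻¹ := by group
        rw [e] at h2
        exact (N.inv_mem_iff).mp h2 }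
  have hxT : x ∈ T := ⟨hxK, hxN, h⟩
  intro y hy k hk
  have : y ∈ T := (Subgroup.zpowers_le.mpr hxT) hy
  exact this.2.2 k hk

/-- `A` acts fixed-point-freely on `Q/Q₀`. -/
theorem fpf_quot [Finite Γ] [Finite A] (j : A →* Γ) (Q Q0 : Subgroup Γ) [Q0.Normal]
    (hQ0Q : Q0 ≤ Q) (hQA : GInv j Q) (hQsolv : Group.IsSolvable ↥Q)
    (hcop : (Nat.card Q).Coprime (Nat.card A))
    (hfpfQ : ∀ x ∈ Q, (∀ a : A, j a * x * (j a)⁻¹ = x) → x = 1)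
    {x : Γ} (hx : x ∈ Q) (hfix : ∀ a : A, j a * x * (j a)⁻¹ * x⁻¹ ∈ Q0) : x ∈ Q0 := by
  have hn : ∀ H : Subgroup Γ, H ≤ Subgroup.normalizer ((Q0 : Subgroup Γ) : Set Γ) := by
    intro H
    rw [Subgroup.normalizer_eq_top]
    exact le_top
  obtain ⟨c, hc, hxc⟩ := Cfsg.Agent.Lead.coprime_fixed_points_quotient j.range Q
    (range_le_normalizer_of_GInv j hQA) (coprime_range j hcop) (Or.inr hQsolv) Q0 hQ0Q (hn _)
    (hn _) x hx (by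
      rintro _ ⟨a, rfl⟩
      exact hfix a)
  obtain ⟨hcQ, hcC⟩ := Subgroup.mem_inf.mp hc
  have hc1 : c = 1 := hfpfQ c hcQ ((mem_centralizer_range_iff j c).mp hcC)
  rw [hc1, mul_one] at hxc
  exact (Q0.inv_mem_iff).mp hxc

/-- If `y` centralises `S` then `[y, Q] ⊆ C_Q(S)` (for `y` normalising `Q`, `S` normal). -/
theorem comm_mem_cenQS (S Q : Subgroup Γ) [S.Normal] (y : Γ)
    (hyS : ∀ u ∈ S, y * u * y⁻¹ = u) (hyQ : ∀ x ∈ Q, y * x * y⁻¹ ∈ Q)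
    {x : Γ} (hx : x ∈ Q) : y * x * y⁻¹ * x⁻¹ ∈ cenSQ Q S := by
  refine mem_cenSQ.mpr ⟨Q.mul_mem (hyQ x hx) (Q.inv_mem hx), fun u hu => ?_⟩
  -- `u` commutes with `y x y⁻¹ x⁻¹`
  have hyS' : ∀ u ∈ S, y⁻¹ * u * y = u := by
    intro u hu
    have := hyS u hu
    calc y⁻¹ * u * y = y⁻¹ * (y * u * y⁻¹) * y := by rw [this]
      _ = u := by group
  have hn : S.Normal := inferInstance
  -- conjugate `u` step by step
  have h1 : x * u⁻¹ * x⁻¹ ∈ S := hn.conj_mem _ (S.inv_mem hu) x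
  have h2 : x⁻¹ * u * x⁻¹⁻¹ ∈ S := hn.conj_mem _ hu x⁻¹
  -- show the commutator is fixed under conjugation by `u`
  have e1 : y⁻¹ * u * y = u := hyS' u hu
  -- `u (y x y⁻¹ x⁻¹) u⁻¹ = y x y⁻¹ x⁻¹`
  have key : u⁻¹ * (y * x * y⁻¹ * x⁻¹) * u = y * x * y⁻¹ * x⁻¹ := by
    have a1 : y⁻¹ * u⁻¹ * y = u⁻¹ := hyS' _ (S.inv_mem hu)
    have a2 : x⁻¹ * u * x ∈ S := by simpa using h2
    have a3 : y * (x⁻¹ * u * x) * y⁻¹ = x⁻¹ * u * x := hyS _ a2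
    have a4 : x⁻¹ * u⁻¹ * x ∈ S := by
      have := hn.conj_mem _ (S.inv_mem hu) x⁻¹
      simpa using this
    have a5 : y⁻¹ * (x⁻¹ * u⁻¹ * x) * y = x⁻¹ * u⁻¹ * x := hyS' _ a4
    calc u⁻¹ * (y * x * y⁻¹ * x⁻¹) * u
        = y * (y⁻¹ * u⁻¹ * y) * x * y⁻¹ * x⁻¹ * u := by group
      _ = y * u⁻¹ * x * y⁻¹ * x⁻¹ * u := by rw [a1]
      _ = y * x * (x⁻¹ * u⁻¹ * x) * y⁻¹ * x⁻¹ * u := by group
      _ = y * x * y⁻¹ * (y * (x⁻¹ * u⁻¹ * x) * y⁻¹) * x⁻¹ * u := by group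
      _ = y * x * y⁻¹ * (x⁻¹ * u⁻¹ * x) * x⁻¹ * u := by rw [hyS _ a4]
      _ = y * x * y⁻¹ * x⁻¹ := by group
  calc u * (y * x * y⁻¹ * x⁻¹) * u⁻¹
      = u * (u⁻¹ * (y * x * y⁻¹ * x⁻¹) * u) * u⁻¹ := by rw [key]
    _ = y * x * y⁻¹ * x⁻¹ := by group

/-- For abelian `S` with `[S,Q] = S` and coprime orders, `C_S(Q) = 1`. -/
theorem cenSQ_eq_bot_of_abelian [Finite Γ] (S Q : Subgroup Γ) [S.Normal]
    (hSab : ∀ a ∈ S, ∀ b ∈ S, a * b = b * a) (hcop : (Nat.card Q).Coprime (Nat.card S))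
    (hcomm : ⁅S, Q⁆ = S) : cenSQ S Q = ⊥ := by
  haveI : IsMulCommutative ↥S := ⟨⟨fun a b => Subtype.ext (hSab a a.2 b b.2)⟩⟩
  have hQS : Q ≤ Subgroup.normalizer ((S : Subgroup Γ) : Set Γ) := by
    rw [Subgroup.normalizer_eq_top]; exact le_top
  have := Cfsg.Agent.Lead.coprime_abelian_inf Q S hQS hcop
  rw [hcomm] at this
  have h2 : cenSQ S Q ≤ (S ⊓ Subgroup.centralizer (Q : Set Γ)) ⊓ S :=
    le_inf le_rfl (cenSQ_le S Q)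
  rw [this] at h2
  exact le_antisymm h2 bot_le

end Cfsg.Agent.Helper29.Pq
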