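import Mathlib
import Cfsg.Agent.Helper29.PqN2

/-!
# S4306, piece (N): weights of the central subgroup `Z = C_S(Q)`
-/

set_option autoImplicit false

namespace Cfsg.Agent.Helper29.Pq

open scoped commutatorElement
open Module Cfsg.Agent.Helper29.S3f

variable {Γ : Type*} [Group Γ] {A : Type*} [Group A]
  {K : Type*} [Field K] {M : Type*} [AddCommGroup M] [Module K M]
variable (ρ : Representation K Γ M)

theorem rho_mul' (g h : Γ) (m : M) : ρ (g * h) m = ρ g (ρ h m) := by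
  rw [map_mul, Module.End.mul_apply]

/-- The stabiliser of a vector. -/
def fixSub (m : M) : Subgroup Γ where
  carrier := {g | ρ g m = m}
  one_mem' := by simp
  mul_mem' := by
    intro a b ha hb
    show ρ (a * b) m = m
    rw [rho_mul', hb, ha]
  inv_mem' := by
    intro a ha
    show ρ a⁻¹ m = m
    have ha' : ρ a m = m := ha
    calc ρ a⁻¹ m = ρ a⁻¹ (ρ a m) := by rw [ha']
      _ = m := rho_inv_rho ρ a m

theorem mem_fixSub {m : M} {g : Γ} : g ∈ fixSub ρ m ↔ ρ g m = m := Iff.rfl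

theorem rho_fix_of_mem_zpowers {g : Γ} {m : M} (h : ρ g m = m) {y : Γ}
    (hy : y ∈ Subgroup.zpowers g) : ρ y m = m :=
  (Subgroup.zpowers_le.mpr ((mem_fixSub ρ).mpr h)) hy

theorem rho_inv_fix {g : Γ} {m : M} (h : ρ g m = m) : ρ g⁻¹ m = m :=
  (fixSub ρ m).inv_mem h

variable (Z : Subgroup Γ)

/-- An element centralising `Z` preserves each weight space. -/
theorem rho_mem_wtSpace_of_comm {g : Γ} (hg : ∀ z ∈ Z, g * z * g⁻¹ = z) {ζ : ↥Z →* Kˣ} {m : M}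
    (hm : m ∈ wtSpace ρ Z ζ) : ρ g m ∈ wtSpace ρ Z ζ := by
  intro b
  have h1 : (b : Γ) * g = g * (b : Γ) := by
    have := hg b b.2
    calc (b : Γ) * g = (g * b * g⁻¹) * g := by rw [this]
      _ = g * b := by group
  rw [← rho_mul', h1, rho_mul', hm b, map_smul]

/-- An element of `A` fixing `ζ` preserves its weight space. -/
theorem rho_mem_wtSpace_of_stab [Z.Normal] (j : A →* Γ) {ζ : ↥Z →* Kˣ} {a : A}
    (ha : conjChar (j a) ζ = ζ) {m : M} (hm : m ∈ wtSpace ρ Z ζ) :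
    ρ (j a) m ∈ wtSpace ρ Z ζ := by
  have := rho_mem_wtSpace_conjChar ρ Z (j a) hm
  rwa [ha] at this

/-- NORM LEMMA, cyclic stabiliser form. -/
theorem fix_eq_zero [Z.Normal] [Finite A] (hZab : ∀ a ∈ Z, ∀ b ∈ Z, a * b = b * a) (j : A →* Γ)
    (hAK : (Nat.card A : K) ≠ 0)
    (hfixA : ∀ m : M, (∀ a : A, ρ (j a) m = m) → m = 0)
    {ζ : ↥Z →* Kˣ} {m : M} (hm : m ∈ wtSpace ρ Z ζ) (a0 : A)
    (hstab : ∀ a : A, conjChar (j a) ζ = ζ → a ∈ Subgroup.zpowers a0)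
    (hfix : ρ (j a0) m = m) : m = 0 := by
  apply norm_lemma ρ Z hZab j hAK hfixA hm
  intro a ha
  have h1 : j a ∈ Subgroup.zpowers (j a0) := by
    rw [← MonoidHom.map_zpowers]
    exact Subgroup.mem_map_of_mem j (hstab a ha)
  exact rho_fix_of_mem_zpowers ρ hfix h1

/-- The subgroup of `S` acting trivially on all `A`-translates of a weight space is normal; hence
trivial. -/
theorem dfix (j : A →* Γ) (X S : Subgroup Γ) [X.Normal] [S.Normal] [Z.Normal]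
    (hcov : ∀ γ : Γ, ∃ g ∈ X, ∃ a : A, γ = g * j a)
    (hXZ : ∀ g ∈ X, ∀ z ∈ Z, g * z * g⁻¹ = z)
    (hfix0 : ∀ B0 : Subgroup Γ, B0 ≤ S → B0.Normal → B0 ≠ ⊥ →
      ∀ m : M, (∀ b ∈ B0, ρ b m = m) → m = 0)
    {ζ : ↥Z →* Kˣ} (hζ : wtSpace ρ Z ζ ≠ ⊥) {u : Γ} (hu : u ∈ S)
    (h : ∀ a : A, ∀ m ∈ wtSpace ρ Z ζ, ρ ((j a)⁻¹ * u * j a) m = m) : u = 1 := by
  let D : Subgroup Γ :=
    { carrier := {u | u ∈ S ∧ ∀ a : A, ∀ m ∈ wtSpace ρ Z ζ, ρ ((j a)⁻¹ * u * j a) m = m}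
      one_mem' := by
        refine ⟨S.one_mem, fun a m _ => ?_⟩
        have : (j a)⁻¹ * 1 * j a = 1 := by group
        rw [this, map_one, Module.End.one_apply]
      mul_mem' := by
        rintro u1 u2 ⟨h1S, h1⟩ ⟨h2S, h2⟩
        refine ⟨S.mul_mem h1S h2S, fun a m hm => ?_⟩
        have e : (j a)⁻¹ * (u1 * u2) * j a = ((j a)⁻¹ * u1 * j a) * ((j a)⁻¹ * u2 * j a) := by
          group
        rw [e, rho_mul', h2 a m hm, h1 a m hm]
      inv_mem' := by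
        rintro u1 ⟨h1S, h1⟩
        refine ⟨S.inv_mem h1S, fun a m hm => ?_⟩
        have e : (j a)⁻¹ * u1⁻¹ * j a = ((j a)⁻¹ * u1 * j a)⁻¹ := by group
        rw [e]
        exact rho_inv_fix ρ (h1 a m hm) }
  have hDS : D ≤ S := fun _ hx => hx.1
  have hDn : D.Normal := by
    apply normal_of_cover j X hcov
    · rintro g hg u1 ⟨h1S, h1⟩
      have hSn : S.Normal := inferInstance
      refine ⟨hSn.conj_mem u1 h1S g, fun a m hm => ?_⟩
      have hXn : X.Normal := inferInstance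
      have hg' : (j a)⁻¹ * g * (j a)⁻¹⁻¹ ∈ X := hXn.conj_mem g hg (j a)⁻¹
      rw [inv_inv] at hg'
      have e : (j a)⁻¹ * (g * u1 * g⁻¹) * j a
          = ((j a)⁻¹ * g * j a) * (((j a)⁻¹ * u1 * j a) * ((j a)⁻¹ * g * j a)⁻¹) := by group
      rw [e, rho_mul' ρ ((j a)⁻¹ * g * j a) (((j a)⁻¹ * u1 * j a) * ((j a)⁻¹ * g * j a)⁻¹),
        rho_mul' ρ ((j a)⁻¹ * u1 * j a) ((j a)⁻¹ * g * j a)⁻¹]
      have hm' : ρ ((j a)⁻¹ * g * j a)⁻¹ m ∈ wtSpace ρ Z ζ :=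
        rho_mem_wtSpace_of_comm ρ Z (hXZ _ (X.inv_mem hg')) hm
      rw [h1 a _ hm']
      exact rho_rho_inv ρ _ m
    · rintro a' u1 ⟨h1S, h1⟩
      have hSn : S.Normal := inferInstance
      refine ⟨hSn.conj_mem u1 h1S (j a'), fun a m hm => ?_⟩
      have e : (j a)⁻¹ * (j a' * u1 * (j a')⁻¹) * j a
          = (j (a'⁻¹ * a))⁻¹ * u1 * j (a'⁻¹ * a) := by
        rw [map_mul, map_inv]; group
      rw [e]
      exact h1 _ m hm
  have huD : u ∈ D := ⟨hu, h⟩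
  by_contra hu1
  have hDne : D ≠ ⊥ := by
    intro hD
    rw [hD, Subgroup.mem_bot] at huD
    exact hu1 huD
  obtain ⟨m, hm, hm0⟩ := (Submodule.ne_bot_iff _).mp hζ
  apply hm0
  apply hfix0 D hDS hDn hDne m
  rintro b ⟨-, hb⟩
  have := hb 1 m hm
  rwa [map_one, inv_one, one_mul, mul_one] at this

end Cfsg.Agent.Helper29.Pq
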