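import Mathlib
import Cfsg.Agent.Helper29.PqN3
import Cfsg.Agent.Helper4.PqFQ

/-!
# S4306, piece (N): stabilisers of the weights of `Z`
-/

set_option autoImplicit false

namespace Cfsg.Agent.Helper29.Pq

open scoped commutatorElement
open Module Cfsg.Agent.Helper29.S3f

variable {Γ : Type*} [Group Γ] {A : Type*} [Group A]
  {K : Type*} [Field K] {M : Type*} [AddCommGroup M] [Module K M]
variable (ρ : Representation K Γ M) (Z : Subgroup Γ)

theorem conjChar_mk [Z.Normal] (g : Γ) (χ : ↥Z →* Kˣ) {b : Γ} (hb : b ∈ Z) :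
    conjChar g χ ⟨b, hb⟩ = χ ⟨g⁻¹ * b * g, by
      have hn : Z.Normal := inferInstance
      have := hn.conj_mem b hb g⁻¹
      rwa [inv_inv] at this⟩ := by
  rw [conjChar_apply]
  congr 1
  apply Subtype.ext
  rw [coe_conjNormal_inv]

/-- A weight of `Z` is nontrivial. -/
theorem wt_ne_one (S : Subgroup Γ) [Z.Normal] (hZS : Z ≤ S) (hZne : Z ≠ ⊥)
    (hfix0 : ∀ B0 : Subgroup Γ, B0 ≤ S → B0.Normal → B0 ≠ ⊥ →
      ∀ m : M, (∀ b ∈ B0, ρ b m = m) → m = 0)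
    {ζ : ↥Z →* Kˣ} (hζ : wtSpace ρ Z ζ ≠ ⊥) : ζ ≠ 1 := by
  intro h1
  obtain ⟨m, hm, hm0⟩ := (Submodule.ne_bot_iff _).mp hζ
  apply hm0
  apply hfix0 Z hZS inferInstance hZne m
  intro b hb
  have := hm ⟨b, hb⟩
  rw [h1] at this
  simpa using this

/-- A nontrivial character of `Z` is not `A`-invariant (`A` fixed-point-free and coprime). -/
theorem exists_not_fix [Finite Γ] [Finite A] [Z.Normal] (j : A →* Γ)
    (hZab : ∀ a ∈ Z, ∀ b ∈ Z, a * b = b * a)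
    (hcop : (Nat.card Z).Coprime (Nat.card A))
    (hfpfZ : ∀ z ∈ Z, (∀ a : A, j a * z * (j a)⁻¹ = z) → z = 1)
    {ζ : ↥Z →* Kˣ} (hζ1 : ζ ≠ 1) : ∃ a : A, conjChar (j a) ζ ≠ ζ := by
  by_contra hcon
  push Not at hcon
  apply hζ1
  let Zk : Subgroup Γ := (ζ.ker).map Z.subtype
  have hZn : Z.Normal := inferInstance
  have hZsolv : Group.IsSolvable ↥Z := by
    haveI : IsMulCommutative ↥Z := ⟨⟨fun a b => Subtype.ext (hZab a a.2 b b.2)⟩⟩
    exact Cfsg.Agent.Lead.isSolvable_of_isMulCommutative Z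
  have hAZ : j.range ≤ Subgroup.normalizer ((Z : Subgroup Γ) : Set Γ) := by
    rw [Subgroup.normalizer_eq_top]; exact le_top
  have h1 := Cfsg.Agent.Lead.coprime_commutator_sup_centralizer j.range Z hAZ
    (coprime_range j hcop) (Or.inr hZsolv)
  have h2 : Z ⊓ Subgroup.centralizer (j.range : Set Γ) = ⊥ := by
    rw [eq_bot_iff]
    intro z hz
    obtain ⟨hzZ, hzC⟩ := Subgroup.mem_inf.mp hz
    rw [Subgroup.mem_bot]
    exact hfpfZ z hzZ ((mem_centralizer_range_iff j z).mp hzC)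
  rw [h2, sup_bot_eq] at h1
  have h3 : ⁅Z, j.range⁆ ≤ Zk := by
    rw [Subgroup.commutator_le]
    rintro z hz _ ⟨a, rfl⟩
    have hz' : j a * z⁻¹ * (j a)⁻¹ ∈ Z := hZn.conj_mem _ (Z.inv_mem hz) (j a)
    have hmem : ⁅z, j a⁆ ∈ Z := by
      rw [commutatorElement_def]
      have e : z * j a * z⁻¹ * (j a)⁻¹ = z * (j a * z⁻¹ * (j a)⁻¹) := by group
      rw [e]
      exact Z.mul_mem hz hz'
    refine ⟨⟨⁅z, j a⁆, hmem⟩, ?_, rfl⟩
    rw [SetLike.mem_coe, MonoidHom.mem_ker]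
    have e : (⟨⁅z, j a⁆, hmem⟩ : ↥Z) = ⟨z, hz⟩ * ⟨j a * z⁻¹ * (j a)⁻¹, hz'⟩ := by
      apply Subtype.ext
      show ⁅z, j a⁆ = z * (j a * z⁻¹ * (j a)⁻¹)
      rw [commutatorElement_def]; group
    rw [e, map_mul]
    have h4 := hcon a⁻¹
    have h5 : conjChar (j a⁻¹) ζ ⟨z⁻¹, Z.inv_mem hz⟩ = ζ ⟨z⁻¹, Z.inv_mem hz⟩ := by rw [h4]
    rw [conjChar_mk] at h5
    have e2 : (⟨(j a⁻¹)⁻¹ * z⁻¹ * j a⁻¹, by
        rw [map_inv, inv_inv]; exact hz'⟩ : ↥Z) = ⟨j a * z⁻¹ * (j a)⁻¹, hz'⟩ := by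
      apply Subtype.ext
      show (j a⁻¹)⁻¹ * z⁻¹ * j a⁻¹ = j a * z⁻¹ * (j a)⁻¹
      rw [map_inv, inv_inv]
    rw [e2] at h5
    rw [h5, ← map_mul]
    have e3 : (⟨z, hz⟩ : ↥Z) * ⟨z⁻¹, Z.inv_mem hz⟩ = 1 := by
      apply Subtype.ext
      show z * z⁻¹ = 1
      group
    rw [e3, map_one]
  rw [h1] at h3
  ext z
  have hz : (z : Γ) ∈ Zk := h3 z.2
  obtain ⟨z', hz'ker, hz'eq⟩ := hz
  have : z' = z := Subtype.ext hz'eq
  rw [this] at hz'ker
  rw [SetLike.mem_coe, MonoidHom.mem_ker] at hz'ker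
  rw [hz'ker]; rfl

section frob

variable [Z.Normal] {f η : A} {ℓ h : ℕ} (hA : FrobPQ A f η ℓ h) (j : A →* Γ)

include hA in
/-- If `f` fixes `ζ` and the stabiliser is not everything, the stabiliser is `⟨f⟩`. -/
theorem stab_le_f {ζ : ↥Z →* Kˣ} (hf : conjChar (j f) ζ = ζ)
    (hnot : ∃ a : A, conjChar (j a) ζ ≠ ζ) {a : A} (ha : conjChar (j a) ζ = ζ) :
    a ∈ Subgroup.zpowers f := by
  by_contra hna
  obtain ⟨b, hb, hbη⟩ := Cfsg.Agent.Helper4.PqFQ.exists_conj_η hA hna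
  have hfS : f ∈ stabChar Z j ζ := hf
  have haS : a ∈ stabChar Z j ζ := ha
  have hbS : b ∈ stabChar Z j ζ := (Subgroup.zpowers_le.mpr hfS) hb
  have h1 : b * η * b⁻¹ ∈ stabChar Z j ζ := (Subgroup.zpowers_le.mpr haS) hbη
  have hηS : η ∈ stabChar Z j ζ := by
    have := (stabChar Z j ζ).mul_mem ((stabChar Z j ζ).mul_mem ((stabChar Z j ζ).inv_mem hbS) h1) hbS
    have e : b⁻¹ * (b * η * b⁻¹) * b = η := by group
    rwa [e] at this
  have htop := Cfsg.Agent.Helper4.PqFQ.eq_top_of_mem hA (stabChar Z j ζ) hfS hηS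
  obtain ⟨a', ha'⟩ := hnot
  apply ha'
  have : a' ∈ stabChar Z j ζ := by rw [htop]; trivial
  exact this

include hA in
/-- If `η` fixes `ζ` and `f` does not, the stabiliser is `⟨η⟩`. -/
theorem stab_le_η {ζ : ↥Z →* Kˣ} (hη : conjChar (j η) ζ = ζ)
    (hf : conjChar (j f) ζ ≠ ζ) {a : A} (ha : conjChar (j a) ζ = ζ) :
    a ∈ Subgroup.zpowers η := by
  obtain ⟨u, hu, v, hv, rfl⟩ := hA.gen a
  have hηS : η ∈ stabChar Z j ζ := hη
  have hvS : v ∈ stabChar Z j ζ := (Subgroup.zpowers_le.mpr hηS) hv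
  have huvS : u * v ∈ stabChar Z j ζ := ha
  have huS : u ∈ stabChar Z j ζ := by
    have := (stabChar Z j ζ).mul_mem huvS ((stabChar Z j ζ).inv_mem hvS)
    rwa [mul_inv_cancel_right] at this
  have hu1 : u = 1 := by
    by_contra hu1
    have hfu := Cfsg.Agent.Helper4.PqFQ.f_mem_zpowers hA hu hu1
    exact hf ((Subgroup.zpowers_le.mpr huS) hfu)
  rw [hu1, one_mul]
  exact hv

include hA in
/-- If `f` does not fix `ζ` but some nontrivial element does, a conjugate of `ζ` is fixed by `η`. -/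
theorem exists_conj_fix_η {ζ : ↥Z →* Kˣ} (hf : conjChar (j f) ζ ≠ ζ)
    {a : A} (ha1 : a ≠ 1) (ha : conjChar (j a) ζ = ζ) :
    ∃ b : A, conjChar (j η) (conjChar (j b) ζ) = conjChar (j b) ζ := by
  have hna : a ∉ Subgroup.zpowers f := by
    intro hmem
    have hfa := Cfsg.Agent.Helper4.PqFQ.f_mem_zpowers hA hmem ha1
    have haS : a ∈ stabChar Z j ζ := ha
    exact hf ((Subgroup.zpowers_le.mpr haS) hfa)
  obtain ⟨b, -, hbη⟩ := Cfsg.Agent.Helper4.PqFQ.exists_conj_η hA hna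
  have haS : a ∈ stabChar Z j ζ := ha
  have h1 : b * η * b⁻¹ ∈ stabChar Z j ζ := (Subgroup.zpowers_le.mpr haS) hbη
  have h2 : conjChar (j (b * η * b⁻¹)) ζ = ζ := h1
  refine ⟨b⁻¹, ?_⟩
  rw [← conjChar_mul, ← map_mul]
  have e : η * b⁻¹ = b⁻¹ * (b * η * b⁻¹) := by group
  rw [e, map_mul, conjChar_mul, h2]

end frob

end Cfsg.Agent.Helper29.Pq
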