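import Mathlib
import Cfsg.Agent.Helper29.PqN3

/-!
# S4306, piece (N): the radical `R` of the commutator form on a weight space, and arithmetic
-/

set_option autoImplicit false

namespace Cfsg.Agent.Helper29.Pq

open scoped commutatorElement
open Module Cfsg.Agent.Helper29.S3f

variable {Γ : Type*} [Group Γ]
  {K : Type*} [Field K] {M : Type*} [AddCommGroup M] [Module K M]
variable (ρ : Representation K Γ M)

/-- The radical: elements of `S` whose commutators with `S` act trivially on `U`. -/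
theorem exists_radSub (S Zc : Subgroup Γ) (U : Submodule K M)
    (hder : ∀ a ∈ S, ∀ b ∈ S, a * b * a⁻¹ * b⁻¹ ∈ Zc)
    (hcen : ∀ z ∈ Zc, ∀ u ∈ S, z * u = u * z) :
    ∃ R : Subgroup Γ, ∀ u, u ∈ R ↔ u ∈ S ∧ ∀ v ∈ S, ∀ m ∈ U, ρ (u * v * u⁻¹ * v⁻¹) m = m := by
  refine ⟨{ carrier := {u | u ∈ S ∧ ∀ v ∈ S, ∀ m ∈ U, ρ (u * v * u⁻¹ * v⁻¹) m = m}
            one_mem' := ?one
            mul_mem' := ?mul
            inv_mem' := ?inv }, fun u => Iff.rfl⟩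
  case one =>
    refine ⟨S.one_mem, fun v _ m _ => ?_⟩
    have : (1 : Γ) * v * 1⁻¹ * v⁻¹ = 1 := by group
    rw [this, map_one, Module.End.one_apply]
  case mul =>
    rintro u1 u2 ⟨h1S, h1⟩ ⟨h2S, h2⟩
    refine ⟨S.mul_mem h1S h2S, fun v hv m hm => ?_⟩
    have hc := hcen _ (hder u2 h2S v hv) u1 h1S
    have e : u1 * u2 * v * (u1 * u2)⁻¹ * v⁻¹
        = (u2 * v * u2⁻¹ * v⁻¹) * (u1 * v * u1⁻¹ * v⁻¹) := by
      calc u1 * u2 * v * (u1 * u2)⁻¹ * v⁻¹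
          = u1 * (u2 * v * u2⁻¹ * v⁻¹) * (v * u1⁻¹ * v⁻¹) := by group
        _ = (u2 * v * u2⁻¹ * v⁻¹) * u1 * (v * u1⁻¹ * v⁻¹) := by rw [← hc]
        _ = (u2 * v * u2⁻¹ * v⁻¹) * (u1 * v * u1⁻¹ * v⁻¹) := by group
    rw [e, rho_mul', h1 v hv m hm, h2 v hv m hm]
  case inv =>
    rintro u ⟨hS, h1⟩
    refine ⟨S.inv_mem hS, fun v hv m hm => ?_⟩
    have hc := hcen _ (hder v hv u hS) u⁻¹ (S.inv_mem hS)
    have e : u⁻¹ * v * u⁻¹⁻¹ * v⁻¹ = (u * v * u⁻¹ * v⁻¹)⁻¹ := by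
      calc u⁻¹ * v * u⁻¹⁻¹ * v⁻¹ = u⁻¹ * ((v * u * v⁻¹ * u⁻¹) * u) := by group
        _ = ((v * u * v⁻¹ * u⁻¹) * u⁻¹) * u := by rw [← mul_assoc, ← hc]
        _ = (u * v * u⁻¹ * v⁻¹)⁻¹ := by group
    rw [e]
    exact rho_inv_fix ρ (h1 v hv m hm)

section props

variable {ρ} {S Zc R : Subgroup Γ} {U : Submodule K M}
  (hR : ∀ u, u ∈ R ↔ u ∈ S ∧ ∀ v ∈ S, ∀ m ∈ U, ρ (u * v * u⁻¹ * v⁻¹) m = m)

include hR in
theorem rad_le : R ≤ S := fun u hu => ((hR u).mp hu).1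

include hR in
theorem le_rad (hZS : Zc ≤ S) (hcen : ∀ z ∈ Zc, ∀ u ∈ S, z * u = u * z) : Zc ≤ R := by
  intro z hz
  refine (hR z).mpr ⟨hZS hz, fun v hv m _ => ?_⟩
  have h1 := hcen z hz v hv
  have : z * v * z⁻¹ * v⁻¹ = 1 := by
    rw [h1]; group
  rw [this, map_one, Module.End.one_apply]

include hR in
/-- `R` is invariant under any `y` normalising `S` and preserving `U`. -/
theorem rad_conj {y : Γ} (hyS : ∀ u ∈ S, y * u * y⁻¹ ∈ S) (hyS' : ∀ u ∈ S, y⁻¹ * u * y ∈ S)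
    (hyU' : ∀ m ∈ U, ρ y⁻¹ m ∈ U) {v : Γ} (hv : v ∈ R) :
    y * v * y⁻¹ ∈ R := by
  obtain ⟨hvS, hv1⟩ := (hR v).mp hv
  refine (hR _).mpr ⟨hyS v hvS, fun w hw m hm => ?_⟩
  have e : y * v * y⁻¹ * w * (y * v * y⁻¹)⁻¹ * w⁻¹
      = y * ((v * (y⁻¹ * w * y) * v⁻¹ * (y⁻¹ * w * y)⁻¹) * y⁻¹) := by group
  rw [e, rho_mul' ρ y, rho_mul' ρ (v * (y⁻¹ * w * y) * v⁻¹ * (y⁻¹ * w * y)⁻¹) y⁻¹,
    hv1 _ (hyS' w hw) _ (hyU' m hm)]
  exact rho_rho_inv ρ y m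

include hR in
/-- `R` is normalised by `S` (assuming `S` preserves `U`). -/
theorem rad_normal (hUS : ∀ u ∈ S, ∀ m ∈ U, ρ u m ∈ U) {u : Γ} (hu : u ∈ S) {v : Γ}
    (hv : v ∈ R) : u * v * u⁻¹ ∈ R := by
  apply rad_conj hR (y := u)
  · intro w hw; exact S.mul_mem (S.mul_mem hu hw) (S.inv_mem hu)
  · intro w hw; exact S.mul_mem (S.mul_mem (S.inv_mem hu) hw) hu
  · intro m hm; exact hUS _ (S.inv_mem hu) m hm
  · exact hv

include hR in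
/-- Elements acting trivially on `U` lie in the radical. -/
theorem mem_rad_of_trivial (hUS : ∀ u ∈ S, ∀ m ∈ U, ρ u m ∈ U) {d : Γ} (hd : d ∈ S)
    (htriv : ∀ m ∈ U, ρ d m = m) : d ∈ R := by
  refine (hR d).mpr ⟨hd, fun v hv m hm => ?_⟩
  have e : d * v * d⁻¹ * v⁻¹ = d * (v * (d⁻¹ * v⁻¹)) := by group
  rw [e, rho_mul' ρ d, rho_mul' ρ v, rho_mul' ρ d⁻¹]
  have h1 : ρ v⁻¹ m ∈ U := hUS _ (S.inv_mem hv) m hm
  rw [rho_inv_fix ρ (htriv _ h1), rho_rho_inv ρ v m, htriv m hm]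

/-- The preimage `C` of the centraliser of `y` in `S/R`. -/
theorem exists_cSub (hRS : R ≤ S) (hRn : ∀ u ∈ S, ∀ v ∈ R, u * v * u⁻¹ ∈ R) (y : Γ)
    (hyS : ∀ u ∈ S, y * u * y⁻¹ ∈ S) :
    ∃ C : Subgroup Γ, ∀ u, u ∈ C ↔ u ∈ S ∧ y * u * y⁻¹ * u⁻¹ ∈ R := by
  refine ⟨{ carrier := {u | u ∈ S ∧ y * u * y⁻¹ * u⁻¹ ∈ R}
            one_mem' := ?one
            mul_mem' := ?mul
            inv_mem' := ?inv }, fun u => Iff.rfl⟩
  case one =>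
    refine ⟨S.one_mem, ?_⟩
    have : y * 1 * y⁻¹ * (1 : Γ)⁻¹ = 1 := by group
    rw [this]; exact R.one_mem
  case mul =>
    rintro u1 u2 ⟨h1S, h1⟩ ⟨h2S, h2⟩
    refine ⟨S.mul_mem h1S h2S, ?_⟩
    have e : y * (u1 * u2) * y⁻¹ * (u1 * u2)⁻¹
        = (y * u1 * y⁻¹ * u1⁻¹) * (u1 * (y * u2 * y⁻¹ * u2⁻¹) * u1⁻¹) := by group
    rw [e]
    exact R.mul_mem h1 (hRn u1 h1S _ h2)
  case inv =>
    rintro u ⟨hS, h1⟩
    refine ⟨S.inv_mem hS, ?_⟩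
    have e : y * u⁻¹ * y⁻¹ * u⁻¹⁻¹
        = (y * u⁻¹ * y⁻¹) * (y * u * y⁻¹ * u⁻¹)⁻¹ * (y * u⁻¹ * y⁻¹)⁻¹ := by group
    rw [e]
    have hyu : y * u⁻¹ * y⁻¹ ∈ S := hyS _ (S.inv_mem hS)
    exact hRn _ hyu _ (R.inv_mem h1)

end props

/-- The arithmetic contradiction of step (β3). -/
theorem b3_arith {h N n c0 k w : ℕ} (hN : 1 < N) (hhN : h = N + 1)
    (hc0 : 0 < c0) (hNk : N ^ 2 = k) (hn : n ^ 2 = w) (hw : w = c0 ^ h) (hwk : w = c0 * k) :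
    False := by
  -- `k = c0^(h-1)`
  have hk : k = c0 ^ (h - 1) := by
    have h1 : c0 * k = c0 * c0 ^ (h - 1) := by
      rw [← hwk, hw, ← pow_succ']
      congr 1
      omega
    exact Nat.eq_of_mul_eq_mul_left hc0 h1
  -- `n² = c0 * N²` hence `N ∣ n`
  have h2 : n ^ 2 = c0 * N ^ 2 := by rw [hn, hwk, hNk]
  have hdvd : N ∣ n := by
    have : N ^ 2 ∣ n ^ 2 := ⟨c0, by rw [h2, mul_comm]⟩
    exact (Nat.pow_dvd_pow_iff (by norm_num)).mp this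
  obtain ⟨d, rfl⟩ := hdvd
  have hN0 : 0 < N := by omega
  have hc0d : c0 = d ^ 2 := by
    have h3 : N ^ 2 * d ^ 2 = N ^ 2 * c0 := by
      rw [← mul_pow, h2, mul_comm]
    exact (Nat.eq_of_mul_eq_mul_left (by positivity) h3).symm
  -- `N² = d^(2(h-1))`, so `N = d^(h-1)`
  have h4 : N ^ 2 = (d ^ (h - 1)) ^ 2 := by
    rw [hNk, hk, hc0d, ← pow_mul, ← pow_mul, mul_comm]
  have h5 : N = d ^ (h - 1) := Nat.pow_left_injective (by norm_num : 2 ≠ 0) h4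
  have hd2 : 2 ≤ d := by
    by_contra hlt
    push Not at hlt
    interval_cases d
    · rw [zero_pow (by omega)] at h5; omega
    · rw [one_pow] at h5; omega
  have h6 : 2 ^ (h - 1) ≤ N := by
    rw [h5]; exact Nat.pow_le_pow_left hd2 _
  have h7 : h - 1 < 2 ^ (h - 1) := Nat.lt_two_pow_self
  omega

end Cfsg.Agent.Helper29.Pq
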