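import Mathlib
import Cfsg.Agent.Helper29.PqN4
import Cfsg.Agent.Helper29.PqN5
import Cfsg.Agent.Helper4.PqFP

/-!
# S4306, piece (N): the context and case (α)
-/

set_option autoImplicit false

namespace Cfsg.Agent.Helper29.Pq

open scoped commutatorElement
open Module Cfsg.Agent.Helper29.S3f

variable {Γ : Type*} [Group Γ] {A : Type*} [Group A]
  {K : Type*} [Field K] {M : Type*} [AddCommGroup M] [Module K M]

/-- Elements acting trivially on `U`. -/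
def trivSub (ρ : Representation K Γ M) (U : Submodule K M) : Subgroup Γ where
  carrier := {g | ∀ m ∈ U, ρ g m = m}
  one_mem' := by intro m _; simp
  mul_mem' := by
    intro a b ha hb m hm
    rw [rho_mul', hb m hm, ha m hm]
  inv_mem' := by
    intro a ha m hm
    exact rho_inv_fix _ (ha m hm)

theorem mem_trivSub {ρ : Representation K Γ M} {U : Submodule K M} {g : Γ} :
    g ∈ trivSub ρ U ↔ ∀ m ∈ U, ρ g m = m := Iff.rfl

/-- `{y | [y, k] ∈ N}` is a subgroup for normal `N`. -/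
theorem comm_mem_of_mem_zpowers_normal (N : Subgroup Γ) [N.Normal] (x k : Γ)
    (h : x * k * x⁻¹ * k⁻¹ ∈ N) : ∀ y ∈ Subgroup.zpowers x, y * k * y⁻¹ * k⁻¹ ∈ N := by
  have hN : N.Normal := inferInstance
  let T : Subgroup Γ :=
    { carrier := {y | y * k * y⁻¹ * k⁻¹ ∈ N}
      one_mem' := by
        have : (1 : Γ) * k * 1⁻¹ * k⁻¹ = 1 := by group
        show (1 : Γ) * k * 1⁻¹ * k⁻¹ ∈ N
        rw [this]; exact N.one_mem
      mul_mem' := by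
        intro y1 y2 h1 h2
        have e : y1 * y2 * k * (y1 * y2)⁻¹ * k⁻¹
            = (y1 * (y2 * k * y2⁻¹ * k⁻¹) * y1⁻¹) * (y1 * k * y1⁻¹ * k⁻¹) := by group
        show y1 * y2 * k * (y1 * y2)⁻¹ * k⁻¹ ∈ N
        rw [e]
        exact N.mul_mem (hN.conj_mem _ h2 y1) h1
      inv_mem' := by
        intro y h1
        have e : y⁻¹ * k * y⁻¹⁻¹ * k⁻¹ = y⁻¹ * (y * k * y⁻¹ * k⁻¹)⁻¹ * y⁻¹⁻¹ := by group
        show y⁻¹ * k * y⁻¹⁻¹ * k⁻¹ ∈ N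
        rw [e]
        exact hN.conj_mem _ (N.inv_mem h1) y⁻¹ }
  intro y hy
  exact (Subgroup.zpowers_le.mpr (show x ∈ T from h)) hy

/-- The configuration of piece (N) with all derived group-theoretic facts. -/
structure NCtx (f η : A) (ℓ h : ℕ) (j : A →* Γ) (X S Q Z Q0 : Subgroup Γ) (s q : ℕ)
    (ρ : Representation K Γ M) : Prop where
  hA : FrobPQ A f η ℓ h
  hAcard : Nat.card A = ℓ * h
  Xn : X.Normal
  Sn : S.Normal
  Zn : Z.Normal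
  Q0n : Q0.Normal
  hs : s.Prime
  hq : q.Prime
  hsq : s ≠ q
  hcov : ∀ γ : Γ, ∃ g ∈ X, ∃ a : A, γ = g * j a
  hSp : IsPGroup s S
  hSne : S ≠ ⊥
  hQp : IsPGroup q Q
  hQA : GInv j Q
  hQX : Q ≤ X
  hSX : S ≤ X
  hcomm : ⁅S, Q⁆ = S
  hQmin : ∀ Q1 : Subgroup Γ, Q1 ≤ Q → Q1 ≠ Q → GInv j Q1 → ∀ x ∈ Q1, ∀ u ∈ S, x * u * x⁻¹ = u
  hfpf : ∀ x ∈ X, (∀ a : A, j a * x * (j a)⁻¹ = x) → x = 1
  copSA : (Nat.card S).Coprime (Nat.card A)
  copQA : (Nat.card Q).Coprime (Nat.card A)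
  copQS : (Nat.card Q).Coprime (Nat.card S)
  hZS : Z ≤ S
  hZne : Z ≠ ⊥
  hZQ : ∀ u ∈ S, (∀ x ∈ Q, x * u * x⁻¹ = u) → u ∈ Z
  hder : ∀ a ∈ S, ∀ b ∈ S, a * b * a⁻¹ * b⁻¹ ∈ Z
  hcen : ∀ z ∈ Z, ∀ u ∈ S, z * u = u * z
  hXZ : ∀ g ∈ X, ∀ z ∈ Z, g * z * g⁻¹ = z
  hQ0 : ∀ x, x ∈ Q0 ↔ x ∈ Q ∧ ∀ u ∈ S, x * u = u * x
  hSK : (Nat.card S : K) ≠ 0
  hAK : (Nat.card A : K) ≠ 0
  hfixA : ∀ m : M, (∀ a : A, ρ (j a) m = m) → m = 0
  hfix0 : ∀ B0 : Subgroup Γ, B0 ≤ S → B0.Normal → B0 ≠ ⊥ →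
      ∀ m : M, (∀ b ∈ B0, ρ b m = m) → m = 0

namespace NCtx

variable {f η : A} {ℓ h : ℕ} {j : A →* Γ} {X S Q Z Q0 : Subgroup Γ} {s q : ℕ}
  {ρ : Representation K Γ M}

theorem hZab (H : NCtx f η ℓ h j X S Q Z Q0 s q ρ) : ∀ a ∈ Z, ∀ b ∈ Z, a * b = b * a :=
  fun a ha b hb => H.hcen a ha b (H.hZS hb)

theorem hQ0Q (H : NCtx f η ℓ h j X S Q Z Q0 s q ρ) : Q0 ≤ Q := fun x hx => ((H.hQ0 x).mp hx).1

theorem ℓ_dvd (H : NCtx f η ℓ h j X S Q Z Q0 s q ρ) : ℓ ∣ Nat.card A := ⟨h, H.hAcard⟩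

theorem h_dvd_card (H : NCtx f η ℓ h j X S Q Z Q0 s q ρ) : h ∣ Nat.card A :=
  ⟨ℓ, by rw [H.hAcard, mul_comm]⟩

theorem hℓK (H : NCtx f η ℓ h j X S Q Z Q0 s q ρ) : (ℓ : K) ≠ 0 := by
  intro h0
  apply H.hAK
  rw [H.hAcard, Nat.cast_mul, h0, zero_mul]

theorem hhK (H : NCtx f η ℓ h j X S Q Z Q0 s q ρ) : (h : K) ≠ 0 := by
  intro h0
  apply H.hAK
  rw [H.hAcard, Nat.cast_mul, h0, mul_zero]

theorem jf_pow (H : NCtx f η ℓ h j X S Q Z Q0 s q ρ) : j f ^ ℓ = 1 := by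
  rw [← map_pow, H.hA.f_pow, map_one]

theorem jη_pow (H : NCtx f η ℓ h j X S Q Z Q0 s q ρ) : j η ^ h = 1 := by
  rw [← map_pow, H.hA.η_pow, map_one]

theorem not_dvd_S [Finite Γ] (H : NCtx f η ℓ h j X S Q Z Q0 s q ρ) {p : ℕ} (hp : p.Prime)
    (hpA : p ∣ Nat.card A) : ¬ p ∣ Nat.card S := by
  intro hpS
  have := Nat.Coprime.eq_one_of_dvd (Nat.Coprime.coprime_dvd_left hpS H.copSA) hpA
  exact hp.one_lt.ne' this

theorem jS (H : NCtx f η ℓ h j X S Q Z Q0 s q ρ) (a : A) {u : Γ} (hu : u ∈ S) :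
    j a * u * (j a)⁻¹ ∈ S := H.Sn.conj_mem u hu (j a)

theorem jS' (H : NCtx f η ℓ h j X S Q Z Q0 s q ρ) (a : A) {u : Γ} (hu : u ∈ S) :
    (j a)⁻¹ * u * j a ∈ S := by
  have := H.Sn.conj_mem u hu (j a)⁻¹
  rwa [inv_inv] at this

/-- `A` is generated by `f` and `η`: a subgroup-type property holds for all of `A`. -/
theorem all_of_gens (H : NCtx f η ℓ h j X S Q Z Q0 s q ρ) (B : Subgroup A) (hf : f ∈ B)
    (hη : η ∈ B) (a : A) : a ∈ B := by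
  rw [Cfsg.Agent.Helper4.PqFQ.eq_top_of_mem H.hA B hf hη]; trivial

/-- the stabiliser in `A` of the coset `x Q₀`. -/
def cosetStab (j : A →* Γ) (Q0 : Subgroup Γ) [Q0.Normal] (x : Γ) : Subgroup A where
  carrier := {a | j a * x * (j a)⁻¹ * x⁻¹ ∈ Q0}
  one_mem' := by
    show j 1 * x * (j 1)⁻¹ * x⁻¹ ∈ Q0
    rw [map_one]
    have : (1 : Γ) * x * 1⁻¹ * x⁻¹ = 1 := by group
    rw [this]; exact Q0.one_mem
  mul_mem' := by
    intro a b ha hb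
    have hN : Q0.Normal := inferInstance
    show j (a * b) * x * (j (a * b))⁻¹ * x⁻¹ ∈ Q0
    have e : j (a * b) * x * (j (a * b))⁻¹ * x⁻¹
        = (j a * (j b * x * (j b)⁻¹ * x⁻¹) * (j a)⁻¹) * (j a * x * (j a)⁻¹ * x⁻¹) := by
      rw [map_mul]; group
    rw [e]
    exact Q0.mul_mem (hN.conj_mem _ hb (j a)) ha
  inv_mem' := by
    intro a ha
    have hN : Q0.Normal := inferInstance
    show j a⁻¹ * x * (j a⁻¹)⁻¹ * x⁻¹ ∈ Q0
    have e : j a⁻¹ * x * (j a⁻¹)⁻¹ * x⁻¹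
        = (j a)⁻¹ * (j a * x * (j a)⁻¹ * x⁻¹)⁻¹ * (j a)⁻¹⁻¹ := by
      rw [map_inv]; group
    rw [e]
    exact hN.conj_mem _ (Q0.inv_mem ha) (j a)⁻¹

/-- `A` is fixed-point-free on `Q/Q₀`. -/
theorem fpfQ0 [Finite Γ] [Finite A] (H : NCtx f η ℓ h j X S Q Z Q0 s q ρ) {x : Γ} (hx : x ∈ Q)
    (hfix : ∀ a : A, j a * x * (j a)⁻¹ * x⁻¹ ∈ Q0) : x ∈ Q0 := by
  haveI := H.Q0n
  haveI : Fact q.Prime := ⟨H.hq⟩
  have hQsolv : Group.IsSolvable ↥Q := by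
    haveI : Group.IsNilpotent ↥Q := H.hQp.isNilpotent
    infer_instance
  exact fpf_quot j Q Q0 H.hQ0Q H.hQA hQsolv H.copQA (fun x hx => H.hfpf x (H.hQX hx)) hx hfix

/-- If `F` acts trivially on `Q/Q₀`, then `⟨η⟩` acts fixed-point-freely on it. -/
theorem η_fpf_Qt [Finite Γ] [Finite A] (H : NCtx f η ℓ h j X S Q Z Q0 s q ρ)
    (hF : ∀ x ∈ Q, j f * x * (j f)⁻¹ * x⁻¹ ∈ Q0) :
    ∀ e ∈ (Subgroup.zpowers η).map j, e ≠ 1 → ∀ x ∈ Q, e * x * e⁻¹ * x⁻¹ ∈ Q0 → x ∈ Q0 := by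
  haveI := H.Q0n
  rintro _ ⟨v, hv, rfl⟩ hv1 x hx hvx
  have hv1' : v ≠ 1 := by
    rintro rfl
    exact hv1 (map_one j)
  have hηv := Cfsg.Agent.Helper4.PqFQ.η_mem_zpowers H.hA hv hv1'
  apply H.fpfQ0 hx
  intro a
  have hvS : v ∈ cosetStab j Q0 x := hvx
  have hηS : η ∈ cosetStab j Q0 x := (Subgroup.zpowers_le.mpr hvS) hηv
  have hfS : f ∈ cosetStab j Q0 x := hF x hx
  exact H.all_of_gens (cosetStab j Q0 x) hfS hηS a

theorem Q0_ne (H : NCtx f η ℓ h j X S Q Z Q0 s q ρ) : Q0 ≠ Q := by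
  intro hQ0
  apply H.hSne
  rw [← H.hcomm, Subgroup.commutator_eq_bot_iff_le_centralizer]
  intro u hu
  rw [Subgroup.mem_centralizer_iff]
  intro x hx
  have : x ∈ Q0 := by rw [hQ0]; exact hx
  exact ((H.hQ0 x).mp this).2 u hu

theorem S_solv [Finite Γ] (H : NCtx f η ℓ h j X S Q Z Q0 s q ρ) : Group.IsSolvable ↥S := by
  haveI : Fact s.Prime := ⟨H.hs⟩
  haveI : Group.IsNilpotent ↥S := H.hSp.isNilpotent
  infer_instance

/-- If `F` centralises `S` we reach a contradiction (Frobenius pair `(Q/Q₀, ⟨η⟩)` on `S`). -/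
theorem alpha_close [Finite Γ] [Finite A] (H : NCtx f η ℓ h j X S Q Z Q0 s q ρ)
    (hF : ∀ u ∈ S, j f * u * (j f)⁻¹ = u) : False := by
  haveI := H.Q0n
  haveI := H.Sn
  have hFQ : ∀ x ∈ Q, j f * x * (j f)⁻¹ * x⁻¹ ∈ Q0 := by
    intro x hx
    have := comm_mem_cenQS S Q (j f) hF (fun x hx => H.hQA f x hx) hx
    obtain ⟨h1, h2⟩ := mem_cenSQ'.mp this
    exact (H.hQ0 _).mpr ⟨h1, h2⟩
  have hcardR0 : Nat.card ↥((Subgroup.zpowers η).map j) ∣ Nat.card A := by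
    have h1 : Nat.card ↥((Subgroup.zpowers η).map j) ∣ Nat.card ↥(Subgroup.zpowers η) :=
      Subgroup.card_map_dvd _ _
    exact h1.trans (Subgroup.card_subgroup_dvd_card _)
  obtain ⟨u, hu, hu1, hfix⟩ := Cfsg.Agent.Helper4.PqFP.frob_pair_fix S Q Q0
    ((Subgroup.zpowers η).map j) H.S_solv H.hQ0
    (by
      rintro _ ⟨v, -, rfl⟩ x hx
      exact H.hQA v x hx)
    (Nat.Coprime.mul_right H.copQS.symm (Nat.Coprime.coprime_dvd_right hcardR0 H.copSA))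
    (Nat.Coprime.coprime_dvd_right hcardR0 H.copQA)
    (H.η_fpf_Qt hFQ) H.Q0_ne
  apply hu1
  apply H.hfpf u (H.hSX hu)
  intro a
  let B : Subgroup A :=
    { carrier := {a | j a * u * (j a)⁻¹ = u}
      one_mem' := by
        show j 1 * u * (j 1)⁻¹ = u
        rw [map_one]; group
      mul_mem' := by
        intro a b ha hb
        show j (a * b) * u * (j (a * b))⁻¹ = u
        have ha' : j a * u * (j a)⁻¹ = u := ha
        have hb' : j b * u * (j b)⁻¹ = u := hb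
        calc j (a * b) * u * (j (a * b))⁻¹ = j a * (j b * u * (j b)⁻¹) * (j a)⁻¹ := by
              rw [map_mul]; group
          _ = u := by rw [hb', ha']
      inv_mem' := by
        intro a ha
        show j a⁻¹ * u * (j a⁻¹)⁻¹ = u
        have ha' : j a * u * (j a)⁻¹ = u := ha
        calc j a⁻¹ * u * (j a⁻¹)⁻¹ = (j a)⁻¹ * (j a * u * (j a)⁻¹) * j a := by
              rw [ha', map_inv, inv_inv]
          _ = u := by group }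
  have hfB : f ∈ B := hF u hu
  have hηB : η ∈ B := hfix (j η) ⟨η, Subgroup.mem_zpowers η, rfl⟩
  exact H.all_of_gens B hfB hηB a

end NCtx

end Cfsg.Agent.Helper29.Pq
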