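import Mathlib
import Cfsg.Agent.Helper28.S5658.Defs
import Cfsg.Agent.Helper28.S5658.Lib
import Cfsg.Agent.Helper11.S5658RGRP
import Cfsg.Agent.Helper18.S5658RSUB

/-! S5658 piece DIMG (driver helper28): the group `D = ⟨R, y R y⁻¹⟩`, `y = T v c₀`, moves every vector inside
`⟨u₀, w₀, v⟩`, fixes `h w₀ v • u₀ - h u₀ v • w₀`, and lies in `M`. -/

set_option autoImplicit false

namespace Cfsg.Agent.S5658P

open Matrix
open Cfsg.Agent.S2644 Cfsg.Agent.Helper2.SUGen Cfsg.Agent.Helper28.SimMax Cfsg.Agent.S5639P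

variable {K : Type*} [Field K] {q n : ℕ}

local notation "h" => Cfsg.hermForm n K q
local notation "T" => Cfsg.unitaryTransvection n q

namespace DIMG

/-- the elements of `GL` moving every vector inside a subspace `W` -/
def Mov (W : Submodule K (Fin n → K)) : Subgroup (Matrix.GeneralLinearGroup (Fin n) K) where
  carrier := {g | ∀ z, (g : Matrix (Fin n) (Fin n) K) *ᵥ z - z ∈ W}
  one_mem' := by
    intro z
    rw [Units.val_one, one_mulVec, sub_self]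
    exact W.zero_mem
  mul_mem' := by
    intro a b ha hb z
    rw [Units.val_mul, ← mulVec_mulVec]
    have h1 := hb z
    have h2 := ha ((b : Matrix (Fin n) (Fin n) K) *ᵥ z)
    have : (a : Matrix (Fin n) (Fin n) K) *ᵥ ((b : Matrix (Fin n) (Fin n) K) *ᵥ z) - z =
        ((a : Matrix (Fin n) (Fin n) K) *ᵥ ((b : Matrix (Fin n) (Fin n) K) *ᵥ z) -
          (b : Matrix (Fin n) (Fin n) K) *ᵥ z) + ((b : Matrix (Fin n) (Fin n) K) *ᵥ z - z) := by
      abel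
    rw [this]
    exact W.add_mem h2 h1
  inv_mem' := by
    intro a ha z
    have h1 := ha (((a⁻¹ : Matrix.GeneralLinearGroup (Fin n) K) : Matrix (Fin n) (Fin n) K) *ᵥ z)
    rw [mulVec_mulVec, mul_inv_coe, one_mulVec] at h1
    have : ((a⁻¹ : Matrix.GeneralLinearGroup (Fin n) K) : Matrix (Fin n) (Fin n) K) *ᵥ z - z =
        -(z - ((a⁻¹ : Matrix.GeneralLinearGroup (Fin n) K) : Matrix (Fin n) (Fin n) K) *ᵥ z) := by
      abel
    rw [this]
    exact W.neg_mem h1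

theorem mem_Mov {W : Submodule K (Fin n → K)} {g : Matrix.GeneralLinearGroup (Fin n) K} :
    g ∈ Mov W ↔ ∀ z, (g : Matrix (Fin n) (Fin n) K) *ᵥ z - z ∈ W := Iff.rfl

theorem Mov_mono {W W' : Submodule K (Fin n → K)} (hW : W ≤ W') : Mov W ≤ Mov W' :=
  fun _ hg z => hW (hg z)

/-- the elements of `GL` fixing a vector -/
def Fixer (x : Fin n → K) : Subgroup (Matrix.GeneralLinearGroup (Fin n) K) where
  carrier := {g | (g : Matrix (Fin n) (Fin n) K) *ᵥ x = x}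
  one_mem' := by
    show ((1 : Matrix.GeneralLinearGroup (Fin n) K) : Matrix (Fin n) (Fin n) K) *ᵥ x = x
    rw [Units.val_one, one_mulVec]
  mul_mem' := by
    intro a b ha hb
    show ((a * b : Matrix.GeneralLinearGroup (Fin n) K) : Matrix (Fin n) (Fin n) K) *ᵥ x = x
    rw [Units.val_mul, ← mulVec_mulVec]
    have hb' : (b : Matrix (Fin n) (Fin n) K) *ᵥ x = x := hb
    have ha' : (a : Matrix (Fin n) (Fin n) K) *ᵥ x = x := ha
    rw [hb', ha']
  inv_mem' := by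
    intro a ha
    show ((a⁻¹ : Matrix.GeneralLinearGroup (Fin n) K) : Matrix (Fin n) (Fin n) K) *ᵥ x = x
    have ha' : (a : Matrix (Fin n) (Fin n) K) *ᵥ x = x := ha
    conv_lhs => rw [← ha']
    rw [mulVec_mulVec, inv_mul_coe, one_mulVec]

theorem mem_Fixer {x : Fin n → K} {g : Matrix.GeneralLinearGroup (Fin n) K} :
    g ∈ Fixer x ↔ (g : Matrix (Fin n) (Fin n) K) *ᵥ x = x := Iff.rfl

end DIMG

theorem DIMG.sub_mem (D : Frob K q) (F₀ : Subfield K) {u₀ w₀ v : Fin n → K} (huu : h u₀ u₀ = 0)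
    (hww : h w₀ w₀ = 0) (hwu : h w₀ u₀ = 0) (hvv : h v v = 0) {c₀ : K} (hc₀ : D.σ c₀ = -c₀)
    (y : Matrix.GeneralLinearGroup (Fin n) K) (hy : (y : Matrix (Fin n) (Fin n) K) = T v c₀)
    {g : Matrix.GeneralLinearGroup (Fin n) K} (hg : g ∈ Dgrp D F₀ y u₀ w₀) (z : Fin n → K) :
    (g : Matrix (Fin n) (Fin n) K) *ᵥ z - z ∈ Submodule.span K {u₀, w₀, v} := by
  have hR : Rgrp D F₀ u₀ w₀ ≤ DIMG.Mov (Submodule.span K {u₀, w₀, v}) := by
    intro r hr
    rw [RGRP.mem_iff D F₀ huu hww hwu] at hr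
    intro z
    have h1 := RSUB.sub_mem D F₀ huu hww hwu hr z
    refine Submodule.span_mono ?_ h1
    intro x hx
    simp only [Set.mem_insert_iff, Set.mem_singleton_iff] at hx ⊢
    rcases hx with hx | hx
    · exact Or.inl hx
    · exact Or.inr (Or.inl hx)
  have hyM : y ∈ DIMG.Mov (Submodule.span K {u₀, w₀, v}) := by
    intro z
    rw [hy, T_mulVec, add_sub_cancel_left]
    apply Submodule.smul_mem
    apply Submodule.subset_span
    simp
  have hD : Dgrp D F₀ y u₀ w₀ ≤ DIMG.Mov (Submodule.span K {u₀, w₀, v}) := by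
    unfold Dgrp
    apply sup_le hR
    rintro _ ⟨r, hr, rfl⟩
    show y * r * y⁻¹ ∈ _
    exact Subgroup.mul_mem _ (Subgroup.mul_mem _ hyM (hR hr)) (Subgroup.inv_mem _ hyM)
  exact hD hg z

theorem DIMG.fix (D : Frob K q) (F₀ : Subfield K) {u₀ w₀ v : Fin n → K} (huu : h u₀ u₀ = 0)
    (hww : h w₀ w₀ = 0) (hwu : h w₀ u₀ = 0) (hvv : h v v = 0) {c₀ : K} (hc₀ : D.σ c₀ = -c₀)
    (y : Matrix.GeneralLinearGroup (Fin n) K) (hy : (y : Matrix (Fin n) (Fin n) K) = T v c₀)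
    {g : Matrix.GeneralLinearGroup (Fin n) K} (hg : g ∈ Dgrp D F₀ y u₀ w₀) :
    (g : Matrix (Fin n) (Fin n) K) *ᵥ (h w₀ v • u₀ - h u₀ v • w₀) = h w₀ v • u₀ - h u₀ v • w₀ := by
  have huw : h u₀ w₀ = 0 := h_symm_zero D hwu
  have hR : Rgrp D F₀ u₀ w₀ ≤ DIMG.Fixer (h w₀ v • u₀ - h u₀ v • w₀) := by
    intro r hr
    rw [RGRP.mem_iff D F₀ huu hww hwu] at hr
    obtain ⟨s, s', c, -, -, -, -, -, hA⟩ := hr
    rw [DIMG.mem_Fixer, hA, RGRP.mulVec D huu hww hwu]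
    rw [h_sub_left, h_sub_left, h_smul_left, h_smul_left, h_smul_left, h_smul_left, huu, hww, hwu,
      huw]
    simp
  have hyF : y ∈ DIMG.Fixer (h w₀ v • u₀ - h u₀ v • w₀) := by
    rw [DIMG.mem_Fixer, hy, T_mulVec, h_sub_left, h_smul_left, h_smul_left]
    have : h w₀ v * h u₀ v - h u₀ v * h w₀ v = 0 := by ring
    rw [this, mul_zero, zero_smul, add_zero]
  have hD : Dgrp D F₀ y u₀ w₀ ≤ DIMG.Fixer (h w₀ v • u₀ - h u₀ v • w₀) := by
    unfold Dgrp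
    apply sup_le hR
    rintro _ ⟨r, hr, rfl⟩
    show y * r * y⁻¹ ∈ _
    exact Subgroup.mul_mem _ (Subgroup.mul_mem _ hyF (hR hr)) (Subgroup.inv_mem _ hyF)
  exact hD hg

theorem DIMG.le (D : Frob K q) (F₀ : Subfield K)
    (M : Subgroup (Matrix.GeneralLinearGroup (Fin n) K)) (hRat : HasRatSU q F₀ M)
    {u₀ w₀ : Fin n → K} (hu : Rat F₀ u₀) (hw : Rat F₀ w₀) (huu : h u₀ u₀ = 0) (hww : h w₀ w₀ = 0)
    (hwu : h w₀ u₀ = 0) (y : Matrix.GeneralLinearGroup (Fin n) K) (hyM : y ∈ M) :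
    Dgrp D F₀ y u₀ w₀ ≤ M := by
  have hR : Rgrp D F₀ u₀ w₀ ≤ M := RSUB.le D F₀ M hRat hu hw huu hww hwu
  unfold Dgrp
  apply sup_le hR
  rintro _ ⟨r, hr, rfl⟩
  show y * r * y⁻¹ ∈ M
  exact M.mul_mem (M.mul_mem hyM (hR hr)) (M.inv_mem hyM)

end Cfsg.Agent.S5658P
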