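import Mathlib
import Cfsg.Agent.Helper28.S5658.Defs
import Cfsg.Agent.Helper28.S5658.Lib
import Cfsg.Agent.Helper29.S5658DIMG
import Cfsg.Agent.Helper11.S5658RGRP
import Cfsg.Agent.Helper8.S5658LOWRANK
import Cfsg.Agent.Helper8.S5658STABN
import Cfsg.Agent.Helper19.S5658NOQUAD
import Cfsg.Agent.Helper18.S5658XRAT
import Cfsg.Agent.Helper21.S5658UYRAT
import Cfsg.Agent.Helper22.S5658HYPB

/-! S5658 piece DSTAB (driver helper28): an element of `D = ⟨R, y R y⁻¹⟩` sending a rational point of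
`Y = ⟨u₀, w₀⟩` into `Y` is in `R`. -/

set_option autoImplicit false

namespace Cfsg.Agent.S5658P

open Matrix
open Cfsg.Agent.S2644 Cfsg.Agent.Helper2.SUGen Cfsg.Agent.Helper28.SimMax Cfsg.Agent.S5639P

variable {K : Type*} [Field K] {q n : ℕ}

local notation "h" => Cfsg.hermForm n K q
local notation "T" => Cfsg.unitaryTransvection n q

namespace DSTAB

/-- the line `⟨u₀, w₀⟩` is totally isotropic -/
theorem iso_of_mem (D : Frob K q) {u₀ w₀ : Fin n → K} (huu : h u₀ u₀ = 0) (hww : h w₀ w₀ = 0)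
    (hwu : h w₀ u₀ = 0) {x : Fin n → K} (hx : x ∈ Submodule.span K {u₀, w₀}) :
    h x x = 0 ∧ h x u₀ = 0 ∧ h x w₀ = 0 := by
  have huw : h u₀ w₀ = 0 := h_symm_zero D hwu
  obtain ⟨a, b, rfl⟩ := Submodule.mem_span_pair.1 hx
  refine ⟨?_, ?_, ?_⟩
  · rw [h_add_left, h_smul_left, h_smul_left, h_add_right D, h_add_right D, h_smul_right D,
      h_smul_right D, h_smul_right D, h_smul_right D, huu, hww, hwu, huw]
    ring
  · rw [h_add_left, h_smul_left, h_smul_left, huu, hwu]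
    ring
  · rw [h_add_left, h_smul_left, h_smul_left, huw, hww]
    ring

end DSTAB

theorem DSTAB.mem [Fintype K] (hn : 13 ≤ n) (D : Frob K q) (F₀ : Subfield K)
    (hθ : ∃ θ ∈ F₀, D.σ θ ≠ θ) (r : ℕ) (hr : r.Prime) (hro : Odd r)
    (hcard : Fintype.card K = Nat.card F₀ ^ r)
    (M : Subgroup (Matrix.GeneralLinearGroup (Fin n) K))
    (hMG : M ≤ Cfsg.GU n K q ⊓ Cfsg.Geo.specialLinear (Fin n) K) (hRat : HasRatSU q F₀ M)
    (hT : RootRatT D F₀ M) {u₀ w₀ v : Fin n → K} (hu : Rat F₀ u₀) (hw : Rat F₀ w₀)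
    (huu : h u₀ u₀ = 0) (hww : h w₀ w₀ = 0) (hwu : h w₀ u₀ = 0)
    (hi : LinearIndependent K ![u₀, w₀]) (hvv : h v v = 0)
    (hstar : ∀ b : Fin n → K, Rat F₀ b → b ≠ 0 → h b b = 0 → h v b ≠ 0) {c₀ : K}
    (hc₀ : D.σ c₀ = -c₀) (y : Matrix.GeneralLinearGroup (Fin n) K)
    (hy : (y : Matrix (Fin n) (Fin n) K) = T v c₀) (hyM : y ∈ M)
    {g : Matrix.GeneralLinearGroup (Fin n) K} (hg : g ∈ Dgrp D F₀ y u₀ w₀) {ua : Fin n → K}
    (hua : Rat F₀ ua) (hua0 : ua ≠ 0) (huaY : ua ∈ Submodule.span K {u₀, w₀})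
    (hgua : (g : Matrix (Fin n) (Fin n) K) *ᵥ ua ∈ Submodule.span K {u₀, w₀}) :
    g ∈ Rgrp D F₀ u₀ w₀ := by
  have huw : h u₀ w₀ = 0 := h_symm_zero D hwu
  have hu0 : u₀ ≠ 0 := hi.ne_zero 0
  have hw0 : w₀ ≠ 0 := hi.ne_zero 1
  have hgM : g ∈ M := DIMG.le D F₀ M hRat hu hw huu hww hwu y hyM hg
  have hgMS : (g : Matrix (Fin n) (Fin n) K) ∈ MS M := ⟨g, hgM, rfl⟩
  have hgP : Pres (q := q) (g : Matrix (Fin n) (Fin n) K) := pres_of_MS hMG hgMS
  -- step 1: `g ua` is proportional to a rational vector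
  obtain ⟨s₀, hs₀, hs₀0, hs₀σ⟩ := exists_rat_skew D F₀ hθ
  have hua_iso := DSTAB.iso_of_mem D huu hww hwu huaY
  have hx_iso := DSTAB.iso_of_mem D huu hww hwu hgua
  have hTua : T ua s₀ ∈ MS M := T_mem_of_hasRatSU D hRat hua hua_iso.1 hs₀ hs₀σ
  have hTx : T ((g : Matrix (Fin n) (Fin n) K) *ᵥ ua) s₀ ∈ MS M := MS_conj_T D hMG hgMS hTua
  have hP : PRat F₀ ((g : Matrix (Fin n) (Fin n) K) *ᵥ ua) :=
    LOWRANK.prat hn D F₀ hθ M hMG hRat hT hs₀0 hs₀σ hx_iso.1 hTx hu hu0 huu hx_iso.2.1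
  -- step 2: `g` is a scalar multiple of a rational matrix
  obtain ⟨z, hz0, hzA⟩ := STABN.inN hn D F₀ hθ M hMG hRat hT hgM hua hua0 hua_iso.1 hP
  -- step 3: the fixed point `u₀ + τ • w₀`
  have hα : h w₀ v ≠ 0 := h_symm_ne D (hstar w₀ hw hw0 hww)
  have hβ : h u₀ v ≠ 0 := h_symm_ne D (hstar u₀ hu hu0 huu)
  set τ : K := -(h u₀ v) / h w₀ v with hτdef
  have hτα : τ * h w₀ v = -(h u₀ v) := by
    rw [hτdef, div_mul_cancel₀ _ hα]
  have hτ : τ ∉ F₀ := by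
    intro hτm
    have hb : Rat F₀ (u₀ + τ • w₀) := Cfsg.Agent.S5639P.Rat.add hu (Cfsg.Agent.S5639P.Rat.smul hτm hw)
    have hb0 : u₀ + τ • w₀ ≠ 0 := by
      intro h0
      have := (LinearIndependent.pair_iff.1 hi) 1 τ (by rw [one_smul]; exact h0)
      exact one_ne_zero this.1
    have hbY : u₀ + τ • w₀ ∈ Submodule.span K {u₀, w₀} :=
      Submodule.mem_span_pair.2 ⟨1, τ, by rw [one_smul]⟩
    have hbb := (DSTAB.iso_of_mem D huu hww hwu hbY).1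
    apply hstar _ hb hb0 hbb
    apply h_symm_zero D
    rw [h_add_left, h_smul_left, hτα, add_neg_cancel]
  have hfix : (g : Matrix (Fin n) (Fin n) K) *ᵥ (u₀ + τ • w₀) = u₀ + τ • w₀ := by
    have h1 := DIMG.fix D F₀ huu hww hwu hvv hc₀ y hy hg
    have h2 : u₀ + τ • w₀ = (h w₀ v)⁻¹ • (h w₀ v • u₀ - h u₀ v • w₀) := by
      rw [smul_sub, smul_smul, smul_smul, inv_mul_cancel₀ hα, one_smul, hτdef]
      have : (h w₀ v)⁻¹ * h u₀ v = -(-(h u₀ v) / h w₀ v) := by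
        field_simp
      rw [this, neg_smul, sub_neg_eq_add]
    rw [h2, mulVec_smul, h1]
  -- step 4: a frame and the quadratic equation of `τ`
  obtain ⟨e, f, H, he0, he1⟩ := HYPB.exists_frame_of_pair hn D F₀ hθ hu hw huu hww hwu hi
  have hAu : Rat F₀ ((z • (g : Matrix (Fin n) (Fin n) K)) *ᵥ u₀) := RatM.mulVec hzA hu
  have hAw : Rat F₀ ((z • (g : Matrix (Fin n) (Fin n) K)) *ᵥ w₀) := RatM.mulVec hzA hw
  have hb11 := Rat.herm F₀ (q := q) hAu (H.rat_f 0)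
  have hb12 := Rat.herm F₀ (q := q) hAw (H.rat_f 0)
  have hb21 := Rat.herm F₀ (q := q) hAu (H.rat_f 1)
  have hb22 := Rat.herm F₀ (q := q) hAw (H.rat_f 1)
  have hAfix : (z • (g : Matrix (Fin n) (Fin n) K)) *ᵥ u₀ +
      τ • ((z • (g : Matrix (Fin n) (Fin n) K)) *ᵥ w₀) = z • u₀ + (z * τ) • w₀ := by
    have : (z • (g : Matrix (Fin n) (Fin n) K)) *ᵥ (u₀ + τ • w₀) = z • (u₀ + τ • w₀) := by
      rw [smul_mulVec, hfix]
    rw [mulVec_add, mulVec_smul] at this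
    rw [this, smul_add, smul_smul]
  have hu0f0 : h u₀ (f 0) = 1 := by rw [← he0, H.ef, if_pos rfl]
  have hu0f1 : h u₀ (f 1) = 0 := by rw [← he0, H.ef, if_neg (by decide)]
  have hw0f0 : h w₀ (f 0) = 0 := by rw [← he1, H.ef, if_neg (by decide)]
  have hw0f1 : h w₀ (f 1) = 1 := by rw [← he1, H.ef, if_pos rfl]
  have eq1 : h ((z • (g : Matrix (Fin n) (Fin n) K)) *ᵥ u₀) (f 0) +
      τ * h ((z • (g : Matrix (Fin n) (Fin n) K)) *ᵥ w₀) (f 0) = z := by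
    have := congrArg (fun t => h t (f 0)) hAfix
    simp only [h_add_left, h_smul_left, hu0f0, hw0f0] at this
    rw [this]
    ring
  have eq2 : h ((z • (g : Matrix (Fin n) (Fin n) K)) *ᵥ u₀) (f 1) +
      τ * h ((z • (g : Matrix (Fin n) (Fin n) K)) *ᵥ w₀) (f 1) = z * τ := by
    have := congrArg (fun t => h t (f 1)) hAfix
    simp only [h_add_left, h_smul_left, hu0f1, hw0f1] at this
    rw [this]
    ring
  have hquad := NOQUAD.eq_zero F₀ r hr hro hcard hτ hb12 (F₀.sub_mem hb11 hb22) (F₀.neg_mem hb21)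
    (by linear_combination τ * eq1 - eq2)
  have hzF : z ∈ F₀ := by
    rw [← eq1, hquad.1, mul_zero, add_zero]
    exact hb11
  have hgRat : RatM F₀ (g : Matrix (Fin n) (Fin n) K) := by
    intro i j
    have h1 := hzA i j
    rw [Matrix.smul_apply, smul_eq_mul] at h1
    have : (g : Matrix (Fin n) (Fin n) K) i j = z⁻¹ * (z * (g : Matrix (Fin n) (Fin n) K) i j) := by
      rw [← mul_assoc, inv_mul_cancel₀ hz0, one_mul]
    rw [this]
    exact F₀.mul_mem (F₀.inv_mem hzF) h1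
  -- step 5: `g` moves everything inside `Y`
  have hsub := XRAT.sub_mem hn D F₀ hθ hu hw hstar hgRat
    (fun z => DIMG.sub_mem D F₀ huu hww hwu hvv hc₀ y hy hg z)
  have hRS := UYRAT.mem_RSet hn D F₀ hθ hu hw huu hww hwu hi hgRat hgP hsub
  exact (RGRP.mem_iff D F₀ huu hww hwu g).2 hRS

end Cfsg.Agent.S5658P
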