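import Mathlib

set_option autoImplicit false

namespace Cfsg.Agent.Helper29.AbPerm

theorem rearr_nat (u v n : ℕ) :
    u ^ (n + 1) * v + u * v ^ (n + 1) ≤ u ^ (n + 2) + v ^ (n + 2) := by
  rcases le_total u v with h | h
  · have h2 : u ^ (n + 1) ≤ v ^ (n + 1) := Nat.pow_le_pow_left h _
    obtain ⟨d, rfl⟩ := Nat.exists_eq_add_of_le h
    obtain ⟨e, he⟩ := Nat.exists_eq_add_of_le h2
    have e1 : (u + d) ^ (n + 2) = (u + d) ^ (n + 1) * (u + d) := pow_succ _ _
    have e2 : u ^ (n + 2) = u ^ (n + 1) * u := pow_succ _ _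
    rw [e1, e2, he]
    nlinarith [Nat.zero_le (e * d)]
  · have h2 : v ^ (n + 1) ≤ u ^ (n + 1) := Nat.pow_le_pow_left h _
    obtain ⟨d, rfl⟩ := Nat.exists_eq_add_of_le h
    obtain ⟨e, he⟩ := Nat.exists_eq_add_of_le h2
    have e1 : (v + d) ^ (n + 2) = (v + d) ^ (n + 1) * (v + d) := pow_succ _ _
    have e2 : v ^ (n + 2) = v ^ (n + 1) * v := pow_succ _ _
    rw [e1, e2, he]
    nlinarith [Nat.zero_le (e * d)]

theorem young_nat (u v n : ℕ) : (n + 1) * u * v ^ n ≤ u ^ (n + 1) + n * v ^ (n + 1) := by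
  induction n with
  | zero => simp
  | succ n ih =>
    have h1 := rearr_nat u v n
    have e1 : v ^ (n + 1 + 1) = v ^ (n + 1) * v := pow_succ _ _
    have e3 : v ^ (n + 2) = v ^ (n + 1) * v := pow_succ _ _
    have e2 : v ^ (n + 1) = v ^ n * v := pow_succ _ _
    have h3 : v * ((n + 1) * u * v ^ n) ≤ v * (u ^ (n + 1) + n * v ^ (n + 1)) :=
      Nat.mul_le_mul_left _ ih
    rw [e1]
    rw [e3] at h1
    rw [e2] at h3 h1 ⊢
    nlinarith [h1, h3]

theorem amgm_step (S y k : ℕ) :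
    S ^ k * y * (k + 1) ^ (k + 1) ≤ (S + y) ^ (k + 1) * k ^ k := by
  rcases Nat.eq_zero_or_pos k with rfl | hk
  · simp
  · have h := young_nat (k * (S + y)) ((k + 1) * S) k
    -- (k+1) * (k (S+y)) * ((k+1) S)^k ≤ (k(S+y))^(k+1) + k ((k+1) S)^(k+1)
    have e1 : (k * (S + y)) ^ (k + 1) = k * (k ^ k * (S + y) ^ (k + 1)) := by
      rw [mul_pow, pow_succ k k]; ring
    have e2 : ((k + 1) * S) ^ (k + 1) = (k + 1) ^ (k + 1) * S ^ k * S := by
      rw [mul_pow, pow_succ S k]; ring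
    have e3 : ((k + 1) * S) ^ k = (k + 1) ^ k * S ^ k := mul_pow _ _ _
    have e4 : (k + 1) ^ (k + 1) = (k + 1) ^ k * (k + 1) := pow_succ _ _
    rw [e1, e2, e3] at h
    have h' : k * (S ^ k * y * (k + 1) ^ (k + 1)) ≤ k * ((S + y) ^ (k + 1) * k ^ k) := by
      rw [e4] at h ⊢
      nlinarith [h]
    exact Nat.le_of_mul_le_mul_left h' hk

theorem list_amgm (l : List ℕ) : l.prod * l.length ^ l.length ≤ l.sum ^ l.length := by
  induction l with
  | nil => simp
  | cons y l ih =>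
    simp only [List.prod_cons, List.length_cons, List.sum_cons]
    set k := l.length
    set S := l.sum
    set P := l.prod
    have h := amgm_step S y k
    have hk : 0 < k ^ k := by
      rcases Nat.eq_zero_or_pos k with h0 | h0
      · rw [h0]; simp
      · positivity
    have : (y * P * (k + 1) ^ (k + 1)) * k ^ k ≤ ((y + S) ^ (k + 1)) * k ^ k := by
      calc (y * P * (k + 1) ^ (k + 1)) * k ^ k
          = (P * k ^ k) * y * (k + 1) ^ (k + 1) := by ring
        _ ≤ S ^ k * y * (k + 1) ^ (k + 1) := by gcongr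
        _ ≤ (S + y) ^ (k + 1) * k ^ k := h
        _ = (y + S) ^ (k + 1) * k ^ k := by rw [add_comm]
    exact Nat.le_of_mul_le_mul_right this hk

theorem parts (s : ℕ) : ∀ m : ℕ, 1 ≤ s → 2 ^ s ≤ m →
    ∃ l : List ℕ, l.length = s ∧ l.sum ≤ m ∧ m ≤ l.prod := by
  induction s with
  | zero => intro m h; omega
  | succ s ih =>
    intro m _ hm
    rcases Nat.eq_zero_or_pos s with rfl | hs
    · exact ⟨[m], by simp, by simp, by simp⟩
    · have h2 : 2 ≤ 2 ^ s := by
        calc 2 = 2 ^ 1 := by norm_num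
          _ ≤ 2 ^ s := Nat.pow_le_pow_right (by norm_num) hs
      have h3 : 2 ^ (s + 1) = 2 * 2 ^ s := by rw [pow_succ]; ring
      obtain ⟨l, hl1, hl2, hl3⟩ := ih (m - 2) hs (by omega)
      refine ⟨2 :: l, by simp [hl1], ?_, ?_⟩
      · simp only [List.sum_cons]; omega
      · simp only [List.prod_cons]
        have : 2 * (m - 2) ≤ 2 * l.prod := Nat.mul_le_mul_left _ hl3
        omega

end Cfsg.Agent.Helper29.AbPerm
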