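import Mathlib
import Cfsg.Agent.Helper29.AbPermA

set_option autoImplicit false

namespace Cfsg.Agent.Helper29.AbPerm

open MulAction

universe u v

section action

variable {A : Type u} [CommGroup A] {Ω : Type v} [MulAction A Ω]

theorem smul_not_mem_orbit (ω : Ω) (b : A) (x : Ω) (hx : x ∉ orbit A ω) :
    b • x ∉ orbit A ω := by
  intro h
  apply hx
  rw [← orbit_eq_iff] at h ⊢
  rw [← h, orbit_smul]

/-- The action of a subgroup on the complement of an orbit of the big group. -/
@[reducible] def complAction (K : Subgroup A) (ω : Ω) : MulAction K {x : Ω // x ∉ orbit A ω} where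
  smul b x := ⟨(b : A) • x.1, smul_not_mem_orbit ω (b : A) x.1 x.2⟩
  one_smul x := by
    apply Subtype.ext
    show ((1 : K) : A) • x.1 = x.1
    simp
  mul_smul a b x := by
    apply Subtype.ext
    show ((a * b : K) : A) • x.1 = (a : A) • ((b : A) • x.1)
    simp [mul_smul]

theorem complAction_faithful [FaithfulSMul A Ω] (ω : Ω) :
    letI := complAction (stabilizer A ω) ω
    FaithfulSMul (stabilizer A ω) {x : Ω // x ∉ orbit A ω} := by
  let _ := complAction (stabilizer A ω) ω
  refine ⟨fun {b c} h => ?_⟩
  apply Subtype.ext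
  apply FaithfulSMul.eq_of_smul_eq_smul (α := Ω)
  intro x
  by_cases hx : x ∈ orbit A ω
  · obtain ⟨a, rfl⟩ := hx
    have hb : (b : A) • ω = ω := b.2
    have hc : (c : A) • ω = ω := c.2
    show (b : A) • (a • ω) = (c : A) • (a • ω)
    rw [smul_comm (b : A) a ω, smul_comm (c : A) a ω, hb, hc]
  · have := h ⟨x, hx⟩
    exact congrArg Subtype.val this

end action


section main

variable {p : ℕ}

theorem card_omega_sub {A : Type u} [CommGroup A] [Finite A] (K : Subgroup A) :
    Nat.card {x : K // x ^ p = 1} = Nat.card ↥((powMonoidHom p : A →* A).ker ⊓ K) := by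
  apply Nat.card_congr
  refine ⟨fun x => ⟨x.1.1, ⟨?_, x.1.2⟩⟩, fun y => ⟨⟨y.1, y.2.2⟩, ?_⟩, ?_, ?_⟩
  · show x.1.1 ∈ (powMonoidHom p : A →* A).ker
    rw [MonoidHom.mem_ker, powMonoidHom_apply]
    have := x.2
    exact_mod_cast congrArg Subtype.val this
  · apply Subtype.ext
    have : y.1 ∈ (powMonoidHom p : A →* A).ker := y.2.1
    rw [MonoidHom.mem_ker, powMonoidHom_apply] at this
    simpa using this
  · intro x; rfl
  · intro y; rfl

theorem card_omega_top {A : Type u} [CommGroup A] [Finite A] :
    Nat.card {x : A // x ^ p = 1} = Nat.card ↥((powMonoidHom p : A →* A).ker) := by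
  apply Nat.card_congr
  exact Equiv.subtypeEquivRight (fun x => by rw [MonoidHom.mem_ker, powMonoidHom_apply])

theorem main_aux [hp : Fact p.Prime] (N : ℕ) :
    ∀ (A : Type u) [CommGroup A] [Finite A] (Ω : Type v) [Finite Ω] [MulAction A Ω]
      [FaithfulSMul A Ω], IsPGroup p A → Nat.card A ≤ N →
      ∀ k, Nat.card {x : A // x ^ p = 1} = p ^ k →
      ∃ l : List ℕ, l.length = k ∧ l.sum ≤ Nat.card Ω ∧ Nat.card A ≤ l.prod := by
  induction N with
  | zero =>
    intro A _ _ Ω _ _ _ _ hN
    have : 0 < Nat.card A := Nat.card_pos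
    omega
  | succ N ih =>
    intro A _ _ Ω _ _ _ hA hN k hk
    by_cases htriv : Nat.card A = 1
    · have : Subsingleton A := (Nat.card_eq_one_iff_unique.mp htriv).1
      have h1 : Nat.card {x : A // x ^ p = 1} = 1 := by
        rw [Nat.card_eq_one_iff_unique]
        exact ⟨⟨fun a b => Subtype.ext (Subsingleton.elim _ _)⟩, ⟨⟨1, one_pow _⟩⟩⟩
      have hk0 : k = 0 := by
        rw [h1] at hk
        by_contra hne
        have : 1 < p ^ k := Nat.one_lt_pow hne hp.out.one_lt
        omega
      exact ⟨[], by simp [hk0], by simp, by simp⟩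
    · -- an element of order p
      have hdvd : p ∣ Nat.card A := by
        rcases hA.card_eq_or_dvd with h | h
        · exact absurd h htriv
        · exact h
      obtain ⟨z, hz⟩ := exists_prime_orderOf_dvd_card' p hdvd
      have hz1 : z ≠ 1 := by
        intro h
        rw [h, orderOf_one] at hz
        exact hp.out.one_lt.ne hz
      have hzp : z ^ p = 1 := by rw [← hz]; exact pow_orderOf_eq_one z
      obtain ⟨ω, hω⟩ : ∃ ω : Ω, z • ω ≠ ω := by
        by_contra hcon
        push Not at hcon
        apply hz1
        apply FaithfulSMul.eq_of_smul_eq_smul (α := Ω)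
        intro x
        rw [hcon x, one_smul]
      set K := stabilizer A ω with hKdef
      have hzK : z ∉ K := fun h => hω h
      let _ := complAction K ω
      have hfaith : FaithfulSMul K {x : Ω // x ∉ orbit A ω} := complAction_faithful ω
      set W := (powMonoidHom p : A →* A).ker with hWdef
      have hWcard : Nat.card W = p ^ k := by rw [← card_omega_top]; exact hk
      have hKp : IsPGroup p K := hA.to_subgroup K
      have hWKp : IsPGroup p ↥(W ⊓ K) := hA.to_subgroup _
      obtain ⟨k', hk'⟩ := IsPGroup.iff_card.mp hWKp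
      have hkK : Nat.card {x : K // x ^ p = 1} = p ^ k' := by
        rw [card_omega_sub]; exact hk'
      -- index facts
      have hidx : Nat.card K * K.index = Nat.card A := K.card_mul_index
      have hidx_pos : 0 < K.index := Nat.pos_of_ne_zero Subgroup.index_ne_zero_of_finite
      have hK_pos : 0 < Nat.card K := Nat.card_pos
      have hlt : 1 < K.index := by
        by_contra hcon
        have h1 : K.index = 1 := by omega
        rw [Subgroup.index_eq_one] at h1
        exact hzK (h1 ▸ Subgroup.mem_top z)
      have hKN : Nat.card K ≤ N := by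
        have : Nat.card K * 2 ≤ Nat.card A := by
          rw [← hidx]; exact Nat.mul_le_mul_left _ hlt
        omega
      obtain ⟨l', hl1, hl2, hl3⟩ := ih K {x : Ω // x ∉ orbit A ω} hKp hKN k' hkK
      -- relative index
      have hrel : Nat.card ↥(W ⊓ K) * K.relIndex W = Nat.card W := by
        have := Subgroup.relIndex_mul_relIndex (⊥ : Subgroup A) (W ⊓ K) W bot_le inf_le_left
        rw [Subgroup.relIndex_bot_left, Subgroup.relIndex_bot_left, Subgroup.inf_relIndex_left] at this
        exact this
      have hrel_le : K.relIndex W ≤ K.index := by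
        have := Subgroup.relIndex_le_of_le_right (H := K) (le_top : W ≤ ⊤)
          (by rw [Subgroup.relIndex_top_right]; exact Subgroup.index_ne_zero_of_finite)
        rwa [Subgroup.relIndex_top_right] at this
      have hrel_ne : K.relIndex W ≠ 1 := by
        intro h
        rw [Subgroup.relIndex_eq_one] at h
        apply hzK
        apply h
        rw [hWdef, MonoidHom.mem_ker, powMonoidHom_apply]
        exact hzp
      rw [hk', hWcard] at hrel
      -- k' < k and relIndex = p^(k-k')
      have hk'k : k' < k := by
        by_contra hcon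
        push Not at hcon
        have h1 : p ^ k ≤ p ^ k' := Nat.pow_le_pow_right hp.out.pos hcon
        have h2 : 0 < p ^ k' := by have := hp.out.pos; positivity
        have h3 : 0 < K.relIndex W := by
          rcases Nat.eq_zero_or_pos (K.relIndex W) with h | h
          · rw [h, mul_zero] at hrel
            have : 0 < p ^ k := by have := hp.out.pos; positivity
            omega
          · exact h
        have h4 : p ^ k' * K.relIndex W ≤ p ^ k' * 1 := by rw [hrel, mul_one]; exact h1
        have h5 := Nat.le_of_mul_le_mul_left h4 h2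
        omega
      have hrel_eq : K.relIndex W = p ^ (k - k') := by
        have h2 : 0 < p ^ k' := by have := hp.out.pos; positivity
        have : p ^ k' * K.relIndex W = p ^ k' * p ^ (k - k') := by
          rw [hrel, ← pow_add]; congr 1; omega
        exact Nat.eq_of_mul_eq_mul_left h2 this
      have hm : 2 ^ (k - k') ≤ K.index := by
        calc 2 ^ (k - k') ≤ p ^ (k - k') := Nat.pow_le_pow_left hp.out.two_le _
          _ = K.relIndex W := hrel_eq.symm
          _ ≤ K.index := hrel_le
      obtain ⟨ls, hs1, hs2, hs3⟩ := parts (k - k') K.index (by omega) hm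
      -- card of Ω
      have hΩ : Nat.card Ω = K.index + Nat.card {x : Ω // x ∉ orbit A ω} := by
        classical
        have e := Nat.card_congr (Equiv.Set.sumCompl (orbit A ω))
        rw [Nat.card_sum] at e
        rw [← e, hKdef, index_stabilizer, ← Nat.card_coe_set_eq]
        rfl
      refine ⟨ls ++ l', ?_, ?_, ?_⟩
      · rw [List.length_append, hs1, hl1]; omega
      · rw [List.sum_append, hΩ]; omega
      · rw [List.prod_append, ← hidx, mul_comm]
        exact Nat.mul_le_mul hs3 hl3

open scoped IsMulCommutative in
theorem perm_bound {Ω : Type v} [Finite Ω] (p : ℕ) (hp : p.Prime) (A : Subgroup (Equiv.Perm Ω))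
    (hA : IsPGroup p A) [hab : IsMulCommutative A] (k : ℕ)
    (hk : Nat.card {x : A // x ^ p = 1} = p ^ k) :
    Nat.card A * k ^ k ≤ Nat.card Ω ^ k := by
  have : Fact p.Prime := ⟨hp⟩
  obtain ⟨l, h1, h2, h3⟩ := main_aux (p := p) (Nat.card A) A Ω hA le_rfl k hk
  have := list_amgm l
  rw [h1] at this
  calc Nat.card A * k ^ k ≤ l.prod * k ^ k := Nat.mul_le_mul_right _ h3
    _ ≤ l.sum ^ k := this
    _ ≤ Nat.card Ω ^ k := Nat.pow_le_pow_left h2 k

end main

end Cfsg.Agent.Helper29.AbPerm
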