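import Mathlib
import Cfsg.Agent.Helper3.SylowProd

set_option autoImplicit false

namespace Cfsg.Agent.Helper29

open Subgroup

section

variable {W : Type*} [Group W]

/-- a subgroup of full `q`-power order of an abelian normal subgroup is normal -/
theorem normal_of_card_eq_of_le_abelian_normal [Finite W] (V : Subgroup W) [hVn : V.Normal]
    (hV : ∀ x ∈ V, ∀ y ∈ V, x * y = y * x) (q : ℕ) [Fact q.Prime] (X : Subgroup W) (hX : X ≤ V)
    (hcard : Nat.card X = q ^ (Nat.card V).factorization q) : X.Normal := by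
  have hc : Nat.card (X.subgroupOf V) = q ^ (Nat.card V).factorization q := by
    rw [← hcard]
    exact Nat.card_congr (Subgroup.subgroupOfEquivOfLe hX).toEquiv
  let S : Sylow q V := Sylow.ofCard (X.subgroupOf V) hc
  have hSn : (S : Subgroup V).Normal := by
    refine ⟨fun n hn g => ?_⟩
    have : g * n * g⁻¹ = n := by
      have h1 : g * n = n * g := Subtype.ext (hV g g.2 n n.2)
      rw [h1, mul_inv_cancel_right]
    rw [this]; exact hn
  have hSc : (S : Subgroup V).Characteristic := Sylow.characteristic_of_normal S hSn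
  have hmap : ((S : Subgroup V).map V.subtype).Normal :=
    ConjAct.normal_of_characteristic_of_normal
  have : (S : Subgroup V).map V.subtype = X := by
    show (X.subgroupOf V).map V.subtype = X
    rw [Subgroup.subgroupOf_map_subtype, inf_of_le_left hX]
  rwa [this] at hmap

/-- A finite group `W = AB = AV = BV` with `A`, `B`, `V` abelian and `V` normal is nilpotent. -/
theorem isNilpotent_of_abelian_prod [Finite W] (A B V : Subgroup W) [V.Normal]
    (hA : ∀ x ∈ A, ∀ y ∈ A, x * y = y * x) (hB : ∀ x ∈ B, ∀ y ∈ B, x * y = y * x)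
    (hV : ∀ x ∈ V, ∀ y ∈ V, x * y = y * x)
    (hAV : ∀ w : W, ∃ a ∈ A, ∃ v ∈ V, w = a * v) (hBV : ∀ w : W, ∃ b ∈ B, ∃ v ∈ V, w = b * v)
    (hAB : ∀ w : W, ∃ a ∈ A, ∃ b ∈ B, w = a * b) : Group.IsNilpotent W := by
  have htfae : Group.IsNilpotent W ↔
      ∀ (p : ℕ) (_ : Fact p.Prime) (P : Sylow p W), (P : Subgroup W).Normal :=
    (Group.isNilpotent_of_finite_tfae (G := W)).out 0 3
  rw [htfae]
  intro q hq P
  obtain ⟨R₁, -, hR₁V, hR₁⟩ := Cfsg.Agent.Helper3.exists_sylow_factorization (p := q) A V hAV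
  obtain ⟨R₂, -, hR₂V, hR₂⟩ := Cfsg.Agent.Helper3.exists_sylow_factorization (p := q) B V hBV
  have hn1 : ((R₁ : Subgroup W) ⊓ V).Normal :=
    normal_of_card_eq_of_le_abelian_normal V hV q _ inf_le_right hR₁V
  have hn2 : ((R₂ : Subgroup W) ⊓ V).Normal :=
    normal_of_card_eq_of_le_abelian_normal V hV q _ inf_le_right hR₂V
  have hA1 : ∀ a ∈ A, ∀ x ∈ (R₁ : Subgroup W), a * x * a⁻¹ ∈ (R₁ : Subgroup W) := by
    intro a ha x hx
    have hx' : x ∈ ((R₁ : Subgroup W) : Set W) := hx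
    rw [hR₁] at hx'
    obtain ⟨s, hs, v, hv, rfl⟩ := hx'
    have h1 : a * s * a⁻¹ = s := by rw [hA a ha s hs.2, mul_inv_cancel_right]
    have h2 : a * v * a⁻¹ ∈ (R₁ : Subgroup W) ⊓ V := hn1.conj_mem v hv a
    have : a * (s * v) * a⁻¹ = (a * s * a⁻¹) * (a * v * a⁻¹) := by group
    rw [this, h1]
    exact mul_mem hs.1 h2.1
  have hB2 : ∀ b ∈ B, ∀ x ∈ (R₂ : Subgroup W), b * x * b⁻¹ ∈ (R₂ : Subgroup W) := by
    intro a ha x hx
    have hx' : x ∈ ((R₂ : Subgroup W) : Set W) := hx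
    rw [hR₂] at hx'
    obtain ⟨s, hs, v, hv, rfl⟩ := hx'
    have h1 : a * s * a⁻¹ = s := by rw [hB a ha s hs.2, mul_inv_cancel_right]
    have h2 : a * v * a⁻¹ ∈ (R₂ : Subgroup W) ⊓ V := hn2.conj_mem v hv a
    have : a * (s * v) * a⁻¹ = (a * s * a⁻¹) * (a * v * a⁻¹) := by group
    rw [this, h1]
    exact mul_mem hs.1 h2.1
  obtain ⟨g, hg⟩ := MulAction.exists_smul_eq W R₁ R₂
  have hg' : ∀ x, x ∈ (R₂ : Subgroup W) ↔ g⁻¹ * x * g ∈ (R₁ : Subgroup W) := by
    intro x
    rw [← hg, Sylow.coe_subgroup_smul, Subgroup.mem_pointwise_smul_iff_inv_smul_mem]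
    simp [MulAut.smul_def]
  obtain ⟨a, ha, b, hb, hab⟩ := hAB g⁻¹
  have hle : (R₁ : Subgroup W) ≤ R₂ := by
    intro x hx
    -- b⁻¹ x b ∈ R₂
    have h1 : b⁻¹ * x * b ∈ (R₂ : Subgroup W) := by
      rw [hg', hab]
      have h2 := hA1 a ha x hx
      convert h2 using 1
      have : g = b⁻¹ * a⁻¹ := by
        rw [← inv_inv g, hab]; group
      rw [this]; group
    have h3 := hB2 b hb _ h1
    convert h3 using 1; group
  have hR12 : (R₁ : Subgroup W) = R₂ := by
    apply Subgroup.eq_of_le_of_card_ge hle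
    rw [R₁.card_eq_multiplicity, R₂.card_eq_multiplicity]
  have hR₁n : (R₁ : Subgroup W).Normal := by
    refine ⟨fun x hx w => ?_⟩
    obtain ⟨a, ha, b, hb, rfl⟩ := hAB w
    have h1 : b * x * b⁻¹ ∈ (R₁ : Subgroup W) := by
      rw [hR12]; exact hB2 b hb x (hR12 ▸ hx)
    have := hA1 a ha _ h1
    convert this using 1; group
  have := Sylow.unique_of_normal R₁ hR₁n
  rw [Subsingleton.elim P R₁]; exact hR₁n

end

end Cfsg.Agent.Helper29
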