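import Mathlib

/-!
# Self-dual faithful irreducible modules of abelian groups over finite fields

For a finite abelian group `H` with a faithful irreducible module `V` over the finite field `F`
with `q` elements, the subalgebra `E` of `End V` generated by `H` is a field and `V` is
one-dimensional over it.  `V` carries a nondegenerate `H`-invariant bilinear form iff either
`dim V = 1` and `#H ≤ 2`, or `dim V = 2m` is even and `#H` divides `q^m + 1`.
-/

set_option autoImplicit false
set_option linter.style.haveILetI false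

namespace Cfsg.Agent.Helper29.AbelianSelfDual

open Module
open scoped IsMulCommutative


/-- An involutive nontrivial automorphism of a finite field extension `L/F` is the
`finrank/2`-th power of the Frobenius. -/
theorem involution_eq_frobenius_pow (F L : Type*) [Field F] [Fintype F] [Field L] [Algebra F L]
    [Finite L] (σ : L →ₐ[F] L) (hσ2 : ∀ x, σ (σ x) = x) (hσ1 : ∃ x, σ x ≠ x) :
    Even (finrank F L) ∧ ∀ x, σ x = x ^ (Fintype.card F ^ (finrank F L / 2)) := by
  obtain ⟨⟨i, hi⟩, hσ⟩ := (FiniteField.bijective_frobeniusAlgHom_pow F L).2 σ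
  simp only at hσ
  set φ := FiniteField.frobeniusAlgHom F L with hφ
  set n := finrank F L with hn
  have hord : orderOf φ = n := FiniteField.orderOf_frobeniusAlgHom F L
  have hi0 : i ≠ 0 := by
    rintro rfl
    obtain ⟨x, hx⟩ := hσ1
    apply hx
    rw [← hσ, pow_zero]
    rfl
  have h2 : φ ^ (2 * i) = 1 := by
    rw [two_mul, pow_add, hσ]
    ext x
    exact hσ2 x
  have hdvd : n ∣ 2 * i := hord ▸ orderOf_dvd_of_pow_eq_one h2
  obtain ⟨k, hk⟩ := hdvd
  have hk1 : k = 1 := by
    have hnpos : 0 < n := Module.finrank_pos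
    rcases k with _ | _ | k
    · omega
    · rfl
    · exfalso
      have : n * (k + 1 + 1) ≥ 2 * n := by nlinarith
      omega
  rw [hk1, mul_one] at hk
  refine ⟨⟨i, by omega⟩, fun x => ?_⟩
  have hi2 : n / 2 = i := by omega
  rw [hi2, ← hσ, AlgHom.coe_pow, FiniteField.coe_frobeniusAlgHom, pow_iterate]

/-- The same for a finite commutative domain. -/
theorem involution_eq_frobenius_pow' (F L : Type*) [Field F] [Fintype F] [CommRing L] [IsDomain L]
    [Algebra F L] [Finite L] (σ : L →ₐ[F] L) (hσ2 : ∀ x, σ (σ x) = x) (hσ1 : ∃ x, σ x ≠ x) :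
    Even (finrank F L) ∧ ∀ x, σ x = x ^ (Fintype.card F ^ (finrank F L / 2)) := by
  classical
  letI := Fintype.ofFinite L
  letI : Field L := Fintype.fieldOfDomain L
  exact involution_eq_frobenius_pow F L σ hσ2 hσ1


section Structure

variable {F : Type*} [Field F] {H : Type*} [CommGroup H] {V : Type*} [AddCommGroup V] [Module F V]
variable (ρ : Representation F H V)

/-- The commutative subalgebra of `End V` generated by the image of `ρ`. -/
def hull : Subalgebra F (Module.End F V) := Algebra.adjoin F (Set.range ρ)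

theorem rho_mem_hull (h : H) : ρ h ∈ hull ρ := Algebra.subset_adjoin ⟨h, rfl⟩

theorem range_comm : ∀ a ∈ Set.range ρ, ∀ b ∈ Set.range ρ, a * b = b * a := by
  rintro _ ⟨h, rfl⟩ _ ⟨k, rfl⟩
  rw [← map_mul, ← map_mul, mul_comm]

instance hull_isMulCommutative : IsMulCommutative (hull ρ) :=
  Algebra.isMulCommutative_adjoin F (range_comm ρ)

theorem hull_comm {a b : Module.End F V} (ha : a ∈ hull ρ) (hb : b ∈ hull ρ) : a * b = b * a := by
  have := isMulCommutative_iff.mp (hull_isMulCommutative ρ) (⟨a, ha⟩ : hull ρ) ⟨b, hb⟩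
  exact congrArg Subtype.val this

/-- The element of the hull given by `ρ h`. -/
def hullOf (h : H) : hull ρ := ⟨ρ h, rho_mem_hull ρ h⟩

theorem hullOf_pow (h : H) (k : ℕ) : hullOf ρ h ^ k = hullOf ρ (h ^ k) := by
  apply Subtype.ext
  simp [hullOf, map_pow]

theorem hullOf_one : hullOf ρ 1 = 1 := by
  apply Subtype.ext
  simp [hullOf]

variable {ρ}
variable (hirr : ∀ U : Submodule F V, (∀ h : H, ∀ u ∈ U, ρ h u ∈ U) → U = ⊥ ∨ U = ⊤)
include hirr

/-- A nonzero element of the hull is injective. -/
theorem injective_of_mem_hull {e : Module.End F V} (he : e ∈ hull ρ) (h0 : e ≠ 0) :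
    Function.Injective e := by
  rw [← LinearMap.ker_eq_bot]
  rcases hirr (LinearMap.ker e) (by
    intro h u hu
    rw [LinearMap.mem_ker] at hu ⊢
    have hc := hull_comm ρ he (rho_mem_hull ρ h)
    have : e (ρ h u) = ρ h (e u) := by
      change (e * ρ h) u = (ρ h * e) u
      rw [hc]
    rw [this, hu, map_zero]) with h1 | h1
  · exact h1
  · exfalso
    apply h0
    ext x
    have : x ∈ LinearMap.ker e := h1 ▸ Submodule.mem_top
    simpa using this

/-- Evaluation at a nonzero vector is a bijection from the hull onto `V`. -/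
theorem eval_bijective {v₀ : V} (hv : v₀ ≠ 0) :
    Function.Bijective (fun e : hull ρ => (e : Module.End F V) v₀) := by
  constructor
  · intro a b hab
    by_contra hne
    have h1 : ((a - b : hull ρ) : Module.End F V) ≠ 0 := by
      intro h
      apply hne
      have : a - b = 0 := Subtype.ext h
      exact sub_eq_zero.mp this
    have hinj := injective_of_mem_hull hirr (a - b).2 h1
    apply hv
    apply hinj
    rw [map_zero]
    simp only [AddSubgroupClass.coe_sub, LinearMap.sub_apply]
    exact sub_eq_zero.mpr hab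
  · let U : Submodule F V := LinearMap.range
      ((LinearMap.applyₗ v₀ : Module.End F V →ₗ[F] V).comp (hull ρ).val.toLinearMap)
    have hU : ∀ x, x ∈ U ↔ ∃ e : hull ρ, (e : Module.End F V) v₀ = x := by
      intro x
      simp [U, LinearMap.mem_range]
    rcases hirr U (by
      intro h u hu
      rw [hU] at hu ⊢
      obtain ⟨e, rfl⟩ := hu
      exact ⟨⟨ρ h, rho_mem_hull ρ h⟩ * e, rfl⟩) with h1 | h1
    · exfalso
      apply hv
      have : v₀ ∈ U := (hU v₀).mpr ⟨1, rfl⟩
      rw [h1] at this
      simpa using this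
    · intro x
      have : x ∈ U := h1 ▸ Submodule.mem_top
      exact (hU x).mp this

/-- The evaluation equivalence. -/
noncomputable def evalEquiv {v₀ : V} (hv : v₀ ≠ 0) : hull ρ ≃ₗ[F] V :=
  LinearEquiv.ofBijective
    ((LinearMap.applyₗ v₀ : Module.End F V →ₗ[F] V).comp (hull ρ).val.toLinearMap)
    (eval_bijective hirr hv)

theorem evalEquiv_apply {v₀ : V} (hv : v₀ ≠ 0) (e : hull ρ) :
    evalEquiv hirr hv e = (e : Module.End F V) v₀ := rfl

theorem evalEquiv_symm_rho {v₀ : V} (hv : v₀ ≠ 0) (h : H) (x : V) :
    (evalEquiv hirr hv).symm (ρ h x) = hullOf ρ h * (evalEquiv hirr hv).symm x := by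
  apply (evalEquiv hirr hv).injective
  rw [LinearEquiv.apply_symm_apply, evalEquiv_apply]
  have : ((hullOf ρ h * (evalEquiv hirr hv).symm x : hull ρ) : Module.End F V) v₀ =
      ρ h ((((evalEquiv hirr hv).symm x : hull ρ) : Module.End F V) v₀) := rfl
  rw [this, ← evalEquiv_apply hirr hv, LinearEquiv.apply_symm_apply]

theorem hull_isDomain [Nontrivial V] : IsDomain (hull ρ) := by
  have h1 : NoZeroDivisors (hull ρ) := by
    constructor
    intro a b hab
    by_contra hcon
    push Not at hcon
    obtain ⟨ha, hb⟩ := hcon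
    have ha' : (a : Module.End F V) ≠ 0 := fun h => ha (Subtype.ext h)
    have hinj := injective_of_mem_hull hirr a.2 ha'
    apply hb
    apply Subtype.ext
    ext x
    apply hinj
    have : ((a * b : hull ρ) : Module.End F V) x = 0 := by rw [hab]; rfl
    have h0 : (((0 : hull ρ) : Module.End F V)) x = 0 := rfl
    rw [h0, map_zero]
    exact this
  have h2 : Nontrivial (hull ρ) := by
    refine ⟨0, 1, fun h => ?_⟩
    obtain ⟨v, hv⟩ := exists_ne (0 : V)
    apply hv
    have : ((0 : hull ρ) : Module.End F V) v = ((1 : hull ρ) : Module.End F V) v := by rw [h]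
    simpa using this.symm
  exact NoZeroDivisors.to_isDomain _

theorem hull_finite [Finite F] [FiniteDimensional F V] [Nontrivial V] : Finite (hull ρ) := by
  obtain ⟨v, hv⟩ := exists_ne (0 : V)
  have : Finite V := Module.finite_of_finite F
  exact Finite.of_injective _ (eval_bijective hirr hv).1

end Structure


section Forms

variable {F : Type*} [Field F] [Fintype F] {H : Type*} [CommGroup H] {V : Type*} [AddCommGroup V]
  [Module F V] [FiniteDimensional F V]
variable {ρ : Representation F H V}
variable (hirr : ∀ U : Submodule F V, (∀ h : H, ∀ u ∈ U, ρ h u ∈ U) → U = ⊥ ∨ U = ⊤)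
include hirr

/-- Multiplication by a nonzero element of the hull is surjective. -/
theorem exists_mul_eq_one [Nontrivial V] {a : hull ρ} (ha : a ≠ 0) : ∃ b : hull ρ, a * b = 1 := by
  have := hull_isDomain hirr
  have := hull_finite hirr
  have hinj : Function.Injective (fun b : hull ρ => a * b) := fun b c hbc =>
    mul_left_cancel₀ ha hbc
  exact (Finite.injective_iff_surjective.mp hinj) 1

/-- If `h ^ (q ^ m + 1) = 1` for all `h`, there is a nondegenerate invariant form. -/
theorem exists_form_of_pow [Nontrivial V] (m : ℕ)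
    (hm : ∀ h : H, h ^ (Fintype.card F ^ m + 1) = 1) :
    ∃ B : LinearMap.BilinForm F V, B.Nondegenerate ∧
      ∀ h : H, ∀ x y : V, B (ρ h x) (ρ h y) = B x y := by
  classical
  have hdom := hull_isDomain hirr
  have hfin := hull_finite hirr
  obtain ⟨v₀, hv⟩ := exists_ne (0 : V)
  set ev := evalEquiv hirr hv with hev
  set σ : hull ρ →ₐ[F] hull ρ := (FiniteField.frobeniusAlgHom F (hull ρ)) ^ m with hσ
  have hσa : ∀ e : hull ρ, σ e = e ^ (Fintype.card F ^ m) := by
    intro e
    rw [hσ, AlgHom.coe_pow, FiniteField.coe_frobeniusAlgHom, pow_iterate]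
  have hσinj : Function.Injective σ := by
    rw [injective_iff_map_eq_zero]
    intro e he
    rw [hσa] at he
    exact pow_eq_zero_iff (pow_ne_zero m Fintype.card_ne_zero) |>.mp he
  have hσsurj : Function.Surjective σ := Finite.injective_iff_surjective.mp hσinj
  obtain ⟨τ, hτ⟩ : ∃ τ : Module.Dual F (hull ρ), τ 1 ≠ 0 := by
    by_contra hcon
    push Not at hcon
    exact one_ne_zero ((Module.forall_dual_apply_eq_zero_iff F (1 : hull ρ)).mp hcon)
  let B : LinearMap.BilinForm F V := LinearMap.mk₂ F
    (fun x y => τ (ev.symm x * σ (ev.symm y)))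
    (by intro x x' y; simp only [map_add, add_mul])
    (by intro c x y; simp only [map_smul, smul_mul_assoc, smul_eq_mul])
    (by intro x y y'; simp only [map_add, mul_add])
    (by intro c x y; simp only [map_smul, mul_smul_comm, smul_eq_mul])
  have hB : ∀ x y, B x y = τ (ev.symm x * σ (ev.symm y)) := fun x y => rfl
  refine ⟨B, ⟨?_, ?_⟩, ?_⟩
  · intro x hx
    by_contra hx0
    have hex : ev.symm x ≠ 0 := fun h => hx0 ((LinearEquiv.map_eq_zero_iff _).mp h)
    obtain ⟨b, hb⟩ := exists_mul_eq_one hirr hex
    obtain ⟨c, hc⟩ := hσsurj b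
    have := hx (ev c)
    rw [hB, LinearEquiv.symm_apply_apply, hc, hb] at this
    exact hτ this
  · intro y hy
    by_contra hy0
    have hey : ev.symm y ≠ 0 := fun h => hy0 ((LinearEquiv.map_eq_zero_iff _).mp h)
    have hσy : σ (ev.symm y) ≠ 0 := fun h => hey ((injective_iff_map_eq_zero σ).mp hσinj _ h)
    obtain ⟨b, hb⟩ := exists_mul_eq_one hirr hσy
    have := hy (ev b)
    rw [hB, LinearEquiv.symm_apply_apply, mul_comm, hb] at this
    exact hτ this
  · intro h x y
    rw [hB, hB, hev, evalEquiv_symm_rho, evalEquiv_symm_rho, map_mul σ]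
    have h1 : hullOf ρ h * σ (hullOf ρ h) = 1 := by
      rw [hσa, ← pow_succ', hullOf_pow, hm h, hullOf_one]
    have h2 : hullOf ρ h * (evalEquiv hirr hv).symm x *
        (σ (hullOf ρ h) * σ ((evalEquiv hirr hv).symm y)) =
        (hullOf ρ h * σ (hullOf ρ h)) *
          ((evalEquiv hirr hv).symm x * σ ((evalEquiv hirr hv).symm y)) := by
      ring
    rw [h2, h1, one_mul]

end Forms


section Adjoint

variable {F : Type*} [Field F] {V : Type*} [AddCommGroup V] [Module F V] [FiniteDimensional F V]
variable (B : LinearMap.BilinForm F V) (b : B.Nondegenerate)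

/-- The left adjoint with respect to a nondegenerate form. -/
noncomputable def dag (φ : Module.End F V) : Module.End F V := B.leftAdjointOfNondegenerate b φ

theorem dag_spec (φ : Module.End F V) (x y : V) : B (dag B b φ x) y = B x (φ y) :=
  LinearMap.BilinForm.isAdjointPairLeftAdjointOfNondegenerate B b φ x y

theorem dag_unique {ψ φ : Module.End F V} (h : ∀ x y, B (ψ x) y = B x (φ y)) : ψ = dag B b φ :=
  (LinearMap.BilinForm.isAdjointPair_iff_eq_of_nondegenerate B b ψ φ).mp h

theorem dag_add (φ ψ : Module.End F V) : dag B b (φ + ψ) = dag B b φ + dag B b ψ := by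
  symm
  apply dag_unique
  intro x y
  simp only [LinearMap.add_apply, map_add, dag_spec]

theorem dag_smul (c : F) (φ : Module.End F V) : dag B b (c • φ) = c • dag B b φ := by
  symm
  apply dag_unique
  intro x y
  simp only [LinearMap.smul_apply, map_smul, dag_spec, smul_eq_mul]

theorem dag_mul (φ ψ : Module.End F V) : dag B b (φ * ψ) = dag B b ψ * dag B b φ := by
  symm
  apply dag_unique
  intro x y
  simp only [Module.End.mul_apply, dag_spec]

theorem dag_one : dag B b 1 = 1 := by
  symm
  apply dag_unique
  intro x y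
  simp

theorem dag_algebraMap (c : F) : dag B b (algebraMap F (Module.End F V) c) =
    algebraMap F (Module.End F V) c := by
  rw [Algebra.algebraMap_eq_smul_one, dag_smul, dag_one]

end Adjoint


section Star

variable {F : Type*} [Field F] {H : Type*} [CommGroup H] {V : Type*} [AddCommGroup V]
  [Module F V] [FiniteDimensional F V]
variable {ρ : Representation F H V}
variable (B : LinearMap.BilinForm F V) (b : B.Nondegenerate)
  (hinv : ∀ h : H, ∀ x y : V, B (ρ h x) (ρ h y) = B x y)
include hinv

theorem dag_rho (h : H) : dag B b (ρ h) = ρ h⁻¹ := by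
  symm
  apply dag_unique
  intro x y
  have h1 := hinv h (ρ h⁻¹ x) y
  have h2 : ρ h (ρ h⁻¹ x) = x := by
    rw [← Module.End.mul_apply, ← map_mul, mul_inv_cancel, map_one, Module.End.one_apply]
  rw [h2] at h1
  exact h1.symm

theorem dag_mem_hull {e : Module.End F V} (he : e ∈ hull ρ) : dag B b e ∈ hull ρ := by
  unfold hull at he
  induction he using Algebra.adjoin_induction with
  | mem x hx =>
    obtain ⟨h, rfl⟩ := hx
    rw [dag_rho B b hinv]
    exact rho_mem_hull ρ h⁻¹
  | algebraMap r =>
    rw [dag_algebraMap]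
    exact Subalgebra.algebraMap_mem _ r
  | add x y hx hy ihx ihy =>
    rw [dag_add]
    exact Subalgebra.add_mem _ ihx ihy
  | mul x y hx hy ihx ihy =>
    rw [dag_mul]
    exact Subalgebra.mul_mem _ ihy ihx

theorem dag_dag {e : Module.End F V} (he : e ∈ hull ρ) : dag B b (dag B b e) = e := by
  unfold hull at he
  induction he using Algebra.adjoin_induction with
  | mem x hx =>
    obtain ⟨h, rfl⟩ := hx
    rw [dag_rho B b hinv, dag_rho B b hinv, inv_inv]
  | algebraMap r =>
    rw [dag_algebraMap, dag_algebraMap]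
  | add x y hx hy ihx ihy =>
    rw [dag_add, dag_add, ihx, ihy]
  | mul x y hx hy ihx ihy =>
    rw [dag_mul, dag_mul, ihx, ihy]

/-- The adjoint as an algebra endomorphism of the hull. -/
noncomputable def star : hull ρ →ₐ[F] hull ρ where
  toFun e := ⟨dag B b e, dag_mem_hull B b hinv e.2⟩
  map_one' := Subtype.ext (dag_one B b)
  map_mul' x y := by
    apply Subtype.ext
    show dag B b ((x : Module.End F V) * (y : Module.End F V)) =
      dag B b (x : Module.End F V) * dag B b (y : Module.End F V)
    rw [dag_mul]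
    exact hull_comm ρ (dag_mem_hull B b hinv y.2) (dag_mem_hull B b hinv x.2)
  map_zero' := by
    apply Subtype.ext
    show dag B b (0 : Module.End F V) = 0
    have := dag_smul B b (0 : F) (0 : Module.End F V)
    simpa using this
  map_add' x y := Subtype.ext (dag_add B b _ _)
  commutes' c := Subtype.ext (dag_algebraMap B b c)

theorem star_apply (e : hull ρ) :
    ((star B b hinv e : hull ρ) : Module.End F V) = dag B b (e : Module.End F V) := rfl

theorem star_star (e : hull ρ) : star B b hinv (star B b hinv e) = e :=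
  Subtype.ext (dag_dag B b hinv e.2)

theorem star_hullOf (h : H) : star B b hinv (hullOf ρ h) = hullOf ρ h⁻¹ :=
  Subtype.ext (dag_rho B b hinv h)

end Star

section Main

variable {F : Type*} [Field F] [Fintype F] {H : Type*} [CommGroup H] [Finite H] {V : Type*}
  [AddCommGroup V] [Module F V] [FiniteDimensional F V]
variable {ρ : Representation F H V}

/-- `h ↦ ρ h` as a monoid homomorphism into the hull. -/
def hullHom (ρ : Representation F H V) : H →* hull ρ where
  toFun := hullOf ρ
  map_one' := hullOf_one ρ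
  map_mul' h k := Subtype.ext (by simp [hullOf])

theorem even_and_dvd_of_form (hfaith : Function.Injective ρ)
    (hirr : ∀ U : Submodule F V, (∀ h : H, ∀ u ∈ U, ρ h u ∈ U) → U = ⊥ ∨ U = ⊤)
    (hn : 2 ≤ finrank F V)
    (B : LinearMap.BilinForm F V) (b : B.Nondegenerate)
    (hinv : ∀ h : H, ∀ x y : V, B (ρ h x) (ρ h y) = B x y) :
    Even (finrank F V) ∧ Nat.card H ∣ Fintype.card F ^ (finrank F V / 2) + 1 := by
  classical
  have hnt : Nontrivial V := Module.nontrivial_of_finrank_pos (R := F) (by omega)
  have hdom := hull_isDomain hirr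
  have hfin := hull_finite hirr
  obtain ⟨v₀, hv⟩ := exists_ne (0 : V)
  have hrank : finrank F (hull ρ) = finrank F V := (evalEquiv hirr hv).finrank_eq
  have hinjH : Function.Injective (hullOf ρ) := fun h k hhk => hfaith (congrArg Subtype.val hhk)
  by_cases hs : ∀ e : hull ρ, star B b hinv e = e
  · exfalso
    have h1 : ∀ h : H, hullOf ρ h = 1 ∨ hullOf ρ h = -1 := by
      intro h
      have e1 := hs (hullOf ρ h)
      rw [star_hullOf] at e1
      have e2 : h⁻¹ = h := hinjH e1
      have e3 : hullOf ρ h * hullOf ρ h = 1 := by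
        have : h * h = 1 := by
          nth_rewrite 1 [← e2]
          exact inv_mul_cancel h
        rw [← pow_two, hullOf_pow, pow_two, this, hullOf_one]
      exact mul_self_eq_one_iff.mp e3
    have h2 : ∀ e : Module.End F V, e ∈ hull ρ → ∃ c : F, e = c • (1 : Module.End F V) := by
      intro e he
      unfold hull at he
      induction he using Algebra.adjoin_induction with
      | mem x hx =>
        obtain ⟨h, rfl⟩ := hx
        rcases h1 h with h' | h'
        · refine ⟨1, ?_⟩
          have := congrArg Subtype.val h'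
          simpa [hullOf] using this
        · refine ⟨-1, ?_⟩
          have := congrArg Subtype.val h'
          simpa [hullOf] using this
      | algebraMap r => exact ⟨r, Algebra.algebraMap_eq_smul_one r⟩
      | add x y hx hy ihx ihy =>
        obtain ⟨c, rfl⟩ := ihx
        obtain ⟨d, rfl⟩ := ihy
        exact ⟨c + d, by rw [add_smul]⟩
      | mul x y hx hy ihx ihy =>
        obtain ⟨c, rfl⟩ := ihx
        obtain ⟨d, rfl⟩ := ihy
        exact ⟨c * d, by rw [smul_mul_smul_comm, mul_one]⟩
    have h3 : finrank F (hull ρ) ≤ 1 := finrank_le_one (1 : hull ρ) (fun w => by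
      obtain ⟨c, hc⟩ := h2 w w.2
      exact ⟨c, Subtype.ext (by simp [hc])⟩)
    omega
  · push Not at hs
    obtain ⟨hev, hpow⟩ := involution_eq_frobenius_pow' F (hull ρ) (star B b hinv)
      (star_star B b hinv) hs
    rw [hrank] at hev hpow
    refine ⟨hev, ?_⟩
    have hh : ∀ h : H, h ^ (Fintype.card F ^ (finrank F V / 2) + 1) = 1 := by
      intro h
      apply hinjH
      rw [← hullOf_pow, pow_succ, ← hpow, star_hullOf, hullOf_one]
      have : hullOf ρ h⁻¹ * hullOf ρ h = hullOf ρ (h⁻¹ * h) :=
        ((hullHom ρ).map_mul h⁻¹ h).symm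
      rw [this, inv_mul_cancel, hullOf_one]
    have hcyc : IsCyclic H := isCyclic_of_injective_ringHom (hullHom ρ) hinjH
    rw [← IsCyclic.exponent_eq_card]
    exact Monoid.exponent_dvd_of_forall_pow_eq_one hh

omit [Fintype F] in
theorem card_le_two_of_finrank_one (hfaith : Function.Injective ρ) (h1 : finrank F V = 1)
    (B : LinearMap.BilinForm F V) (b : B.Nondegenerate)
    (hinv : ∀ h : H, ∀ x y : V, B (ρ h x) (ρ h y) = B x y) : Nat.card H ≤ 2 := by
  classical
  obtain ⟨v, hv0, hv⟩ := finrank_eq_one_iff'.mp h1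
  have hsc : ∀ h : H, ∃ c : F, ∀ w : V, ρ h w = c • w := by
    intro h
    obtain ⟨c, hc⟩ := hv (ρ h v)
    refine ⟨c, fun w => ?_⟩
    obtain ⟨d, rfl⟩ := hv w
    rw [map_smul, ← hc, smul_comm]
  choose f hf using hsc
  have hBvv : B v v ≠ 0 := by
    intro h0
    apply hv0
    apply b.1 v
    intro w
    obtain ⟨d, rfl⟩ := hv w
    rw [map_smul, h0, smul_zero]
  have hsq : ∀ h : H, f h = 1 ∨ f h = -1 := by
    intro h
    have e := hinv h v v
    rw [hf h v] at e
    have e' : B (f h • v) (f h • v) = f h * (f h * B v v) := by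
      rw [map_smul, map_smul, LinearMap.smul_apply, smul_eq_mul, smul_eq_mul]
    rw [e', ← mul_assoc] at e
    have e2 : f h * f h = 1 := by
      have : (f h * f h - 1) * B v v = 0 := by rw [sub_mul, e, one_mul, sub_self]
      rcases mul_eq_zero.mp this with h' | h'
      · exact sub_eq_zero.mp h'
      · exact absurd h' hBvv
    exact mul_self_eq_one_iff.mp e2
  have hinj : Function.Injective f := by
    intro h k hhk
    apply hfaith
    ext w
    rw [hf h w, hf k w, hhk]
  let g : H → ({1, -1} : Finset F) := fun h => ⟨f h, by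
    rcases hsq h with h' | h' <;> simp [h']⟩
  have hg : Function.Injective g := fun h k hhk => hinj (congrArg Subtype.val hhk)
  calc Nat.card H ≤ Nat.card ({1, -1} : Finset F) := Nat.card_le_card_of_injective g hg
    _ = ({1, -1} : Finset F).card := Nat.card_eq_finsetCard _
    _ ≤ 2 := Finset.card_le_two

/-- **Self-dual faithful irreducible modules of abelian groups over finite fields.** -/
theorem selfDual_iff (hfaith : Function.Injective ρ)
    (hirr : ∀ U : Submodule F V, (∀ h : H, ∀ u ∈ U, ρ h u ∈ U) → U = ⊥ ∨ U = ⊤) :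
    (finrank F V = 1 → (∃ B : LinearMap.BilinForm F V, B.Nondegenerate ∧
        ∀ h : H, ∀ x y : V, B (ρ h x) (ρ h y) = B x y) → Nat.card H ≤ 2) ∧
    (2 ≤ finrank F V → ((∃ B : LinearMap.BilinForm F V, B.Nondegenerate ∧
        ∀ h : H, ∀ x y : V, B (ρ h x) (ρ h y) = B x y) ↔
      (Even (finrank F V) ∧ Nat.card H ∣ Fintype.card F ^ (finrank F V / 2) + 1))) := by
  refine ⟨?_, ?_⟩
  · rintro h1 ⟨B, b, hinv⟩
    exact card_le_two_of_finrank_one hfaith h1 B b hinv
  · intro hn
    constructor
    · rintro ⟨B, b, hinv⟩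
      exact even_and_dvd_of_form hfaith hirr hn B b hinv
    · rintro ⟨-, hdvd⟩
      have hnt : Nontrivial V := Module.nontrivial_of_finrank_pos (R := F) (by omega)
      apply exists_form_of_pow hirr (finrank F V / 2)
      intro h
      rw [← orderOf_dvd_iff_pow_eq_one]
      exact (orderOf_dvd_natCard h).trans hdvd

end Main

end Cfsg.Agent.Helper29.AbelianSelfDual
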