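import Mathlib

set_option autoImplicit false
set_option linter.unusedSectionVars false

namespace Cfsg.Agent.Helper29.Affine8

open Equiv Equiv.Perm

/-- block labels: the affine plane over `F₂` -/
abbrev B := ZMod 2 × ZMod 2
/-- the model point set: affine `3`-space over `F₂` -/
abbrev M := B × ZMod 2

/-- the affine permutations of `M` -/
def affM : Subgroup (Perm M) where
  carrier := {g | ∀ a b c : M, g (a + b + c) = g a + g b + g c}
  mul_mem' {g h} hg hh := by
    intro a b c
    rw [Perm.mul_apply, hh, hg]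
    rfl
  one_mem' := by
    intro a b c
    rfl
  inv_mem' {g} hg := by
    intro a b c
    apply g.injective
    rw [hg]
    simp

theorem mem_affM (g : Perm M) : g ∈ affM ↔ ∀ a b c : M, g (a + b + c) = g a + g b + g c :=
  Iff.rfl

instance (g : Perm M) : Decidable (g ∈ affM) :=
  decidable_of_iff _ (mem_affM g).symm

/-- the partition into the fibres of the first projection is preserved -/
def PresM (g : Perm M) : Prop := ∀ s t : M, s.1 = t.1 ↔ (g s).1 = (g t).1

instance (g : Perm M) : Decidable (PresM g) := by unfold PresM; infer_instance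

set_option maxRecDepth 100000 in
theorem D1 : ∀ σ : Perm B, ∀ u v w : B, σ (u + v + w) = σ u + σ v + σ w := by
  decide

theorem sign_addRight (a : ZMod 2) :
    Equiv.Perm.sign (Equiv.addRight a) = if a = 0 then 1 else -1 := by
  fin_cases a <;> decide

theorem D2 : ∀ c : B → ZMod 2, (∑ u, c u = 0) →
    ∀ u v w : B, c (u + v + w) = c u + c v + c w := by
  decide

theorem D3 : ∀ c : B → ZMod 2, (∏ u, (if c u = 0 then (1 : ℤˣ) else -1)) = 1 →
    ∑ u, c u = 0 := by
  decide

theorem D4 : ∀ x y : ZMod 2, x ≠ y → x = y + 1 := by decide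

/-- an even permutation preserving the partition is affine -/
theorem mem_affM_of_pres_of_sign (g : Perm M) (hP : PresM g) (hs : Equiv.Perm.sign g = 1) :
    g ∈ affM := by
  set gb : B → B := fun u => (g (u, 0)).1 with hgb
  have hfst : ∀ (u : B) (ε : ZMod 2), (g (u, ε)).1 = gb u := fun u ε =>
    (hP (u, ε) (u, 0)).mp rfl
  have hinj : Function.Injective gb := by
    intro u u' h
    exact (hP (u, 0) (u', 0)).mpr h
  set gbP : Perm B := Equiv.ofBijective gb (Finite.injective_iff_bijective.mp hinj) with hgbP
  set c : B → ZMod 2 := fun u => (g (u, 0)).2 with hc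
  have hsnd : ∀ (u : B) (ε : ZMod 2), (g (u, ε)).2 = c u + ε := by
    intro u ε
    fin_cases ε
    · exact (add_zero _).symm
    · apply D4
      intro h
      have h1 : g (u, 1) = g (u, 0) := Prod.ext ((hfst u 1).trans (hfst u 0).symm) h
      have := g.injective h1
      simp at this
  have hg : ∀ s : M, g s = (gbP s.1, c s.1 + s.2) := by
    rintro ⟨u, ε⟩
    exact Prod.ext (hfst u ε) (hsnd u ε)
  have hfac : g = prodCongrLeft (fun _ : ZMod 2 => gbP) *
      prodCongrRight (fun u : B => Equiv.addRight (c u)) := by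
    ext1 s
    rw [hg s, Perm.mul_apply]
    obtain ⟨u, ε⟩ := s
    simp [prodCongrLeft, prodCongrRight, add_comm]
  have hsign : (∏ u : B, Equiv.Perm.sign (Equiv.addRight (c u))) = 1 := by
    have h1 := hs
    rw [hfac, Equiv.Perm.sign_mul, Equiv.Perm.sign_prodCongrLeft,
      Equiv.Perm.sign_prodCongrRight, Finset.prod_const, Finset.card_univ, ZMod.card,
      Int.units_sq, one_mul] at h1
    exact h1
  simp_rw [sign_addRight] at hsign
  have hc0 := D3 c hsign
  have hcaff := D2 c hc0
  intro a b d
  rw [hg, hg a, hg b, hg d]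
  refine Prod.ext ?_ ?_
  · exact D1 gbP a.1 b.1 d.1
  · show c (a.1 + b.1 + d.1) + (a.2 + b.2 + d.2) = c a.1 + a.2 + (c b.1 + b.2) + (c d.1 + d.2)
    rw [hcaff]; ring

/-- an even affine permutation not preserving the partition -/
def kM : Perm M := swap ((0, 0), 1) ((1, 0), 1) * swap ((0, 1), 1) ((1, 1), 1)

theorem kM_mem : kM ∈ affM := by
  rw [mem_affM]; unfold kM; decide

theorem kM_sign : Equiv.Perm.sign kM = 1 := by
  unfold kM
  rw [Equiv.Perm.sign_mul, Equiv.Perm.sign_swap (by decide), Equiv.Perm.sign_swap (by decide)]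
  rfl

theorem kM_not_pres : ¬ PresM kM := by
  unfold kM; decide

/-- an even permutation that is not affine -/
def aM : Perm M := swap ((0, 0), 0) ((0, 0), 1) * swap ((0, 0), 1) ((0, 1), 0)

theorem aM_sign : Equiv.Perm.sign aM = 1 := by
  unfold aM
  rw [Equiv.Perm.sign_mul, Equiv.Perm.sign_swap (by decide), Equiv.Perm.sign_swap (by decide)]
  rfl

theorem aM_not_mem : aM ∉ affM := by
  rw [mem_affM]; unfold aM; decide

end Cfsg.Agent.Helper29.Affine8
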