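import Mathlib

set_option autoImplicit false

namespace Cfsg.Agent.Helper29

open Equiv
open scoped Pointwise

variable {Ω : Type*} [Fintype Ω] [DecidableEq Ω] {b : ℕ}

/-- The stabilizer of the partition of `Ω` into the fibres of `f`, as a subgroup of `Perm Ω`. -/
def partStab (f : Ω → Fin b) : Subgroup (Perm Ω) where
  carrier := {g | ∀ x y : Ω, f x = f y ↔ f (g x) = f (g y)}
  mul_mem' {g h} hg hh := by
    intro x y
    rw [hh x y, hg (h x) (h y)]
    rfl
  one_mem' := by
    intro x y
    rfl
  inv_mem' {g} hg := by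
    intro x y
    have := hg (g⁻¹ x) (g⁻¹ y)
    have e1 : g (g⁻¹ x) = x := by simp
    have e2 : g (g⁻¹ y) = y := by simp
    rw [e1, e2] at this
    exact this.symm

theorem mem_partStab (f : Ω → Fin b) (g : Perm Ω) :
    g ∈ partStab f ↔ ∀ x y : Ω, f x = f y ↔ f (g x) = f (g y) := Iff.rfl

theorem closure_eq_partStab (f : Ω → Fin b) :
    Subgroup.closure {g : Perm Ω | ∀ x y : Ω, f x = f y ↔ f (g x) = f (g y)} = partStab f :=
  Subgroup.closure_eq (partStab f)

theorem swap_mem_partStab (f : Ω → Fin b) (u v : Ω) (h : f u = f v) : swap u v ∈ partStab f := by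
  have key : ∀ x, f (swap u v x) = f x := by
    intro x
    by_cases hxu : x = u
    · subst hxu; rw [swap_apply_left, h]
    · by_cases hxv : x = v
      · subst hxv; rw [swap_apply_right, h]
      · rw [swap_apply_of_ne_of_ne hxu hxv]
  intro x y
  rw [key x, key y]

/-- A permutation in `partStab f` exchanging two fibres and fixing the others pointwise. -/
theorem exists_exchange (f : Ω → Fin b) (i j : Fin b) (hij : i ≠ j)
    (hcard : Nat.card {x : Ω // f x = i} = Nat.card {x : Ω // f x = j}) :
    ∃ g ∈ partStab f, (∀ x, f x = i → f (g x) = j) ∧ (∀ x, f x ≠ i → f x ≠ j → g x = x) := by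
  classical
  obtain ⟨e⟩ := (Finite.card_eq (α := {x : Ω // f x = i}) (β := {x : Ω // f x = j})).mp hcard
  let φ : Ω → Ω := fun x =>
    if h : f x = i then (e ⟨x, h⟩ : Ω) else if h' : f x = j then (e.symm ⟨x, h'⟩ : Ω) else x
  have hφi : ∀ x, f x = i → f (φ x) = j := by
    intro x hx
    simp only [φ, dif_pos hx]
    exact (e ⟨x, hx⟩).2
  have hφj : ∀ x, f x = j → f (φ x) = i := by
    intro x hx
    have hx' : f x ≠ i := fun h => hij (h.symm.trans hx)
    simp only [φ, dif_neg hx', dif_pos hx]
    exact (e.symm ⟨x, hx⟩).2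
  have hφo : ∀ x, f x ≠ i → f x ≠ j → φ x = x := by
    intro x h1 h2
    simp only [φ, dif_neg h1, dif_neg h2]
  have hinv : Function.Involutive φ := by
    intro x
    by_cases h1 : f x = i
    · have h2 := hφi x h1
      have h2' : f (φ x) ≠ i := fun h => hij (h.symm.trans h2)
      have : φ (φ x) = (e.symm ⟨φ x, h2⟩ : Ω) := by
        simp only [φ]
        rw [dif_neg, dif_pos]
        simpa [φ] using h2'
      rw [this]
      have h3 : (⟨φ x, h2⟩ : {x : Ω // f x = j}) = e ⟨x, h1⟩ := by
        apply Subtype.ext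
        simp only [φ, dif_pos h1]
      rw [h3, Equiv.symm_apply_apply]
    · by_cases h2 : f x = j
      · have h3 := hφj x h2
        have : φ (φ x) = (e ⟨φ x, h3⟩ : Ω) := by
          simp only [φ]
          rw [dif_pos]
        rw [this]
        have h4 : (⟨φ x, h3⟩ : {x : Ω // f x = i}) = e.symm ⟨x, h2⟩ := by
          apply Subtype.ext
          simp only [φ, dif_neg h1, dif_pos h2]
        rw [h4, Equiv.apply_symm_apply]
      · rw [hφo x h1 h2, hφo x h1 h2]
  have hτ : ∀ x, f (φ x) = swap i j (f x) := by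
    intro x
    by_cases h1 : f x = i
    · rw [hφi x h1, h1, swap_apply_left]
    · by_cases h2 : f x = j
      · rw [hφj x h2, h2, swap_apply_right]
      · rw [hφo x h1 h2, swap_apply_of_ne_of_ne h1 h2]
  refine ⟨hinv.toPerm φ, ?_, hφi, hφo⟩
  intro x y
  show f x = f y ↔ f (φ x) = f (φ y)
  rw [hτ x, hτ y]
  exact ((swap i j).injective.eq_iff).symm

/-- `partStab f` moves any point to any other, fixing the fibres not involved. -/
theorem exists_move (f : Ω → Fin b) {a : ℕ} (hf : ∀ i : Fin b, Nat.card {x : Ω // f x = i} = a)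
    (x y : Ω) : ∃ g ∈ partStab f, g x = y ∧ ∀ z, f z ≠ f x → f z ≠ f y → g z = z := by
  by_cases hxy : f x = f y
  · refine ⟨swap x y, swap_mem_partStab f x y hxy, swap_apply_left x y, ?_⟩
    intro z hz1 hz2
    apply swap_apply_of_ne_of_ne
    · rintro rfl; exact hz1 rfl
    · rintro rfl; exact hz2 rfl
  · obtain ⟨g1, hg1, hg1a, hg1b⟩ := exists_exchange f (f x) (f y) hxy ((hf _).trans (hf _).symm)
    have h1 : f (g1 x) = f y := hg1a x rfl
    refine ⟨swap (g1 x) y * g1, (partStab f).mul_mem (swap_mem_partStab f _ _ h1) hg1, ?_, ?_⟩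
    · rw [Perm.mul_apply, swap_apply_left]
    · intro z hz1 hz2
      rw [Perm.mul_apply, hg1b z hz1 hz2]
      apply swap_apply_of_ne_of_ne
      · intro h; apply hz2; rw [h, h1]
      · rintro rfl; exact hz2 rfl

/-- Every fibre has a second point. -/
theorem exists_other (f : Ω → Fin b) {a : ℕ} (ha : 2 ≤ a)
    (hf : ∀ i : Fin b, Nat.card {x : Ω // f x = i} = a) (x : Ω) : ∃ y, y ≠ x ∧ f y = f x := by
  have h1 : 1 < Nat.card {z : Ω // f z = f x} := by rw [hf]; omega
  haveI : Nontrivial {z : Ω // f z = f x} := (Finite.one_lt_card_iff_nontrivial).mp h1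
  obtain ⟨⟨y, hy⟩, hne⟩ := exists_ne (⟨x, rfl⟩ : {z : Ω // f z = f x})
  exact ⟨y, fun h => hne (Subtype.ext h), hy⟩

theorem partStab_ne_top (f : Ω → Fin b) {a : ℕ} (ha : 2 ≤ a) (hb : 2 ≤ b)
    (hf : ∀ i : Fin b, Nat.card {x : Ω // f x = i} = a) : partStab f ≠ ⊤ := by
  intro htop
  -- two different fibres
  have hpos : ∀ i : Fin b, ∃ x, f x = i := by
    intro i
    have h1 : 0 < Nat.card {z : Ω // f z = i} := by rw [hf]; omega
    obtain ⟨⟨x, hx⟩⟩ := (Finite.card_pos_iff).mp h1
    exact ⟨x, hx⟩
  obtain ⟨x, hx⟩ := hpos ⟨0, by omega⟩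
  obtain ⟨y, hy⟩ := hpos ⟨1, by omega⟩
  obtain ⟨x', hx'ne, hx'⟩ := exists_other f ha hf x
  have hfxy : f x ≠ f y := by
    rw [hx, hy]; intro h; simpa using congrArg Fin.val h
  have hmem : swap x' y ∈ partStab f := by rw [htop]; trivial
  have := (hmem x x').mp hx'.symm
  have hx'y : x ≠ y := by rintro rfl; exact hfxy rfl
  rw [swap_apply_left, swap_apply_of_ne_of_ne hx'ne.symm hx'y] at this
  exact hfxy this

theorem partStab_isCoatom (f : Ω → Fin b) {a : ℕ} (ha : 2 ≤ a) (hb : 2 ≤ b)
    (hf : ∀ i : Fin b, Nat.card {x : Ω // f x = i} = a) : IsCoatom (partStab f) := by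
  refine ⟨partStab_ne_top f ha hb hf, fun X hWX => ?_⟩
  have hle : partStab f ≤ X := hWX.le
  -- a swap in X
  have hne : Nonempty Ω := by
    have h1 : 0 < Nat.card {z : Ω // f z = (⟨0, by omega⟩ : Fin b)} := by rw [hf]; omega
    obtain ⟨⟨x, _⟩⟩ := (Finite.card_pos_iff).mp h1
    exact ⟨x⟩
  obtain ⟨x0⟩ := hne
  obtain ⟨x1, hx1ne, hx1⟩ := exists_other f ha hf x0
  have hswapX : swap x1 x0 ∈ X := hle (swap_mem_partStab f _ _ hx1)
  have hisSwap : (swap x1 x0).IsSwap := ⟨x1, x0, hx1ne, rfl⟩
  apply Equiv.Perm.subgroup_eq_top_of_isPreprimitive_of_isSwap_mem _ _ hisSwap hswapX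
  haveI htrans : MulAction.IsPretransitive X Ω := by
    refine ⟨fun x y => ?_⟩
    obtain ⟨g, hg, hgx, -⟩ := exists_move f hf x y
    exact ⟨⟨g, hle hg⟩, hgx⟩
  refine ⟨fun {B} hB => ?_⟩
  -- the block property in elementary terms
  have key : ∀ g ∈ X, ∀ u ∈ B, g u ∈ B → ∀ z ∈ B, g z ∈ B := by
    intro g hg u hu hgu z hz
    have h1 : (⟨g, hg⟩ : X) • B = B := hB.smul_eq_of_mem (g := ⟨g, hg⟩) hu hgu
    have h2 : (⟨g, hg⟩ : X) • z ∈ (⟨g, hg⟩ : X) • B := Set.smul_mem_smul_set hz
    rw [h1] at h2
    exact h2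
  unfold MulAction.IsTrivialBlock
  by_contra hcon
  push Not at hcon
  obtain ⟨hnss, hnuniv⟩ := hcon
  obtain ⟨x, hxB, y, hyB, hxy⟩ := hnss
  -- Case 2 is impossible: distinct points of B in different fibres
  have hcase2 : ∀ u ∈ B, ∀ v ∈ B, u ≠ v → f u ≠ f v → False := by
    intro u hu v hv huv hfuv
    obtain ⟨v', hv'ne, hv'⟩ := exists_other f ha hf v
    have hu_v' : u ≠ v' := by rintro rfl; exact hfuv hv'
    have hg : swap v v' ∈ X := hle (swap_mem_partStab f _ _ hv'.symm)
    have h1 : swap v v' u = u := swap_apply_of_ne_of_ne huv hu_v'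
    have h2 := key _ hg u hu (by rw [h1]; exact hu) v hv
    rw [swap_apply_left] at h2
    -- now v, v' ∈ B in the same fibre, and u in another: contradiction via fibre argument below
    -- use the swap of v and v' … we get v' ∈ B; then apply the same-fibre analysis
    -- same-fibre: fibre of v inside B, then u ∈ B outside the fibre forces B = univ
    apply hnuniv
    rw [Set.eq_univ_iff_forall]
    -- first: the fibre of v is in B
    have hfib : ∀ z, f z = f v → z ∈ B := by
      intro z hz
      by_cases hzv : z = v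
      · rw [hzv]; exact hv
      by_cases hzv' : z = v'
      · rw [hzv']; exact h2
      have hg2 : swap v' z ∈ X := hle (swap_mem_partStab f _ _ (hv'.trans hz.symm))
      have h3 : swap v' z v = v := swap_apply_of_ne_of_ne hv'ne.symm (Ne.symm hzv)
      have h4 := key _ hg2 v hv (by rw [h3]; exact hv) v' h2
      rwa [swap_apply_left] at h4
    intro w
    by_cases hwv : f w = f v
    · exact hfib w hwv
    · obtain ⟨g, hg, hgu, hgfix⟩ := exists_move f hf u w
      by_cases hwu : f w = f u
      · -- same fibre as u: use swap u w, which fixes v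
        by_cases huw : u = w
        · rw [← huw]; exact hu
        have hg3 : swap u w ∈ X := hle (swap_mem_partStab f _ _ hwu.symm)
        have hvw : v ≠ w := by rintro rfl; exact hwv rfl
        have h5 : swap u w v = v := swap_apply_of_ne_of_ne (Ne.symm huv) hvw
        have h6 := key _ hg3 v hv (by rw [h5]; exact hv) u hu
        rwa [swap_apply_left] at h6
      · have h5 : g v = v := hgfix v (Ne.symm hfuv) (Ne.symm hwv)
        have h6 := key g (hle hg) v hv (by rw [h5]; exact hv) u hu
        rwa [hgu] at h6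
  by_cases hfxy : f x = f y
  · -- Case 1: the fibre of x is contained in B
    have hfib : ∀ z, f z = f x → z ∈ B := by
      intro z hz
      by_cases hzx : z = x
      · rw [hzx]; exact hxB
      by_cases hzy : z = y
      · rw [hzy]; exact hyB
      have hg2 : swap y z ∈ X := hle (swap_mem_partStab f _ _ (hfxy.symm.trans hz.symm))
      have h3 : swap y z x = x := swap_apply_of_ne_of_ne hxy (Ne.symm hzx)
      have h4 := key _ hg2 x hxB (by rw [h3]; exact hxB) y hyB
      rwa [swap_apply_left] at h4
    -- B is exactly the fibre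
    have hBfib : ∀ z, z ∈ B ↔ f z = f x := by
      intro z
      refine ⟨fun hz => ?_, hfib z⟩
      by_contra hne
      have hzx : z ≠ x := by rintro rfl; exact hne rfl
      exact hcase2 z hz x hxB hzx hne
    -- every element of X preserves the partition, so X ≤ partStab f
    have hXle : X ≤ partStab f := by
      -- translates of B by elements of X are fibres
      have htr : ∀ h ∈ X, ∀ u v, f u = f v → f (h u) = f (h v) := by
        intro h hh u v huv
        -- move x to u inside partStab
        obtain ⟨g, hg, hgx, -⟩ := exists_move f hf x u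
        -- g maps B (the fibre of x) onto the fibre of u
        have hgB : ∀ z, f z = f u → g⁻¹ z ∈ B := by
          intro z hz
          rw [hBfib]
          have := (((partStab f).inv_mem hg) z u).mp hz
          rw [this]
          rw [← hgx]; simp
        -- move x to h u inside partStab
        obtain ⟨g', hg', hg'x, -⟩ := exists_move f hf x (h u)
        -- k := g'⁻¹ * h * g ∈ X maps x to x
        have hk : g'⁻¹ * h * g ∈ X := X.mul_mem (X.mul_mem (X.inv_mem (hle hg')) hh) (hle hg)
        have hkx : (g'⁻¹ * h * g) x = x := by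
          simp only [Perm.mul_apply, hgx]
          rw [← hg'x]; simp
        have hkv := key _ hk x hxB (by rw [hkx]; exact hxB) (g⁻¹ v) (hgB v huv.symm)
        rw [hBfib] at hkv
        simp only [Perm.mul_apply] at hkv
        have e1 : g (g⁻¹ v) = v := by simp
        rw [e1] at hkv
        -- f (g'⁻¹ (h v)) = f x, so f (h v) = f (g' x) = f (h u)
        have h7 := ((hg' (g'⁻¹ (h v)) x)).mp hkv
        have e2 : g' (g'⁻¹ (h v)) = h v := by simp
        rw [e2] at h7
        rw [h7, hg'x]
      intro h hh u v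
      refine ⟨htr h hh u v, fun huv => ?_⟩
      have := htr h⁻¹ (X.inv_mem hh) (h u) (h v) huv
      simpa using this
    exact absurd (le_antisymm hXle hle) (ne_of_gt hWX)
  · exact hcase2 x hxB y hyB hxy hfxy

end Cfsg.Agent.Helper29
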