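import Mathlib
import Cfsg.Agent.Helper29.Affine8
import Cfsg.Agent.Helper29.Wreath

set_option autoImplicit false
set_option linter.unusedSectionVars false

namespace Cfsg.Agent.Helper29.Affine8

open Equiv Equiv.Perm

variable {Ω : Type*} [Fintype Ω] [DecidableEq Ω]

/-- coordinates on `Ω` adapted to the partition -/
theorem exists_coord (f : Ω → Fin 4) (hf : ∀ i : Fin 4, Nat.card {x : Ω // f x = i} = 2) :
    ∃ (e : Ω ≃ M) (β : Fin 4 ≃ B), ∀ x, (e x).1 = β (f x) := by
  have hB : Fintype.card (Fin 4) = Fintype.card B := by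
    rw [Fintype.card_fin, Fintype.card_prod, ZMod.card]
  let β : Fin 4 ≃ B := Fintype.equivOfCardEq hB
  have hε : ∀ i : Fin 4, Fintype.card {x : Ω // f x = i} = Fintype.card (ZMod 2) := by
    intro i
    rw [← Nat.card_eq_fintype_card, hf i, ZMod.card]
  let ε : ∀ i : Fin 4, {x : Ω // f x = i} ≃ ZMod 2 := fun i => Fintype.equivOfCardEq (hε i)
  let e : Ω ≃ M := ((Equiv.sigmaFiberEquiv f).symm.trans (Equiv.sigmaCongrRight ε)).trans
    ((Equiv.sigmaEquivProd (Fin 4) (ZMod 2)).trans (Equiv.prodCongr β (Equiv.refl _)))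
  refine ⟨e, β, fun x => ?_⟩
  rfl

theorem not_isCoatom (f : Ω → Fin 4) (hf : ∀ i : Fin 4, Nat.card {x : Ω // f x = i} = 2) :
    ¬ IsCoatom ((Subgroup.closure {g : Equiv.Perm Ω | ∀ x y : Ω, f x = f y ↔ f (g x) = f (g y)} ⊓
      alternatingGroup Ω).subgroupOf (alternatingGroup Ω)) := by
  rw [closure_eq_partStab]
  obtain ⟨e, β, he⟩ := exists_coord f hf
  set Θ : Perm Ω ≃* Perm M := e.permCongrHom with hΘ
  have hΘapp : ∀ (g : Perm Ω) (s : M), Θ g s = e (g (e.symm s)) := fun g s => rfl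
  have hsign : ∀ g : Perm Ω, Equiv.Perm.sign (Θ g) = Equiv.Perm.sign g := fun g =>
    Equiv.Perm.sign_permCongr e g
  have hff : ∀ x y : Ω, f x = f y ↔ (e x).1 = (e y).1 := by
    intro x y
    rw [he, he]
    exact β.injective.eq_iff.symm
  have hpres : ∀ g : Perm Ω, g ∈ partStab f ↔ PresM (Θ g) := by
    intro g
    rw [mem_partStab]
    constructor
    · intro hg s t
      rw [hΘapp, hΘapp, ← hff, ← hg, hff, Equiv.apply_symm_apply, Equiv.apply_symm_apply]
    · intro hg x y
      have := hg (e x) (e y)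
      rw [hΘapp, hΘapp, Equiv.symm_apply_apply, Equiv.symm_apply_apply] at this
      rw [hff, hff]
      exact this
  set K₀ : Subgroup (Perm Ω) := affM.comap Θ.toMonoidHom with hK₀
  have hmemK₀ : ∀ g : Perm Ω, g ∈ K₀ ↔ Θ g ∈ affM := fun g => Iff.rfl
  -- (1)
  have h1 : partStab f ⊓ alternatingGroup Ω ≤ K₀ := by
    rintro g ⟨hgP, hgA⟩
    rw [hmemK₀]
    apply mem_affM_of_pres_of_sign
    · exact (hpres g).mp hgP
    · rw [hsign]; exact Equiv.Perm.mem_alternatingGroup.mp hgA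
  -- (2)
  set k : Perm Ω := Θ.symm kM with hk
  have hΘk : Θ k = kM := Θ.apply_symm_apply kM
  have hkK : k ∈ K₀ := by rw [hmemK₀, hΘk]; exact kM_mem
  have hkA : k ∈ alternatingGroup Ω := by
    rw [Equiv.Perm.mem_alternatingGroup, ← hsign, hΘk]; exact kM_sign
  have hkP : k ∉ partStab f := by
    rw [hpres, hΘk]; exact kM_not_pres
  -- (3)
  set a : Perm Ω := Θ.symm aM with ha
  have hΘa : Θ a = aM := Θ.apply_symm_apply aM
  have haA : a ∈ alternatingGroup Ω := by
    rw [Equiv.Perm.mem_alternatingGroup, ← hsign, hΘa]; exact aM_sign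
  have haK : a ∉ K₀ := by
    rw [hmemK₀, hΘa]; exact aM_not_mem
  intro hco
  have hlt : (partStab f ⊓ alternatingGroup Ω).subgroupOf (alternatingGroup Ω) <
      K₀.subgroupOf (alternatingGroup Ω) := by
    refine lt_of_le_of_ne ?_ ?_
    · intro g hg
      rw [Subgroup.mem_subgroupOf] at hg ⊢
      exact h1 hg
    · intro heq
      have : (⟨k, hkA⟩ : alternatingGroup Ω) ∈ K₀.subgroupOf (alternatingGroup Ω) :=
        Subgroup.mem_subgroupOf.mpr hkK
      rw [← heq, Subgroup.mem_subgroupOf] at this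
      exact hkP this.1
  have htop := hco.2 _ hlt
  have : (⟨a, haA⟩ : alternatingGroup Ω) ∈ K₀.subgroupOf (alternatingGroup Ω) := by
    rw [htop]; trivial
  exact haK (Subgroup.mem_subgroupOf.mp this)

end Cfsg.Agent.Helper29.Affine8
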