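import Mathlib

set_option autoImplicit false

namespace Cfsg.Agent.Helper29.AffineEx

open scoped LinearAlgebra.Projectivization
open MulAction

theorem isCoatom_stabilizer_of_two {G X : Type*} [Group G] [MulAction G X] [Nontrivial X]
    (h : IsMultiplyPretransitive G X 2) (a : X) : IsCoatom (stabilizer G a) := by
  have h1 := isPreprimitive_of_is_two_pretransitive h
  have h2 : IsPretransitive G X := isPretransitive_of_is_two_pretransitive
  exact (isCoatom_stabilizer_iff_preprimitive G a).mpr h1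

section
variable {F V : Type*} [Field F] [AddCommGroup V] [Module F V]

theorem exists_linearEquiv_apply_eq {x y : V} (hx : x ≠ 0) (hy : y ≠ 0) :
    ∃ L : V ≃ₗ[F] V, L x = y := by
  have : IsPretransitive (V ≃ₗ[F] V) (ℙ F V) :=
    isPretransitive_of_is_two_pretransitive
  obtain ⟨L, hL⟩ := exists_smul_eq (V ≃ₗ[F] V) (Projectivization.mk F x hx)
    (Projectivization.mk F y hy)
  rw [Projectivization.smul_mk, Projectivization.mk_eq_mk_iff] at hL
  obtain ⟨u, hu⟩ := hL
  refine ⟨L.trans (LinearEquiv.smulOfUnit u⁻¹), ?_⟩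
  have : L x = u • y := hu.symm
  simp [LinearEquiv.smulOfUnit, this]

/-- the action of the affine group on points -/
@[instance_reducible] def pointAction : MulAction (V ≃ᵃ[F] V) V where
  smul g x := g x
  one_smul _ := rfl
  mul_smul _ _ _ := rfl

/-- the action of the affine group on lines through the linear part -/
@[instance_reducible] def lineAction : MulAction (V ≃ᵃ[F] V) (ℙ F V) :=
  MulAction.compHom _ (AffineEquiv.linearHom (k := F) (P₁ := V))

attribute [local instance] pointAction lineAction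

theorem point_smul_def (g : V ≃ᵃ[F] V) (x : V) : g • x = g x := rfl

theorem line_smul_def (g : V ≃ᵃ[F] V) (D : ℙ F V) : g • D = g.linear • D := rfl

theorem pointAction_two : IsMultiplyPretransitive (V ≃ᵃ[F] V) V 2 := by
  rw [is_two_pretransitive_iff]
  intro a b c e hab hce
  obtain ⟨L, hL⟩ := exists_linearEquiv_apply_eq (F := F) (sub_ne_zero.mpr hab.symm)
    (sub_ne_zero.mpr hce.symm)
  refine ⟨AffineEquiv.ofLinearEquiv L a c, ?_, ?_⟩
  · simp [point_smul_def]
  · simp [point_smul_def, hL]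

theorem lineAction_two : IsMultiplyPretransitive (V ≃ᵃ[F] V) (ℙ F V) 2 := by
  let f : ℙ F V →ₑ[(LinearEquiv.toAffineEquiv : (V ≃ₗ[F] V) → (V ≃ᵃ[F] V))] ℙ F V :=
    { toFun := id
      map_smul' := fun e D => rfl }
  exact IsPretransitive.of_embedding (f := f) Function.surjective_id

theorem apply_eq_linear_add (g : V ≃ᵃ[F] V) (x : V) : g x = g.linear x + g 0 := by
  have := g.map_vadd 0 x
  simpa using this

theorem keyL (e₀ : V) (L : V ≃ₗ[F] V) (u : Fˣ) (h : u • e₀ = L e₀) (x : V) :
    L x ∈ Submodule.span F {e₀} ↔ x ∈ Submodule.span F {e₀} := by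
  have hmap : (Submodule.span F {e₀}).map (L : V →ₗ[F] V) = Submodule.span F {e₀} := by
    rw [Submodule.map_span, Set.image_singleton]
    show Submodule.span F {L e₀} = _
    rw [← h]
    exact Submodule.span_singleton_group_smul_eq F u e₀
  conv_lhs => rw [← hmap]
  rw [Submodule.mem_map_equiv]
  simp

theorem mem_stabilizer_line_iff (e₀ : V) (h0 : e₀ ≠ 0) (g : V ≃ᵃ[F] V) :
    g ∈ stabilizer (V ≃ᵃ[F] V) (Projectivization.mk F e₀ h0) ↔
      ∃ u : Fˣ, u • e₀ = g.linear e₀ := by
  rw [mem_stabilizer_iff, line_smul_def, Projectivization.smul_mk,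
    Projectivization.mk_eq_mk_iff]
  rfl

/-- setwise stabilizer of the line through `e₀` in the affine group -/
def lineSetStab (e₀ : V) : Subgroup (V ≃ᵃ[F] V) where
  carrier := {g | ∀ x, g x ∈ Submodule.span F {e₀} ↔ x ∈ Submodule.span F {e₀}}
  one_mem' := by intro x; simp
  mul_mem' := by
    intro g h hg hh x
    rw [AffineEquiv.coe_mul, Function.comp_apply, hg, hh]
  inv_mem' := by
    intro g hg x
    rw [← hg (g⁻¹ x)]
    have : g (g⁻¹ x) = x := by
      rw [AffineEquiv.inv_def]; exact g.apply_symm_apply x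
    rw [this]

theorem mem_lineSetStab (e₀ : V) (g : V ≃ᵃ[F] V) :
    g ∈ lineSetStab (F := F) e₀ ↔
      ∀ x, g x ∈ Submodule.span F {e₀} ↔ x ∈ Submodule.span F {e₀} := Iff.rfl

theorem main (e₀ e₁ : V) (h0 : e₀ ≠ 0) (h1 : e₁ ∉ Submodule.span F {e₀}) :
    ∃ M H K : Subgroup (V ≃ᵃ[F] V), IsCoatom M ∧ M.index = Nat.card V ∧ H ≤ M ∧
      IsCoatom (H.subgroupOf M) ∧ IsCoatom K ∧ H ≤ K ∧ ¬ IsCoatom (H.subgroupOf K) := by
  have hV : Nontrivial V := ⟨⟨e₀, 0, h0⟩⟩
  have h1' : e₁ ≠ 0 := by
    rintro rfl; exact h1 (Submodule.zero_mem _)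
  have hP : Nontrivial (ℙ F V) := by
    refine ⟨⟨Projectivization.mk F e₁ h1', Projectivization.mk F e₀ h0, ?_⟩⟩
    rw [Ne, Projectivization.mk_eq_mk_iff]
    rintro ⟨a, ha⟩
    apply h1
    rw [← ha]
    exact Submodule.smul_mem _ _ (Submodule.mem_span_singleton_self e₀)
  set M : Subgroup (V ≃ᵃ[F] V) := stabilizer (V ≃ᵃ[F] V) (0 : V) with hM
  set K : Subgroup (V ≃ᵃ[F] V) := stabilizer (V ≃ᵃ[F] V) (Projectivization.mk F e₀ h0) with hK
  have memM : ∀ g : V ≃ᵃ[F] V, g ∈ M ↔ g 0 = 0 := fun g => mem_stabilizer_iff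
  have memK : ∀ g : V ≃ᵃ[F] V, g ∈ K ↔ ∃ u : Fˣ, u • e₀ = g.linear e₀ :=
    mem_stabilizer_line_iff e₀ h0
  refine ⟨M, M ⊓ K, K, ?_, ?_, inf_le_left, ?_, ?_, inf_le_right, ?_⟩
  · exact isCoatom_stabilizer_of_two pointAction_two 0
  · have : IsPretransitive (V ≃ᵃ[F] V) V :=
      @isPretransitive_of_is_two_pretransitive _ _ _ _ pointAction_two
    exact index_stabilizer_of_transitive _ _
  · have h2M : IsMultiplyPretransitive M (ℙ F V) 2 := by
      let σ : (V ≃ₗ[F] V) → M := fun L => ⟨L.toAffineEquiv, by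
        rw [memM]; simp⟩
      let f : ℙ F V →ₑ[σ] ℙ F V :=
        { toFun := id
          map_smul' := fun e D => rfl }
      exact IsPretransitive.of_embedding (f := f) Function.surjective_id
    have := isCoatom_stabilizer_of_two h2M (Projectivization.mk F e₀ h0)
    convert this using 1
    ext ⟨g, hg⟩
    rw [Subgroup.mem_subgroupOf, mem_stabilizer_iff, Subgroup.mk_smul]
    simp only [Subgroup.mem_inf, hg, true_and]
    rw [hK, mem_stabilizer_iff]
  · exact isCoatom_stabilizer_of_two lineAction_two _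
  · have hW0 : e₀ ∈ Submodule.span F {e₀} := Submodule.mem_span_singleton_self e₀
    have hHX : M ⊓ K ≤ lineSetStab (F := F) e₀ := by
      intro g hg
      rw [Subgroup.mem_inf, memM, memK] at hg
      obtain ⟨hgM, u, hu⟩ := hg
      rw [mem_lineSetStab]
      intro x
      rw [apply_eq_linear_add, hgM, add_zero]
      exact keyL e₀ g.linear u hu x
    have hXK : lineSetStab (F := F) e₀ ≤ K := by
      intro g hg
      rw [mem_lineSetStab] at hg
      rw [memK]
      have hg0 : g 0 ∈ Submodule.span F {e₀} := (hg 0).mpr (Submodule.zero_mem _)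
      have hge : g e₀ ∈ Submodule.span F {e₀} := (hg e₀).mpr hW0
      have hl : g.linear e₀ ∈ Submodule.span F {e₀} := by
        have : g.linear e₀ = g e₀ - g 0 := by rw [apply_eq_linear_add g e₀]; abel
        rw [this]; exact Submodule.sub_mem _ hge hg0
      obtain ⟨c, hc⟩ := Submodule.mem_span_singleton.mp hl
      have hc0 : c ≠ 0 := by
        rintro rfl
        rw [zero_smul] at hc
        exact h0 ((map_eq_zero_iff _ g.linear.injective).mp hc.symm)
      exact ⟨Units.mk0 c hc0, hc⟩
    have ht0X : AffineEquiv.constVAdd F V e₀ ∈ lineSetStab (F := F) e₀ := by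
      rw [mem_lineSetStab]
      intro x
      rw [AffineEquiv.constVAdd_apply, vadd_eq_add]
      exact Submodule.add_mem_iff_right _ hW0
    have ht0H : AffineEquiv.constVAdd F V e₀ ∉ M ⊓ K := by
      intro h
      rw [Subgroup.mem_inf, memM, AffineEquiv.constVAdd_apply, vadd_eq_add, add_zero] at h
      exact h0 h.1
    have ht1K : AffineEquiv.constVAdd F V e₁ ∈ K := by
      rw [memK]
      exact ⟨1, by simp⟩
    have ht1X : AffineEquiv.constVAdd F V e₁ ∉ lineSetStab (F := F) e₀ := by
      intro h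
      rw [mem_lineSetStab] at h
      have := (h 0).mpr (Submodule.zero_mem _)
      rw [AffineEquiv.constVAdd_apply, vadd_eq_add, add_zero] at this
      exact h1 this
    intro hco
    have hlt : (M ⊓ K).subgroupOf K < (lineSetStab (F := F) e₀).subgroupOf K := by
      rw [SetLike.lt_iff_le_and_exists]
      refine ⟨fun x hx => hHX hx, ⟨⟨_, hXK ht0X⟩, ht0X, ht0H⟩⟩
    have htop := hco.2 _ hlt
    rw [Subgroup.subgroupOf_eq_top] at htop
    exact ht1X (htop ht1K)

end

end Cfsg.Agent.Helper29.AffineEx
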