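import Mathlib
import Cfsg.Agent.Helper29.AltPronDefs
import Cfsg.Agent.Helper29.AltPronBasics

set_option autoImplicit false

/-!
# S2222 piece INH
-/

namespace Cfsg.Agent.Helper29.AltPron

open MulAction Equiv
open scoped Pointwise

variable {α : Type*} [Fintype α] [DecidableEq α]

theorem inherit (h1 : Split1 α) (h2 : Split2 α) (hB : BoundA α) : Inherit α := by
  intro P Q hP hQP hidx hQne ω hω
  obtain ⟨hP2, hPA, hPne, hPt⟩ := hP
  have hQ2 : IsPGroup 2 Q := hP2.to_le hQP
  have hQA : Q ≤ alternatingGroup α := hQP.trans hPA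
  have hval : padicValNat 2 (Nat.card P) = padicValNat 2 (Nat.card Q) + 1 := by
    haveI : Fact (Nat.Prime 2) := ⟨Nat.prime_two⟩
    rw [← hidx, padicValNat.mul (by norm_num) (Nat.card_pos).ne', padicValNat.self (by norm_num)]
    ring
  have hbQ := hB Q hQ2 hQA hQne
  have hsplit : orbit Q ω ≠ orbit P ω := orbit_ne_of_stab_le hQP hidx ω hω
  have hc1 := h1 Q P hQP ω hsplit
  refine ⟨⟨hQ2, hQA, hQne, by omega⟩, ?_⟩
  intro x hx
  by_contra hne
  have hxx : orbit P ω ≠ orbit P x := by
    intro h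
    apply hx
    rw [h]
    exact mem_orbit_self x
  have hc2 := h2 Q P hQP ω x hxx hsplit hne
  omega

end Cfsg.Agent.Helper29.AltPron
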