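import Mathlib
import Cfsg.Agent.Helper29.AltPronDefs
import Cfsg.Agent.Helper29.AltPronBasics
import Cfsg.Agent.Helper14.SylMaxBLK

set_option autoImplicit false

/-!
# S2222 piece ML: an element of odd order normalizing `P` is trivial
-/

namespace Cfsg.Agent.Helper29.AltPron

open MulAction Equiv
open scoped Pointwise

variable {α : Type*} [Fintype α] [DecidableEq α]

omit [Fintype α] [DecidableEq α] in
theorem smul_set_eq_image (P : Subgroup (Perm α)) (p : P) (B : Set α) :
    p • B = (p : Perm α) '' B := by
  ext z
  constructor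
  · rintro ⟨w, hw, rfl⟩
    exact ⟨w, hw, rfl⟩
  · rintro ⟨w, hw, rfl⟩
    exact ⟨w, hw, rfl⟩

omit [Fintype α] [DecidableEq α] in
/-- the image of a block under a normalizing element is a block -/
theorem isBlock_image {P : Subgroup (Perm α)} {y : Perm α} (hy : Normalizes y P) {B : Set α}
    (hB : IsBlock P B) : IsBlock P (y '' B) := by
  rw [isBlock_iff_smul_eq_or_disjoint] at hB ⊢
  intro p
  have hp' : y⁻¹ * (p : Perm α) * y ∈ P := by
    rw [hy]
    simpa [mul_assoc] using p.2
  have himg : p • (y '' B) = y '' ((⟨y⁻¹ * (p : Perm α) * y, hp'⟩ : P) • B) := by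
    rw [smul_set_eq_image, smul_set_eq_image, Set.image_image, Set.image_image]
    apply Set.image_congr
    intro a _
    simp
  rcases hB ⟨y⁻¹ * (p : Perm α) * y, hp'⟩ with h | h
  · left
    rw [himg, h]
  · right
    rw [himg]
    exact Set.disjoint_image_of_injective y.injective h

theorem eq_one_of_normalizes {P : Subgroup (Perm α)} (hP : IsPGroup 2 P) (hD : DistinctOrbits P)
    (hU : UniqueBlocks P) (y : Perm α) (hy : Normalizes y P) (hodd : Odd (orderOf y)) :
    y = 1 := by
  classical
  ext x
  rw [Equiv.Perm.one_apply]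
  -- the orbit
  have hO : y '' orbit P x = orbit P x := by
    rw [image_orbit_of_normalizes y hy x]
    apply hD
    rw [← image_orbit_of_normalizes y hy x]
    exact Set.ncard_image_of_injective _ y.injective
  have hOy : orbit P (y x) = orbit P x := by
    rw [← image_orbit_of_normalizes y hy x]; exact hO
  obtain ⟨k, hk⟩ := hP.card_orbit (α := α) x
  rw [Nat.card_coe_set_eq] at hk
  obtain ⟨B, hBblock, hxB, hBmono, hBsub, hBcard⟩ :=
    Cfsg.Agent.Helper14.SylMax.exists_block_chain (R := P) hP x
  have hcard : ∀ i, i ≤ k → (B i).ncard = 2 ^ i := by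
    intro i hi
    apply hBcard
    rw [hk]
    exact Nat.pow_le_pow_right (by norm_num) hi
  have hBk : B k = orbit P x := by
    apply Set.eq_of_subset_of_ncard_le (hBsub k) _ (Set.toFinite _)
    rw [hcard k le_rfl, hk]
  -- main claim
  have key : ∀ j, j ≤ k → y '' B (k - j) = B (k - j) := by
    intro j
    induction j with
    | zero =>
      intro _
      rw [Nat.sub_zero, hBk]
      exact hO
    | succ j ih =>
      intro hj
      have ih' := ih (by omega)
      obtain ⟨i, hi⟩ : ∃ i, i = k - (j + 1) := ⟨_, rfl⟩
      have hi1 : k - j = i + 1 := by omega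
      rw [← hi]
      rw [hi1] at ih'
      have hik : i + 1 ≤ k := by omega
      have hci : (B i).ncard = 2 ^ i := hcard i (by omega)
      have hci1 : (B (i + 1)).ncard = 2 ^ (i + 1) := hcard (i + 1) hik
      -- the complement `C`
      have hCcard : (B (i + 1) \ B i).ncard = 2 ^ i := by
        rw [Set.ncard_diff (hBmono i) (Set.toFinite _), hci, hci1, pow_succ]
        omega
      obtain ⟨c, hc⟩ : (B (i + 1) \ B i).Nonempty := by
        rw [← Set.ncard_pos, hCcard]
        exact Nat.pos_of_ne_zero (by positivity)
      obtain ⟨g, hg, hgc⟩ := mem_orbit_sub.mp (hBsub (i + 1) hc.1)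
      have hgB1 : (⟨g, hg⟩ : P) • B (i + 1) = B (i + 1) :=
        (hBblock (i + 1)).smul_eq_of_mem (hxB (i + 1)) (by
          show g x ∈ B (i + 1)
          rw [hgc]; exact hc.1)
      have hcg : c ∈ (⟨g, hg⟩ : P) • B i := ⟨x, hxB i, hgc⟩
      have hgBi : (⟨g, hg⟩ : P) • B i = B (i + 1) \ B i := by
        have hsub1 : (⟨g, hg⟩ : P) • B i ⊆ B (i + 1) := by
          rw [← hgB1]
          exact Set.smul_set_mono (hBmono i)
        have hdisj : Disjoint ((⟨g, hg⟩ : P) • B i) (B i) := by
          rcases (hBblock i).smul_eq_or_disjoint ⟨g, hg⟩ with h | h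
          · exfalso
            rw [h] at hcg
            exact hc.2 hcg
          · exact h
        apply Set.eq_of_subset_of_ncard_le _ _ (Set.toFinite _)
        · intro z hz
          exact ⟨hsub1 hz, fun hzi => Set.disjoint_left.mp hdisj hz hzi⟩
        · rw [hCcard, smul_set_eq_image, Set.ncard_image_of_injective _ (Equiv.injective _), hci]
      have hCblock : IsBlock P (B (i + 1) \ B i) := by
        rw [← hgBi]
        exact (hBblock i).translate _
      -- `y '' B i`
      have hyBblock : IsBlock P (y '' B i) := isBlock_image hy (hBblock i)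
      have hyBcard : (y '' B i).ncard = 2 ^ i := by
        rw [Set.ncard_image_of_injective _ y.injective, hci]
      have hyBsub1 : y '' B i ⊆ B (i + 1) := by
        rw [← ih']
        exact Set.image_mono (hBmono i)
      have hyx : y x ∈ y '' B i := ⟨x, hxB i, rfl⟩
      have hyBsubO : y '' B i ⊆ orbit P (y x) := by
        rw [hOy]
        exact hyBsub1.trans (hBsub (i + 1))
      by_cases hcase : y x ∈ B i
      · exact hU (y x) _ _ hyBblock (hBblock i) hyx hcase hyBsubO
          (by rw [hOy]; exact hBsub i) (by rw [hyBcard, hci])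
      · exfalso
        have hyxC : y x ∈ B (i + 1) \ B i := ⟨hyBsub1 hyx, hcase⟩
        have h1 : y '' B i = B (i + 1) \ B i :=
          hU (y x) _ _ hyBblock hCblock hyx hyxC hyBsubO
            (by rw [hOy]; exact Set.diff_subset.trans (hBsub (i + 1)))
            (by rw [hyBcard, hCcard])
        have h2 : y '' (B (i + 1) \ B i) = B i := by
          rw [Set.image_diff y.injective, ih', h1, Set.diff_diff_cancel_left (hBmono i)]
        -- parity
        have hpow : ∀ n : ℕ, ((y ^ n : Perm α) '' B i = B i ∧ Even n) ∨
            ((y ^ n : Perm α) '' B i = B (i + 1) \ B i ∧ Odd n) := by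
          intro n
          induction n with
          | zero => left; simp
          | succ n ihn =>
            rcases ihn with ⟨h, hn⟩ | ⟨h, hn⟩
            · right
              refine ⟨?_, hn.add_one⟩
              rw [pow_succ', Equiv.Perm.coe_mul, Set.image_comp, h, h1]
            · left
              refine ⟨?_, hn.add_one⟩
              rw [pow_succ', Equiv.Perm.coe_mul, Set.image_comp, h, h2]
        rcases hpow (orderOf y) with ⟨_, hn⟩ | ⟨h, _⟩
        · exact (Nat.not_even_iff_odd.mpr hodd) hn
        · rw [pow_orderOf_eq_one, Equiv.Perm.coe_one, Set.image_id] at h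
          have : x ∈ B (i + 1) \ B i := by rw [← h]; exact hxB i
          exact this.2 (hxB i)
  have h0 := key k le_rfl
  rw [Nat.sub_self] at h0
  have hB0 : B 0 = {x} := by
    have h1 : (B 0).ncard = 1 := by rw [hcard 0 (Nat.zero_le _)]; rfl
    obtain ⟨a, ha⟩ := Set.ncard_eq_one.mp h1
    have := hxB 0
    rw [ha] at this ⊢
    rw [Set.mem_singleton_iff] at this
    rw [this]
  rw [hB0, Set.image_singleton] at h0
  exact Set.singleton_eq_singleton_iff.mp h0

end Cfsg.Agent.Helper29.AltPron
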