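import Mathlib
import Cfsg.Prelude.Def_OddOrderLocal
import Cfsg.Agent.Helper29.BG14H
import Cfsg.Agent.S1425

/-!
# B&G 14.6 / Theorem E (3): the sets `M̃` cover `G^#` when there are no maximal subgroups of type `𝒫`
-/

set_option autoImplicit false
set_option linter.unusedSectionVars false
set_option linter.unusedVariables false
set_option linter.style.haveILetI false

namespace Cfsg.Agent.Helper29.BG14

open Subgroup Cfsg
open Cfsg.Agent.Helper14 (IsSylowIn cj map_cj_le_iff map_cj_mul map_cj_one map_cj_normalizer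
  mem_normalizer_iff_map_cj map_cj_eq_self_of_mem le_normalizer_of_map_cj_le mem_map_cj
  exists_isSylowIn_ge exists_isSylowIn isSylowIn_of_sylow isSylowIn_iff)
open Cfsg.Agent.Lead (IsPiNum)
open Cfsg.Agent.Lead.BG143 (ppart orderOf_ppart ppart_ne_one ppart_mem ppart_comm)

universe u

variable {G : Type u} [Group G] [Finite G]

/-- splitting an element into its commuting `π`- and `π'`-parts, both powers of it -/
theorem exists_pi_parts (π : Set ℕ) (x : G) :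
    ∃ w u : G, w ∈ zpowers x ∧ u ∈ zpowers x ∧ x = w * u ∧ IsPiNum π (orderOf w) ∧
      IsPiNum πᶜ (orderOf u) := by
  obtain ⟨k, l, hkl, hk, hl⟩ := Cfsg.Agent.Lead.exists_pi_split π (orderOf x) (orderOf_pos x).ne'
  have hcop : Nat.Coprime k l := hk.coprime hl
  obtain ⟨a, ha1, ha2⟩ := Nat.chineseRemainder hcop 1 0
  obtain ⟨b, hb1, hb2⟩ := Nat.chineseRemainder hcop 0 1
  refine ⟨x ^ a, x ^ b, Subgroup.pow_mem _ (mem_zpowers x) _, Subgroup.pow_mem _ (mem_zpowers x) _,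
    ?_, ?_, ?_⟩
  · rw [← pow_add]
    have h1 : a + b ≡ 1 [MOD k] := by simpa using ha1.add hb1
    have h2 : a + b ≡ 1 [MOD l] := by simpa using ha2.add hb2
    have h3 : a + b ≡ 1 [MOD orderOf x] := by
      rw [hkl]
      exact (Nat.modEq_and_modEq_iff_modEq_mul hcop).mp ⟨h1, h2⟩
    conv_lhs => rw [← pow_one x]
    exact (pow_eq_pow_iff_modEq.mpr h3).symm
  · apply hk.of_dvd
    apply orderOf_dvd_of_pow_eq_one
    rw [← pow_mul, ← orderOf_dvd_iff_pow_eq_one, hkl, mul_comm a]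
    exact Nat.mul_dvd_mul_left _ ((Nat.modEq_zero_iff_dvd).mp ha2)
  · apply hl.of_dvd
    apply orderOf_dvd_of_pow_eq_one
    rw [← pow_mul, ← orderOf_dvd_iff_pow_eq_one, hkl]
    exact Nat.mul_dvd_mul ((Nat.modEq_zero_iff_dvd).mp hb1) dvd_rfl

theorem comm_of_mem_zpowers {x a b : G} (ha : a ∈ zpowers x) (hb : b ∈ zpowers x) :
    a * b = b * a := by
  obtain ⟨i, rfl⟩ := mem_zpowers_iff.mp ha
  obtain ⟨j, rfl⟩ := mem_zpowers_iff.mp hb
  exact ((Commute.refl x).zpow_zpow i j).eq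

/-- a nontrivial `σ(M₀)`-cyclic subgroup has a conjugate of `M₀` whose `σ`-core contains it -/
theorem exists_conj_sigmaCore (h : Hyp G) {M₀ : Subgroup G} (hM₀ : IsCoatom M₀) {y : G}
    (hy1 : y ≠ 1) (hy : IsPiNum (Cfsg.sigma M₀) (orderOf y)) :
    ∃ M : Subgroup G, IsCoatom M ∧ (∃ v : G, M = M₀.map (cj v)) ∧ y ∈ Cfsg.sigmaCore M := by
  have hY1 : zpowers y ≠ ⊥ := by
    rw [Ne, zpowers_eq_bot]; exact hy1
  have hY : ∀ p : ℕ, p.Prime → p ∣ Nat.card (zpowers y) → p ∈ Cfsg.sigma M₀ := by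
    intro p hp hd
    rw [Nat.card_zpowers] at hd
    exact hy p hp hd
  obtain ⟨v, hv⟩ := Cfsg.Agent.S1425.result h.hG M₀ hM₀ (zpowers y) hY1 hY
  refine ⟨M₀.map (cj v⁻¹), Cfsg.Agent.Lead.BG9.isCoatom_map_cj hM₀ _, ⟨v⁻¹, rfl⟩, ?_⟩
  rw [sigmaCore_map_cj h.hG hM₀, mem_map_cj, inv_inv]
  have : v * y * v⁻¹ ∈ (zpowers y).map (cj v) := (conj_mem_map_cj v).mpr (mem_zpowers y)
  exact hv this

/-- **Lemma A**: every `g ≠ 1` lies in a maximal subgroup `M` with nontrivial `σ(M)`-part -/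
theorem exists_coatom_sigma_part (h : Hyp G) {g : G} (hg1 : g ≠ 1) :
    ∃ M : Subgroup G, IsCoatom M ∧ g ∈ M ∧ ∃ p : ℕ, p ∈ Cfsg.sigma M ∧ p ∣ orderOf g := by
  obtain ⟨p, hp, hpd⟩ := exists_prime_dvd_orderOf hg1
  haveI : Fact p.Prime := ⟨hp⟩
  have hyo : orderOf (ppart g p) = p := orderOf_ppart hpd
  have hy1 : ppart g p ≠ 1 := ppart_ne_one hp hpd
  have hyg : ppart g p ∈ zpowers g := ppart_mem_zpowers g p
  obtain ⟨M₀, hM₀, hpM₀⟩ := exists_mem_sigma h.hG hp (hpd.trans (orderOf_dvd_natCard g))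
  have hyπ : IsPiNum (Cfsg.sigma M₀) (orderOf (ppart g p)) := by
    rw [hyo]
    have := Cfsg.Agent.Lead.isPiNum_pow_of_mem hp hpM₀ 1
    rwa [pow_one] at this
  obtain ⟨M, hM, ⟨v, hMv⟩, hy⟩ := exists_conj_sigmaCore h hM₀ hy1 hyπ
  have hpM : p ∈ Cfsg.sigma M := by rw [hMv]; exact (mem_sigma_map_cj_iff v).mpr hpM₀
  have hgy : g ∈ centralizer ({ppart g p} : Set G) :=
    mem_centralizer_singleton.mpr (comm_of_mem_zpowers hyg (mem_zpowers g))
  rcases supportR_cases h hM hy hy1 with ⟨hC, -, -⟩ | ⟨-, L, q, c, hyL, hCL, -, -, -, -, -⟩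
  · exact ⟨M, hM, hC hgy, p, hpM, hpd⟩
  · by_cases hr : ∃ r : ℕ, r ∈ Cfsg.sigma L ∧ r ∣ orderOf g
    · exact ⟨L, c.hL, hCL hgy, hr⟩
    · push Not at hr
      have hgL : g ∈ L := hCL hgy
      have hYL : zpowers g ≤ L := zpowers_le.mpr hgL
      have hY : IsPiNum (Cfsg.sigma L)ᶜ (Nat.card (zpowers g)) := by
        intro r hr' hd hrL
        rw [Nat.card_zpowers] at hd
        exact hr r hrL hd
      have hH := Cfsg.Agent.H9.BG12.isPiHallOf_compl (st1350 h.hG) c.hL c.compl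
      obtain ⟨m, hm, hmY⟩ := Cfsg.Agent.H9.BG12.exists_conj_le_of_hall
        (Cfsg.Agent.H9.BG12.solvable_of_le_coatom h.hG c.hL le_rfl) hH hYL hY
      have hmg : m * g * m⁻¹ ∈ M := (hmY ((conj_mem_map_cj m).mpr (mem_zpowers g))).1
      refine ⟨M.map (cj m⁻¹), Cfsg.Agent.Lead.BG9.isCoatom_map_cj hM _, ?_, p,
        (mem_sigma_map_cj_iff _).mpr hpM, hpd⟩
      rw [mem_map_cj, inv_inv]; exact hmg


theorem mem_tildeOf_of (h : Hyp G) {M : Subgroup G} (hM : IsCoatom M) {z ρ : G}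
    (hz : z ∈ Cfsg.sigmaCore M) (hz1 : z ≠ 1) (hρ : ρ ∈ Cfsg.supportR M z) :
    z * ρ ∈ Cfsg.tildeOf M ((Cfsg.sigmaCore M : Set G) \ {1}) := by
  rw [mem_tildeOf_iff h hM]
  refine ⟨1, z, ρ, ?_, hz1, ?_, rfl⟩
  · rw [map_cj_one]; exact hz
  · rw [map_cj_one]; exact hρ

/-- for `w ∈ M_σ^#` and a `σ(M)'`-element `u ∈ C_M(w)^#`: `w u` lies in some `Ñ`, or `u` is a
`κ(M)`-element -/
theorem tilde_or_kappa_of (h : Hyp G) {M : Subgroup G} (hM : IsCoatom M) {w u : G}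
    (hwσ : w ∈ Cfsg.sigmaCore M) (hw1 : w ≠ 1) (huM : u ∈ M) (hu1 : u ≠ 1)
    (hcomm : w * u = u * w) (hσ : ∀ r : ℕ, r.Prime → r ∣ orderOf u → r ∉ Cfsg.sigma M) :
    (∃ N : Subgroup G, IsCoatom N ∧ w * u ∈ Cfsg.tildeOf N ((Cfsg.sigmaCore N : Set G) \ {1})) ∨
    ∀ p : ℕ, p.Prime → p ∣ orderOf u → p ∈ Cfsg.kappa M := by
  have huC : u ∈ M ⊓ centralizer ({w} : Set G) := ⟨huM, mem_centralizer_singleton.mpr hcomm⟩
  rcases h.h1432 M hM w hwσ hw1 u huC hu1 hσ with ⟨hκ, -⟩ | ⟨hτ, ⟨L, hL, hLσ⟩, hCu, huniq⟩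
  · right
    exact hκ
  · left
    obtain ⟨L₂, hL₂, -, huL₂⟩ := exists_conj_sigmaCore h hL hu1 hLσ
    have hnot : ¬ centralizer ({u} : Set G) ≤ L₂ := by
      intro hle
      have hLM : L₂ = M := huniq L₂ hL₂ hle
      obtain ⟨r, hr, hrd⟩ := exists_prime_dvd_orderOf hu1
      have h1 : r ∈ Cfsg.sigma L₂ := isPiNum_of_mem_sigmaCore huL₂ r hr hrd
      rw [hLM] at h1
      exact hσ r hr hrd h1
    rcases supportR_cases h hL₂ huL₂ hu1 with ⟨hC, -, -⟩ |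
      ⟨-, L', q, c, -, hCL', -, -, hS, -, -⟩
    · exact absurd hC hnot
    · have hL'M : L' = M := huniq L' c.hL hCL'
      rw [hL'M] at hS
      have hwR : w ∈ Cfsg.supportR L₂ u := by
        rw [hS]
        exact ⟨hwσ, mem_centralizer_singleton.mpr hcomm.symm⟩
      refine ⟨L₂, hL₂, ?_⟩
      rw [hcomm]
      exact mem_tildeOf_of h hL₂ huL₂ hu1 hwR

/-- **the dichotomy behind Theorem E (3)**: a non-identity element lies in some `M̃`, or it is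
`w u` with `w ∈ M_σ^#`, `u ∈ C_M(w)^#` a `κ(M)`-element -/
theorem tilde_or_kappa (h : Hyp G) {g : G} (hg1 : g ≠ 1) :
    (∃ M : Subgroup G, IsCoatom M ∧ g ∈ Cfsg.tildeOf M ((Cfsg.sigmaCore M : Set G) \ {1})) ∨
    ∃ (M : Subgroup G) (w u : G), IsCoatom M ∧ g = w * u ∧ w ∈ Cfsg.sigmaCore M ∧ w ≠ 1 ∧
      u ∈ M ∧ u ≠ 1 ∧ w * u = u * w ∧ ∀ p : ℕ, p.Prime → p ∣ orderOf u → p ∈ Cfsg.kappa M := by
  obtain ⟨M, hM, hgM, p, hpM, hpd⟩ := exists_coatom_sigma_part h hg1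
  obtain ⟨w, u, hw, hu, hgwu, hwπ, huπ⟩ := exists_pi_parts (Cfsg.sigma M) g
  have hzM : zpowers g ≤ M := zpowers_le.mpr hgM
  have hwM : w ∈ M := hzM hw
  have huM : u ∈ M := hzM hu
  have hwσ : w ∈ Cfsg.sigmaCore M := by
    have : zpowers w ≤ Cfsg.sigmaCore M := by
      apply Cfsg.Agent.H9.BG12.le_sigmaCore_of_sigma (st1350 h.hG) hM (zpowers_le.mpr hwM)
      intro r hr hd
      rw [Nat.card_zpowers] at hd
      exact hwπ r hr hd
    exact this (mem_zpowers w)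
  have hcomm : w * u = u * w := comm_of_mem_zpowers hw hu
  have hw1 : w ≠ 1 := by
    intro h0
    rw [h0, one_mul] at hgwu
    rw [hgwu] at hpd
    exact huπ p hpM.1 hpd hpM
  by_cases hu1 : u = 1
  · left
    refine ⟨M, hM, ?_⟩
    rw [hgwu, hu1]
    exact mem_tildeOf_of h hM hwσ hw1 (Subgroup.one_mem _)
  · have hσ : ∀ r : ℕ, r.Prime → r ∣ orderOf u → r ∉ Cfsg.sigma M := fun r hr hd => huπ r hr hd
    rcases tilde_or_kappa_of h hM hwσ hw1 huM hu1 hcomm hσ with ⟨N, hN, hmem⟩ | hκ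
    · left
      exact ⟨N, hN, hgwu ▸ hmem⟩
    · right
      exact ⟨M, w, u, hM, hgwu, hwσ, hw1, huM, hu1, hcomm, hκ⟩

/-- **Theorem E (3), case `𝓜_𝒫 = ∅`** (second part of S1379) -/
theorem s1379_2_of (h : Hyp G) (hκ : ∀ M : Subgroup G, IsCoatom M → Cfsg.kappa M = ∅) (g : G)
    (hg1 : g ≠ 1) :
    ∃ M : Subgroup G, IsCoatom M ∧ g ∈ Cfsg.tildeOf M ((Cfsg.sigmaCore M : Set G) \ {1}) := by
  rcases tilde_or_kappa h hg1 with h1 | ⟨M, w, u, hM, -, -, -, -, hu1, -, hk⟩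
  · exact h1
  · exfalso
    obtain ⟨r, hr, hrd⟩ := exists_prime_dvd_orderOf hu1
    have := hk r hr hrd
    rw [hκ M hM] at this
    exact this

end Cfsg.Agent.Helper29.BG14
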