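import Mathlib
import Cfsg.Prelude.Def_OddOrderLocal
import Cfsg.Agent.Helper29.BG14I

/-!
# B&G Theorem E (3), the set `Ẑ` (third part of S1379)
-/

set_option autoImplicit false
set_option linter.unusedSectionVars false
set_option linter.unusedVariables false
set_option linter.style.haveILetI false

namespace Cfsg.Agent.Helper29.BG14

open Subgroup Cfsg
open Cfsg.Agent.Helper14 (IsSylowIn cj map_cj_le_iff map_cj_mul map_cj_one map_cj_normalizer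
  mem_normalizer_iff_map_cj map_cj_eq_self_of_mem le_normalizer_of_map_cj_le mem_map_cj
  exists_isSylowIn_ge exists_isSylowIn isSylowIn_of_sylow isSylowIn_iff)
open Cfsg.Agent.Lead (IsPiNum)

universe u

variable {G : Type u} [Group G] [Finite G]

theorem exists_mul_of_mem_sup_cent {A C : Subgroup G} (hC : C ≤ centralizer (A : Set G)) {x : G}
    (hx : x ∈ A ⊔ C) : ∃ a ∈ A, ∃ c ∈ C, x = a * c := by
  have hLE : C ≤ normalizer (A : Set G) := hC.trans (Subgroup.centralizer_le_normalizer _)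
  have h1 : x ∈ ((A ⊔ C : Subgroup G) : Set G) := hx
  rw [Subgroup.coe_mul_of_right_le_normalizer_left A C hLE] at h1
  obtain ⟨a, ha, c, hc, rfl⟩ := h1
  exact ⟨a, ha, c, hc, rfl⟩

theorem isPiNum_kappa_of_mem {M K : Subgroup G} (hK : Cfsg.IsPiHallOf (Cfsg.kappa M) K M) {k : G}
    (hk : k ∈ K) : IsPiNum (Cfsg.kappa M) (orderOf k) := fun p hp hd =>
  hK.2.1 p hp (hd.trans (Subgroup.orderOf_dvd_natCard _ hk))

theorem isPiNum_compl_of_kappa {M : Subgroup G} {n : ℕ} (h : IsPiNum (Cfsg.kappa M) n) :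
    IsPiNum (Cfsg.sigma M)ᶜ n := fun p hp hd => (h p hp hd).2.2.1

/-- the elements of `Ẑ` are the products `c k`, `1 ≠ k ∈ K`, `1 ≠ c ∈ K*` -/
theorem zhat_decomp {M K : Subgroup G} {z : G}
    (hz : z ∈ (↑(K ⊔ (Cfsg.sigmaCore M ⊓ centralizer (K : Set G))) : Set G) \
      ((K : Set G) ∪ ↑(Cfsg.sigmaCore M ⊓ centralizer (K : Set G)))) :
    ∃ k c : G, k ∈ K ∧ k ≠ 1 ∧ c ∈ Cfsg.sigmaCore M ⊓ centralizer (K : Set G) ∧ c ≠ 1 ∧
      z = c * k ∧ c * k = k * c := by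
  obtain ⟨a, ha, c, hc, rfl⟩ := exists_mul_of_mem_sup_cent (A := K)
    (C := Cfsg.sigmaCore M ⊓ centralizer (K : Set G)) inf_le_right hz.1
  have hcomm : a * c = c * a := (Subgroup.mem_centralizer_iff.mp hc.2) a ha
  refine ⟨a, c, ha, ?_, hc, ?_, hcomm, hcomm.symm⟩
  · intro h0
    apply hz.2
    right
    rw [h0, one_mul]; exact hc
  · intro h0
    apply hz.2
    left
    rw [h0, mul_one]; exact ha

theorem mem_zhat {M K : Subgroup G} (hM : IsCoatom M) (hK : Cfsg.IsPiHallOf (Cfsg.kappa M) K M)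
    {k c : G} (hk : k ∈ K) (hk1 : k ≠ 1) (hc : c ∈ Cfsg.sigmaCore M ⊓ centralizer (K : Set G))
    (hc1 : c ≠ 1) :
    c * k ∈ (↑(K ⊔ (Cfsg.sigmaCore M ⊓ centralizer (K : Set G))) : Set G) \
      ((K : Set G) ∪ ↑(Cfsg.sigmaCore M ⊓ centralizer (K : Set G))) := by
  have hdisj : ∀ x : G, x ∈ K → x ∈ Cfsg.sigmaCore M → x = 1 := by
    intro x hxK hxσ
    have h1 := isPiNum_compl_of_kappa (isPiNum_kappa_of_mem hK hxK)
    have h2 := isPiNum_of_mem_sigmaCore hxσ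
    exact orderOf_eq_one_iff.mp (Nat.Coprime.eq_one_of_dvd (h2.coprime h1) dvd_rfl)
  refine ⟨?_, ?_⟩
  · exact Subgroup.mul_mem _ (Subgroup.mem_sup_right hc) (Subgroup.mem_sup_left hk)
  · rintro (h0 | h0)
    · have : c ∈ K := by
        have := K.mul_mem h0 (K.inv_mem hk)
        rwa [mul_inv_cancel_right] at this
      exact hc1 (hdisj c this hc.1)
    · have h0' : c * k ∈ Cfsg.sigmaCore M ⊓ centralizer (K : Set G) := h0
      have : k ∈ Cfsg.sigmaCore M := by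
        have := (Cfsg.sigmaCore M).mul_mem ((Cfsg.sigmaCore M).inv_mem hc.1) h0'.1
        rwa [inv_mul_cancel_left] at this
      exact hk1 (hdisj k hk this)

/-- **no element of `Ẑ` lies in any `Ñ`** -/
theorem zhat_not_mem_tilde (h : Hyp G) {M K : Subgroup G} (hM : IsCoatom M)
    (hK : Cfsg.IsPiHallOf (Cfsg.kappa M) K M) (hK1 : K ≠ ⊥) {N : Subgroup G} (hN : IsCoatom N)
    {k c : G} (hk : k ∈ K) (hk1 : k ≠ 1) (hc : c ∈ Cfsg.sigmaCore M ⊓ centralizer (K : Set G))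
    (hc1 : c ≠ 1) :
    c * k ∉ Cfsg.tildeOf N ((Cfsg.sigmaCore N : Set G) \ {1}) := by
  intro hmem
  obtain ⟨y, z₁, ρ, hz₁, hz₁1, hρ, heq⟩ := (mem_tildeOf_iff h hN _).mp hmem
  have hN₁ := Cfsg.Agent.Lead.BG9.isCoatom_map_cj hN y
  set N₁ := N.map (cj y) with hN₁def
  have hck : c * k = k * c := ((Subgroup.mem_centralizer_iff.mp hc.2) k hk).symm
  have hkπ := isPiNum_kappa_of_mem hK hk
  have hkπ' := isPiNum_compl_of_kappa hkπ
  have hcπ := isPiNum_of_mem_sigmaCore hc.1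
  have hz₁π := isPiNum_of_mem_sigmaCore hz₁
  obtain ⟨hzρ, hρπ, -⟩ := pair_data h hN₁ hz₁ hz₁1 hρ
  have hkM : k ∈ M := hK.1 hk
  -- the contradiction from `S1432` once `C(c) ⊄ M` or `k` is a `τ₂(M)`-element
  have hkey : (∀ p : ℕ, p.Prime → p ∣ orderOf k → p ∈ Cfsg.tau2 M) → False := by
    intro hτ
    obtain ⟨r, hr, hrd⟩ := exists_prime_dvd_orderOf hk1
    exact Cfsg.Agent.Lead.BG143.not_mem_kappa_of_mem_tau2 (hτ r hr hrd) (hkπ r hr hrd)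
  have hkey2 : ¬ centralizer ({c} : Set G) ≤ M → False := by
    intro hnot
    have hkC : k ∈ M ⊓ centralizer ({c} : Set G) := ⟨hkM, mem_centralizer_singleton.mpr hck⟩
    rcases h.h1432 M hM c hc.1 hc1 k hkC hk1 (fun p hp hd => hkπ' p hp hd) with ⟨-, hC⟩ | ⟨hτ, -⟩
    · exact hnot hC
    · exact hkey hτ
  -- a conjugate of `M` containing `c` is `M`
  have hconj : ∀ a : G, c ∈ M.map (cj a) → M.map (cj a) = M := by
    intro a hca
    by_contra hne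
    have haM : a ∉ M := fun haM => hne (map_cj_eq_self_of_mem haM)
    have := (h.h1431 M hM K hK hK1).1 a haM
    have hc' : c ∈ (Cfsg.sigmaCore M ⊓ centralizer (K : Set G)) ⊓ M.map (cj a) := ⟨hc, hca⟩
    rw [this, Subgroup.mem_bot] at hc'
    exact hc1 hc'
  obtain ⟨p, hp, hpd⟩ := exists_prime_dvd_orderOf hc1
  have hpM : p ∈ Cfsg.sigma M := hcπ p hp hpd
  have hcz : c ∈ zpowers (c * k) := mem_zpowers_mul_of_coprime hck (hcπ.coprime hkπ')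
  have hpz : p ∣ orderOf z₁ * orderOf ρ := by
    have h1 : orderOf c ∣ orderOf (c * k) := orderOf_dvd_of_mem_zpowers hcz
    rw [heq] at h1
    exact (hpd.trans h1).trans
      (((show Commute z₁ ρ from hzρ).orderOf_mul_dvd_lcm).trans (Nat.lcm_dvd_mul _ _))
  rcases (Nat.Prime.dvd_mul hp).mp hpz with hp1 | hp2
  · -- `N₁` is conjugate to `M`
    have hpN : p ∈ Cfsg.sigma N₁ := hz₁π p hp hp1
    obtain ⟨a, ha⟩ := sigma_partition' h hM hN₁ hpM hpN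
    have hz₁π' : IsPiNum (Cfsg.sigma M) (orderOf z₁) := fun r hr hd => by
      have := hz₁π r hr hd
      rw [ha] at this
      exact (mem_sigma_map_cj_iff a).mp this
    have hρπ' : IsPiNum (Cfsg.sigma M)ᶜ (orderOf ρ) := fun r hr hd hrM => by
      apply hρπ r hr hd
      rw [ha]
      exact (mem_sigma_map_cj_iff a).mpr hrM
    have hcz₁ : c = z₁ := pi_parts_unique hck hzρ heq hcπ hz₁π' hkπ' hρπ'
    have hkρ : k = ρ := by
      rw [hcz₁] at heq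
      exact mul_left_cancel heq
    have hNM : N₁ = M := by
      rw [ha]
      apply hconj
      rw [← ha, hcz₁]
      exact Cfsg.Agent.H9.BG12.sigmaCore_le _ hz₁
    apply hkey2
    intro hle
    have : Cfsg.supportR N₁ z₁ = ⊥ := by
      apply supportR_eq_bot_of_le
      rw [hNM, ← hcz₁]; exact hle
    rw [this, Subgroup.mem_bot] at hρ
    exact hk1 (hkρ.trans hρ)
  · -- `p ∣ o(ρ)`
    have hρ1 : ρ ≠ 1 := by
      intro h0
      rw [h0, orderOf_one] at hp2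
      exact hp.one_lt.ne' (Nat.dvd_one.mp hp2)
    rcases supportR_cases h hN₁ hz₁ hz₁1 with ⟨-, hS, -⟩ |
      ⟨-, L, q, cfg, hz₁L, hCL, -, hτ, hS, -, -⟩
    · rw [hS, Subgroup.mem_bot] at hρ
      exact hρ1 hρ
    · rw [hS] at hρ
      have hρπL := isPiNum_of_mem_sigmaCore hρ.1
      have hpL : p ∈ Cfsg.sigma L := hρπL p hp hp2
      obtain ⟨a, ha⟩ := sigma_partition' h hM cfg.hL hpM hpL
      have hρπ' : IsPiNum (Cfsg.sigma M) (orderOf ρ) := fun r hr hd => by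
        have := hρπL r hr hd
        rw [ha] at this
        exact (mem_sigma_map_cj_iff a).mp this
      have hz₁π' : IsPiNum (Cfsg.sigma M)ᶜ (orderOf z₁) := fun r hr hd hrM => by
        have h1 : r ∈ Cfsg.sigma L := by rw [ha]; exact (mem_sigma_map_cj_iff a).mpr hrM
        obtain ⟨b, hb⟩ := sigma_partition' h hN₁ cfg.hL (hz₁π r hr hd) h1
        exact cfg.hnc b hb
      have heq' : c * k = ρ * z₁ := by rw [heq, hzρ]
      have hcρ : c = ρ := pi_parts_unique hck hzρ.symm heq' hcπ hρπ' hkπ' hz₁π'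
      have hkz₁ : k = z₁ := by
        rw [hcρ] at heq'
        exact mul_left_cancel heq'
      have hLM : L = M := by
        rw [ha]
        apply hconj
        rw [← ha, hcρ]
        exact Cfsg.Agent.H9.BG12.sigmaCore_le _ hρ.1
      apply hkey
      intro r hr hd
      rw [hkz₁] at hd
      have := hτ r hr hd
      rwa [hLM] at this


theorem tildeOf_conj_mem {N : Subgroup G} {A : Set G} {g : G} (b : G)
    (hg : g ∈ Cfsg.tildeOf N A) : b * g * b⁻¹ ∈ Cfsg.tildeOf N A := by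
  obtain ⟨a, ha, r, hr, y, rfl⟩ := hg
  exact ⟨a, ha, r, hr, b * y, by group⟩

/-- input from B&G 14.7 (S1366 and S1369): the dual maximal subgroup `M*` -/
def DualInput (M K : Subgroup G) : Prop :=
  ∃ Mstar : Subgroup G, IsCoatom Mstar ∧
    K = Cfsg.sigmaCore Mstar ⊓
      centralizer ((Cfsg.sigmaCore M ⊓ centralizer (K : Set G) : Subgroup G) : Set G) ∧
    Cfsg.IsPiHallOf (Cfsg.kappa Mstar) (Cfsg.sigmaCore M ⊓ centralizer (K : Set G)) Mstar ∧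
    ∀ H : Subgroup G, IsCoatom H → (Cfsg.kappa H).Nonempty →
      ∃ g : G, H = M.map (cj g) ∨ H = Mstar.map (cj g)

/-- a `κ(M₀)`-element `u₀` centralizing `w₀ ∈ (M₀)_σ^#` is `M₀`-conjugate into `K₀`, and then
`w₀` goes into `K₀*` -/
theorem conj_into_K (h : Hyp G) {M₀ K₀ : Subgroup G} (hM₀ : IsCoatom M₀)
    (hK₀ : Cfsg.IsPiHallOf (Cfsg.kappa M₀) K₀ M₀) (hK₀1 : K₀ ≠ ⊥) {w₀ u₀ : G}
    (hw : w₀ ∈ Cfsg.sigmaCore M₀) (hu : u₀ ∈ M₀) (hu1 : u₀ ≠ 1) (hcomm : w₀ * u₀ = u₀ * w₀)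
    (hκ : ∀ p : ℕ, p.Prime → p ∣ orderOf u₀ → p ∈ Cfsg.kappa M₀) :
    ∃ m ∈ M₀, m * u₀ * m⁻¹ ∈ K₀ ∧
      m * w₀ * m⁻¹ ∈ Cfsg.sigmaCore M₀ ⊓ centralizer (K₀ : Set G) := by
  have hYM : zpowers u₀ ≤ M₀ := zpowers_le.mpr hu
  have hY : IsPiNum (Cfsg.kappa M₀) (Nat.card (zpowers u₀)) := by
    intro p hp hd
    rw [Nat.card_zpowers] at hd
    exact hκ p hp hd
  obtain ⟨m, hm, hmY⟩ := Cfsg.Agent.H9.BG12.exists_conj_le_of_hall
    (Cfsg.Agent.H9.BG12.solvable_of_le_coatom h.hG hM₀ le_rfl) hK₀ hYM hY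
  have hu' : m * u₀ * m⁻¹ ∈ K₀ := hmY ((conj_mem_map_cj m).mpr (mem_zpowers u₀))
  have hu'1 : m * u₀ * m⁻¹ ≠ 1 := conj_ne_one m hu1
  have hw' : m * w₀ * m⁻¹ ∈ Cfsg.sigmaCore M₀ :=
    (mem_normalizer_iff.mp (Cfsg.Agent.H9.BG12.le_normalizer_sigmaCore M₀ hm) w₀).mp hw
  have hcomm' : (m * u₀ * m⁻¹) * (m * w₀ * m⁻¹) = (m * w₀ * m⁻¹) * (m * u₀ * m⁻¹) := by
    have e1 : (m * u₀ * m⁻¹) * (m * w₀ * m⁻¹) = m * (u₀ * w₀) * m⁻¹ := by group
    have e2 : (m * w₀ * m⁻¹) * (m * u₀ * m⁻¹) = m * (w₀ * u₀) * m⁻¹ := by group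
    rw [e1, e2, hcomm]
  refine ⟨m, hm, hu', ?_⟩
  rw [← (h.h1430 M₀ hM₀ K₀ hK₀ hK₀1).1 _ hu' hu'1]
  exact ⟨hw', mem_centralizer_singleton.mpr hcomm'⟩

/-- the `κ`-alternative of `tilde_or_kappa`, for a conjugate `M₀^a` of a maximal subgroup `M₀`
with a nontrivial Hall `κ(M₀)`-subgroup `K₀` -/
theorem zhat_case (h : Hyp G) {M₀ K₀ : Subgroup G} (hM₀ : IsCoatom M₀)
    (hK₀ : Cfsg.IsPiHallOf (Cfsg.kappa M₀) K₀ M₀) (hK₀1 : K₀ ≠ ⊥) (a : G) {w u : G}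
    (hwσ : w ∈ Cfsg.sigmaCore (M₀.map (cj a))) (hw1 : w ≠ 1) (huM : u ∈ M₀.map (cj a))
    (hu1 : u ≠ 1) (hcomm : w * u = u * w)
    (hσ : ∀ r : ℕ, r.Prime → r ∣ orderOf u → r ∉ Cfsg.sigma (M₀.map (cj a))) :
    (∃ N : Subgroup G, IsCoatom N ∧ w * u ∈ Cfsg.tildeOf N ((Cfsg.sigmaCore N : Set G) \ {1})) ∨
    ∃ (b k c : G), k ∈ K₀ ∧ k ≠ 1 ∧ c ∈ Cfsg.sigmaCore M₀ ⊓ centralizer (K₀ : Set G) ∧ c ≠ 1 ∧
      w * u = b * (c * k) * b⁻¹ := by
  rw [sigmaCore_map_cj h.hG hM₀, mem_map_cj] at hwσ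
  rw [mem_map_cj] at huM
  have hw1' : a⁻¹ * w * a ≠ 1 := by
    have := conj_ne_one a⁻¹ hw1; rwa [inv_inv] at this
  have hu1' : a⁻¹ * u * a ≠ 1 := by
    have := conj_ne_one a⁻¹ hu1; rwa [inv_inv] at this
  have hcomm' : (a⁻¹ * w * a) * (a⁻¹ * u * a) = (a⁻¹ * u * a) * (a⁻¹ * w * a) := by
    have e1 : (a⁻¹ * w * a) * (a⁻¹ * u * a) = a⁻¹ * (w * u) * a := by group
    have e2 : (a⁻¹ * u * a) * (a⁻¹ * w * a) = a⁻¹ * (u * w) * a := by group
    rw [e1, e2, hcomm]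
  have hord : orderOf (a⁻¹ * u * a) = orderOf u := by
    symm
    apply SemiconjBy.orderOf_eq a⁻¹
    show a⁻¹ * u = a⁻¹ * u * a * a⁻¹
    group
  have hσ' : ∀ r : ℕ, r.Prime → r ∣ orderOf (a⁻¹ * u * a) → r ∉ Cfsg.sigma M₀ := by
    intro r hr hd hrM
    rw [hord] at hd
    exact hσ r hr hd ((mem_sigma_map_cj_iff a).mpr hrM)
  have hprod : w * u = a * ((a⁻¹ * w * a) * (a⁻¹ * u * a)) * a⁻¹ := by group
  rcases tilde_or_kappa_of h hM₀ hwσ hw1' huM hu1' hcomm' hσ' with ⟨N, hN, hmem⟩ | hκ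
  · left
    refine ⟨N, hN, ?_⟩
    rw [hprod]
    exact tildeOf_conj_mem a hmem
  · right
    obtain ⟨m, hm, hk, hc⟩ := conj_into_K h hM₀ hK₀ hK₀1 hwσ huM hu1' hcomm' hκ
    refine ⟨a * m⁻¹, m * (a⁻¹ * u * a) * m⁻¹, m * (a⁻¹ * w * a) * m⁻¹, hk, conj_ne_one m hu1',
      hc, conj_ne_one m hw1', ?_⟩
    group

/-- **Theorem E (3), case `𝓜_𝒫 ≠ ∅`**: every non-identity element lies in some `Ñ` or is
conjugate to an element of `Ẑ` -/
theorem s1379_3a_of (h : Hyp G) {M K : Subgroup G} (hM : IsCoatom M)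
    (hK : Cfsg.IsPiHallOf (Cfsg.kappa M) K M) (hK1 : K ≠ ⊥) (hD : DualInput M K) (g : G)
    (hg1 : g ≠ 1) :
    (∃ N : Subgroup G, IsCoatom N ∧ g ∈ Cfsg.tildeOf N ((Cfsg.sigmaCore N : Set G) \ {1})) ∨
    ∃ y : G, ∃ z ∈ ((↑(K ⊔ (Cfsg.sigmaCore M ⊓ centralizer (K : Set G))) : Set G) \
      ((K : Set G) ∪ ↑(Cfsg.sigmaCore M ⊓ centralizer (K : Set G)))), g = y * z * y⁻¹ := by
  rcases tilde_or_kappa h hg1 with h1 | ⟨M', w, u, hM', hgwu, hwσ, hw1, huM', hu1, hcomm, hκ⟩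
  · left; exact h1
  obtain ⟨r, hr, hrd⟩ := exists_prime_dvd_orderOf hu1
  obtain ⟨Ms, hMs, hKst, hKstH, hall⟩ := hD
  have hσ : ∀ r : ℕ, r.Prime → r ∣ orderOf u → r ∉ Cfsg.sigma M' := fun r hr hd =>
    (hκ r hr hd).2.2.1
  obtain ⟨a, ha | ha⟩ := hall M' hM' ⟨r, hκ r hr hrd⟩
  · subst ha
    rcases zhat_case h hM hK hK1 a hwσ hw1 huM' hu1 hcomm hσ with h1 | ⟨b, k, c, hk, hk1, hc, hc1, he⟩
    · left; rw [hgwu]; exact h1
    · right
      exact ⟨b, c * k, mem_zhat hM hK hk hk1 hc hc1, by rw [hgwu, he]⟩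
  · subst ha
    have hKs1 : Cfsg.sigmaCore M ⊓ centralizer (K : Set G) ≠ ⊥ :=
      Cfsg.Agent.Helper10.BG16.kstar_ne_bot h.h1430 hM hK hK1
    rcases zhat_case h hMs hKstH hKs1 a hwσ hw1 huM' hu1 hcomm hσ with h1 |
      ⟨b, k, c, hk, hk1, hc, hc1, he⟩
    · left; rw [hgwu]; exact h1
    · right
      rw [← hKst] at hc
      have hcomm2 : c * k = k * c :=
        (Subgroup.mem_centralizer_iff.mp hk.2 c hc)
      refine ⟨b, k * c, mem_zhat hM hK hc hc1 hk hk1, ?_⟩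
      rw [hgwu, he, hcomm2]

/-- **S1379** from the statements of section 14 and the input from 14.7 -/
theorem s1379_of (h : Hyp G)
    (hD : ∀ M K U : Subgroup G, IsCoatom M → Cfsg.IsSigmaDecomposition M K U → K ≠ ⊥ →
      DualInput M K) :
    (∀ M N : Subgroup G, IsCoatom M → IsCoatom N →
      (∀ g : G, N ≠ M.map (MulAut.conj g).toMonoidHom) →
      Cfsg.tildeOf M ((Cfsg.sigmaCore M : Set G) \ {1}) ∩
        Cfsg.tildeOf N ((Cfsg.sigmaCore N : Set G) \ {1}) = ∅) ∧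
      ((∀ M : Subgroup G, IsCoatom M → Cfsg.kappa M = ∅) →
        ∀ g : G, g ≠ 1 → ∃ M : Subgroup G, IsCoatom M ∧
          g ∈ Cfsg.tildeOf M ((Cfsg.sigmaCore M : Set G) \ {1})) ∧
      ∀ (M K U : Subgroup G), IsCoatom M → Cfsg.IsSigmaDecomposition M K U → K ≠ ⊥ →
        (∀ g : G, g ≠ 1 → (∃ N : Subgroup G, IsCoatom N ∧
            g ∈ Cfsg.tildeOf N ((Cfsg.sigmaCore N : Set G) \ {1})) ∨
            ∃ y : G, ∃ z ∈ ((↑(K ⊔ (Cfsg.sigmaCore M ⊓ Subgroup.centralizer (K : Set G))) : Set G) \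
              ((K : Set G) ∪ ↑(Cfsg.sigmaCore M ⊓ Subgroup.centralizer (K : Set G)))),
              g = y * z * y⁻¹) ∧
        ∀ N : Subgroup G, IsCoatom N → ∀ y : G,
          ∀ z ∈ ((↑(K ⊔ (Cfsg.sigmaCore M ⊓ Subgroup.centralizer (K : Set G))) : Set G) \
            ((K : Set G) ∪ ↑(Cfsg.sigmaCore M ⊓ Subgroup.centralizer (K : Set G)))),
          y * z * y⁻¹ ∉ Cfsg.tildeOf N ((Cfsg.sigmaCore N : Set G) \ {1}) := by
  refine ⟨fun M N hM hN hnc => tilde_disjoint h hM hN hnc, fun hκ g hg1 => s1379_2_of h hκ g hg1,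
    fun M K U hM hKU hK1 => ⟨fun g hg1 => s1379_3a_of h hM hKU.hall hK1 (hD M K U hM hKU hK1) g hg1,
      ?_⟩⟩
  intro N hN y z hz hmem
  obtain ⟨k, c, hk, hk1, hc, hc1, rfl, -⟩ := zhat_decomp hz
  have h1 := tildeOf_conj_mem y⁻¹ hmem
  have h2 : y⁻¹ * (y * (c * k) * y⁻¹) * y⁻¹⁻¹ = c * k := by group
  rw [h2] at h1
  exact zhat_not_mem_tilde h hM hKU.hall hK1 hN hk hk1 hc hc1 h1

end Cfsg.Agent.Helper29.BG14
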