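import Mathlib
import Cfsg.Prelude.Def_OddOrderLocal
import Cfsg.Agent.Helper13.BG158A
import Cfsg.Agent.Helper29.BG14E
import Cfsg.Agent.Helper20.BG16Tc
import Cfsg.Agent.Helper18.BG16Ba
import Cfsg.Agent.Helper18.BG16Be
import Cfsg.Agent.Lead.BG143b
import Cfsg.Agent.Helper9.BG12g
import Cfsg.Agent.Helper27.BG15G
import Cfsg.Agent.Helper27.BG15B
import Cfsg.Agent.Helper28.BG13Star2
import Cfsg.Agent.Helper29.Schmidt
import Cfsg.Agent.Helper18.BG12b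

set_option autoImplicit false
set_option linter.unusedSectionVars false
set_option linter.unusedVariables false
set_option linter.style.haveILetI false

namespace Cfsg.Agent.Helper29.BG14

open Subgroup Cfsg
open Cfsg.Agent.Helper14 (IsSylowIn cj map_cj_le_iff map_cj_mul map_cj_one map_cj_normalizer
  mem_normalizer_iff_map_cj map_cj_eq_self_of_mem le_normalizer_of_map_cj_le mem_map_cj
  exists_isSylowIn_ge exists_isSylowIn isSylowIn_of_sylow isSylowIn_iff)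
open Cfsg.Agent.Helper27.BG15 (St1351 St1352 St1353 St1354 St1364 St1366 St1367 St1368 St1369
  St1375 St1435 St1419)
open Cfsg.Agent.Helper13.BG158 (Inp Cfg HC)

universe u

variable {G : Type u} [Group G] [Finite G]

/-- the configuration of B&G Theorem 15.8: `x ∈ M_σ`, `C_G(x) ≤ N`, `κ(N) ≠ ∅` -/
structure KCfg (M N K U L : Subgroup G) (q : ℕ) : Prop where
  d : DCfg M N q
  c : Cfg N K U L
  hKM : K ≤ M
  hUM : U ≤ M
  hqM : q ∈ Cfsg.sigma M

theorem exists_kcfg (h : Hyp G) (h1351 : St1351 G) (h1352 : St1352 G) (h1366 : St1366 G)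
    {M : Subgroup G} (hM : IsCoatom M) {x : G} (hx : x ∈ Cfsg.sigmaCore M) (hx1 : x ≠ 1)
    (hxM : ¬ centralizer ({x} : Set G) ≤ M) {N : Subgroup G} (hN : IsCoatom N)
    (hxN : centralizer ({x} : Set G) ≤ N) (hkN : (Cfsg.kappa N).Nonempty) :
    ∃ (K U L : Subgroup G) (q : ℕ), KCfg M N K U L q ∧ x ∈ M ⊓ N ∧ q ∣ orderOf x ∧
      Cfsg.sigmaCore N ⊓ centralizer ({x} : Set G) ≠ ⊥ := by
  obtain ⟨L₀, q, c, hxL, hCL, hqd, huniq, hτ, hR1, hfus⟩ := thmD_b h hM hx hx1 hxM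
  have hNL : N = L₀ := huniq N hN hxN
  subst hNL
  have h1350 := st1350 h.hG
  have hqp : q.Prime := c.hq.1
  have hsolv : Group.IsSolvable N := h.hG.2.2.2 N hN.1
  have hHall := Cfsg.Agent.H9.BG12.isPiHallOf_compl h1350 hN c.compl
  obtain ⟨⟨K₀, hK₀⟩, hcyc⟩ := h1351 N hN
  obtain ⟨⟨U₀, hKU₀⟩, -⟩ := h1352 N hN K₀ (hcyc K₀ hK₀) hK₀
  have hcompl₀ := Cfsg.Agent.Helper18.BG16B.complIn_sup hKU₀
  have hHall₀ := Cfsg.Agent.H9.BG12.isPiHallOf_compl h1350 hN hcompl₀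
  obtain ⟨n, hn, hle⟩ := Cfsg.Agent.H9.BG12.exists_conj_le_of_hall hsolv hHall hcompl₀.1
    hHall₀.2.1
  have hKU := Cfsg.Agent.Helper20.BG16T.isSigmaDecomposition_map_cj hn hKU₀
  have hKM : K₀.map (cj n) ≤ M :=
    ((Subgroup.map_mono le_sup_right).trans hle).trans inf_le_left
  have hUM : U₀.map (cj n) ≤ M :=
    ((Subgroup.map_mono le_sup_left).trans hle).trans inf_le_left
  -- K ≠ ⊥
  have hK1 : K₀.map (cj n) ≠ ⊥ := by
    intro h0
    obtain ⟨p, hp⟩ := hkN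
    have hpp : p.Prime := hp.1
    apply hKU.hall.2.2 p hpp hp
    rw [h0, Subgroup.relIndex_bot_left]
    exact hp.2.1
  -- U ≠ ⊥
  have hU1 : U₀.map (cj n) ≠ ⊥ := by
    intro h0
    have hcard := Cfsg.Agent.Helper10.BG16.sd_card h1350 hN hKU
    rw [h0, Subgroup.card_bot, one_mul] at hcard
    have hqL : q ∣ Nat.card N := hqd.trans (Subgroup.orderOf_dvd_natCard _ hxL.2)
    rw [hcard] at hqL
    rcases (Nat.Prime.dvd_mul hqp).1 hqL with h1 | h1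
    · exact Cfsg.Agent.Lead.BG143.not_mem_kappa_of_mem_tau2 c.hq (hKU.hall.2.1 q hqp h1)
    · exact c.hq.2.1 (Cfsg.Agent.H9.BG12.mem_sigma_of_dvd_card_sigmaCore hqp h1)
  obtain ⟨L, ⟨hL, hKst, hKstH⟩, -⟩ := h1366 N hN _ _ hKU hK1
  have hqM : q ∈ Cfsg.sigma M := by
    apply Cfsg.Agent.H9.BG12.mem_sigma_of_dvd_card_sigmaCore hqp
    exact hqd.trans (Subgroup.orderOf_dvd_natCard _ hx)
  exact ⟨_, _, L, q, ⟨c, ⟨hN, hKU, hK1, hU1, hL, hKst, hKstH⟩, hKM, hUM, hqM⟩, hxL, hqd, hR1⟩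


namespace KCfg

variable {M N K U L : Subgroup G} {q : ℕ}

/-- `K* = N_σ ∩ C(K)` -/
abbrev Ks (N K : Subgroup G) : Subgroup G := Cfsg.sigmaCore N ⊓ centralizer (K : Set G)

theorem Ks_ne_bot (k : KCfg M N K U L q) (I : Inp G) : Ks N K ≠ ⊥ :=
  (I.h1364 N k.c.hM K U k.c.hKU k.c.hK1).2.1

theorem Ks_le_L (k : KCfg M N K U L q) : Ks N K ≤ L := k.c.hKstH.1

theorem L_ne_M (k : KCfg M N K U L q) (I : Inp G) : L ≠ M := by
  intro h0
  apply k.Ks_ne_bot I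
  rw [eq_bot_iff, ← k.d.inf_sigmaCore]
  intro z hz
  exact ⟨h0 ▸ k.Ks_le_L hz, hz.1⟩

theorem hc (k : KCfg M N K U L q) (I : Inp G) : HC N K L M := by
  refine ⟨k.d.hM, ?_, ?_, k.hKM⟩
  · intro g hg
    apply k.d.hnc g⁻¹
    rw [hg, Cfsg.Agent.Helper14.map_cj_map_cj_inv]
  · intro g hg
    have hp := Cfsg.Agent.Helper13.BG158.card_K_prime I k.c
    haveI : Fact (Nat.card K).Prime := ⟨hp⟩
    have hrL : Nat.card K ∈ Cfsg.sigma L := k.c.card_K_mem_sigma I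
    have hrM : Nat.card K ∈ Cfsg.sigma M := by
      rw [hg]; exact (mem_sigma_map_cj_iff g).mpr hrL
    have hKp : IsPGroup (Nat.card K) K := IsPGroup.of_card (n := 1) (by rw [pow_one])
    obtain ⟨S, hS, hKS⟩ := exists_isSylowIn_ge (le_inf k.hKM k.c.K_le_Mstar) hKp
    have h24 := I.h.h1424 M k.d.hM (Nat.card K) hrM K hKp k.c.hK1 k.hKM L k.c.hMstar (k.L_ne_M I)
      (Cfsg.Agent.Helper13.BG158.normalizer_K_le I k.c) hS.toSylow
      (by rw [hS.toSylow_map]; exact hKS)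
    apply h24.1 g⁻¹
    rw [hg, Cfsg.Agent.Helper14.map_cj_map_cj_inv]

end KCfg


theorem isCyclic_of_le' {A B : Subgroup G} (h : A ≤ B) (hB : IsCyclic B) : IsCyclic A := by
  have h1 : IsCyclic ↥(A.subgroupOf B) := inferInstance
  exact isCyclic_of_surjective (Subgroup.subgroupOfEquivOfLe h).toMonoidHom
    (Subgroup.subgroupOfEquivOfLe h).surjective

namespace KCfg

variable {M N K U L : Subgroup G} {q : ℕ}

/-- the conclusions of S1435 for `H := M` -/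
structure S35 (M N K U L : Subgroup G) : Prop where
  hκ : Cfsg.kappa M = ∅
  hUσ : U ≤ Cfsg.sigmaCore M
  hNM : N ⊓ M = U ⊔ K
  hnorm : ¬ M ⊓ normalizer (U : Set G) ≤ N
  hKF : K ≤ Cfsg.fittingOf (M ⊓ L)
  hcompl : Cfsg.IsComplIn (M ⊓ L) (Cfsg.sigmaCore M) M

/-- an elementary abelian subgroup of order `q ^ 2` of `M ∩ N` lies in `U` -/
theorem le_U_of_qgroup (k : KCfg M N K U L q) (I : Inp G) {A : Subgroup G} (hAM : A ≤ M ⊓ N)
    (hA : IsPGroup q A) : A ≤ U := by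
  intro a ha
  have haN : a ∈ N := (hAM ha).2
  have hqp : q.Prime := k.d.hq.1
  haveI : Fact q.Prime := ⟨hqp⟩
  have h1 : a ∈ U ⊔ Cfsg.sigmaCore N := by
    apply mem_U_sup_sigmaCore I.hG k.c.hM k.c.hKU haN
    intro p hp hd
    obtain ⟨j, hj⟩ := (IsPGroup.iff_orderOf.mp hA) ⟨a, ha⟩
    have h2 : orderOf a = q ^ j := by
      rw [← hj]; exact Subgroup.orderOf_coe ⟨a, ha⟩
    rw [h2] at hd
    have h3 := (Nat.prime_dvd_prime_iff_eq hp hqp).mp (hp.dvd_of_dvd_pow hd)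
    rw [h3]
    exact Cfsg.Agent.Lead.BG143.not_mem_kappa_of_mem_tau2 k.d.hq
  have hUN : Cfsg.sigmaCore N ≤ normalizer (U : Set G) → True := fun _ => trivial
  have hnorm : U ≤ normalizer (Cfsg.sigmaCore N : Set G) :=
    k.c.U_le.trans (Cfsg.Agent.H9.BG12.le_normalizer_sigmaCore N)
  rw [sup_comm, Cfsg.Agent.Helper7.mem_sup_of_le_normalizer hnorm] at h1
  obtain ⟨s, hs, u, hu, rfl⟩ := h1
  have hsM : s ∈ M := by
    have : s = (s * u) * u⁻¹ := by group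
    rw [this]
    exact M.mul_mem (hAM ha).1 (M.inv_mem (k.hUM hu))
  have hs1 : s ∈ M ⊓ Cfsg.sigmaCore N := ⟨hsM, hs⟩
  rw [k.d.inf_sigmaCore, Subgroup.mem_bot] at hs1
  rw [hs1, one_mul]; exact hu

theorem s35 (k : KCfg M N K U L q) (I : Inp G) (h1435 : St1435 G) : S35 M N K U L := by
  have hqp : q.Prime := k.d.hq.1
  haveI : Fact q.Prime := ⟨hqp⟩
  have h1350 := st1350 I.hG
  obtain ⟨A, hAE, hAe, hAc⟩ := Cfsg.Agent.Lead.BG143.exists_elementary_sq_le_compl I.hG h1350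
    k.c.hM k.d.compl k.d.hq
  have hAp : IsPGroup q A := Cfsg.Agent.Helper4.BG10.isPGroup_of_elementary hAe
  have hAU : A ≤ U := k.le_U_of_qgroup I hAE hAp
  obtain ⟨R, hR⟩ := IsPGroup.exists_le_sylow (hAp.comap_subtype (K := U))
  have hAR : A ≤ (R : Subgroup U).map U.subtype := by
    intro a ha
    exact ⟨⟨a, hAU ha⟩, hR (Subgroup.mem_subgroupOf.mpr ha), rfl⟩
  have hRq : IsPGroup q ((R : Subgroup U).map U.subtype) := R.isPGroup'.map _
  have hRM : (R : Subgroup U).map U.subtype ≤ M := (Subgroup.map_subtype_le _).trans k.hUM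
  have hRnc : ¬ IsCyclic ((R : Subgroup U).map U.subtype) := fun hc =>
    Cfsg.Agent.Helper18.BG12.not_isCyclic_of_elementary hAe hAc (isCyclic_of_le' hAR hc)
  obtain ⟨E₀, hE₀⟩ := Cfsg.Agent.H9.BG12.exists_complIn_sigmaCore h1350 k.d.hM
  have hNR : normalizer (((R : Subgroup U).map U.subtype : Subgroup G) : Set G) ≤ M :=
    (I.h.h1420 M k.d.hM E₀ hE₀).2.2.1 q _ k.hqM hRq hRM hRnc
  · have hqU : q ∣ Nat.card U := by
      have h1 : q ∣ Nat.card A := by rw [hAc]; exact dvd_pow_self q (by norm_num)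
      exact h1.trans (Subgroup.card_dvd_of_le hAU)
    obtain ⟨h1, h2, h3, h4, h5, h6⟩ := h1435 N k.c.hM K U k.c.hKU k.c.hK1 k.c.hU1 L k.c.hMstar
      k.c.hKst k.c.hKstH q hqU R M k.d.hM hNR
    exact ⟨h1, h2, h3, h4, h5, h6⟩

end KCfg

end Cfsg.Agent.Helper29.BG14
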