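import Cfsg.Agent.Helper29.BG14K

set_option autoImplicit false
set_option linter.unusedSectionVars false
set_option linter.unusedVariables false
set_option linter.style.haveILetI false

namespace Cfsg.Agent.Helper29.BG14

open Subgroup Cfsg
open Cfsg.Agent.Helper14 (IsSylowIn cj map_cj_le_iff map_cj_mul map_cj_one map_cj_normalizer
  mem_normalizer_iff_map_cj map_cj_eq_self_of_mem le_normalizer_of_map_cj_le mem_map_cj
  exists_isSylowIn_ge exists_isSylowIn isSylowIn_of_sylow isSylowIn_iff)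
open Cfsg.Agent.Helper27.BG15 (St1351 St1352 St1353 St1354 St1364 St1366 St1367 St1368 St1369
  St1375 St1435 St1419)
open Cfsg.Agent.Helper13.BG158 (Inp Cfg HC)

universe u

variable {G : Type u} [Group G] [Finite G]

/-- `N_G(M_σ) = M` -/
theorem normalizer_sigmaCore (hG : Cfsg.IsMinSimpleOddOrder G) {M : Subgroup G} (hM : IsCoatom M) :
    normalizer (Cfsg.sigmaCore M : Set G) = M := by
  have hne := Cfsg.Agent.Helper10.BG16.sigmaCore_ne_bot hG (Cfsg.Agent.Helper21.BG12.st1350 hG)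
    (Cfsg.Agent.Helper21.BG12.uniq96 hG) hM
  have hnt : Cfsg.sigmaCore M ≠ ⊤ := by
    intro h0
    apply hM.1
    rw [eq_top_iff, ← h0]
    exact Cfsg.Agent.H9.BG12.sigmaCore_le M
  exact Cfsg.Agent.Lead.BG9.eq_of_coatom_le hM (Cfsg.Agent.H9.BG12.le_normalizer_sigmaCore M)
    (Cfsg.Agent.Lead.TT.normalizer_ne_top_of_simple hG.2.1 hne hnt)

namespace KCfg

variable {M N K U L : Subgroup G} {q : ℕ}

theorem card_K_dvd (k : KCfg M N K U L q) : Nat.card K ∣ Nat.card M :=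
  Subgroup.card_dvd_of_le k.hKM

/-- `M_σ` is nilpotent -/
theorem nil (k : KCfg M N K U L q) (I : Inp G) : Group.IsNilpotent (Cfsg.sigmaCore M) := by
  by_contra hnn
  have hall := all_kappa_of_not_nilpotent I.h.h1429 k.d.hM hnn
  have hp := Cfsg.Agent.Helper13.BG158.card_K_prime I k.c
  have h1 := hall _ hp k.card_K_dvd ((k.hc I).card_K_not_mem_sigma I k.c)
  rw [(k.hc I).kappa_eq_empty I k.c] at h1
  exact h1

/-- `M_F` is not a TI-subset -/
theorem not_TI (k : KCfg M N K U L q) (I : Inp G) {x : G} (hx : x ∈ Cfsg.sigmaCore M)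
    (hx1 : x ≠ 1) (hR1 : Cfsg.sigmaCore N ⊓ centralizer ({x} : Set G) ≠ ⊥) :
    ¬ Cfsg.IsTISubset (Cfsg.fittingHallOf M : Set G) := by
  intro hTI
  rw [← sigmaCore_eq_fittingHallOf I.hG k.d.hM (k.nil I)] at hTI
  obtain ⟨r, hr, hr1⟩ := (Subgroup.ne_bot_iff_exists_ne_one.mp hR1 |>
    fun ⟨a, ha⟩ => (⟨a.1, a.2, fun h0 => ha (Subtype.ext h0)⟩ :
      ∃ r, r ∈ Cfsg.sigmaCore N ⊓ centralizer ({x} : Set G) ∧ r ≠ 1))
  have hrM : r ∉ normalizer ((Cfsg.sigmaCore M : Subgroup G) : Set G) := by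
    rw [normalizer_sigmaCore I.hG k.d.hM]
    intro hrM
    have : r ∈ M ⊓ Cfsg.sigmaCore N := ⟨hrM, hr.1⟩
    rw [k.d.inf_sigmaCore, Subgroup.mem_bot] at this
    exact hr1 this
  apply hx1
  apply hTI r hrM x hx
  have hc : x * r = r * x := mem_centralizer_singleton.mp hr.2
  have : r * x * r⁻¹ = x := by rw [← hc]; group
  rw [this]; exact hx

end KCfg

end Cfsg.Agent.Helper29.BG14
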