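import Cfsg.Agent.Helper29.BG14L
import Cfsg.Agent.S1456
import Cfsg.Agent.Helper9.NilpotentHall

set_option autoImplicit false
set_option linter.unusedSectionVars false
set_option linter.unusedVariables false
set_option linter.style.haveILetI false

namespace Cfsg.Agent.Helper29.BG14

open Subgroup Cfsg
open Cfsg.Agent.Helper14 (IsSylowIn cj map_cj_le_iff map_cj_mul map_cj_one map_cj_normalizer
  mem_normalizer_iff_map_cj map_cj_eq_self_of_mem le_normalizer_of_map_cj_le mem_map_cj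
  exists_isSylowIn_ge exists_isSylowIn isSylowIn_of_sylow isSylowIn_iff)
open Cfsg.Agent.Helper27.BG15 (St1351 St1352 St1353 St1354 St1364 St1366 St1367 St1368 St1369
  St1375 St1435 St1419)
open Cfsg.Agent.Helper13.BG158 (Inp Cfg HC)
open Cfsg.Agent.Lead.BG143 (ppart orderOf_ppart ppart_ne_one ppart_mem ppart_comm)

universe u

variable {G : Type u} [Group G] [Finite G]

/-- a group of order prime to `p` has `p`-rank `0` -/
theorem pRankLE_of_not_dvd {X : Type*} [Group X] [Finite X] {p : ℕ} [hp : Fact p.Prime] (k : ℕ)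
    (h : ¬ p ∣ Nat.card X) : Cfsg.PRankLE p k X := by
  intro A hA hAp
  have hpg : IsPGroup p A := by
    intro a
    refine ⟨1, ?_⟩
    rw [pow_one]
    exact Subtype.ext (by simpa using hAp a a.2)
  obtain ⟨j, hj⟩ := IsPGroup.iff_card.mp hpg
  have hd : Nat.card A ∣ Nat.card X := Subgroup.card_subgroup_dvd_card A
  rcases Nat.eq_zero_or_pos j with h0 | h0
  · rw [hj, h0, pow_zero]; exact Nat.one_le_pow _ _ hp.out.pos
  · exfalso
    apply h
    rw [hj] at hd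
    exact (dvd_pow_self p h0.ne').trans hd

namespace KCfg

variable {M N K U L : Subgroup G} {q : ℕ}

/-- an element of order `q` of `M_σ` with centralizer in `N` -/
theorem exists_y (k : KCfg M N K U L q) (I : Inp G) {x : G} (hx : x ∈ Cfsg.sigmaCore M)
    (hx1 : x ≠ 1) (hxM : ¬ centralizer ({x} : Set G) ≤ M)
    (hxN : centralizer ({x} : Set G) ≤ N) (hqd : q ∣ orderOf x) :
    ∃ y ∈ Cfsg.sigmaCore M, orderOf y = q ∧ centralizer ({y} : Set G) ≤ N := by
  have hqp : q.Prime := k.d.hq.1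
  have hy : ppart x q ∈ Cfsg.sigmaCore M := ppart_mem hx q
  have hyo : orderOf (ppart x q) = q := orderOf_ppart hqd
  have hy1 : ppart x q ≠ 1 := ppart_ne_one hqp hqd
  have hCxy := centralizer_le_of_mem_zpowers (ppart_mem_zpowers x q)
  have hyM : ¬ centralizer ({ppart x q} : Set G) ≤ M := fun h0 => hxM (hCxy.trans h0)
  obtain ⟨Ly, q', c', -, hCL, -⟩ := thmD_b I.h k.d.hM hy hy1 hyM
  obtain ⟨N₀, -, huniq, -⟩ := I.h1375 M k.d.hM x hx hx1 hxM
  have h1 : N = N₀ := huniq N k.c.hM hxN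
  have h2 : Ly = N₀ := huniq Ly c'.hL (hCxy.trans hCL)
  refine ⟨_, hy, hyo, ?_⟩
  rw [h1, ← h2]; exact hCL

/-- `M ∩ N` has rank at most `2` -/
theorem rank_inf (k : KCfg M N K U L q) (I : Inp G) : Cfsg.RankLE 2 ↥(M ⊓ N) := by
  intro p hp
  haveI : Fact p.Prime := ⟨hp⟩
  by_cases hpσ : p ∈ Cfsg.sigma N
  · apply pRankLE_of_not_dvd
    intro hd
    have hH := Cfsg.Agent.H9.BG12.isPiHallOf_compl (st1350 I.hG) k.c.hM k.d.compl
    exact hH.2.1 p hp hd hpσ
  · have h1 := Cfsg.Agent.Helper4.BG10.sigma'_pRankLE_two I.hG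
      (Cfsg.Agent.Helper21.BG12.uniq I.hG) k.c.hM hpσ
    exact Cfsg.Agent.Helper7.PRankLE.of_injective (Subgroup.inclusion inf_le_right)
      (Subgroup.inclusion_injective inf_le_right) h1

/-- `M' ≤ F(M)` -/
theorem comm_le_fitting (k : KCfg M N K U L q) (I : Inp G) {y : G}
    (hy : y ∈ Cfsg.sigmaCore M) (hyo : orderOf y = q)
    (hyN : centralizer ({y} : Set G) ≤ N) :
    commutator ↥M ≤ Cfsg.fittingSubgroup ↥M := by
  have hqp : q.Prime := k.d.hq.1
  haveI : Fact q.Prime := ⟨hqp⟩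
  have hyM : y ∈ M := Cfsg.Agent.H9.BG12.sigmaCore_le M hy
  haveI : Group.IsSolvable ↥M := I.hG.2.2.2 M k.d.hM.1
  have hodd : Odd (Nat.card ↥M) := by
    have h1 := I.hG.1
    exact h1.of_dvd_nat (Subgroup.card_subgroup_dvd_card M)
  have hσF : Cfsg.sigmaCore M ≤ Cfsg.fittingOf M :=
    Cfsg.Agent.Helper27.BG15.le_fittingOf (Cfsg.Agent.H9.BG12.sigmaCore_le M)
      (Cfsg.Agent.H9.BG12.le_normalizer_sigmaCore M) (k.nil I)
  have hyF : (⟨y, hyM⟩ : ↥M) ∈ Cfsg.fittingSubgroup ↥M := by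
    obtain ⟨z, hz, hzy⟩ := hσF hy
    have : z = ⟨y, hyM⟩ := Subtype.ext hzy
    rw [← this]; exact hz
  have hyo' : orderOf (⟨y, hyM⟩ : ↥M) = q := by
    rw [← hyo]; exact (Subgroup.orderOf_coe (⟨y, hyM⟩ : ↥M)).symm
  apply Cfsg.Agent.S1456.result hodd q (zpowers (⟨y, hyM⟩ : ↥M)) (zpowers_le.mpr hyF)
  · refine ⟨inferInstance, ?_⟩
    intro a ha
    obtain ⟨j, rfl⟩ := mem_zpowers_iff.mp ha
    rw [← zpow_natCast, ← zpow_mul, mul_comm, zpow_mul, zpow_natCast, ← hyo', pow_orderOf_eq_one,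
      one_zpow]
  · -- rank
    have hinj : ∀ z : ↥(Cfsg.fittingSubgroup ↥M ⊓ centralizer ((zpowers (⟨y, hyM⟩ : ↥M) : Subgroup ↥M) : Set ↥M)),
        ((z : ↥M) : G) ∈ M ⊓ N := by
      intro z
      refine ⟨(z : ↥M).2, hyN ?_⟩
      rw [mem_centralizer_singleton]
      have h1 : (z : ↥M) ∈ centralizer ((zpowers (⟨y, hyM⟩ : ↥M) : Subgroup ↥M) : Set ↥M) := z.2.2
      rw [Subgroup.mem_centralizer_iff] at h1
      have h2 := h1 ⟨y, hyM⟩ (mem_zpowers _)
      have h3 := congrArg Subtype.val h2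
      simpa using h3
    let f : ↥(Cfsg.fittingSubgroup ↥M ⊓ centralizer ((zpowers (⟨y, hyM⟩ : ↥M) : Subgroup ↥M) : Set ↥M)) →* ↥(M ⊓ N) :=
      { toFun := fun z => ⟨((z : ↥M) : G), hinj z⟩
        map_one' := rfl
        map_mul' := fun a b => rfl }
    have hf : Function.Injective f := by
      intro a b hab
      have h1 : ((a : ↥M) : G) = ((b : ↥M) : G) := congrArg (fun t : ↥(M ⊓ N) => (t : G)) hab
      exact Subtype.ext (Subtype.ext h1)
    intro p hp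
    exact Cfsg.Agent.Helper7.PRankLE.of_injective f hf (k.rank_inf I p hp)

/-- an element of `M ∩ L` commuting with `y` is trivial -/
theorem eq_one_of_comm (k : KCfg M N K U L q) (I : Inp G) {y : G}
    (hy : y ∈ Cfsg.sigmaCore M) (hy1 : y ≠ 1) (hyN : centralizer ({y} : Set G) ≤ N)
    {e : G} (he : e ∈ M ⊓ L) (hey : e * y = y * e) : e = 1 := by
  have heN : e ∈ N := hyN (mem_centralizer_singleton.mpr hey.symm)
  have h68 := (I.h1368 N k.c.hM K U k.c.hKU k.c.hK1 L k.c.hMstar k.c.hKst k.c.hKstH).1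
  have heNL : e ∈ K ⊔ Ks N K := by rw [← h68]; exact ⟨heN, he.2⟩
  have hcent : Ks N K ≤ centralizer (K : Set G) := inf_le_right
  have hLE : Ks N K ≤ normalizer (K : Set G) :=
    hcent.trans (Subgroup.centralizer_le_normalizer _)
  rw [Cfsg.Agent.Helper7.mem_sup_of_le_normalizer hLE] at heNL
  obtain ⟨a, ha, b, hb, rfl⟩ := heNL
  have hbM : b ∈ M := by
    have : b = a⁻¹ * (a * b) := by group
    rw [this]; exact M.mul_mem (M.inv_mem (k.hKM ha)) he.1
  have hb1 : b ∈ M ⊓ Cfsg.sigmaCore N := ⟨hbM, hb.1⟩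
  rw [k.d.inf_sigmaCore, Subgroup.mem_bot] at hb1
  rw [hb1, mul_one] at hey ⊢
  by_contra ha1
  exact hy1 ((k.hc I).fpf I k.c y hy a ha ha1 hey)

/-- `M ∩ L` is abelian -/
theorem E_comm (k : KCfg M N K U L q) (I : Inp G) (s : S35 M N K U L) {y : G}
    (hy : y ∈ Cfsg.sigmaCore M) (hyo : orderOf y = q)
    (hyN : centralizer ({y} : Set G) ≤ N) : IsMulCommutative ↥(M ⊓ L) := by
  have hqp : q.Prime := k.d.hq.1
  have hy1 : y ≠ 1 := by
    intro h0; rw [h0, orderOf_one] at hyo; exact hqp.ne_one hyo.symm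
  have h1350 := st1350 I.hG
  have hcF := k.comm_le_fitting I hy hyo hyN
  have hσF : Cfsg.sigmaCore M ≤ Cfsg.fittingOf M :=
    Cfsg.Agent.Helper27.BG15.le_fittingOf (Cfsg.Agent.H9.BG12.sigmaCore_le M)
      (Cfsg.Agent.H9.BG12.le_normalizer_sigmaCore M) (k.nil I)
  have hEH := Cfsg.Agent.H9.BG12.isPiHallOf_compl h1350 k.d.hM s.hcompl
  have hσH := (h1350 M k.d.hM).1
  refine ⟨⟨?_⟩⟩
  rintro ⟨a, ha⟩ ⟨b, hb⟩
  apply Subtype.ext
  show a * b = b * a
  have hcE : a * b * a⁻¹ * b⁻¹ ∈ M ⊓ L :=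
    (M ⊓ L).mul_mem ((M ⊓ L).mul_mem ((M ⊓ L).mul_mem ha hb) ((M ⊓ L).inv_mem ha))
      ((M ⊓ L).inv_mem hb)
  have hcM : a * b * a⁻¹ * b⁻¹ ∈ M := hcE.1
  have hcF' : (⟨a * b * a⁻¹ * b⁻¹, hcM⟩ : ↥M) ∈ Cfsg.fittingSubgroup ↥M := by
    apply hcF
    rw [commutator_def]
    have := Subgroup.commutator_mem_commutator (Subgroup.mem_top (⟨a, ha.1⟩ : ↥M))
      (Subgroup.mem_top (⟨b, hb.1⟩ : ↥M))
    rw [commutatorElement_def] at this
    exact this
  have hcFo : a * b * a⁻¹ * b⁻¹ ∈ Cfsg.fittingOf M := ⟨_, hcF', rfl⟩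
  haveI hFn : Group.IsNilpotent ↥(Cfsg.fittingOf M) :=
    Cfsg.Agent.Helper27.BG15.fittingOf_isNilpotent M
  -- the commutator centralizes `y`
  have hcy : a * b * a⁻¹ * b⁻¹ * y = y * (a * b * a⁻¹ * b⁻¹) := by
    have hnorm : (⟨a * b * a⁻¹ * b⁻¹, hcFo⟩ : ↥(Cfsg.fittingOf M)) ∈
        normalizer (((Cfsg.sigmaCore M).subgroupOf (Cfsg.fittingOf M) :
          Subgroup ↥(Cfsg.fittingOf M)) : Set ↥(Cfsg.fittingOf M)) := by
      rw [mem_normalizer_iff]
      intro z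
      rw [Subgroup.mem_subgroupOf, Subgroup.mem_subgroupOf]
      have hn := Cfsg.Agent.H9.BG12.le_normalizer_sigmaCore M hcM
      exact mem_normalizer_iff.mp hn (z : G)
    have hcop : Nat.Coprime (orderOf (⟨a * b * a⁻¹ * b⁻¹, hcFo⟩ : ↥(Cfsg.fittingOf M)))
        (Nat.card ((Cfsg.sigmaCore M).subgroupOf (Cfsg.fittingOf M))) := by
      rw [Nat.card_congr (Subgroup.subgroupOfEquivOfLe hσF).toEquiv]
      have ho : orderOf (⟨a * b * a⁻¹ * b⁻¹, hcFo⟩ : ↥(Cfsg.fittingOf M)) =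
          orderOf (a * b * a⁻¹ * b⁻¹) :=
        (Subgroup.orderOf_coe (⟨a * b * a⁻¹ * b⁻¹, hcFo⟩ : ↥(Cfsg.fittingOf M))).symm
      rw [ho]
      apply Nat.coprime_of_dvd
      intro p hp h1 h2
      exact hEH.2.1 p hp (h1.trans (Subgroup.orderOf_dvd_natCard _ hcE)) (hσH.2.1 p hp h2)
    have hcent := Cfsg.Agent.Helper9.mem_centralizer_of_nilpotent_of_coprime
      ((Cfsg.sigmaCore M).subgroupOf (Cfsg.fittingOf M)) _ hnorm hcop
    rw [Subgroup.mem_centralizer_iff] at hcent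
    have h3 := hcent ⟨y, hσF hy⟩ (Subgroup.mem_subgroupOf.mpr hy)
    have h4 := congrArg Subtype.val h3
    simpa using h4.symm
  have h1 := k.eq_one_of_comm I hy hy1 hyN hcE hcy
  calc a * b = (a * b * a⁻¹ * b⁻¹) * (b * a) := by group
    _ = b * a := by rw [h1, one_mul]

end KCfg

end Cfsg.Agent.Helper29.BG14
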