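import Mathlib
import Cfsg.Agent.Helper27.BG15A1
import Cfsg.Agent.Helper27.BG15B
import Cfsg.Agent.Lead.Coprime2

set_option autoImplicit false
set_option linter.unusedSectionVars false
set_option linter.unusedVariables false
set_option linter.style.haveILetI false

namespace Cfsg.Agent.Helper29.BG14

open Subgroup
open Cfsg.Agent.Lead (RelQ relMk bar bar_le_normalizer_bar)
open Cfsg.Agent.Helper27.BG15 (relMk_eq_one_iff mem_bar_iff relMk_mem_bar relMk_commute_iff
  bar_eq_bot_iff isNilpotent_of_fpf)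

universe u

variable {X : Type u} [Group X] [Finite X]

/-- a group `C` with a central subgroup `Z`, acted on coprimely by `A` such that every
non-identity element of `A` has all its fixed points on `C` inside `Z`, is nilpotent
(Thompson on `C / Z`) -/
theorem isNilpotent_of_fpf_mod_central (C Z A : Subgroup X) (hZC : Z ≤ C)
    (hCZ : C ≤ centralizer (Z : Set X)) (hAC : A ≤ normalizer (C : Set X))
    (hAZ : A ≤ normalizer (Z : Set X)) (hA1 : A ≠ ⊥)
    (hcop : (Nat.card A).Coprime (Nat.card C)) (hsolv : Group.IsSolvable C)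
    (hfix : ∀ a ∈ A, a ≠ 1 → C ⊓ centralizer ({a} : Set X) ≤ Z) :
    Group.IsNilpotent C := by
  have hCN : C ≤ normalizer (Z : Set X) := hCZ.trans (Subgroup.centralizer_le_normalizer _)
  have hAZ' : A ⊓ Z = ⊥ := by
    apply Disjoint.eq_bot
    apply Subgroup.disjoint_of_coprime_natCard
    exact Nat.Coprime.coprime_dvd_right (Subgroup.card_dvd_of_le hZC) hcop
  have hbarA : bar Z A ≠ ⊥ := by
    intro h0
    rw [bar_eq_bot_iff Z A hAZ] at h0
    apply hA1
    rw [eq_bot_iff, ← hAZ']
    exact le_inf le_rfl h0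
  have hD : Group.IsNilpotent ↥(bar Z C) := by
    apply isNilpotent_of_fpf (bar Z C) (bar Z A) (bar_le_normalizer_bar Z hAC) hbarA
    intro a' ha' ha'1
    obtain ⟨a, haN, haA, rfl⟩ := (mem_bar_iff Z A a').mp ha'
    have ha1 : a ≠ 1 := by
      rintro rfl
      apply ha'1
      rw [relMk_eq_one_iff]; exact Z.one_mem
    rw [eq_bot_iff]
    rintro d' ⟨hd', hda⟩
    obtain ⟨d, hdN, hdC, rfl⟩ := (mem_bar_iff Z C d').mp hd'
    rw [mem_bot, relMk_eq_one_iff]
    have hda : relMk Z ⟨d, hdN⟩ ∈ centralizer ({relMk Z ⟨a, haN⟩} : Set (RelQ Z)) := hda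
    rw [Subgroup.mem_centralizer_singleton_iff] at hda
    -- all powers of `a` commute with `d` modulo `Z`
    have hpow : ∀ b ∈ zpowers a, b * d * b⁻¹ * d⁻¹ ∈ Z := by
      intro b hb
      obtain ⟨j, rfl⟩ := mem_zpowers_iff.mp hb
      have hbN : a ^ j ∈ normalizer (Z : Set X) := Subgroup.zpow_mem _ haN j
      rw [← relMk_commute_iff Z (a ^ j) d hbN hdN]
      have e : relMk Z ⟨a ^ j, hbN⟩ = (relMk Z ⟨a, haN⟩) ^ j := by
        rw [← map_zpow]; rfl
      rw [e]
      exact ((Commute.zpow_left (show Commute (relMk Z ⟨a, haN⟩) (relMk Z ⟨d, hdN⟩) from hda.symm) j)).eq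
    have hzA : zpowers a ≤ A := zpowers_le.mpr haA
    have hcop' : (Nat.card (zpowers a)).Coprime (Nat.card C) :=
      Nat.Coprime.coprime_dvd_left (Subgroup.card_dvd_of_le hzA) hcop
    obtain ⟨c, hc, hcd⟩ := Cfsg.Agent.Lead.coprime_fixed_points_quotient (zpowers a) C
      (hzA.trans hAC) hcop' (Or.inr hsolv) Z hZC hCN (hzA.trans hAZ) d hdC hpow
    have hcZ : c ∈ Z := by
      apply hfix a haA ha1
      refine ⟨hc.1, ?_⟩
      show c ∈ centralizer ({a} : Set X)
      rw [Subgroup.mem_centralizer_singleton_iff]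
      have := (Subgroup.mem_centralizer_iff.mp hc.2) a (mem_zpowers a)
      exact this.symm
    have : d = c * (d⁻¹ * c)⁻¹ := by group
    rw [this]
    exact Z.mul_mem hcZ (Z.inv_mem hcd)
  -- lift nilpotency from `C / Z` to `C`
  let f₀ : ↥C →* RelQ Z := (relMk Z).comp (Subgroup.inclusion hCN)
  have hmem : ∀ c : ↥C, f₀ c ∈ bar Z C := fun c => relMk_mem_bar Z C (hCN c.2) c.2
  let f : ↥C →* ↥(bar Z C) := f₀.codRestrict (bar Z C) hmem
  have hker : f.ker ≤ center ↥C := by
    intro c hc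
    rw [MonoidHom.mem_ker] at hc
    have hc' : f₀ c = 1 := congrArg Subtype.val hc
    have hcZ : (c : X) ∈ Z := (relMk_eq_one_iff Z (c : X) (hCN c.2)).mp hc'
    rw [Subgroup.mem_center_iff]
    intro z
    apply Subtype.ext
    have := (mem_centralizer_iff.mp (hCZ z.2)) (c : X) hcZ
    simpa using this.symm
  have := hD
  exact Subgroup.isNilpotent_of_ker_le_center f hker

end Cfsg.Agent.Helper29.BG14
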