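import Cfsg.Agent.Helper29.BG14M
import Cfsg.Agent.Helper29.FpfModCentral
import Cfsg.Agent.Helper20.KulI

set_option autoImplicit false
set_option linter.unusedSectionVars false
set_option linter.unusedVariables false
set_option linter.style.haveILetI false

namespace Cfsg.Agent.Helper29.BG14

open Subgroup Cfsg
open Cfsg.Agent.Helper14 (IsSylowIn cj map_cj_le_iff map_cj_mul map_cj_one map_cj_normalizer
  mem_normalizer_iff_map_cj map_cj_eq_self_of_mem le_normalizer_of_map_cj_le mem_map_cj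
  exists_isSylowIn_ge exists_isSylowIn isSylowIn_of_sylow isSylowIn_iff)
open Cfsg.Agent.Helper27.BG15 (St1351 St1352 St1353 St1354 St1364 St1366 St1367 St1368 St1369
  St1375 St1435 St1419)
open Cfsg.Agent.Helper13.BG158 (Inp Cfg HC)

universe u

variable {G : Type u} [Group G] [Finite G]

namespace KCfg

variable {M N K U L : Subgroup G} {q : ℕ}

/-- for `p ∈ τ₂(M)` and `A ≤ M ∩ L` elementary abelian of order `p²`: `p ∈ σ(L)`, `A ≤ L_σ` -/
theorem tau2_le_sigmaCore_L (k : KCfg M N K U L q) (I : Inp G) {p : ℕ} [hp : Fact p.Prime]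
    (hpM : p ∈ Cfsg.tau2 M) {A : Subgroup G} (hAE : A ≤ M ⊓ L)
    (hAe : Cfsg.IsElementaryAbelian p A) (hAc : Nat.card A = p ^ 2) :
    p ∈ Cfsg.sigma L ∧ A ≤ Cfsg.sigmaCore L := by
  have hAL : A ≤ L := hAE.trans inf_le_right
  have hAM : A ≤ M := hAE.trans inf_le_left
  have h1350 := st1350 I.hG
  have hpσ : p ∈ Cfsg.sigma L := by
    by_contra hpL
    have hr2 := Cfsg.Agent.Helper4.BG10.sigma'_pRankLE_two I.hG
      (Cfsg.Agent.Helper21.BG12.uniq I.hG) k.c.hMstar hpL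
    have hr1 : ¬ Cfsg.PRankLE p 1 ↥L := by
      apply Cfsg.Agent.Lead.BG9.not_pRankLE_of_elementary hAL hAe
      rw [hAc, pow_one]
      have := hp.out.one_lt
      nlinarith
    have hτ : p ∈ Cfsg.tau2 L := ⟨hp.out, hpL, hr2, hr1⟩
    have h17 := (I.h.h1417 L k.c.hMstar p hτ A ⟨hAL, hAe, hAc⟩).2.2.2.2.1 M k.d.hM
      (k.L_ne_M I).symm hAM
    apply k.c.hK1
    rw [eq_bot_iff, ← h17]
    exact le_inf k.c.K_le_sigmaCore_Mstar k.hKM
  exact ⟨hpσ, Cfsg.Agent.H9.BG12.le_sigmaCore_of_isPGroup h1350 k.c.hMstar hpσ hAL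
    (Cfsg.Agent.Helper4.BG10.isPGroup_of_elementary hAe)⟩

/-- `K` is abelian -/
theorem K_le_centralizer (k : KCfg M N K U L q) : K ≤ centralizer (K : Set G) := by
  have := k.c.hKU.cyclic
  intro a ha
  rw [Subgroup.mem_centralizer_iff]
  intro b hb
  have hc : IsMulCommutative K := inferInstance
  have := hc.is_comm.comm (⟨b, hb⟩ : K) ⟨a, ha⟩
  exact congrArg Subtype.val this

/-- `C_{L_σ}(K)` is nilpotent -/
theorem C1_nil (k : KCfg M N K U L q) (I : Inp G) :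
    Group.IsNilpotent ↥(Cfsg.sigmaCore L ⊓ centralizer (K : Set G)) := by
  have hKsL : Ks N K ≤ L := k.Ks_le_L
  have hKsC : Ks N K ≤ centralizer (K : Set G) := inf_le_right
  apply isNilpotent_of_fpf_mod_central (Cfsg.sigmaCore L ⊓ centralizer (K : Set G)) K (Ks N K)
    (le_inf k.c.K_le_sigmaCore_Mstar k.K_le_centralizer) inf_le_right
  · intro a ha
    exact mem_normalizer_inf (Cfsg.Agent.H9.BG12.le_normalizer_sigmaCore L (hKsL ha))
      (Subgroup.le_normalizer (hKsC ha))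
  · exact hKsC.trans (Subgroup.centralizer_le_normalizer _)
  · exact k.Ks_ne_bot I
  · apply Nat.coprime_of_dvd
    intro p hp h1 h2
    have hκ : p ∈ Cfsg.kappa L := k.c.hKstH.2.1 p hp h1
    have hσ : p ∈ Cfsg.sigma L := by
      apply Cfsg.Agent.H9.BG12.mem_sigma_of_dvd_card_sigmaCore hp
      exact h2.trans (Subgroup.card_dvd_of_le inf_le_left)
    exact hκ.2.2.1 hσ
  · have hsolvL : Group.IsSolvable L := I.hG.2.2.2 L k.c.hMstar.1
    exact Cfsg.Agent.Lead.isSolvable_of_le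
      (inf_le_left.trans (Cfsg.Agent.H9.BG12.sigmaCore_le L)) hsolvL
  · intro a ha ha1
    have h30 := (I.h.h1430 L k.c.hMstar (Ks N K) k.c.hKstH (k.Ks_ne_bot I)).1 a ha ha1
    intro z hz
    have hz' : z ∈ Cfsg.sigmaCore L ⊓ centralizer ({a} : Set G) := ⟨hz.1.1, hz.2⟩
    rw [h30] at hz'
    rw [k.c.hKst]
    exact hz'

end KCfg

/-- an element of a `p`-group normalizing a subgroup of order `p` centralizes it -/
theorem mem_centralizer_of_pgroup {p : ℕ} [hp : Fact p.Prime] {P K : Subgroup G}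
    (hP : IsPGroup p P) (hKP : K ≤ P) (hK : Nat.card K = p) {g : G} (hg : g ∈ P)
    (hgN : g ∈ normalizer (K : Set G)) : g ∈ centralizer (K : Set G) := by
  set T : Subgroup G := P ⊓ normalizer (K : Set G) with hT
  have hKT : K ≤ T := le_inf hKP Subgroup.le_normalizer
  have hTp : IsPGroup p T := hP.to_le inf_le_left
  haveI : (K.subgroupOf T).Normal :=
    Subgroup.normal_subgroupOf_of_le_normalizer inf_le_right
  have hc : Nat.card (K.subgroupOf T) = p := by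
    rw [Nat.card_congr (Subgroup.subgroupOfEquivOfLe hKT).toEquiv]; exact hK
  have h1 := Cfsg.Agent.S1453.le_center_of_normal_of_card_prime hTp (K.subgroupOf T) hc
  rw [Subgroup.mem_centralizer_iff]
  intro k hk
  have h2 : (⟨k, hKT hk⟩ : ↥T) ∈ center ↥T := h1 (Subgroup.mem_subgroupOf.mpr hk)
  rw [Subgroup.mem_center_iff] at h2
  have h3 := h2 ⟨g, ⟨hg, hgN⟩⟩
  have h4 := congrArg Subtype.val h3
  simpa using h4.symm

/-- an element normalizing a cyclic subgroup normalizes each of its subgroups -/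
theorem mem_normalizer_of_le_cyclic {Q K : Subgroup G} (hQ : IsCyclic Q) (hKQ : K ≤ Q) {g : G}
    (hg : g ∈ normalizer (Q : Set G)) : g ∈ normalizer (K : Set G) := by
  rw [mem_normalizer_iff_map_cj]
  have hQg : Q.map (cj g) = Q := mem_normalizer_iff_map_cj.mp hg
  have hKg : K.map (cj g) ≤ Q := by rw [← hQg]; exact Subgroup.map_mono hKQ
  have hcard : Nat.card ((K.map (cj g)).subgroupOf Q) = Nat.card (K.subgroupOf Q) := by
    rw [Nat.card_congr (Subgroup.subgroupOfEquivOfLe hKg).toEquiv,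
      Nat.card_congr (Subgroup.subgroupOfEquivOfLe hKQ).toEquiv,
      Subgroup.card_map_of_injective (Cfsg.Agent.Helper14.cj_injective g)]
  have := hQ
  have h1 := Cfsg.Agent.Helper20.eq_of_card_eq_of_isCyclic _ _ hcard
  have h2 := congrArg (Subgroup.map Q.subtype) h1
  rwa [Subgroup.map_subgroupOf_eq_of_le hKg, Subgroup.map_subgroupOf_eq_of_le hKQ] at h2

namespace KCfg

variable {M N K U L : Subgroup G} {q : ℕ}

/-- `|K| ∉ τ₂(M)` -/
theorem card_K_not_mem_tau2 (k : KCfg M N K U L q) (I : Inp G) (h1419 : St1419 G)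
    (s : S35 M N K U L) {y : G} (hy : y ∈ Cfsg.sigmaCore M) (hy1 : y ≠ 1)
    (hyN : centralizer ({y} : Set G) ≤ N) : Nat.card K ∉ Cfsg.tau2 M := by
  intro hr
  have hrp := Cfsg.Agent.Helper13.BG158.card_K_prime I k.c
  haveI : Fact (Nat.card K).Prime := ⟨hrp⟩
  have h1350 := st1350 I.hG
  obtain ⟨A, hAE, hAe, hAc⟩ := Cfsg.Agent.Lead.BG143.exists_elementary_sq_le_compl I.hG h1350
    k.d.hM s.hcompl hr
  obtain ⟨hrL, hAL⟩ := k.tau2_le_sigmaCore_L I hr hAE hAe hAc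
  have hAp : IsPGroup (Nat.card K) A := Cfsg.Agent.Helper4.BG10.isPGroup_of_elementary hAe
  -- an abelian Sylow subgroup of `G`
  have hab : ∃ S : Sylow (Nat.card K) G, IsMulCommutative (S : Subgroup G) := by
    by_contra hno
    push Not at hno
    have h19 := h1419 M k.d.hM (M ⊓ L) s.hcompl (Nat.card K) hr hno A ⟨hAE, hAe, hAc⟩
    have hcard := h19.2.1.1
    have h0 : A ⊓ centralizer (Cfsg.sigmaCore M : Set G) = ⊥ := by
      rw [eq_bot_iff]
      intro e he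
      rw [Subgroup.mem_bot]
      apply k.eq_one_of_comm I hy hy1 hyN (hAE he.1)
      exact ((Subgroup.mem_centralizer_iff.mp he.2) y hy).symm
    rw [h0, Subgroup.card_bot] at hcard
    exact hrp.one_lt.ne hcard
  obtain ⟨S, hS⟩ := hab
  obtain ⟨RL, hRL⟩ := IsPGroup.exists_le_sylow (hAp.comap_subtype (K := Cfsg.sigmaCore L))
  have hARm : A ≤ (RL : Subgroup ↥(Cfsg.sigmaCore L)).map (Cfsg.sigmaCore L).subtype := by
    intro a ha
    exact ⟨⟨a, hAL ha⟩, hRL (Subgroup.mem_subgroupOf.mpr ha), rfl⟩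
  have hRmp : IsPGroup (Nat.card K)
      ((RL : Subgroup ↥(Cfsg.sigmaCore L)).map (Cfsg.sigmaCore L).subtype) := RL.isPGroup'.map _
  obtain ⟨S', hS'⟩ := hRmp.exists_le_sylow
  have hS'c : ∀ a ∈ (S' : Subgroup G), ∀ b ∈ (S' : Subgroup G), a * b = b * a := by
    intro a ha b hb
    let e := Sylow.equiv S S'
    have h1 := hS.is_comm.comm (e.symm ⟨a, ha⟩) (e.symm ⟨b, hb⟩)
    have h2 := congrArg e h1
    rw [map_mul, map_mul, e.apply_symm_apply, e.apply_symm_apply] at h2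
    exact congrArg Subtype.val h2
  have hRmM : (RL : Subgroup ↥(Cfsg.sigmaCore L)).map (Cfsg.sigmaCore L).subtype ≤ M := by
    have h18 := (I.h.h1418 M k.d.hM (M ⊓ L) s.hcompl (Nat.card K) hr A ⟨hAE, hAe, hAc⟩).2.1.1
    intro z hz
    apply (h18 _).1
    rw [Subgroup.mem_centralizer_iff]
    intro a ha
    exact hS'c a (hS' (hARm ha)) z (hS' hz)
  have hd : Nat.card K ∣ Nat.card ↥(Cfsg.sigmaCore L ⊓ centralizer ((Ks N K : Subgroup G) : Set G)) := by
    rw [← k.c.hKst]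
  obtain ⟨⟨M₀, ⟨hM₀, hle₀⟩, huniq⟩, hRmL, -⟩ :=
    (I.h.h1431 L k.c.hMstar (Ks N K) k.c.hKstH (k.Ks_ne_bot I)).2.2.1 (Nat.card K) hrp hd RL
  have h1 : L = M₀ := huniq L ⟨k.c.hMstar, hRmL⟩
  have h2 : M = M₀ := huniq M ⟨k.d.hM, hRmM⟩
  exact k.L_ne_M I (h1.trans h2.symm)

/-- `τ₂(M) = ∅` -/
theorem tau2_eq_empty (k : KCfg M N K U L q) (I : Inp G) (h1419 : St1419 G)
    (s : S35 M N K U L) {y : G} (hy : y ∈ Cfsg.sigmaCore M) (hyo : orderOf y = q)
    (hyN : centralizer ({y} : Set G) ≤ N) : Cfsg.tau2 M = ∅ := by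
  have hqp : q.Prime := k.d.hq.1
  have hy1 : y ≠ 1 := by
    intro h0; rw [h0, orderOf_one] at hyo; exact hqp.ne_one hyo.symm
  by_contra hne
  obtain ⟨p, hp⟩ := Set.nonempty_iff_ne_empty.mpr hne
  haveI : Fact p.Prime := ⟨hp.1⟩
  have hrp := Cfsg.Agent.Helper13.BG158.card_K_prime I k.c
  haveI : Fact (Nat.card K).Prime := ⟨hrp⟩
  have hrτ := k.card_K_not_mem_tau2 I h1419 s hy hy1 hyN
  have hpr : p ≠ Nat.card K := fun h0 => hrτ (h0 ▸ hp)
  have h1350 := st1350 I.hG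
  have hEc := k.E_comm I s hy hyo hyN
  obtain ⟨A, hAE, hAe, hAc⟩ := Cfsg.Agent.Lead.BG143.exists_elementary_sq_le_compl I.hG h1350
    k.d.hM s.hcompl hp
  obtain ⟨hpL, hAL⟩ := k.tau2_le_sigmaCore_L I hp hAE hAe hAc
  have hAp : IsPGroup p A := Cfsg.Agent.Helper4.BG10.isPGroup_of_elementary hAe
  -- rank of `M` at `r`
  have hrσM : Nat.card K ∉ Cfsg.sigma M := (k.hc I).card_K_not_mem_sigma I k.c
  have hr2 := Cfsg.Agent.Helper4.BG10.sigma'_pRankLE_two I.hG
    (Cfsg.Agent.Helper21.BG12.uniq I.hG) k.d.hM hrσM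
  have hr1 : Cfsg.PRankLE (Nat.card K) 1 ↥M := by
    by_contra h0
    exact hrτ ⟨hrp, hrσM, hr2, h0⟩
  -- a Sylow `r`-subgroup of `L_σ` containing `K`
  have hKp : IsPGroup (Nat.card K) K := IsPGroup.of_card (n := 1) (by rw [pow_one])
  obtain ⟨RL, hRL⟩ := IsPGroup.exists_le_sylow (hKp.comap_subtype (K := Cfsg.sigmaCore L))
  set Rm : Subgroup G := (RL : Subgroup ↥(Cfsg.sigmaCore L)).map (Cfsg.sigmaCore L).subtype
    with hRm
  have hKRm : K ≤ Rm := by
    intro a ha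
    exact ⟨⟨a, k.c.K_le_sigmaCore_Mstar ha⟩, hRL (Subgroup.mem_subgroupOf.mpr ha), rfl⟩
  have hRmp : IsPGroup (Nat.card K) Rm := RL.isPGroup'.map _
  have hRmσ : Rm ≤ Cfsg.sigmaCore L := Subgroup.map_subtype_le _
  have hd : Nat.card K ∣
      Nat.card ↥(Cfsg.sigmaCore L ⊓ centralizer ((Ks N K : Subgroup G) : Set G)) := by
    rw [← k.c.hKst]
  obtain ⟨⟨M₀, ⟨hM₀, hle₀⟩, huniq⟩, hRmL, -⟩ :=
    (I.h.h1431 L k.c.hMstar (Ks N K) k.c.hKstH (k.Ks_ne_bot I)).2.2.1 (Nat.card K) hrp hd RL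
  have hRmM : ¬ Rm ≤ M := by
    intro h0
    have h1 : L = M₀ := huniq L ⟨k.c.hMstar, hRmL⟩
    have h2 : M = M₀ := huniq M ⟨k.d.hM, h0⟩
    exact k.L_ne_M I (h1.trans h2.symm)
  -- `Q = Rm ∩ M` is cyclic and proper in `Rm`
  have hQp : IsPGroup (Nat.card K) ↥(Rm ⊓ M) := hRmp.to_le inf_le_left
  have hQc : IsCyclic ↥(Rm ⊓ M) :=
    Cfsg.Agent.Helper28.BG13S.cyclic_of_pRankLE_one I.hG hr1 _ inf_le_right hQp
  have hKQ : K ≤ Rm ⊓ M := le_inf hKRm k.hKM
  have hlt : Rm ⊓ M < Rm := by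
    refine lt_of_le_of_ne inf_le_left ?_
    intro h0
    exact hRmM (h0 ▸ inf_le_right)
  have hnil : Group.IsNilpotent Rm := hRmp.isNilpotent
  obtain ⟨g, hgR, hgN, hgQ⟩ := exists_mem_normalizer_not_mem hnil hlt
  have hgK : g ∈ centralizer (K : Set G) :=
    mem_centralizer_of_pgroup hRmp hKRm rfl hgR (mem_normalizer_of_le_cyclic hQc hKQ hgN)
  -- `g` and `A` lie in the nilpotent group `C₁`
  have hgC : g ∈ Cfsg.sigmaCore L ⊓ centralizer (K : Set G) := ⟨hRmσ hgR, hgK⟩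
  have hAC : A ≤ Cfsg.sigmaCore L ⊓ centralizer (K : Set G) := by
    intro a ha
    refine ⟨hAL ha, ?_⟩
    show a ∈ centralizer (K : Set G)
    rw [Subgroup.mem_centralizer_iff]
    intro b hb
    have hbE : b ∈ M ⊓ L := ⟨k.hKM hb, k.c.K_le_Mstar hb⟩
    have := hEc.is_comm.comm (⟨b, hbE⟩ : ↥(M ⊓ L)) ⟨a, hAE ha⟩
    exact congrArg Subtype.val this
  haveI hC1 : Group.IsNilpotent ↥(Cfsg.sigmaCore L ⊓ centralizer (K : Set G)) := k.C1_nil I
  -- `g` centralizes `A`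
  have hgA : g ∈ centralizer (A : Set G) := by
    -- the Sylow `p`-subgroup of `C₁` contains `A` and is centralized by `g`
    obtain ⟨P, hP⟩ := IsPGroup.exists_le_sylow
      (hAp.comap_subtype (K := Cfsg.sigmaCore L ⊓ centralizer (K : Set G)))
    have hPn : ((P : Subgroup ↥(Cfsg.sigmaCore L ⊓ centralizer (K : Set G)))).Normal :=
      inferInstance
    have hnorm : (⟨g, hgC⟩ : ↥(Cfsg.sigmaCore L ⊓ centralizer (K : Set G))) ∈
        normalizer (((P : Subgroup ↥(Cfsg.sigmaCore L ⊓ centralizer (K : Set G)))) : Set _) := by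
      rw [Subgroup.normalizer_eq_top]; exact Subgroup.mem_top _
    have hcop : Nat.Coprime
        (orderOf (⟨g, hgC⟩ : ↥(Cfsg.sigmaCore L ⊓ centralizer (K : Set G))))
        (Nat.card (P : Subgroup ↥(Cfsg.sigmaCore L ⊓ centralizer (K : Set G)))) := by
      obtain ⟨j, hj⟩ := (IsPGroup.iff_orderOf.mp hRmp) ⟨g, hgR⟩
      have ho : orderOf (⟨g, hgC⟩ : ↥(Cfsg.sigmaCore L ⊓ centralizer (K : Set G))) =
          Nat.card K ^ j := by
        rw [← hj, ← Subgroup.orderOf_coe, ← Subgroup.orderOf_coe]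
      obtain ⟨i, hi⟩ := IsPGroup.iff_card.mp P.isPGroup'
      rw [ho, hi]
      apply Nat.Coprime.pow
      exact (Nat.coprime_primes hrp hp.1).mpr (Ne.symm hpr)
    have hcent := Cfsg.Agent.Helper9.mem_centralizer_of_nilpotent_of_coprime
      (P : Subgroup ↥(Cfsg.sigmaCore L ⊓ centralizer (K : Set G))) _ hnorm hcop
    rw [Subgroup.mem_centralizer_iff] at hcent ⊢
    intro a ha
    have h3 := hcent ⟨a, hAC ha⟩ (hP (Subgroup.mem_subgroupOf.mpr ha))
    exact congrArg Subtype.val h3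
  have h18 := (I.h.h1418 M k.d.hM (M ⊓ L) s.hcompl p hp A ⟨hAE, hAe, hAc⟩).2.1.1
  exact hgQ ⟨hgR, (h18 hgA).1⟩

end KCfg

end Cfsg.Agent.Helper29.BG14
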