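import Cfsg.Agent.Helper29.BG14N

set_option autoImplicit false
set_option linter.unusedSectionVars false
set_option linter.unusedVariables false
set_option linter.style.haveILetI false

namespace Cfsg.Agent.Helper29.BG14

open Subgroup Cfsg
open scoped Pointwise
open Cfsg.Agent.Helper14 (IsSylowIn cj map_cj_le_iff map_cj_mul map_cj_one map_cj_normalizer
  mem_normalizer_iff_map_cj map_cj_eq_self_of_mem le_normalizer_of_map_cj_le mem_map_cj
  exists_isSylowIn_ge exists_isSylowIn isSylowIn_of_sylow isSylowIn_iff)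
open Cfsg.Agent.Helper27.BG15 (St1351 St1352 St1353 St1354 St1364 St1366 St1367 St1368 St1369
  St1375 St1435 St1419)
open Cfsg.Agent.Helper13.BG158 (Inp Cfg HC)
open Cfsg.Agent.Lead.BG143 (ppart orderOf_ppart ppart_ne_one ppart_mem ppart_comm)

universe u

variable {G : Type u} [Group G] [Finite G]

/-- a complement acting regularly on a normal subgroup is a Frobenius complement -/
theorem isFrobeniusComplement_of_regular {M E H : Subgroup G} (hc : Cfsg.IsComplIn E H M)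
    (hMH : M ≤ normalizer (H : Set G)) (hE1 : E ≠ ⊥) (hH1 : H ≠ ⊥)
    (hreg : ∀ e ∈ E, e ≠ 1 → ∀ z ∈ H, e * z = z * e → z = 1) :
    Cfsg.IsFrobeniusComplement (E.subgroupOf M) := by
  obtain ⟨hEM, hHM, hdisj, hmul⟩ := hc
  refine ⟨?_, ?_, ?_⟩
  · intro h0
    rw [Subgroup.subgroupOf_eq_bot] at h0
    apply hE1
    rw [eq_bot_iff]
    exact h0.le_bot.trans' (le_inf le_rfl hEM) |>.trans (le_of_eq rfl)
  · intro h0
    rw [Subgroup.subgroupOf_eq_top] at h0
    apply hH1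
    rw [eq_bot_iff, ← hdisj]
    exact le_inf (hHM.trans h0) le_rfl
  · intro g hg
    rw [eq_bot_iff]
    intro x hx
    rw [Subgroup.mem_bot]
    have hxE : x ∈ E.subgroupOf M := hx.1
    have hxg : x ∈ MulAut.conj g • E.subgroupOf M := hx.2
    have hxE' : (x : G) ∈ E := Subgroup.mem_subgroupOf.mp hxE
    rw [Subgroup.mem_pointwise_smul_iff_inv_smul_mem] at hxg
    have hxg' : ((g⁻¹ * x * g : ↥M) : G) ∈ E := by
      have : (MulAut.conj g)⁻¹ • x = g⁻¹ * x * g := by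
        rw [← map_inv, MulAut.smul_def, MulAut.conj_apply, inv_inv]
      rw [this] at hxg
      exact Subgroup.mem_subgroupOf.mp hxg
    have hgE : (g : G) ∉ E := fun h0 => hg (Subgroup.mem_subgroupOf.mpr h0)
    obtain ⟨e₀, he₀, h, hh, hgeh⟩ := hmul (g : G) g.2
    have hh1 : h ≠ 1 := by
      rintro rfl
      rw [mul_one] at hgeh
      exact hgE (hgeh ▸ he₀)
    set x' : G := e₀⁻¹ * (x : G) * e₀ with hx'
    have hx'E : x' ∈ E := E.mul_mem (E.mul_mem (E.inv_mem he₀) hxE') he₀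
    have hconj : h⁻¹ * x' * h ∈ E := by
      have : h⁻¹ * x' * h = ((g⁻¹ * x * g : ↥M) : G) := by
        simp only [Subgroup.coe_mul, Subgroup.coe_inv, hgeh, hx']
        group
      rw [this]; exact hxg'
    have h1 : x'⁻¹ * (h⁻¹ * x' * h) ∈ E := E.mul_mem (E.inv_mem hx'E) hconj
    have h2 : x'⁻¹ * (h⁻¹ * x' * h) ∈ H := by
      have hn := hMH (hEM (E.inv_mem hx'E))
      have h3 : x'⁻¹ * h⁻¹ * x'⁻¹⁻¹ ∈ H := (mem_normalizer_iff.mp hn h⁻¹).mp (H.inv_mem hh)
      have : x'⁻¹ * (h⁻¹ * x' * h) = (x'⁻¹ * h⁻¹ * x'⁻¹⁻¹) * h := by group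
      rw [this]; exact H.mul_mem h3 hh
    have h3 : x'⁻¹ * (h⁻¹ * x' * h) ∈ E ⊓ H := ⟨h1, h2⟩
    rw [hdisj, Subgroup.mem_bot] at h3
    have hcomm : x' * h = h * x' := by
      have : h⁻¹ * x' * h = x' := by
        have h4 : h⁻¹ * x' * h = x' * (x'⁻¹ * (h⁻¹ * x' * h)) := by group
        rw [h4, h3, mul_one]
      calc x' * h = h * (h⁻¹ * x' * h) := by group
        _ = h * x' := by rw [this]
    have hx'1 : x' = 1 := by
      by_contra h0
      exact hh1 (hreg x' hx'E h0 h hh hcomm)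
    have hx1 : (x : G) = 1 := by
      have : (x : G) = e₀ * x' * e₀⁻¹ := by rw [hx']; group
      rw [this, hx'1]; group
    exact Subtype.ext hx1

namespace KCfg

variable {M N K U L : Subgroup G} {q : ℕ}

/-- `M ∩ L` acts regularly on `M_σ` -/
theorem regular (k : KCfg M N K U L q) (I : Inp G) (s : S35 M N K U L)
    (hτ : Cfsg.tau2 M = ∅) :
    ∀ e ∈ M ⊓ L, e ≠ 1 → ∀ z ∈ Cfsg.sigmaCore M, e * z = z * e → z = 1 := by
  intro e he he1 z hz hez
  by_contra hz1
  have h1350 := st1350 I.hG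
  have hEH := Cfsg.Agent.H9.BG12.isPiHallOf_compl h1350 k.d.hM s.hcompl
  have ho1 : orderOf e ≠ 1 := fun h' => he1 (orderOf_eq_one_iff.mp h')
  have hpp : (orderOf e).minFac.Prime := Nat.minFac_prime ho1
  have hpd : (orderOf e).minFac ∣ orderOf e := Nat.minFac_dvd _
  set p := (orderOf e).minFac with hp
  have he'o : orderOf (ppart e p) = p := orderOf_ppart hpd
  have he'1 : ppart e p ≠ 1 := ppart_ne_one hpp hpd
  have he'E : ppart e p ∈ M ⊓ L := ppart_mem he p
  have hcomm : ppart e p * z = z * ppart e p := ppart_comm hez p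
  have hmem : ppart e p ∈ M ⊓ centralizer ({z} : Set G) :=
    ⟨he'E.1, mem_centralizer_singleton.mpr hcomm.symm⟩
  have hσ : ∀ p' : ℕ, p'.Prime → p' ∣ orderOf (ppart e p) → p' ∉ Cfsg.sigma M := by
    intro p' hp' hd
    exact hEH.2.1 p' hp' (hd.trans (Subgroup.orderOf_dvd_natCard _ he'E))
  rcases I.h.h1432 M k.d.hM z hz hz1 (ppart e p) hmem he'1 hσ with ⟨h1, -⟩ | ⟨h1, -⟩
  · have := h1 p hpp (by rw [he'o])
    rw [s.hκ] at this
    exact this
  · have := h1 p hpp (by rw [he'o])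
    rw [hτ] at this
    exact this

/-- `M ∩ L` is cyclic -/
theorem E_cyclic (k : KCfg M N K U L q) (I : Inp G) (s : S35 M N K U L)
    (hEc : IsMulCommutative ↥(M ⊓ L)) (hτ : Cfsg.tau2 M = ∅) : IsCyclic ↥(M ⊓ L) := by
  have h1350 := st1350 I.hG
  have hEH := Cfsg.Agent.H9.BG12.isPiHallOf_compl h1350 k.d.hM s.hcompl
  haveI : Group.IsNilpotent ↥(M ⊓ L) := Cfsg.Agent.Helper7.isNilpotent_of_isMulCommutative _
  haveI : IsZGroup ↥(M ⊓ L) := by
    refine ⟨?_⟩
    intro p hp P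
    haveI : Fact p.Prime := ⟨hp⟩
    by_cases hpσ : p ∈ Cfsg.sigma M
    · have hP1 : Nat.card (P : Subgroup ↥(M ⊓ L)) = 1 := by
        obtain ⟨j, hj⟩ := IsPGroup.iff_card.mp P.isPGroup'
        rcases Nat.eq_zero_or_pos j with h0 | h0
        · rw [hj, h0, pow_zero]
        · exfalso
          have hd : p ∣ Nat.card ↥(M ⊓ L) := by
            have h1 : p ∣ Nat.card (P : Subgroup ↥(M ⊓ L)) := by
              rw [hj]; exact dvd_pow_self p h0.ne'
            exact h1.trans (Subgroup.card_subgroup_dvd_card _)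
          exact hEH.2.1 p hp hd hpσ
      have : Subsingleton (P : Subgroup ↥(M ⊓ L)) := by
        rw [← Finite.card_le_one_iff_subsingleton, hP1]
      infer_instance
    · have hr2 := Cfsg.Agent.Helper4.BG10.sigma'_pRankLE_two I.hG
        (Cfsg.Agent.Helper21.BG12.uniq I.hG) k.d.hM hpσ
      have hr1 : Cfsg.PRankLE p 1 ↥M := by
        by_contra h0
        have : p ∈ Cfsg.tau2 M := ⟨hp, hpσ, hr2, h0⟩
        rw [hτ] at this
        exact this
      have hc := Cfsg.Agent.Helper28.BG13S.cyclic_of_pRankLE_one I.hG hr1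
        ((P : Subgroup ↥(M ⊓ L)).map (M ⊓ L).subtype)
        ((Subgroup.map_subtype_le _).trans inf_le_left) (P.isPGroup'.map _)
      exact isCyclic_of_surjective
        ((P : Subgroup ↥(M ⊓ L)).equivMapOfInjective (M ⊓ L).subtype
          (Subgroup.subtype_injective _)).symm.toMonoidHom
        ((P : Subgroup ↥(M ⊓ L)).equivMapOfInjective (M ⊓ L).subtype
          (Subgroup.subtype_injective _)).symm.surjective
  infer_instance

/-- **S1376** from the frozen statements -/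
theorem _root_.Cfsg.Agent.Helper29.BG14.s1376_of (I : Inp G) (h1351 : St1351 G) (h1352 : St1352 G)
    (h1366 : St1366 G) (h1419 : St1419 G) (h1435 : St1435 G)
    (M : Subgroup G) (hM : IsCoatom M) (x : G) (hx : x ∈ Cfsg.sigmaCore M) (hx1 : x ≠ 1)
    (hxM : ¬ Subgroup.centralizer ({x} : Set G) ≤ M)
    (N : Subgroup G) (hN : IsCoatom N) (hxN : Subgroup.centralizer ({x} : Set G) ≤ N)
    (hkN : (Cfsg.kappa N).Nonempty) :
    Cfsg.kappa M = ∅ ∧ (∃ E : Subgroup ↥M, Cfsg.IsFrobeniusComplement E ∧ IsCyclic E) ∧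
      ¬ Cfsg.IsTISubset (Cfsg.fittingHallOf M : Set G) := by
  obtain ⟨K, U, L, q, k, hxMN, hqd, hR1⟩ :=
    exists_kcfg I.h h1351 h1352 h1366 hM hx hx1 hxM hN hxN hkN
  have s := k.s35 I h1435
  obtain ⟨y, hy, hyo, hyN⟩ := k.exists_y I hx hx1 hxM hxN hqd
  have hτ := k.tau2_eq_empty I h1419 s hy hyo hyN
  have hEc := k.E_comm I s hy hyo hyN
  have hE1 : M ⊓ L ≠ ⊥ := by
    intro h0
    apply k.c.hK1
    rw [eq_bot_iff, ← h0]
    exact le_inf k.hKM k.c.K_le_Mstar
  have hσ1 : Cfsg.sigmaCore M ≠ ⊥ :=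
    Cfsg.Agent.Helper10.BG16.sigmaCore_ne_bot I.hG (Cfsg.Agent.Helper21.BG12.st1350 I.hG)
      (Cfsg.Agent.Helper21.BG12.uniq96 I.hG) hM
  refine ⟨s.hκ, ⟨(M ⊓ L).subgroupOf M, ?_, ?_⟩, k.not_TI I hx hx1 hR1⟩
  · exact isFrobeniusComplement_of_regular s.hcompl
      (Cfsg.Agent.H9.BG12.le_normalizer_sigmaCore M) hE1 hσ1 (k.regular I s hτ)
  · have := k.E_cyclic I s hEc hτ
    exact isCyclic_of_surjective
      (Subgroup.subgroupOfEquivOfLe (inf_le_left : M ⊓ L ≤ M)).symm.toMonoidHom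
      (Subgroup.subgroupOfEquivOfLe (inf_le_left : M ⊓ L ≤ M)).symm.surjective

end KCfg

end Cfsg.Agent.Helper29.BG14
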