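import Cfsg.Agent.Helper29.BG14O
import Cfsg.Agent.Helper20.BG16Ta

set_option autoImplicit false
set_option linter.unusedSectionVars false
set_option linter.unusedVariables false
set_option linter.style.haveILetI false

namespace Cfsg.Agent.Helper29.BG14

open Subgroup Cfsg
open scoped Pointwise
open Cfsg.Agent.Helper14 (IsSylowIn cj map_cj_le_iff map_cj_mul map_cj_one map_cj_normalizer
  mem_normalizer_iff_map_cj map_cj_eq_self_of_mem le_normalizer_of_map_cj_le mem_map_cj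
  exists_isSylowIn_ge exists_isSylowIn isSylowIn_of_sylow isSylowIn_iff)
open Cfsg.Agent.Helper27.BG15 (St1351 St1352 St1353 St1354 St1364 St1366 St1367 St1368 St1369
  St1375 St1435 St1419)
open Cfsg.Agent.Helper13.BG158 (Inp Cfg HC)

universe u

variable {G : Type u} [Group G] [Finite G]

/-- the `τ₂(M) = ∅` step of S1376, as a statement about all Theorem-D configurations -/
theorem tau2_eq_empty_of (I : Inp G) (h1351 : St1351 G) (h1352 : St1352 G)
    (h1366 : St1366 G) (h1419 : St1419 G) (h1435 : St1435 G)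
    (M : Subgroup G) (hM : IsCoatom M) (x : G) (hx : x ∈ Cfsg.sigmaCore M) (hx1 : x ≠ 1)
    (hxM : ¬ Subgroup.centralizer ({x} : Set G) ≤ M)
    (N : Subgroup G) (hN : IsCoatom N) (hxN : Subgroup.centralizer ({x} : Set G) ≤ N)
    (hkN : (Cfsg.kappa N).Nonempty) : Cfsg.tau2 M = ∅ := by
  obtain ⟨K, U, L, q, k, hxMN, hqd, hR1⟩ :=
    exists_kcfg I.h h1351 h1352 h1366 hM hx hx1 hxM hN hxN hkN
  have s := k.s35 I h1435
  obtain ⟨y, hy, hyo, hyN⟩ := k.exists_y I hx hx1 hxM hxN hqd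
  exact k.tau2_eq_empty I h1419 s hy hyo hyN

/-- **S1436 (b)**: conjugacy in `G` of the subgroups `N(x)`, `N(y)` implies conjugacy in `M` -/
theorem s1436_b_of (h : Hyp G) (M : Subgroup G) (hM : IsCoatom M) (x : G)
    (hx : x ∈ Cfsg.sigmaCore M) (hx1 : x ≠ 1) (hxM : ¬ Subgroup.centralizer ({x} : Set G) ≤ M)
    (N : Subgroup G) (hN : IsCoatom N) (hxN : Subgroup.centralizer ({x} : Set G) ≤ N) :
    ∀ (y : G) (N' : Subgroup G) (g : G), y ∈ Cfsg.sigmaCore M → y ≠ 1 →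
      ¬ Subgroup.centralizer ({y} : Set G) ≤ M → IsCoatom N' →
      Subgroup.centralizer ({y} : Set G) ≤ N' →
      N'.map (MulAut.conj g).toMonoidHom = N → ∃ m ∈ M, N'.map (MulAut.conj m).toMonoidHom = N := by
  intro y N' g hy hy1 hyM hN' hyN' hg
  obtain ⟨L₀, q, c, hxL, hCL, hqd, huniq, hτ, hR1, hfus⟩ := thmD_b h hM hx hx1 hxM
  have hNL : N = L₀ := huniq N hN hxN
  subst hNL
  obtain ⟨L₁, q', c', hyL, hCL', hqd', huniq', hτ', hR1', hfus'⟩ := thmD_b h hM hy hy1 hyM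
  have hNL' : N' = L₁ := huniq' N' hN' hyN'
  subst hNL'
  have h1350 := st1350 h.hG
  have hsolv : Group.IsSolvable N := h.hG.2.2.2 N hN.1
  have hg' : N'.map (cj g) = N := hg
  -- the conjugate complement
  have hcompl' := Cfsg.Agent.Helper20.BG16T.isComplIn_map_cj c'.compl g
  rw [← sigmaCore_map_cj h.hG hN' g, hg'] at hcompl'
  have hH1 := Cfsg.Agent.H9.BG12.isPiHallOf_compl h1350 hN hcompl'
  have hH2 := Cfsg.Agent.H9.BG12.isPiHallOf_compl h1350 hN c.compl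
  obtain ⟨n, hn, hnE⟩ := Cfsg.Agent.Lead.isPiHallOf_trans hsolv hH1 hH2
  rw [Cfsg.Agent.H9.BG12.smul_eq_map_cj, map_cj_mul] at hnE
  -- `x ∈ M ^ (n g)`
  have hxh : x ∈ M.map (cj (n * g)) := by
    have h1 : x ∈ (M ⊓ N').map (cj (n * g)) := by rw [hnE]; exact hxL
    exact (Subgroup.map_mono inf_le_left) h1
  obtain ⟨r, hr, hrM⟩ := hfus (n * g) hxh
  have hrN : r ∈ N := Cfsg.Agent.H9.BG12.sigmaCore_le N hr.1
  refine ⟨r⁻¹ * (n * g), ?_, ?_⟩
  · apply mem_of_map_cj_eq h.hG hM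
    rw [← map_cj_mul, ← hrM, Cfsg.Agent.Helper14.map_cj_map_cj_inv]
  · show N'.map (cj (r⁻¹ * (n * g))) = N
    rw [← map_cj_mul, ← map_cj_mul, hg', map_cj_eq_self_of_mem hn,
      map_cj_eq_self_of_mem (N.inv_mem hrN)]

end Cfsg.Agent.Helper29.BG14
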