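import Mathlib
import Cfsg.Prelude.Def_Local
import Cfsg.Agent.Lead.RelQuot
import Cfsg.Agent.Lead.GenCent
import Cfsg.Agent.Lead.Coprime3
import Cfsg.Agent.Helper1.PLenSeries
import Cfsg.Agent.Helper23.PSeries
import Cfsg.Agent.Helper21.ExpSix
import Cfsg.Agent.Helper7.Hyperplane

/-!
# B&G Theorem 3.6 (S1444), part A: relative quotients, hypotheses, `p`-series in ambient form
-/

set_option autoImplicit false

namespace Cfsg.Agent.Helper29.BG36

open Subgroup Cfsg.Agent.Lead
open scoped commutatorElement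

variable {X : Type*} [Group X]


theorem subgroupOf_commutator {A B W : Subgroup X} (hA : A ≤ W) (hB : B ≤ W) :
    (⁅A, B⁆ : Subgroup X).subgroupOf W = ⁅A.subgroupOf W, B.subgroupOf W⁆ := by
  apply map_injective (subtype_injective W)
  have hAB : (⁅A, B⁆ : Subgroup X) ≤ W := by
    rw [commutator_le]
    intro a ha b hb
    exact W.mul_mem (W.mul_mem (W.mul_mem (hA ha) (hB hb)) (W.inv_mem (hA ha))) (W.inv_mem (hB hb))
  rw [map_subgroupOf_eq_of_le hAB, map_commutator, map_subgroupOf_eq_of_le hA,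
    map_subgroupOf_eq_of_le hB]

theorem bar_commutator (N : Subgroup X) {A B : Subgroup X} (hA : A ≤ normalizer (N : Set X))
    (hB : B ≤ normalizer (N : Set X)) : bar N ⁅A, B⁆ = ⁅bar N A, bar N B⁆ := by
  unfold bar
  rw [subgroupOf_commutator hA hB, map_commutator]

theorem mem_bar_iff (N S : Subgroup X) (z : RelQ N) :
    z ∈ bar N S ↔ ∃ x, ∃ h : x ∈ normalizer (N : Set X), x ∈ S ∧ relMk N ⟨x, h⟩ = z := by
  constructor
  · rintro ⟨y, hy, rfl⟩
    exact ⟨y.1, y.2, hy, rfl⟩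
  · rintro ⟨x, h, hx, rfl⟩
    exact ⟨⟨x, h⟩, hx, rfl⟩

theorem card_bar_of_disjoint [Finite X] (N : Subgroup X) {A : Subgroup X}
    (hA : A ≤ normalizer (N : Set X)) (hd : A ⊓ N = ⊥) : Nat.card (bar N A) = Nat.card A := by
  unfold bar
  have hinj : Function.Injective ((relMk N).comp (A.subgroupOf (normalizer (N : Set X))).subtype) := by
    rw [injective_iff_map_eq_one]
    intro a ha
    have h1 : (a : ↥(normalizer (N : Set X))) ∈ (relMk N).ker := ha
    rw [ker_relMk, mem_subgroupOf] at h1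
    have h2 : ((a : ↥(normalizer (N : Set X))) : X) ∈ A := a.2
    have h3 : ((a : ↥(normalizer (N : Set X))) : X) ∈ A ⊓ N := ⟨h2, h1⟩
    rw [hd, mem_bot] at h3
    exact Subtype.ext (Subtype.ext h3)
  have h1 : ((A.subgroupOf (normalizer (N : Set X))).map (relMk N)) =
      ((relMk N).comp (A.subgroupOf (normalizer (N : Set X))).subtype).range := by
    rw [MonoidHom.range_comp, range_subtype]
  rw [h1, Nat.card_congr (MonoidHom.ofInjective hinj).symm.toEquiv]
  exact Nat.card_congr (subgroupOfEquivOfLe hA).toEquiv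



theorem bar_inf_centralizer [Finite X] (N K A : Subgroup X)
    (hKN : K ≤ normalizer (N : Set X)) (hAN : A ≤ normalizer (N : Set X))
    (hAK : A ≤ normalizer (K : Set X)) (hNK : N ≤ K)
    (hcop : (Nat.card A).Coprime (Nat.card K)) (hsolv : Group.IsSolvable A ∨ Group.IsSolvable K) :
    bar N K ⊓ centralizer (bar N A : Set (RelQ N)) = bar N (K ⊓ centralizer (A : Set X)) := by
  apply le_antisymm
  · rintro z ⟨hzK, hzC⟩
    obtain ⟨k, hkN, hk, rfl⟩ := (mem_bar_iff N K z).mp hzK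
    have hfix : ∀ a ∈ A, a * k * a⁻¹ * k⁻¹ ∈ N := by
      intro a ha
      have h1 := (mem_centralizer_iff.mp hzC) (relMk N ⟨a, hAN ha⟩)
        ((mem_bar_iff N A _).mpr ⟨a, hAN ha, ha, rfl⟩)
      exact (relMk_commute_iff N ⟨a, hAN ha⟩ ⟨k, hkN⟩).mp h1
    obtain ⟨c, hc, hkc⟩ := coprime_fixed_points_quotient A K hAK hcop hsolv N hNK hKN hAN k hk hfix
    rw [mem_bar_iff]
    refine ⟨c, hKN hc.1, hc, ?_⟩
    have h2 : (⟨k, hkN⟩ : ↥(normalizer (N : Set X)))⁻¹ * ⟨c, hKN hc.1⟩ ∈ (relMk N).ker := by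
      rw [ker_relMk, mem_subgroupOf]
      exact hkc
    rw [MonoidHom.mem_ker, map_mul, map_inv, inv_mul_eq_one] at h2
    exact h2.symm
  · rintro z hz
    obtain ⟨c, hcN, hc, rfl⟩ := (mem_bar_iff N _ z).mp hz
    refine ⟨(mem_bar_iff N K _).mpr ⟨c, hcN, hc.1, rfl⟩, ?_⟩
    show _ ∈ centralizer _
    rw [mem_centralizer_iff]
    intro w hw
    obtain ⟨a, haN, ha, rfl⟩ := (mem_bar_iff N A w).mp hw
    rw [← map_mul, ← map_mul]
    congr 1
    apply Subtype.ext
    exact (mem_centralizer_iff.mp hc.2) a ha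



/-- Hypotheses of B&G Theorem 3.6 in relative form. -/
structure Hyp (H R R₀ : Subgroup X) : Prop where
  RH : R ≤ normalizer (H : Set X)
  cop : (Nat.card H).Coprime (Nat.card R)
  R₀R : R₀ ≤ R
  R₀p : (Nat.card R₀).Prime
  Z : IsZGroup ↥(H ⊓ centralizer (R₀ : Set X))

theorem isZGroup_of_le {A B : Subgroup X} (h : A ≤ B) (hB : IsZGroup ↥B) : IsZGroup ↥A :=
  IsZGroup.of_injective (f := Subgroup.inclusion h) (Subgroup.inclusion_injective h)

theorem isZGroup_bar [Finite X] (N : Subgroup X) {S : Subgroup X} (hS : IsZGroup ↥S) :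
    IsZGroup ↥(bar N S) := by
  unfold bar
  have h1 : IsZGroup ↥(S.subgroupOf (normalizer (N : Set X))) := by
    let f : ↥(S.subgroupOf (normalizer (N : Set X))) →* S :=
      ((normalizer (N : Set X)).subtype.comp
        (S.subgroupOf (normalizer (N : Set X))).subtype).codRestrict S (fun x => x.2)
    have hf : Function.Injective f := by
      intro a b hab
      have := congrArg Subtype.val hab
      exact Subtype.ext (Subtype.ext this)
    exact IsZGroup.of_injective hf
  exact IsZGroup.of_surjective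
    (f := (relMk N).subgroupMap (S.subgroupOf (normalizer (N : Set X))))
    ((relMk N).subgroupMap_surjective _)

theorem Hyp.sub [Finite X] {H R R₀ H₁ : Subgroup X} (h : Hyp H R R₀) (h₁ : H₁ ≤ H)
    (hR : R ≤ normalizer (H₁ : Set X)) : Hyp H₁ R R₀ where
  RH := hR
  cop := Nat.Coprime.coprime_dvd_left (card_dvd_of_le h₁) h.cop
  R₀R := h.R₀R
  R₀p := h.R₀p
  Z := isZGroup_of_le (inf_le_inf_right _ h₁) h.Z

theorem Hyp.disjoint [Finite X] {H R R₀ : Subgroup X} (h : Hyp H R R₀) : H ⊓ R = ⊥ :=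
  (disjoint_of_coprime_natCard h.cop).eq_bot

theorem Hyp.bar [Finite X] [Group.IsSolvable X] {H R R₀ : Subgroup X} (h : Hyp H R R₀)
    (N : Subgroup X) (hNH : N ≤ H) (hHN : H ≤ normalizer (N : Set X))
    (hRN : R ≤ normalizer (N : Set X)) : Hyp (bar N H) (bar N R) (bar N R₀) where
  RH := bar_le_normalizer_bar N h.RH
  cop := Nat.Coprime.coprime_dvd_left (card_bar_dvd N H)
    (Nat.Coprime.coprime_dvd_right (card_bar_dvd N R) h.cop)
  R₀R := bar_mono N h.R₀R
  R₀p := by
    rw [card_bar_of_disjoint N (h.R₀R.trans hRN)]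
    · exact h.R₀p
    · rw [eq_bot_iff, ← h.disjoint]
      exact fun x hx => ⟨hNH hx.2, h.R₀R hx.1⟩
  Z := by
    have hcop : (Nat.card R₀).Coprime (Nat.card H) :=
      Nat.Coprime.coprime_dvd_left (card_dvd_of_le h.R₀R) h.cop.symm
    rw [bar_inf_centralizer N H R₀ hHN (h.R₀R.trans hRN) (h.R₀R.trans h.RH) hNH hcop
      (Or.inr inferInstance)]
    exact isZGroup_bar N h.Z



/-- `PSer p N H`: a `p'`, `p`, `p'` series of `H` above `N` (all terms normalized by `H`). -/
def PSer (p : ℕ) (N H : Subgroup X) : Prop :=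
  ∃ K L : Subgroup X, N ≤ K ∧ K ≤ L ∧ L ≤ H ∧ H ≤ normalizer (K : Set X) ∧
    H ≤ normalizer (L : Set X) ∧ (N.relIndex K).Coprime p ∧ (∃ a : ℕ, K.relIndex L = p ^ a) ∧
    (L.relIndex H).Coprime p

theorem le_normalizer_map_subtype (H : Subgroup X) (K : Subgroup ↥H) [hK : K.Normal] :
    H ≤ normalizer ((K.map H.subtype : Subgroup X) : Set X) := by
  intro h hh
  rw [mem_normalizer_iff]
  intro x
  constructor
  · rintro ⟨k, hk, rfl⟩
    exact ⟨⟨h, hh⟩ * k * ⟨h, hh⟩⁻¹, hK.conj_mem k hk _, rfl⟩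
  · rintro ⟨k, hk, hkx⟩
    refine ⟨⟨h, hh⟩⁻¹ * k * ⟨h, hh⟩, ?_, ?_⟩
    · have := hK.conj_mem k hk ⟨h, hh⟩⁻¹
      simpa using this
    · have h1 : (k : X) = h * x * h⁻¹ := hkx
      simp only [subtype_apply, coe_mul, coe_inv, h1]
      group

theorem pSer_of_pLengthLE [Finite X] (p : ℕ) [Fact p.Prime] (H : Subgroup X)
    (h : Cfsg.PLengthLE p 1 ↥H) : PSer p ⊥ H := by
  obtain ⟨K, L, hKn, hLn, hKL, hK, ⟨a, hL⟩, hLi⟩ :=
    Cfsg.Agent.Helper23.exists_series_of_pLengthLE_one p ↥H h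
  refine ⟨K.map H.subtype, L.map H.subtype, bot_le, map_mono hKL, map_subtype_le L,
    le_normalizer_map_subtype H K, le_normalizer_map_subtype H L, ?_, ⟨a, ?_⟩, ?_⟩
  · rw [relIndex_bot_left, Nat.card_congr (K.equivMapOfInjective _ (subtype_injective H)).symm.toEquiv]
    exact hK
  · rw [relIndex_map_map_of_injective _ _ (subtype_injective H)]
    have h1 := Cfsg.Agent.Helper7.card_mul_relIndex_of_le hKL
    rw [hL] at h1
    exact Nat.eq_of_mul_eq_mul_left Nat.card_pos h1
  · have h1 : (L.map H.subtype).relIndex H = L.index := by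
      have h2 : (L.map H.subtype).relIndex ((⊤ : Subgroup ↥H).map H.subtype) = L.relIndex ⊤ :=
        relIndex_map_map_of_injective _ _ (subtype_injective H)
      rw [← MonoidHom.range_eq_map, range_subtype, relIndex_top_right] at h2
      exact h2
    rw [h1]
    exact hLi

theorem pLengthLE_of_pSer [Finite X] (p : ℕ) [Fact p.Prime] (H : Subgroup X)
    (h : PSer p ⊥ H) : Cfsg.PLengthLE p 1 ↥H := by
  obtain ⟨K, L, -, hKL, hLH, hKn, hLn, hK, ⟨a, hL⟩, hLi⟩ := h
  have hKH : K ≤ H := hKL.trans hLH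
  haveI : (K.subgroupOf H).Normal := (normal_subgroupOf_iff_le_normalizer hKH).mpr hKn
  haveI : (L.subgroupOf H).Normal := (normal_subgroupOf_iff_le_normalizer hLH).mpr hLn
  apply Cfsg.Agent.Helper21.ExpSix.pLengthLE_one_of_series p (K.subgroupOf H) (L.subgroupOf H)
  · rw [Nat.card_congr (subgroupOfEquivOfLe hKH).toEquiv, ← relIndex_bot_left]
    exact hK
  · intro x hx
    refine ⟨a, ?_⟩
    rw [mem_subgroupOf] at hx ⊢
    -- x^(p^a) ∈ K since |L : K| = p^a and K normal in L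
    haveI : (K.subgroupOf L).Normal :=
      (normal_subgroupOf_iff_le_normalizer hKL).mpr (hLH.trans hKn)
    have h1 : ((QuotientGroup.mk' (K.subgroupOf L)) ⟨(x : X), hx⟩) ^ (p ^ a) = 1 := by
      have h2 : Nat.card (↥L ⧸ K.subgroupOf L) = p ^ a := by
        rw [← hL]; rfl
      rw [← h2]
      exact pow_card_eq_one'
    rw [← map_pow, QuotientGroup.mk'_apply, QuotientGroup.eq_one_iff, mem_subgroupOf] at h1
    simpa using h1
  · show (L.subgroupOf H).index.Coprime p
    exact hLi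

theorem pSer_of_pLengthLE_bar [Finite X] (p : ℕ) [Fact p.Prime] (N H : Subgroup X) (hNH : N ≤ H)
    (hHN : H ≤ normalizer (N : Set X)) (h : Cfsg.PLengthLE p 1 ↥(bar N H)) : PSer p N H := by
  obtain ⟨K', L', -, hKL, hLH, hKn, hLn, hK, hL, hLi⟩ := pSer_of_pLengthLE p (bar N H) h
  have hbot : lift N ⊥ = N := by
    have := lift_bar_eq N (le_normalizer (H := N)) le_rfl
    have h2 : bar N N = ⊥ := by
      rw [eq_bot_iff]
      rintro z hz
      obtain ⟨x, hxN, hx, rfl⟩ := (mem_bar_iff N N z).mp hz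
      rw [mem_bot]
      have : (⟨x, hxN⟩ : ↥(normalizer (N : Set X))) ∈ (relMk N).ker := by
        rw [ker_relMk]; exact hx
      exact this
    rwa [h2] at this
  have hH : lift N (bar N H) = H := lift_bar_eq N hHN hNH
  refine ⟨lift N K', lift N L', le_lift N K', lift_mono N hKL, ?_, ?_, ?_, ?_, ?_, ?_⟩
  · rw [← hH]; exact lift_mono N hLH
  · exact le_normalizer_lift N hHN hKn
  · exact le_normalizer_lift N hHN hLn
  · have h3 : (lift N ⊥).relIndex (lift N K') = (⊥ : Subgroup (RelQ N)).relIndex K' :=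
      relIndex_lift N ⊥ K'
    rw [hbot] at h3
    rw [h3]; exact hK
  · rw [relIndex_lift]; exact hL
  · have h3 : (lift N L').relIndex (lift N (bar N H)) = L'.relIndex (bar N H) :=
      relIndex_lift N L' (bar N H)
    rw [hH] at h3
    rw [h3]; exact hLi

end Cfsg.Agent.Helper29.BG36
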