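import Mathlib
import Cfsg.Prelude.Def_Local
import Cfsg.Prelude.Def_Amalgam
import Cfsg.Agent.Helper29.BG36A
import Cfsg.Agent.Helper14.PCore
import Cfsg.Agent.Helper10.SolvPSolv
import Cfsg.Agent.Helper23.HallHigman
import Cfsg.Agent.Lead.CoprimeFrattini
import Cfsg.Agent.Helper1.PGroup

/-!
# B&G Theorem 3.6 (S1444), part B: the minimal counterexample, first reductions
-/

set_option autoImplicit false

namespace Cfsg.Agent.Helper29.BG36

open Subgroup Cfsg.Agent.Lead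
open scoped commutatorElement

variable {X : Type*} [Group X]

/-- The minimal counterexample context. -/
structure Ctx (p : ℕ) (H R R₀ : Subgroup X) : Prop where
  hyp : Hyp H R R₀
  IHs : ∀ H₁ : Subgroup X, H₁ ≤ H → R ≤ normalizer (H₁ : Set X) → H₁ ≠ H →
    Cfsg.PLengthLE p 1 ↥(⁅H₁, R⁆ : Subgroup X)
  IHq : ∀ N : Subgroup X, N ≤ H → N ≠ ⊥ → H ≤ normalizer (N : Set X) →
    R ≤ normalizer (N : Set X) → Cfsg.PLengthLE p 1 ↥(⁅bar N H, bar N R⁆ : Subgroup (RelQ N))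
  bad : ¬ Cfsg.PLengthLE p 1 ↥(⁅H, R⁆ : Subgroup X)

variable [Finite X] [Group.IsSolvable X] {p : ℕ} [hp : Fact p.Prime] {H R R₀ : Subgroup X}

theorem Ctx.copRH (c : Ctx p H R R₀) : (Nat.card R).Coprime (Nat.card H) := c.hyp.cop.symm

/-- B1: `H = [H,R]`. -/
theorem Ctx.comm_eq (c : Ctx p H R R₀) : (⁅H, R⁆ : Subgroup X) = H := by
  by_contra hne
  have h1 : (⁅H, R⁆ : Subgroup X) ≤ H := commutator_le_of_le_normalizer c.hyp.RH
  have h2 := c.IHs ⁅H, R⁆ h1 (le_normalizer_commutator_right H R) hne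
  rw [coprime_commutator_commutator R H c.hyp.RH c.copRH (Or.inr inferInstance)] at h2
  exact c.bad h2

theorem Ctx.bad' (c : Ctx p H R R₀) : ¬ PSer p ⊥ H := by
  intro h
  apply c.bad
  rw [c.comm_eq]
  exact pLengthLE_of_pSer p H h

theorem Ctx.pSer (c : Ctx p H R R₀) {N : Subgroup X} (hNH : N ≤ H) (hN : N ≠ ⊥)
    (hHN : H ≤ normalizer (N : Set X)) (hRN : R ≤ normalizer (N : Set X)) : PSer p N H := by
  have h1 := c.IHq N hNH hN hHN hRN
  rw [← bar_commutator N hHN hRN, c.comm_eq] at h1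
  exact pSer_of_pLengthLE_bar p N H hNH hHN h1

theorem Ctx.H_ne_bot (c : Ctx p H R R₀) : H ≠ ⊥ := by
  intro h
  apply c.bad'
  refine ⟨⊥, ⊥, le_rfl, le_rfl, bot_le, ?_, ?_, ?_, ⟨0, ?_⟩, ?_⟩
  · rw [h]; exact bot_le
  · rw [h]; exact bot_le
  · simp
  · simp
  · rw [h]; simp

/-- B2: every normal `p'`-subgroup of `H` is trivial. -/
theorem Ctx.pPrime_eq_bot (c : Ctx p H R R₀) {N : Subgroup X} (hNH : N ≤ H)
    (hHN : H ≤ normalizer (N : Set X)) (hN : (Nat.card N).Coprime p) : N = ⊥ := by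
  -- O_{p'}(H) as a subgroup of X
  set O : Subgroup X := (Cfsg.pPrimeCore p ↥H).map H.subtype with hO
  haveI hchar : (Cfsg.pPrimeCore p ↥H).Characteristic := by
    rw [characteristic_iff_map_eq]
    intro φ
    exact Cfsg.Agent.Helper7.pPrimeCore_map_equiv p φ
  have hOH : O ≤ H := map_subtype_le _
  have hOn : normalizer (H : Set X) ≤ normalizer (O : Set X) :=
    normalizer_le_normalizer_map_of_characteristic H (Cfsg.pPrimeCore p ↥H)
  have hNO : N ≤ O := by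
    have h1 : N.subgroupOf H ≤ Cfsg.pPrimeCore p ↥H := by
      apply Cfsg.Agent.Helper7.le_pPrimeCore
      · exact (normal_subgroupOf_iff_le_normalizer hNH).mpr hHN
      · rw [Nat.card_congr (subgroupOfEquivOfLe hNH).toEquiv]; exact hN
    intro x hx
    exact ⟨⟨x, hNH hx⟩, h1 (mem_subgroupOf.mpr hx), rfl⟩
  have hOcard : (Nat.card O).Coprime p := by
    rw [hO, Nat.card_congr ((Cfsg.pPrimeCore p ↥H).equivMapOfInjective _
      (subtype_injective H)).symm.toEquiv]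
    exact Cfsg.Agent.Helper23.pPrimeCore_card_coprime p ↥H
  by_contra hne
  have hOne : O ≠ ⊥ := fun h => hne (by rw [eq_bot_iff, ← h]; exact hNO)
  obtain ⟨K, L, hOK, hKL, hLH, hKn, hLn, hK, hL, hLi⟩ :=
    c.pSer hOH hOne (le_normalizer.trans hOn) (c.hyp.RH.trans hOn)
  apply c.bad'
  refine ⟨K, L, bot_le, hKL, hLH, hKn, hLn, ?_, hL, hLi⟩
  rw [relIndex_bot_left, ← Cfsg.Agent.Helper7.card_mul_relIndex_of_le hOK]
  exact Nat.Coprime.mul_left hOcard hK

theorem Ctx.pPrimeCore_eq_bot (c : Ctx p H R R₀) : Cfsg.pPrimeCore p ↥H = ⊥ := by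
  have h1 := c.pPrime_eq_bot (N := (Cfsg.pPrimeCore p ↥H).map H.subtype) (map_subtype_le _)
    (le_normalizer_map_subtype H _) (by
      rw [Nat.card_congr ((Cfsg.pPrimeCore p ↥H).equivMapOfInjective _
        (subtype_injective H)).symm.toEquiv]
      exact Cfsg.Agent.Helper23.pPrimeCore_card_coprime p ↥H)
  rw [eq_bot_iff]
  intro x hx
  have : (x : X) ∈ (Cfsg.pPrimeCore p ↥H).map H.subtype := ⟨x, hx, rfl⟩
  rw [h1, mem_bot] at this
  rw [mem_bot]
  exact Subtype.ext this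

/-- B3: `C_H(O_p(H)) ≤ O_p(H)`. -/
theorem Ctx.cent_le (c : Ctx p H R R₀) :
    H ⊓ centralizer ((Cfsg.pCoreOf p H : Subgroup X) : Set X) ≤ Cfsg.pCoreOf p H := by
  have hps : Cfsg.IsPSolvable p ↥H :=
    Cfsg.Agent.Helper10.isPSolvable_of_isSolvable p inferInstance
  have h1 := Cfsg.Agent.Helper23.centralizer_pCore_le_of_isPSolvable hps c.pPrimeCore_eq_bot
  rintro x ⟨hxH, hxC⟩
  have h2 : (⟨x, hxH⟩ : ↥H) ∈ centralizer (Cfsg.pCore p ↥H : Set ↥H) := by
    rw [mem_centralizer_iff]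
    intro y hy
    apply Subtype.ext
    exact (mem_centralizer_iff.mp hxC) (y : X) ⟨y, hy, rfl⟩
  exact ⟨⟨x, hxH⟩, h1 h2, rfl⟩

end Cfsg.Agent.Helper29.BG36
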