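import Cfsg.Agent.Helper29.BG36B

/-!
# B&G Theorem 3.6 (S1444), part C: the generic quotient step, `Φ(O_p(H)) = 1`
-/

set_option autoImplicit false

namespace Cfsg.Agent.Helper29.BG36

open Subgroup Cfsg.Agent.Lead
open scoped commutatorElement

variable {X : Type*} [Group X]

theorem le_normalizer_bot (H : Subgroup X) : H ≤ normalizer (((⊥ : Subgroup X)) : Set X) := by
  intro h _
  rw [mem_normalizer_iff]
  intro x
  simp [mem_bot]

variable [Finite X] [Group.IsSolvable X] {p : ℕ} [hp : Fact p.Prime] {H R R₀ : Subgroup X}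

theorem normalizer_le_normalizer_pCoreOf (p : ℕ) (H : Subgroup X) :
    normalizer (H : Set X) ≤ normalizer ((Cfsg.pCoreOf p H : Subgroup X) : Set X) :=
  normalizer_le_normalizer_map_of_characteristic H (Cfsg.pCore p ↥H)

theorem Ctx.V_normH (c : Ctx p H R R₀) :
    H ≤ normalizer ((Cfsg.pCoreOf p H : Subgroup X) : Set X) :=
  le_normalizer.trans (normalizer_le_normalizer_pCoreOf p H)

theorem Ctx.V_normR (c : Ctx p H R R₀) :
    R ≤ normalizer ((Cfsg.pCoreOf p H : Subgroup X) : Set X) :=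
  c.hyp.RH.trans (normalizer_le_normalizer_pCoreOf p H)

/-- the generic quotient step -/
theorem Ctx.quot_step (c : Ctx p H R R₀) {N : Subgroup X} (hNV : N ≤ Cfsg.pCoreOf p H)
    (hN : N ≠ ⊥) (hHN : H ≤ normalizer (N : Set X)) (hRN : R ≤ normalizer (N : Set X))
    (hyp : ∀ K : Subgroup X, N ≤ K → K ≤ H → H ≤ normalizer (K : Set X) →
      (N.relIndex K).Coprime p → K ≤ N) : False := by
  have hVH := Cfsg.Agent.Helper14.pCoreOf_le p H
  have hVp := Cfsg.Agent.Helper14.pCoreOf_isPGroup p H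
  obtain ⟨K, L, hNK, hKL, hLH, hKn, hLn, hK, ⟨a, hL⟩, hLi⟩ :=
    c.pSer (hNV.trans hVH) hN hHN hRN
  have hKN : K = N := le_antisymm (hyp K hNK (hKL.trans hLH) hKn hK) hNK
  subst hKN
  have hLp : IsPGroup p L := by
    obtain ⟨b, hb⟩ := (hVp.to_le hNV).exists_card_eq
    apply IsPGroup.of_card (n := b + a)
    rw [← Cfsg.Agent.Helper7.card_mul_relIndex_of_le hKL, hb, hL, pow_add]
  have hLV : L ≤ Cfsg.pCoreOf p H := Cfsg.Agent.Helper14.le_pCoreOf p hLH hLn hLp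
  apply c.bad'
  obtain ⟨v, hv⟩ := hVp.exists_card_eq
  refine ⟨⊥, Cfsg.pCoreOf p H, le_rfl, bot_le, hVH, ?_, c.V_normH, ?_, ⟨v, ?_⟩, ?_⟩
  · exact le_normalizer_bot H
  · simp
  · rw [relIndex_bot_left, hv]
  · exact Nat.Coprime.coprime_dvd_left (relIndex_dvd_of_le_left H hLV) hLi

/-- A subgroup `K ≥ N` of `p'`-index over `N`, where every element of prime order `ℓ ≠ p` of `K`
leads to a contradiction, equals `N`. -/
theorem le_of_relIndex_coprime_of_no_prime {N K : Subgroup X} (hNK : N ≤ K)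
    (hK : (N.relIndex K).Coprime p)
    (h : ∀ x ∈ K, ∀ ℓ : ℕ, ℓ.Prime → ℓ ≠ p → orderOf x = ℓ → False) : K ≤ N := by
  rw [← relIndex_eq_one]
  by_contra hne
  obtain ⟨ℓ, hℓ, hℓd⟩ := Nat.exists_prime_and_dvd hne
  have hℓp : ℓ ≠ p := by
    rintro rfl
    exact (Nat.Prime.coprime_iff_not_dvd hℓ).mp hK.symm hℓd
  have hℓK : ℓ ∣ Nat.card K := hℓd.trans (relIndex_dvd_card N K)
  haveI : Fact ℓ.Prime := ⟨hℓ⟩
  obtain ⟨x, hx⟩ := exists_prime_orderOf_dvd_card' ℓ hℓK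
  exact h (x : X) x.2 ℓ hℓ hℓp (by rw [Subgroup.orderOf_coe]; exact hx)

/-- B4: `Φ(O_p(H)) = 1`. -/
theorem Ctx.frattini_eq_bot (c : Ctx p H R R₀) : frattini ↥(Cfsg.pCoreOf p H) = ⊥ := by
  set V := Cfsg.pCoreOf p H with hV
  have hVH : V ≤ H := Cfsg.Agent.Helper14.pCoreOf_le p H
  have hVp : IsPGroup p V := Cfsg.Agent.Helper14.pCoreOf_isPGroup p H
  by_contra hne
  set Φ : Subgroup X := (frattini ↥V).map V.subtype with hΦ
  have hΦV : Φ ≤ V := map_subtype_le _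
  have hΦne : Φ ≠ ⊥ := by
    intro h
    apply hne
    rw [eq_bot_iff]
    intro x hx
    have : (x : X) ∈ Φ := ⟨x, hx, rfl⟩
    rw [h, mem_bot] at this
    rw [mem_bot]; exact Subtype.ext this
  have hΦn : normalizer (V : Set X) ≤ normalizer (Φ : Set X) :=
    normalizer_le_normalizer_map_of_characteristic V (frattini ↥V)
  apply c.quot_step hΦV hΦne (c.V_normH.trans hΦn) (c.V_normR.trans hΦn)
  intro K hΦK hKH hKn hK
  apply le_of_relIndex_coprime_of_no_prime hΦK hK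
  intro x hx ℓ hℓ hℓp hxℓ
  -- K ⊓ V ≤ Φ
  have hKV : K ⊓ V ≤ Φ := by
    rw [← relIndex_eq_one]
    have h1 : Φ.relIndex (K ⊓ V) ∣ Φ.relIndex K :=
      Dvd.intro _ (relIndex_mul_relIndex Φ (K ⊓ V) K (le_inf hΦK hΦV) inf_le_left)
    have h2 : Φ.relIndex (K ⊓ V) ∣ Nat.card ↥(K ⊓ V) := relIndex_dvd_card _ _
    obtain ⟨b, hb⟩ := (hVp.to_le (inf_le_right : K ⊓ V ≤ V)).exists_card_eq
    rw [hb] at h2
    obtain ⟨j, -, hj⟩ := (Nat.dvd_prime_pow hp.out).mp h2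
    have h3 : (p ^ j).Coprime p := by rw [← hj]; exact Nat.Coprime.coprime_dvd_left h1 hK
    rcases Nat.eq_zero_or_pos j with rfl | hjpos
    · rw [hj, pow_zero]
    · exfalso
      have : p ∣ p ^ j := dvd_pow_self p hjpos.ne'
      exact (Nat.Prime.coprime_iff_not_dvd hp.out).mp h3.symm this
  have hA : zpowers x ≤ normalizer (V : Set X) := by
    rw [zpowers_le]; exact c.V_normH (hKH hx)
  have hcop : (Nat.card (zpowers x)).Coprime (Nat.card (frattini ↥V)) := by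
    rw [Nat.card_zpowers, hxℓ]
    obtain ⟨b, hb⟩ := (hVp.to_le hΦV).exists_card_eq
    have : Nat.card (frattini ↥V) = Nat.card Φ :=
      Nat.card_congr ((frattini ↥V).equivMapOfInjective _ (subtype_injective V)).toEquiv
    rw [this, hb]
    exact Nat.Coprime.pow_right b ((Nat.coprime_primes hℓ hp.out).mpr hℓp)
  have hcent := centralizes_of_trivial_on_frattini_quotient (zpowers x) V hA hcop (by
    intro a ha v hv
    apply hKV
    have haK : a ∈ K := (zpowers_le.mpr hx) ha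
    refine ⟨?_, ?_⟩
    · have h1 : v * a⁻¹ * v⁻¹ ∈ K :=
        (mem_normalizer_iff.mp (hKn (hVH hv)) a⁻¹).mp (K.inv_mem haK)
      have e : a * v * a⁻¹ * v⁻¹ = a * (v * a⁻¹ * v⁻¹) := by group
      rw [e]; exact K.mul_mem haK h1
    · have h1 : a * v * a⁻¹ ∈ V := (mem_normalizer_iff.mp (hA ha) v).mp hv
      exact V.mul_mem h1 (V.inv_mem hv))
  have hxV : x ∈ V := c.cent_le ⟨hKH hx, hcent (mem_zpowers x)⟩
  obtain ⟨k, hk⟩ := (IsPGroup.iff_orderOf.mp hVp) ⟨x, hxV⟩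
  rw [Subgroup.orderOf_mk, hxℓ] at hk
  have h5 : ℓ ∣ p ^ k := by rw [← hk]
  exact hℓp ((Nat.prime_dvd_prime_iff_eq hℓ hp.out).mp (hℓ.dvd_of_dvd_pow h5))


/-- `V = O_p(H)` is abelian. -/
theorem Ctx.V_comm (c : Ctx p H R R₀) :
    ∀ a ∈ Cfsg.pCoreOf p H, ∀ b ∈ Cfsg.pCoreOf p H, a * b = b * a := by
  intro a ha b hb
  have hVp : IsPGroup p ↥(Cfsg.pCoreOf p H) := Cfsg.Agent.Helper14.pCoreOf_isPGroup p H
  have h1 := Cfsg.Agent.Helper1.IsPGroup.commutator_le_frattini hVp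
  rw [c.frattini_eq_bot, le_bot_iff, commutator_eq_bot_iff_center_eq_top] at h1
  have h2 : (⟨a, ha⟩ : ↥(Cfsg.pCoreOf p H)) ∈ center ↥(Cfsg.pCoreOf p H) := by rw [h1]; trivial
  have h3 := (mem_center_iff.mp h2) ⟨b, hb⟩
  exact (congrArg Subtype.val h3).symm

/-- `V = O_p(H)` has exponent `p`. -/
theorem Ctx.V_exp (c : Ctx p H R R₀) : ∀ a ∈ Cfsg.pCoreOf p H, a ^ p = 1 := by
  intro a ha
  have hVp : IsPGroup p ↥(Cfsg.pCoreOf p H) := Cfsg.Agent.Helper14.pCoreOf_isPGroup p H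
  have h1 := Cfsg.Agent.Helper1.IsPGroup.pow_mem_frattini hVp ⟨a, ha⟩
  rw [c.frattini_eq_bot, mem_bot] at h1
  exact congrArg Subtype.val h1

end Cfsg.Agent.Helper29.BG36
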