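import Cfsg.Agent.Helper29.BG36C
import Cfsg.Agent.Helper17.Basic
import Cfsg.Agent.Helper3.KBalA

/-!
# B&G Theorem 3.6 (S1444), part D: the key lemma from minimality
-/

set_option autoImplicit false

namespace Cfsg.Agent.Helper29.BG36

open Subgroup Cfsg.Agent.Lead
open scoped commutatorElement

variable {X : Type*} [Group X]

/-- `[A,B] ≤ A ⊓ B` when `A`, `B` normalize each other. -/
theorem commutator_le_inf_of_le_normalizer {A B : Subgroup X} (hA : A ≤ normalizer (B : Set X))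
    (hB : B ≤ normalizer (A : Set X)) : (⁅A, B⁆ : Subgroup X) ≤ A ⊓ B := by
  refine le_inf (commutator_le_of_le_normalizer hB) ?_
  rw [commutator_comm]
  exact commutator_le_of_le_normalizer hA

/-- a `p`-subgroup of `Y` lies in a subgroup `V` normal in `Y` of index prime to `p` -/
theorem le_of_isPGroup_of_relIndex_coprime [Finite X] {p : ℕ} [Fact p.Prime] {V Y T : Subgroup X}
    (hVY : V ≤ Y) (hYV : Y ≤ normalizer (V : Set X)) (hcop : (V.relIndex Y).Coprime p)
    (hTY : T ≤ Y) (hT : IsPGroup p T) : T ≤ V := by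
  haveI : (V.subgroupOf Y).Normal := (normal_subgroupOf_iff_le_normalizer hVY).mpr hYV
  have h1 : T.subgroupOf Y ≤ V.subgroupOf Y := by
    apply Cfsg.Agent.Helper23.le_of_isPGroup_of_index_coprime (V.subgroupOf Y) hcop
    exact hT.comap_of_injective Y.subtype (subtype_injective Y)
  intro x hx
  have := h1 (show (⟨x, hTY hx⟩ : ↥Y) ∈ T.subgroupOf Y from mem_subgroupOf.mpr hx)
  exact mem_subgroupOf.mp this

theorem PL1 [Finite X] {p : ℕ} [hp : Fact p.Prime] (A K V Y D : Subgroup X)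
    (hKA : K ≤ A) (hAK : A ≤ normalizer (K : Set X))
    (hVA : V ≤ A) (hAV : A ≤ normalizer (V : Set X)) (hVp : IsPGroup p V)
    (hcent : A ⊓ centralizer (V : Set X) ≤ V)
    (hVY : V ≤ Y) (hYA : Y ≤ A) (hAY : A ≤ normalizer (Y : Set X))
    (hYV : (V.relIndex Y).Coprime p) (hDK : D ≤ K) (hDp : IsPGroup p D)
    (hpl : Cfsg.PLengthLE p 1 ↥K) : (⁅D, Y⁆ : Subgroup X) ≤ V := by
  have hser := Cfsg.Agent.Helper1.PLen.isPSeries_upper (G := ↥K) (p := p)
  set N : ℕ → Subgroup ↥K := fun i => (Cfsg.upperPSeries p ↥K i).1 with hN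
  have hN0 : N 0 = ⊥ := hser.zero
  have hN3 : N 3 = ⊤ := hpl
  set U₁ : Subgroup X := (N 1).map K.subtype with hU₁
  set U₂ : Subgroup X := (N 2).map K.subtype with hU₂
  have hchar : ∀ i, (N i).Characteristic := fun i =>
    Cfsg.Agent.Helper1.PLen.upperPSeries_characteristic (G := ↥K) (p := p) i
  have hAU₁ : A ≤ normalizer (U₁ : Set X) := by
    haveI := hchar 1
    exact hAK.trans (normalizer_le_normalizer_map_of_characteristic K (N 1))
  have hAU₂ : A ≤ normalizer (U₂ : Set X) := by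
    haveI := hchar 2
    exact hAK.trans (normalizer_le_normalizer_map_of_characteristic K (N 2))
  have hU₁K : U₁ ≤ K := map_subtype_le _
  have hU₂K : U₂ ≤ K := map_subtype_le _
  -- |U₁| coprime to p
  have hU₁c : (Nat.card U₁).Coprime p := by
    have h1 := hser.even 0 (by decide)
    simp only [zero_add] at h1
    rw [hN0, relIndex_bot_left] at h1
    rw [hU₁, Nat.card_congr ((N 1).equivMapOfInjective _ (subtype_injective K)).symm.toEquiv]
    exact h1
  -- U₁ = ⊥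
  have hVU₁ : V ⊓ U₁ = ⊥ := by
    obtain ⟨v, hv⟩ := hVp.exists_card_eq
    apply (disjoint_of_coprime_natCard _).eq_bot
    rw [hv]
    exact Nat.Coprime.pow_left v hU₁c.symm
  have hU₁bot : U₁ = ⊥ := by
    have h1 : (⁅V, U₁⁆ : Subgroup X) ≤ V ⊓ U₁ :=
      commutator_le_inf_of_le_normalizer (hVA.trans hAU₁) ((hU₁K.trans hKA).trans hAV)
    rw [hVU₁, le_bot_iff, commutator_comm, commutator_eq_bot_iff_le_centralizer] at h1
    have h2 : U₁ ≤ V := fun x hx => hcent ⟨hKA (hU₁K hx), h1 hx⟩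
    rw [eq_bot_iff, ← hVU₁]
    exact le_inf h2 le_rfl
  have hN1 : N 1 = ⊥ := by
    rw [eq_bot_iff]
    intro x hx
    have : (x : X) ∈ U₁ := ⟨x, hx, rfl⟩
    rw [hU₁bot, mem_bot] at this
    rw [mem_bot]; exact Subtype.ext this
  -- U₂ is a p-group
  have hU₂p : IsPGroup p U₂ := by
    obtain ⟨e, he⟩ := hser.odd 1 (by decide)
    simp only [Nat.reduceAdd] at he
    rw [hN1, relIndex_bot_left] at he
    apply IsPGroup.of_card (n := e)
    rw [hU₂, Nat.card_congr ((N 2).equivMapOfInjective _ (subtype_injective K)).symm.toEquiv]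
    exact he
  -- D ≤ U₂
  have hDU₂ : D ≤ U₂ := by
    have h1 := hser.even 2 (by decide)
    simp only [Nat.reduceAdd] at h1
    rw [hN3, relIndex_top_right] at h1
    have h2 : D.subgroupOf K ≤ N 2 :=
      Cfsg.Agent.Helper23.le_of_isPGroup_of_index_coprime (N 2) h1 _
        (hDp.comap_of_injective K.subtype (subtype_injective K))
    intro x hx
    exact ⟨⟨x, hDK hx⟩, h2 (mem_subgroupOf.mpr hx), rfl⟩
  -- conclusion
  have h3 : (⁅D, Y⁆ : Subgroup X) ≤ U₂ ⊓ Y :=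
    (commutator_mono hDU₂ le_rfl).trans
      (commutator_le_inf_of_le_normalizer ((hU₂K.trans hKA).trans hAY) (hYA.trans hAU₂))
  exact h3.trans (le_of_isPGroup_of_relIndex_coprime hVY (hYA.trans hAV) hYV inf_le_right
    (hU₂p.to_le inf_le_left))

/-- order of `V ⊔ Q` for a `p`-group `V` normalized by a `p'`-group `Q`. -/
theorem relIndex_sup_of_coprime [Finite X] {V Q : Subgroup X} (hQV : Q ≤ normalizer (V : Set X))
    (hcop : (Nat.card V).Coprime (Nat.card Q)) : V.relIndex (V ⊔ Q) = Nat.card Q := by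
  have h1 := Cfsg.Agent.Helper17.card_sup_mul_card_inf V Q hQV
  rw [(disjoint_of_coprime_natCard hcop).eq_bot, card_bot, mul_one] at h1
  have h2 := Cfsg.Agent.Helper7.card_mul_relIndex_of_le (le_sup_left : V ≤ V ⊔ Q)
  rw [h1] at h2
  exact Nat.eq_of_mul_eq_mul_left Nat.card_pos h2

variable [Finite X] [Group.IsSolvable X] {p : ℕ} [hp : Fact p.Prime] {H R R₀ : Subgroup X}

/-- The key lemma from minimality. -/
theorem Ctx.KL (c : Ctx p H R R₀) {Q₂ P₂ : Subgroup X} (hQ₂H : Q₂ ≤ H) (hP₂H : P₂ ≤ H)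
    (hRQ : R ≤ normalizer (Q₂ : Set X)) (hRP : R ≤ normalizer (P₂ : Set X))
    (hPQ : P₂ ≤ normalizer (Q₂ : Set X)) (hQ₂ : (Nat.card Q₂).Coprime p) (hP₂ : IsPGroup p P₂)
    (hne : Cfsg.pCoreOf p H ⊔ Q₂ ⊔ P₂ ≠ H) : (⁅⁅P₂, R⁆, Q₂⁆ : Subgroup X) = ⊥ := by
  set V := Cfsg.pCoreOf p H with hV
  have hVH : V ≤ H := Cfsg.Agent.Helper14.pCoreOf_le p H
  have hVp : IsPGroup p V := Cfsg.Agent.Helper14.pCoreOf_isPGroup p H
  set A := V ⊔ Q₂ ⊔ P₂ with hA
  have hAH : A ≤ H := sup_le (sup_le hVH hQ₂H) hP₂H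
  have hRA : R ≤ normalizer (A : Set X) :=
    Cfsg.Agent.Helper3.KBal.le_normalizer_sup
      (Cfsg.Agent.Helper3.KBal.le_normalizer_sup c.V_normR hRQ) hRP
  have hpl := c.IHs A hAH hRA hne
  have hVQ : (Nat.card V).Coprime (Nat.card Q₂) := by
    obtain ⟨v, hv⟩ := hVp.exists_card_eq
    rw [hv]; exact Nat.Coprime.pow_left v hQ₂.symm
  have hDP : (⁅P₂, R⁆ : Subgroup X) ≤ P₂ := commutator_le_of_le_normalizer hRP
  have h1 := PL1 A ⁅A, R⁆ V (V ⊔ Q₂) ⁅P₂, R⁆ (commutator_le_of_le_normalizer hRA)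
    (le_normalizer_commutator_left A R) (le_sup_left.trans le_sup_left) (hAH.trans c.V_normH) hVp
    ((inf_le_inf_right _ hAH).trans c.cent_le) le_sup_left le_sup_left
    (sup_le (sup_le (le_sup_left.trans le_normalizer) (le_sup_right.trans le_normalizer))
      (Cfsg.Agent.Helper3.KBal.le_normalizer_sup (hP₂H.trans c.V_normH) hPQ))
    (by rw [relIndex_sup_of_coprime (hQ₂H.trans c.V_normH) hVQ]; exact hQ₂)
    (commutator_mono le_sup_right le_rfl) (hP₂.to_le hDP) hpl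
  have h2 : (⁅⁅P₂, R⁆, Q₂⁆ : Subgroup X) ≤ V := (commutator_mono le_rfl le_sup_right).trans h1
  have h3 : (⁅⁅P₂, R⁆, Q₂⁆ : Subgroup X) ≤ Q₂ := by
    rw [commutator_comm]
    exact commutator_le_of_le_normalizer (hDP.trans hPQ)
  rw [eq_bot_iff, ← (disjoint_of_coprime_natCard hVQ).eq_bot]
  exact le_inf h2 h3

end Cfsg.Agent.Helper29.BG36
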