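import Cfsg.Agent.Helper29.BG36D
import Cfsg.Agent.Helper7.HallHigmanDual

/-!
# B&G Theorem 3.6 (S1444), part E: `O_{p,p'}(H)` and its detection property
-/

set_option autoImplicit false

namespace Cfsg.Agent.Helper29.BG36

open Subgroup Cfsg.Agent.Lead
open scoped commutatorElement

variable {X : Type*} [Group X]

theorem bar_self (N : Subgroup X) : bar N N = ⊥ := by
  rw [eq_bot_iff]
  rintro z hz
  obtain ⟨x, hxN, hx, rfl⟩ := (mem_bar_iff N N z).mp hz
  rw [mem_bot]
  have : (⟨x, hxN⟩ : ↥(normalizer (N : Set X))) ∈ (relMk N).ker := by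
    rw [ker_relMk]; exact hx
  exact this

theorem lift_bot (N : Subgroup X) : lift N ⊥ = N := by
  have := lift_bar_eq N (le_normalizer (H := N)) le_rfl
  rwa [bar_self] at this

theorem le_of_bar_eq_bot (N : Subgroup X) {D : Subgroup X} (hD : D ≤ normalizer (N : Set X))
    (h : bar N D = ⊥) : D ≤ N := by
  have := le_lift_bar N hD
  rwa [h, lift_bot] at this

/-- `O_{p,p'}(H)` with its detection property (dual Hall–Higman). -/
theorem exists_pPrime_layer [Finite X] [Group.IsSolvable X] (p : ℕ) [hp : Fact p.Prime]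
    (H : Subgroup X) :
    ∃ L : Subgroup X, Cfsg.pCoreOf p H ≤ L ∧ L ≤ H ∧
      normalizer (H : Set X) ≤ normalizer (L : Set X) ∧
      ((Cfsg.pCoreOf p H).relIndex L).Coprime p ∧
      ∀ D : Subgroup X, D ≤ H → IsPGroup p D → (⁅D, L⁆ : Subgroup X) ≤ Cfsg.pCoreOf p H →
        D ≤ Cfsg.pCoreOf p H := by
  set V := Cfsg.pCoreOf p H with hV
  have hVH : V ≤ H := Cfsg.Agent.Helper14.pCoreOf_le p H
  have hVp : IsPGroup p V := Cfsg.Agent.Helper14.pCoreOf_isPGroup p H
  have hHV : H ≤ normalizer (V : Set X) := Cfsg.Agent.Helper14.le_normalizer_pCoreOf p H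
  set B : Subgroup (RelQ V) := bar V H with hB
  haveI hOchar : (Cfsg.pPrimeCore p ↥B).Characteristic := by
    rw [characteristic_iff_map_eq]
    intro φ
    exact Cfsg.Agent.Helper7.pPrimeCore_map_equiv p φ
  set O' : Subgroup (RelQ V) := (Cfsg.pPrimeCore p ↥B).map B.subtype with hO'
  have hO'B : O' ≤ B := map_subtype_le _
  have hO'card : (Nat.card O').Coprime p := by
    rw [hO', Nat.card_congr ((Cfsg.pPrimeCore p ↥B).equivMapOfInjective _
      (subtype_injective B)).symm.toEquiv]
    exact Cfsg.Agent.Helper23.pPrimeCore_card_coprime p ↥B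
  have hliftB : lift V B = H := lift_bar_eq V hHV hVH
  -- O_p(B) = 1
  have hpcore : Cfsg.pCore p ↥B = ⊥ := by
    set M' : Subgroup (RelQ V) := (Cfsg.pCore p ↥B).map B.subtype with hM'
    have hM'B : M' ≤ B := map_subtype_le _
    have h1 : lift V M' ≤ V := by
      apply Cfsg.Agent.Helper14.le_pCoreOf p
      · rw [← hliftB]; exact lift_mono V hM'B
      · exact le_normalizer_lift V hHV (le_normalizer_map_subtype B _)
      · obtain ⟨a, ha⟩ := (Cfsg.Agent.Helper14.pCore_isPGroup (G := ↥B) p).exists_card_eq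
        obtain ⟨b, hb⟩ := hVp.exists_card_eq
        apply IsPGroup.of_card (n := a + b)
        rw [card_lift, hb, hM', Nat.card_congr ((Cfsg.pCore p ↥B).equivMapOfInjective _
          (subtype_injective B)).symm.toEquiv, ha, pow_add]
    have h2 : M' = ⊥ := by
      rw [← bar_lift_eq V M', eq_bot_iff, ← bar_self V]
      exact bar_mono V h1
    rw [eq_bot_iff]
    intro x hx
    have : (x : RelQ V) ∈ M' := ⟨x, hx, rfl⟩
    rw [h2, mem_bot] at this
    rw [mem_bot]; exact Subtype.ext this
  have hps : Cfsg.IsPSolvable p ↥B :=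
    Cfsg.Agent.Helper10.isPSolvable_of_isSolvable p inferInstance
  have hdual := Cfsg.Agent.Helper7.centralizer_pPrimeCore_le_of_isPSolvable hps hpcore
  refine ⟨lift V O', le_lift V O', ?_, ?_, ?_, ?_⟩
  · rw [← hliftB]; exact lift_mono V hO'B
  · have h1 : normalizer (H : Set X) ≤ normalizer (V : Set X) :=
      normalizer_le_normalizer_map_of_characteristic H (Cfsg.pCore p ↥H)
    apply le_normalizer_lift V h1
    exact (bar_le_normalizer_bar V (le_refl (normalizer (H : Set X)))).trans
      (normalizer_le_normalizer_map_of_characteristic B (Cfsg.pPrimeCore p ↥B))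
  · have h3 : (lift V ⊥).relIndex (lift V O') = (⊥ : Subgroup (RelQ V)).relIndex O' :=
      relIndex_lift V ⊥ O'
    rw [lift_bot] at h3
    rw [h3, relIndex_bot_left]; exact hO'card
  · intro D hDH hDp hDL
    apply le_of_bar_eq_bot V (hDH.trans hHV)
    have hDB : bar V D ≤ B := bar_mono V hDH
    -- D' ≤ C(O)
    have hcent : (bar V D).subgroupOf B ≤ centralizer (Cfsg.pPrimeCore p ↥B : Set ↥B) := by
      intro z hz
      rw [mem_subgroupOf] at hz
      obtain ⟨d, hdN, hd, hdz⟩ := (mem_bar_iff V D _).mp hz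
      rw [mem_centralizer_iff]
      intro o ho
      have ho' : (o : RelQ V) ∈ bar V (lift V O') := by
        rw [bar_lift_eq]; exact ⟨o, ho, rfl⟩
      obtain ⟨l, hlN, hl, hlo⟩ := (mem_bar_iff V _ _).mp ho'
      apply Subtype.ext
      rw [coe_mul, coe_mul, ← hdz, ← hlo]
      apply ((relMk_commute_iff V ⟨l, hlN⟩ ⟨d, hdN⟩).mpr _)
      have h5 : ⁅l, d⁆ ∈ V := by
        have : ⁅d, l⁆ ∈ V := hDL (commutator_mem_commutator hd hl)
        have h6 := V.inv_mem this
        rwa [commutatorElement_inv] at h6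
      rw [commutatorElement_def] at h5
      exact h5
    have hD'O := hcent.trans hdual
    have hD'p : IsPGroup p ((bar V D).subgroupOf B) := by
      have h7 : IsPGroup p (bar V D) := by
        unfold bar
        exact (hDp.comap_of_injective _ (subtype_injective _)).map _
      exact h7.comap_of_injective _ (subtype_injective _)
    have hD'bot : (bar V D).subgroupOf B = ⊥ := by
      rw [← card_eq_one]
      obtain ⟨a, ha⟩ := hD'p.exists_card_eq
      have h8 : Nat.card ((bar V D).subgroupOf B) ∣ Nat.card (Cfsg.pPrimeCore p ↥B) :=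
        card_dvd_of_le hD'O
      have h9 : (p ^ a).Coprime p := by
        rw [← ha]
        exact Nat.Coprime.coprime_dvd_left h8 (Cfsg.Agent.Helper23.pPrimeCore_card_coprime p ↥B)
      rw [ha]
      rcases Nat.eq_zero_or_pos a with rfl | hapos
      · rfl
      · exfalso
        exact (Nat.Prime.coprime_iff_not_dvd hp.out).mp h9.symm (dvd_pow_self p hapos.ne')
    rw [subgroupOf_eq_bot] at hD'bot
    rw [eq_bot_iff, ← hD'bot.eq_bot]
    exact le_inf le_rfl hDB

end Cfsg.Agent.Helper29.BG36
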