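import Cfsg.Agent.Helper29.BG36E
import Cfsg.Agent.Lead.PiHall2
import Cfsg.Agent.Lead.ProdCard
import Cfsg.Agent.Helper9.PLenExpA

/-!
# B&G Theorem 3.6 (S1444), part F: existence of the factorization `H = V Q P`
-/

set_option autoImplicit false

namespace Cfsg.Agent.Helper29.BG36

open Subgroup Cfsg.Agent.Lead
open scoped commutatorElement Pointwise

variable {X : Type*} [Group X]

theorem isPiNum_compl_singleton_iff {p n : ℕ} (hp : p.Prime) (hn : n ≠ 0) :
    IsPiNum ({p} : Set ℕ)ᶜ n ↔ n.Coprime p := by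
  constructor
  · intro h
    rw [Nat.coprime_comm, Nat.Prime.coprime_iff_not_dvd hp]
    intro hd
    exact h p hp hd rfl
  · intro h q hq hd hqp
    rw [Set.mem_singleton_iff] at hqp
    subst hqp
    exact (Nat.Prime.coprime_iff_not_dvd hq).mp h.symm hd

theorem isPiNum_singleton_iff {p n : ℕ} (hp : p.Prime) (hn : n ≠ 0) :
    IsPiNum ({p} : Set ℕ) n ↔ ∃ a : ℕ, n = p ^ a := by
  constructor
  · intro h
    exact ⟨_, Nat.eq_prime_pow_of_unique_prime_dvd hn (fun {d} hd hdn => h d hd hdn)⟩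
  · rintro ⟨a, rfl⟩
    exact isPiNum_pow_of_mem hp (Set.mem_singleton p) a

/-- Hall `p'`-subgroup: order prime to `p`, index a power of `p`. -/
theorem hall_compl_facts [Finite X] {p : ℕ} (hp : p.Prime) {K G : Subgroup X}
    (h : Cfsg.IsPiHallOf ({p} : Set ℕ)ᶜ K G) :
    K ≤ G ∧ (Nat.card K).Coprime p ∧ ∃ a : ℕ, K.relIndex G = p ^ a := by
  rw [isPiHallOf_iff] at h
  obtain ⟨h1, h2, h3⟩ := h
  refine ⟨h1, (isPiNum_compl_singleton_iff hp Nat.card_pos.ne').mp h2, ?_⟩
  rw [compl_compl] at h3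
  have hne : K.relIndex G ≠ 0 := by
    intro h0
    have := relIndex_mul_card' h1
    rw [h0, zero_mul] at this
    exact Nat.card_pos.ne' this.symm
  exact (isPiNum_singleton_iff hp hne).mp h3

/-- Hall `p`-subgroup: a `p`-group of index prime to `p`. -/
theorem hall_singleton_facts [Finite X] {p : ℕ} [hp : Fact p.Prime] {P G : Subgroup X}
    (h : Cfsg.IsPiHallOf ({p} : Set ℕ) P G) :
    P ≤ G ∧ IsPGroup p P ∧ (P.relIndex G).Coprime p := by
  rw [isPiHallOf_iff] at h
  obtain ⟨h1, h2, h3⟩ := h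
  obtain ⟨a, ha⟩ := (isPiNum_singleton_iff hp.out Nat.card_pos.ne').mp h2
  have hne : P.relIndex G ≠ 0 := by
    intro h0
    have := relIndex_mul_card' h1
    rw [h0, zero_mul] at this
    exact Nat.card_pos.ne' this.symm
  exact ⟨h1, IsPGroup.of_card ha, (isPiNum_compl_singleton_iff hp.out hne).mp h3⟩

/-- a Hall `p'`-subgroup and a Hall `p`-subgroup factorize the group -/
theorem exists_mul_of_hall [Finite X] {p : ℕ} [hp : Fact p.Prime] {K P G : Subgroup X}
    (hK : Cfsg.IsPiHallOf ({p} : Set ℕ)ᶜ K G) (hP : Cfsg.IsPiHallOf ({p} : Set ℕ) P G) :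
    ∀ g ∈ G, ∃ k ∈ K, ∃ x ∈ P, g = k * x := by
  obtain ⟨hKG, hKc, a, hKa⟩ := hall_compl_facts hp.out hK
  obtain ⟨hPG, hPp, hPc⟩ := hall_singleton_facts hP
  obtain ⟨b, hb⟩ := hPp.exists_card_eq
  have h1 : K.relIndex G * Nat.card K = Nat.card G := relIndex_mul_card' hKG
  have h2 : P.relIndex G * Nat.card P = Nat.card G := relIndex_mul_card' hPG
  have hcop : (Nat.card K).Coprime (Nat.card P) := by
    rw [hb]; exact Nat.Coprime.pow_right b hKc
  have h3 : Nat.card K = P.relIndex G := by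
    have e : Nat.card K * p ^ a = P.relIndex G * p ^ b := by
      rw [← hKa, ← hb, mul_comm, h1, h2]
    have hπ : ∀ n : ℕ, IsPiNum ({p} : Set ℕ)ᶜᶜ (p ^ n) := by
      intro n; rw [compl_compl]; exact isPiNum_pow_of_mem hp.out (Set.mem_singleton p) n
    have hne : P.relIndex G ≠ 0 := by
      intro h0
      rw [h0, zero_mul] at h2
      exact Nat.card_pos.ne' h2.symm
    exact pi_split_unique e ((isPiNum_compl_singleton_iff hp.out Nat.card_pos.ne').mpr hKc)
      (hπ a) ((isPiNum_compl_singleton_iff hp.out hne).mpr hPc) (hπ b)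
  apply exists_mul_of_card_mul_card_eq hKG hPG
  rw [(disjoint_of_coprime_natCard hcop).eq_bot, card_bot, mul_one, h3, h2]

/-- Frattini argument for an invariant Hall subgroup of a normal subgroup. -/
theorem frattini_hall [Finite X] [Group.IsSolvable X] {π : Set ℕ} {K L H : Subgroup X} (hL : L ≤ H)
    (hHL : H ≤ normalizer (L : Set X)) (hK : Cfsg.IsPiHallOf π K L) :
    ∀ h ∈ H, ∃ l ∈ L, ∃ n ∈ H ⊓ normalizer (K : Set X), h = l * n := by
  intro h hh
  have hK' : Cfsg.IsPiHallOf π (MulAut.conj h • K) L := isPiHallOf_conj (hHL hh) hK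
  obtain ⟨l, hl, hlK⟩ := isPiHallOf_trans (inferInstance : Group.IsSolvable L) hK' hK
  refine ⟨l⁻¹, L.inv_mem hl, l * h, ⟨H.mul_mem (hL hl) hh, ?_⟩, by group⟩
  show l * h ∈ normalizer (K : Set X)
  rw [← conj_smul_eq_self_iff_mem_normalizer, map_mul, mul_smul]
  exact hlK

variable [Finite X] [Group.IsSolvable X] {p : ℕ} [hp : Fact p.Prime] {H R R₀ : Subgroup X}

/-- `|H : V|` is divisible by `p`. -/
theorem Ctx.not_coprime_relIndex (c : Ctx p H R R₀) :
    ¬ ((Cfsg.pCoreOf p H).relIndex H).Coprime p := by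
  intro h
  apply c.bad'
  obtain ⟨v, hv⟩ := (Cfsg.Agent.Helper14.pCoreOf_isPGroup p H).exists_card_eq
  refine ⟨⊥, Cfsg.pCoreOf p H, le_rfl, bot_le, Cfsg.Agent.Helper14.pCoreOf_le p H,
    le_normalizer_bot H, c.V_normH, ?_, ⟨v, ?_⟩, h⟩
  · simp
  · rw [relIndex_bot_left, hv]

/-- If `H = J·P` elementwise with `J ⊇ V` an `R`-invariant subgroup, `P` an `R`-invariant subgroup
with `[P,R] ≤ V`, then `H = J`. -/
theorem Ctx.eq_of_factor (c : Ctx p H R R₀) {J P : Subgroup X} (hVJ : Cfsg.pCoreOf p H ≤ J)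
    (hJH : J ≤ H) (hRJ : R ≤ normalizer (J : Set X)) (hPR : (⁅P, R⁆ : Subgroup X) ≤ Cfsg.pCoreOf p H)
    (hfac : ∀ h ∈ H, ∃ a ∈ J, ∃ b ∈ P, h = a * b) : H = J := by
  apply le_antisymm _ hJH
  conv_lhs => rw [← c.comm_eq]
  rw [commutator_le]
  intro h hh g hg
  obtain ⟨a, ha, b, hb, rfl⟩ := hfac h hh
  have e : ⁅a * b, g⁆ = a * ⁅b, g⁆ * a⁻¹ * ⁅a, g⁆ := by
    simp only [commutatorElement_def]; group
  rw [e]
  apply J.mul_mem
  · apply hVJ
    exact (mem_normalizer_iff.mp (c.V_normH (hJH ha)) _).mp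
      (hPR (commutator_mem_commutator hb hg))
  · exact (commutator_le_of_le_normalizer hRJ) (commutator_mem_commutator ha hg)

/-- `V ⊔ K` for a `p'`-group `K ≤ H` is not all of `H`. -/
theorem Ctx.sup_pPrime_ne (c : Ctx p H R R₀) {K : Subgroup X} (hKH : K ≤ H)
    (hK : (Nat.card K).Coprime p) : H ≠ Cfsg.pCoreOf p H ⊔ K := by
  intro h
  apply c.not_coprime_relIndex
  have hVK : (Nat.card (Cfsg.pCoreOf p H)).Coprime (Nat.card K) := by
    obtain ⟨v, hv⟩ := (Cfsg.Agent.Helper14.pCoreOf_isPGroup p H).exists_card_eq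
    rw [hv]; exact Nat.Coprime.pow_left v hK.symm
  have := relIndex_sup_of_coprime (hKH.trans c.V_normH) hVK
  rw [← h] at this
  rw [this]; exact hK

/-- Existence of the factorization `H = V Q P`. -/
theorem Ctx.exists_QP (c : Ctx p H R R₀) :
    ∃ (q : ℕ) (Q P : Subgroup X), q.Prime ∧ Q ≤ H ∧ P ≤ H ∧ IsPGroup q Q ∧
      (Nat.card Q).Coprime p ∧ IsPGroup p P ∧ R ≤ normalizer (Q : Set X) ∧
      R ≤ normalizer (P : Set X) ∧ P ≤ normalizer (Q : Set X) ∧
      Cfsg.pCoreOf p H ⊔ Q ⊔ P = H := by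
  set V := Cfsg.pCoreOf p H with hV
  have hVH : V ≤ H := Cfsg.Agent.Helper14.pCoreOf_le p H
  have hVp : IsPGroup p V := Cfsg.Agent.Helper14.pCoreOf_isPGroup p H
  obtain ⟨L, hVL, hLH, hLn, hLV, hdet⟩ := exists_pPrime_layer p H
  have hRL : R ≤ normalizer (L : Set X) := c.hyp.RH.trans hLn
  have hHL : H ≤ normalizer (L : Set X) := le_normalizer.trans hLn
  have hcopL : (Nat.card R).Coprime (Nat.card L) :=
    Nat.Coprime.coprime_dvd_right (card_dvd_of_le hLH) c.copRH
  -- K : R-invariant Hall p'-subgroup of L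
  obtain ⟨K, hKhall, hRK⟩ := coprime_exists_invariant_hall R L hRL hcopL inferInstance
    ({p} : Set ℕ)ᶜ
  obtain ⟨hKL, hKc, a, hKa⟩ := hall_compl_facts hp.out hKhall
  have hKH : K ≤ H := hKL.trans hLH
  have hVK : (Nat.card V).Coprime (Nat.card K) := by
    obtain ⟨v, hv⟩ := hVp.exists_card_eq
    rw [hv]; exact Nat.Coprime.pow_left v hKc.symm
  -- L = V ⊔ K
  have hLVK : L = V ⊔ K := by
    symm
    apply eq_of_le_of_card_ge (sup_le hVL hKL)
    have h1 := Cfsg.Agent.Helper17.card_sup_mul_card_inf V K (hKH.trans c.V_normH)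
    rw [(disjoint_of_coprime_natCard hVK).eq_bot, card_bot, mul_one] at h1
    rw [h1]
    obtain ⟨v, hv⟩ := hVp.exists_card_eq
    have h2 : K.relIndex L * Nat.card K = Nat.card L := relIndex_mul_card' hKL
    have h3 := Cfsg.Agent.Helper7.card_mul_relIndex_of_le hVL
    -- |K| = V.relIndex L
    have h4 : Nat.card K = V.relIndex L := by
      have e : Nat.card K * p ^ a = V.relIndex L * p ^ v := by
        rw [← hKa, ← hv, mul_comm, h2, mul_comm, h3]
      have hπ : ∀ n : ℕ, IsPiNum ({p} : Set ℕ)ᶜᶜ (p ^ n) := by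
        intro n; rw [compl_compl]; exact isPiNum_pow_of_mem hp.out (Set.mem_singleton p) n
      have hne : V.relIndex L ≠ 0 := by
        intro h0
        rw [h0, mul_zero] at h3
        exact Nat.card_pos.ne' h3.symm
      exact pi_split_unique e ((isPiNum_compl_singleton_iff hp.out Nat.card_pos.ne').mpr hKc)
        (hπ a) ((isPiNum_compl_singleton_iff hp.out hne).mpr hLV) (hπ v)
    rw [h4, h3]
  -- N = N_H(K)
  set N : Subgroup X := H ⊓ normalizer (K : Set X) with hN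
  have hNH : N ≤ H := inf_le_left
  have hKN : K ≤ N := le_inf hKH le_normalizer
  have hRN : R ≤ normalizer (N : Set X) :=
    Cfsg.Agent.Helper3.KBal.le_normalizer_inf c.hyp.RH (hRK.trans le_normalizer)
  have hcopN : (Nat.card R).Coprime (Nat.card N) :=
    Nat.Coprime.coprime_dvd_right (card_dvd_of_le hNH) c.copRH
  have hfrat := frattini_hall hLH hHL hKhall
  -- P and K'
  obtain ⟨P, hPhall, hRP⟩ := coprime_exists_invariant_hall R N hRN hcopN inferInstance
    ({p} : Set ℕ)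
  obtain ⟨hPN, hPp, hPc⟩ := hall_singleton_facts hPhall
  obtain ⟨K', hK'hall, hRK', hKK'⟩ := coprime_invariant_pi_le_hall R N K hRN hcopN inferInstance
    ({p} : Set ℕ)ᶜ hKN hRK ((isPiNum_compl_singleton_iff hp.out Nat.card_pos.ne').mpr hKc)
  obtain ⟨hK'N, hK'c, -, -⟩ := hall_compl_facts hp.out hK'hall
  have hNfac := exists_mul_of_hall hK'hall hPhall
  have hPH : P ≤ H := hPN.trans hNH
  -- [P,R] ≰ V
  have hPRV : ¬ (⁅P, R⁆ : Subgroup X) ≤ V := by
    intro hcon
    have hK'H : K' ≤ H := hK'N.trans hNH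
    have h1 := c.eq_of_factor (J := V ⊔ K') (P := P) le_sup_left (sup_le hVH hK'H)
      (Cfsg.Agent.Helper3.KBal.le_normalizer_sup c.V_normR hRK') hcon (by
        intro h hh
        obtain ⟨l, hl, n, hn, rfl⟩ := hfrat h hh
        rw [hLVK] at hl
        obtain ⟨k, hk, v, hv, rfl⟩ :=
          Cfsg.Agent.Helper3.KBal.exists_mul_of_mem_sup (hKH.trans c.V_normH) (by
            rw [sup_comm]; exact hl)
        obtain ⟨k', hk', x, hx, rfl⟩ := hNfac n hn
        -- k * v * (k' * x) = (k * v * k') * x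
        refine ⟨k * v * k', ?_, x, hx, by group⟩
        have hkK' : k ∈ K' := hKK' hk
        have e : k * v * k' = (k * v * k⁻¹) * (k * k') := by group
        rw [e]
        exact (V ⊔ K').mul_mem
          ((le_sup_left : V ≤ V ⊔ K') ((mem_normalizer_iff.mp (c.V_normH (hKH hk)) v).mp hv))
          ((le_sup_right : K' ≤ V ⊔ K') (K'.mul_mem hkK' hk')))
    exact c.sup_pPrime_ne hK'H hK'c h1
  -- D = [P,R] does not centralize K
  set D : Subgroup X := ⁅P, R⁆ with hD
  have hDP : D ≤ P := commutator_le_of_le_normalizer hRP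
  have hDK : ¬ D ≤ centralizer (K : Set X) := by
    intro hcon
    apply hPRV
    apply hdet D (hDP.trans hPH) (hPp.to_le hDP)
    rw [commutator_le, hLVK]
    intro d hd l hl
    obtain ⟨k, hk, v, hv, rfl⟩ :=
      Cfsg.Agent.Helper3.KBal.exists_mul_of_mem_sup (hKH.trans c.V_normH) (by
        rw [sup_comm]; exact hl)
    have hdk : d * k = k * d := ((mem_centralizer_iff.mp (hcon hd)) k hk).symm
    have e : ⁅d, k * v⁆ = k * (d * v * d⁻¹ * v⁻¹) * k⁻¹ := by
      rw [commutatorElement_def]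
      calc d * (k * v) * d⁻¹ * (k * v)⁻¹ = (d * k) * v * d⁻¹ * v⁻¹ * k⁻¹ := by group
        _ = (k * d) * v * d⁻¹ * v⁻¹ * k⁻¹ := by rw [hdk]
        _ = k * (d * v * d⁻¹ * v⁻¹) * k⁻¹ := by group
    rw [e]
    have hdH : d ∈ H := hPH (hDP hd)
    have h2 : d * v * d⁻¹ * v⁻¹ ∈ V :=
      V.mul_mem ((mem_normalizer_iff.mp (c.V_normH hdH) v).mp hv) (V.inv_mem hv)
    exact (mem_normalizer_iff.mp (c.V_normH (hKH hk)) _).mp h2
  obtain ⟨y, hyD, hyK⟩ := SetLike.not_le_iff_exists.mp hDK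
  -- the group PR
  set A : Subgroup X := P ⊔ R with hA
  have hAK : A ≤ normalizer (K : Set X) := sup_le (hPN.trans inf_le_right) hRK
  have hAcard : Nat.card A ∣ Nat.card P * Nat.card R := by
    have := Cfsg.Agent.Helper17.card_sup_mul_card_inf P R hRP
    exact Dvd.intro _ this
  have hAcop : (Nat.card A).Coprime (Nat.card K) := by
    apply Nat.Coprime.coprime_dvd_left hAcard
    apply Nat.Coprime.mul_left
    · obtain ⟨b, hb⟩ := hPp.exists_card_eq
      rw [hb]; exact Nat.Coprime.pow_left b hKc.symm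
    · exact Nat.Coprime.coprime_dvd_right (card_dvd_of_le hKH) c.copRH
  obtain ⟨q, hq, Q, hQK, hQq, hAQ, hyQ⟩ :=
    Cfsg.Agent.Helper9.PLenExp.exists_inv_sylow_not_cent A K hAK hAcop (Or.inl inferInstance) y hyK
  have hQH : Q ≤ H := hQK.trans hKH
  have hQc : (Nat.card Q).Coprime p := Nat.Coprime.coprime_dvd_left (card_dvd_of_le hQK) hKc
  refine ⟨q, Q, P, hq, hQH, hPH, hQq, hQc, hPp, le_sup_right.trans hAQ, hRP,
    le_sup_left.trans hAQ, ?_⟩
  by_contra hne
  have h1 := c.KL hQH hPH (le_sup_right.trans hAQ) hRP (le_sup_left.trans hAQ) hQc hPp hne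
  rw [commutator_eq_bot_iff_le_centralizer] at h1
  exact hyQ (h1 hyD)

end Cfsg.Agent.Helper29.BG36
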