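import Cfsg.Agent.Helper29.BG36F

/-!
# B&G Theorem 3.6 (S1444), part G: the factorized minimal counterexample, `C_V(Q) = 1`
-/

set_option autoImplicit false

namespace Cfsg.Agent.Helper29.BG36

open Subgroup Cfsg.Agent.Lead
open scoped commutatorElement Pointwise

variable {X : Type*} [Group X]

theorem nz_sup {A B C : Subgroup X} (hB : A ≤ normalizer (B : Set X))
    (hC : A ≤ normalizer (C : Set X)) : A ≤ normalizer ((B ⊔ C : Subgroup X) : Set X) := by
  intro a ha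
  have h1 : ∀ D : Subgroup X, a ∈ normalizer (D : Set X) →
      D.map (MulAut.conj a).toMonoidHom = D := by
    intro D hD
    ext x
    rw [mem_map]
    constructor
    · rintro ⟨y, hy, rfl⟩
      exact (mem_normalizer_iff.mp hD y).mp hy
    · intro hx
      refine ⟨a⁻¹ * x * a, ?_, by simp [MulAut.conj_apply, mul_assoc]⟩
      have := (mem_normalizer_iff.mp ((normalizer (D : Set X)).inv_mem hD) x).mp hx
      simpa using this
  have h2 : (B ⊔ C).map (MulAut.conj a).toMonoidHom = B ⊔ C := by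
    rw [Subgroup.map_sup, h1 B (hB ha), h1 C (hC ha)]
  rw [mem_normalizer_iff]
  intro x
  constructor
  · intro hx
    rw [← h2]
    exact mem_map.mpr ⟨x, hx, rfl⟩
  · intro hx
    rw [← h2] at hx
    obtain ⟨y, hy, hyx⟩ := mem_map.mp hx
    have : y = x := by
      have := hyx
      simp only [MulEquiv.coe_toMonoidHom, MulAut.conj_apply] at this
      have h3 : y = a⁻¹ * (a * y * a⁻¹) * a := by group
      rw [h3, this]; group
    rw [← this]; exact hy

theorem nz_inf {A B C : Subgroup X} (hB : A ≤ normalizer (B : Set X))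
    (hC : A ≤ normalizer (C : Set X)) : A ≤ normalizer ((B ⊓ C : Subgroup X) : Set X) := by
  intro a ha
  rw [mem_normalizer_iff]
  intro x
  rw [mem_inf, mem_inf, ← mem_normalizer_iff.mp (hB ha) x, ← mem_normalizer_iff.mp (hC ha) x]

theorem nz_cent {A B : Subgroup X} (hB : A ≤ normalizer (B : Set X)) :
    A ≤ normalizer ((centralizer (B : Set X) : Subgroup X) : Set X) := by
  intro a ha
  have key : ∀ b : X, b ∈ normalizer (B : Set X) → ∀ x ∈ centralizer (B : Set X),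
      b * x * b⁻¹ ∈ centralizer (B : Set X) := by
    intro b hb x hx
    rw [mem_centralizer_iff]
    intro y hy
    have h1 : b⁻¹ * y * b ∈ B := by
      have := (mem_normalizer_iff.mp ((normalizer (B : Set X)).inv_mem hb) y).mp hy
      simpa using this
    have h2 := (mem_centralizer_iff.mp hx) _ h1
    calc y * (b * x * b⁻¹) = b * ((b⁻¹ * y * b) * x) * b⁻¹ := by group
      _ = b * (x * (b⁻¹ * y * b)) * b⁻¹ := by rw [h2]
      _ = b * x * b⁻¹ * y := by group
  rw [mem_normalizer_iff]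
  intro x
  constructor
  · exact key a (hB ha) x
  · intro hx
    have := key a⁻¹ ((normalizer (B : Set X)).inv_mem (hB ha)) _ hx
    have e : a⁻¹ * (a * x * a⁻¹) * a⁻¹⁻¹ = x := by group
    rwa [e] at this

theorem nz_of_cent {A B : Subgroup X} (h : A ≤ centralizer (B : Set X)) :
    A ≤ normalizer (B : Set X) := by
  intro a ha
  rw [mem_normalizer_iff]
  intro x
  have key : ∀ y ∈ B, a * y * a⁻¹ = y := by
    intro y hy
    have := (mem_centralizer_iff.mp (h ha)) y hy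
    rw [← this]; group
  constructor
  · intro hx; rw [key x hx]; exact hx
  · intro hx
    have h2 : a⁻¹ * (a * x * a⁻¹) * a = a * x * a⁻¹ := by
      have := (mem_centralizer_iff.mp (h ha)) _ hx
      calc a⁻¹ * (a * x * a⁻¹) * a = a⁻¹ * ((a * x * a⁻¹) * a) := by group
        _ = a⁻¹ * (a * (a * x * a⁻¹)) := by rw [this]
        _ = a * x * a⁻¹ := by group
    have h3 : a⁻¹ * (a * x * a⁻¹) * a = x := by group
    rw [← h3, h2]; exact hx

theorem nz_comm {A B C : Subgroup X} (hB : A ≤ normalizer (B : Set X))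
    (hC : A ≤ normalizer (C : Set X)) : A ≤ normalizer ((⁅B, C⁆ : Subgroup X) : Set X) := by
  intro a ha
  have h1 : ∀ D : Subgroup X, a ∈ normalizer (D : Set X) →
      D.map (MulAut.conj a).toMonoidHom = D := by
    intro D hD
    ext x
    rw [mem_map]
    constructor
    · rintro ⟨y, hy, rfl⟩
      exact (mem_normalizer_iff.mp hD y).mp hy
    · intro hx
      refine ⟨a⁻¹ * x * a, ?_, by simp [MulAut.conj_apply, mul_assoc]⟩
      have := (mem_normalizer_iff.mp ((normalizer (D : Set X)).inv_mem hD) x).mp hx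
      simpa using this
  have h2 : (⁅B, C⁆ : Subgroup X).map (MulAut.conj a).toMonoidHom = ⁅B, C⁆ := by
    rw [map_commutator, h1 B (hB ha), h1 C (hC ha)]
  rw [mem_normalizer_iff]
  intro x
  constructor
  · intro hx
    rw [← h2]
    exact mem_map.mpr ⟨x, hx, rfl⟩
  · intro hx
    rw [← h2] at hx
    obtain ⟨y, hy, hyx⟩ := mem_map.mp hx
    have : y = x := by
      have := hyx
      simp only [MulEquiv.coe_toMonoidHom, MulAut.conj_apply] at this
      have h3 : y = a⁻¹ * (a * y * a⁻¹) * a := by group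
      rw [h3, this]; group
    rw [← this]; exact hy


/-- The factorized minimal counterexample `H = V Q P`. -/
structure Cfg2 (p q : ℕ) (H R R₀ Q P : Subgroup X) : Prop where
  ctx : Ctx p H R R₀
  hq : q.Prime
  QH : Q ≤ H
  PH : P ≤ H
  hQ : IsPGroup q Q
  Qcop : (Nat.card Q).Coprime p
  hP : IsPGroup p P
  RQ : R ≤ normalizer (Q : Set X)
  RP : R ≤ normalizer (P : Set X)
  PQ : P ≤ normalizer (Q : Set X)
  fac : Cfsg.pCoreOf p H ⊔ Q ⊔ P = H

variable [Finite X] [Group.IsSolvable X] {p q : ℕ} [hp : Fact p.Prime] {H R R₀ Q P : Subgroup X}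

theorem Cfg2.Vp (_c : Cfg2 p q H R R₀ Q P) : IsPGroup p ↥(Cfsg.pCoreOf p H) :=
  Cfsg.Agent.Helper14.pCoreOf_isPGroup p H

theorem Cfg2.VH (_c : Cfg2 p q H R R₀ Q P) : Cfsg.pCoreOf p H ≤ H :=
  Cfsg.Agent.Helper14.pCoreOf_le p H

theorem Cfg2.QV (c : Cfg2 p q H R R₀ Q P) :
    Q ≤ normalizer ((Cfsg.pCoreOf p H : Subgroup X) : Set X) := c.QH.trans c.ctx.V_normH

theorem Cfg2.PV (c : Cfg2 p q H R R₀ Q P) :
    P ≤ normalizer ((Cfsg.pCoreOf p H : Subgroup X) : Set X) := c.PH.trans c.ctx.V_normH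

theorem Cfg2.copVQ (c : Cfg2 p q H R R₀ Q P) :
    (Nat.card ↥(Cfsg.pCoreOf p H)).Coprime (Nat.card Q) := by
  obtain ⟨n, hn⟩ := c.Vp.exists_card_eq
  rw [hn]
  exact Nat.Coprime.pow_left n c.Qcop.symm

theorem Cfg2.VQ_bot (c : Cfg2 p q H R R₀ Q P) : Cfsg.pCoreOf p H ⊓ Q = ⊥ :=
  (disjoint_of_coprime_natCard c.copVQ).eq_bot

theorem Cfg2.YH (c : Cfg2 p q H R R₀ Q P) : Cfsg.pCoreOf p H ⊔ Q ≤ H := sup_le c.VH c.QH

theorem Cfg2.PY (c : Cfg2 p q H R R₀ Q P) :
    P ≤ normalizer ((Cfsg.pCoreOf p H ⊔ Q : Subgroup X) : Set X) := nz_sup c.PV c.PQ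

theorem Cfg2.HY (c : Cfg2 p q H R R₀ Q P) :
    H ≤ normalizer ((Cfsg.pCoreOf p H ⊔ Q : Subgroup X) : Set X) := by
  conv_lhs => rw [← c.fac]
  exact sup_le le_normalizer c.PY

theorem Cfg2.relIndex_Y_mul (c : Cfg2 p q H R R₀ Q P) :
    (Cfsg.pCoreOf p H ⊔ Q).relIndex H * Nat.card ↥((Cfsg.pCoreOf p H ⊔ Q) ⊓ P) = Nat.card P := by
  have h1 := Cfsg.Agent.Helper17.card_sup_mul_card_inf (Cfsg.pCoreOf p H ⊔ Q) P c.PY
  have h2 := Cfsg.Agent.Helper7.card_mul_relIndex_of_le c.YH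
  rw [c.fac, ← h2, mul_assoc] at h1
  exact Nat.eq_of_mul_eq_mul_left Nat.card_pos h1

theorem Cfg2.relIndex_Y (c : Cfg2 p q H R R₀ Q P) :
    ∃ a : ℕ, (Cfsg.pCoreOf p H ⊔ Q).relIndex H = p ^ a := by
  obtain ⟨n, hn⟩ := c.hP.exists_card_eq
  have h1 : (Cfsg.pCoreOf p H ⊔ Q).relIndex H ∣ p ^ n := by
    rw [← hn]; exact Dvd.intro _ c.relIndex_Y_mul
  obtain ⟨j, -, hj⟩ := (Nat.dvd_prime_pow hp.out).mp h1
  exact ⟨j, hj⟩

/-- Elements of prime order `ℓ ≠ p` of `H` lie in `V Q`. -/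
theorem Cfg2.mem_Y_of_prime (c : Cfg2 p q H R R₀ Q P) {x : X} (hx : x ∈ H) {ℓ : ℕ}
    (hℓ : ℓ.Prime) (hℓp : ℓ ≠ p) (hxℓ : orderOf x = ℓ) : x ∈ Cfsg.pCoreOf p H ⊔ Q := by
  haveI : Fact ℓ.Prime := ⟨hℓ⟩
  obtain ⟨a, ha⟩ := c.relIndex_Y
  have hcop : ((Cfsg.pCoreOf p H ⊔ Q).relIndex H).Coprime ℓ := by
    rw [ha]
    exact Nat.Coprime.pow_left a ((Nat.coprime_primes hp.out hℓ).mpr hℓp.symm)
  have hT : IsPGroup ℓ ↥(zpowers x) := by
    apply IsPGroup.of_card (n := 1)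
    rw [Nat.card_zpowers, hxℓ, pow_one]
  exact le_of_isPGroup_of_relIndex_coprime c.YH c.HY hcop (zpowers_le.mpr hx) hT (mem_zpowers x)

theorem Cfg2.V_le_cent_V (c : Cfg2 p q H R R₀ Q P) :
    Cfsg.pCoreOf p H ≤ centralizer ((Cfsg.pCoreOf p H : Subgroup X) : Set X) := by
  intro a ha
  rw [mem_centralizer_iff]
  intro b hb
  exact c.ctx.V_comm b hb a ha

/-- B8: `C_V(Q) = 1`. -/
theorem Cfg2.CVQ (c : Cfg2 p q H R R₀ Q P) :
    Cfsg.pCoreOf p H ⊓ centralizer (Q : Set X) = ⊥ := by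
  set V := Cfsg.pCoreOf p H with hV
  have hVp : IsPGroup p V := c.Vp
  by_contra hne
  set N := V ⊓ centralizer (Q : Set X) with hN
  have hNV : N ≤ V := inf_le_left
  have hVcN : V ≤ centralizer (N : Set X) := by
    intro a ha
    rw [mem_centralizer_iff]
    intro b hb
    exact c.ctx.V_comm b (hNV hb) a ha
  have hQcN : Q ≤ centralizer (N : Set X) := by
    intro a ha
    rw [mem_centralizer_iff]
    intro b hb
    exact ((mem_centralizer_iff.mp hb.2) a ha).symm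
  have hVN : V ≤ normalizer (N : Set X) := nz_of_cent hVcN
  have hQN : Q ≤ normalizer (N : Set X) := nz_of_cent hQcN
  have hPN : P ≤ normalizer (N : Set X) := nz_inf c.PV (nz_cent c.PQ)
  have hRN : R ≤ normalizer (N : Set X) := nz_inf c.ctx.V_normR (nz_cent c.RQ)
  have hHN : H ≤ normalizer (N : Set X) := by
    conv_lhs => rw [← c.fac]
    exact sup_le (sup_le hVN hQN) hPN
  apply c.ctx.quot_step hNV hne hHN hRN
  intro K hNK hKH hKn hK
  apply le_of_relIndex_coprime_of_no_prime hNK hK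
  intro x hx ℓ hℓ hℓp hxℓ
  have hxH : x ∈ H := hKH hx
  have hxY : x ∈ V ⊔ Q := c.mem_Y_of_prime hxH hℓ hℓp hxℓ
  have hKV : K ⊓ V ≤ N :=
    le_of_isPGroup_of_relIndex_coprime hNK (hKH.trans hHN) hK inf_le_left (hVp.to_le inf_le_right)
  have hxN : x ∈ centralizer (N : Set X) := (sup_le hVcN hQcN) hxY
  have hA : zpowers x ≤ normalizer (V : Set X) := by
    rw [zpowers_le]; exact c.ctx.V_normH hxH
  have h1 : (⁅V, zpowers x⁆ : Subgroup X) ≤ N := by
    rw [commutator_le]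
    intro v hv a ha
    apply hKV
    have haK : a ∈ K := (zpowers_le.mpr hx) ha
    refine ⟨?_, ?_⟩
    · have h1 : v * a * v⁻¹ ∈ K := (mem_normalizer_iff.mp (hKn (c.VH hv)) a).mp haK
      rw [commutatorElement_def]
      exact K.mul_mem h1 (K.inv_mem haK)
    · have h1 : a * v⁻¹ * a⁻¹ ∈ V := (mem_normalizer_iff.mp (hA ha) v⁻¹).mp (V.inv_mem hv)
      have e : ⁅v, a⁆ = v * (a * v⁻¹ * a⁻¹) := by rw [commutatorElement_def]; group
      rw [e]; exact V.mul_mem hv h1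
  have h2 : (⁅⁅V, zpowers x⁆, zpowers x⁆ : Subgroup X) = ⊥ := by
    rw [eq_bot_iff, commutator_le]
    intro n hn a ha
    rw [mem_bot, commutatorElement_eq_one_iff_mul_comm]
    have haC : a ∈ centralizer (N : Set X) := (zpowers_le.mpr hxN) ha
    exact ((mem_centralizer_iff.mp haC) n (h1 hn))
  have hcop : (Nat.card (zpowers x)).Coprime (Nat.card V) := by
    rw [Nat.card_zpowers, hxℓ]
    obtain ⟨b, hb⟩ := hVp.exists_card_eq
    rw [hb]
    exact Nat.Coprime.pow_right b ((Nat.coprime_primes hℓ hp.out).mpr hℓp)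
  have h3 := coprime_commutator_commutator (zpowers x) V hA hcop (Or.inr inferInstance)
  rw [h2] at h3
  have hcent : x ∈ centralizer (V : Set X) := by
    rw [mem_centralizer_iff]
    intro v hv
    have : ⁅v, x⁆ ∈ (⁅V, zpowers x⁆ : Subgroup X) := commutator_mem_commutator hv (mem_zpowers x)
    rw [← h3, mem_bot, commutatorElement_eq_one_iff_mul_comm] at this
    exact this
  have hxV : x ∈ V := c.ctx.cent_le ⟨hxH, hcent⟩
  obtain ⟨k, hk⟩ := (IsPGroup.iff_orderOf.mp hVp) ⟨x, hxV⟩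
  rw [Subgroup.orderOf_mk, hxℓ] at hk
  have h5 : ℓ ∣ p ^ k := by rw [← hk]
  exact hℓp ((Nat.prime_dvd_prime_iff_eq hℓ hp.out).mp (hℓ.dvd_of_dvd_pow h5))

end Cfsg.Agent.Helper29.BG36
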