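import Cfsg.Agent.Helper29.BG36G

/-!
# B&G Theorem 3.6 (S1444), part H: structure of `Q` and `P` in the factorized minimal counterexample
-/

set_option autoImplicit false

namespace Cfsg.Agent.Helper29.BG36

open Subgroup Cfsg.Agent.Lead
open scoped commutatorElement Pointwise

variable {X : Type*} [Group X]

theorem mem_sup_of_nz {N A : Subgroup X} (h : A ≤ normalizer (N : Set X)) {x : X}
    (hx : x ∈ N ⊔ A) : ∃ n ∈ N, ∃ a ∈ A, x = n * a := by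
  have h1 : x ∈ ((N ⊔ A : Subgroup X) : Set X) := hx
  rw [coe_mul_of_right_le_normalizer_left N A h] at h1
  obtain ⟨n, hn, a, ha, rfl⟩ := h1
  exact ⟨n, hn, a, ha, rfl⟩

theorem card_sup_le [Finite X] {A B : Subgroup X} (hB : B ≤ normalizer (A : Set X)) :
    Nat.card ↥(A ⊔ B) ≤ Nat.card A * Nat.card B := by
  have h1 := Cfsg.Agent.Helper17.card_sup_mul_card_inf A B hB
  rw [← h1]
  exact Nat.le_mul_of_pos_right _ Nat.card_pos

theorem le_cent_of_comm_eq_bot {A B : Subgroup X} (h : (⁅A, B⁆ : Subgroup X) = ⊥) :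
    A ≤ centralizer (B : Set X) := by
  intro a ha
  rw [mem_centralizer_iff]
  intro b hb
  have : ⁅a, b⁆ ∈ (⁅A, B⁆ : Subgroup X) := commutator_mem_commutator ha hb
  rw [h, mem_bot, commutatorElement_eq_one_iff_mul_comm] at this
  exact this.symm

theorem comm_eq_bot_of_le_cent {A B : Subgroup X} (h : A ≤ centralizer (B : Set X)) :
    (⁅A, B⁆ : Subgroup X) = ⊥ := by
  rw [eq_bot_iff, commutator_le]
  intro a ha b hb
  rw [mem_bot, commutatorElement_eq_one_iff_mul_comm]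
  exact ((mem_centralizer_iff.mp (h ha)) b hb).symm

variable [Finite X] [Group.IsSolvable X] {p q : ℕ} [hp : Fact p.Prime] {H R R₀ Q P : Subgroup X}

theorem Cfg2.PV_bot (c : Cfg2 p q H R R₀ Q P) : P ⊓ Cfsg.pCoreOf p H = ⊥ := by
  rw [eq_bot_iff, ← c.CVQ]
  rintro d ⟨hdP', hdV'⟩
  have hdP : d ∈ P := hdP'
  have hdV : d ∈ Cfsg.pCoreOf p H := hdV'
  refine ⟨hdV, ?_⟩
  show d ∈ centralizer (Q : Set X)
  rw [mem_centralizer_iff]
  intro y hy
  have h1 : ⁅d, y⁆ ∈ Cfsg.pCoreOf p H ⊓ Q := by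
    refine ⟨?_, ?_⟩
    · have h2 : y * d⁻¹ * y⁻¹ ∈ Cfsg.pCoreOf p H :=
        (mem_normalizer_iff.mp (c.QV hy) d⁻¹).mp (inv_mem hdV)
      have e : ⁅d, y⁆ = d * (y * d⁻¹ * y⁻¹) := by rw [commutatorElement_def]; group
      rw [e]; exact mul_mem hdV h2
    · have h2 : d * y * d⁻¹ ∈ Q := (mem_normalizer_iff.mp (c.PQ hdP) y).mp hy
      rw [commutatorElement_def]
      exact Q.mul_mem h2 (Q.inv_mem hy)
  rw [c.VQ_bot, mem_bot, commutatorElement_eq_one_iff_mul_comm] at h1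
  exact h1.symm

theorem Cfg2.YP_bot (c : Cfg2 p q H R R₀ Q P) : (Cfsg.pCoreOf p H ⊔ Q) ⊓ P = ⊥ := by
  rw [eq_bot_iff, ← c.PV_bot]
  have h1 : (Cfsg.pCoreOf p H ⊔ Q) ⊓ P ≤ Cfsg.pCoreOf p H := by
    apply le_of_isPGroup_of_relIndex_coprime (le_sup_left : _ ≤ Cfsg.pCoreOf p H ⊔ Q)
      (sup_le le_normalizer c.QV) _ inf_le_left (c.hP.to_le inf_le_right)
    rw [relIndex_sup_of_coprime c.QV c.copVQ]
    exact c.Qcop
  exact le_inf inf_le_right h1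

theorem Cfg2.card_Y (c : Cfg2 p q H R R₀ Q P) :
    Nat.card ↥(Cfsg.pCoreOf p H ⊔ Q) = Nat.card ↥(Cfsg.pCoreOf p H) * Nat.card Q := by
  have h1 := Cfsg.Agent.Helper17.card_sup_mul_card_inf (Cfsg.pCoreOf p H) Q c.QV
  rwa [c.VQ_bot, card_bot, mul_one] at h1

theorem Cfg2.card_H (c : Cfg2 p q H R R₀ Q P) :
    Nat.card H = Nat.card ↥(Cfsg.pCoreOf p H) * Nat.card Q * Nat.card P := by
  have h1 := Cfsg.Agent.Helper17.card_sup_mul_card_inf (Cfsg.pCoreOf p H ⊔ Q) P c.PY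
  rw [c.fac, c.YP_bot, card_bot, mul_one, c.card_Y] at h1
  exact h1

theorem Cfg2.CPQ (c : Cfg2 p q H R R₀ Q P) : P ⊓ centralizer (Q : Set X) = ⊥ := by
  set D := P ⊓ centralizer (Q : Set X) with hD
  have hDP : D ≤ P := inf_le_left
  have hQD : Q ≤ centralizer (D : Set X) := by
    intro y hy
    rw [mem_centralizer_iff]
    intro d hd
    exact ((mem_centralizer_iff.mp hd.2) y hy).symm
  have hVD : D ≤ normalizer ((Cfsg.pCoreOf p H : Subgroup X) : Set X) := hDP.trans c.PV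
  have h1 : Cfsg.pCoreOf p H ⊔ D ≤ Cfsg.pCoreOf p H := by
    apply Cfsg.Agent.Helper14.le_pCoreOf p (sup_le c.VH (hDP.trans c.PH))
    · conv_lhs => rw [← c.fac]
      refine sup_le (sup_le ?_ ?_) ?_
      · exact le_sup_left.trans le_normalizer
      · exact nz_sup c.QV (nz_of_cent hQD)
      · exact nz_sup c.PV (nz_inf le_normalizer (nz_cent c.PQ))
    · exact IsPGroup.to_sup_of_normal_left' c.Vp (c.hP.to_le hDP) hVD
  rw [eq_bot_iff, ← c.PV_bot]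
  exact le_inf hDP (le_sup_right.trans h1)

theorem Cfg2.P_ne_bot (c : Cfg2 p q H R R₀ Q P) : P ≠ ⊥ := by
  intro h
  have h1 := c.fac
  rw [h, sup_bot_eq] at h1
  exact c.ctx.sup_pPrime_ne c.QH c.Qcop h1.symm

theorem Cfg2.Q_ne_bot (c : Cfg2 p q H R R₀ Q P) : Q ≠ ⊥ := by
  intro h
  have h1 := c.fac
  rw [h, sup_bot_eq] at h1
  apply c.ctx.sup_pPrime_ne (K := ⊥) bot_le (by simp)
  rw [sup_bot_eq]
  apply le_antisymm _ c.VH
  apply Cfsg.Agent.Helper14.le_pCoreOf p le_rfl le_normalizer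
  rw [← h1]
  exact IsPGroup.to_sup_of_normal_left' c.Vp c.hP c.PV

theorem Cfg2.q_ne_p (c : Cfg2 p q H R R₀ Q P) : q ≠ p := by
  rintro rfl
  obtain ⟨n, hn⟩ := c.hQ.exists_card_eq
  rcases n with _ | n
  · exact c.Q_ne_bot (Q.card_eq_one.mp (by rw [hn, pow_zero]))
  · have h1 := c.Qcop
    rw [hn] at h1
    have : q ∣ q ^ (n + 1) := dvd_pow_self q (Nat.succ_ne_zero n)
    exact (Nat.Prime.coprime_iff_not_dvd c.hq).mp h1.symm this

theorem Cfg2.copPQ (c : Cfg2 p q H R R₀ Q P) : (Nat.card P).Coprime (Nat.card Q) := by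
  obtain ⟨n, hn⟩ := c.hP.exists_card_eq
  rw [hn]
  exact Nat.Coprime.pow_left n c.Qcop.symm

theorem Cfg2.copRP (c : Cfg2 p q H R R₀ Q P) : (Nat.card R).Coprime (Nat.card P) :=
  Nat.Coprime.coprime_dvd_right (card_dvd_of_le c.PH) c.ctx.copRH

theorem Cfg2.copRQ (c : Cfg2 p q H R R₀ Q P) : (Nat.card R).Coprime (Nat.card Q) :=
  Nat.Coprime.coprime_dvd_right (card_dvd_of_le c.QH) c.ctx.copRH

/-- Minimality: a proper sub-configuration `V Q₂ P₂` has `[P₂,R]` centralizing `Q₂`. -/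
theorem Cfg2.min (c : Cfg2 p q H R R₀ Q P) {Q₂ P₂ : Subgroup X} (hQ₂ : Q₂ ≤ Q) (hP₂ : P₂ ≤ P)
    (hRQ : R ≤ normalizer (Q₂ : Set X)) (hRP : R ≤ normalizer (P₂ : Set X))
    (hPQ : P₂ ≤ normalizer (Q₂ : Set X)) (hne : Q₂ ≠ Q ∨ P₂ ≠ P) :
    (⁅⁅P₂, R⁆, Q₂⁆ : Subgroup X) = ⊥ := by
  apply c.ctx.KL (hQ₂.trans c.QH) (hP₂.trans c.PH) hRQ hRP hPQ
    (Nat.Coprime.coprime_dvd_left (card_dvd_of_le hQ₂) c.Qcop) (c.hP.to_le hP₂)
  intro heq
  have h1 : Nat.card H ≤ Nat.card ↥(Cfsg.pCoreOf p H) * Nat.card Q₂ * Nat.card P₂ := by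
    conv_lhs => rw [← heq]
    calc Nat.card ↥(Cfsg.pCoreOf p H ⊔ Q₂ ⊔ P₂)
        ≤ Nat.card ↥(Cfsg.pCoreOf p H ⊔ Q₂) * Nat.card P₂ :=
          card_sup_le (nz_sup (hP₂.trans c.PV) hPQ)
      _ ≤ Nat.card ↥(Cfsg.pCoreOf p H) * Nat.card Q₂ * Nat.card P₂ :=
          Nat.mul_le_mul_right _ (card_sup_le (hQ₂.trans c.QV))
  rw [c.card_H] at h1
  have hV : 0 < Nat.card ↥(Cfsg.pCoreOf p H) := Nat.card_pos
  have hQle : Nat.card Q₂ ≤ Nat.card Q := card_le_of_le hQ₂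
  have hPle : Nat.card P₂ ≤ Nat.card P := card_le_of_le hP₂
  have hQ₂pos : 0 < Nat.card Q₂ := Nat.card_pos
  have hP₂pos : 0 < Nat.card P₂ := Nat.card_pos
  rcases hne with hne | hne
  · have hlt : Nat.card Q₂ < Nat.card Q := by
      apply lt_of_le_of_ne hQle
      intro h
      exact hne (Subgroup.eq_of_le_of_card_ge hQ₂ h.ge)
    have : Nat.card ↥(Cfsg.pCoreOf p H) * Nat.card Q₂ * Nat.card P₂ <
        Nat.card ↥(Cfsg.pCoreOf p H) * Nat.card Q * Nat.card P :=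
      lt_of_le_of_lt (Nat.mul_le_mul_left _ hPle)
        (Nat.mul_lt_mul_of_pos_right (Nat.mul_lt_mul_of_pos_left hlt hV) Nat.card_pos)
    omega
  · have hlt : Nat.card P₂ < Nat.card P := by
      apply lt_of_le_of_ne hPle
      intro h
      exact hne (Subgroup.eq_of_le_of_card_ge hP₂ h.ge)
    have : Nat.card ↥(Cfsg.pCoreOf p H) * Nat.card Q₂ * Nat.card P₂ <
        Nat.card ↥(Cfsg.pCoreOf p H) * Nat.card Q * Nat.card P :=
      lt_of_lt_of_le (Nat.mul_lt_mul_of_pos_left hlt (Nat.mul_pos hV hQ₂pos))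
        (Nat.mul_le_mul_right _ (Nat.mul_le_mul_left _ hQle))
    omega


/-- (a) `[P,R] = P`. -/
theorem Cfg2.PR (c : Cfg2 p q H R R₀ Q P) : (⁅P, R⁆ : Subgroup X) = P := by
  by_contra hne
  have hP₀P : (⁅P, R⁆ : Subgroup X) ≤ P := commutator_le_of_le_normalizer c.RP
  have h1 := c.min (Q₂ := Q) (P₂ := ⁅P, R⁆) le_rfl hP₀P c.RQ (le_normalizer_commutator_right P R)
    (hP₀P.trans c.PQ) (Or.inr hne)
  rw [coprime_commutator_commutator R P c.RP c.copRP (Or.inr inferInstance)] at h1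
  have h2 : (⁅P, R⁆ : Subgroup X) ≤ P ⊓ centralizer (Q : Set X) :=
    le_inf hP₀P (le_cent_of_comm_eq_bot h1)
  rw [c.CPQ] at h2
  have h3 : H = Cfsg.pCoreOf p H ⊔ Q := by
    apply c.ctx.eq_of_factor (P := P) le_sup_left c.YH (nz_sup c.ctx.V_normR c.RQ)
      (h2.trans bot_le)
    intro h hh
    rw [← c.fac] at hh
    exact mem_sup_of_nz c.PY hh
  exact c.ctx.sup_pPrime_ne c.QH c.Qcop h3

/-- (c) `[Q,P] = Q`. -/
theorem Cfg2.QP (c : Cfg2 p q H R R₀ Q P) : (⁅Q, P⁆ : Subgroup X) = Q := by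
  by_contra hne
  have hQ₀Q : (⁅Q, P⁆ : Subgroup X) ≤ Q := commutator_le_of_le_normalizer c.PQ
  have h1 := c.min (Q₂ := ⁅Q, P⁆) (P₂ := P) hQ₀Q le_rfl (nz_comm c.RQ c.RP) c.RP
    (le_normalizer_commutator_right Q P) (Or.inl hne)
  rw [c.PR, commutator_comm,
    coprime_commutator_commutator P Q c.PQ c.copPQ (Or.inr inferInstance)] at h1
  rw [commutator_comm] at h1
  have h2 : P ≤ P ⊓ centralizer (Q : Set X) := le_inf le_rfl (le_cent_of_comm_eq_bot h1)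
  rw [c.CPQ, le_bot_iff] at h2
  exact c.P_ne_bot h2

/-- (d) proper `PR`-invariant subgroups of `Q` are centralized by `P`. -/
theorem Cfg2.cent_of_proper (c : Cfg2 p q H R R₀ Q P) {Q₂ : Subgroup X} (hQ₂ : Q₂ ≤ Q)
    (hPQ : P ≤ normalizer (Q₂ : Set X)) (hRQ : R ≤ normalizer (Q₂ : Set X)) (hne : Q₂ ≠ Q) :
    (⁅Q₂, P⁆ : Subgroup X) = ⊥ := by
  have h1 := c.min (Q₂ := Q₂) (P₂ := P) hQ₂ le_rfl hRQ c.RP hPQ (Or.inl hne)
  rw [c.PR, commutator_comm] at h1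
  exact h1

/-- The Frattini subgroup of `Q`, as a subgroup of `X`. -/
def PhiOf (Q : Subgroup X) : Subgroup X := (frattini ↥Q).map Q.subtype

theorem phiOf_le (Q : Subgroup X) : PhiOf Q ≤ Q := map_subtype_le _

theorem phiOf_normalizer (Q : Subgroup X) :
    normalizer (Q : Set X) ≤ normalizer ((PhiOf Q : Subgroup X) : Set X) :=
  normalizer_le_normalizer_map_of_characteristic Q (frattini ↥Q)

theorem phiOf_ne {Q : Subgroup X} (hQ : Q ≠ ⊥) : PhiOf Q ≠ Q := by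
  intro h
  have h1 : frattini ↥Q = ⊤ := by
    rw [eq_top_iff]
    intro x _
    have : (x : X) ∈ PhiOf Q := by rw [h]; exact x.2
    obtain ⟨y, hy, hyx⟩ := this
    have : y = x := Subtype.ext hyx
    rw [← this]; exact hy
  rcases eq_top_or_exists_le_coatom (⊥ : Subgroup ↥Q) with h2 | ⟨M, hM, -⟩
  · apply hQ
    rw [eq_bot_iff]
    intro x hx
    have : (⟨x, hx⟩ : ↥Q) ∈ (⊥ : Subgroup ↥Q) := by rw [h2]; trivial
    rw [mem_bot] at this
    rw [mem_bot]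
    exact congrArg Subtype.val this
  · have := frattini_le_coatom hM
    rw [h1, top_le_iff] at this
    exact hM.1 this

theorem Cfg2.Phi_P (c : Cfg2 p q H R R₀ Q P) : (⁅PhiOf Q, P⁆ : Subgroup X) = ⊥ :=
  c.cent_of_proper (phiOf_le Q) (c.PQ.trans (phiOf_normalizer Q)) (c.RQ.trans (phiOf_normalizer Q))
    (phiOf_ne c.Q_ne_bot)

/-- `Φ(Q) ≤ Z(Q)`. -/
theorem Cfg2.Phi_central (c : Cfg2 p q H R R₀ Q P) : PhiOf Q ≤ centralizer (Q : Set X) := by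
  have h1 : (⁅⁅P, PhiOf Q⁆, Q⁆ : Subgroup X) = ⊥ := by
    rw [commutator_comm P, c.Phi_P]
    exact comm_eq_bot_of_le_cent bot_le
  have h2 : (⁅⁅PhiOf Q, Q⁆, P⁆ : Subgroup X) = ⊥ := by
    rw [eq_bot_iff, ← c.Phi_P]
    exact commutator_mono (commutator_le_of_le_normalizer (le_normalizer.trans (phiOf_normalizer Q)))
      le_rfl
  have h3 := commutator_commutator_eq_bot_of_rotate h1 h2
  rw [c.QP, commutator_comm] at h3
  exact le_cent_of_comm_eq_bot h3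

theorem Cfg2.Qcl (c : Cfg2 p q H R R₀ Q P) : (⁅Q, Q⁆ : Subgroup X) ≤ centralizer (Q : Set X) := by
  haveI : Fact q.Prime := ⟨c.hq⟩
  refine le_trans ?_ c.Phi_central
  rw [← map_subtype_commutator]
  exact map_mono (Cfsg.Agent.Helper1.IsPGroup.commutator_le_frattini (p := q) c.hQ)

theorem Cfg2.pow_mem_Phi (c : Cfg2 p q H R R₀ Q P) {x : X} (hx : x ∈ Q) : x ^ q ∈ PhiOf Q := by
  haveI : Fact q.Prime := ⟨c.hq⟩
  exact ⟨⟨x, hx⟩ ^ q, Cfsg.Agent.Helper1.IsPGroup.pow_mem_frattini c.hQ ⟨x, hx⟩, rfl⟩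

theorem Cfg2.Qpow (c : Cfg2 p q H R R₀ Q P) : ∀ x ∈ Q, x ^ q ∈ centralizer (Q : Set X) :=
  fun _ hx => c.Phi_central (c.pow_mem_Phi hx)

theorem Cfg2.PZ (c : Cfg2 p q H R R₀ Q P) (hnc : ¬ ∀ a ∈ Q, ∀ b ∈ Q, a * b = b * a) :
    P ≤ centralizer ((Q ⊓ centralizer (Q : Set X) : Subgroup X) : Set X) := by
  have h1 := c.cent_of_proper (Q₂ := Q ⊓ centralizer (Q : Set X)) inf_le_left
    (nz_inf c.PQ (nz_cent c.PQ)) (nz_inf c.RQ (nz_cent c.RQ)) (by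
      intro h
      apply hnc
      intro a ha b hb
      have : a ∈ Q ⊓ centralizer (Q : Set X) := by rw [h]; exact ha
      exact ((mem_centralizer_iff.mp this.2) b hb).symm)
  rw [commutator_comm] at h1
  exact le_cent_of_comm_eq_bot h1

theorem Cfg2.Qexp (c : Cfg2 p q H R R₀ Q P) (hcomm : ∀ a ∈ Q, ∀ b ∈ Q, a * b = b * a) :
    ∀ a ∈ Q, a ^ q = 1 := by
  haveI : IsMulCommutative ↥Q := ⟨⟨fun a b => Subtype.ext (hcomm a a.2 b b.2)⟩⟩
  have h1 := coprime_abelian_inf P Q c.PQ c.copPQ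
  have h2 : PhiOf Q ≤ (Q ⊓ centralizer (P : Set X)) ⊓ ⁅Q, P⁆ := by
    refine le_inf (le_inf (phiOf_le Q) (le_cent_of_comm_eq_bot c.Phi_P)) ?_
    rw [c.QP]; exact phiOf_le Q
  rw [h1, le_bot_iff] at h2
  intro a ha
  have := c.pow_mem_Phi ha
  rwa [h2, mem_bot] at this

end Cfsg.Agent.Helper29.BG36
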