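import Cfsg.Agent.Helper29.BG36H
import Cfsg.Agent.Helper29.BG36Cfg
import Cfsg.Agent.Lead.ZGroupCoprime
import Cfsg.Agent.S3769

/-!
# B&G Theorem 3.6 (S1444), part I: the action of `R₀`; the end configuration is reached
-/

set_option autoImplicit false

namespace Cfsg.Agent.Helper29.BG36

open Subgroup Cfsg.Agent.Lead
open scoped commutatorElement Pointwise

variable {X : Type*} [Group X]

/-- a `p`-subgroup of a Z-group is cyclic. -/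
theorem isCyclic_of_pgroup_le_zgroup {p : ℕ} [Fact p.Prime] {A Z : Subgroup X} (hA : IsPGroup p A)
    (hAZ : A ≤ Z) (hZ : IsZGroup ↥Z) : IsCyclic ↥A := by
  have h1 : IsPGroup p ↥(A.subgroupOf Z) := hA.comap_of_injective Z.subtype (subtype_injective Z)
  haveI := h1.isCyclic_of_isZGroup
  exact isCyclic_of_surjective _ (subgroupOfEquivOfLe hAZ).surjective

variable [Finite X] [Group.IsSolvable X] {p q : ℕ} [hp : Fact p.Prime] {H R R₀ Q P : Subgroup X}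

theorem Cfg2.R₀V (c : Cfg2 p q H R R₀ Q P) :
    R₀ ≤ normalizer ((Cfsg.pCoreOf p H : Subgroup X) : Set X) := c.ctx.hyp.R₀R.trans c.ctx.V_normR

theorem Cfg2.R₀Q (c : Cfg2 p q H R R₀ Q P) : R₀ ≤ normalizer (Q : Set X) :=
  c.ctx.hyp.R₀R.trans c.RQ

theorem Cfg2.R₀P (c : Cfg2 p q H R R₀ Q P) : R₀ ≤ normalizer (P : Set X) :=
  c.ctx.hyp.R₀R.trans c.RP

theorem Cfg2.copR₀H (c : Cfg2 p q H R R₀ Q P) : (Nat.card R₀).Coprime (Nat.card H) :=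
  Nat.Coprime.coprime_dvd_left (card_dvd_of_le c.ctx.hyp.R₀R) c.ctx.copRH

theorem Cfg2.p_dvd_H (c : Cfg2 p q H R R₀ Q P) : p ∣ Nat.card H := by
  obtain ⟨n, hn⟩ := c.hP.exists_card_eq
  rcases n with _ | n
  · exact absurd (P.card_eq_one.mp (by rw [hn, pow_zero])) c.P_ne_bot
  · exact (dvd_pow_self p (Nat.succ_ne_zero n)).trans (hn ▸ card_dvd_of_le c.PH)

theorem Cfg2.q_dvd_H (c : Cfg2 p q H R R₀ Q P) : q ∣ Nat.card H := by
  haveI : Fact q.Prime := ⟨c.hq⟩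
  obtain ⟨n, hn⟩ := c.hQ.exists_card_eq
  rcases n with _ | n
  · exact absurd (Q.card_eq_one.mp (by rw [hn, pow_zero])) c.Q_ne_bot
  · exact (dvd_pow_self q (Nat.succ_ne_zero n)).trans (hn ▸ card_dvd_of_le c.QH)

theorem Cfg2.p_ne_r (c : Cfg2 p q H R R₀ Q P) : p ≠ Nat.card R₀ := by
  intro h
  have h1 := c.copR₀H
  rw [← h] at h1
  exact (Nat.Prime.coprime_iff_not_dvd hp.out).mp h1 c.p_dvd_H

theorem Cfg2.q_ne_r (c : Cfg2 p q H R R₀ Q P) : q ≠ Nat.card R₀ := by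
  intro h
  have h1 := c.copR₀H
  rw [← h] at h1
  exact (Nat.Prime.coprime_iff_not_dvd c.hq).mp h1 c.q_dvd_H

theorem Cfg2.CQV (c : Cfg2 p q H R R₀ Q P) :
    Q ⊓ centralizer ((Cfsg.pCoreOf p H : Subgroup X) : Set X) = ⊥ := by
  rw [eq_bot_iff, ← c.VQ_bot]
  intro x hx
  exact ⟨c.ctx.cent_le ⟨c.QH hx.1, hx.2⟩, hx.1⟩

theorem Cfg2.CPV (c : Cfg2 p q H R R₀ Q P) :
    P ⊓ centralizer ((Cfsg.pCoreOf p H : Subgroup X) : Set X) = ⊥ := by
  rw [eq_bot_iff, ← c.PV_bot]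
  intro x hx
  exact ⟨hx.1, c.ctx.cent_le ⟨c.PH hx.1, hx.2⟩⟩

theorem Cfg2.CQR (c : Cfg2 p q H R R₀ Q P) : IsCyclic ↥(Q ⊓ centralizer (R₀ : Set X)) := by
  haveI : Fact q.Prime := ⟨c.hq⟩
  exact isCyclic_of_pgroup_le_zgroup (c.hQ.to_le inf_le_left) (inf_le_inf_right _ c.QH)
    c.ctx.hyp.Z

theorem Cfg2.CVR_cyclic (c : Cfg2 p q H R R₀ Q P) :
    IsCyclic ↥(Cfsg.pCoreOf p H ⊓ centralizer (R₀ : Set X)) :=
  isCyclic_of_pgroup_le_zgroup (c.Vp.to_le inf_le_left) (inf_le_inf_right _ c.VH) c.ctx.hyp.Z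

theorem Cfg2.CVR_ne_bot (c : Cfg2 p q H R R₀ Q P) (hodd : Odd (Nat.card X)) :
    Cfsg.pCoreOf p H ⊓ centralizer (R₀ : Set X) ≠ ⊥ := by
  intro hbot
  have hcopQR : (Nat.card Q).Coprime (Nat.card R₀) :=
    (Nat.Coprime.coprime_dvd_right (card_dvd_of_le c.QH) c.copR₀H).symm
  have hQR₀ : Q ⊓ R₀ = ⊥ := (disjoint_of_coprime_natCard hcopQR).eq_bot
  have hcard : Nat.card ↥(Q ⊔ R₀) = Nat.card Q * Nat.card R₀ := by
    have h1 := Cfsg.Agent.Helper17.card_sup_mul_card_inf Q R₀ c.R₀Q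
    rwa [hQR₀, card_bot, mul_one] at h1
  haveI : IsMulCommutative ↥(Cfsg.pCoreOf p H) :=
    ⟨⟨fun a b => Subtype.ext (c.ctx.V_comm a a.2 b b.2)⟩⟩
  have hS := Cfsg.Agent.S3769.result (Q ⊔ R₀) inferInstance
    (Odd.of_dvd_nat hodd (card_subgroup_dvd_card _)) (Cfsg.pCoreOf p H) hp.out
    ⟨inferInstance, c.ctx.V_exp⟩ (by
      rw [hcard]
      intro hdvd
      rcases (Nat.Prime.dvd_mul hp.out).mp hdvd with h | h
      · exact (Nat.Prime.coprime_iff_not_dvd hp.out).mp c.Qcop.symm h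
      · have h1 := (Nat.prime_dvd_prime_iff_eq hp.out c.ctx.hyp.R₀p).mp h
        exact c.p_ne_r h1)
    (sup_le c.QV c.R₀V) Q R₀ le_sup_left (sup_le le_normalizer c.R₀Q)
    (by rw [relIndex_sup_of_coprime c.R₀Q hcopQR]; exact hcopQR)
    le_sup_right c.ctx.hyp.R₀p hQR₀ rfl hbot
  have h1 : (⁅R₀, Q⁆ : Subgroup X) ≤ Q := by
    rw [commutator_comm]; exact commutator_le_of_le_normalizer c.R₀Q
  have h2 : (⁅R₀, Q⁆ : Subgroup X) = ⊥ := by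
    rw [eq_bot_iff, ← c.CQV]
    exact le_inf h1 hS
  -- `R₀` centralizes `Q`, so `Q` is cyclic
  have h3 : Q ≤ centralizer (R₀ : Set X) := by
    rw [commutator_comm] at h2
    exact le_cent_of_comm_eq_bot h2
  haveI : Fact q.Prime := ⟨c.hq⟩
  haveI : IsCyclic ↥Q := isCyclic_of_pgroup_le_zgroup c.hQ (le_inf c.QH h3) c.ctx.hyp.Z
  have h4 : (⁅P, R⁆ : Subgroup X) ≤ centralizer (Q : Set X) := by
    rw [commutator_le]
    intro x hx y hy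
    exact commutator_mem_centralizer_of_isCyclic Q (c.PQ hx) (c.RQ hy)
  rw [c.PR] at h4
  have h5 : P ≤ P ⊓ centralizer (Q : Set X) := le_inf le_rfl h4
  rw [c.CPQ, le_bot_iff] at h5
  exact c.P_ne_bot h5

theorem Cfg2.CVR (c : Cfg2 p q H R R₀ Q P) (hodd : Odd (Nat.card X)) :
    Nat.card ↥(Cfsg.pCoreOf p H ⊓ centralizer (R₀ : Set X)) = p := by
  haveI := c.CVR_cyclic
  have h1 : Monoid.exponent ↥(Cfsg.pCoreOf p H ⊓ centralizer (R₀ : Set X)) ∣ p := by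
    apply Monoid.exponent_dvd_of_forall_pow_eq_one
    intro x
    apply Subtype.ext
    rw [Subgroup.coe_pow]
    exact c.ctx.V_exp _ x.2.1
  rw [IsCyclic.exponent_eq_card] at h1
  rcases (Nat.dvd_prime hp.out).mp h1 with h | h
  · exact absurd ((Subgroup.card_eq_one).mp h) (c.CVR_ne_bot hodd)
  · exact h

theorem Cfg2.CPR (c : Cfg2 p q H R R₀ Q P) (hodd : Odd (Nat.card X)) :
    P ⊓ centralizer (R₀ : Set X) = ⊥ := by
  have hVPp : IsPGroup p ↥(Cfsg.pCoreOf p H ⊔ P) :=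
    IsPGroup.to_sup_of_normal_left' c.Vp c.hP c.PV
  have hW : IsPGroup p ↥((Cfsg.pCoreOf p H ⊔ P) ⊓ centralizer (R₀ : Set X)) :=
    hVPp.to_le inf_le_left
  haveI : IsCyclic ↥((Cfsg.pCoreOf p H ⊔ P) ⊓ centralizer (R₀ : Set X)) :=
    isCyclic_of_pgroup_le_zgroup hW (inf_le_inf_right _ (sup_le c.VH c.PH)) c.ctx.hyp.Z
  have h1 := eq_bot_or_eq_bot_of_isCyclic_pgroup hW
    (U := Cfsg.pCoreOf p H ⊓ centralizer (R₀ : Set X)) (W := P ⊓ centralizer (R₀ : Set X))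
    (inf_le_inf_right _ le_sup_left) (inf_le_inf_right _ le_sup_right) (by
      rw [eq_bot_iff, ← c.PV_bot]
      intro x hx
      exact ⟨hx.2.1, hx.1.1⟩)
  rcases h1 with h | h
  · exact absurd h (c.CVR_ne_bot hodd)
  · exact h

theorem Cfg2.endCfg (c : Cfg2 p q H R R₀ Q P) (hodd : Odd (Nat.card X)) :
    EndCfg (Cfsg.pCoreOf p H) Q P R₀ p q (Nat.card R₀) where
  hp := hp.out
  hq := c.hq
  hr := c.ctx.hyp.R₀p
  hpq := fun h => c.q_ne_p h.symm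
  hpr := c.p_ne_r
  hqr := c.q_ne_r
  hr3 := by
    have h1 : Odd (Nat.card R₀) := Odd.of_dvd_nat hodd (card_subgroup_dvd_card _)
    have h2 := c.ctx.hyp.R₀p.two_le
    rcases h1 with ⟨k, hk⟩
    omega
  hpodd := Odd.of_dvd_nat hodd (c.p_dvd_H.trans (card_subgroup_dvd_card _))
  Vcomm := c.ctx.V_comm
  Vexp := c.ctx.V_exp
  hQ := c.hQ
  hP := c.hP
  hR₀ := rfl
  QV := c.QV
  PV := c.PV
  RV := c.R₀V
  PQ := c.PQ
  RQ := c.R₀Q
  RP := c.R₀P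
  CQV := c.CQV
  CPV := c.CPV
  CPQ := c.CPQ
  CVQ := c.CVQ
  CVR := c.CVR hodd
  CQR := c.CQR
  CPR := c.CPR hodd
  P1 := c.P_ne_bot
  QP := c.QP

end Cfsg.Agent.Helper29.BG36
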