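import Cfsg.Agent.Helper29.TwoDegB
import Cfsg.Agent.Helper24.Artin
import Cfsg.Agent.Helper24.Taketa
import Cfsg.Agent.Helper24.SylowInduced
import Cfsg.Agent.Helper24.Gagola
import Cfsg.Agent.Helper29.GalConjA

set_option autoImplicit false

namespace Cfsg.Agent.Helper29.BG

open Cfsg Cfsg.Agent.Helper24
open scoped ComplexConjugate

universe u

section Basic

variable {G : Type u} [Group G] [Fintype G]

/-- If a character takes its degree at `x`, so does each irreducible constituent. -/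
theorem constituent_apply_eq {φ : G → ℂ} (hφ : IsCharacter G φ) (η : IrrCharacter G)
    (hη : classInner φ (η : G → ℂ) ≠ 0) (x : G) (hx : φ x = φ 1) :
    (η : G → ℂ) x = (η : G → ℂ) 1 := by
  classical
  haveI : Fintype (IrrCharacter G) := Fintype.ofFinite _
  obtain ⟨n, hn⟩ := IsCharacter.exists_nat_coeff hφ
  have hcoef : classInner φ (η : G → ℂ) = n η := by
    rw [hn]; exact classInner_sum_irr _ η
  have hnη : n η ≠ 0 := by
    intro h0
    rw [hcoef, h0] at hη
    exact hη (by simp)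
  have hval : ∀ y : G, φ y = ∑ ψ : IrrCharacter G, (n ψ : ℂ) * (ψ : G → ℂ) y := by
    intro y
    conv_lhs => rw [hn]
    rw [Finset.sum_apply]
    rfl
  have hre : ∀ ψ : IrrCharacter G, ((ψ : G → ℂ) x).re ≤ (irrDeg ψ : ℝ) := by
    intro ψ
    have h1 := GalConj.normSq_irr_le ψ x
    have h2 : ((ψ : G → ℂ) x).re ^ 2 ≤ Complex.normSq ((ψ : G → ℂ) x) := by
      rw [Complex.normSq_apply]
      nlinarith [mul_self_nonneg ((ψ : G → ℂ) x).im]
    have h3 : (0 : ℝ) ≤ irrDeg ψ := Nat.cast_nonneg _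
    nlinarith
  have hsum : ∑ ψ : IrrCharacter G, (n ψ : ℝ) * ((irrDeg ψ : ℝ) - ((ψ : G → ℂ) x).re) = 0 := by
    have h1 := hval x
    have h2 := hval 1
    rw [hx, h2] at h1
    have h3 := congrArg Complex.re h1
    rw [Complex.re_sum, Complex.re_sum] at h3
    have h4 : ∀ ψ : IrrCharacter G, ((n ψ : ℂ) * (ψ : G → ℂ) 1).re = (n ψ : ℝ) * (irrDeg ψ : ℝ) := by
      intro ψ
      rw [irrDeg_spec]
      simp
    have h5 : ∀ ψ : IrrCharacter G, ((n ψ : ℂ) * (ψ : G → ℂ) x).re =
        (n ψ : ℝ) * ((ψ : G → ℂ) x).re := by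
      intro ψ
      simp
    simp_rw [h4, h5] at h3
    simp_rw [mul_sub]
    rw [Finset.sum_sub_distrib, h3, sub_self]
  have hnonneg : ∀ ψ ∈ (Finset.univ : Finset (IrrCharacter G)),
      0 ≤ (n ψ : ℝ) * ((irrDeg ψ : ℝ) - ((ψ : G → ℂ) x).re) := by
    intro ψ _
    exact mul_nonneg (Nat.cast_nonneg _) (sub_nonneg.mpr (hre ψ))
  have hz := (Finset.sum_eq_zero_iff_of_nonneg hnonneg).mp hsum η (Finset.mem_univ _)
  have hnη' : (n η : ℝ) ≠ 0 := Nat.cast_ne_zero.mpr hnη
  have hre_eq : ((η : G → ℂ) x).re = (irrDeg η : ℝ) := by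
    rcases mul_eq_zero.mp hz with h | h
    · exact absurd h hnη'
    · linarith
  have him : ((η : G → ℂ) x).im = 0 := by
    have h1 := GalConj.normSq_irr_le η x
    rw [Complex.normSq_apply, hre_eq] at h1
    have h2 : ((η : G → ℂ) x).im * ((η : G → ℂ) x).im ≤ 0 := by nlinarith
    have h3 := mul_self_nonneg ((η : G → ℂ) x).im
    have h4 : ((η : G → ℂ) x).im * ((η : G → ℂ) x).im = 0 := le_antisymm h2 h3
    exact mul_self_eq_zero.mp h4
  rw [irrDeg_spec]
  apply Complex.ext
  · rw [hre_eq]; simp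
  · rw [him]; simp

omit [Fintype G] in
/-- An irreducible character is constant on cosets of its kernel. -/
theorem irr_ker_mul [Finite G] (χ : IrrCharacter G) (n g : G) (hn : n ∈ irrKer χ) :
    (χ : G → ℂ) (n * g) = (χ : G → ℂ) g := by
  obtain ⟨N, hNn, hN, χ', hχ'⟩ := exists_kernel_quotient χ
  have hnN : n ∈ N := (hN n).mpr ((mem_irrKer χ n).mp hn)
  rw [← hχ' (n * g), ← hχ' g]
  congr 1
  rw [QuotientGroup.mk_mul, (QuotientGroup.eq_one_iff n).mpr hnN, one_mul]

omit [Fintype G] in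
/-- If `ker χ · M = G` then `χ` restricts irreducibly to `M`. -/
theorem restrict_irr_of_sup [Finite G] (χ : IrrCharacter G) (M : Subgroup G)
    (h : irrKer χ ⊔ M = ⊤) : IsIrrCharacter M (fun m : M => (χ : G → ℂ) m) := by
  obtain ⟨N, hNn, hN, χ', hχ'⟩ := exists_kernel_quotient χ
  have hNK : N = irrKer χ := by
    ext g
    rw [hN, mem_irrKer]
  have hsurj : Function.Surjective ((QuotientGroup.mk' N).comp M.subtype) := by
    intro q
    obtain ⟨g, rfl⟩ := QuotientGroup.mk'_surjective N q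
    have hg : g ∈ (N ⊔ M : Subgroup G) := by rw [hNK, h]; exact Subgroup.mem_top g
    rw [← SetLike.mem_coe, Subgroup.normal_mul] at hg
    obtain ⟨n, hn, m, hm, rfl⟩ := Set.mem_mul.mp hg
    refine ⟨⟨m, hm⟩, ?_⟩
    show QuotientGroup.mk' N m = QuotientGroup.mk' N (n * m)
    have h1 : QuotientGroup.mk' N n = 1 := (QuotientGroup.eq_one_iff n).mpr hn
    rw [map_mul, h1, one_mul]
  have := Helper8.isIrrCharacter_comp_surjective _ hsurj χ'.2
  have heq : (fun m : M => (χ' : G ⧸ N → ℂ) (((QuotientGroup.mk' N).comp M.subtype) m)) =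
      fun m : M => (χ : G → ℂ) m := by
    funext m
    exact hχ' m
  rwa [heq] at this

end Basic

section Dichotomy

variable {G : Type u} [Group G] [Fintype G]

/-- The number of conjugating elements taking `g` into `M`. -/
noncomputable def conjCount (M : Subgroup G) (g : G) : ℕ := by
  classical
  exact (Finset.univ.filter (fun x : G => x⁻¹ * g * x ∈ M)).card

theorem indFun_one_apply (M : Subgroup G) (g : G) :
    indFun M (fun _ : M => (1 : ℂ)) g = (conjCount M g : ℂ) / (Nat.card M : ℂ) := by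
  classical
  unfold indFun conjCount
  have e1 : ∀ y : G, extendByZero M (fun _ : M => (1 : ℂ)) y = if y ∈ M then 1 else 0 := by
    intro y
    by_cases hy : y ∈ M
    · rw [if_pos hy, Helper8.ebz_mem M _ hy]
    · rw [if_neg hy, Helper8.ebz_not_mem M _ hy]
  simp_rw [e1]
  rw [Finset.sum_boole, div_eq_inv_mul]

theorem conjCount_le (M : Subgroup G) (g : G) : conjCount M g ≤ Nat.card G := by
  classical
  unfold conjCount
  rw [Nat.card_eq_fintype_card]
  exact Finset.card_le_univ _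

theorem conjCount_pos_of_mem (M : Subgroup G) (g : G) (hg : g ∈ M) : 0 < conjCount M g := by
  classical
  unfold conjCount
  apply Finset.card_pos.mpr
  refine ⟨1, ?_⟩
  rw [Finset.mem_filter]
  refine ⟨Finset.mem_univ _, ?_⟩
  simpa using hg

theorem mem_normalCore_of_conjCount (M : Subgroup G) (g : G) (h : conjCount M g = Nat.card G) :
    g ∈ M.normalCore := by
  classical
  unfold conjCount at h
  rw [Nat.card_eq_fintype_card, ← Finset.card_univ] at h
  have h1 := Finset.eq_of_subset_of_card_le (Finset.filter_subset _ _) h.ge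
  intro b
  have h2 : b⁻¹ ∈ Finset.univ.filter (fun x : G => x⁻¹ * g * x ∈ M) := by
    rw [h1]; exact Finset.mem_univ _
  rw [Finset.mem_filter] at h2
  simpa using h2.2

/-- The main dichotomy: for a maximal subgroup `M` not containing `ker χ`, either there is a
character of larger degree with smaller kernel, or `χ` vanishes on `M` off the core of `M`. -/
theorem exists_larger_or_core (χ : IrrCharacter G) (M : Subgroup G) (hM : IsCoatom M)
    (hKM : ¬ irrKer χ ≤ M) :
    (∃ ψ : IrrCharacter G, irrDeg χ < irrDeg ψ ∧ irrKer ψ < irrKer χ) ∨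
      (∀ m ∈ M, (χ : G → ℂ) m ≠ 0 → m ∈ M.normalCore) := by
  classical
  haveI : Fintype M := Fintype.ofFinite _
  haveI : Fintype (IrrCharacter G) := Fintype.ofFinite _
  haveI : Fintype (IrrCharacter M) := Fintype.ofFinite _
  have hsup_of : ∀ L : Subgroup G, ¬ L ≤ M → L ⊔ M = ⊤ := by
    intro L hL
    apply hM.2
    apply lt_of_le_of_ne le_sup_right
    intro h
    apply hL
    rw [h]
    exact le_sup_left
  have hθ : IsIrrCharacter M (fun m : M => (χ : G → ℂ) m) :=
    restrict_irr_of_sup χ M (hsup_of _ hKM)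
  obtain ⟨θ', hθ'⟩ : ∃ θ' : IrrCharacter M, (θ' : M → ℂ) = fun m : M => (χ : G → ℂ) m :=
    ⟨⟨_, hθ⟩, rfl⟩
  have hθdeg : irrDeg θ' = irrDeg χ := by
    have h1 := irrDeg_spec θ'
    rw [hθ'] at h1
    have h1' : (χ : G → ℂ) ((1 : M) : G) = (irrDeg θ' : ℂ) := h1
    rw [Subgroup.coe_one, irrDeg_spec] at h1'
    exact_mod_cast h1'.symm
  obtain ⟨Θ, hΘdef⟩ : ∃ Θ : G → ℂ, Θ = indFun M (θ' : M → ℂ) := ⟨_, rfl⟩
  have hΘ : IsCharacter G Θ := by
    rw [hΘdef]
    exact isCharacter_indFun M (IsIrrCharacter.isCharacter θ'.2)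
  have hfrob : ∀ ψ : IrrCharacter G, classInner Θ (ψ : G → ℂ) =
      classInner (θ' : M → ℂ) (fun m : M => (ψ : G → ℂ) m) := by
    intro ψ
    rw [hΘdef]
    exact Helper8.frobenius_reciprocity M _ _ (isClassFunction_irr ψ)
  have hres : ∀ ψ : IrrCharacter G, IsCharacter M (fun m : M => (ψ : G → ℂ) m) :=
    fun ψ => Helper8.isCharacter_restrict M (IsIrrCharacter.isCharacter ψ.2)
  have hsymm : ∀ ψ : IrrCharacter G, classInner Θ (ψ : G → ℂ) ≠ 0 →
      classInner (fun m : M => (ψ : G → ℂ) m) (θ' : M → ℂ) ≠ 0 := by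
    intro ψ hψ h0
    apply hψ
    rw [hfrob, ← classInner_conj_symm, h0, map_zero]
  have hres1 : ∀ ψ : IrrCharacter G, (ψ : G → ℂ) ((1 : M) : G) = (irrDeg ψ : ℂ) := by
    intro ψ
    rw [Subgroup.coe_one, irrDeg_spec]
  by_cases hgood : ∃ ψ : IrrCharacter G, classInner Θ (ψ : G → ℂ) ≠ 0 ∧ irrDeg ψ ≠ irrDeg χ
  · left
    obtain ⟨ψ, hψ, hdeg⟩ := hgood
    have hc := hsymm ψ hψ
    have hle : irrDeg θ' ≤ irrDeg ψ :=
      irrDeg_le_of_constituent (hres ψ) θ' hc (irrDeg ψ) (hres1 ψ)
    rw [hθdeg] at hle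
    have hlt : irrDeg χ < irrDeg ψ := lt_of_le_of_ne hle (Ne.symm hdeg)
    refine ⟨ψ, hlt, ?_⟩
    have hLM : irrKer ψ ≤ M := by
      by_contra hnot
      have hirr := restrict_irr_of_sup ψ M (hsup_of _ hnot)
      obtain ⟨ψM, hψM⟩ : ∃ ψM : IrrCharacter M, (ψM : M → ℂ) = fun m : M => (ψ : G → ℂ) m :=
        ⟨⟨_, hirr⟩, rfl⟩
      have heq : ψM = θ' := by
        by_contra hne
        have h0 := classInner_irr_ne hne
        rw [hψM] at h0
        exact hc h0
      have h1 : (ψ : G → ℂ) ((1 : M) : G) = (θ' : M → ℂ) 1 := by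
        rw [← heq, hψM]
      rw [hres1, irrDeg_spec, hθdeg] at h1
      have : irrDeg ψ = irrDeg χ := by exact_mod_cast h1
      exact hdeg this
    have hLK : irrKer ψ ≤ irrKer χ := by
      intro l hl
      have hlM := hLM hl
      rw [mem_irrKer] at hl ⊢
      have h1 := constituent_apply_eq (hres ψ) θ' hc ⟨l, hlM⟩ (by
        show (ψ : G → ℂ) l = (ψ : G → ℂ) ((1 : M) : G)
        rw [Subgroup.coe_one]; exact hl)
      rw [hθ'] at h1
      have h2 : (χ : G → ℂ) l = (χ : G → ℂ) ((1 : M) : G) := h1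
      rw [Subgroup.coe_one] at h2
      exact h2
    apply lt_of_le_of_ne hLK
    intro h
    apply hKM
    rw [← h]
    exact hLM
  · right
    push Not at hgood
    have hone : ∀ ψ : IrrCharacter G, classInner Θ (ψ : G → ℂ) ≠ 0 →
        classInner Θ (ψ : G → ℂ) = 1 := by
      intro ψ hψ
      have hd := hgood ψ hψ
      have hc := hsymm ψ hψ
      have heq : (fun m : M => (ψ : G → ℂ) m) = (θ' : M → ℂ) := by
        apply IsCharacter.eq_irr_of_constituent_of_deg (hres ψ) θ' hc
        rw [hres1, irrDeg_spec, hθdeg, hd]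
      rw [hfrob, heq]
      exact classInner_irr_self θ'
    have hexp := IsCharacter.eq_sum_classInner hΘ
    obtain ⟨S, hS⟩ : ∃ S : Finset (IrrCharacter G),
        S = Finset.univ.filter (fun ψ : IrrCharacter G => classInner Θ (ψ : G → ℂ) ≠ 0) :=
      ⟨_, rfl⟩
    have hΘΘ : classInner Θ Θ = (S.card : ℂ) := by
      conv_lhs => rw [hexp]
      rw [classInner_sum_sum]
      have : ∀ ψ : IrrCharacter G, classInner Θ (ψ : G → ℂ) *
          (starRingEnd ℂ) (classInner Θ (ψ : G → ℂ)) =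
          if classInner Θ (ψ : G → ℂ) ≠ 0 then 1 else 0 := by
        intro ψ
        by_cases h : classInner Θ (ψ : G → ℂ) ≠ 0
        · rw [if_pos h, hone ψ h]; simp
        · rw [if_neg h]
          push Not at h
          rw [h, zero_mul]
      simp_rw [this]
      rw [Finset.sum_boole, hS]
    have hΘ1 : Θ 1 = (S.card : ℂ) * (irrDeg χ : ℂ) := by
      conv_lhs => rw [hexp]
      rw [Finset.sum_apply]
      have : ∀ ψ : IrrCharacter G, (classInner Θ (ψ : G → ℂ) • (ψ : G → ℂ)) 1 =
          if classInner Θ (ψ : G → ℂ) ≠ 0 then (irrDeg χ : ℂ) else 0 := by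
        intro ψ
        by_cases h : classInner Θ (ψ : G → ℂ) ≠ 0
        · rw [if_pos h, Pi.smul_apply, hone ψ h, one_smul, irrDeg_spec, hgood ψ h]
        · rw [if_neg h]
          push Not at h
          rw [h, zero_smul]
          rfl
      simp_rw [this]
      rw [← Finset.sum_filter, ← hS, Finset.sum_const, nsmul_eq_mul]
    have hχ0 : (irrDeg χ : ℂ) ≠ 0 := Nat.cast_ne_zero.mpr (irrDeg_pos χ).ne'
    have hScard : (S.card : ℂ) = (M.index : ℂ) := by
      have h1 : Θ 1 = (M.index : ℂ) * (irrDeg χ : ℂ) := by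
        rw [hΘdef, Helper5.indFun_apply_one, irrDeg_spec, hθdeg]
      rw [h1] at hΘ1
      exact (mul_right_cancel₀ hχ0 hΘ1).symm
    have hΘχ : classInner Θ (χ : G → ℂ) = 1 := by
      rw [hfrob, ← hθ']
      exact classInner_irr_self θ'
    have hΘeq : ∀ g : G, Θ g = (conjCount M g : ℂ) / (Nat.card M : ℂ) * (χ : G → ℂ) g := by
      intro g
      have h1 := indFun_mul_restrict M (fun _ : M => (1 : ℂ)) (χ : G → ℂ) (isClassFunction_irr χ)
      have h2 : ((fun _ : M => (1 : ℂ)) * fun c : M => (χ : G → ℂ) c) = (θ' : M → ℂ) := by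
        rw [hθ']
        funext m
        simp
      rw [h2, ← hΘdef] at h1
      rw [h1, Pi.mul_apply, indFun_one_apply]
    -- the two sums
    have hG0 : (Nat.card G : ℂ) ≠ 0 := Nat.cast_ne_zero.mpr Nat.card_pos.ne'
    have hM0 : (Nat.card M : ℂ) ≠ 0 := Nat.cast_ne_zero.mpr Nat.card_pos.ne'
    have hGM : (Nat.card G : ℂ) = (Nat.card M : ℂ) * (M.index : ℂ) := by
      rw [← Subgroup.card_mul_index M]
      push_cast
      ring
    have hsum1 : ∑ g : G, ((conjCount M g : ℂ)) ^ 2 *
        ((Complex.normSq ((χ : G → ℂ) g) : ℝ) : ℂ) =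
        (Nat.card G : ℂ) ^ 2 * (Nat.card M : ℂ) := by
      have h1 := hΘΘ
      unfold classInner at h1
      rw [hScard] at h1
      have h2 : ∀ g : G, Θ g * conj (Θ g) = ((Nat.card M : ℂ) ^ 2)⁻¹ *
          ((conjCount M g : ℂ) ^ 2 * ((Complex.normSq ((χ : G → ℂ) g) : ℝ) : ℂ)) := by
        intro g
        rw [hΘeq g, map_mul, map_div₀, Complex.conj_natCast, Complex.conj_natCast,
          ← Complex.mul_conj]
        field_simp
      simp_rw [h2] at h1
      rw [← Finset.mul_sum] at h1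
      have h3 : ∑ g : G, ((conjCount M g : ℂ)) ^ 2 *
          ((Complex.normSq ((χ : G → ℂ) g) : ℝ) : ℂ) =
          (M.index : ℂ) * (Nat.card G : ℂ) * (Nat.card M : ℂ) ^ 2 := by
        field_simp at h1
        rw [h1]; ring
      rw [h3, hGM]; ring
    have hsum2 : ∑ g : G, (conjCount M g : ℂ) *
        ((Complex.normSq ((χ : G → ℂ) g) : ℝ) : ℂ) = (Nat.card G : ℂ) * (Nat.card M : ℂ) := by
      have h1 := hΘχ
      unfold classInner at h1
      have h2 : ∀ g : G, Θ g * conj ((χ : G → ℂ) g) = (Nat.card M : ℂ)⁻¹ *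
          ((conjCount M g : ℂ) * ((Complex.normSq ((χ : G → ℂ) g) : ℝ) : ℂ)) := by
        intro g
        rw [hΘeq g, ← Complex.mul_conj]
        field_simp
      simp_rw [h2] at h1
      rw [← Finset.mul_sum] at h1
      field_simp at h1
      rw [h1]
    -- the real combination
    have hreal : ∑ g : G, Complex.normSq ((χ : G → ℂ) g) * ((conjCount M g : ℝ) *
        ((Nat.card G : ℝ) - (conjCount M g : ℝ))) = 0 := by
      have h1 : ((∑ g : G, Complex.normSq ((χ : G → ℂ) g) * ((conjCount M g : ℝ) *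
          ((Nat.card G : ℝ) - (conjCount M g : ℝ))) : ℝ) : ℂ) = 0 := by
        push_cast
        have h2 : ∀ g : G, ((Complex.normSq ((χ : G → ℂ) g) : ℝ) : ℂ) * ((conjCount M g : ℂ) *
            ((Nat.card G : ℂ) - (conjCount M g : ℂ))) =
            (Nat.card G : ℂ) * ((conjCount M g : ℂ) * ((Complex.normSq ((χ : G → ℂ) g) : ℝ) : ℂ)) -
            (conjCount M g : ℂ) ^ 2 * ((Complex.normSq ((χ : G → ℂ) g) : ℝ) : ℂ) := by
          intro g
          ring
        simp_rw [h2]
        rw [Finset.sum_sub_distrib, ← Finset.mul_sum, hsum1, hsum2]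
        ring
      exact_mod_cast h1
    have hnonneg : ∀ g ∈ (Finset.univ : Finset G),
        0 ≤ Complex.normSq ((χ : G → ℂ) g) * ((conjCount M g : ℝ) *
          ((Nat.card G : ℝ) - (conjCount M g : ℝ))) := by
      intro g _
      apply mul_nonneg (Complex.normSq_nonneg _)
      apply mul_nonneg (Nat.cast_nonneg _)
      rw [sub_nonneg]
      exact_mod_cast conjCount_le M g
    have hzero := (Finset.sum_eq_zero_iff_of_nonneg hnonneg).mp hreal
    intro m hm hχm
    apply mem_normalCore_of_conjCount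
    have h1 := hzero m (Finset.mem_univ _)
    have h2 : Complex.normSq ((χ : G → ℂ) m) ≠ 0 := by
      rw [Ne, Complex.normSq_eq_zero]
      exact hχm
    have h3 : ((conjCount M m : ℝ)) ≠ 0 :=
      Nat.cast_ne_zero.mpr (conjCount_pos_of_mem M m hm).ne'
    rcases mul_eq_zero.mp h1 with h | h
    · exact absurd h h2
    · rcases mul_eq_zero.mp h with h' | h'
      · exact absurd h' h3
      · have : (conjCount M m : ℝ) = (Nat.card G : ℝ) := by linarith
        exact_mod_cast this

end Dichotomy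

end Cfsg.Agent.Helper29.BG
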