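import Cfsg.Agent.Helper29.BGa
import Cfsg.Agent.S0070
import Cfsg.Agent.S0044
import Cfsg.Agent.S0586
import Cfsg.Agent.S0575

set_option autoImplicit false

namespace Cfsg.Agent.Helper29.BG

open Cfsg Cfsg.Agent.Helper24
open scoped ComplexConjugate commutatorElement

universe u

section Frattini

variable {G : Type u} [Group G] [Finite G]

/-- The Frattini argument for a `p`-subgroup of full `p`-power order in a normal subgroup. -/
theorem frattini_arg {p : ℕ} [Fact p.Prime] (N : Subgroup G) [N.Normal] (P₀ : Subgroup G)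
    (hle : P₀ ≤ N) (hcard : Nat.card P₀ = p ^ (Nat.card N).factorization p) :
    Subgroup.normalizer (P₀ : Set G) ⊔ N = ⊤ := by
  have hc : Nat.card (P₀.subgroupOf N) = p ^ (Nat.card N).factorization p := by
    rw [Nat.card_congr (Subgroup.subgroupOfEquivOfLe hle).toEquiv, hcard]
  have := Sylow.normalizer_sup_eq_top (Sylow.ofCard (P₀.subgroupOf N) hc)
  have h2 : ((Sylow.ofCard (P₀.subgroupOf N) hc : Sylow p N) : Subgroup N) = P₀.subgroupOf N := rfl
  rw [h2, Subgroup.map_subgroupOf_eq_of_le hle] at this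
  exact this

end Frattini

section CaseA

variable {G : Type u} [Group G] [Finite G]

theorem irr_one_ne_zero' (χ : IrrCharacter G) : (χ : G → ℂ) 1 ≠ 0 := by
  rw [irrDeg_spec]
  exact Nat.cast_ne_zero.mpr (irrDeg_pos χ).ne'

/-- Broline–Garrison, case of a non-nilpotent kernel. -/
theorem caseA (χ : IrrCharacter G) (hnil : ¬ Group.IsNilpotent (irrKer χ)) :
    ∃ ψ : IrrCharacter G, irrDeg χ < irrDeg ψ ∧ irrKer ψ < irrKer χ := by
  classical
  haveI : Fintype G := Fintype.ofFinite G
  obtain ⟨K, hKdef⟩ : ∃ K : Subgroup G, K = irrKer χ := ⟨_, rfl⟩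
  haveI hKn : K.Normal := by rw [hKdef]; infer_instance
  rw [← hKdef] at hnil ⊢
  have htfae : Group.IsNilpotent K ↔ ∀ (p : ℕ) (_ : Fact p.Prime) (P : Sylow p K),
      (P : Subgroup K).Normal := (Group.isNilpotent_of_finite_tfae (G := K)).out 0 3
  rw [htfae] at hnil
  push Not at hnil
  obtain ⟨p, hp, P, hPn⟩ := hnil
  obtain ⟨P₀, hP₀⟩ : ∃ P₀ : Subgroup G, P₀ = (P : Subgroup K).map K.subtype := ⟨_, rfl⟩
  have hP₀K : P₀ ≤ K := by rw [hP₀]; exact Subgroup.map_subtype_le _
  have hP₀card : Nat.card P₀ = p ^ (Nat.card K).factorization p := by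
    rw [hP₀, Subgroup.card_map_of_injective K.subtype_injective]
    exact Sylow.card_eq_multiplicity P
  have hfrat : Subgroup.normalizer (P₀ : Set G) ⊔ K = ⊤ := frattini_arg K P₀ hP₀K hP₀card
  have hNne : Subgroup.normalizer (P₀ : Set G) ≠ ⊤ := by
    intro htop
    apply hPn
    have hn : P₀.Normal := Subgroup.normalizer_eq_top_iff.mp htop
    have : (P : Subgroup K) = P₀.subgroupOf K := by
      rw [hP₀]
      unfold Subgroup.subgroupOf
      rw [Subgroup.comap_map_eq_self_of_injective K.subtype_injective]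
    rw [this]
    exact hn.subgroupOf K
  obtain ⟨M, hM, hNM⟩ := (eq_top_or_exists_le_coatom (Subgroup.normalizer (P₀ : Set G))).resolve_left hNne
  have hKM : ¬ K ≤ M := by
    intro hle
    apply hM.1
    rw [eq_top_iff, ← hfrat]
    exact sup_le hNM hle
  rcases exists_larger_or_core χ M hM (by rw [← hKdef]; exact hKM) with h | h
  · rw [← hKdef] at h
    exact h
  · exfalso
    have hP₀M : P₀ ≤ M := le_trans Subgroup.le_normalizer hNM
    have hP₀core : P₀ ≤ M.normalCore ⊓ K := by
      intro x hx
      refine ⟨h x (hP₀M hx) ?_, hP₀K hx⟩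
      have hxK : x ∈ irrKer χ := by rw [← hKdef]; exact hP₀K hx
      rw [(mem_irrKer χ x).mp hxK]
      exact irr_one_ne_zero' χ
    haveI : (M.normalCore ⊓ K).Normal := inferInstance
    have hcard' : Nat.card P₀ = p ^ (Nat.card (M.normalCore ⊓ K : Subgroup G)).factorization p := by
      rw [hP₀card]
      congr 1
      apply le_antisymm
      · rw [← Nat.Prime.pow_dvd_iff_le_factorization hp.out Nat.card_pos.ne', ← hP₀card]
        exact Subgroup.card_dvd_of_le hP₀core
      · rw [← Nat.Prime.pow_dvd_iff_le_factorization hp.out Nat.card_pos.ne']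
        exact dvd_trans (Nat.ordProj_dvd _ _) (Subgroup.card_dvd_of_le inf_le_right)
    have hfrat' := frattini_arg (M.normalCore ⊓ K) P₀ hP₀core hcard'
    apply hM.1
    rw [eq_top_iff, ← hfrat']
    exact sup_le hNM (le_trans inf_le_left (Subgroup.normalCore_le M))

end CaseA

section CaseB

variable {G : Type u} [Group G] [Finite G]

/-- Commutators in a nilpotent normal subgroup lie in the Frattini subgroup of `G`. -/
theorem commutator_mem_frattini_of_nilpotent (K : Subgroup G) [K.Normal]
    (hK : Group.IsNilpotent K) (a b : G) (ha : a ∈ K) (hb : b ∈ K) : ⁅a, b⁆ ∈ frattini G := by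
  have hc : commutator K ≤ frattini K := by
    unfold frattini Order.radical
    rw [le_iInf₂_iff]
    intro M hM
    have htfae : Group.IsNilpotent K ↔ ∀ H : Subgroup K, IsCoatom H → H.Normal :=
      (Group.isNilpotent_of_finite_tfae (G := K)).out 0 2
    haveI hMn : M.Normal := htfae.mp hK M hM
    have := Cfsg.Agent.S0586.isSimpleGroup_quotient_of_isCoatom M hM
    rw [← Subgroup.Normal.quotient_commutative_iff_commutator_le]
    infer_instance
  have h1 : ⁅(⟨a, ha⟩ : K), ⟨b, hb⟩⁆ ∈ commutator K :=
    Subgroup.commutator_mem_commutator (Subgroup.mem_top _) (Subgroup.mem_top _)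
  have h2 := Cfsg.Agent.S0575.result K (Subgroup.mem_map_of_mem K.subtype (hc h1))
  exact h2

/-- Broline–Garrison, the Fitting case. -/
theorem caseB (χ : IrrCharacter G) (hK : irrKer χ = fittingSubgroup G)
    (hsolv : Group.IsSolvable (G ⧸ irrKer χ)) (hne : irrKer χ ≠ ⊤) :
    ∃ ψ : IrrCharacter G, irrDeg χ < irrDeg ψ ∧ irrKer ψ < irrKer χ := by
  classical
  haveI : Fintype G := Fintype.ofFinite G
  haveI : Fintype (IrrCharacter G) := Fintype.ofFinite _
  by_contra hno
  obtain ⟨K, hKdef⟩ : ∃ K : Subgroup G, K = irrKer χ := ⟨_, rfl⟩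
  haveI hKn : K.Normal := by rw [hKdef]; infer_instance
  have hKF : K = fittingSubgroup G := by rw [hKdef, hK]
  have hKnil : Group.IsNilpotent K := by
    rw [hKF]; exact Cfsg.Agent.Helper7.fittingSubgroup_isNilpotent
  haveI hGsolv : Group.IsSolvable G := by
    haveI : Group.IsSolvable (irrKer χ) := by
      rw [← hKdef]
      infer_instance
    apply Group.isSolvable_of_ker_le_range (irrKer χ).subtype (QuotientGroup.mk' (irrKer χ))
    rw [QuotientGroup.ker_mk', Subgroup.range_subtype]
  have hΦK : frattini G ≤ K := by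
    rw [hKF]
    exact Cfsg.Agent.Helper7.le_fittingSubgroup inferInstance frattini_nilpotent
  have hmemK : ∀ g : G, g ∈ K ↔ (χ : G → ℂ) g = (χ : G → ℂ) 1 := by
    intro g
    rw [hKdef, mem_irrKer]
  -- the vanishing
  have hvan : ∀ g : G, (χ : G → ℂ) g ≠ 0 → g ∈ K := by
    intro g hg
    have hcomm : ∀ k ∈ K, ⁅g, k⁆ ∈ frattini G := by
      intro k hk
      unfold frattini Order.radical
      simp only [Subgroup.mem_iInf]
      intro M hM
      by_cases hKM : K ≤ M
      · apply hKM
        rw [commutatorElement_def]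
        exact K.mul_mem (hKn.conj_mem k hk g) (K.inv_mem hk)
      · rcases exists_larger_or_core χ M hM (by rw [← hKdef]; exact hKM) with h | h
        · exact absurd h hno
        · have hsup : K ⊔ M = ⊤ := by
            apply hM.2
            apply lt_of_le_of_ne le_sup_right
            intro h'
            apply hKM
            rw [h']
            exact le_sup_left
          have hgm : g ∈ (K ⊔ M : Subgroup G) := by rw [hsup]; exact Subgroup.mem_top g
          rw [← SetLike.mem_coe, Subgroup.normal_mul] at hgm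
          obtain ⟨k₁, hk₁, m₁, hm₁, rfl⟩ := Set.mem_mul.mp hgm
          have hχm : (χ : G → ℂ) m₁ ≠ 0 := by
            rwa [irr_ker_mul χ k₁ m₁ (by rw [← hKdef]; exact hk₁)] at hg
          have hcore := h m₁ hm₁ hχm
          have e : ⁅k₁ * m₁, k⁆ = k₁ * ⁅m₁, k⁆ * k₁⁻¹ * ⁅k₁, k⁆ := by
            simp only [commutatorElement_def]
            group
          have hcn : (M.normalCore).Normal := Subgroup.normalCore_normal M
          have h1 : ⁅m₁, k⁆ ∈ M.normalCore := by
            rw [commutatorElement_def, mul_assoc, mul_assoc]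
            apply Subgroup.mul_mem _ hcore
            rw [← mul_assoc]
            exact hcn.conj_mem _ (Subgroup.inv_mem _ hcore) k
          have h2 : k₁ * ⁅m₁, k⁆ * k₁⁻¹ ∈ M :=
            Subgroup.normalCore_le M (hcn.conj_mem _ h1 k₁)
          have h3 : ⁅k₁, k⁆ ∈ M :=
            frattini_le_coatom hM (commutator_mem_frattini_of_nilpotent K hKnil k₁ k hk₁ hk)
          rw [e]
          exact M.mul_mem h2 h3
    -- pass to the Frattini quotient
    have hcent : QuotientGroup.mk' (frattini G) g ∈
        Subgroup.centralizer (fittingSubgroup (G ⧸ frattini G) : Set (G ⧸ frattini G)) := by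
      rw [Cfsg.Agent.S0070.result, Subgroup.mem_centralizer_iff]
      rintro _ ⟨k, hk, rfl⟩
      rw [← hKF] at hk
      have h1 := hcomm k hk
      rw [← map_mul, ← map_mul]
      apply (QuotientGroup.mk'_eq_mk' (frattini G)).mpr
      have hΦn : (frattini G).Normal := inferInstance
      refine ⟨(k * g)⁻¹ * ⁅g, k⁆ * (k * g), ?_, ?_⟩
      · have := hΦn.conj_mem _ h1 (k * g)⁻¹
        rwa [inv_inv] at this
      · rw [commutatorElement_def]
        group
    have hmem := Cfsg.Agent.S0044.result (G := G ⧸ frattini G) hcent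
    rw [Cfsg.Agent.S0070.result, ← hKF] at hmem
    obtain ⟨k, hk, hkg⟩ := hmem
    have h1 : k⁻¹ * g ∈ frattini G := by
      have := (QuotientGroup.mk'_eq_mk' (frattini G)).mp hkg
      obtain ⟨z, hz, hzg⟩ := this
      have : k⁻¹ * g = z := by rw [← hzg]; group
      rw [this]; exact hz
    have h2 : g = k * (k⁻¹ * g) := by group
    rw [h2]
    exact K.mul_mem hk (hΦK h1)
  -- χ is then the trivial character
  apply hne
  have hsum : ∑ g : G, (χ : G → ℂ) g * conj ((trivIrr G : G → ℂ) g) =
      (Nat.card K : ℂ) * (χ : G → ℂ) 1 := by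
    have h1 : ∀ g : G, (χ : G → ℂ) g * conj ((trivIrr G : G → ℂ) g) =
        if g ∈ K then (χ : G → ℂ) 1 else 0 := by
      intro g
      rw [trivIrr_apply, map_one, mul_one]
      by_cases hg : g ∈ K
      · rw [if_pos hg, (hmemK g).mp hg]
      · rw [if_neg hg]
        by_contra h0
        exact hg (hvan g h0)
    simp_rw [h1]
    rw [← Finset.sum_filter, Finset.sum_const, nsmul_eq_mul]
    congr 2
    rw [Nat.card_eq_fintype_card, Fintype.card_subtype]
  have hinner : classInner (χ : G → ℂ) (trivIrr G : G → ℂ) ≠ 0 := by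
    unfold classInner
    rw [hsum]
    apply mul_ne_zero
    · exact inv_ne_zero (Nat.cast_ne_zero.mpr Nat.card_pos.ne')
    · exact mul_ne_zero (Nat.cast_ne_zero.mpr Nat.card_pos.ne') (irr_one_ne_zero' χ)
  have heq : χ = trivIrr G := by
    by_contra hne'
    exact hinner (classInner_irr_ne hne')
  rw [eq_top_iff]
  intro g _
  rw [mem_irrKer, heq, trivIrr_apply, trivIrr_apply]

end CaseB

end Cfsg.Agent.Helper29.BG
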