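import Mathlib
import Cfsg.Prelude.Def_SolvableStructure
import Cfsg.Agent.Helper3.SysNorm
import Cfsg.Agent.Helper3.ComplSystem2
import Cfsg.Agent.Helper1.MinNormal
import Cfsg.Agent.Helper10.PGroupBasic
import Cfsg.Agent.Lead.HallPrep

set_option autoImplicit false

namespace Cfsg.Agent.Helper29

open Subgroup Cfsg.Agent.Helper3

universe u

/-- System normalizers cover central minimal normal subgroups and avoid eccentric ones. -/
theorem cover_avoid_min {G : Type u} [Group G] [Finite G] [Group.IsSolvable G]
    (K : Nat.Primes → Subgroup G) (hK : Cfsg.IsComplementSystem K) (B : Subgroup G) [hBn : B.Normal]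
    (hB : B ≠ ⊥) (hmin : ∀ N : Subgroup G, N.Normal → N ≤ B → N = ⊥ ∨ N = B) :
    (B ≤ center G → B ≤ Cfsg.systemNormalizer K) ∧
      (¬ B ≤ center G → B ⊓ Cfsg.systemNormalizer K = ⊥) := by
  have hBs : Group.IsSolvable B := inferInstance
  obtain ⟨hBc, p, hp, hpow⟩ := Cfsg.Agent.Helper1.minNormal_elementary B hB hBs hmin
  have : Fact p.Prime := ⟨hp⟩
  have hBp : IsPGroup p B := fun x => ⟨1, by rw [pow_one]; exact Subtype.ext (hpow x x.2)⟩
  have hBab : ∀ x ∈ B, ∀ y ∈ B, x * y = y * x := fun x hx y hy =>
    congrArg Subtype.val (mul_comm' (⟨x, hx⟩ : B) ⟨y, hy⟩)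
  set pp : Nat.Primes := ⟨p, hp⟩ with hpp
  -- (a)
  have ha : ∀ q : Nat.Primes, q ≠ pp → B ≤ K q := by
    intro q hq
    apply normal_pgroup_le_of_not_dvd_index B (K q) hBp
    rw [hK q]
    intro hdvd
    have h1 := (Nat.Prime.dvd_of_dvd_pow hp hdvd)
    have h2 := (Nat.prime_dvd_prime_iff_eq hp q.2).mp h1
    apply hq
    exact Subtype.ext h2.symm
  set S := K pp with hS
  have hSB : B ⊓ S = ⊥ := by
    have hcop : (Nat.card B).Coprime (Nat.card S) := by
      obtain ⟨k, hk⟩ := IsPGroup.iff_card.mp hBp
      rw [hk]
      exact Nat.Coprime.pow_left k (IsComplementSystem.coprime_card hK pp).symm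
    exact (Subgroup.disjoint_of_coprime_natCard hcop).eq_bot
  -- (c)
  have hc : ∀ x ∈ B, x ∈ normalizer (S : Set G) → ∀ s ∈ S, s * x = x * s := by
    intro x hxB hxN s hs
    have h1 : x * s * x⁻¹ * s⁻¹ ∈ S :=
      S.mul_mem ((Subgroup.mem_normalizer_iff.mp hxN s).mp hs) (S.inv_mem hs)
    have h2 : x * s * x⁻¹ * s⁻¹ ∈ B := by
      have : x * s * x⁻¹ * s⁻¹ = x * (s * x⁻¹ * s⁻¹) := by group
      rw [this]
      exact B.mul_mem hxB (hBn.conj_mem _ (B.inv_mem hxB) s)
    have h3 : x * s * x⁻¹ * s⁻¹ ∈ B ⊓ S := Subgroup.mem_inf.mpr ⟨h2, h1⟩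
    rw [hSB, Subgroup.mem_bot] at h3
    calc s * x = (x * s * x⁻¹ * s⁻¹)⁻¹ * (x * s) := by group
      _ = x * s := by rw [h3]; group
  -- (d)
  have hd : ∀ x ∈ B, x ∈ normalizer (S : Set G) → x ∈ Cfsg.systemNormalizer K := by
    intro x hxB hxN
    unfold Cfsg.systemNormalizer
    rw [Subgroup.mem_iInf]
    intro q
    by_cases hq : q = pp
    · rw [hq]; exact hxN
    · exact Subgroup.le_normalizer (ha q hq hxB)
  have hd' : ∀ x, x ∈ Cfsg.systemNormalizer K → x ∈ normalizer (S : Set G) := by
    intro x hx
    unfold Cfsg.systemNormalizer at hx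
    rw [Subgroup.mem_iInf] at hx
    exact hx pp
  refine ⟨?_, ?_⟩
  · intro hcen x hx
    apply hd x hx
    rw [Subgroup.mem_normalizer_iff]
    intro h
    have := Subgroup.mem_center_iff.mp (hcen hx) h
    have e : x * h * x⁻¹ = h := by rw [← this, mul_inv_cancel_right]
    rw [e]
  · intro hncen
    rw [eq_bot_iff]
    intro x hx
    obtain ⟨hxB, hxD⟩ := Subgroup.mem_inf.mp hx
    rw [Subgroup.mem_bot]
    have hxS := hc x hxB (hd' x hxD)
    set C : Subgroup G := centralizer (B : Set G) with hC
    have hCn : C.Normal := inferInstance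
    have hCtop : C ≠ ⊤ := by
      intro h
      apply hncen
      intro b hb
      rw [Subgroup.mem_center_iff]
      intro g
      have : g ∈ C := by rw [h]; exact Subgroup.mem_top _
      rw [hC, Subgroup.mem_centralizer_iff] at this
      exact (this b hb).symm
    have hxC : ∀ c ∈ C, c * x = x * c := by
      intro c hc'
      rw [hC, Subgroup.mem_centralizer_iff] at hc'
      exact (hc' x hxB).symm
    have hnt : Nontrivial (G ⧸ C) := by
      rw [← Finite.one_lt_card_iff_nontrivial, ← Subgroup.index_eq_card]
      have h0 : C.index ≠ 0 := Subgroup.index_ne_zero_of_finite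
      have h1 : C.index ≠ 1 := fun h => hCtop (Subgroup.index_eq_one.mp h)
      omega
    obtain ⟨r, hr, Pb, hPbn, hPbr, hPbne⟩ :=
      Cfsg.Agent.Lead.exists_normal_pgroup_of_isSolvable (G := G ⧸ C)
    have : Fact r.Prime := ⟨hr⟩
    set f := QuotientGroup.mk' C with hf
    have hfs : Function.Surjective f := QuotientGroup.mk'_surjective C
    have hker : f.ker = C := QuotientGroup.ker_mk' C
    set L : Subgroup G := Pb.comap f with hL
    have hLn : L.Normal := inferInstance
    have hLmap : L.map f = Pb := Subgroup.map_comap_eq_self_of_surjective hfs Pb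
    have hCL : C ≤ L := by
      rw [← hker, hL]
      exact Subgroup.ker_le_comap f Pb
    set F : Subgroup G := B ⊓ centralizer (L : Set G) with hF
    have hFn : F.Normal := inferInstance
    have hFbot : F = ⊥ := by
      rcases hmin F hFn inf_le_left with h | h
      · exact h
      · exfalso
        apply hPbne
        have hLC : L ≤ C := by
          intro l hl
          rw [hC, Subgroup.mem_centralizer_iff]
          intro b hb
          have hbF : b ∈ F := by rw [h]; exact hb
          have := (Subgroup.mem_inf.mp hbF).2
          rw [Subgroup.mem_centralizer_iff] at this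
          exact (this l hl).symm
        rw [← hLmap, eq_bot_iff]
        rintro _ ⟨l, hl, rfl⟩
        rw [Subgroup.mem_bot]
        exact (QuotientGroup.eq_one_iff l).mpr (hLC hl)
    by_cases hrp : r = p
    · -- impossible case
      exfalso
      subst hrp
      let R : Sylow r L := default
      set Rm : Subgroup G := (R : Subgroup L).map L.subtype with hRm
      have hRmL : Rm ≤ L := Subgroup.map_subtype_le _
      have hRmp : IsPGroup r Rm := R.isPGroup'.map _
      have hLX : L ≤ C ⊔ Rm := by
        rw [← Subgroup.relIndex_eq_one]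
        have h1 : (C ⊔ Rm).relIndex L ∣ Rm.relIndex L :=
          Subgroup.relIndex_dvd_of_le_left L le_sup_right
        have h2 : (C ⊔ Rm).relIndex L ∣ C.relIndex L :=
          Subgroup.relIndex_dvd_of_le_left L le_sup_left
        have h3 : C.relIndex L = Nat.card Pb := by
          have h3' : ((⊥ : Subgroup (G ⧸ C)).comap f).relIndex L = Nat.card Pb := by
            rw [Subgroup.relIndex_comap, hLmap, Subgroup.relIndex_bot_left]
          have hbc : (⊥ : Subgroup (G ⧸ C)).comap f = C := by
            rw [MonoidHom.comap_bot, hker]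
          rwa [hbc] at h3'
        have h4 : Rm.relIndex L = (R : Subgroup L).index := by
          show (Rm.comap L.subtype).index = _
          rw [hRm, Subgroup.comap_map_eq_self_of_injective L.subtype_injective]
        obtain ⟨k, hk⟩ := IsPGroup.iff_card.mp hPbr
        rw [h3, hk] at h2
        rw [h4] at h1
        have hcop : (r ^ k).Coprime (R : Subgroup L).index :=
          Nat.Coprime.pow_left k ((Nat.Prime.coprime_iff_not_dvd hp).mpr R.not_dvd_index)
        exact Nat.eq_one_of_dvd_coprimes hcop h2 h1
      set T : Subgroup G := B ⊔ Rm with hT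
      have hTp : IsPGroup r T := IsPGroup.to_sup_of_normal_left hBp hRmp
      have hBT : B ≤ T := le_sup_left
      have hN'ne : B.subgroupOf T ≠ ⊥ := by
        intro h
        rw [Subgroup.subgroupOf_eq_bot, disjoint_iff, inf_of_le_left hBT] at h
        exact hB h
      obtain ⟨z, hzN, hz1, hzc⟩ :=
        Cfsg.Agent.Helper10.exists_ne_one_mem_inf_center hTp (B.subgroupOf T) hN'ne
      have hzB : (z : G) ∈ B := hzN
      have hzF : (z : G) ∈ F := by
        refine Subgroup.mem_inf.mpr ⟨hzB, ?_⟩
        rw [Subgroup.mem_centralizer_iff]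
        intro l hl
        have hl' := hLX hl
        have hcent : C ⊔ Rm ≤ centralizer ({(z : G)} : Set G) := by
          refine sup_le ?_ ?_
          · intro c hc'
            rw [Subgroup.mem_centralizer_iff]
            intro y hy
            rw [Set.mem_singleton_iff.mp hy]
            rw [hC, Subgroup.mem_centralizer_iff] at hc'
            exact hc' _ hzB
          · intro t ht
            rw [Subgroup.mem_centralizer_iff]
            intro y hy
            rw [Set.mem_singleton_iff.mp hy]
            have := Subgroup.mem_center_iff.mp hzc ⟨t, le_sup_right (a := B) ht⟩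
            exact (congrArg Subtype.val this).symm
        have := hcent hl'
        rw [Subgroup.mem_centralizer_iff] at this
        exact (this _ (Set.mem_singleton _)).symm
      rw [hFbot, Subgroup.mem_bot] at hzF
      exact hz1 (Subtype.ext hzF)
    · -- r ≠ p
      have hLS : L ≤ S ⊔ C := by
        have h1 : Pb ≤ S.map f := by
          apply normal_pgroup_le_of_not_dvd_index Pb (S.map f) hPbr
          intro hdvd
          have h2 : (S.map f).index ∣ S.index := Subgroup.index_map_dvd S hfs
          rw [hS, hK pp] at h2
          have h3 := Nat.Prime.dvd_of_dvd_pow hr (hdvd.trans h2)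
          exact hrp ((Nat.prime_dvd_prime_iff_eq hr hp).mp h3)
        have h2 := Subgroup.comap_mono (f := f) h1
        rwa [Subgroup.comap_map_eq, hker] at h2
      have hxF : x ∈ F := by
        refine Subgroup.mem_inf.mpr ⟨hxB, ?_⟩
        rw [Subgroup.mem_centralizer_iff]
        intro l hl
        have hcent : S ⊔ C ≤ centralizer ({x} : Set G) := by
          refine sup_le ?_ ?_
          · intro s hs
            rw [Subgroup.mem_centralizer_iff]
            intro y hy
            rw [Set.mem_singleton_iff.mp hy]
            exact (hxS s hs).symm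
          · intro c hc'
            rw [Subgroup.mem_centralizer_iff]
            intro y hy
            rw [Set.mem_singleton_iff.mp hy]
            exact (hxC c hc').symm
        have := hcent (hLS hl)
        rw [Subgroup.mem_centralizer_iff] at this
        exact (this _ (Set.mem_singleton _)).symm
      rw [hFbot, Subgroup.mem_bot] at hxF
      exact hxF

end Cfsg.Agent.Helper29
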