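import Mathlib
import Cfsg.Prelude.Def_SolvableStructure
import Cfsg.Agent.S0583
import Cfsg.Agent.S0586
import Cfsg.Agent.Helper29.CoverAvoid
import Cfsg.Agent.Lead.SylowSystem
import Cfsg.Agent.Lead.Carter0

set_option autoImplicit false
set_option linter.style.haveILetI false

namespace Cfsg.Agent.Helper29

open Subgroup Cfsg.Agent.Helper3
open scoped Pointwise

universe u

/-- In a finite nilpotent group the system normalizer of a complement system is everything. -/
theorem systemNormalizer_eq_top_of_isNilpotent {G : Type*} [Group G] [Finite G]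
    [Group.IsNilpotent G] {K : Nat.Primes → Subgroup G} (hK : Cfsg.IsComplementSystem K) :
    Cfsg.systemNormalizer K = ⊤ := by
  unfold Cfsg.systemNormalizer
  rw [iInf_eq_top]
  intro p
  have hcop : (Nat.card (K p)).Coprime (K p).index := by
    rw [hK p]
    exact Nat.Coprime.pow_right _ (IsComplementSystem.coprime_card hK p)
  have := Cfsg.Agent.Lead.normal_of_coprime_of_isNilpotent (K p) hcop
  exact normalizer_eq_top_iff.mpr this

/-- A complement system exists in a finite solvable group. -/
theorem exists_isComplementSystem {G : Type*} [Group G] [Finite G] [Group.IsSolvable G] :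
    ∃ K : Nat.Primes → Subgroup G, Cfsg.IsComplementSystem K := by
  have h : ∀ p : Nat.Primes, ∃ H : Subgroup G,
      H.index = (p : ℕ) ^ (Nat.card G).factorization p :=
    fun p => Cfsg.Agent.Lead.exists_index_eq_ordProj (G := G) p p.2
  choose K hK using h
  exact ⟨K, hK⟩

/-- The system normalizer of a conjugated system is the conjugate. -/
theorem systemNormalizer_conj {G : Type*} [Group G] (K : Nat.Primes → Subgroup G) (g : G) :
    Cfsg.systemNormalizer (fun p => MulAut.conj g • K p) =
      MulAut.conj g • Cfsg.systemNormalizer K := by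
  ext x
  rw [mem_systemNormalizer_iff, Subgroup.mem_pointwise_smul_iff_inv_smul_mem,
    mem_systemNormalizer_iff]
  apply forall_congr'
  intro p
  rw [← map_inv, MulAut.smul_def, MulAut.conj_apply, inv_inv]
  constructor
  · intro h
    have h2 : MulAut.conj g⁻¹ • MulAut.conj x • MulAut.conj g • K p =
        MulAut.conj g⁻¹ • MulAut.conj g • K p := congrArg (fun H => MulAut.conj g⁻¹ • H) h
    rw [← mul_smul, ← mul_smul, ← mul_smul, ← map_mul, ← map_mul, ← map_mul] at h2
    simpa [mul_assoc] using h2
  · intro h
    have h2 : MulAut.conj g • MulAut.conj (g⁻¹ * x * g) • K p = MulAut.conj g • K p :=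
      congrArg (fun H => MulAut.conj g • H) h
    rw [← mul_smul, ← map_mul] at h2
    rw [← mul_smul, ← map_mul]
    have e : g * (g⁻¹ * x * g) = x * g := by group
    rwa [e] at h2

end Cfsg.Agent.Helper29

namespace Cfsg.Agent.Helper29

open Subgroup Cfsg.Agent.Helper3
open scoped Pointwise

universe u

theorem isSolvable_of_nilpotent_by_nilpotent {G : Type*} [Group G] (F : Subgroup G) [F.Normal]
    (hF : Group.IsNilpotent F) (hGF : Group.IsNilpotent (G ⧸ F)) : Group.IsSolvable G := by
  apply Group.isSolvable_of_ker_le_range F.subtype (QuotientGroup.mk' F)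
  rw [QuotientGroup.ker_mk', Subgroup.range_subtype]

/-- In a finite group of nilpotent length at most two, system normalizers are
self-normalizing. -/
theorem normalizer_systemNormalizer_aux (n : ℕ) : ∀ {G : Type u} [Group G] [Finite G],
    Nat.card G = n → ∀ (F : Subgroup G) [F.Normal], Group.IsNilpotent F →
    Group.IsNilpotent (G ⧸ F) → ∀ K : Nat.Primes → Subgroup G, Cfsg.IsComplementSystem K →
    normalizer ((Cfsg.systemNormalizer K : Subgroup G) : Set G) = Cfsg.systemNormalizer K := by
  induction n using Nat.strong_induction_on with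
  | _ n ih =>
  intro G _ _ hn F _ hF hGF K hK
  haveI : Group.IsSolvable G := isSolvable_of_nilpotent_by_nilpotent F hF hGF
  set D := Cfsg.systemNormalizer K with hD
  by_cases hFbot : F = ⊥
  · subst hFbot
    haveI : Group.IsNilpotent G :=
      Group.nilpotent_of_mulEquiv (QuotientGroup.quotientBot (G := G))
    rw [hD, systemNormalizer_eq_top_of_isNilpotent hK]
    exact normalizer_eq_top_iff.mpr inferInstance
  obtain ⟨N, hNn, hNbot, hNF, hNmin⟩ := Cfsg.Agent.S0586.exists_minimal_normal_le F hFbot
  -- F centralizes N
  have hFcent : F ≤ centralizer (N : Set G) := by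
    refine le_trans ?_ (Cfsg.Agent.S0583.result N hNbot hNmin)
    unfold Cfsg.fittingSubgroup
    exact le_sSup ⟨inferInstance, hF⟩
  -- D ⊔ F = ⊤
  have hDF : D ⊔ F = ⊤ := by
    have h1 := systemNormalizer_map_mk' hK F
    haveI := hGF
    rw [systemNormalizer_eq_top_of_isNilpotent (IsComplementSystem.map_mk' hK F)] at h1
    have h2 := congrArg (Subgroup.comap (QuotientGroup.mk' F)) h1
    rw [Subgroup.comap_map_eq, QuotientGroup.ker_mk', Subgroup.comap_top] at h2
    exact h2.symm
  apply le_antisymm _ le_normalizer
  intro x hx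
  -- pass to G ⧸ N
  have hcard : Nat.card (G ⧸ N) < n := by
    rw [← hn, ← Subgroup.index_eq_card]
    have h1 := Subgroup.card_mul_index N
    have h2 : 1 < Nat.card N := by
      rw [Subgroup.one_lt_card_iff_ne_bot]; exact hNbot
    have h3 : 0 < N.index := Nat.pos_of_ne_zero Subgroup.index_ne_zero_of_finite
    nlinarith
  let π := QuotientGroup.mk' N
  have hπs : Function.Surjective π := QuotientGroup.mk'_surjective N
  haveI : (F.map π).Normal := Subgroup.Normal.map inferInstance π hπs
  have hF' : Group.IsNilpotent (F.map π) :=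
    Group.nilpotent_of_surjective (π.subgroupMap F) (π.subgroupMap_surjective F)
  have hGF' : Group.IsNilpotent ((G ⧸ N) ⧸ F.map π) := by
    haveI := hGF
    apply Group.nilpotent_of_surjective (QuotientGroup.map F (F.map π) π (Subgroup.le_comap_map π F))
    intro y
    obtain ⟨y', rfl⟩ := QuotientGroup.mk'_surjective _ y
    obtain ⟨z, rfl⟩ := hπs y'
    exact ⟨QuotientGroup.mk' F z, rfl⟩
  have hIH := ih _ hcard rfl (F.map π) hF' hGF' _ (IsComplementSystem.map_mk' hK N)
  rw [systemNormalizer_map_mk' hK N] at hIH
  have hxπ : π x ∈ D.map π := by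
    rw [← hIH]
    exact Subgroup.le_normalizer_map π (Subgroup.mem_map_of_mem π hx)
  obtain ⟨d, hdD, hdx⟩ := hxπ
  set m := d⁻¹ * x with hm
  have hmN : m ∈ N := by
    rw [← QuotientGroup.eq_one_iff]
    change π (d⁻¹ * x) = 1
    rw [map_mul, map_inv, hdx, inv_mul_cancel]
  have hmnorm : m ∈ normalizer (D : Set G) :=
    mul_mem (inv_mem (le_normalizer hdD)) hx
  have hxdm : x = d * m := by rw [hm]; group
  rw [hxdm]
  apply mul_mem hdD
  have hca := cover_avoid_min K hK N hNbot hNmin
  by_cases hNc : N ≤ center G
  · exact hca.1 hNc hmN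
  · have hND : N ⊓ D = ⊥ := hca.2 hNc
    -- m centralizes D
    have hmD : ∀ y ∈ D, y * m = m * y := by
      intro y hy
      have h1 : m * y * m⁻¹ * y⁻¹ ∈ N ⊓ D := by
        refine Subgroup.mem_inf.mpr ⟨?_, ?_⟩
        · have : y * m⁻¹ * y⁻¹ ∈ N := hNn.conj_mem _ (inv_mem hmN) y
          have h2 := mul_mem hmN this
          have e : m * (y * m⁻¹ * y⁻¹) = m * y * m⁻¹ * y⁻¹ := by group
          rwa [e] at h2
        · have : m * y * m⁻¹ ∈ D := (mem_normalizer_iff.mp hmnorm y).mp hy
          exact mul_mem this (inv_mem hy)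
      rw [hND, Subgroup.mem_bot] at h1
      have e : m * y = (m * y * m⁻¹ * y⁻¹) * (y * m) := by group
      rw [e, h1, one_mul]
    have hmF : ∀ y ∈ F, y * m = m * y := by
      intro y hy
      have := (Subgroup.mem_centralizer_iff.mp (hFcent hy)) m hmN
      exact this.symm
    have hmc : m ∈ center G := by
      have hle : D ⊔ F ≤ centralizer ({m} : Set G) := by
        apply sup_le
        · intro y hy
          rw [Subgroup.mem_centralizer_iff]
          intro z hz
          rw [Set.mem_singleton_iff] at hz
          rw [hz]; exact (hmD y hy).symm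
        · intro y hy
          rw [Subgroup.mem_centralizer_iff]
          intro z hz
          rw [Set.mem_singleton_iff] at hz
          rw [hz]; exact (hmF y hy).symm
      rw [hDF] at hle
      rw [Subgroup.mem_center_iff]
      intro g
      have := Subgroup.mem_centralizer_iff.mp (hle (Subgroup.mem_top g)) m rfl
      exact this.symm
    rcases hNmin (N ⊓ center G) inferInstance inf_le_left with h | h
    · have : m ∈ N ⊓ center G := Subgroup.mem_inf.mpr ⟨hmN, hmc⟩
      rw [h, Subgroup.mem_bot] at this
      rw [this]; exact one_mem _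
    · exfalso; apply hNc; rw [← h]; exact inf_le_right

end Cfsg.Agent.Helper29
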