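import Mathlib
import Cfsg.Prelude.Def_SolvableStructure
import Cfsg.Agent.Lead.Carter2
import Cfsg.Agent.Lead.HallPrep
import Cfsg.Agent.Helper29.SysNormCarter

set_option autoImplicit false
set_option linter.style.haveILetI false

namespace Cfsg.Agent.Helper29

open Subgroup Cfsg.Agent.Helper3 Cfsg.Agent.Lead
open scoped Pointwise

universe u

theorem carterConjBelow_of_isSolvable {G : Type u} [Group G] [Finite G] [Group.IsSolvable G] :
    CarterConjBelow G := by
  intro K _ C D hC hD hCK hDK
  have hKsolv : Group.IsSolvable K := isSolvable_subgroup K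
  obtain ⟨k, hk⟩ := carter_conj_aux _ (G := ↥K) rfl _ _ (hC.subgroupOf hCK) (hD.subgroupOf hDK)
  have := conj_of_subgroupOf k hk
  rw [inf_eq_left.mpr hCK, inf_eq_left.mpr hDK] at this
  exact ⟨k, k.2, this⟩

theorem relIndex_map_dvd {G G' : Type*} [Group G] [Group G'] (f : G →* G') (X C : Subgroup G) :
    (X.map f).relIndex (C.map f) ∣ X.relIndex C := by
  have h1 := Subgroup.index_map_dvd (X.subgroupOf C) (f.subgroupMap_surjective C)
  have h2 : (X.subgroupOf C).map (f.subgroupMap C) ≤ (X.map f).subgroupOf (C.map f) := by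
    rintro _ ⟨y, hy, rfl⟩
    exact Subgroup.mem_map_of_mem f hy
  exact (Subgroup.index_dvd_of_le h2).trans h1

theorem isNilpotent_quotient_of_sup_eq_top {M : Type*} [Group M] (C T : Subgroup M) [T.Normal]
    (h : C ⊔ T = ⊤) (hC : Group.IsNilpotent C) : Group.IsNilpotent (M ⧸ T) := by
  apply Group.nilpotent_of_surjective ((QuotientGroup.mk' T).comp C.subtype)
  intro y
  obtain ⟨m, rfl⟩ := QuotientGroup.mk'_surjective T y
  have hm : m ∈ C ⊔ T := by rw [h]; exact Subgroup.mem_top m
  rw [← SetLike.mem_coe, Subgroup.mul_normal, Set.mem_mul] at hm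
  obtain ⟨c, hc, t, ht, rfl⟩ := hm
  refine ⟨⟨c, hc⟩, ?_⟩
  change QuotientGroup.mk' T c = QuotientGroup.mk' T (c * t)
  have ht1 : QuotientGroup.mk' T t = 1 := (QuotientGroup.eq_one_iff t).mpr ht
  rw [map_mul, ht1, mul_one]

/-- `K` reduces into `C`: each `K q ⊓ C` has `q`-power index in `C`. -/
def ReducesInto {G : Type*} [Group G] (K : Nat.Primes → Subgroup G) (C : Subgroup G) : Prop :=
  ∀ q : Nat.Primes, ∃ k : ℕ, (K q).relIndex C = (q : ℕ) ^ k

theorem normalizer_le_normalizer_centralizer' {X : Type*} [Group X] (U : Subgroup X) :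
    normalizer (U : Set X) ≤ normalizer ((centralizer (U : Set X) : Subgroup X) : Set X) :=
  (normal_subgroupOf_iff_le_normalizer (centralizer_le_normalizer (U : Set X))).mp
    (normal_subgroupOf_centralizer_normalizer (U : Set X))

/-- If a complement system reduces into a Carter subgroup, then its system normalizer lies in
that Carter subgroup. -/
theorem systemNormalizer_le_carter_aux (n : ℕ) :
    ∀ {G : Type u} [Group G] [Finite G] [Group.IsSolvable G],
    Nat.card G = n → ∀ (C : Subgroup G), IsCarter C → ∀ K : Nat.Primes → Subgroup G,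
    Cfsg.IsComplementSystem K → ReducesInto K C → Cfsg.systemNormalizer K ≤ C := by
  induction n using Nat.strong_induction_on with
  | _ n ih =>
  intro G _ _ _ hn C hC K hK hred
  by_cases htriv : Subsingleton G
  · intro x _
    have : x = 1 := Subsingleton.elim _ _
    rw [this]; exact one_mem _
  have hnt : Nontrivial G := not_subsingleton_iff_nontrivial.mp htriv
  obtain ⟨p, hp, N, hNn, hNp, hNbot⟩ := exists_normal_pgroup_of_isSolvable (G := G)
  haveI : Fact p.Prime := ⟨hp⟩
  set D := Cfsg.systemNormalizer K with hD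
  let π := QuotientGroup.mk' N
  have hπs : Function.Surjective π := QuotientGroup.mk'_surjective N
  -- Step 1: pass to the quotient
  have hcard : Nat.card (G ⧸ N) < n := by
    rw [← hn, ← Subgroup.index_eq_card]
    have h1 := Subgroup.card_mul_index N
    have h2 : 1 < Nat.card N := by
      rw [Subgroup.one_lt_card_iff_ne_bot]; exact hNbot
    have h3 : 0 < N.index := Nat.pos_of_ne_zero Subgroup.index_ne_zero_of_finite
    nlinarith
  have hC' : IsCarter (C.map π) := hC.map_mk' carterConjBelow_of_isSolvable N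
  have hK' := IsComplementSystem.map_mk' hK N
  have hred' : ReducesInto (fun q => (K q).map π) (C.map π) := by
    intro q
    obtain ⟨k, hk⟩ := hred q
    have := relIndex_map_dvd π (K q) C
    rw [hk] at this
    obtain ⟨j, -, hj⟩ := (Nat.dvd_prime_pow q.2).mp this
    exact ⟨j, hj⟩
  have hIH := ih _ hcard rfl (C.map π) hC' _ hK' hred'
  rw [systemNormalizer_map_mk' hK N] at hIH
  have hDH : D ≤ C ⊔ N := by
    have := Subgroup.comap_mono (f := π) hIH
    rw [Subgroup.comap_map_eq, Subgroup.comap_map_eq, QuotientGroup.ker_mk'] at this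
    exact le_sup_left.trans this
  -- Step 2
  set H := C ⊔ N with hH
  set pp : Nat.Primes := ⟨p, hp⟩ with hpp
  set Y := K pp ⊓ C with hY
  obtain ⟨k, hk⟩ := hred pp
  have hYC : Y ≤ C := inf_le_right
  have hYrel : Y.relIndex C = p ^ k := by rw [hY, Subgroup.inf_relIndex_right]; exact hk
  have hKcop : (Nat.card (K pp)).Coprime p := IsComplementSystem.coprime_card hK pp
  have hYcop : (Nat.card Y).Coprime p :=
    Nat.Coprime.coprime_dvd_left (Subgroup.card_dvd_of_le inf_le_left) hKcop
  have hCY : C ≤ normalizer (Y : Set G) :=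
    le_normalizer_of_hall_of_isNilpotent hC.1 hYC
      (by rw [hYrel]; exact Nat.Coprime.pow_right _ hYcop)
  obtain ⟨b, hb⟩ := hNp.exists_card_eq
  have hCH : ∃ j, C.relIndex H = p ^ j := by
    have h1 := relIndex_mul_index_sup N C
    have h2 := Subgroup.relIndex_mul_index (le_sup_right : C ≤ N ⊔ C)
    rw [← h2] at h1
    have h3 : (N ⊔ C).index ≠ 0 := Subgroup.index_ne_zero_of_finite
    have h4 : C.relIndex N = C.relIndex (N ⊔ C) := Nat.eq_of_mul_eq_mul_right (Nat.pos_of_ne_zero h3) h1
    have h5 : C.relIndex H ∣ p ^ b := by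
      rw [hH, sup_comm, ← h4, ← hb]; exact Subgroup.relIndex_dvd_card C N
    obtain ⟨j, -, hj⟩ := (Nat.dvd_prime_pow hp).mp h5
    exact ⟨j, hj⟩
  obtain ⟨j, hj⟩ := hCH
  have hYH : Y.relIndex H = p ^ (k + j) := by
    rw [← relIndex_mul_relIndex Y C H hYC le_sup_left, hYrel, hj, pow_add]
  have hW : K pp ⊓ H = Y := by
    have hYW : Y ≤ K pp ⊓ H := inf_le_inf_left _ le_sup_left
    apply le_antisymm _ hYW
    rw [← Subgroup.relIndex_eq_one]
    have h1 : Y.relIndex (K pp ⊓ H) ∣ p ^ (k + j) := by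
      rw [← hYH]
      exact Dvd.intro _ (relIndex_mul_relIndex Y (K pp ⊓ H) H hYW inf_le_right)
    have h2 : Y.relIndex (K pp ⊓ H) ∣ Nat.card (K pp ⊓ H : Subgroup G) :=
      Subgroup.relIndex_dvd_card Y (K pp ⊓ H)
    have h3 : (Nat.card (K pp ⊓ H : Subgroup G)).Coprime (p ^ (k + j)) :=
      Nat.Coprime.pow_right _
        (Nat.Coprime.coprime_dvd_left (Subgroup.card_dvd_of_le inf_le_left) hKcop)
    exact Nat.Coprime.eq_one_of_dvd (Nat.Coprime.coprime_dvd_left h2 h3) h1
  have hYN : Y ⊓ N = ⊥ :=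
    (Subgroup.disjoint_of_coprime_natCard
      (by rw [hb]; exact Nat.Coprime.pow_right _ hYcop)).eq_bot
  intro x hx
  have hxH : x ∈ H := hDH hx
  have hxmul : x ∈ ((C ⊔ N : Subgroup G) : Set G) := hxH
  rw [Subgroup.mul_normal, Set.mem_mul] at hxmul
  obtain ⟨c, hc, m, hm, hcm⟩ := hxmul
  have hxY : x ∈ normalizer (Y : Set G) := by
    rw [← hW]
    have h1 : x ∈ normalizer (K pp : Set G) := (Subgroup.mem_iInf.mp hx) pp
    have h2 : x ∈ normalizer (H : Set G) := le_normalizer hxH
    rw [← conj_smul_eq_self_iff_mem_normalizer] at h1 h2 ⊢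
    rw [Subgroup.smul_inf, h1, h2]
  have hmY : m ∈ normalizer (Y : Set G) := by
    have : m = c⁻¹ * x := by rw [← hcm]; group
    rw [this]; exact mul_mem (inv_mem (hCY hc)) hxY
  have hmcent : m ∈ centralizer (Y : Set G) := by
    rw [Subgroup.mem_centralizer_iff]
    intro y hy
    have h1 : m * y * m⁻¹ * y⁻¹ ∈ Y ⊓ N := by
      refine mem_inf.mpr ⟨mul_mem ((mem_normalizer_iff.mp hmY y).mp hy) (inv_mem hy), ?_⟩
      have h2 : y * m⁻¹ * y⁻¹ ∈ N := hNn.conj_mem _ (inv_mem hm) y
      have h3 := mul_mem hm h2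
      have e : m * (y * m⁻¹ * y⁻¹) = m * y * m⁻¹ * y⁻¹ := by group
      rwa [e] at h3
    rw [hYN, mem_bot] at h1
    have e : m * y = (m * y * m⁻¹ * y⁻¹) * (y * m) := by group
    rw [e, h1, one_mul]
  set T := N ⊓ centralizer (Y : Set G) with hT
  have hmT : m ∈ T := mem_inf.mpr ⟨hm, hmcent⟩
  suffices hTC : T ≤ C by rw [← hcm]; exact mul_mem hc (hTC hmT)
  have hCT : C ≤ normalizer (T : Set G) := by
    intro c hc
    have h1 : c ∈ normalizer (N : Set G) := by
      rw [normalizer_eq_top_iff.mpr hNn]; exact mem_top c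
    have h2 : c ∈ normalizer ((centralizer (Y : Set G) : Subgroup G) : Set G) :=
      normalizer_le_normalizer_centralizer' Y (hCY hc)
    rw [← conj_smul_eq_self_iff_mem_normalizer] at h1 h2 ⊢
    rw [hT, Subgroup.smul_inf, h1, h2]
  set M := C ⊔ T with hM
  have hCM : C ≤ M := le_sup_left
  have hTM : T ≤ M := le_sup_right
  have hMH : M ≤ H := sup_le le_sup_left (inf_le_left.trans le_sup_right)
  have hTcentY : T ≤ centralizer (Y : Set G) := inf_le_right
  have hMY : M ≤ normalizer (Y : Set G) :=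
    sup_le hCY (hTcentY.trans (centralizer_le_normalizer _))
  have hMT : M ≤ normalizer (T : Set G) := sup_le hCT le_normalizer
  haveI hY'n : (Y.subgroupOf M).Normal := normal_subgroupOf_of_le_normalizer hMY
  haveI hT'n : (T.subgroupOf M).Normal := normal_subgroupOf_of_le_normalizer hMT
  have hsup : C.subgroupOf M ⊔ T.subgroupOf M = ⊤ := by
    rw [← Subgroup.subgroupOf_sup hCM hTM, ← hM, subgroupOf_self]
  have hC'nil : Group.IsNilpotent (C.subgroupOf M) := (hC.subgroupOf hCM).1
  have hq1 : Group.IsNilpotent (↥M ⧸ T.subgroupOf M) :=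
    isNilpotent_quotient_of_sup_eq_top _ _ hsup hC'nil
  have hq2 : Group.IsNilpotent (↥M ⧸ Y.subgroupOf M) := by
    have hidx : (Y.subgroupOf M).index ∣ p ^ (k + j) := by
      rw [← hYH]
      exact Dvd.intro _ (relIndex_mul_relIndex Y M H (hYC.trans hCM) hMH)
    obtain ⟨e, -, he⟩ := (Nat.dvd_prime_pow hp).mp hidx
    have : IsPGroup p (↥M ⧸ Y.subgroupOf M) :=
      IsPGroup.of_card (n := e) (by rw [← he]; exact (index_eq_card _).symm)
    exact this.isNilpotent
  have hMnil : Group.IsNilpotent M := by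
    apply isNilpotent_of_two_homs (QuotientGroup.mk' (T.subgroupOf M))
      (QuotientGroup.mk' (Y.subgroupOf M))
    rw [QuotientGroup.ker_mk', QuotientGroup.ker_mk', eq_bot_iff]
    rintro z ⟨hz1, hz2⟩
    have : (z : G) ∈ Y ⊓ N := mem_inf.mpr ⟨hz2, (inf_le_left : T ≤ N) hz1⟩
    rw [hYN, mem_bot] at this
    rw [mem_bot]; exact Subtype.ext this
  have := eq_top_of_normalizer_eq_of_isNilpotent (C.subgroupOf M) (hC.subgroupOf hCM).2
  rw [Subgroup.subgroupOf_eq_top] at this
  exact hTM.trans this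

/-- Every nilpotent subgroup of a finite solvable group admits a complement system reducing
into it. -/
theorem exists_reducesInto {G : Type u} [Group G] [Finite G] [Group.IsSolvable G]
    (C : Subgroup G) (hCn : Group.IsNilpotent C) :
    ∃ K : Nat.Primes → Subgroup G, Cfsg.IsComplementSystem K ∧ ReducesInto K C := by
  have h : ∀ q : Nat.Primes, ∃ H : Subgroup G,
      H.index = (q : ℕ) ^ (Nat.card G).factorization q ∧ ∃ k : ℕ, H.relIndex C = (q : ℕ) ^ k := by
    intro q
    have hq : (q : ℕ).Prime := q.2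
    -- Hall q'-subgroup of C
    have hC0 : Nat.card C ≠ 0 := Nat.card_pos.ne'
    set v := (Nat.card C).factorization q with hv
    set m := Nat.card C / (q : ℕ) ^ v with hm
    have hcard : Nat.card C = m * (q : ℕ) ^ v := by
      rw [mul_comm]; exact (Nat.ordProj_mul_ordCompl_eq_self (Nat.card C) q).symm
    have hqm : (q : ℕ).Coprime m := Nat.coprime_ordCompl hq hC0
    have hmr : m.Coprime ((q : ℕ) ^ v) := (Nat.Coprime.pow_left _ hqm).symm
    obtain ⟨Q, hQC, hQcard, -⟩ := exists_normal_hall_of_isNilpotent hCn hcard hmr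
    -- Hall q'-subgroup of G containing Q
    have hG0 : Nat.card G ≠ 0 := Nat.card_pos.ne'
    set a := (Nat.card G).factorization q with ha
    set m' := Nat.card G / (q : ℕ) ^ a with hm'
    have hcardG : Nat.card G = m' * (q : ℕ) ^ a := by
      rw [mul_comm]; exact (Nat.ordProj_mul_ordCompl_eq_self (Nat.card G) q).symm
    have hqm' : (q : ℕ).Coprime m' := Nat.coprime_ordCompl hq hG0
    have hmr' : m'.Coprime ((q : ℕ) ^ a) := (Nat.Coprime.pow_left _ hqm').symm
    obtain ⟨H, hHcard, hQH⟩ := hall_exists_ge_aux _ rfl m' ((q : ℕ) ^ a) hcardG hmr' Q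
      (by rw [hQcard]; exact Nat.Coprime.pow_right _ hqm.symm)
    refine ⟨H, ?_, ?_⟩
    · have h3 := H.card_mul_index
      rw [hHcard, hcardG] at h3
      have hmpos : 0 < m' := by
        rcases Nat.eq_zero_or_pos m' with h | h
        · rw [h, zero_mul] at hcardG; exact absurd hcardG hG0
        · exact h
      exact Nat.eq_of_mul_eq_mul_left hmpos h3
    · have h1 : H.relIndex C ∣ Q.relIndex C := Subgroup.relIndex_dvd_of_le_left C hQH
      have h2 := relIndex_mul_card'' hQC
      rw [hQcard, hcard] at h2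
      have hmpos : 0 < m := by
        rcases Nat.eq_zero_or_pos m with h | h
        · rw [h, zero_mul] at hcard; exact absurd hcard hC0
        · exact h
      have h3 : Q.relIndex C = (q : ℕ) ^ v := by
        rw [mul_comm] at h2
        exact Nat.eq_of_mul_eq_mul_left hmpos h2
      rw [h3] at h1
      obtain ⟨k, -, hk⟩ := (Nat.dvd_prime_pow hq).mp h1
      exact ⟨k, hk⟩
  choose K hK1 hK2 using h
  exact ⟨K, hK1, hK2⟩

/-- Every Carter subgroup of a finite solvable group contains a system normalizer. -/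
theorem exists_systemNormalizer_le_carter {G : Type u} [Group G] [Finite G] [Group.IsSolvable G]
    (C : Subgroup G) (hC : IsCarter C) :
    ∃ K : Nat.Primes → Subgroup G, Cfsg.IsComplementSystem K ∧ Cfsg.systemNormalizer K ≤ C := by
  obtain ⟨K, hK, hred⟩ := exists_reducesInto C hC.1
  exact ⟨K, hK, systemNormalizer_le_carter_aux _ rfl C hC K hK hred⟩

end Cfsg.Agent.Helper29
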