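import Mathlib

set_option autoImplicit false

namespace Cfsg.Agent.Helper29.Cdp

/-- The arithmetic core of the covering argument. -/
theorem counting_core {G : Type*} [Fintype G] [DecidableEq G]
    (p n d ι : ℕ) (hp : 2 ≤ p) (hn : 0 < n) (hd : 0 < d)
    (Z : Finset G) (U : G → Finset G) (f r : G → ℕ)
    (hcardG : Fintype.card G = p * p * n)
    (hZcard : Z.card = n)
    (hZU : ∀ x, x ∉ Z → Z ⊆ U x)
    (hUcard : ∀ x, x ∉ Z → (U x).card = p * n)
    (hfr : ∀ g, f g * r g = d)
    (hfZ : ∀ g ∈ Z, f g = d)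
    (hrp : ∀ g, g ∉ Z → p ≤ r g)
    (hI : ∀ x, x ∉ Z → ∀ y, y ∉ U x → d ≤ ι * r x * r y)
    (hsum : p * n * d + p * p * n * ι ≤ ∑ g, f g + p * n * ι) :
    (∀ g, g ∉ Z → r g = p) ∧ ι * (p * p) = d := by
  classical
  obtain ⟨q, rfl⟩ : ∃ q, p = q + 1 := ⟨p - 1, by omega⟩
  have hq : 1 ≤ q := by omega
  -- the complement of Z is nonempty
  have hE : (Finset.univ \ Z).Nonempty := by
    rw [Finset.nonempty_iff_ne_empty]
    intro h
    have h1 : Finset.univ ⊆ Z := Finset.sdiff_eq_empty_iff_subset.mp h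
    have h2 := Finset.card_le_card h1
    rw [Finset.card_univ, hcardG, hZcard] at h2
    have h3 : 4 * n ≤ (q + 1) * (q + 1) * n := Nat.mul_le_mul_right _ (by nlinarith)
    omega
  obtain ⟨x, hxE, hxmin⟩ := Finset.exists_min_image _ r hE
  have hxZ : x ∉ Z := (Finset.mem_sdiff.mp hxE).2
  have hE2 : (Finset.univ \ U x).Nonempty := by
    rw [Finset.nonempty_iff_ne_empty]
    intro h
    have h1 : Finset.univ ⊆ U x := Finset.sdiff_eq_empty_iff_subset.mp h
    have h2 := Finset.card_le_card h1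
    rw [Finset.card_univ, hcardG, hUcard x hxZ] at h2
    have h3 : (q + 1) * (q + 1) * n = (q + 1) * n + q * ((q + 1) * n) := by ring
    have h4 : 0 < q * ((q + 1) * n) := Nat.mul_pos hq (Nat.mul_pos (by omega) hn)
    omega
  obtain ⟨y, hyE, hymin⟩ := Finset.exists_min_image _ r hE2
  have hyU : y ∉ U x := (Finset.mem_sdiff.mp hyE).2
  have hyZ : y ∉ Z := fun h => hyU (hZU x hxZ h)
  have hrpos : ∀ g, 0 < r g := by
    intro g
    rcases Nat.eq_zero_or_pos (r g) with h | h
    · have := hfr g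
      rw [h, mul_zero] at this
      omega
    · exact h
  have hfpos : ∀ g, 0 < f g := by
    intro g
    rcases Nat.eq_zero_or_pos (f g) with h | h
    · have := hfr g
      rw [h, zero_mul] at this
      omega
    · exact h
  -- monotonicity
  have hmono : ∀ g h : G, r h ≤ r g → f g ≤ f h := by
    intro g h hle
    have h1 := hfr g
    have h2 := hfr h
    by_contra hcon
    push Not at hcon
    have : f h * r h < f g * r g := by
      calc f h * r h < f g * r h := Nat.mul_lt_mul_of_pos_right hcon (hrpos h)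
        _ ≤ f g * r g := Nat.mul_le_mul_left _ hle
    omega
  -- splitting the sum
  have hs1 : ∑ g ∈ Finset.univ \ U x, f g + ∑ g ∈ U x, f g = ∑ g, f g :=
    Finset.sum_sdiff (Finset.subset_univ _)
  have hs2 : ∑ g ∈ U x \ Z, f g + ∑ g ∈ Z, f g = ∑ g ∈ U x, f g :=
    Finset.sum_sdiff (hZU x hxZ)
  have hb1 : ∑ g ∈ Finset.univ \ U x, f g ≤ (Finset.univ \ U x).card • f y := by
    apply Finset.sum_le_card_nsmul
    intro g hg
    exact hmono g y (hymin g hg)
  have hb2 : ∑ g ∈ U x \ Z, f g ≤ (U x \ Z).card • f x := by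
    apply Finset.sum_le_card_nsmul
    intro g hg
    apply hmono g x
    apply hxmin g
    rw [Finset.mem_sdiff] at hg ⊢
    exact ⟨Finset.mem_univ _, hg.2⟩
  have hb3 : ∑ g ∈ Z, f g = n * d := by
    rw [Finset.sum_congr rfl hfZ, Finset.sum_const, hZcard, smul_eq_mul]
  have hc1 : (Finset.univ \ U x).card + (q + 1) * n = (q + 1) * (q + 1) * n := by
    rw [Finset.card_sdiff_of_subset (Finset.subset_univ _), Finset.card_univ, hcardG,
      hUcard x hxZ]
    have e : (q + 1) * (q + 1) * n = (q + 1) * q * n + (q + 1) * n := by ring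
    omega
  have hc2 : (U x \ Z).card + n = (q + 1) * n := by
    rw [Finset.card_sdiff_of_subset (hZU x hxZ), hUcard x hxZ, hZcard]
    have e : (q + 1) * n = q * n + n := by ring
    omega
  have hc1' : (Finset.univ \ U x).card = (q + 1) * q * n := by
    have e : (q + 1) * (q + 1) * n = (q + 1) * q * n + (q + 1) * n := by ring
    omega
  have hc2' : (U x \ Z).card = q * n := by
    have e : (q + 1) * n = q * n + n := by ring
    omega
  rw [hc1', smul_eq_mul] at hb1
  rw [hc2', smul_eq_mul] at hb2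
  -- the basic inequality
  have hkey : d + (q + 1) * ι ≤ f x + (q + 1) * f y := by
    have h1 : (q + 1) * n * d + (q + 1) * (q + 1) * n * ι ≤
        (q + 1) * q * n * f y + (q * n * f x + n * d) + (q + 1) * n * ι := by
      calc (q + 1) * n * d + (q + 1) * (q + 1) * n * ι ≤ ∑ g, f g + (q + 1) * n * ι := hsum
        _ ≤ _ := by
          rw [← hs1, ← hs2, hb3]
          have := add_le_add hb1 (add_le_add_right hb2 (n * d))
          omega
    have h2 : q * n * (d + (q + 1) * ι) ≤ q * n * (f x + (q + 1) * f y) := by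
      have e1 : (q + 1) * n * d + (q + 1) * (q + 1) * n * ι =
          q * n * (d + (q + 1) * ι) + (n * d + (q + 1) * n * ι) := by ring
      have e2 : (q + 1) * q * n * f y + (q * n * f x + n * d) + (q + 1) * n * ι =
          q * n * (f x + (q + 1) * f y) + (n * d + (q + 1) * n * ι) := by ring
      rw [e1, e2] at h1
      exact Nat.le_of_add_le_add_right h1
    have h3 : 0 < q * n := Nat.mul_pos hq hn
    exact Nat.le_of_mul_le_mul_left h2 h3
  have hrx := hrp x hxZ
  have hry := hrp y hyZ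
  have hxy : r x ≤ r y := hxmin y (Finset.mem_sdiff.mpr ⟨Finset.mem_univ _, hyZ⟩)
  have hIxy := hI x hxZ y hyU
  have hfx := hfr x
  have hfy := hfr y
  have hkey2 : r x * r y + (q + 1) ≤ r y + (q + 1) * r x := by
    have h1 : (d + (q + 1) * ι) * (r x * r y) ≤ (f x + (q + 1) * f y) * (r x * r y) :=
      Nat.mul_le_mul_right _ hkey
    have h2 : (f x + (q + 1) * f y) * (r x * r y) = d * r y + (q + 1) * d * r x := by
      have e1 : f x * (r x * r y) = d * r y := by rw [← mul_assoc, hfx]
      have e2 : f y * (r x * r y) = d * r x := by rw [mul_comm (r x), ← mul_assoc, hfy]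
      calc (f x + (q + 1) * f y) * (r x * r y)
          = f x * (r x * r y) + (q + 1) * (f y * (r x * r y)) := by ring
        _ = d * r y + (q + 1) * d * r x := by rw [e1, e2]; ring
    have h3 : d * (r x * r y) + (q + 1) * d ≤ (d + (q + 1) * ι) * (r x * r y) := by
      have : (q + 1) * d ≤ (q + 1) * (ι * r x * r y) := Nat.mul_le_mul_left _ hIxy
      have e : (d + (q + 1) * ι) * (r x * r y) = d * (r x * r y) + (q + 1) * (ι * r x * r y) := by
        ring
      rw [e]
      exact Nat.add_le_add_left this _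
    have h4 : d * (r x * r y + (q + 1)) ≤ d * (r y + (q + 1) * r x) := by
      have e1 : d * (r x * r y + (q + 1)) = d * (r x * r y) + (q + 1) * d := by ring
      have e2 : d * (r y + (q + 1) * r x) = d * r y + (q + 1) * d * r x := by ring
      rw [e1, e2, ← h2]
      exact h3.trans h1
    exact Nat.le_of_mul_le_mul_left h4 hd
  have hry' : r y = q + 1 := by
    by_contra hne
    obtain ⟨t, ht⟩ : ∃ t, r y = q + 2 + t := ⟨r y - (q + 2), by omega⟩
    obtain ⟨s, hs⟩ : ∃ s, r x = 2 + s := ⟨r x - 2, by omega⟩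
    rw [ht, hs] at hkey2
    have e : (2 + s) * (q + 2 + t) + (q + 1) =
        (q + 2 + t + (q + 1) * (2 + s)) + (1 + t + s + s * t) := by ring
    omega
  have hrx' : r x = q + 1 := by omega
  have hιd : d ≤ ι * ((q + 1) * (q + 1)) := by
    rw [hrx', hry', mul_assoc] at hIxy
    exact hIxy
  -- tightness
  have hpf : ∀ g, g ∉ Z → (q + 1) * f g ≤ d := by
    intro g hg
    have := hrp g hg
    calc (q + 1) * f g ≤ r g * f g := Nat.mul_le_mul_right _ this
      _ = d := by rw [mul_comm, hfr g]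
  have hs3 : ∑ g ∈ Finset.univ \ Z, f g + ∑ g ∈ Z, f g = ∑ g, f g :=
    Finset.sum_sdiff (Finset.subset_univ _)
  have hc3 : (Finset.univ \ Z).card + n = (q + 1) * (q + 1) * n := by
    rw [Finset.card_sdiff_of_subset (Finset.subset_univ _), Finset.card_univ, hcardG, hZcard]
    have e : (q + 1) * (q + 1) * n = q * (q + 2) * n + n := by ring
    omega
  have hc3' : (Finset.univ \ Z).card = q * (q + 2) * n := by
    have e : (q + 1) * (q + 1) * n = q * (q + 2) * n + n := by ring
    omega
  have hS_le : ∑ g ∈ Finset.univ \ Z, (q + 1) * f g ≤ ∑ _g ∈ Finset.univ \ Z, d := by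
    apply Finset.sum_le_sum
    intro g hg
    exact hpf g (Finset.mem_sdiff.mp hg).2
  have hS_ge : q * (q + 2) * n * d + q * n * (ι * ((q + 1) * (q + 1))) ≤
      ∑ g ∈ Finset.univ \ Z, (q + 1) * f g + q * n * d := by
    rw [← Finset.mul_sum]
    rw [← hs3, hb3] at hsum
    have h5 := Nat.mul_le_mul_left (q + 1) hsum
    have e1 : (q + 1) * ((q + 1) * n * d + (q + 1) * (q + 1) * n * ι) =
        (q * (q + 2) * n * d + q * n * (ι * ((q + 1) * (q + 1)))) +
          (n * d + (q + 1) * (q + 1) * n * ι) := by ring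
    have e2 : (q + 1) * (∑ g ∈ Finset.univ \ Z, f g + n * d + (q + 1) * n * ι) =
        ((q + 1) * ∑ g ∈ Finset.univ \ Z, f g + q * n * d) +
          (n * d + (q + 1) * (q + 1) * n * ι) := by ring
    rw [e1, e2] at h5
    exact Nat.le_of_add_le_add_right h5
  have hconst : ∑ _g ∈ Finset.univ \ Z, d = q * (q + 2) * n * d := by
    rw [Finset.sum_const, hc3', smul_eq_mul]
  have hqn : 0 < q * n := Nat.mul_pos hq hn
  have hιd2 : ι * ((q + 1) * (q + 1)) ≤ d := by
    have : q * n * (ι * ((q + 1) * (q + 1))) ≤ q * n * d := by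
      rw [hconst] at hS_le
      omega
    exact Nat.le_of_mul_le_mul_left this hqn
  have hιeq : ι * ((q + 1) * (q + 1)) = d := le_antisymm hιd2 hιd
  have hSeq : ∑ g ∈ Finset.univ \ Z, (q + 1) * f g = ∑ _g ∈ Finset.univ \ Z, d := by
    apply le_antisymm hS_le
    rw [hconst]
    rw [hιeq] at hS_ge
    omega
  have hall := (Finset.sum_eq_sum_iff_of_le (fun g hg => hpf g (Finset.mem_sdiff.mp hg).2)).mp hSeq
  refine ⟨?_, hιeq⟩
  intro g hg
  have h1 := hall g (Finset.mem_sdiff.mpr ⟨Finset.mem_univ _, hg⟩)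
  have h2 := hfr g
  have h3 : f g * r g = f g * (q + 1) := by rw [h2, ← h1]; ring
  exact Nat.eq_of_mul_eq_mul_left (hfpos g) h3

end Cfsg.Agent.Helper29.Cdp
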