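import Mathlib

set_option autoImplicit false

namespace Cfsg.Agent.Helper29.Cdp

section Dual

variable {A : Type*} [Group A] [Finite A]

theorem card_hom_units (hcomm : ∀ a b : A, a * b = b * a) :
    Nat.card (A →* ℂˣ) = Nat.card A := by
  letI : CommGroup A := { (inferInstance : Group A) with mul_comm := hcomm }
  have : HasEnoughRootsOfUnity ℂ (Monoid.exponent A) := by
    have : NeZero ((Monoid.exponent A : ℕ) : ℂ) :=
      ⟨Nat.cast_ne_zero.mpr Monoid.exponent_ne_zero_of_finite⟩
    infer_instance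
  exact CommGroup.card_monoidHom_of_hasEnoughRootsOfUnity A ℂ

theorem finite_hom_units (hcomm : ∀ a b : A, a * b = b * a) : Finite (A →* ℂˣ) := by
  apply Nat.finite_of_card_ne_zero
  rw [card_hom_units hcomm]
  exact Nat.card_pos.ne'

/-- The annihilator of a subgroup in the dual group. -/
def ann (H : Subgroup A) : Subgroup (A →* ℂˣ) := (MonoidHom.domRestrictHom H ℂˣ).ker

omit [Finite A] in
theorem mem_ann (H : Subgroup A) (μ : A →* ℂˣ) : μ ∈ ann H ↔ ∀ h ∈ H, μ h = 1 := by
  unfold ann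
  rw [MonoidHom.mem_ker, MonoidHom.domRestrictHom_apply, MonoidHom.domRestrict_eq_one_iff]

theorem card_ann_mul_card (hcomm : ∀ a b : A, a * b = b * a) (H : Subgroup A) :
    Nat.card (ann H) * Nat.card H = Nat.card A := by
  have h1 : Nat.card (ann H) = H.index := by
    letI : CommGroup A := { (inferInstance : Group A) with mul_comm := hcomm }
    have : HasEnoughRootsOfUnity ℂ (Monoid.exponent A) := by
      have : NeZero ((Monoid.exponent A : ℕ) : ℂ) :=
        ⟨Nat.cast_ne_zero.mpr Monoid.exponent_ne_zero_of_finite⟩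
      infer_instance
    exact CommGroup.card_domRestrictHom_ker ℂ H
  rw [h1, mul_comm]
  exact Subgroup.card_mul_index H

theorem card_le_ann_inf (hcomm : ∀ a b : A, a * b = b * a) (H K : Subgroup A) :
    Nat.card A ≤ Nat.card (ann H ⊓ ann K : Subgroup (A →* ℂˣ)) * Nat.card H * Nat.card K := by
  have hfin : Finite (A →* ℂˣ) := finite_hom_units hcomm
  have hD := card_hom_units hcomm
  have hidx : ∀ L : Subgroup A, (ann L).index = Nat.card L := by
    intro L
    have h1 := card_ann_mul_card hcomm L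
    have h2 := Subgroup.card_mul_index (ann L)
    rw [hD, ← h1] at h2
    exact Nat.eq_of_mul_eq_mul_left Nat.card_pos h2
  have h3 := Subgroup.index_inf_le (H := ann H) (K := ann K)
  rw [hidx H, hidx K] at h3
  have h4 := Subgroup.card_mul_index (ann H ⊓ ann K)
  rw [hD] at h4
  rw [← h4, mul_assoc]
  exact Nat.mul_le_mul_left _ h3

end Dual

section Kap

variable {G : Type*} [Group G] (Z : Subgroup G) [hZ : Z.Normal]
  (hab : ∀ a ∈ Z, ∀ b ∈ Z, a * b = b * a)

/-- `z ↦ g z g⁻¹ z⁻¹` as an endomorphism of the abelian normal subgroup `Z`. -/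
def kap (g : G) : Z →* Z where
  toFun z := ⟨g * z * g⁻¹ * (z : G)⁻¹, Z.mul_mem (hZ.conj_mem z z.2 g) (Z.inv_mem z.2)⟩
  map_one' := by
    apply Subtype.ext
    simp
  map_mul' := by
    intro a b
    apply Subtype.ext
    show g * ((a * b : Z) : G) * g⁻¹ * ((a * b : Z) : G)⁻¹ =
      (g * a * g⁻¹ * (a : G)⁻¹) * (g * b * g⁻¹ * (b : G)⁻¹)
    rw [Subgroup.coe_mul]
    have h1 : (a : G)⁻¹ * (g * b * g⁻¹) = (g * b * g⁻¹) * (a : G)⁻¹ :=
      hab _ (Z.inv_mem a.2) _ (hZ.conj_mem b b.2 g)
    have h2 : (a : G)⁻¹ * (b : G)⁻¹ = (b : G)⁻¹ * (a : G)⁻¹ :=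
      hab _ (Z.inv_mem a.2) _ (Z.inv_mem b.2)
    calc g * ((a : G) * b) * g⁻¹ * ((a : G) * b)⁻¹
        = g * a * g⁻¹ * ((g * b * g⁻¹) * (a : G)⁻¹) * (b : G)⁻¹ := by
          rw [mul_inv_rev, ← h2]; group
      _ = g * a * g⁻¹ * ((a : G)⁻¹ * (g * b * g⁻¹)) * (b : G)⁻¹ := by rw [h1]
      _ = _ := by group

theorem kap_coe (g : G) (z : Z) :
    ((kap Z hab g z : Z) : G) = g * z * g⁻¹ * (z : G)⁻¹ := rfl

theorem kap_eq_one_iff (g : G) (z : Z) : kap Z hab g z = 1 ↔ g * z = z * g := by
  rw [← Subtype.coe_inj, kap_coe, Subgroup.coe_one, mul_inv_eq_one, mul_inv_eq_iff_eq_mul]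

theorem kap_mul_coe (x y : G) (z : Z) :
    ((kap Z hab (x * y) z : Z) : G) =
      x * (kap Z hab y z : Z) * x⁻¹ * (kap Z hab x z : Z) := by
  simp only [kap_coe]
  group

theorem kap_of_mem (g : G) (hg : g ∈ Z) (z : Z) : kap Z hab g z = 1 := by
  rw [kap_eq_one_iff]
  exact hab g hg z z.2

theorem card_range_mul_card_ker [Finite G] (g : G) :
    Nat.card (kap Z hab g).range * Nat.card (kap Z hab g).ker = Nat.card Z := by
  rw [← Subgroup.index_ker, mul_comm]
  exact Subgroup.card_mul_index _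

theorem conj_kap (g : G) (z : Z) :
    MulAut.conjNormal g (kap Z hab g z) = kap Z hab g (MulAut.conjNormal g z) := by
  apply Subtype.ext
  rw [MulAut.conjNormal_apply, kap_coe, kap_coe, MulAut.conjNormal_apply]
  group

theorem conj_eq_kap_mul (g : G) (z : Z) :
    MulAut.conjNormal g z = kap Z hab g z * z := by
  apply Subtype.ext
  rw [MulAut.conjNormal_apply, Subgroup.coe_mul, kap_coe]
  group

theorem iterate_conj_coe (g : G) (k : ℕ) (z : Z) :
    (((⇑(MulAut.conjNormal g : MulAut Z))^[k] z : Z) : G) = g ^ k * z * (g ^ k)⁻¹ := by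
  induction k with
  | zero => simp
  | succ k ih =>
    rw [Function.iterate_succ_apply', MulAut.conjNormal_apply, ih, pow_succ']
    group

theorem iterate_conj_kap (g : G) (k : ℕ) (z : Z) :
    (⇑(MulAut.conjNormal g : MulAut Z))^[k] (kap Z hab g z) =
      kap Z hab g ((⇑(MulAut.conjNormal g : MulAut Z))^[k] z) := by
  induction k with
  | zero => rfl
  | succ k ih =>
    rw [Function.iterate_succ_apply', ih, conj_kap, Function.iterate_succ_apply']

/-- Lemma (A): a nontrivial commutator image has at least `p` elements. -/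
theorem le_card_range_kap [Finite G] {p : ℕ} (hp : p.Prime) (g : G) (hpow : g ^ p ∈ Z)
    (hg : ∃ z : Z, kap Z hab g z ≠ 1) : p ≤ Nat.card (kap Z hab g).range := by
  by_contra hlt
  push Not at hlt
  set τ : MulAut Z := MulAut.conjNormal g with hτ
  have hper : ∀ z : Z, (⇑τ)^[p] z = z := by
    intro z
    apply Subtype.ext
    rw [iterate_conj_coe]
    rw [hab _ hpow z z.2]
    group
  have hfix : ∀ r ∈ (kap Z hab g).range, τ r = r := by
    intro r hr
    have h1 : Function.minimalPeriod (⇑τ) r ∣ p :=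
      Function.IsPeriodicPt.minimalPeriod_dvd (hper r)
    rcases (Nat.dvd_prime hp).mp h1 with h2 | h2
    · exact Function.minimalPeriod_eq_one_iff_isFixedPt.mp h2
    · exfalso
      obtain ⟨z, rfl⟩ := hr
      have hinj : Function.Injective
          (fun i : Fin p => (⟨(⇑τ)^[i] (kap Z hab g z), by
            rw [iterate_conj_kap]; exact ⟨_, rfl⟩⟩ : (kap Z hab g).range)) := by
        intro i j hij
        have h3 : (⇑τ)^[i] (kap Z hab g z) = (⇑τ)^[j] (kap Z hab g z) :=
          congrArg Subtype.val hij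
        have h4 := Function.iterate_injOn_Iio_minimalPeriod (f := ⇑τ) (x := kap Z hab g z)
        rw [h2] at h4
        exact Fin.ext (h4 (Set.mem_Iio.mpr i.2) (Set.mem_Iio.mpr j.2) h3)
      have := Nat.card_le_card_of_injective _ hinj
      rw [Nat.card_fin] at this
      omega
  obtain ⟨z, hz⟩ := hg
  apply hz
  have hpowk : ∀ k : ℕ, (⇑τ)^[k] z = (kap Z hab g z) ^ k * z := by
    intro k
    induction k with
    | zero => simp
    | succ k ih =>
      rw [Function.iterate_succ_apply', ih, map_mul, map_pow, hfix _ ⟨z, rfl⟩,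
        conj_eq_kap_mul Z hab g z, pow_succ, mul_assoc]
  have h1 : (kap Z hab g z) ^ p = 1 := by
    have := hpowk p
    rw [hper z] at this
    exact (mul_eq_right.mp this.symm)
  have h2 : (kap Z hab g z) ^ Nat.card (kap Z hab g).range = 1 := by
    have : (⟨kap Z hab g z, ⟨z, rfl⟩⟩ : (kap Z hab g).range) ^ Nat.card (kap Z hab g).range = 1 :=
      pow_card_eq_one'
    exact congrArg Subtype.val this
  have h3 : orderOf (kap Z hab g z) ∣ Nat.gcd p (Nat.card (kap Z hab g).range) :=
    Nat.dvd_gcd (orderOf_dvd_of_pow_eq_one h1) (orderOf_dvd_of_pow_eq_one h2)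
  have h4 : Nat.Coprime p (Nat.card (kap Z hab g).range) :=
    Nat.coprime_of_lt_prime Nat.card_pos.ne' hlt hp
  rw [h4] at h3
  exact orderOf_eq_one_iff.mp (Nat.dvd_one.mp h3)

end Kap

section Line

variable {G : Type*} [Group G] (Z : Subgroup G) [hZ : Z.Normal]

/-- The subgroup `Z⟨g⟩`, as a preimage from the quotient. -/
def lineOf (g : G) : Subgroup G :=
  (Subgroup.zpowers (QuotientGroup.mk' Z g)).comap (QuotientGroup.mk' Z)

theorem le_lineOf (g : G) : Z ≤ lineOf Z g := by
  intro z hz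
  unfold lineOf
  rw [Subgroup.mem_comap]
  have : QuotientGroup.mk' Z z = 1 := (QuotientGroup.eq_one_iff z).mpr hz
  rw [this]
  exact Subgroup.one_mem _

theorem self_mem_lineOf (g : G) : g ∈ lineOf Z g := by
  unfold lineOf
  rw [Subgroup.mem_comap]
  exact Subgroup.mem_zpowers _

theorem lineOf_le (g : G) (T : Subgroup G) (hZT : Z ≤ T) (hg : g ∈ T) : lineOf Z g ≤ T := by
  intro w hw
  unfold lineOf at hw
  rw [Subgroup.mem_comap, Subgroup.mem_zpowers_iff] at hw
  obtain ⟨k, hk⟩ := hw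
  rw [← map_zpow] at hk
  have h1 : (g ^ k)⁻¹ * w ∈ Z := by
    have := QuotientGroup.eq.mp hk
    exact this
  have h2 : w = g ^ k * ((g ^ k)⁻¹ * w) := by group
  rw [h2]
  exact T.mul_mem (T.zpow_mem hg k) (hZT h1)

theorem index_lineOf [Finite G] {p : ℕ} (hp : p.Prime) (hidx : Z.index = p * p) (g : G)
    (hg : g ∉ Z) (hpow : g ^ p ∈ Z) : (lineOf Z g).index = p := by
  unfold lineOf
  rw [Subgroup.index_comap_of_surjective _ (QuotientGroup.mk'_surjective Z)]
  have h1 : orderOf (QuotientGroup.mk' Z g) = p := by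
    haveI : Fact p.Prime := ⟨hp⟩
    apply orderOf_eq_prime
    · rw [← map_pow]
      exact (QuotientGroup.eq_one_iff _).mpr hpow
    · intro h
      exact hg ((QuotientGroup.eq_one_iff g).mp h)
  have h2 := Subgroup.card_mul_index (Subgroup.zpowers (QuotientGroup.mk' Z g))
  rw [Nat.card_zpowers, h1] at h2
  have h3 : Nat.card (G ⧸ Z) = p * p := hidx
  rw [h3] at h2
  exact Nat.eq_of_mul_eq_mul_left hp.pos h2

theorem card_lineOf [Finite G] {p : ℕ} (hp : p.Prime) (hidx : Z.index = p * p) (g : G)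
    (hg : g ∉ Z) (hpow : g ^ p ∈ Z) : Nat.card (lineOf Z g) = p * Nat.card Z := by
  have h1 := Subgroup.card_mul_index (lineOf Z g)
  have h2 := Subgroup.card_mul_index Z
  rw [index_lineOf Z hp hidx g hg hpow] at h1
  rw [hidx, ← h1] at h2
  have h3 : p * (p * Nat.card Z) = p * Nat.card (lineOf Z g) := by
    rw [← mul_assoc, mul_comm (p * p), h2, mul_comm]
  exact (Nat.eq_of_mul_eq_mul_left hp.pos h3).symm

theorem eq_top_of_mem [Finite G] {p : ℕ} (hp : p.Prime) (hidx : Z.index = p * p) (x y : G)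
    (hx : x ∉ Z) (hpow : x ^ p ∈ Z) (hy : y ∉ lineOf Z x) (T : Subgroup G) (hZT : Z ≤ T)
    (hxT : x ∈ T) (hyT : y ∈ T) : T = ⊤ := by
  have hle : lineOf Z x ≤ T := lineOf_le Z x T hZT hxT
  have h1 : T.index ∣ p := by
    rw [← index_lineOf Z hp hidx x hx hpow]
    exact Subgroup.index_dvd_of_le hle
  rcases (Nat.dvd_prime hp).mp h1 with h2 | h2
  · exact Subgroup.index_eq_one.mp h2
  · exfalso
    apply hy
    have : lineOf Z x = T := by
      apply Subgroup.eq_of_le_of_card_ge hle
      have h3 := Subgroup.card_mul_index T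
      have h4 := Subgroup.card_mul_index (lineOf Z x)
      rw [h2] at h3
      rw [index_lineOf Z hp hidx x hx hpow, ← h3] at h4
      exact (Nat.eq_of_mul_eq_mul_right hp.pos h4).symm.le
    rw [this]
    exact hyT

end Line

end Cfsg.Agent.Helper29.Cdp
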