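import Cfsg.Agent.Helper29.TwoDegB
import Cfsg.Agent.Helper24.LinUnits
import Cfsg.Agent.Helper24.Ito
import Cfsg.Agent.Helper24.GagolaCentral
import Cfsg.Agent.Helper8.CliffordAb
import Cfsg.Agent.S1489

set_option autoImplicit false

namespace Cfsg.Agent.Helper29.TwoDeg

open Cfsg Cfsg.Agent.Helper24

universe u

section Stab

variable {G : Type u} [Group G]

/-- The stabilizer in `G` of a linear character of a normal subgroup. -/
def stabHom (H : Subgroup G) [hH : H.Normal] (L : H →* ℂˣ) : Subgroup G :=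
  inertiaSubgroup H (fun h => ((L h : ℂˣ) : ℂ))

theorem mem_stabHom (H : Subgroup G) [hH : H.Normal] (L : H →* ℂˣ) (g : G) :
    g ∈ stabHom H L ↔ ∀ h : H, L ⟨g * h * g⁻¹, hH.conj_mem h h.2 g⟩ = L h := by
  unfold stabHom
  rw [mem_inertiaSubgroup]
  constructor
  · intro h x; exact Units.ext (h x)
  · intro h x; rw [h x]

theorem le_stabHom (H : Subgroup G) [hH : H.Normal] (L : H →* ℂˣ) : H ≤ stabHom H L := by
  intro g hg
  rw [mem_stabHom]
  intro h
  have : (⟨g * h * g⁻¹, hH.conj_mem h h.2 g⟩ : H) = ⟨g, hg⟩ * h * (⟨g, hg⟩ : H)⁻¹ := by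
    apply Subtype.ext; simp
  rw [this, map_mul, map_mul, map_inv, mul_comm, ← mul_assoc, inv_mul_cancel, one_mul]

end Stab

section StabProps

variable {G : Type u} [Group G] [Fintype G]

/-- If the stabilizer `T` of a linear character `L` of a normal Hall subgroup `H` is proper, then
`|G : T| = m` and `T / H` is abelian. -/
theorem stab_props {m : ℕ} (h : TwoDegrees G m) (H : Subgroup G) [hH : H.Normal]
    (hcop : (Nat.card H).Coprime H.index) (L : H →* ℂˣ) (hT : stabHom H L ≠ ⊤) :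
    (stabHom H L).index = m ∧
      ∀ a ∈ stabHom H L, ∀ b ∈ stabHom H L, a * b * a⁻¹ * b⁻¹ ∈ H := by
  classical
  set T := stabHom H L with hTdef
  have hHT : H ≤ T := le_stabHom H L
  have : Fintype T := Fintype.ofFinite _
  have : Fintype H := Fintype.ofFinite _
  set H' := H.subgroupOf T with hH'
  have hH'n : H'.Normal := inferInstance
  have : Fintype H' := Fintype.ofFinite _
  have : Fintype (IrrCharacter H') := Fintype.ofFinite _
  have : Fintype (T ⧸ H') := Fintype.ofFinite _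
  have : Fintype (IrrCharacter (T ⧸ H')) := Fintype.ofFinite _
  let e : H' ≃* H := Subgroup.subgroupOfEquivOfLe hHT
  have he : ∀ x : H', ((e x : H) : G) = ((x : T) : G) := fun x => rfl
  let L' : H' →* ℂˣ := L.comp e.toMonoidHom
  have hL' : ∀ x : H', L' x = L (e x) := fun x => rfl
  have hinv' : ∀ (g : T) (n : H'),
      L' ⟨g * n * g⁻¹, hH'n.conj_mem (n : T) n.2 g⟩ = L' n := by
    intro g n
    have hg := (mem_stabHom H L (g : G)).mp g.2 (e n)
    rw [hL', hL', ← hg]
    congr 1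
  have hord : orderOf L' ∣ Nat.card H' := by
    apply orderOf_dvd_of_pow_eq_one
    ext n
    rw [MonoidHom.pow_apply, ← map_pow, pow_card_eq_one', map_one]
    rfl
  have hcardH' : Nat.card H' = Nat.card H := Nat.card_congr e.toEquiv
  have hidx' : H'.index ∣ H.index := Subgroup.relIndex_dvd_index_of_le hHT
  have hcop' : Nat.Coprime H'.index (orderOf L') := by
    rw [hcardH'] at hord
    exact (Nat.Coprime.coprime_dvd_left hord (Nat.Coprime.coprime_dvd_right hidx' hcop)).symm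
  obtain ⟨Mext, hMext, -, -⟩ := exists_unique_extension_hom H' L' hinv' hcop'
  -- the characters
  set θ : H → ℂ := fun x => ((L x : ℂˣ) : ℂ) with hθ
  have hθirr : IsIrrCharacter H θ := isIrrCharacter_of_monoidHom ((Units.coeHom ℂ).comp L)
  have hTmem : ∀ g : G, g ∈ T ↔ ∀ x : H, θ ⟨g * x * g⁻¹, hH.conj_mem x x.2 g⟩ = θ x := by
    intro g
    rw [hTdef]
    unfold stabHom
    rw [mem_inertiaSubgroup]
  set θ' : H' → ℂ := fun x => θ ⟨((x : T) : G), Subgroup.mem_subgroupOf.mp x.2⟩ with hθ'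
  have hθ'L : ∀ x : H', θ' x = ((L' x : ℂˣ) : ℂ) := fun x => rfl
  have hθ'irr : IsIrrCharacter H' θ' := isIrrCharacter_of_monoidHom ((Units.coeHom ℂ).comp L')
  have key : ∀ β : IrrCharacter (T ⧸ H'),
      ∃ ξ : T → ℂ, IsIrrCharacter G (indFun T ξ) ∧ ξ 1 = (β : T ⧸ H' → ℂ) 1 := by
    intro β
    set ξ : T → ℂ := fun t => ((Mext t : ℂˣ) : ℂ) * ((irrInflate H' β : IrrCharacter T) : T → ℂ) t
      with hξ
    have hξirr : IsIrrCharacter T ξ := Helper8.isIrrCharacter_linear_mul Mext (irrInflate H' β).2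
    have hξres : (fun x : H' => ξ x) = ((β : T ⧸ H' → ℂ) 1) • θ' := by
      funext x
      rw [hξ]
      simp only [Pi.smul_apply, smul_eq_mul]
      rw [hMext x, hθ'L]
      have : ((irrInflate H' β : IrrCharacter T) : T → ℂ) (x : T) = (β : T ⧸ H' → ℂ) 1 := by
        show (β : T ⧸ H' → ℂ) ((x : T) : T ⧸ H') = _
        rw [(QuotientGroup.eq_one_iff (x : T)).mpr x.2]
      rw [this, mul_comm]
    have hc : classInner (indFun H' θ') ξ ≠ 0 := by
      rw [Helper8.frobenius_reciprocity H' θ' ξ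
        (IsCharacter.isClassFunction (IsIrrCharacter.isCharacter hξirr)), hξres,
        classInner_smul_right, (isIrrCharacter_iff_classInner_self.mp hθ'irr).2, mul_one]
      intro h0
      rw [map_eq_zero] at h0
      exact irr_one_ne_zero β h0
    have hres := Cfsg.Agent.S1489.result H T θ hθirr hTmem hHT ξ ξ hξirr hξirr hc hc
    refine ⟨ξ, hres.1, ?_⟩
    rw [hξ]
    simp only [map_one, Units.val_one, one_mul]
    show (β : T ⧸ H' → ℂ) ((1 : T) : T ⧸ H') = _
    rfl
  have hTidx1 : T.index ≠ 1 := fun h1 => hT (Subgroup.index_eq_one.mp h1)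
  have hall : ∀ β : IrrCharacter (T ⧸ H'), T.index * irrDeg β = m := by
    intro β
    obtain ⟨ξ, hirr, hξ1⟩ := key β
    have hdeg : indFun T ξ 1 = ((T.index * irrDeg β : ℕ) : ℂ) := by
      rw [Helper5.indFun_apply_one, hξ1, irrDeg_spec]
      push_cast; rfl
    have h2 : irrDeg ⟨indFun T ξ, hirr⟩ = T.index * irrDeg β := by
      have h3 : indFun T ξ 1 = ((irrDeg ⟨indFun T ξ, hirr⟩ : ℕ) : ℂ) :=
        irrDeg_spec ⟨indFun T ξ, hirr⟩
      rw [hdeg] at h3
      exact_mod_cast h3.symm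
    have h1 := h.irrDeg_cases ⟨indFun T ξ, hirr⟩
    rw [h2] at h1
    rcases h1 with h1 | h1
    · exact absurd (Nat.eq_one_of_mul_eq_one_right h1) hTidx1
    · exact h1
  have hTm : T.index = m := by
    have := hall (trivIrr (T ⧸ H'))
    have h1 : irrDeg (trivIrr (T ⧸ H')) = 1 := (irrDeg_eq_one_iff _).mpr rfl
    rwa [h1, mul_one] at this
  refine ⟨hTm, ?_⟩
  have hm0 : 0 < m := by
    rw [← hTm]; exact Nat.pos_of_ne_zero Subgroup.index_ne_zero_of_finite
  have hlin : ∀ β : IrrCharacter (T ⧸ H'), (β : T ⧸ H' → ℂ) 1 = 1 := by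
    intro β
    have := hall β
    rw [hTm] at this
    have h1 : m * irrDeg β = m * 1 := by rw [this, mul_one]
    exact (irrDeg_eq_one_iff β).mp (Nat.eq_of_mul_eq_mul_left hm0 h1)
  have hcomm := (comm_iff_forall_irr_one (G := T ⧸ H')).mpr hlin
  intro a ha b hb
  have h1 := hcomm ((⟨a, ha⟩ : T) : T ⧸ H') ((⟨b, hb⟩ : T) : T ⧸ H')
  have h2 : (((⟨a, ha⟩ : T) * ⟨b, hb⟩ * (⟨a, ha⟩ : T)⁻¹ * (⟨b, hb⟩ : T)⁻¹ : T) : T ⧸ H') = 1 := by
    rw [QuotientGroup.mk_mul, QuotientGroup.mk_mul, QuotientGroup.mk_mul, h1,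
      QuotientGroup.mk_inv, QuotientGroup.mk_inv]
    group
  have h3 := (QuotientGroup.eq_one_iff _).mp h2
  exact Subgroup.mem_subgroupOf.mp h3

end StabProps

end Cfsg.Agent.Helper29.TwoDeg
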