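import Cfsg.Agent.Helper29.CdpA
import Cfsg.Agent.Helper29.CdpB
import Cfsg.Agent.Helper29.TwoDegD
import Cfsg.Agent.Helper29.GalConjB

set_option autoImplicit false

namespace Cfsg.Agent.Helper29.Cdp

open Cfsg Cfsg.Agent.Helper24 Cfsg.Agent.Helper29.TwoDeg

universe u

section Stab

variable {G : Type u} [Group G] (Z : Subgroup G) [hZ : Z.Normal]
  (hab : ∀ a ∈ Z, ∀ b ∈ Z, a * b = b * a)

theorem mem_stabHom_iff_kap (L : Z →* ℂˣ) (g : G) :
    g ∈ stabHom Z L ↔ L ∈ ann (kap Z hab g).range := by
  have h2 : ∀ z : Z, (⟨g * z * g⁻¹, hZ.conj_mem z z.2 g⟩ : Z) = kap Z hab g z * z := by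
    intro z
    apply Subtype.ext
    rw [Subgroup.coe_mul, kap_coe]
    group
  rw [mem_stabHom, mem_ann]
  constructor
  · rintro h _ ⟨z, rfl⟩
    have h1 := h z
    rw [h2, map_mul] at h1
    exact mul_eq_right.mp h1
  · intro h z
    rw [h2, map_mul, h _ ⟨z, rfl⟩, one_mul]

end Stab

/-- The self-centralizing case: the centre has index `p ^ 3`. -/
theorem center_index_of_selfcentralizing {G : Type u} [Group G] [Finite G] (p : ℕ) (hp : p.Prime)
    (Z : Subgroup G) [hZ : Z.Normal] (hab : ∀ a ∈ Z, ∀ b ∈ Z, a * b = b * a)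
    (hidx : Z.index = p * p) (hpow : ∀ g : G, g ^ p ∈ Z)
    (hself : ∀ g : G, (∀ z ∈ Z, g * z = z * g) → g ∈ Z)
    (hS : ∀ L : Z →* ℂˣ, ∃ g, g ∉ Z ∧ g ∈ stabHom Z L) :
    (Subgroup.center G).index = p ^ 3 := by
  classical
  haveI : Fintype G := Fintype.ofFinite G
  have habZ : ∀ a b : Z, a * b = b * a := fun a b => Subtype.ext (hab a a.2 b b.2)
  haveI : Finite (Z →* ℂˣ) := finite_hom_units habZ
  haveI : Fintype (Z →* ℂˣ) := Fintype.ofFinite _
  obtain ⟨n, hn⟩ : ∃ n, n = Nat.card Z := ⟨_, rfl⟩
  have hnpos : 0 < n := hn ▸ Nat.card_pos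
  have hD : Fintype.card (Z →* ℂˣ) = n := by
    rw [← Nat.card_eq_fintype_card, card_hom_units habZ, hn]
  have hcardG' : Nat.card G = p * p * n := by
    rw [← Subgroup.card_mul_index Z, hidx, hn, mul_comm]
  have hcardG : Fintype.card G = p * p * n := by
    rw [← Nat.card_eq_fintype_card, hcardG']
  have hcardSub : ∀ T : Subgroup G, (Finset.univ.filter (fun g : G => g ∈ T)).card = Nat.card T := by
    intro T
    rw [Nat.card_eq_fintype_card, Fintype.card_subtype]
  -- the key functions
  obtain ⟨f, hf⟩ : ∃ f : G → ℕ, f = fun g =>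
      (Finset.univ.filter (fun L : Z →* ℂˣ => g ∈ stabHom Z L)).card := ⟨_, rfl⟩
  obtain ⟨r, hr⟩ : ∃ r : G → ℕ, r = fun g => Nat.card (kap Z hab g).range := ⟨_, rfl⟩
  obtain ⟨I, hI⟩ : ∃ I : Finset (Z →* ℂˣ), I = Finset.univ.filter (fun L => stabHom Z L = ⊤) :=
    ⟨_, rfl⟩
  have hfann : ∀ g, f g = Nat.card (ann (kap Z hab g).range) := by
    intro g
    have h1 : Finset.univ.filter (fun L : Z →* ℂˣ => g ∈ stabHom Z L) =
        Finset.univ.filter (fun L : Z →* ℂˣ => L ∈ ann (kap Z hab g).range) :=
      Finset.filter_congr (fun L _ => mem_stabHom_iff_kap Z hab L g)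
    rw [hf]
    show (Finset.univ.filter (fun L : Z →* ℂˣ => g ∈ stabHom Z L)).card = _
    rw [h1, Nat.card_eq_fintype_card, Fintype.card_subtype]
  have hfr : ∀ g, f g * r g = n := by
    intro g
    rw [hfann, hr, hn]
    exact card_ann_mul_card habZ _
  have hnontriv : ∀ g, g ∉ Z → ∃ z : Z, kap Z hab g z ≠ 1 := by
    intro g hg
    by_contra hcon
    push Not at hcon
    apply hg
    apply hself
    intro z hz
    exact (kap_eq_one_iff Z hab g ⟨z, hz⟩).mp (hcon ⟨z, hz⟩)
  have hZne : ∃ x, x ∉ Z := by
    by_contra hcon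
    push Not at hcon
    have : Z = ⊤ := by rw [eq_top_iff]; intro g _; exact hcon g
    rw [this, Subgroup.index_top] at hidx
    have := hp.two_le
    nlinarith
  have hLne : ∀ x, x ∉ Z → ∃ y, y ∉ lineOf Z x := by
    intro x hx
    by_contra hcon
    push Not at hcon
    have : lineOf Z x = ⊤ := by rw [eq_top_iff]; intro g _; exact hcon g
    have h2 := index_lineOf Z hp hidx x hx (hpow x)
    rw [this, Subgroup.index_top] at h2
    exact hp.one_lt.ne h2
  have hImem : ∀ (x y : G), x ∉ Z → y ∉ lineOf Z x → ∀ L : Z →* ℂˣ,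
      L ∈ ann (kap Z hab x).range → L ∈ ann (kap Z hab y).range → L ∈ I := by
    intro x y hx hy L hLx hLy
    rw [hI, Finset.mem_filter]
    refine ⟨Finset.mem_univ _, ?_⟩
    exact eq_top_of_mem Z hp hidx x y hx (hpow x) hy _ (le_stabHom Z L)
      ((mem_stabHom_iff_kap Z hab L x).mpr hLx) ((mem_stabHom_iff_kap Z hab L y).mpr hLy)
  -- apply the counting core
  have hcore := counting_core p n n I.card hp.two_le hnpos hnpos
    (Finset.univ.filter (fun g : G => g ∈ Z))
    (fun x => Finset.univ.filter (fun g : G => g ∈ lineOf Z x)) f r hcardG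
    (by rw [hcardSub, hn])
    (by
      intro x _ g hg
      rw [Finset.mem_filter] at hg ⊢
      exact ⟨hg.1, le_lineOf Z x hg.2⟩)
    (by
      intro x hx
      have hx' : x ∉ Z := fun h => hx (Finset.mem_filter.mpr ⟨Finset.mem_univ _, h⟩)
      show (Finset.univ.filter (fun g : G => g ∈ lineOf Z x)).card = p * n
      rw [hcardSub, card_lineOf Z hp hidx x hx' (hpow x), hn])
    hfr
    (by
      intro g hg
      have hg' : g ∈ Z := (Finset.mem_filter.mp hg).2
      rw [hf]
      show (Finset.univ.filter (fun L : Z →* ℂˣ => g ∈ stabHom Z L)).card = n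
      rw [Finset.filter_true_of_mem (fun L _ => le_stabHom Z L hg'), Finset.card_univ, hD])
    (by
      intro g hg
      have hg' : g ∉ Z := fun h => hg (Finset.mem_filter.mpr ⟨Finset.mem_univ _, h⟩)
      rw [hr]
      exact le_card_range_kap Z hab hp g (hpow g) (hnontriv g hg'))
    (by
      intro x hx y hy
      have hx' : x ∉ Z := fun h => hx (Finset.mem_filter.mpr ⟨Finset.mem_univ _, h⟩)
      have hy' : y ∉ lineOf Z x := fun h => hy (Finset.mem_filter.mpr ⟨Finset.mem_univ _, h⟩)
      have h1 := card_le_ann_inf habZ (kap Z hab x).range (kap Z hab y).range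
      have h2 : Nat.card (ann (kap Z hab x).range ⊓ ann (kap Z hab y).range :
          Subgroup (Z →* ℂˣ)) ≤ I.card := by
        rw [Nat.card_eq_fintype_card, Fintype.card_subtype]
        apply Finset.card_le_card
        intro L hL
        rw [Finset.mem_filter] at hL
        exact hImem x y hx' hy' L hL.2.1 hL.2.2
      rw [← hn] at h1
      rw [hr]
      calc n ≤ _ := h1
        _ ≤ I.card * Nat.card (kap Z hab x).range * Nat.card (kap Z hab y).range :=
          Nat.mul_le_mul_right _ (Nat.mul_le_mul_right _ h2))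
    (by
      -- double counting
      have hswap : ∑ g, f g = ∑ L : Z →* ℂˣ, Nat.card (stabHom Z L) := by
        rw [hf]
        simp only [Finset.card_filter]
        rw [Finset.sum_comm]
        refine Finset.sum_congr rfl fun L _ => ?_
        rw [← Finset.card_filter, hcardSub]
      have hterm : ∀ L : Z →* ℂˣ, p * n + (if stabHom Z L = ⊤ then p * p * n else 0) ≤
          Nat.card (stabHom Z L) + (if stabHom Z L = ⊤ then p * n else 0) := by
        intro L
        by_cases hL : stabHom Z L = ⊤
        · rw [if_pos hL, if_pos hL, hL, Subgroup.card_top, hcardG']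
          omega
        · rw [if_neg hL, if_neg hL, add_zero, add_zero]
          have hZT : Z ≤ stabHom Z L := le_stabHom Z L
          obtain ⟨g, hgZ, hgT⟩ := hS L
          have h1 : (stabHom Z L).index ∣ p ^ 2 := by
            rw [pow_two, ← hidx]
            exact Subgroup.index_dvd_of_le hZT
          obtain ⟨k, hk, hTk⟩ := (Nat.dvd_prime_pow hp).mp h1
          have h2 := Subgroup.card_mul_index (stabHom Z L)
          rw [hcardG', hTk] at h2
          interval_cases k
          · exfalso
            rw [pow_zero] at hTk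
            exact hL (Subgroup.index_eq_one.mp hTk)
          · rw [pow_one] at h2
            have h3 : Nat.card (stabHom Z L) * p = (p * n) * p := by rw [h2]; ring
            exact (Nat.eq_of_mul_eq_mul_right hp.pos h3).ge
          · exfalso
            apply hgZ
            have h3 : Nat.card (stabHom Z L) * p ^ 2 = n * p ^ 2 := by rw [h2]; ring
            have h4 : Nat.card (stabHom Z L) = n :=
              Nat.eq_of_mul_eq_mul_right (pow_pos hp.pos 2) h3
            have h5 : Z = stabHom Z L := by
              apply Subgroup.eq_of_le_of_card_ge hZT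
              rw [h4, hn]
            rw [h5]
            exact hgT
      have hsumle := Finset.sum_le_sum (fun L (_ : L ∈ Finset.univ) => hterm L)
      rw [Finset.sum_add_distrib, Finset.sum_add_distrib, Finset.sum_const, Finset.card_univ, hD,
        ← Finset.sum_filter, ← Finset.sum_filter, Finset.sum_const, Finset.sum_const, ← hI,
        ← hswap] at hsumle
      simp only [smul_eq_mul] at hsumle
      have e1 : p * n * n + p * p * n * I.card = n * (p * n) + I.card * (p * p * n) := by ring
      have e2 : p * n * I.card = I.card * (p * n) := by ring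
      rw [e1, e2]
      exact hsumle)
  obtain ⟨hrp, hιn⟩ := hcore
  have hrp' : ∀ g, g ∉ Z → Nat.card (kap Z hab g).range = p := by
    intro g hg
    have := hrp g (fun h => hg (Finset.mem_filter.mp h).2)
    rw [hr] at this
    exact this
  obtain ⟨x, hx⟩ := hZne
  obtain ⟨y, hy⟩ := hLne x hx
  have hyZ : y ∉ Z := fun h => hy (le_lineOf Z x h)
  have hxy : x * y ∉ lineOf Z x := by
    intro h
    exact hy ((Subgroup.mul_mem_cancel_left _ (self_mem_lineOf Z x)).mp h)
  have hxyZ : x * y ∉ Z := fun h => hxy (le_lineOf Z x h)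
  -- kernel cardinalities
  have hker : ∀ g, g ∉ Z → Nat.card (kap Z hab g).ker * p = n := by
    intro g hg
    have := card_range_mul_card_ker Z hab g
    rw [hrp' g hg, ← hn] at this
    rw [mul_comm]; exact this
  -- the kernels coincide
  have hkeq : (kap Z hab x).ker = (kap Z hab y).ker := by
    by_contra hne
    have hnle : ¬ (kap Z hab y).ker ≤ (kap Z hab x).ker := by
      intro hle
      apply hne
      symm
      apply Subgroup.eq_of_le_of_card_ge hle
      have h1 := hker x hx
      have h2 := hker y hyZ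
      rw [← h2] at h1
      exact (Nat.eq_of_mul_eq_mul_right hp.pos h1).le
    obtain ⟨z₁, hz₁y, hz₁x⟩ := SetLike.not_le_iff_exists.mp hnle
    rw [MonoidHom.mem_ker] at hz₁y hz₁x
    have hc : kap Z hab (x * y) z₁ = kap Z hab x z₁ := by
      apply Subtype.ext
      rw [kap_mul_coe, hz₁y, Subgroup.coe_one, mul_one, mul_inv_cancel, one_mul]
    have hle : (kap Z hab x).range ≤ (kap Z hab (x * y)).range := by
      rcases GalConj.le_or_inf_eq_bot_of_card_prime hp (kap Z hab x).range
        (kap Z hab (x * y)).range (hrp' x hx) with h | h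
      · exact h
      · exfalso
        apply hz₁x
        have : kap Z hab x z₁ ∈ (kap Z hab x).range ⊓ (kap Z hab (x * y)).range :=
          ⟨⟨z₁, rfl⟩, ⟨z₁, hc⟩⟩
        rw [h, Subgroup.mem_bot] at this
        exact this
    have h1 : f (x * y) ≤ I.card := by
      rw [hfann, Nat.card_eq_fintype_card, Fintype.card_subtype]
      apply Finset.card_le_card
      intro L hL
      rw [Finset.mem_filter] at hL
      have hLx : L ∈ ann (kap Z hab x).range := by
        rw [mem_ann]
        intro h hh
        exact (mem_ann _ L).mp hL.2 h (hle hh)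
      exact hImem x (x * y) hx hxy L hLx hL.2
    have h2 := hfr (x * y)
    have h3 : r (x * y) = p := by rw [hr]; exact hrp' (x * y) hxyZ
    rw [h3, ← hιn] at h2
    have h4 : f (x * y) = I.card * p := by
      apply Nat.eq_of_mul_eq_mul_right hp.pos
      rw [h2]; ring
    have hιpos : 0 < I.card := by
      rcases Nat.eq_zero_or_pos I.card with h | h
      · rw [h, zero_mul] at hιn; omega
      · exact h
    have := hp.two_le
    nlinarith
  -- the centre
  have hcen : Nat.card (Subgroup.center G) = Nat.card (kap Z hab x).ker := by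
    apply Nat.card_congr
    refine ⟨fun c => ⟨⟨c, hself c (fun z _ => (Subgroup.mem_center_iff.mp c.2 z).symm)⟩, ?_⟩,
      fun z => ⟨((z : Z) : G), ?_⟩, ?_, ?_⟩
    · rw [MonoidHom.mem_ker, kap_eq_one_iff]
      exact Subgroup.mem_center_iff.mp c.2 x
    · have hzx : x * ((z : Z) : G) = ((z : Z) : G) * x :=
        (kap_eq_one_iff Z hab x z).mp (MonoidHom.mem_ker.mp z.2)
      have hzy : y * ((z : Z) : G) = ((z : Z) : G) * y := by
        have : (z : Z) ∈ (kap Z hab y).ker := hkeq ▸ z.2
        exact (kap_eq_one_iff Z hab y z).mp (MonoidHom.mem_ker.mp this)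
      have htop : Subgroup.centralizer {((z : Z) : G)} = ⊤ := by
        apply eq_top_of_mem Z hp hidx x y hx (hpow x) hy
        · intro w hw
          rw [Subgroup.mem_centralizer_iff]
          intro h hh
          rw [Set.mem_singleton_iff] at hh
          rw [hh]
          exact hab _ (z : Z).2 w hw
        · rw [Subgroup.mem_centralizer_iff]
          intro h hh
          rw [Set.mem_singleton_iff] at hh
          rw [hh]
          exact hzx.symm
        · rw [Subgroup.mem_centralizer_iff]
          intro h hh
          rw [Set.mem_singleton_iff] at hh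
          rw [hh]
          exact hzy.symm
      rw [Subgroup.mem_center_iff]
      intro g
      have hg : g ∈ Subgroup.centralizer {((z : Z) : G)} := by rw [htop]; exact Subgroup.mem_top g
      rw [Subgroup.mem_centralizer_iff] at hg
      exact (hg _ (Set.mem_singleton _)).symm
    · intro c
      rfl
    · intro z
      rfl
  have h1 := Subgroup.card_mul_index (Subgroup.center G)
  have h2 := hker x hx
  rw [hcardG', hcen, ← h2] at h1
  have h3 : Nat.card (kap Z hab x).ker * (Subgroup.center G).index =
      Nat.card (kap Z hab x).ker * p ^ 3 := by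
    rw [h1]; ring
  exact Nat.eq_of_mul_eq_mul_left Nat.card_pos h3

end Cfsg.Agent.Helper29.Cdp
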