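import Mathlib
import Cfsg.Agent.S0586

set_option autoImplicit false
set_option linter.style.haveILetI false

/-! Characteristic subgroups of direct powers of simple groups. -/

namespace Cfsg.Agent.Helper29

open Subgroup

section pi
variable {S : Type*} [Group S] {n : ℕ}

/-- coordinate permutation automorphism of a direct power -/
def permAut (σ : Equiv.Perm (Fin n)) : (Fin n → S) ≃* (Fin n → S) where
  toFun x := fun k => x (σ k)
  invFun x := fun k => x (σ.symm k)
  left_inv x := by funext k; simp
  right_inv x := by funext k; simp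
  map_mul' _ _ := rfl

/-- transvection automorphism of a direct power of a commutative group -/
def transvAut (hcomm : ∀ a b : S, a * b = b * a) (i j : Fin n) (hij : i ≠ j) :
    (Fin n → S) ≃* (Fin n → S) where
  toFun x := Function.update x j (x j * x i)
  invFun x := Function.update x j (x j * (x i)⁻¹)
  left_inv x := by
    funext k
    by_cases hk : k = j
    · subst hk
      simp [Function.update_of_ne hij]
    · simp [Function.update_of_ne hk]
  right_inv x := by
    funext k
    by_cases hk : k = j
    · subst hk
      simp [Function.update_of_ne hij]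
    · simp [Function.update_of_ne hk]
  map_mul' x y := by
    funext k
    by_cases hk : k = j
    · subst hk
      simp only [Function.update_self, Pi.mul_apply]
      rw [mul_assoc, mul_assoc, ← mul_assoc (y k), hcomm (y k) (x i), mul_assoc]
    · simp [Function.update_of_ne hk]

theorem mem_of_characteristic {G : Type*} [Group G] (H : Subgroup G) [hH : H.Characteristic]
    (φ : G ≃* G) {x : G} (hx : x ∈ H) : φ x ∈ H := by
  have h := hH.fixed φ.symm
  rw [← h, Subgroup.mem_comap]
  simpa using hx

theorem char_pi_eq_bot_or_top [IsSimpleGroup S] (H : Subgroup (Fin n → S))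
    [hH : H.Characteristic] : H = ⊥ ∨ H = ⊤ := by
  by_cases hbot : H = ⊥
  · left; exact hbot
  right
  obtain ⟨v, hv1⟩ := (Subgroup.ne_bot_iff_exists_ne_one).mp hbot
  have hv1' : (v : Fin n → S) ≠ 1 := fun h => hv1 (Subtype.ext h)
  obtain ⟨i, hi⟩ := Function.ne_iff.mp hv1'
  -- Step 1
  have step1 : ∃ j : Fin n, ∃ s : S, s ≠ 1 ∧ Pi.mulSingle j s ∈ H := by
    by_cases hcomm : ∀ a b : S, a * b = b * a
    · by_cases hj : ∃ j, j ≠ i
      · obtain ⟨j, hji⟩ := hj
        refine ⟨j, (v : Fin n → S) i, hi, ?_⟩
        have h1 := mem_of_characteristic H (transvAut hcomm i j hji.symm) v.2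
        have h2 := H.mul_mem h1 (H.inv_mem v.2)
        have e : (transvAut hcomm i j hji.symm) (v : Fin n → S) * (v : Fin n → S)⁻¹ =
            Pi.mulSingle j ((v : Fin n → S) i) := by
          funext k
          by_cases hk : k = j
          · subst hk
            simp only [transvAut, MulEquiv.coe_mk, Equiv.coe_fn_mk, Pi.mul_apply,
              Function.update_self, Pi.inv_apply, Pi.mulSingle_eq_same]
            rw [hcomm ((v : Fin n → S) k), mul_assoc, mul_inv_cancel, mul_one]
          · simp [transvAut, Function.update_of_ne hk, Pi.mulSingle_eq_of_ne hk]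
        rwa [e] at h2
      · push Not at hj
        refine ⟨i, (v : Fin n → S) i, hi, ?_⟩
        have e : Pi.mulSingle i ((v : Fin n → S) i) = (v : Fin n → S) := by
          funext k
          rw [hj k]; simp
        rw [e]; exact v.2
    · push Not at hcomm
      obtain ⟨a, b, hab⟩ := hcomm
      have hcenter : center S = ⊥ := by
        rcases (inferInstance : (center S).Normal).eq_bot_or_eq_top with h | h
        · exact h
        · exfalso
          apply hab
          have ha : a ∈ center S := by rw [h]; exact mem_top a
          exact (Subgroup.mem_center_iff.mp ha b).symm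
      have hnc : (v : Fin n → S) i ∉ center S := by
        rw [hcenter, Subgroup.mem_bot]; exact hi
      rw [Subgroup.mem_center_iff] at hnc
      push Not at hnc
      obtain ⟨s, hs⟩ := hnc
      set w : S := (v : Fin n → S) i with hw
      refine ⟨i, w * s * w⁻¹ * s⁻¹, ?_, ?_⟩
      · intro h
        apply hs
        have : w * s = s * w := by
          have h2 : w * s * w⁻¹ * s⁻¹ * (s * w) = 1 * (s * w) := by rw [h]
          rw [one_mul] at h2
          rw [← h2]; group
        exact this.symm
      · have hn : H.Normal := inferInstance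
        have h1 : (v : Fin n → S) * Pi.mulSingle i s * (v : Fin n → S)⁻¹ *
            (Pi.mulSingle i s)⁻¹ ∈ H := by
          have h2 := hn.conj_mem _ (H.inv_mem v.2) (Pi.mulSingle i s)
          have h3 := H.mul_mem v.2 h2
          have e : (v : Fin n → S) * (Pi.mulSingle i s * (v : Fin n → S)⁻¹ *
              (Pi.mulSingle i s)⁻¹) = (v : Fin n → S) * Pi.mulSingle i s *
              (v : Fin n → S)⁻¹ * (Pi.mulSingle i s)⁻¹ := by group
          rwa [e] at h3
        have e : (v : Fin n → S) * Pi.mulSingle i s * (v : Fin n → S)⁻¹ *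
            (Pi.mulSingle i s)⁻¹ = Pi.mulSingle i (w * s * w⁻¹ * s⁻¹) := by
          funext k
          by_cases hk : k = i
          · subst hk
            simp [hw]
          · simp [Pi.mulSingle_eq_of_ne hk]
        rwa [e] at h1
  obtain ⟨j, s, hs1, hsH⟩ := step1
  -- Step 2
  have step2 : ∀ t : S, Pi.mulSingle j t ∈ H := by
    set K : Subgroup S := H.comap (MonoidHom.mulSingle (fun _ : Fin n => S) j) with hK
    have hKn : K.Normal := inferInstance
    have hKne : K ≠ ⊥ := by
      intro h
      have : s ∈ K := hsH
      rw [h, Subgroup.mem_bot] at this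
      exact hs1 this
    have hKtop : K = ⊤ := (hKn.eq_bot_or_eq_top).resolve_left hKne
    intro t
    have : t ∈ K := by rw [hKtop]; exact mem_top t
    exact this
  -- Step 3
  have step3 : ∀ (k : Fin n) (t : S), Pi.mulSingle k t ∈ H := by
    intro k t
    have h1 := mem_of_characteristic H (permAut (Equiv.swap j k)) (step2 t)
    have e : (permAut (Equiv.swap j k)) (Pi.mulSingle j t : Fin n → S) = Pi.mulSingle k t := by
      funext l
      simp only [permAut, MulEquiv.coe_mk, Equiv.coe_fn_mk]
      by_cases hl : l = k
      · subst hl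
        simp
      · rw [Pi.mulSingle_eq_of_ne hl]
        by_cases hlj : l = j
        · subst hlj
          rw [Equiv.swap_apply_left]
          exact Pi.mulSingle_eq_of_ne (M := fun _ : Fin n => S) (Ne.symm hl) t
        · rw [Equiv.swap_apply_of_ne_of_ne hlj hl]
          exact Pi.mulSingle_eq_of_ne (M := fun _ : Fin n => S) hlj t
    rwa [e] at h1
  rw [eq_top_iff]
  intro x _
  exact Subgroup.pi_mem_of_mulSingle_mem x (fun k => step3 k (x k))

end pi

section forward

/-- `(Fin k → S) × S ≃* (Fin (k+1) → S)` -/
def snocMulEquiv (S : Type*) [Group S] (k : ℕ) : (Fin k → S) × S ≃* (Fin (k + 1) → S) where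
  toFun p := Fin.snoc (α := fun _ => S) p.1 p.2
  invFun f := (fun i => f i.castSucc, f (Fin.last k))
  left_inv p := by
    ext
    · simp
    · simp
  right_inv f := by
    funext i
    refine Fin.lastCases ?_ (fun j => ?_) i
    · simp
    · simp
  map_mul' p q := by
    funext i
    refine Fin.lastCases ?_ (fun j => ?_) i
    · simp
    · simp

variable {G : Type*} [Group G]

/-- internal direct product of two disjoint normal subgroups -/
noncomputable def supEquivProd (M N : Subgroup G) [hM : M.Normal] [hN : N.Normal]
    (h : Disjoint M N) : M × N ≃* ↥(M ⊔ N) := by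
  have comm : ∀ (m : M) (n : N), Commute (M.subtype m) (N.subtype n) := fun m n =>
    Subgroup.commute_of_normal_of_disjoint M N hM hN h m n m.2 n.2
  have hinj : Function.Injective (MonoidHom.noncommCoprod M.subtype N.subtype comm) := by
    rw [MonoidHom.noncommCoprod_injective]
    refine ⟨M.subtype_injective, N.subtype_injective, ?_⟩
    rw [Subgroup.range_subtype, Subgroup.range_subtype]; exact h
  have hrange : (MonoidHom.noncommCoprod M.subtype N.subtype comm).range = M ⊔ N := by
    rw [MonoidHom.noncommCoprod_range, Subgroup.range_subtype, Subgroup.range_subtype]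
  exact (MonoidHom.ofInjective hinj).trans (MulEquiv.subgroupCongr hrange)

variable [Finite G]

theorem exists_pi_equiv_of_charSimple [Nontrivial G]
    (h : ∀ H : Subgroup G, H.Characteristic → H = ⊥ ∨ H = ⊤) :
    ∃ N : Subgroup G, IsSimpleGroup N ∧ ∃ k : ℕ, 1 ≤ k ∧ Nonempty (G ≃* (Fin k → N)) := by
  obtain ⟨N, hNn, hNbot, -, hNmin⟩ :=
    Cfsg.Agent.S0586.exists_minimal_normal_le (⊤ : Subgroup G) top_ne_bot
  -- images of N under automorphisms
  set Nφ : (G ≃* G) → Subgroup G := fun φ => N.map φ.toMonoidHom with hNφ
  have hNφn : ∀ φ, (Nφ φ).Normal := fun φ => Subgroup.Normal.map hNn _ φ.surjective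
  have hNφmin : ∀ φ (K : Subgroup G), K.Normal → K ≤ Nφ φ → K = ⊥ ∨ K = Nφ φ := by
    intro φ K hK hKle
    have h1 : K.comap φ.toMonoidHom ≤ N := by
      intro x hx
      obtain ⟨y, hy, hyx⟩ := hKle hx
      have : y = x := φ.injective hyx
      rw [← this]; exact hy
    rcases hNmin (K.comap φ.toMonoidHom) (hK.comap _) h1 with h2 | h2
    · left
      rw [eq_bot_iff]
      intro x hx
      have : φ.symm x ∈ K.comap φ.toMonoidHom := by
        rw [Subgroup.mem_comap]; simpa using hx
      rw [h2, Subgroup.mem_bot] at this
      rw [Subgroup.mem_bot]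
      have h3 := congrArg φ this
      simpa using h3
    · right
      apply le_antisymm hKle
      rintro _ ⟨y, hy, rfl⟩
      rw [← h2] at hy
      exact hy
  have hNφbot : ∀ φ, Nφ φ ≠ ⊥ := by
    intro φ h0
    apply hNbot
    rw [hNφ] at h0
    exact (Subgroup.map_eq_bot_iff_of_injective N φ.injective).mp h0
  set J : Subgroup G := ⨆ φ, Nφ φ with hJ
  have hJchar : J.Characteristic := by
    rw [Subgroup.characteristic_iff_map_le]
    intro ψ
    rw [hJ, Subgroup.map_iSup]
    apply iSup_le
    intro φ
    have : (Nφ φ).map ψ.toMonoidHom = Nφ (φ.trans ψ) := by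
      rw [hNφ]
      simp only
      rw [Subgroup.map_map]
      rfl
    rw [this]
    exact le_iSup Nφ (φ.trans ψ)
  have hNJ : N ≤ J := by
    have h1 : Nφ (MulEquiv.refl G) = N := by
      rw [hNφ]; ext x; simp
    rw [← h1]; exact le_iSup Nφ (MulEquiv.refl G)
  have hJtop : J = ⊤ := by
    rcases h J hJchar with h0 | h0
    · exfalso; apply hNbot; rw [eq_bot_iff, ← h0]; exact hNJ
    · exact h0
  -- N is simple
  have hsimple : IsSimpleGroup N := by
    haveI : Nontrivial N := (Subgroup.nontrivial_iff_ne_bot N).mpr hNbot
    refine ⟨fun L hL => ?_⟩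
    set L' : Subgroup G := L.map N.subtype with hL'
    have hL'N : L' ≤ N := Subgroup.map_subtype_le L
    have hL'n : L'.Normal := by
      rw [← normalizer_eq_top_iff, eq_top_iff, ← hJtop, hJ]
      apply iSup_le
      intro φ
      by_cases hφ : Nφ φ = N
      · rw [hφ]
        have h1 := Subgroup.le_normalizer_map (H := L) N.subtype
        rw [normalizer_eq_top_iff.mpr hL, ← MonoidHom.range_eq_map, Subgroup.range_subtype] at h1
        exact h1
      · have hdisj : Nφ φ ⊓ N = ⊥ := by
          rcases hNmin (Nφ φ ⊓ N) inferInstance inf_le_right with h1 | h1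
          · exact h1
          · exfalso
            apply hφ
            have hle : N ≤ Nφ φ := by rw [← h1]; exact inf_le_left
            rcases hNφmin φ N hNn hle with h2 | h2
            · exact absurd h2 hNbot
            · exact h2.symm
        have hcent : Nφ φ ≤ centralizer (N : Set G) := by
          intro x hx
          rw [Subgroup.mem_centralizer_iff]
          intro y hy
          exact (Subgroup.commute_of_normal_of_disjoint _ _ (hNφn φ) hNn
            (disjoint_iff.mpr hdisj) x y hx hy).symm
        refine hcent.trans ((Subgroup.centralizer_le hL'N).trans ?_)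
        exact centralizer_le_normalizer _
    rcases hNmin L' hL'n hL'N with h1 | h1
    · left
      rw [hL'] at h1
      exact (Subgroup.map_eq_bot_iff_of_injective L N.subtype_injective).mp h1
    · right
      rw [eq_top_iff]
      intro x _
      have hx : (x : G) ∈ L' := by rw [h1]; exact x.2
      obtain ⟨y, hy, hyx⟩ := hx
      have : y = x := Subtype.ext hyx
      rw [← this]; exact hy
  refine ⟨N, hsimple, ?_⟩
  -- maximal good subgroup
  let Good : Set (Subgroup G) := {M | M.Normal ∧ ∃ k : ℕ, Nonempty (M ≃* (Fin k → N))}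
  have hGne : Good.Nonempty := by
    refine ⟨⊥, inferInstance, 0, ⟨?_⟩⟩
    exact MulEquiv.ofUnique
  obtain ⟨M, hM⟩ := (Set.toFinite Good).exists_maximal hGne
  obtain ⟨⟨hMn, k, ⟨eM⟩⟩, hMmax⟩ := hM
  have hMtop : M = ⊤ := by
    by_contra hne
    have hex : ∃ φ, ¬ Nφ φ ≤ M := by
      by_contra hno
      push Not at hno
      apply hne
      rw [eq_top_iff, ← hJtop, hJ]
      exact iSup_le hno
    obtain ⟨φ, hφ⟩ := hex
    have hdisj : M ⊓ Nφ φ = ⊥ := by
      rcases hNφmin φ (M ⊓ Nφ φ) inferInstance inf_le_right with h1 | h1
      · exact h1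
      · exfalso; apply hφ; rw [← h1]; exact inf_le_left
    haveI := hNφn φ
    have e1 : M × Nφ φ ≃* ↥(M ⊔ Nφ φ) := supEquivProd M (Nφ φ) (disjoint_iff.mpr hdisj)
    have e2 : Nφ φ ≃* N := (N.equivMapOfInjective φ.toMonoidHom φ.injective).symm
    have e3 : ↥(M ⊔ Nφ φ) ≃* (Fin (k + 1) → N) :=
      (e1.symm.trans (MulEquiv.prodCongr eM e2)).trans (snocMulEquiv N k)
    have hgood : (M ⊔ Nφ φ) ∈ Good := ⟨inferInstance, k + 1, ⟨e3⟩⟩
    have := hMmax hgood le_sup_left
    exact hφ (le_sup_right.trans this)
  have eG : G ≃* (Fin k → N) :=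
    (Subgroup.topEquiv.symm.trans (MulEquiv.subgroupCongr hMtop.symm)).trans eM
  refine ⟨k, ?_, ⟨eG⟩⟩
  by_contra hk
  have hk0 : k = 0 := by omega
  subst hk0
  have : Subsingleton G := eG.toEquiv.subsingleton
  exact not_subsingleton G this

end forward

end Cfsg.Agent.Helper29
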