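import Mathlib
import Cfsg.Prelude.Def_Characters
import Cfsg.Agent.Helper24.MGroupRel
import Cfsg.Agent.Helper24.Gallagher
import Cfsg.Agent.Helper24.Artin
import Cfsg.Agent.Helper24.MinNormalLinear
import Cfsg.Agent.Helper24.Ito
import Cfsg.Agent.Helper29.TwoDegB

/-!
A group with a normal M-subgroup of prime index in which every invariant irreducible character
has a monomial extension is an M-group.
-/

set_option autoImplicit false

namespace Cfsg.Agent.Helper29.Dade

open Cfsg Cfsg.Agent.Helper24 Cfsg.Agent.Helper24.MGroupRel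

universe u

theorem mono_of_prime_index {W : Type u} [Group W] [Fintype W] (B : Subgroup W) [hB : B.Normal]
    [Fintype B] (hidx : (B.index).Prime)
    (hBm : ∀ θ : B → ℂ, IsIrrCharacter B θ → Mono B θ)
    (hinv : ∀ θ : B → ℂ, IsIrrCharacter B θ →
      (∀ (g : W) (n : B), θ ⟨g * n * g⁻¹, hB.conj_mem n n.2 g⟩ = θ n) →
      ∃ ψ : W → ℂ, Mono W ψ ∧ ∀ b : B, ψ b = θ b)
    (χ : W → ℂ) (hχ : IsIrrCharacter W χ) : Mono W χ := by
  classical
  haveI : Fintype (IrrCharacter B) := Fintype.ofFinite _
  have hχc : IsCharacter W χ := IsIrrCharacter.isCharacter hχ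
  have hres : IsCharacter B (fun b : B => χ b) := Helper8.isCharacter_restrict B hχc
  have hne : (fun b : B => χ b) ≠ 0 := by
    intro h
    have := congrFun h 1
    exact irr_one_ne_zero ⟨χ, hχ⟩ this
  obtain ⟨θ, hθ⟩ := IsCharacter.exists_irr_constituent hres hne
  by_cases hI : ∀ (g : W) (n : B), (θ : B → ℂ) ⟨g * n * g⁻¹, hB.conj_mem n n.2 g⟩ = (θ : B → ℂ) n
  · -- invariant case
    obtain ⟨ψ, hψm, hψB⟩ := hinv θ θ.2 hI
    obtain ⟨K, ν, hν, hν1, hKν⟩ := hψm
    have hψc : IsCharacter W ψ := by
      rw [← hKν]; exact isCharacter_indFun K hν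
    have hψB' : (fun b : B => ψ b) = (θ : B → ℂ) := funext hψB
    have hψirr : IsIrrCharacter W ψ := by
      apply isIrrCharacter_of_comp_irr B.subtype hψc
      show IsIrrCharacter B (fun b : B => ψ b)
      rw [hψB']; exact θ.2
    have hψN : IsIrrCharacter B (fun n : B => ((⟨ψ, hψirr⟩ : IrrCharacter W) : W → ℂ) n) := by
      show IsIrrCharacter B (fun b : B => ψ b)
      rw [hψB']; exact θ.2
    have hover : classInner (fun n : B => ((⟨χ, hχ⟩ : IrrCharacter W) : W → ℂ) n)
        (fun n : B => ((⟨ψ, hψirr⟩ : IrrCharacter W) : W → ℂ) n) ≠ 0 := by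
      show classInner (fun b : B => χ b) (fun b : B => ψ b) ≠ 0
      rw [hψB']; exact hθ
    obtain ⟨β, hβ⟩ := exists_gallagherTwist_eq B ⟨ψ, hψirr⟩ hψN ⟨χ, hχ⟩ hover
    -- β is linear
    have hcomm : ∀ a b : W ⧸ B, a * b = b * a := by
      haveI : Fact (Nat.card (W ⧸ B)).Prime := ⟨by rw [← Subgroup.index_eq_card]; exact hidx⟩
      haveI : IsCyclic (W ⧸ B) := isCyclic_of_prime_card rfl
      intro a b
      exact IsCyclic.commGroup.mul_comm a b
    have hβ1 : (β : W ⧸ B → ℂ) 1 = 1 := (comm_iff_forall_irr_one.mp hcomm) β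
    have hβc : IsCharacter W (fun g : W => (β : W ⧸ B → ℂ) (g : W ⧸ B)) :=
      Helper8.isCharacter_comp (QuotientGroup.mk' B) (IsIrrCharacter.isCharacter β.2)
    have hβcf : IsClassFunction W (fun g : W => (β : W ⧸ B → ℂ) (g : W ⧸ B)) :=
      IsCharacter.isClassFunction hβc
    refine ⟨K, ν * fun k : K => (fun g : W => (β : W ⧸ B → ℂ) (g : W ⧸ B)) k, ?_, ?_, ?_⟩
    · exact IsCharacter.mul hν (Helper8.isCharacter_restrict K hβc)
    · show ν 1 * (β : W ⧸ B → ℂ) (((1 : K) : W) : W ⧸ B) = 1
      rw [hν1, one_mul]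
      exact hβ1
    · rw [indFun_mul_restrict K ν _ hβcf, hKν]
      have : χ = gallagherTwist B ⟨ψ, hψirr⟩ β := hβ
      rw [this]
      funext g
      unfold gallagherTwist
      rw [Pi.mul_apply, mul_comm]
  · -- non-invariant case
    set T := inertiaSubgroup B (θ : B → ℂ) with hT
    have hBT : B ≤ T := le_inertiaSubgroup B _ (isClassFunction_irr θ)
    have hTne : T ≠ ⊤ := by
      intro htop
      apply hI
      intro g n
      have hg : g ∈ T := by rw [htop]; exact Subgroup.mem_top g
      exact (mem_inertiaSubgroup B _ g).mp hg n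
    have hTB : T ≤ B := by
      have h1 := Subgroup.relIndex_mul_index hBT
      have h2 : T.index ≠ 1 := by
        intro h; exact hTne (Subgroup.index_eq_one.mp h)
      have h3 : T.index ∣ B.index := Dvd.intro_left _ h1
      rcases (Nat.dvd_prime hidx).mp h3 with h4 | h4
      · exact absurd h4 h2
      · rw [h4] at h1
        have h5 : B.relIndex T = 1 := by
          have hpos : 0 < B.index := hidx.pos
          exact Nat.eq_of_mul_eq_mul_right hpos (by rw [h1, one_mul])
        exact Subgroup.relIndex_eq_one.mp h5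
    have hIrr : IsIrrCharacter W (indFun B (θ : B → ℂ)) := by
      apply Cfsg.Agent.Helper29.TwoDeg.isIrrCharacter_indFun_of_inertia B _ θ.2
      intro g hg
      apply hTB
      exact (mem_inertiaSubgroup B _ g).mpr hg
    have hfr : classInner (indFun B (θ : B → ℂ)) χ ≠ 0 := by
      rw [Helper8.frobenius_reciprocity B _ _ (IsCharacter.isClassFunction hχc)]
      rw [← classInner_conj_symm]
      intro h0
      apply hθ
      have := congrArg (starRingEnd ℂ) h0
      simpa using this
    have heq : indFun B (θ : B → ℂ) = χ := by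
      by_contra hne'
      rw [classInner_of_isIrrCharacter hIrr hχ, if_neg hne'] at hfr
      exact hfr rfl
    rw [← heq]
    exact mono_lift B _ (hBm _ θ.2)

end Cfsg.Agent.Helper29.Dade
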