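import Mathlib
import Cfsg.Prelude.Def_Characters
import Cfsg.Agent.Helper24.Product
import Cfsg.Agent.Helper24.MGroupRel
import Cfsg.Agent.Helper8.RegularOrbitBound
import Cfsg.Agent.Helper8.Ind

/-!
Characters of a finite power `ι → D` of a finite group.
-/

set_option autoImplicit false

namespace Cfsg.Agent.Helper29.PiChar

open Cfsg Cfsg.Agent.Helper24

universe u v

variable {ι : Type v} [Fintype ι] [DecidableEq ι] {D : Type u} [Group D] [Fintype D]

/-- the outer product of a family of functions -/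
def piFun (θ : ι → D → ℂ) : (ι → D) → ℂ := fun f => ∏ i, θ i (f i)

theorem piFun_apply (θ : ι → D → ℂ) (f : ι → D) : piFun θ f = ∏ i, θ i (f i) := rfl

theorem isCharacter_piFun (θ : ι → D → ℂ) (h : ∀ i, IsCharacter D (θ i)) :
    IsCharacter (ι → D) (piFun θ) := by
  have h1 : piFun θ = ∏ i ∈ (Finset.univ : Finset ι),
      (fun f : ι → D => θ i (Pi.evalMonoidHom (fun _ => D) i f)) := by
    funext f
    rw [Finset.prod_apply]
    rfl
  rw [h1]
  apply Cfsg.Agent.Helper8.isCharacter_finset_prod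
  intro i _
  exact Cfsg.Agent.Helper8.isCharacter_comp (Pi.evalMonoidHom (fun _ => D) i) (h i)

theorem classInner_piFun (θ θ' : ι → D → ℂ) :
    classInner (piFun θ) (piFun θ') = ∏ i, classInner (θ i) (θ' i) := by
  classical
  unfold classInner
  rw [Finset.prod_mul_distrib]
  congr 1
  · rw [Finset.prod_const, Nat.card_pi, Finset.prod_const]
    push_cast
    rw [inv_pow]
  · rw [Finset.prod_univ_sum]
    rw [Fintype.piFinset_univ]
    refine Finset.sum_congr rfl ?_
    intro f _
    unfold piFun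
    rw [map_prod, ← Finset.prod_mul_distrib]

theorem isIrrCharacter_piFun (θ : ι → D → ℂ) (h : ∀ i, IsIrrCharacter D (θ i)) :
    IsIrrCharacter (ι → D) (piFun θ) := by
  haveI : Fintype (IrrCharacter (ι → D)) := Fintype.ofFinite _
  refine IsCharacter.isIrrCharacter_of_classInner_self
    (isCharacter_piFun θ (fun i => IsIrrCharacter.isCharacter (h i))) ?_
  rw [classInner_piFun]
  apply Finset.prod_eq_one
  intro i _
  exact classInner_irr_self ⟨θ i, h i⟩

/-- the outer product as a map on families of irreducible characters -/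
noncomputable def piIrr (θ : ι → IrrCharacter D) : IrrCharacter (ι → D) :=
  ⟨piFun (fun i => ((θ i : IrrCharacter D) : D → ℂ)), isIrrCharacter_piFun _ (fun i => (θ i).2)⟩

theorem piIrr_injective : Function.Injective (piIrr (ι := ι) (D := D)) := by
  classical
  intro θ θ' h
  have h1 : classInner ((piIrr θ : IrrCharacter (ι → D)) : (ι → D) → ℂ)
      ((piIrr θ' : IrrCharacter (ι → D)) : (ι → D) → ℂ) = 1 := by
    rw [h]; exact classInner_irr_self _
  unfold piIrr at h1
  simp only at h1
  rw [classInner_piFun] at h1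
  funext i
  by_contra hne
  have h0 : classInner ((θ i : IrrCharacter D) : D → ℂ) ((θ' i : IrrCharacter D) : D → ℂ) = 0 :=
    classInner_irr_ne hne
  rw [Finset.prod_eq_zero (Finset.mem_univ i) h0] at h1
  exact zero_ne_one h1

theorem irrDeg_piIrr (θ : ι → IrrCharacter D) : irrDeg (piIrr θ) = ∏ i, irrDeg (θ i) := by
  have h := irrDeg_spec (piIrr θ)
  unfold piIrr at h
  simp only [piFun_apply, Pi.one_apply] at h
  simp_rw [irrDeg_spec] at h
  exact_mod_cast h.symm

theorem piIrr_surjective : Function.Surjective (piIrr (ι := ι) (D := D)) := by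
  classical
  haveI : Fintype (IrrCharacter D) := Fintype.ofFinite _
  haveI : Fintype (IrrCharacter (ι → D)) := Fintype.ofFinite _
  intro χ
  by_contra hχ
  have hχ' : χ ∉ Finset.univ.image (piIrr (ι := ι) (D := D)) := by
    intro h
    obtain ⟨θ, _, hθ⟩ := Finset.mem_image.mp h
    exact hχ ⟨θ, hθ⟩
  have h1 : ∑ ψ ∈ Finset.univ.image (piIrr (ι := ι) (D := D)), irrDeg ψ ^ 2 =
      Nat.card (ι → D) := by
    rw [Finset.sum_image (fun a _ b _ h => piIrr_injective h)]
    simp_rw [irrDeg_piIrr, ← Finset.prod_pow]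
    rw [← Fintype.piFinset_univ]
    rw [← Finset.prod_univ_sum (fun _ => (Finset.univ : Finset (IrrCharacter D)))
      (fun (_ : ι) (ψ : IrrCharacter D) => irrDeg ψ ^ 2)]
    simp_rw [sum_irrDeg_sq]
    rw [Nat.card_pi]
  have h2 := sum_irrDeg_sq (G := ι → D)
  have h3 : ∑ ψ ∈ insert χ (Finset.univ.image (piIrr (ι := ι) (D := D))), irrDeg ψ ^ 2 ≤
      ∑ ψ : IrrCharacter (ι → D), irrDeg ψ ^ 2 :=
    Finset.sum_le_sum_of_subset (Finset.subset_univ _)
  rw [Finset.sum_insert hχ', h1, h2] at h3
  have := irrDeg_pos χ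
  have : 0 < irrDeg χ ^ 2 := by positivity
  omega

theorem exists_piFun_eq (χ : (ι → D) → ℂ) (hχ : IsIrrCharacter (ι → D) χ) :
    ∃ θ : ι → IrrCharacter D, χ = piFun (fun i => ((θ i : IrrCharacter D) : D → ℂ)) := by
  obtain ⟨θ, hθ⟩ := piIrr_surjective ⟨χ, hχ⟩
  refine ⟨θ, ?_⟩
  have := congrArg Subtype.val hθ
  exact this.symm


/-- the product subgroup -/
abbrev piSub (H : ι → Subgroup D) : Subgroup (ι → D) := Subgroup.pi Set.univ H

/-- the outer product of functions on subgroups -/
def piLam (H : ι → Subgroup D) (lam : ∀ i, H i → ℂ) : piSub H → ℂ :=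
  fun f => ∏ i, lam i ⟨(f : ι → D) i, f.2 i (Set.mem_univ i)⟩

theorem ebz_piLam (H : ι → Subgroup D) (lam : ∀ i, H i → ℂ) (g : ι → D) :
    extendByZero (piSub H) (piLam H lam) g = ∏ i, extendByZero (H i) (lam i) (g i) := by
  by_cases hg : g ∈ piSub H
  · rw [Cfsg.Agent.Helper8.ebz_mem _ _ hg]
    unfold piLam
    refine Finset.prod_congr rfl ?_
    intro i _
    rw [Cfsg.Agent.Helper8.ebz_mem _ _ (hg i (Set.mem_univ i))]
  · rw [Cfsg.Agent.Helper8.ebz_not_mem _ _ hg]
    have : ∃ i, g i ∉ H i := by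
      by_contra hcon
      push Not at hcon
      exact hg (fun i _ => hcon i)
    obtain ⟨i, hi⟩ := this
    exact (Finset.prod_eq_zero (Finset.mem_univ i)
      (Cfsg.Agent.Helper8.ebz_not_mem (H i) (lam i) hi)).symm

theorem card_piSub (H : ι → Subgroup D) : Nat.card (piSub H) = ∏ i, Nat.card (H i) := by
  classical
  rw [← Nat.card_pi]
  apply Nat.card_congr
  exact
    { toFun := fun f i => ⟨(f : ι → D) i, f.2 i (Set.mem_univ i)⟩
      invFun := fun f => ⟨fun i => (f i : D), fun i _ => (f i).2⟩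
      left_inv := fun f => rfl
      right_inv := fun f => rfl }

theorem indFun_piLam (H : ι → Subgroup D) (lam : ∀ i, H i → ℂ) :
    indFun (piSub H) (piLam H lam) = piFun (fun i => indFun (H i) (lam i)) := by
  classical
  funext g
  rw [Cfsg.Agent.Helper8.indFun_def, piFun_apply]
  simp_rw [Cfsg.Agent.Helper8.indFun_def]
  rw [Finset.prod_mul_distrib, card_piSub]
  congr 1
  · push_cast
    rw [Finset.prod_inv_distrib]
  · rw [Finset.prod_univ_sum, Fintype.piFinset_univ]
    refine Finset.sum_congr rfl ?_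
    intro x _
    rw [ebz_piLam]
    rfl


/-- coordinate projection of the product subgroup -/
def piSubProj (H : ι → Subgroup D) (i : ι) : piSub H →* H i where
  toFun f := ⟨(f : ι → D) i, f.2 i (Set.mem_univ i)⟩
  map_one' := rfl
  map_mul' _ _ := rfl

theorem isCharacter_piLam (H : ι → Subgroup D) (lam : ∀ i, H i → ℂ)
    (h : ∀ i, IsCharacter (H i) (lam i)) : IsCharacter (piSub H) (piLam H lam) := by
  have h1 : piLam H lam = ∏ i ∈ (Finset.univ : Finset ι),
      (fun f : piSub H => lam i (piSubProj H i f)) := by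
    funext f
    rw [Finset.prod_apply]
    rfl
  rw [h1]
  apply Cfsg.Agent.Helper8.isCharacter_finset_prod
  intro i _
  exact Cfsg.Agent.Helper8.isCharacter_comp (piSubProj H i) (h i)

theorem piLam_one (H : ι → Subgroup D) (lam : ∀ i, H i → ℂ) (h : ∀ i, lam i 1 = 1) :
    piLam H lam 1 = 1 := by
  unfold piLam
  apply Finset.prod_eq_one
  intro i _
  exact h i

/-- a finite power of an M-group is an M-group -/
theorem mono_pi (hD : ∀ θ : D → ℂ, IsIrrCharacter D θ → MGroupRel.Mono D θ)
    (χ : (ι → D) → ℂ) (hχ : IsIrrCharacter (ι → D) χ) : MGroupRel.Mono (ι → D) χ := by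
  obtain ⟨θ, rfl⟩ := exists_piFun_eq χ hχ
  choose H lam hlam hlam1 hind using fun i => hD (θ i) (θ i).2
  refine ⟨piSub H, piLam H lam, isCharacter_piLam H lam hlam, piLam_one H lam hlam1, ?_⟩
  rw [indFun_piLam]
  congr 1
  funext i
  exact hind i


end Cfsg.Agent.Helper29.PiChar
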