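import Mathlib
import Cfsg.Prelude.Def_Characters
import Cfsg.Agent.Helper29.PiChar
import Cfsg.Agent.Helper29.DadeA
import Cfsg.Agent.Helper24.IndMore
import Cfsg.Agent.Helper24.Linear
import Cfsg.Agent.Helper12.ExtraspecialInd

/-!
The regular wreath product of an M-group with a group of prime order is an M-group.
-/

set_option autoImplicit false

namespace Cfsg.Agent.Helper29.Dade

open Cfsg Cfsg.Agent.Helper24 Cfsg.Agent.Helper24.MGroupRel Cfsg.Agent.Helper29.PiChar
open RegularWreathProduct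

universe u

/-- monomiality is transported along isomorphisms -/
theorem mono_of_equiv {G G' : Type u} [Group G] [Fintype G] [Group G'] [Fintype G']
    (e : G ≃* G') (χ : G' → ℂ) (h : Mono G' χ) : Mono G (fun g => χ (e g)) := by
  obtain ⟨U, lam, hlam, hlam1, hind⟩ := h
  refine ⟨U.comap e.toMonoidHom, fun h => lam ⟨e.toMonoidHom h, h.2⟩, ?_, ?_, ?_⟩
  · exact Helper8.isCharacter_comp (MonoidHom.subgroupComap e.toMonoidHom U) hlam
  · show lam ⟨e.toMonoidHom 1, _⟩ = 1
    have : (⟨e.toMonoidHom 1, (1 : U.comap e.toMonoidHom).2⟩ : U) = 1 := by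
      apply Subtype.ext
      exact map_one _
    rw [this]
    exact hlam1
  · funext g
    rw [indFun_comap e.toMonoidHom e.surjective U lam g, hind]
    rfl

variable {D : Type u} [Group D] {Q : Type u} [Group Q]

/-- the base group -/
abbrev baseGroup (D Q : Type u) [Group D] [Group Q] : Subgroup (D ≀ᵣ Q) :=
  (rightHom : D ≀ᵣ Q →* Q).ker

theorem mem_baseGroup (w : D ≀ᵣ Q) : w ∈ baseGroup D Q ↔ w.right = 1 := by
  rw [MonoidHom.mem_ker]
  rfl

/-- the base group is the power `Q → D` -/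
def baseEquiv (D Q : Type u) [Group D] [Group Q] : baseGroup D Q ≃* (Q → D) where
  toFun w := w.1.left
  invFun f := ⟨⟨f, 1⟩, (mem_baseGroup _).mpr rfl⟩
  left_inv w := by
    apply Subtype.ext
    ext
    · rfl
    · exact ((mem_baseGroup _).mp w.2).symm
  right_inv f := rfl
  map_mul' a b := by
    funext q
    show (a.1 * b.1).left q = a.1.left q * b.1.left q
    rw [RegularWreathProduct.mul_left, Pi.mul_apply, (mem_baseGroup _).mp a.2, inv_one, one_mul]

variable [Fintype D] [Fintype Q] [DecidableEq Q]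

omit [Fintype D] [Fintype Q] [DecidableEq Q] in
theorem index_baseGroup : (baseGroup D Q).index = Nat.card Q := by
  rw [Subgroup.index_ker]
  have : (rightHom : D ≀ᵣ Q →* Q).range = ⊤ := by
    rw [MonoidHom.range_eq_top]
    intro q
    exact ⟨inl q, rfl⟩
  rw [this]
  exact Nat.card_congr Subgroup.topEquiv.toEquiv

/-- the wreath product of a subgroup `H ≤ D` with `Q`, inside `D ≀ᵣ Q` -/
def wrSub (H : Subgroup D) (Q : Type u) [Group Q] : Subgroup (D ≀ᵣ Q) where
  carrier := {w | ∀ q, w.left q ∈ H}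
  one_mem' := fun _ => H.one_mem
  mul_mem' := by
    intro a b ha hb q
    rw [RegularWreathProduct.mul_left, Pi.mul_apply]
    exact H.mul_mem (ha q) (hb _)
  inv_mem' := by
    intro a ha q
    rw [RegularWreathProduct.inv_left]
    exact H.inv_mem (ha _)

omit [Fintype D] [Fintype Q] [DecidableEq Q] in
theorem mem_wrSub (H : Subgroup D) (w : D ≀ᵣ Q) : w ∈ wrSub H Q ↔ ∀ q, w.left q ∈ H := Iff.rfl

/-- the product linear character of `H ≀ Q` -/
def wrHom (H : Subgroup D) (φ : H →* ℂ) : wrSub H Q →* ℂ where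
  toFun w := ∏ q, φ ⟨w.1.left q, w.2 q⟩
  map_one' := by
    apply Finset.prod_eq_one
    intro q _
    exact map_one φ
  map_mul' := by
    intro a b
    have h1 : ∀ q, (⟨(a.1 * b.1).left q, (a * b).2 q⟩ : H) =
        ⟨a.1.left q, a.2 q⟩ * ⟨b.1.left (a.1.right⁻¹ * q), b.2 _⟩ := by
      intro q
      apply Subtype.ext
      rfl
    show ∏ q, φ ⟨(a.1 * b.1).left q, (a * b).2 q⟩ = _
    simp_rw [h1, map_mul]
    rw [Finset.prod_mul_distrib]
    congr 1
    exact Equiv.prod_comp (Equiv.mulLeft a.1.right⁻¹) (fun q => φ ⟨b.1.left q, b.2 q⟩)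

omit [Fintype D] [DecidableEq Q] in
theorem ebz_wrHom (H : Subgroup D) (φ : H →* ℂ) (y : D ≀ᵣ Q) :
    extendByZero (wrSub H Q) (fun w => wrHom H φ w) y =
      ∏ q, extendByZero H (fun h => φ h) (y.left q) := by
  by_cases hy : y ∈ wrSub H Q
  · rw [Helper8.ebz_mem _ _ hy]
    show ∏ q, φ ⟨y.left q, hy q⟩ = _
    refine Finset.prod_congr rfl ?_
    intro q _
    rw [Helper8.ebz_mem _ _ (hy q)]
  · rw [Helper8.ebz_not_mem _ _ hy]
    have : ∃ q, y.left q ∉ H := by
      by_contra hcon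
      push Not at hcon
      exact hy hcon
    obtain ⟨q, hq⟩ := this
    exact (Finset.prod_eq_zero (Finset.mem_univ q)
      (Helper8.ebz_not_mem H (fun h => φ h) hq)).symm

omit [Fintype D] [DecidableEq Q] in
theorem card_wrSub [Finite D] (H : Subgroup D) :
    Nat.card (wrSub H Q) = Nat.card H ^ Nat.card Q * Nat.card Q := by
  rw [← Nat.card_fun, ← Nat.card_prod]
  apply Nat.card_congr
  exact
    { toFun := fun w => (fun q => ⟨w.1.left q, w.2 q⟩, w.1.right)
      invFun := fun p => ⟨⟨fun q => (p.1 q : D), p.2⟩, fun q => (p.1 q).2⟩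
      left_inv := fun w => rfl
      right_inv := fun p => rfl }


omit [Fintype D] [Fintype Q] [DecidableEq Q] in
theorem conj_base_left (x : D ≀ᵣ Q) (f : Q → D) (k : Q) :
    (x⁻¹ * (⟨f, 1⟩ : D ≀ᵣ Q) * x).left k =
      (x.left (x.right * k))⁻¹ * f (x.right * k) * x.left (x.right * k) := by
  simp [RegularWreathProduct.mul_left, RegularWreathProduct.inv_left]

theorem indFun_wrHom_base [Fintype (D ≀ᵣ Q)] (H : Subgroup D) (φ : H →* ℂ) (f : Q → D) :
    indFun (wrSub H Q) (fun w => wrHom H φ w) (⟨f, 1⟩ : D ≀ᵣ Q) =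
      ∏ q, indFun H (fun h => φ h) (f q) := by
  classical
  rw [Helper8.indFun_def]
  have h1 : ∀ x : D ≀ᵣ Q, extendByZero (wrSub H Q) (fun w => wrHom H φ w)
      (x⁻¹ * (⟨f, 1⟩ : D ≀ᵣ Q) * x) =
      ∏ q, extendByZero H (fun h => φ h) ((x.left q)⁻¹ * f q * x.left q) := by
    intro x
    rw [ebz_wrHom]
    simp_rw [conj_base_left]
    exact Equiv.prod_comp (Equiv.mulLeft x.right)
      (fun q => extendByZero H (fun h => φ h) ((x.left q)⁻¹ * f q * x.left q))
  simp_rw [h1]
  have h2 : ∑ x : D ≀ᵣ Q, ∏ q, extendByZero H (fun h => φ h) ((x.left q)⁻¹ * f q * x.left q) =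
      ∑ p : (Q → D) × Q, ∏ q, extendByZero H (fun h => φ h) ((p.1 q)⁻¹ * f q * p.1 q) :=
    Fintype.sum_equiv (equivProd D Q) _ _ (fun x => rfl)
  rw [h2, Fintype.sum_prod_type]
  simp_rw [Finset.sum_const, Finset.card_univ, nsmul_eq_mul]
  rw [← Finset.mul_sum]
  have h3 : ∑ g : Q → D, ∏ q, extendByZero H (fun h => φ h) ((g q)⁻¹ * f q * g q) =
      ∏ q, ∑ d : D, extendByZero H (fun h => φ h) (d⁻¹ * f q * d) := by
    rw [Finset.prod_univ_sum, Fintype.piFinset_univ]
  rw [h3]
  have hH : (Nat.card H : ℂ) ≠ 0 := by exact_mod_cast Nat.card_pos.ne'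
  have h4 : ∀ q, ∑ d : D, extendByZero H (fun h => φ h) (d⁻¹ * f q * d) =
      (Nat.card H : ℂ) * indFun H (fun h => φ h) (f q) := by
    intro q
    rw [Helper8.indFun_def, ← mul_assoc, mul_inv_cancel₀ hH, one_mul]
  simp_rw [h4]
  rw [Finset.prod_mul_distrib, Finset.prod_const, Finset.card_univ, card_wrSub,
    ← Nat.card_eq_fintype_card]
  have hQ : (Nat.card Q : ℂ) ≠ 0 := by exact_mod_cast Nat.card_pos.ne'
  push_cast
  field_simp


omit [Fintype D] [Fintype Q] [DecidableEq Q] in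
theorem inl_conj_base (c : Q) (f : Q → D) :
    (inl c : D ≀ᵣ Q) * ⟨f, 1⟩ * (inl c)⁻¹ = ⟨fun x => f (c⁻¹ * x), 1⟩ := by
  ext q
  · simp [RegularWreathProduct.mul_left, RegularWreathProduct.inv_left]
  · simp

omit [Fintype D] [Fintype Q] [DecidableEq Q] in
theorem baseEquiv_symm_val (f : Q → D) : (((baseEquiv D Q).symm f : baseGroup D Q) : D ≀ᵣ Q) = ⟨f, 1⟩ :=
  rfl

omit [Fintype D] [Fintype Q] [DecidableEq Q] in
theorem base_val_eq (b : baseGroup D Q) : (b : D ≀ᵣ Q) = ⟨baseEquiv D Q b, 1⟩ := by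
  ext
  · rfl
  · exact (mem_baseGroup _).mp b.2

/-- the regular wreath product of an M-group with a group of prime order is an M-group -/
theorem mono_wr [Fintype (D ≀ᵣ Q)] (hQ : (Nat.card Q).Prime)
    (hD : ∀ θ : D → ℂ, IsIrrCharacter D θ → Mono D θ)
    (χ : D ≀ᵣ Q → ℂ) (hχ : IsIrrCharacter (D ≀ᵣ Q) χ) : Mono (D ≀ᵣ Q) χ := by
  classical
  haveI : Fintype (baseGroup D Q) := Fintype.ofFinite _
  haveI hBn : (baseGroup D Q).Normal := MonoidHom.normal_ker _
  set e := baseEquiv D Q with he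
  have hirr' : ∀ θ : baseGroup D Q → ℂ, IsIrrCharacter (baseGroup D Q) θ →
      IsIrrCharacter (Q → D) (fun f => θ (e.symm f)) := fun θ hθ =>
    Helper8.isIrrCharacter_comp_surjective e.symm.toMonoidHom e.symm.surjective hθ
  refine mono_of_prime_index (baseGroup D Q) ?_ ?_ ?_ χ hχ
  · rw [index_baseGroup]; exact hQ
  · intro θ hθ
    have h1 : Mono (Q → D) (fun f => θ (e.symm f)) := mono_pi hD _ (hirr' θ hθ)
    have h2 := mono_of_equiv e _ h1
    have h3 : (fun g : baseGroup D Q => (fun f => θ (e.symm f)) (e g)) = θ := by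
      funext g
      show θ (e.symm (e g)) = θ g
      rw [MulEquiv.symm_apply_apply]
    rw [h3] at h2
    exact h2
  · intro θ hθ hinv
    obtain ⟨θq, hθq⟩ := exists_piFun_eq _ (hirr' θ hθ)
    -- all components are equal
    have hconst : ∀ c : Q, θq c = θq 1 := by
      intro c
      have h1 : piIrr (fun q => θq (c * q)) = piIrr θq := by
        apply Subtype.ext
        show piFun (fun q => ((θq (c * q) : IrrCharacter D) : D → ℂ)) =
          piFun (fun q => ((θq q : IrrCharacter D) : D → ℂ))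
        funext f
        have h2 := hinv (inl c) (e.symm f)
        have h3 : (⟨(inl c : D ≀ᵣ Q) * ((e.symm f : baseGroup D Q) : D ≀ᵣ Q) * (inl c)⁻¹,
            hBn.conj_mem _ (e.symm f).2 (inl c)⟩ : baseGroup D Q) =
            e.symm (fun x => f (c⁻¹ * x)) := by
          apply Subtype.ext
          show (inl c : D ≀ᵣ Q) * ⟨f, 1⟩ * (inl c)⁻¹ = ⟨fun x => f (c⁻¹ * x), 1⟩
          exact inl_conj_base c f
        rw [h3] at h2
        have h4 : θ (e.symm fun x => f (c⁻¹ * x)) =
            piFun (fun i => ((θq i : IrrCharacter D) : D → ℂ)) (fun x => f (c⁻¹ * x)) :=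
          congrFun hθq (fun x => f (c⁻¹ * x))
        have h5 : θ (e.symm f) = piFun (fun i => ((θq i : IrrCharacter D) : D → ℂ)) f :=
          congrFun hθq f
        rw [h2, h5] at h4
        rw [h4, piFun_apply, piFun_apply]
        have := Equiv.prod_comp (Equiv.mulLeft c)
          (fun q => ((θq q : IrrCharacter D) : D → ℂ) (f (c⁻¹ * q)))
        rw [← this]
        refine Finset.prod_congr rfl ?_
        intro q _
        show _ = ((θq (c * q) : IrrCharacter D) : D → ℂ) (f (c⁻¹ * (c * q)))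
        rw [inv_mul_cancel_left]
      have h2 := congrFun (piIrr_injective h1) 1
      simp only [mul_one] at h2
      exact h2
    obtain ⟨H, lam, hlam, hlam1, hind⟩ := hD (θq 1) (θq 1).2
    obtain ⟨φ, hφ⟩ := Cfsg.Agent.Helper12.exists_monoidHom_of_isCharacter_one hlam hlam1
    have hlamφ : lam = fun h => φ h := funext hφ
    refine ⟨indFun (wrSub H Q) (fun w => wrHom H φ w),
      ⟨wrSub H Q, fun w => wrHom H φ w, isCharacter_of_monoidHom (wrHom H φ), map_one _, rfl⟩, ?_⟩
    intro b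
    rw [base_val_eq b, indFun_wrHom_base, ← hlamφ, hind]
    have h5 : θ (e.symm (e b)) = piFun (fun i => ((θq i : IrrCharacter D) : D → ℂ)) (e b) :=
      congrFun hθq (e b)
    rw [MulEquiv.symm_apply_apply] at h5
    rw [h5, piFun_apply]
    refine Finset.prod_congr rfl ?_
    intro q _
    rw [hconst q]


end Cfsg.Agent.Helper29.Dade
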