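import Mathlib
import Cfsg.Prelude.Def_Characters
import Cfsg.Agent.Helper29.DadeB
import Cfsg.Agent.Helper29.Schmidt
import Cfsg.Agent.Helper24.Abelian

/-!
Dade: every finite solvable group embeds in an M-group.
-/

set_option autoImplicit false

namespace Cfsg.Agent.Helper29.Dade

open Cfsg Cfsg.Agent.Helper24 Cfsg.Agent.Helper24.MGroupRel
open RegularWreathProduct

universe u

section KK

variable {G : Type u} [Group G] (N : Subgroup G) [hN : N.Normal]

/-- the Kaloujnine–Krasner embedding `G → N ≀ᵣ (G ⧸ N)` -/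
noncomputable def kkHom : G →* (↥N) ≀ᵣ (G ⧸ N) where
  toFun g := ⟨fun q => ⟨(Quotient.out q)⁻¹ * g * Quotient.out ((g : G ⧸ N)⁻¹ * q), by
      rw [← QuotientGroup.eq_one_iff]
      simp only [QuotientGroup.mk_mul, QuotientGroup.mk_inv, QuotientGroup.out_eq']
      group⟩, (g : G ⧸ N)⟩
  map_one' := by
    ext q
    · simp
    · rfl
  map_mul' g h := by
    ext q
    · simp only [RegularWreathProduct.mul_left, Pi.mul_apply, Subgroup.coe_mul,
        QuotientGroup.mk_mul, mul_inv_rev]
      group
    · rfl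

theorem kkHom_injective : Function.Injective (kkHom N) := by
  rw [injective_iff_map_eq_one]
  intro g hg
  have h1 : (g : G ⧸ N) = 1 := congrArg RegularWreathProduct.right hg
  have h2 := congrFun (congrArg RegularWreathProduct.left hg) 1
  have h3 := congrArg Subtype.val h2
  simp only [kkHom, MonoidHom.coe_mk, OneHom.coe_mk, h1, inv_one, one_mul,
    RegularWreathProduct.one_left, Pi.one_apply, Subgroup.coe_one] at h3
  have : g = Quotient.out (1 : G ⧸ N) * 1 * (Quotient.out (1 : G ⧸ N))⁻¹ := by
    rw [← h3]; group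
  rw [this]; group

end KK

/-- functoriality of the regular wreath product in the base -/
def wrMap {A B Q : Type u} [Group A] [Group B] [Group Q] (f : A →* B) : A ≀ᵣ Q →* B ≀ᵣ Q where
  toFun w := ⟨fun q => f (w.left q), w.right⟩
  map_one' := by
    ext q
    · simp
    · rfl
  map_mul' a b := by
    ext q
    · simp
    · rfl

theorem wrMap_injective {A B Q : Type u} [Group A] [Group B] [Group Q] (f : A →* B)
    (hf : Function.Injective f) : Function.Injective (wrMap (Q := Q) f) := by
  intro a b hab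
  ext q
  · have := congrFun (congrArg (fun w : B ≀ᵣ Q => w.left) hab) q
    exact hf this
  · exact congrArg (fun w : B ≀ᵣ Q => w.right) hab

theorem exists_mgroup_embedding_aux : ∀ (n : ℕ) (G : Type u) [Group G] [Finite G],
    Group.IsSolvable G → Nat.card G = n →
    ∃ (M : Type u) (_ : Group M) (_ : Fintype M),
      (∀ χ : M → ℂ, IsIrrCharacter M χ → Mono M χ) ∧ ∃ f : G →* M, Function.Injective f := by
  intro n
  induction n using Nat.strong_induction_on with
  | _ n ih =>
  intro G _ _ hsolv hn
  by_cases hG : Subsingleton G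
  · haveI : Fintype G := Fintype.ofFinite G
    refine ⟨G, inferInstance, inferInstance, ?_, MonoidHom.id G, Function.injective_id⟩
    intro χ hχ
    have hcomm : ∀ a b : G, a * b = b * a := fun a b => Subsingleton.elim _ _
    have h1 : χ 1 = 1 := (comm_iff_forall_irr_one.mp hcomm) ⟨χ, hχ⟩
    have hχc : IsCharacter G χ := IsIrrCharacter.isCharacter hχ
    exact ⟨⊤, fun h => χ h, Helper8.isCharacter_restrict ⊤ hχc, h1,
      indFun_top_restrict χ (IsCharacter.isClassFunction hχc)⟩
  · haveI : Nontrivial G := not_subsingleton_iff_nontrivial.mp hG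
    haveI := hsolv
    obtain ⟨N, hNn, hNp⟩ := Cfsg.Agent.Helper29.exists_normal_prime_index (G := G)
    haveI := hNn
    have hNcard : Nat.card N < n := by
      have h1 := Subgroup.index_mul_card N
      rw [hn] at h1
      have h2 : 2 ≤ N.index := hNp.two_le
      have h3 : 0 < Nat.card N := Nat.card_pos
      nlinarith
    obtain ⟨M₀, iG, iF, hM₀, f₀, hf₀⟩ := ih (Nat.card N) hNcard N inferInstance rfl
    haveI : Fintype (G ⧸ N) := Fintype.ofFinite _
    haveI : Fintype (M₀ ≀ᵣ (G ⧸ N)) := Fintype.ofFinite _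
    refine ⟨M₀ ≀ᵣ (G ⧸ N), inferInstance, inferInstance, ?_, (wrMap f₀).comp (kkHom N), ?_⟩
    · intro χ hχ
      classical
      exact mono_wr (by rw [← Subgroup.index_eq_card]; exact hNp) hM₀ χ hχ
    · exact (wrMap_injective f₀ hf₀).comp (kkHom_injective N)

/-- **Dade**: every finite solvable group is isomorphic to a subgroup of an M-group. -/
theorem exists_mgroup_embedding {G : Type u} [Group G] [Finite G] (hsolv : Group.IsSolvable G) :
    ∃ (M : Type u) (_ : Group M) (_ : Fintype M),
      (∀ χ : M → ℂ, IsIrrCharacter M χ →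
        (∃ (H : Subgroup M) (lam : ↥H →* ℂˣ), χ = indFun H (fun h => (lam h : ℂ)))) ∧
      ∃ f : G →* M, Function.Injective f := by
  obtain ⟨M, iG, iF, hM, f, hf⟩ := exists_mgroup_embedding_aux (Nat.card G) G hsolv rfl
  refine ⟨M, iG, iF, ?_, f, hf⟩
  intro χ hχ
  obtain ⟨U, lam, hlam, hlam1, hind⟩ := hM χ hχ
  obtain ⟨φ, hφ⟩ := Cfsg.Agent.Helper12.exists_monoidHom_of_isCharacter_one hlam hlam1
  refine ⟨U, φ.toHomUnits, ?_⟩
  rw [← hind]
  congr 1
  funext h
  rw [hφ h]
  rfl


end Cfsg.Agent.Helper29.Dade
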