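import Cfsg.Agent.Helper29.TwoDegB
import Cfsg.Agent.Helper24.MinNormalLinear
import Cfsg.Agent.Helper24.SylowInduced
import Cfsg.Agent.Helper8.CliffordAb

set_option autoImplicit false

namespace Cfsg.Agent.Helper29.TwoDeg

open Cfsg Cfsg.Agent.Helper24

universe u

variable {G : Type u} [Group G] [Fintype G]

/-- Key counting lemma (Isaacs 12.4 in the coprime case): if `G ⧸ N` acts fixed-point-freely on
the abelian `N ⧸ K ≃ W` and `ψ ∈ Irr(N)` restricts irreducibly to `K`, then some twist `ψ ν` has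
inertia group `N`. -/
theorem exists_twist_inertia_eq (N K : Subgroup G) [hN : N.Normal] [hK : K.Normal]
    {W : Type*} [CommGroup W] [Finite W] (π : N →* W) (hπ : Function.Surjective π)
    (hπK : ∀ n : N, (n : G) ∈ K → π n = 1)
    (hfpf : ∀ g : G, g ∉ N → ∀ n ∈ N, ∃ x ∈ N, (g * x * g⁻¹ * x⁻¹)⁻¹ * n ∈ K)
    (hcard : N.index ≤ Nat.card W)
    (ψ : IrrCharacter N)
    (hψK : IsIrrCharacter (K.subgroupOf N) (fun k => (ψ : N → ℂ) k)) :
    ∃ lam : W →* ℂˣ, ∀ g : G,
      (∀ n : N, ((lam (π ⟨g * n * g⁻¹, hN.conj_mem n n.2 g⟩) : ℂˣ) : ℂ) *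
          (ψ : N → ℂ) ⟨g * n * g⁻¹, hN.conj_mem n n.2 g⟩ =
        ((lam (π n) : ℂˣ) : ℂ) * (ψ : N → ℂ) n) → g ∈ N := by
  classical
  by_contra hcon
  push Not at hcon
  choose gsel hgsel hgN using hcon
  have : HasEnoughRootsOfUnity ℂ (Monoid.exponent W) := by
    have : NeZero ((Monoid.exponent W : ℕ) : ℂ) :=
      ⟨Nat.cast_ne_zero.mpr Monoid.exponent_ne_zero_of_finite⟩
    infer_instance
  have hcardW : Nat.card (W →* ℂˣ) = Nat.card W :=
    CommGroup.card_monoidHom_of_hasEnoughRootsOfUnity W ℂ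
  have hfinW : Finite (W →* ℂˣ) := by
    apply Nat.finite_of_card_ne_zero
    rw [hcardW]; exact Nat.card_pos.ne'
  have hψcf : IsClassFunction N (ψ : N → ℂ) := isClassFunction_irr ψ
  -- the map to nontrivial cosets
  let F : (W →* ℂˣ) → {q : G ⧸ N // q ≠ 1} := fun lam =>
    ⟨(gsel lam : G ⧸ N), fun h => hgN lam ((QuotientGroup.eq_one_iff _).mp h)⟩
  have hFinj : Function.Injective F := by
    intro lam lam' hF
    have hq : ((gsel lam : G) : G ⧸ N) = (gsel lam' : G ⧸ N) := congrArg Subtype.val hF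
    set g := gsel lam with hg
    have hn₀ : g⁻¹ * gsel lam' ∈ N := QuotientGroup.eq.mp hq
    -- g fixes both twists
    have hfix : ∀ n : N, ((lam (π ⟨g * n * g⁻¹, hN.conj_mem n n.2 g⟩) : ℂˣ) : ℂ) *
          (ψ : N → ℂ) ⟨g * n * g⁻¹, hN.conj_mem n n.2 g⟩ =
        ((lam (π n) : ℂˣ) : ℂ) * (ψ : N → ℂ) n := hgsel lam
    have hfix' : ∀ n : N, ((lam' (π ⟨g * n * g⁻¹, hN.conj_mem n n.2 g⟩) : ℂˣ) : ℂ) *
          (ψ : N → ℂ) ⟨g * n * g⁻¹, hN.conj_mem n n.2 g⟩ =
        ((lam' (π n) : ℂˣ) : ℂ) * (ψ : N → ℂ) n := by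
      intro n
      -- write g = g' * n₀⁻¹
      set g' := gsel lam' with hg'
      set n₀ : N := ⟨g⁻¹ * g', hn₀⟩ with hn₀def
      have h1 := hgsel lam' (n₀⁻¹ * n * n₀)
      have e1 : (⟨g' * ((n₀⁻¹ * n * n₀ : N) : G) * g'⁻¹,
          hN.conj_mem _ (n₀⁻¹ * n * n₀ : N).2 g'⟩ : N) =
          ⟨g * n * g⁻¹, hN.conj_mem n n.2 g⟩ := by
        apply Subtype.ext
        simp only [hn₀def, Subgroup.coe_mul, Subgroup.coe_inv]
        group
      rw [e1] at h1
      rw [h1]
      -- class function invariance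
      have e2 : (ψ : N → ℂ) (n₀⁻¹ * n * n₀) = (ψ : N → ℂ) n := by
        have := hψcf n n₀⁻¹
        simpa using this
      have e3 : π (n₀⁻¹ * n * n₀) = π n := by
        rw [map_mul, map_mul, map_inv, mul_comm, ← mul_assoc, mul_inv_cancel, one_mul]
      rw [e2, e3]
    -- the hom μ
    let cg : N →* N := (MulAut.conjNormal g : N ≃* N).toMonoidHom
    have hcg : ∀ n : N, cg n = ⟨g * n * g⁻¹, hN.conj_mem n n.2 g⟩ := by
      intro n
      apply Subtype.ext
      exact MulAut.conjNormal_apply g n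
    let ρ : N →* ℂˣ := (lam' * lam⁻¹).comp π
    let μ : N →* ℂˣ := ρ⁻¹ * ρ.comp cg
    have hμψ : ∀ x : N, ((μ x : ℂˣ) : ℂ) * (ψ : N → ℂ) x = (ψ : N → ℂ) x := by
      intro n
      have h1 := hfix n
      have h2 := hfix' n
      rw [← hcg] at h1 h2
      have hμ : ((μ n : ℂˣ) : ℂ) = ((lam (π n) : ℂˣ) : ℂ) * ((lam' (π (cg n)) : ℂˣ) : ℂ) *
          (((lam' (π n) : ℂˣ) : ℂ) * ((lam (π (cg n)) : ℂˣ) : ℂ))⁻¹ := by
        simp only [μ, ρ, MonoidHom.mul_apply, MonoidHom.inv_apply, MonoidHom.comp_apply,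
          Units.val_mul, Units.val_inv_eq_inv_val, mul_inv, inv_inv]
        ring
      have hne : (((lam' (π n) : ℂˣ) : ℂ) * ((lam (π (cg n)) : ℂˣ) : ℂ)) ≠ 0 :=
        mul_ne_zero (Units.ne_zero _) (Units.ne_zero _)
      rw [hμ]
      have h3 : ((lam (π n) : ℂˣ) : ℂ) * ((lam' (π (cg n)) : ℂˣ) : ℂ) * (ψ : N → ℂ) n =
          (((lam' (π n) : ℂˣ) : ℂ) * ((lam (π (cg n)) : ℂˣ) : ℂ)) * (ψ : N → ℂ) n := by
        calc ((lam (π n) : ℂˣ) : ℂ) * ((lam' (π (cg n)) : ℂˣ) : ℂ) * (ψ : N → ℂ) n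
            = ((lam' (π (cg n)) : ℂˣ) : ℂ) * (((lam (π n) : ℂˣ) : ℂ) * (ψ : N → ℂ) n) := by ring
          _ = ((lam' (π (cg n)) : ℂˣ) : ℂ) *
              (((lam (π (cg n)) : ℂˣ) : ℂ) * (ψ : N → ℂ) (cg n)) := by rw [h1]
          _ = ((lam (π (cg n)) : ℂˣ) : ℂ) *
              (((lam' (π (cg n)) : ℂˣ) : ℂ) * (ψ : N → ℂ) (cg n)) := by ring
          _ = ((lam (π (cg n)) : ℂˣ) : ℂ) * (((lam' (π n) : ℂˣ) : ℂ) * (ψ : N → ℂ) n) := by
              rw [h2]
          _ = _ := by ring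
      rw [mul_comm _ (_)⁻¹, mul_assoc, h3, ← mul_assoc, inv_mul_cancel₀ hne, one_mul]
    have hμK : ∀ k : K.subgroupOf N, μ ((K.subgroupOf N).subtype k) = 1 := by
      intro k
      have hk : ((k : N) : G) ∈ K := Subgroup.mem_subgroupOf.mp k.2
      have hk' : ((cg (k : N) : N) : G) ∈ K := by
        rw [hcg]
        exact hK.conj_mem _ hk g
      simp only [μ, ρ, MonoidHom.mul_apply, MonoidHom.inv_apply, MonoidHom.comp_apply,
        Subgroup.coe_subtype]
      rw [hπK _ hk, hπK _ hk']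
      simp
    have hμ1 : ∀ x : N, μ x = 1 :=
      hom_eq_one_of_mul_eq (K.subgroupOf N).subtype ψ hψK μ hμK hμψ
    have hρinv : ∀ n : N, ρ (cg n) = ρ n := by
      intro n
      have := hμ1 n
      simp only [μ, MonoidHom.mul_apply, MonoidHom.inv_apply, MonoidHom.comp_apply] at this
      exact (inv_mul_eq_one.mp this).symm
    -- ρ is trivial
    have hρ1 : ∀ n : N, ρ n = 1 := by
      intro n
      obtain ⟨x, hx, hxk⟩ := hfpf g (hgN lam) n n.2
      set k : N := ⟨(g * x * g⁻¹ * x⁻¹)⁻¹ * n, by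
        refine N.mul_mem (N.inv_mem (N.mul_mem (hN.conj_mem x hx g) (N.inv_mem hx))) n.2⟩
        with hkdef
      have hkK : ρ k = 1 := by
        simp only [ρ, MonoidHom.comp_apply]
        rw [hπK k hxk, map_one]
      have hn : n = cg ⟨x, hx⟩ * (⟨x, hx⟩ : N)⁻¹ * k := by
        apply Subtype.ext
        rw [hcg]
        simp only [hkdef, Subgroup.coe_mul, Subgroup.coe_inv]
        group
      rw [hn, map_mul, map_mul, map_inv, hρinv, hkK, mul_inv_cancel, one_mul]
    -- hence lam = lam'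
    have : lam' * lam⁻¹ = 1 := by
      ext w
      obtain ⟨n, rfl⟩ := hπ w
      have := hρ1 n
      simp only [ρ, MonoidHom.comp_apply] at this
      rw [this]; rfl
    exact (mul_inv_eq_one.mp this).symm
  -- counting
  have hc1 : Nat.card (W →* ℂˣ) ≤ Nat.card {q : G ⧸ N // q ≠ 1} :=
    Nat.card_le_card_of_injective F hFinj
  have hc2 : Nat.card {q : G ⧸ N // q ≠ 1} = N.index - 1 := by
    rw [Subgroup.index_eq_card]
    have : Fintype (G ⧸ N) := Fintype.ofFinite _
    rw [Nat.card_eq_fintype_card, Nat.card_eq_fintype_card, Fintype.card_subtype_compl,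
      Fintype.card_subtype_eq]
  have hpos : 0 < N.index := Nat.pos_of_ne_zero Subgroup.index_ne_zero_of_finite
  omega


/-- Case II of the two-degrees theorem: if `G ⧸ K` has abelian commutator subgroup on which the
outside elements act fixed-point-freely, then `G` has an abelian normal subgroup of index `m`. -/
theorem caseII {m : ℕ} (h : TwoDegrees G m) (K : Subgroup G) [hK : K.Normal]
    (hna : ¬ commutator (G ⧸ K) ≤ (⊥ : Subgroup (G ⧸ K)))
    (hab : ∀ a ∈ commutator (G ⧸ K), ∀ b ∈ commutator (G ⧸ K), a * b = b * a)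
    (hfpf : ∀ g : G ⧸ K, g ∉ commutator (G ⧸ K) → ∀ x ∈ commutator (G ⧸ K),
      g * x = x * g → x = 1) :
    ∃ A : Subgroup G, A.Normal ∧ (∀ a ∈ A, ∀ b ∈ A, a * b = b * a) ∧ A.index = m := by
  classical
  have : Fintype (G ⧸ K) := Fintype.ofFinite _
  obtain ⟨hidx, hcop, hle⟩ := caseII_numerics (h.quot K) hna hab hfpf
  obtain ⟨-, hm2⟩ := (h.quot K).exists_deg hna
  set M := commutator (G ⧸ K) with hM
  set N := preComm K with hNdef
  have hNn : N.Normal := inferInstance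
  have : Fintype N := Fintype.ofFinite _
  have : Fintype (K.subgroupOf N) := Fintype.ofFinite _
  have : Fintype (IrrCharacter (K.subgroupOf N)) := Fintype.ofFinite _
  have hNidx : N.index = m := by rw [hNdef, index_preComm, hidx]
  have hrel : (K.subgroupOf N).index = Nat.card M := relIndex_preComm K
  let _ : CommGroup M := { (inferInstance : Group M) with
    mul_comm := fun a b => Subtype.ext (hab a a.2 b b.2) }
  let π : N →* M := ((QuotientGroup.mk' K).comp N.subtype).codRestrict M (fun n => n.2)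
  have hπ : Function.Surjective π := by
    intro w
    obtain ⟨g, hg⟩ := QuotientGroup.mk'_surjective K (w : G ⧸ K)
    refine ⟨⟨g, ?_⟩, ?_⟩
    · show (QuotientGroup.mk' K) g ∈ M
      rw [hg]; exact w.2
    · apply Subtype.ext
      exact hg
  have hπK : ∀ n : N, (n : G) ∈ K → π n = 1 := by
    intro n hn
    apply Subtype.ext
    exact (QuotientGroup.eq_one_iff (n : G)).mpr hn
  have hfpfG := fpf_transfer K hfpf
  refine ⟨N, hNn, ?_, hNidx⟩
  -- all irreducible characters of N are linear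
  have hlin : ∀ ψ : IrrCharacter N, (ψ : N → ℂ) 1 = 1 := by
    intro ψ
    have hd : irrDeg ψ ∣ m := h.irrDeg_dvd N ψ
    -- a constituent of the restriction to K
    have hres : IsCharacter (K.subgroupOf N) (fun k => (ψ : N → ℂ) k) :=
      Helper8.isCharacter_restrict _ (IsIrrCharacter.isCharacter ψ.2)
    have hres0 : (fun k : K.subgroupOf N => (ψ : N → ℂ) k) ≠ 0 := by
      intro h0
      have := congrFun h0 1
      simp only [OneMemClass.coe_one, Pi.zero_apply] at this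
      exact irr_one_ne_zero ψ this
    obtain ⟨φ, hφ⟩ := IsCharacter.exists_irr_constituent hres hres0
    obtain ⟨e, he, hedvd⟩ := irrDeg_dvd_of_over (K.subgroupOf N) ψ φ hφ
    have he1 : e = 1 := by
      have h1 : e ∣ m := (Dvd.intro _ he.symm).trans hd
      rw [hrel] at hedvd
      have := Nat.dvd_gcd h1 hedvd
      rw [hcop] at this
      exact Nat.dvd_one.mp this
    rw [he1, one_mul] at he
    have hψK : IsIrrCharacter (K.subgroupOf N) (fun k => (ψ : N → ℂ) k) := by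
      have := IsCharacter.eq_irr_of_constituent_of_deg hres φ hφ (by
        show (ψ : N → ℂ) ((1 : K.subgroupOf N) : N) = (φ : K.subgroupOf N → ℂ) 1
        rw [OneMemClass.coe_one, irrDeg_spec, irrDeg_spec, he])
      rw [this]; exact φ.2
    obtain ⟨lam, hlam⟩ := exists_twist_inertia_eq N K π hπ hπK hfpfG
      (by rw [hNidx]; exact hle) ψ hψK
    set θ : N → ℂ := fun n => ((lam (π n) : ℂˣ) : ℂ) * (ψ : N → ℂ) n with hθ
    have hθirr : IsIrrCharacter N θ := Helper8.isIrrCharacter_linear_mul (lam.comp π) ψ.2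
    have hirr := isIrrCharacter_indFun_of_inertia N θ hθirr hlam
    have hdeg : indFun N θ 1 = ((m * irrDeg ψ : ℕ) : ℂ) := by
      rw [Helper5.indFun_apply_one, hθ, hNidx]
      simp only [map_one, Units.val_one, one_mul]
      rw [irrDeg_spec]
      push_cast
      rfl
    have h2 : irrDeg ⟨indFun N θ, hirr⟩ = m * irrDeg ψ := by
      have h3 : indFun N θ 1 = ((irrDeg ⟨indFun N θ, hirr⟩ : ℕ) : ℂ) :=
        irrDeg_spec ⟨indFun N θ, hirr⟩
      rw [hdeg] at h3
      exact_mod_cast h3.symm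
    have hpos := irrDeg_pos ψ
    have h1 := h.irrDeg_cases ⟨indFun N θ, hirr⟩
    rw [h2] at h1
    apply (irrDeg_eq_one_iff ψ).mp
    rcases h1 with h1 | h1
    · exact Nat.eq_one_of_mul_eq_one_left h1
    · have : m * irrDeg ψ = m * 1 := by rw [h1, mul_one]
      exact Nat.eq_of_mul_eq_mul_left (by omega) this
  have hcomm := (comm_iff_forall_irr_one (G := N)).mpr hlin
  intro a ha b hb
  exact congrArg Subtype.val (hcomm ⟨a, ha⟩ ⟨b, hb⟩)

end Cfsg.Agent.Helper29.TwoDeg
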