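import Mathlib
import Cfsg.Agent.Helper29.TwoDegC
import Cfsg.Agent.Helper12.ExtraspecialInd
import Cfsg.Agent.Helper8.Ind
import Cfsg.Agent.Helper8.CoherenceKernel

/-!
# Degree graphs of solvable groups, part A: the Frobenius quotient has two degrees
-/

set_option autoImplicit false
set_option linter.style.haveILetI false

namespace Cfsg.Agent.Helper29.DegGraph

open Cfsg Cfsg.Agent.Helper24 Cfsg.Agent.Helper29.TwoDeg

universe u

section TwoDeg

variable {X : Type u} [Group X] [Fintype X]

/-- If the commutator subgroup `M` is abelian and the elements outside `M` act on it without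
fixed points, then every irreducible character has degree `1` or `[X : M]`. -/
theorem twoDegrees_of_fpf
    (hab : ∀ a ∈ commutator X, ∀ b ∈ commutator X, a * b = b * a)
    (hfpf : ∀ g : X, g ∉ commutator X → ∀ x ∈ commutator X, g * x = x * g → x = 1) :
    TwoDegrees X (commutator X).index := by
  classical
  intro χ
  rw [charDegree_irr]
  by_cases h1 : irrDeg χ = 1
  · exact Or.inl h1
  right
  set M := commutator X with hM
  have hMn : M.Normal := inferInstance
  haveI : Fintype M := Fintype.ofFinite _
  haveI : Fintype (IrrCharacter M) := Fintype.ofFinite _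
  have hcomm : ∀ a b : M, a * b = b * a := fun a b => Subtype.ext (hab a a.2 b b.2)
  have hlin : ∀ φ : IrrCharacter M, (φ : M → ℂ) 1 = 1 := (comm_iff_forall_irr_one (G := M)).mp hcomm
  set res : M → ℂ := fun m => (χ : X → ℂ) m with hres
  have hresc : IsCharacter M res := Helper8.isCharacter_restrict _ (IsIrrCharacter.isCharacter χ.2)
  by_cases hex : ∃ φ : IrrCharacter M, classInner res (φ : M → ℂ) ≠ 0 ∧
      ∃ m : M, (φ : M → ℂ) m ≠ 1
  · obtain ⟨φ, hφ, m₀, hm₀⟩ := hex
    obtain ⟨L₀, hL₀⟩ := Helper12.exists_monoidHom_of_isCharacter_one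
      (IsIrrCharacter.isCharacter φ.2) (hlin φ)
    set L : M →* ℂˣ := L₀.toHomUnits with hL
    have hLφ : ∀ m : M, ((L m : ℂˣ) : ℂ) = (φ : M → ℂ) m := by
      intro m
      rw [hL, MonoidHom.coe_toHomUnits, hL₀]
    set θ : M → ℂ := fun x => ((L x : ℂˣ) : ℂ) with hθ
    have hθφ : θ = (φ : M → ℂ) := funext hLφ
    have hθirr : IsIrrCharacter M θ := by rw [hθφ]; exact φ.2
    have hI : ∀ g : X, (∀ n : M, θ ⟨g * n * g⁻¹, hMn.conj_mem n n.2 g⟩ = θ n) → g ∈ M := by
      intro g hg
      by_contra hgM
      have := hom_eq_one_of_fpf_invariant M g (hfpf g hgM) L (fun n => Units.ext (hg n))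
      apply hm₀
      rw [← hLφ, this]
      rfl
    have hirr := isIrrCharacter_indFun_of_inertia M θ hθirr hI
    have hdeg : indFun M θ 1 = (M.index : ℂ) := by
      rw [Helper5.indFun_apply_one, hθ]
      simp
    have hinner : classInner (indFun M θ) (χ : X → ℂ) ≠ 0 := by
      rw [Helper8.frobenius_reciprocity M θ _ (isClassFunction_irr χ), hθφ]
      intro h0
      apply hφ
      rw [← classInner_conj_symm, h0, map_zero]
    have heq : indFun M θ = (χ : X → ℂ) := by
      by_contra hne
      rw [classInner_of_isIrrCharacter hirr χ.2, if_neg hne] at hinner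
      exact hinner rfl
    have h3 : (χ : X → ℂ) 1 = (M.index : ℂ) := by rw [← heq, hdeg]
    rw [irrDeg_spec] at h3
    exact_mod_cast h3
  · exfalso
    push Not at hex
    apply h1
    rw [irrDeg_eq_one_iff]
    apply Helper8.irr_degree_one_of_commutator_le_ker χ
    intro a ha
    have hexp := IsCharacter.eq_sum_classInner hresc
    have hval : ∀ m : M, res m = res 1 := by
      intro m
      rw [hexp]
      simp only [Finset.sum_apply, Pi.smul_apply, smul_eq_mul]
      apply Finset.sum_congr rfl
      intro φ _
      by_cases hc : classInner res (φ : M → ℂ) = 0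
      · rw [hc, zero_mul, zero_mul]
      · rw [hex φ hc m, hex φ hc 1]
    have := hval ⟨a, ha⟩
    simpa [hres] using this

end TwoDeg

end Cfsg.Agent.Helper29.DegGraph
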