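import Mathlib
import Cfsg.Agent.Helper29.DegGraphA
import Cfsg.Agent.Helper24.Gallagher
import Cfsg.Prelude.Def_DegreeGraph

/-!
# Degree graphs of solvable groups, part B: the two cases of Isaacs 12.3
-/

set_option autoImplicit false
set_option linter.style.haveILetI false

namespace Cfsg.Agent.Helper29.DegGraph

open Cfsg Cfsg.Agent.Helper24 Cfsg.Agent.Helper29.TwoDeg

universe u

section Restrict

variable {G : Type u} [Group G] [Fintype G]

/-- An irreducible character of degree coprime to the index of a normal subgroup restricts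
irreducibly. -/
theorem restrict_irr_of_coprime (N : Subgroup G) [hN : N.Normal] (χ : IrrCharacter G)
    (h : (irrDeg χ).Coprime N.index) : IsIrrCharacter N (fun n : N => (χ : G → ℂ) n) := by
  classical
  haveI : Fintype N := Fintype.ofFinite _
  haveI : Fintype (IrrCharacter N) := Fintype.ofFinite _
  have hres : IsCharacter N (fun n : N => (χ : G → ℂ) n) :=
    Helper8.isCharacter_restrict _ (IsIrrCharacter.isCharacter χ.2)
  have hres0 : (fun n : N => (χ : G → ℂ) n) ≠ 0 := by
    intro h0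
    have := congrFun h0 1
    simp only [OneMemClass.coe_one, Pi.zero_apply] at this
    exact irr_one_ne_zero χ this
  obtain ⟨φ, hφ⟩ := IsCharacter.exists_irr_constituent hres hres0
  obtain ⟨e, he, hedvd⟩ := irrDeg_dvd_of_over N χ φ hφ
  have he1 : e = 1 := by
    have h1 : e ∣ irrDeg χ := Dvd.intro _ he.symm
    have := Nat.dvd_gcd h1 hedvd
    rw [h] at this
    exact Nat.dvd_one.mp this
  rw [he1, one_mul] at he
  have := IsCharacter.eq_irr_of_constituent_of_deg hres φ hφ (by
    show (χ : G → ℂ) ((1 : N) : G) = (φ : N → ℂ) 1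
    rw [OneMemClass.coe_one, irrDeg_spec, irrDeg_spec, he])
  rw [this]; exact φ.2

theorem mem_charDegrees_of_irr (θ : G → ℂ) (hθ : IsIrrCharacter G θ) (d : ℕ)
    (hd : θ 1 = (d : ℂ)) : d ∈ charDegrees G := by
  refine ⟨⟨θ, hθ⟩, ?_⟩
  rw [charDegree_irr]
  have := irrDeg_spec ⟨θ, hθ⟩
  have h2 : ((irrDeg ⟨θ, hθ⟩ : ℕ) : ℂ) = (d : ℂ) := by rw [← this]; exact hd
  exact_mod_cast h2

theorem irrDeg_mem_charDegrees (χ : IrrCharacter G) : irrDeg χ ∈ charDegrees G :=
  ⟨χ, charDegree_irr χ⟩

end Restrict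

section CaseP

variable {G : Type u} [Group G] [Fintype G]

/-- Case 1: the quotient `G ⧸ K` is a nonabelian `p`-group. -/
theorem case_pgroup (K : Subgroup G) [hK : K.Normal] (p : ℕ) [hp : Fact p.Prime]
    (hpg : IsPGroup p (G ⧸ K)) (hna : ¬ commutator (G ⧸ K) ≤ (⊥ : Subgroup (G ⧸ K))) :
    ∃ b : ℕ, p ∣ b ∧ b ∈ charDegrees G ∧
      ∀ χ : IrrCharacter G, ¬ p ∣ irrDeg χ → b * irrDeg χ ∈ charDegrees G := by
  classical
  haveI : Fintype (G ⧸ K) := Fintype.ofFinite _
  haveI : Fintype K := Fintype.ofFinite _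
  obtain ⟨β, hβ⟩ := exists_nonlinear hna
  obtain ⟨n, hn⟩ := IsPGroup.iff_card.mp hpg
  have hβd : irrDeg β ∣ p ^ n := by rw [← hn]; exact Helper24.irrDeg_dvd_card β
  have hpβ : p ∣ irrDeg β := by
    obtain ⟨k, hk, hk2⟩ := (Nat.dvd_prime_pow hp.out).mp hβd
    rw [hk2]
    rcases Nat.eq_zero_or_pos k with h0 | h0
    · rw [h0, pow_zero] at hk2; exact absurd hk2 hβ
    · exact dvd_pow_self p h0.ne'
  refine ⟨irrDeg β, hpβ, ?_, ?_⟩
  · refine mem_charDegrees_of_irr _ (irrInflate K β).2 _ ?_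
    show (β : G ⧸ K → ℂ) (QuotientGroup.mk (1 : G)) = _
    rw [QuotientGroup.mk_one, irrDeg_spec]
  · intro χ hχ
    have hidx : K.index = p ^ n := by rw [Subgroup.index_eq_card, hn]
    have hcop : (irrDeg χ).Coprime K.index := by
      rw [hidx]
      apply Nat.Coprime.pow_right
      rw [Nat.coprime_comm, Nat.Prime.coprime_iff_not_dvd hp.out]
      exact hχ
    have hχK := restrict_irr_of_coprime K χ hcop
    have hirr := isIrrCharacter_gallagherTwist K χ hχK β
    refine mem_charDegrees_of_irr _ hirr _ ?_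
    unfold gallagherTwist
    rw [QuotientGroup.mk_one, irrDeg_spec, irrDeg_spec]
    push_cast
    rfl

end CaseP

end Cfsg.Agent.Helper29.DegGraph
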