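import Mathlib
import Cfsg.Agent.Helper29.DegGraphB

/-!
# Degree graphs of solvable groups, part C: the Frobenius case of Isaacs 12.3/12.4
-/

set_option autoImplicit false
set_option linter.style.haveILetI false

namespace Cfsg.Agent.Helper29.DegGraph

open Cfsg Cfsg.Agent.Helper24 Cfsg.Agent.Helper29.TwoDeg

universe u

section MinNormal

variable {X : Type u} [Group X] [Finite X]

/-- An abelian commutator subgroup contained in every nontrivial normal subgroup is a
`p`-group. -/
theorem isPGroup_commutator_of_min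
    (hmin : ∀ L : Subgroup X, L.Normal → L ≠ ⊥ → commutator X ≤ L)
    (hna : ¬ commutator X ≤ (⊥ : Subgroup X))
    (hab : ∀ a ∈ commutator X, ∀ b ∈ commutator X, a * b = b * a) :
    ∃ p : ℕ, p.Prime ∧ IsPGroup p (commutator X) := by
  classical
  set M := commutator X with hM
  have hMn : M.Normal := inferInstance
  have hcard : Nat.card M ≠ 1 := by
    intro h1
    apply hna
    rw [Subgroup.card_eq_one.mp h1]
  set p := (Nat.card M).minFac with hp
  have hpp : p.Prime := Nat.minFac_prime hcard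
  haveI : Fact p.Prime := ⟨hpp⟩
  have hpd : p ∣ Nat.card M := Nat.minFac_dvd _
  refine ⟨p, hpp, ?_⟩
  obtain ⟨P⟩ : Nonempty (Sylow p M) := inferInstance
  have hPn : (P : Subgroup M).Normal := by
    refine ⟨fun n hn g => ?_⟩
    have : g * n * g⁻¹ = n := by
      apply Subtype.ext
      simp only [Subgroup.coe_mul, Subgroup.coe_inv]
      rw [hab g g.2 n n.2]
      group
    rw [this]; exact hn
  haveI hPc : (P : Subgroup M).Characteristic := Sylow.characteristic_of_normal P hPn
  haveI hmapn : ((P : Subgroup M).map M.subtype).Normal := inferInstance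
  have hPne : (P : Subgroup M) ≠ ⊥ := Sylow.ne_bot_of_dvd_card P hpd
  have hmapne : (P : Subgroup M).map M.subtype ≠ ⊥ := by
    intro h0
    apply hPne
    rw [Subgroup.map_eq_bot_iff_of_injective _ M.subtype_injective] at h0
    exact h0
  have hle := hmin _ hmapn hmapne
  have htop : (P : Subgroup M) = ⊤ := by
    rw [eq_top_iff]
    intro m _
    obtain ⟨m', hm', hmm'⟩ := hle m.2
    have : m' = m := Subtype.ext hmm'
    rw [← this]; exact hm'
  have := P.2
  rw [htop] at this
  exact IsPGroup.of_equiv this Subgroup.topEquiv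

end MinNormal

section CaseF

variable {G : Type u} [Group G] [Fintype G]

/-- Case 2: the quotient `G ⧸ K` is a Frobenius group whose kernel is its (abelian) commutator
subgroup. -/
theorem case_frobenius (K : Subgroup G) [hK : K.Normal]
    (hmin : ∀ L : Subgroup (G ⧸ K), L.Normal → L ≠ ⊥ → commutator (G ⧸ K) ≤ L)
    (hna : ¬ commutator (G ⧸ K) ≤ (⊥ : Subgroup (G ⧸ K)))
    (hab : ∀ a ∈ commutator (G ⧸ K), ∀ b ∈ commutator (G ⧸ K), a * b = b * a)
    (hfpf : ∀ g : G ⧸ K, g ∉ commutator (G ⧸ K) → ∀ x ∈ commutator (G ⧸ K),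
      g * x = x * g → x = 1) :
    ∃ f p : ℕ, p.Prime ∧ 2 ≤ f ∧ f ∈ charDegrees G ∧ ¬ p ∣ f ∧
      ∀ χ : IrrCharacter G, (irrDeg χ).Coprime f → ¬ p ∣ irrDeg χ →
        f * irrDeg χ ∈ charDegrees G := by
  classical
  haveI : Fintype (G ⧸ K) := Fintype.ofFinite _
  set M := commutator (G ⧸ K) with hM
  set f := M.index with hf
  have htd : TwoDegrees (G ⧸ K) f := twoDegrees_of_fpf hab hfpf
  obtain ⟨-, hcop, hle⟩ := caseII_numerics htd hna hab hfpf
  obtain ⟨⟨χ₀, hχ₀⟩, hf2⟩ := htd.exists_deg hna
  obtain ⟨p, hpp, hpM⟩ := isPGroup_commutator_of_min hmin hna hab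
  haveI : Fact p.Prime := ⟨hpp⟩
  obtain ⟨a, ha⟩ := IsPGroup.iff_card.mp hpM
  have ha0 : a ≠ 0 := by
    intro h0
    rw [h0, pow_zero] at ha
    apply hna
    rw [hM, Subgroup.card_eq_one.mp ha]
  have hpf : ¬ p ∣ f := by
    intro hd
    have h1 : p ∣ Nat.card M := by rw [ha]; exact dvd_pow_self p ha0
    have := Nat.dvd_gcd hd h1
    rw [hcop] at this
    exact hpp.one_lt.ne' (Nat.dvd_one.mp this)
  refine ⟨f, p, hpp, hf2, ?_, hpf, ?_⟩
  · refine mem_charDegrees_of_irr _ (irrInflate K χ₀).2 _ ?_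
    show (χ₀ : G ⧸ K → ℂ) (QuotientGroup.mk (1 : G)) = _
    rw [QuotientGroup.mk_one, irrDeg_spec, hχ₀]
  · intro χ hχf hχp
    set N := preComm K with hNdef
    have hNn : N.Normal := inferInstance
    haveI : Fintype N := Fintype.ofFinite _
    have hNidx : N.index = f := by rw [hNdef, index_preComm]
    have hrel : (K.subgroupOf N).index = Nat.card M := relIndex_preComm K
    have hψirr : IsIrrCharacter N (fun n : N => (χ : G → ℂ) n) :=
      restrict_irr_of_coprime N χ (by rw [hNidx]; exact hχf)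
    set ψ : IrrCharacter N := ⟨fun n : N => (χ : G → ℂ) n, hψirr⟩ with hψ
    have hψdeg : irrDeg ψ = irrDeg χ := by
      have h1 := irrDeg_spec ψ
      have h2 : (ψ : N → ℂ) 1 = (χ : G → ℂ) 1 := rfl
      rw [h2, irrDeg_spec] at h1
      exact_mod_cast h1.symm
    haveI : (K.subgroupOf N).Normal := inferInstance
    have hψK : IsIrrCharacter (K.subgroupOf N) (fun k => (ψ : N → ℂ) k) := by
      apply restrict_irr_of_coprime (K.subgroupOf N) ψ
      rw [hrel, ha, hψdeg]
      apply Nat.Coprime.pow_right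
      rw [Nat.coprime_comm, Nat.Prime.coprime_iff_not_dvd hpp]
      exact hχp
    let _ : CommGroup M := { (inferInstance : Group M) with
      mul_comm := fun a b => Subtype.ext (hab a a.2 b b.2) }
    let π : N →* M := ((QuotientGroup.mk' K).comp N.subtype).codRestrict M (fun n => n.2)
    have hπ : Function.Surjective π := by
      intro w
      obtain ⟨g, hg⟩ := QuotientGroup.mk'_surjective K (w : G ⧸ K)
      refine ⟨⟨g, ?_⟩, ?_⟩
      · show (QuotientGroup.mk' K) g ∈ M
        rw [hg]; exact w.2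
      · apply Subtype.ext
        exact hg
    have hπK : ∀ n : N, (n : G) ∈ K → π n = 1 := by
      intro n hn
      apply Subtype.ext
      exact (QuotientGroup.eq_one_iff (n : G)).mpr hn
    have hfpfG := fpf_transfer K hfpf
    obtain ⟨lam, hlam⟩ := exists_twist_inertia_eq N K π hπ hπK hfpfG
      (by rw [hNidx]; exact hle) ψ hψK
    set θ : N → ℂ := fun n => ((lam (π n) : ℂˣ) : ℂ) * (ψ : N → ℂ) n with hθ
    have hθirr : IsIrrCharacter N θ := Helper8.isIrrCharacter_linear_mul (lam.comp π) ψ.2
    have hirr := isIrrCharacter_indFun_of_inertia N θ hθirr hlam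
    refine mem_charDegrees_of_irr _ hirr _ ?_
    rw [Helper5.indFun_apply_one, hθ, hNidx]
    simp only [map_one, Units.val_one, one_mul]
    rw [irrDeg_spec, hψdeg]
    push_cast
    rfl

end CaseF

end Cfsg.Agent.Helper29.DegGraph
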