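import Mathlib
import Cfsg.Agent.Helper29.DegGraphC

/-!
# Degree graphs of solvable groups, part D: at most two connected components (Manz)
-/

set_option autoImplicit false
set_option linter.style.haveILetI false

namespace Cfsg.Agent.Helper29.DegGraph

open Cfsg Cfsg.Agent.Helper24 Cfsg.Agent.Helper29.TwoDeg
open scoped commutatorElement

universe u

section Dichotomy

variable {G : Type u} [Group G] [Finite G]

/-- Isaacs 12.3 and 12.4 for a nonabelian solvable group, in arithmetic form. -/
theorem degree_dichotomy [Group.IsSolvable G] (hG : ¬ commutator G ≤ (⊥ : Subgroup G)) :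
    (∃ p b : ℕ, p.Prime ∧ p ∣ b ∧ b ∈ charDegrees G ∧
      ∀ χ : IrrCharacter G, ¬ p ∣ irrDeg χ → b * irrDeg χ ∈ charDegrees G) ∨
    (∃ f p : ℕ, p.Prime ∧ 2 ≤ f ∧ f ∈ charDegrees G ∧ ¬ p ∣ f ∧
      ∀ χ : IrrCharacter G, (irrDeg χ).Coprime f → ¬ p ∣ irrDeg χ →
        f * irrDeg χ ∈ charDegrees G) := by
  classical
  haveI : Fintype G := Fintype.ofFinite G
  obtain ⟨K, hKn, hKc, hmax⟩ := exists_max_normal hG
  haveI := hKn
  have hmin : ∀ L : Subgroup (G ⧸ K), L.Normal → L ≠ ⊥ → commutator (G ⧸ K) ≤ L :=
    fun L hL hne => quot_min K hmax L hL hne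
  have hna := quot_nonabelian K hKc
  set M := commutator (G ⧸ K) with hM
  have hMne : M ≠ ⊥ := fun h0 => hna (by rw [h0])
  have hD : ⁅M, M⁆ = ⊥ := by
    by_contra hne
    have h1 : M ≤ ⁅M, M⁆ := hmin _ inferInstance hne
    exact absurd h1 (not_le_of_gt (Group.IsSolvable.commutator_lt_of_ne_bot hMne))
  have hab : ∀ a ∈ M, ∀ b ∈ M, a * b = b * a := by
    intro a ha b hb
    have : ⁅a, b⁆ ∈ ⁅M, M⁆ := Subgroup.commutator_mem_commutator ha hb
    rw [hD, Subgroup.mem_bot, commutatorElement_eq_one_iff_commute] at this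
    exact this
  by_cases hZ : Subgroup.center (G ⧸ K) = ⊥
  · right
    exact case_frobenius K hmin hna hab (fpf_of_center_eq_bot hmin hab hZ)
  · left
    obtain ⟨p, hpp, hpg⟩ := isPGroup_of_center_ne_bot hmin hna hZ
    haveI : Fact p.Prime := ⟨hpp⟩
    obtain ⟨b, h1, h2, h3⟩ := case_pgroup K p hpg hna
    exact ⟨p, b, hpp, h1, h2, h3⟩

end Dichotomy

section Graph

variable {V : Type*} (Δ : SimpleGraph V)

theorem card_connectedComponent_le_two (a b : V)
    (h : ∀ v, Δ.Reachable a v ∨ Δ.Reachable b v) : Nat.card Δ.ConnectedComponent ≤ 2 := by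
  let f : Bool → Δ.ConnectedComponent := fun t =>
    if t then Δ.connectedComponentMk a else Δ.connectedComponentMk b
  have hf : Function.Surjective f := by
    intro c
    induction c using SimpleGraph.ConnectedComponent.ind with
    | h v =>
      rcases h v with hv | hv
      · exact ⟨true, SimpleGraph.ConnectedComponent.eq.mpr hv⟩
      · exact ⟨false, SimpleGraph.ConnectedComponent.eq.mpr hv⟩
  have := Nat.card_le_card_of_surjective f hf
  simpa using this

end Graph

section Main

variable {G : Type u} [Group G] [Finite G]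

theorem mem_degreePrimes_of_dvd {r d : ℕ} (hr : r.Prime) (hd : d ∈ charDegrees G) (h : r ∣ d) :
    r ∈ degreePrimes G := ⟨hr, d, hd, h⟩

/-- Two vertices dividing a common degree are joined. -/
theorem reachable_of_dvd (r s : degreePrimes G) {d : ℕ} (hd : d ∈ charDegrees G)
    (hr : (r : ℕ) ∣ d) (hs : (s : ℕ) ∣ d) :
    ((degreeGraph G).induce (degreePrimes G)).Reachable r s := by
  by_cases hrs : r = s
  · rw [hrs]
  · apply SimpleGraph.Adj.reachable
    rw [SimpleGraph.comap_adj]
    have hne : (r : ℕ) ≠ (s : ℕ) := fun h => hrs (Subtype.ext h)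
    refine ⟨hne, r.2.1, s.2.1, d, hd, ?_⟩
    exact Nat.Coprime.mul_dvd_of_dvd_of_dvd ((Nat.coprime_primes r.2.1 s.2.1).mpr hne) hr hs

theorem card_components_le_two [Group.IsSolvable G] :
    Nat.card ((degreeGraph G).induce (degreePrimes G)).ConnectedComponent ≤ 2 := by
  classical
  haveI : Fintype G := Fintype.ofFinite G
  set Δ := (degreeGraph G).induce (degreePrimes G) with hΔ
  by_cases hG : commutator G ≤ (⊥ : Subgroup G)
  · -- abelian: no vertices
    have hcomm : ∀ a b : G, a * b = b * a := by
      intro a b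
      have : ⁅a, b⁆ ∈ commutator G :=
        Subgroup.commutator_mem_commutator (Subgroup.mem_top a) (Subgroup.mem_top b)
      have := hG this
      rwa [Subgroup.mem_bot, commutatorElement_eq_one_iff_commute] at this
    have hempty : IsEmpty (degreePrimes G) := by
      constructor
      rintro ⟨r, hr, d, ⟨χ, hχ⟩, hrd⟩
      rw [charDegree_irr, (irrDeg_eq_one_iff χ).mpr ((comm_iff_forall_irr_one).mp hcomm χ)] at hχ
      rw [← hχ] at hrd
      exact hr.one_lt.ne' (Nat.dvd_one.mp hrd)
    have : IsEmpty Δ.ConnectedComponent := by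
      constructor
      intro c
      induction c using SimpleGraph.ConnectedComponent.ind with
      | h v => exact hempty.false v
    rw [Nat.card_of_isEmpty]
    omega
  · -- every vertex comes from a degree
    have hvert : ∀ v : degreePrimes G, ∃ χ : IrrCharacter G, (v : ℕ) ∣ irrDeg χ := by
      rintro ⟨r, hr, d, ⟨χ, hχ⟩, hrd⟩
      refine ⟨χ, ?_⟩
      rw [charDegree_irr] at hχ
      rw [hχ]; exact hrd
    rcases degree_dichotomy hG with ⟨p, b, hpp, hpb, hb, hmul⟩ | ⟨f, p, hpp, hf2, hf, hpf, hmul⟩
    · -- connected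
      set vp : degreePrimes G := ⟨p, mem_degreePrimes_of_dvd hpp hb hpb⟩ with hvp
      apply card_connectedComponent_le_two Δ vp vp
      intro v
      left
      obtain ⟨χ, hχ⟩ := hvert v
      by_cases hpd : p ∣ irrDeg χ
      · exact reachable_of_dvd vp v (irrDeg_mem_charDegrees χ) hpd hχ
      · exact reachable_of_dvd vp v (hmul χ hpd) (Dvd.dvd.mul_right hpb _)
          (Dvd.dvd.mul_left hχ _)
    · have hf1 : f ≠ 1 := by omega
      set s := f.minFac with hs
      have hsp : s.Prime := Nat.minFac_prime hf1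
      have hsf : s ∣ f := Nat.minFac_dvd f
      set vs : degreePrimes G := ⟨s, mem_degreePrimes_of_dvd hsp hf hsf⟩ with hvs
      -- the common part
      have hcommon : ∀ (v : degreePrimes G) (χ : IrrCharacter G), (v : ℕ) ∣ irrDeg χ →
          ¬ p ∣ irrDeg χ → Δ.Reachable vs v := by
        intro v χ hχ hpd
        by_cases hcop : (irrDeg χ).Coprime f
        · exact reachable_of_dvd vs v (hmul χ hcop hpd) (Dvd.dvd.mul_right hsf _)
            (Dvd.dvd.mul_left hχ _)
        · obtain ⟨s', hs'p, hs'd, hs'f⟩ := Nat.Prime.not_coprime_iff_dvd.mp hcop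
          set vs' : degreePrimes G := ⟨s', mem_degreePrimes_of_dvd hs'p hf hs'f⟩ with hvs'
          have h1 : Δ.Reachable vs vs' := reachable_of_dvd vs vs' hf hsf hs'f
          have h2 : Δ.Reachable vs' v :=
            reachable_of_dvd vs' v (irrDeg_mem_charDegrees χ) hs'd hχ
          exact h1.trans h2
      by_cases hpV : p ∈ degreePrimes G
      · set vp : degreePrimes G := ⟨p, hpV⟩ with hvp
        apply card_connectedComponent_le_two Δ vs vp
        intro v
        obtain ⟨χ, hχ⟩ := hvert v
        by_cases hpd : p ∣ irrDeg χ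
        · right
          exact reachable_of_dvd vp v (irrDeg_mem_charDegrees χ) hpd hχ
        · left
          exact hcommon v χ hχ hpd
      · apply card_connectedComponent_le_two Δ vs vs
        intro v
        left
        obtain ⟨χ, hχ⟩ := hvert v
        by_cases hpd : p ∣ irrDeg χ
        · exact absurd (mem_degreePrimes_of_dvd hpp (irrDeg_mem_charDegrees χ) hpd) hpV
        · exact hcommon v χ hχ hpd

end Main

end Cfsg.Agent.Helper29.DegGraph
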