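import Mathlib
import Cfsg.Agent.Helper29.EsnDefs

set_option autoImplicit false

/-! S5877 piece CFG: the abstract configuration from the hypotheses of the statement. -/

namespace Cfsg.Agent.S5877P

open Matrix Module
open scoped commutatorElement

variable {n : ℕ} {F : Type*} [Field F] {r : ℕ}

namespace CFG

/-- anything commuting with an absolutely irreducible group is a (nonzero) scalar -/
theorem scal_of_comm (hn : 0 < n) (R : Subgroup (GLn n F))
    (hirr : Cfsg.Geo.ActsAbsolutelyIrreducibly (Cfsg.Geo.matrixSet R)) (A : GLn n F)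
    (hA : ∀ b ∈ R, A * b = b * A) : A ∈ Zs n F := by
  obtain ⟨c, hc⟩ := hirr.2 (A : Matrix (Fin n) (Fin n) F) (by
    rintro s ⟨b, hb, rfl⟩
    have := congrArg (fun x : GLn n F => (x : Matrix (Fin n) (Fin n) F)) (hA b hb)
    simpa only [Units.val_mul] using this)
  have hc0 : c ≠ 0 := by
    rintro rfl
    rw [zero_smul] at hc
    have h1 : (A : Matrix (Fin n) (Fin n) F) * ((A⁻¹ : GLn n F) : Matrix (Fin n) (Fin n) F) = 1 := by
      rw [← Units.val_mul, mul_inv_cancel, Units.val_one]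
    rw [hc, Matrix.zero_mul] at h1
    have h2 := congrFun (congrFun h1 ⟨0, hn⟩) ⟨0, hn⟩
    simp at h2
  rw [mem_Zs_iff]
  refine ⟨Units.mk0 c hc0, ?_⟩
  apply Units.ext
  rw [sc_val, hc]
  rfl

end CFG

open CFG

theorem exists_cfg [Fintype F] (hn : 0 < n) (R : Subgroup (GLn n F)) (hr : r.Prime)
    (hR : IsPGroup r R) (hZ : Nat.card (Subgroup.center R) = r)
    (hext : commutator R = Subgroup.center R)
    (hirr : Cfsg.Geo.ActsAbsolutelyIrreducibly (Cfsg.Geo.matrixSet R)) :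
    ∃ ζ : Fˣ, Cfg n F r (R ⊔ Zs n F) ζ := by
  classical
  haveI : Fact r.Prime := ⟨hr⟩
  -- a generator of the centre
  have hfin : Finite (Subgroup.center R) := Nat.finite_of_card_ne_zero (by rw [hZ]; exact hr.ne_zero)
  have hnt : Nontrivial (Subgroup.center R) := by
    rw [← Finite.one_lt_card_iff_nontrivial, hZ]
    exact hr.one_lt
  obtain ⟨z₀, hz₀⟩ := exists_ne (1 : Subgroup.center R)
  -- every central element is scalar
  have hcs : ∀ z : Subgroup.center R, ((z : R) : GLn n F) ∈ Zs n F := by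
    intro z
    apply scal_of_comm hn R hirr
    intro b hb
    have h1 := (Subgroup.mem_center_iff.mp z.2) ⟨b, hb⟩
    have h2 := congrArg (fun x : R => (x : GLn n F)) h1
    simpa only [Subgroup.coe_mul] using h2.symm
  obtain ⟨ζ, hζ⟩ := (mem_Zs_iff _).mp (hcs z₀)
  have hζ1 : ζ ≠ 1 := by
    rintro rfl
    apply hz₀
    apply Subtype.ext
    apply Subtype.ext
    rw [hζ, map_one]
    rfl
  have hζr : ζ ^ r = 1 := by
    apply sc_injective hn
    rw [map_pow, map_one, ← hζ]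
    have h1 : z₀ ^ r = 1 := by
      rw [← hZ]
      exact pow_card_eq_one'
    have h2 := congrArg (fun x : Subgroup.center R => ((x : R) : GLn n F)) h1
    simpa using h2
  -- commutators in `R`
  have hcommR : ∀ a ∈ R, ∀ b ∈ R, ∃ k : ℕ, a * b = sc n (ζ ^ k) * (b * a) := by
    intro a ha b hb
    have h1 : ⁅(⟨a, ha⟩ : ↥R), (⟨b, hb⟩ : ↥R)⁆ ∈ commutator ↥R := by
      rw [commutator_def]
      exact Subgroup.commutator_mem_commutator (Subgroup.mem_top _) (Subgroup.mem_top _)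
    rw [hext] at h1
    obtain ⟨k, hk⟩ := mem_powers_of_prime_card hZ hz₀ (g' := ⟨_, h1⟩)
    refine ⟨k, ?_⟩
    have h2 := congrArg (fun x : Subgroup.center R => ((x : R) : GLn n F)) hk
    simp only [SubmonoidClass.coe_pow, Subgroup.coe_pow, commutatorElement_def, Subgroup.coe_mul,
      Subgroup.coe_inv] at h2
    rw [hζ, ← map_pow] at h2
    rw [h2]
    group
  -- structure of `Q`
  have hQ : ∀ a ∈ R ⊔ Zs n F, ∃ a₁ ∈ R, ∃ u : Fˣ, a = a₁ * sc n u := by
    intro a ha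
    rw [Subgroup.mem_sup_of_normal_right] at ha
    obtain ⟨y, hy, z, hz, rfl⟩ := ha
    obtain ⟨u, rfl⟩ := (mem_Zs_iff _).mp hz
    exact ⟨y, hy, u, rfl⟩
  refine ⟨ζ, ⟨hr, hζr, hζ1, le_sup_right, ?_, ?_, ?_⟩⟩
  · intro a ha b hb
    obtain ⟨a₁, ha₁, u, rfl⟩ := hQ a ha
    obtain ⟨b₁, hb₁, v, rfl⟩ := hQ b hb
    obtain ⟨k, hk⟩ := hcommR a₁ ha₁ b₁ hb₁
    refine ⟨k, ?_⟩
    have e1 : a₁ * sc n u * (b₁ * sc n v) = (a₁ * b₁) * (sc n u * sc n v) := by
      rw [mul_assoc a₁, ← mul_assoc (sc n u), sc_comm u b₁, mul_assoc b₁, ← mul_assoc a₁]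
    have e2 : b₁ * sc n v * (a₁ * sc n u) = (b₁ * a₁) * (sc n u * sc n v) := by
      rw [mul_assoc b₁, ← mul_assoc (sc n v), sc_comm v a₁, mul_assoc a₁, ← mul_assoc b₁,
        sc_comm v (sc n u)]
    rw [e1, e2, hk, mul_assoc]
  · intro a ha
    obtain ⟨a₁, ha₁, u, rfl⟩ := hQ a ha
    have h1 : ∀ b ∈ R, ∃ k : ℕ, ∀ j : ℕ, a₁ ^ j * b = sc n (ζ ^ k) ^ j * (b * a₁ ^ j) := by
      intro b hb
      obtain ⟨k, hk⟩ := hcommR a₁ ha₁ b hb
      refine ⟨k, ?_⟩
      intro j
      induction j with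
      | zero => simp
      | succ j ih =>
        calc a₁ ^ (j + 1) * b = a₁ * (a₁ ^ j * b) := by rw [pow_succ', mul_assoc]
          _ = a₁ * (sc n (ζ ^ k) ^ j * (b * a₁ ^ j)) := by rw [ih]
          _ = sc n (ζ ^ k) ^ j * ((a₁ * b) * a₁ ^ j) := by
              rw [← map_pow, ← mul_assoc a₁, ← sc_comm, mul_assoc, mul_assoc]
          _ = sc n (ζ ^ k) ^ j * ((sc n (ζ ^ k) * (b * a₁)) * a₁ ^ j) := by rw [hk]
          _ = sc n (ζ ^ k) ^ (j + 1) * (b * a₁ ^ (j + 1)) := by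
              rw [pow_succ (sc n (ζ ^ k)), pow_succ' a₁]
              simp only [mul_assoc]
    have h2 : a₁ ^ r ∈ Zs n F := by
      apply scal_of_comm hn R hirr
      intro b hb
      obtain ⟨k, hk⟩ := h1 b hb
      rw [hk r, ← map_pow, ← pow_mul, mul_comm, pow_mul, hζr, one_pow, map_one, one_mul]
    have h3 : (a₁ * sc n u) ^ r = a₁ ^ r * sc n (u ^ r) := by
      rw [Commute.mul_pow (sc_comm u a₁).symm, map_pow]
    rw [h3]
    exact (Zs n F).mul_mem h2 (sc_mem _)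
  · intro A hA
    apply scal_of_comm hn R hirr
    intro b hb
    exact hA b (Subgroup.mem_sup_left hb)

end Cfsg.Agent.S5877P
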