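import Mathlib
import Cfsg.Agent.Helper29.EsnDefs
import Cfsg.Agent.Helper4.EsnHFROM
import Cfsg.Agent.Helper29.EsnCFG
import Cfsg.Agent.Helper23.EsnCASEA
import Cfsg.Agent.Helper23.EsnF1
import Cfsg.Agent.Helper5.EsnGRP
import Cfsg.Agent.Helper6.EsnLINA1
import Cfsg.Agent.Helper15.EsnWSP
import Cfsg.Agent.Helper6.EsnDIV3
import Cfsg.Agent.Helper13.EsnCNT1
import Cfsg.Agent.Helper13.EsnCNT2

set_option autoImplicit false

/-! S5877: assembly of the three cases (B1, B2, B3) from the pieces. -/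

namespace Cfsg.Agent.S5877P

open Matrix Module

variable {n : ℕ} {F : Type*} [Field F] {r : ℕ} {Q : Subgroup (GLn n F)} {ζ : Fˣ}

theorem tw_mem (g : GLn n F) (hg : ∀ a, a ∈ Q ↔ g * a * g⁻¹ ∈ Q) (a : GLn n F) (ha : a ∈ Q) :
    tw g a ∈ Q := Q.mul_mem (Q.inv_mem ha) ((hg a).mp ha)

/-- Case B1: some twist is not scalar. -/
theorem caseB1 (hC : Cfg n F r Q ζ) (g : GLn n F) (hg : ∀ a, a ∈ Q ↔ g * a * g⁻¹ ∈ Q)
    (a : GLn n F) (ha : a ∈ Q) (hta : tw g a ∉ Zs n F) (c : F) :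
    2 * r * finrank F (Eig g c) ≤ (r + 1) * n := by
  by_cases hc : c = 0
  · subst hc
    rw [Eig_zero, finrank_bot]
    simp
  have htQ : tw g a ∈ Q := tw_mem g hg a ha
  have h1 := finrank_Eig_le_of_not_scalar hC (tw g a) htQ hta 1
  have h2 : Wsp g c a ≤ Eig (tw g a) 1 := by
    intro v hv
    rw [mem_Eig, one_smul]
    exact tw_fixes_Wsp g a c hc v hv
  have h3 := Submodule.finrank_mono h2
  have h4 := finrank_Wsp_ge g c a
  calc 2 * r * finrank F (Eig g c) = r * (2 * finrank F (Eig g c)) := by ring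
    _ ≤ r * (n + finrank F (Wsp g c a)) := Nat.mul_le_mul_left _ h4
    _ = r * n + r * finrank F (Wsp g c a) := by ring
    _ ≤ r * n + r * finrank F (Eig (tw g a) 1) := by
        apply Nat.add_le_add_left (Nat.mul_le_mul_left _ h3)
    _ ≤ r * n + n := Nat.add_le_add_left h1 _
    _ = (r + 1) * n := by ring

/-- Case B2: the order of `g` is odd and prime to `r`. -/
theorem caseB2 (hC : Cfg n F r Q ζ) (g : GLn n F) (hg : ∀ a, a ∈ Q ↔ g * a * g⁻¹ ∈ Q)
    (hgZ : g ∉ Zs n F) (p : ℕ) (hodd : Odd p) (hcop : Nat.Coprime p r) (hgp : g ^ p = 1)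
    (c : F) : 2 * finrank F (Eig g c) ≤ n := by
  by_contra hcon
  push Not at hcon
  have hc : c ≠ 0 := by
    rintro rfl
    rw [Eig_zero, finrank_bot] at hcon
    omega
  have hall : ∀ a ∈ Q, tw g a ∈ Zs n F := by
    apply twist_central_of_comm (Zs n F) Q Zs_le_center hC.scal_le ?_ ?_ r hC.pow g hg p hodd
      hcop hgp ?_
    · intro a ha b hb
      obtain ⟨k, hk⟩ := hC.comm a ha b hb
      have : a * b * a⁻¹ * b⁻¹ = sc n (ζ ^ k) := by
        rw [hk]
        group
      rw [this]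
      exact sc_mem _
    · intro a _ h
      exact hC.centG a h
    · intro a ha
      have hW : Wsp g c a ≠ ⊥ := by
        intro h0
        have := finrank_Wsp_ge g c a
        rw [h0, finrank_bot] at this
        omega
      have htQ : tw g a ∈ Q := tw_mem g hg a ha
      have h1 := tw_fixes_Wsp g a c hc
      have h2 := conj_fixes g (tw g a) c hc (Wsp g c a) inf_le_left h1
      exact comm_of_common_fixed hC _ _ htQ ((hg _).mp htQ) _ hW h1 h2
  have h1 := caseA hC g hgZ hall c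
  have h2 := hC.prime.two_le
  nlinarith

/-- Case B3: the order of `g` is `r ≥ 5`. -/
theorem caseB3 (hC : Cfg n F r Q ζ) (g : GLn n F) (hg : ∀ a, a ∈ Q ↔ g * a * g⁻¹ ∈ Q)
    (hgZ : g ∉ Zs n F) (hr5 : 5 ≤ r) (hgr : g ^ r = 1) (c : F) :
    2 * finrank F (Eig g c) ≤ n := by
  by_contra hcon
  push Not at hcon
  by_cases hall : ∀ a ∈ Q, tw g a ∈ Zs n F
  · have h1 := caseA hC g hgZ hall c
    nlinarith
  · push Not at hall
    obtain ⟨a, ha, hta⟩ := hall
    obtain ⟨b, hb, hbZ, hgb, hbr⟩ := exists_fixed_twist hC g hg hgr c hcon a ha hta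
    have hbQ : tw g b ∈ Q := tw_mem g hg b hb
    have hrel : g * b * g⁻¹ = b * tw g b := by
      unfold tw
      group
    by_cases hcomm : b * tw g b = tw g b * b
    · have h1 := cnt_comm hC g b (tw g b) hb hbQ hbZ hrel hgb hcomm hbr c
      have h2 : r ^ 2 * (n + 1) ≤ r ^ 2 * (2 * finrank F (Eig g c)) :=
        Nat.mul_le_mul_left _ hcon
      have h3 : 5 * (r * n) ≤ r * (r * n) := Nat.mul_le_mul_right _ hr5
      nlinarith
    · have h1 := cnt_noncomm hC (by omega) g b (tw g b) hb hbQ hrel hgb hcomm hbr c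
      have h2 : r * (n + 1) ≤ r * (2 * finrank F (Eig g c)) := Nat.mul_le_mul_left _ hcon
      have h3 : 5 * (n + 1) ≤ r * (n + 1) := Nat.mul_le_mul_right _ hr5
      nlinarith

end Cfsg.Agent.S5877P
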