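import Mathlib
import Cfsg.Prelude.Def_Characters
import Cfsg.Agent.Helper24.ColumnOrth
import Cfsg.Agent.Helper23.CharGalois

set_option autoImplicit false

/-! Field of values of a group element: orbit sums of roots of unity lie in it. -/

namespace Cfsg.Agent.Helper29.FieldVal

open Cfsg Cfsg.Agent.Helper24 Cfsg.Agent.Helper23

/-- field generated by the irreducible character values at `g` -/
noncomputable def valField {G : Type*} [Group G] (g : G) : IntermediateField ℚ ℂ :=
  IntermediateField.adjoin ℚ {z : ℂ | ∃ χ : IrrCharacter G, (χ : G → ℂ) g = z}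

theorem irr_mem_valField {G : Type*} [Group G] (g : G) (χ : IrrCharacter G) :
    (χ : G → ℂ) g ∈ valField g :=
  IntermediateField.subset_adjoin ℚ _ ⟨χ, rfl⟩

theorem geom_sum_root (m : ℕ) (ω : ℂ) (hω : ω ^ m = 1) :
    ∑ j ∈ Finset.range m, ω ^ j = if ω = 1 then (m : ℂ) else 0 := by
  split_ifs with h
  · subst h
    simp
  · have h1 := geom_sum_mul ω m
    rw [hω, sub_self] at h1
    rcases mul_eq_zero.mp h1 with h2 | h2
    · exact h2
    · exact absurd (sub_eq_zero.mp h2) h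

section
variable {G V : Type*} [Group G] [Finite G] [AddCommGroup V] [Module ℂ V] [FiniteDimensional ℂ V]

theorem exists_nat_sum_conj (ρ : Representation ℂ G V) (g : G) (ζ : ℂ)
    (hζ : ζ ^ orderOf g = 1) :
    ∃ N : ℕ, ∑ j ∈ Finset.range (orderOf g),
      ζ ^ j * (starRingEnd ℂ) (ρ.character (g ^ j)) = (N : ℂ) := by
  classical
  refine ⟨∑ μ ∈ eigenFinset (ρ g), Module.finrank ℂ (Module.End.eigenspace (ρ g) μ) *
    (if ζ * μ⁻¹ = 1 then orderOf g else 0), ?_⟩
  have h1 : ∀ j : ℕ, ζ ^ j * (starRingEnd ℂ) (ρ.character (g ^ j)) =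
      ∑ μ ∈ eigenFinset (ρ g),
        (Module.finrank ℂ (Module.End.eigenspace (ρ g) μ) : ℂ) * (ζ * μ⁻¹) ^ j := by
    intro j
    rw [char_pow_eq_sum_eigen, map_sum, Finset.mul_sum]
    refine Finset.sum_congr rfl ?_
    intro μ hμ
    have hn : ‖μ‖ = 1 := rho_eigenvalue_norm ρ g (mem_eigenFinset.mp hμ)
    rw [map_mul, map_pow, Complex.conj_natCast, ← inv_eq_conj_of_norm_eq_one hn, mul_pow]
    ring
  simp_rw [h1]
  rw [Finset.sum_comm]
  push_cast
  refine Finset.sum_congr rfl ?_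
  intro μ hμ
  rw [← Finset.mul_sum]
  congr 1
  have hμ1 : μ ^ orderOf g = 1 := rho_eigenvalue_pow ρ g (mem_eigenFinset.mp hμ)
  have hω : (ζ * μ⁻¹) ^ orderOf g = 1 := by
    rw [mul_pow, inv_pow, hζ, hμ1, inv_one, one_mul]
  rw [geom_sum_root _ _ hω]

end

variable {G : Type*} [Group G] [Finite G]

open Classical in
theorem orbit_sum_mem_valField (g : G) (ζ : ℂ) (hζ : ζ ^ orderOf g = 1) :
    ∑ j ∈ (Finset.range (orderOf g)).filter (fun j => IsConj g (g ^ j)), ζ ^ j
      ∈ valField g := by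
  haveI : Fintype G := Fintype.ofFinite G
  haveI : Fintype (IrrCharacter G) := Fintype.ofFinite _
  -- for each χ a natural number
  have hN : ∀ χ : IrrCharacter G, ∃ N : ℕ, ∑ j ∈ Finset.range (orderOf g),
      ζ ^ j * (starRingEnd ℂ) ((χ : G → ℂ) (g ^ j)) = (N : ℂ) := by
    intro χ
    obtain ⟨n, ρ, hρ⟩ := IsIrrCharacter.isCharacter χ.2
    rw [← hρ]
    exact exists_nat_sum_conj ρ g ζ hζ
  choose N hN using hN
  have key : (Nat.card (Subgroup.centralizer ({g} : Set G)) : ℂ) *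
      ∑ j ∈ (Finset.range (orderOf g)).filter (fun j => IsConj g (g ^ j)), ζ ^ j =
      ∑ χ : IrrCharacter G, (χ : G → ℂ) g * (N χ : ℂ) := by
    simp_rw [← hN, Finset.mul_sum]
    rw [Finset.sum_comm]
    rw [Finset.sum_filter]
    refine Finset.sum_congr rfl ?_
    intro j _
    have h2 := sum_irr_mul_conj g (g ^ j)
    have : ∑ χ : IrrCharacter G, (χ : G → ℂ) g * (ζ ^ j * (starRingEnd ℂ) ((χ : G → ℂ) (g ^ j)))
        = ζ ^ j * ∑ χ : IrrCharacter G, (χ : G → ℂ) g * (starRingEnd ℂ) ((χ : G → ℂ) (g ^ j)) := by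
      rw [Finset.mul_sum]
      refine Finset.sum_congr rfl ?_
      intro χ _
      ring
    rw [this, h2]
    split_ifs <;> ring
  have hc0 : (Nat.card (Subgroup.centralizer ({g} : Set G)) : ℂ) ≠ 0 := by
    have : 0 < Nat.card (Subgroup.centralizer ({g} : Set G)) := Nat.card_pos
    exact_mod_cast this.ne'
  have hmem : ∑ χ : IrrCharacter G, (χ : G → ℂ) g * (N χ : ℂ) ∈ valField g := by
    refine sum_mem ?_
    intro χ _
    exact mul_mem (irr_mem_valField g χ) (natCast_mem _ _)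
  rw [← key] at hmem
  have h4 := mul_mem (inv_mem (natCast_mem (valField g)
    (Nat.card (Subgroup.centralizer ({g} : Set G))))) hmem
  rw [← mul_assoc, inv_mul_cancel₀ hc0, one_mul] at h4
  convert h4

end Cfsg.Agent.Helper29.FieldVal
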