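import Mathlib
import Cfsg.Agent.Helper29.FieldValA
import Cfsg.Agent.Helper8.GaloisChar

set_option autoImplicit false

/-! Field of values of a group element, continued. -/

namespace Cfsg.Agent.Helper29.FieldVal

open Cfsg Cfsg.Agent.Helper24 Cfsg.Agent.Helper23

variable {G : Type*} [Group G] [Finite G]

/-- an automorphism fixing all `χ(g)` fixes the field of values pointwise -/
theorem aut_fix_valField (g : G) (τ : ℂ ≃+* ℂ)
    (h : ∀ χ : IrrCharacter G, τ ((χ : G → ℂ) g) = (χ : G → ℂ) g) :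
    ∀ z ∈ valField g, τ z = z := by
  intro z hz
  unfold valField at hz
  induction hz using IntermediateField.adjoin_induction with
  | mem x hx =>
    obtain ⟨χ, rfl⟩ := hx
    exact h χ
  | algebraMap x =>
    exact map_ratCast τ x
  | add x y _ _ hx hy => rw [map_add, hx, hy]
  | inv x _ hx => rw [map_inv₀, hx]
  | mul x y _ _ hx hy => rw [map_mul, hx, hy]

theorem valField_le (g : G) (L : IntermediateField ℚ ℂ)
    (h : ∀ χ : IrrCharacter G, (χ : G → ℂ) g ∈ L) : valField g ≤ L := by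
  unfold valField
  rw [IntermediateField.adjoin_le_iff]
  rintro z ⟨χ, rfl⟩
  exact h χ

/-- power sums of two numbers with sum and product in a field -/
theorem pow_add_pow_mem (L : IntermediateField ℚ ℂ) (a b : ℂ) (hs : a + b ∈ L) (hp : a * b ∈ L) :
    ∀ i : ℕ, a ^ i + b ^ i ∈ L := by
  intro i
  induction i using Nat.strong_induction_on with
  | _ i ih =>
    match i, ih with
    | 0, _ =>
      simp only [pow_zero]
      have : (1 : ℂ) + 1 = ((2 : ℕ) : ℂ) := by norm_num
      rw [this]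
      exact natCast_mem L 2
    | 1, _ => simpa using hs
    | (i + 2), ih =>
      have h1 := ih (i + 1) (by omega)
      have h0 := ih i (by omega)
      have : a ^ (i + 2) + b ^ (i + 2) = (a + b) * (a ^ (i + 1) + b ^ (i + 1)) -
          a * b * (a ^ i + b ^ i) := by ring
      rw [this]
      exact sub_mem (mul_mem hs h1) (mul_mem hp h0)

/-- if `g ~ g^k` and `L` contains `ζ + ζ^k` and `ζ * ζ^k`, then the field of values at `g` is
inside `L` -/
theorem valField_le_of_isConj (g : G) (k : ℕ) (hk : IsConj g (g ^ k)) (ζ : ℂ)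
    (hζ : IsPrimitiveRoot ζ (orderOf g)) (L : IntermediateField ℚ ℂ)
    (hs : ζ + ζ ^ k ∈ L) (hp : ζ * ζ ^ k ∈ L) : valField g ≤ L := by
  classical
  apply valField_le
  intro χ
  obtain ⟨n, ρ, hρ⟩ := IsIrrCharacter.isCharacter χ.2
  have hcl : (χ : G → ℂ) g = (χ : G → ℂ) (g ^ k) :=
    IsClassFunction.eq_of_isConj (isClassFunction_irr χ) hk
  have h1 : (χ : G → ℂ) g = ∑ μ ∈ eigenFinset (ρ g),
      μ * (Module.finrank ℂ (Module.End.eigenspace (ρ g) μ) : ℂ) := by
    rw [← hρ]; exact char_eq_sum_eigen ρ g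
  have h2 : (χ : G → ℂ) (g ^ k) = ∑ μ ∈ eigenFinset (ρ g),
      μ ^ k * (Module.finrank ℂ (Module.End.eigenspace (ρ g) μ) : ℂ) := by
    rw [← hρ]; exact char_pow_eq_sum_eigen ρ g k
  have h3 : (χ : G → ℂ) g = ((2 : ℕ) : ℂ)⁻¹ * ∑ μ ∈ eigenFinset (ρ g),
      (μ + μ ^ k) * (Module.finrank ℂ (Module.End.eigenspace (ρ g) μ) : ℂ) := by
    have : ∑ μ ∈ eigenFinset (ρ g),
      (μ + μ ^ k) * (Module.finrank ℂ (Module.End.eigenspace (ρ g) μ) : ℂ) =
        (χ : G → ℂ) g + (χ : G → ℂ) (g ^ k) := by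
      rw [h1, h2, ← Finset.sum_add_distrib]
      refine Finset.sum_congr rfl ?_
      intro μ _
      ring
    rw [this, ← hcl]
    push_cast
    ring
  rw [h3]
  refine mul_mem (inv_mem (natCast_mem L 2)) (sum_mem ?_)
  intro μ hμ
  refine mul_mem ?_ (natCast_mem L _)
  have hμ1 : μ ^ orderOf g = 1 := rho_eigenvalue_pow ρ g (mem_eigenFinset.mp hμ)
  haveI : NeZero (orderOf g) := ⟨(orderOf_pos g).ne'⟩
  obtain ⟨i, -, rfl⟩ := hζ.eq_pow_of_pow_eq_one hμ1
  have := pow_add_pow_mem L ζ (ζ ^ k) hs hp i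
  rwa [← pow_mul, mul_comm k i, pow_mul] at this

/-- if the powers of `g` conjugate to `g` are exactly `g` and `g^k`, then `ζ + ζ^k` is in the
field of values. -/
theorem add_pow_mem_valField (g : G) (k : ℕ) (hk1 : k ≠ 1) (hkm : k < orderOf g)
    (hm : 1 < orderOf g)
    (hk : IsConj g (g ^ k))
    (hall : ∀ j, j < orderOf g → IsConj g (g ^ j) → j = 1 ∨ j = k) (ζ : ℂ)
    (hζ : ζ ^ orderOf g = 1) : ζ + ζ ^ k ∈ valField g := by
  classical
  have h := orbit_sum_mem_valField g ζ hζ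
  have hS : (Finset.range (orderOf g)).filter (fun j => IsConj g (g ^ j)) = {1, k} := by
    ext j
    simp only [Finset.mem_filter, Finset.mem_range, Finset.mem_insert, Finset.mem_singleton]
    constructor
    · rintro ⟨h1, h2⟩
      exact hall j h1 h2
    · rintro (rfl | rfl)
      · exact ⟨hm, by rw [pow_one]⟩
      · exact ⟨hkm, hk⟩
  have h5 : ∑ j ∈ ({1, k} : Finset ℕ), ζ ^ j = ζ + ζ ^ k := by
    rw [Finset.sum_pair (Ne.symm hk1), pow_one]
  rw [← h5, ← hS]
  convert h

end Cfsg.Agent.Helper29.FieldVal
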