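import Mathlib
import Cfsg.Agent.Helper29.FieldValB

set_option autoImplicit false

/-! Field of values of a group element: Galois action. -/

namespace Cfsg.Agent.Helper29.FieldVal

open Cfsg Cfsg.Agent.Helper24 Cfsg.Agent.Helper23

variable {G : Type*} [Group G] [Finite G]

/-- an automorphism acting as the `k`-th power on `N`-th roots of unity, with `o(g) ∣ N`,
maps `χ(g)` to `χ(g^k)`. -/
theorem aut_irr_apply_of_orderOf_dvd (g : G) (N k : ℕ) (hN : orderOf g ∣ N) (τ : ℂ ≃+* ℂ)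
    (hτ : ∀ μ : ℂ, μ ^ N = 1 → τ μ = μ ^ k) (χ : IrrCharacter G) :
    τ ((χ : G → ℂ) g) = (χ : G → ℂ) (g ^ k) := by
  classical
  obtain ⟨n, ρ, hρ⟩ := IsIrrCharacter.isCharacter χ.2
  rw [← hρ, char_eq_sum_eigen ρ g, char_pow_eq_sum_eigen ρ g k, map_sum]
  refine Finset.sum_congr rfl ?_
  intro μ hμ
  have hμ1 : μ ^ orderOf g = 1 := rho_eigenvalue_pow ρ g (mem_eigenFinset.mp hμ)
  have hμN : μ ^ N = 1 := by
    obtain ⟨c, rfl⟩ := hN
    rw [pow_mul, hμ1, one_pow]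
  rw [map_mul, map_natCast, hτ μ hμN]

theorem aut_fix_valField_of_isConj (g : G) (N k : ℕ) (hN : orderOf g ∣ N) (τ : ℂ ≃+* ℂ)
    (hτ : ∀ μ : ℂ, μ ^ N = 1 → τ μ = μ ^ k) (hk : IsConj g (g ^ k)) :
    ∀ z ∈ valField g, τ z = z := by
  apply aut_fix_valField
  intro χ
  rw [aut_irr_apply_of_orderOf_dvd g N k hN τ hτ χ]
  exact (IsClassFunction.eq_of_isConj (isClassFunction_irr χ) hk).symm

theorem primitive_pow_half (n : ℕ) (hn : 3 ≤ n) (ζ : ℂ) (hζ : IsPrimitiveRoot ζ (2 ^ (n - 1))) :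
    ζ ^ (2 ^ (n - 2)) = -1 := by
  have h2 : (2 : ℕ) ^ (n - 1) = 2 ^ (n - 2) * 2 := by
    rw [← pow_succ]; congr 1; omega
  have := hζ.pow (by positivity) h2
  exact this.eq_neg_one_of_two_right

/-- if the order of `g` is at most `2^(n-2)` then `ζ ± ζ⁻¹` is not in the field of values
(`n ≥ 4`) -/
theorem not_mem_valField_of_small_order (g : G) (n : ℕ) (hn : 4 ≤ n) (ζ : ℂ)
    (hζ : IsPrimitiveRoot ζ (2 ^ (n - 1))) (hg : orderOf g ∣ 2 ^ (n - 2)) (ε : ℂ)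
    (hε : ε = 1 ∨ ε = -1) : ζ + ε * ζ⁻¹ ∉ valField g := by
  intro hmem
  have hcop : (1 + 2 ^ (n - 2)).Coprime (2 ^ (n - 1)) := by
    apply Nat.Coprime.pow_right
    rw [Nat.coprime_two_right]
    have : (2 : ℕ) ^ (n - 2) = 2 * 2 ^ (n - 3) := by
      rw [← pow_succ']; congr 1; omega
    rw [this]
    exact ⟨2 ^ (n - 3), by ring⟩
  obtain ⟨τ, hτ⟩ := Cfsg.Agent.Helper8.exists_complex_aut_pow (2 ^ (n - 1)) (by positivity)
    (1 + 2 ^ (n - 2)) hcop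
  have hdvd : orderOf g ∣ 2 ^ (n - 1) := by
    refine hg.trans (pow_dvd_pow 2 (by omega))
  have hgk : g ^ (1 + 2 ^ (n - 2)) = g := by
    rw [pow_add, pow_one, orderOf_dvd_iff_pow_eq_one.mp hg, mul_one]
  have hfix := aut_fix_valField_of_isConj g (2 ^ (n - 1)) (1 + 2 ^ (n - 2)) hdvd τ hτ
    (by rw [hgk])
  have h1 := hfix _ hmem
  have hζ1 : ζ ^ (2 ^ (n - 1)) = 1 := hζ.pow_eq_one
  have hτζ : τ ζ = -ζ := by
    rw [hτ ζ hζ1, pow_add, pow_one, primitive_pow_half n (by omega) ζ hζ]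
    ring
  have hε' : τ ε = ε := by
    rcases hε with rfl | rfl
    · exact map_one τ
    · rw [map_neg, map_one]
  rw [map_add, map_mul, map_inv₀, hτζ, hε'] at h1
  have hζ0 : ζ ≠ 0 := hζ.ne_zero (by positivity)
  have h2 : ζ + ε * ζ⁻¹ = 0 := by
    have : -ζ + ε * (-ζ)⁻¹ = -(ζ + ε * ζ⁻¹) := by
      rw [inv_neg]; ring
    rw [this] at h1
    have h3 : (2 : ℂ) * (ζ + ε * ζ⁻¹) = 0 := by linear_combination -h1
    rcases mul_eq_zero.mp h3 with h4 | h4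
    · norm_num at h4
    · exact h4
  have h3 : ζ ^ 2 = -ε := by
    have : ζ * (ζ + ε * ζ⁻¹) = 0 := by rw [h2, mul_zero]
    rw [mul_add, ← mul_assoc, mul_comm ζ ε, mul_assoc, mul_inv_cancel₀ hζ0, mul_one] at this
    linear_combination this
  have h4 : ζ ^ 4 = 1 := by
    have : ζ ^ 4 = (ζ ^ 2) ^ 2 := by ring
    rw [this, h3]
    rcases hε with rfl | rfl <;> norm_num
  have h5 := hζ.dvd_of_pow_eq_one 4 h4
  have h6 : (2 : ℕ) ^ 3 ∣ 2 ^ (n - 1) := pow_dvd_pow 2 (by omega)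
  have := Nat.le_of_dvd (by norm_num) (h6.trans h5)
  norm_num at this

end Cfsg.Agent.Helper29.FieldVal
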