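import Mathlib
import Cfsg.Agent.Helper9.MaxClassTwoC

set_option autoImplicit false

/-! 2-groups with a cyclic subgroup of index 2: conjugation exponent and abelianization. -/

namespace Cfsg.Agent.Helper29.FieldVal

open Subgroup
open scoped commutatorElement

universe u

theorem exists_nat_pow_of_mem_zpowers {X : Type u} [Group X] (c y : X) (hc : 0 < orderOf c)
    (hy : y ∈ Subgroup.zpowers c) : ∃ k : ℕ, k < orderOf c ∧ c ^ k = y := by
  obtain ⟨i, rfl⟩ := Subgroup.mem_zpowers_iff.mp hy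
  refine ⟨(i % (orderOf c : ℤ)).toNat, ?_, ?_⟩
  · have h1 : 0 ≤ i % (orderOf c : ℤ) := Int.emod_nonneg _ (by exact_mod_cast hc.ne')
    have h2 : i % (orderOf c : ℤ) < orderOf c := Int.emod_lt_of_pos _ (by exact_mod_cast hc)
    omega
  · have h1 : 0 ≤ i % (orderOf c : ℤ) := Int.emod_nonneg _ (by exact_mod_cast hc.ne')
    rw [← zpow_natCast, Int.toNat_of_nonneg h1, zpow_mod_orderOf]

/-- an element of `⟨c⟩` commuting with `x ∉ ⟨c⟩` is central. -/
theorem mem_center_of_comm {X : Type u} [Group X] (c : X)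
    (hC : (Subgroup.zpowers c).index = 2) (x : X) (hx : x ∉ Subgroup.zpowers c) (z : X)
    (hz : z ∈ Subgroup.zpowers c) (hxz : x * z = z * x) : z ∈ Subgroup.center X := by
  obtain ⟨j, rfl⟩ := Subgroup.mem_zpowers_iff.mp hz
  refine Subgroup.mem_center_iff.mpr ?_
  intro y
  rcases Cfsg.Agent.Helper9.exists_zpow_of_index_two c hC x hx y with ⟨i, rfl⟩ | ⟨i, rfl⟩
  · rw [← zpow_add, ← zpow_add, add_comm]
  · rw [mul_assoc, ← zpow_add, add_comm, zpow_add, ← mul_assoc, hxz, mul_assoc]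

theorem conj_pow_eq {X : Type u} [Group X] (x c : X) (i : ℕ) :
    x * c ^ i * x⁻¹ = (x * c * x⁻¹) ^ i := by
  rw [conj_pow]

/-- number theory: `k² ≡ 1 mod 2^(n-1)` and `k ≢ 1 mod 4` give `2^(n-2) ∣ k + 1`. -/
theorem two_pow_dvd_succ (n k : ℕ) (hn : 3 ≤ n) (hk : k * k ≡ 1 [MOD 2 ^ (n - 1)])
    (h4 : ¬ k ≡ 1 [MOD 4]) : 2 ^ (n - 2) ∣ k + 1 := by
  have hodd : k % 2 = 1 := by
    have h2 : (2 : ℕ) ∣ 2 ^ (n - 1) := dvd_pow_self 2 (by omega)
    have := hk.of_dvd h2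
    have h3 : k * k % 2 = 1 := by
      have := this
      unfold Nat.ModEq at this
      simpa using this
    rcases Nat.mod_two_eq_zero_or_one k with h | h
    · exfalso
      have : k * k % 2 = 0 := by
        rw [Nat.mul_mod, h]
      omega
    · exact h
  have h43 : k % 4 = 3 := by
    unfold Nat.ModEq at h4
    omega
  obtain ⟨q, hq⟩ : ∃ q, k = 4 * q + 3 := ⟨k / 4, by omega⟩
  subst hq
  have h1 : 2 ^ (n - 1) ∣ (4 * q + 3) * (4 * q + 3) - 1 :=
    (Nat.modEq_iff_dvd' (by nlinarith)).mp hk.symm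
  have h2 : (4 * q + 3) * (4 * q + 3) - 1 = (2 * q + 1) * (2 * (4 * (q + 1))) := by
    have : (4 * q + 3) * (4 * q + 3) = (2 * q + 1) * (2 * (4 * (q + 1))) + 1 := by ring
    omega
  rw [h2] at h1
  have hcop : Nat.Coprime (2 ^ (n - 1)) (2 * q + 1) := by
    apply Nat.Coprime.pow_left
    rw [Nat.coprime_two_left]
    exact ⟨q, rfl⟩
  have h3 := hcop.dvd_of_dvd_mul_left h1
  have h4' : (2 : ℕ) ^ (n - 1) = 2 * 2 ^ (n - 2) := by
    rw [← pow_succ']; congr 1; omega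
  rw [h4'] at h3
  have := Nat.dvd_of_mul_dvd_mul_left (by norm_num) h3
  have h5 : 4 * q + 3 + 1 = 4 * (q + 1) := by ring
  rw [h5]
  exact this

end Cfsg.Agent.Helper29.FieldVal
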