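import Mathlib
import Cfsg.Agent.Helper29.FieldValD

set_option autoImplicit false

/-! 2-groups of maximal class: explicit structure. -/

namespace Cfsg.Agent.Helper29.FieldVal

open Subgroup
open scoped commutatorElement

universe u

theorem maxClass_structure (X : Type u) [Group X] [Finite X] (n : ℕ) (hn : 3 ≤ n)
    (hX : Nat.card X = 2 ^ n) (hidx : (commutator X).index = 4) :
    ∃ c x : X, orderOf c = 2 ^ (n - 1) ∧ (Subgroup.zpowers c).index = 2 ∧
      x ∉ Subgroup.zpowers c ∧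
      ∃ k : ℕ, k < 2 ^ (n - 1) ∧ k ≠ 1 ∧ x * c * x⁻¹ = c ^ k ∧ 2 ^ (n - 2) ∣ k + 1 := by
  haveI : Fact (Nat.Prime 2) := ⟨Nat.prime_two⟩
  have hc := Cfsg.Agent.Helper9.maxClass_of_index_commutator_aux n hn X hX hidx
  obtain ⟨C, hCcyc, hCidx⟩ :=
    Cfsg.Agent.Helper9.exists_isCyclic_index_two_of_maxClass_aux n hn X hX hc
  have hZ := Cfsg.Agent.Helper9.card_center_of_maxClass (p := 2) n hn hX hc
  obtain ⟨⟨c, hcC⟩, hgen⟩ := hCcyc.exists_generator
  have hCz : Subgroup.zpowers c = C := by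
    apply le_antisymm
    · exact Subgroup.zpowers_le.mpr hcC
    · intro y hy
      obtain ⟨i, hi⟩ := Subgroup.mem_zpowers_iff.mp (hgen ⟨y, hy⟩)
      rw [Subgroup.mem_zpowers_iff]
      refine ⟨i, ?_⟩
      have := congrArg Subtype.val hi
      simpa using this
  subst hCz
  have hord : orderOf c = 2 ^ (n - 1) := by
    have h1 := (Subgroup.zpowers c).card_mul_index
    rw [hCidx, hX, Nat.card_zpowers] at h1
    have h2 : 2 ^ n = 2 ^ (n - 1) * 2 := by rw [← pow_succ]; congr 1; omega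
    rw [h2] at h1
    exact Nat.eq_of_mul_eq_mul_right (by norm_num) h1
  have hne : Subgroup.zpowers c ≠ ⊤ := by
    intro h; rw [h, Subgroup.index_top] at hCidx; omega
  obtain ⟨x, hx⟩ : ∃ x, x ∉ Subgroup.zpowers c := by
    by_contra hcon
    push Not at hcon
    exact hne ((Subgroup.eq_top_iff' _).mpr hcon)
  haveI hnorm : (Subgroup.zpowers c).Normal := Subgroup.normal_of_index_eq_two hCidx
  have hconj : x * c * x⁻¹ ∈ Subgroup.zpowers c := hnorm.conj_mem c (Subgroup.mem_zpowers c) x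
  obtain ⟨k, hklt, hk⟩ := exists_nat_pow_of_mem_zpowers c _ (orderOf_pos c) hconj
  have hcs : ∀ z ∈ Subgroup.center X, z ^ 2 = 1 := by
    intro z hz
    have := pow_card_eq_one' (G := Subgroup.center X) (x := ⟨z, hz⟩)
    rw [hZ] at this
    simpa using congrArg Subtype.val this
  have hpow_le : ∀ i : ℕ, c ^ i = 1 → 2 ^ (n - 1) ∣ i := by
    intro i hi
    rw [← hord]
    exact orderOf_dvd_of_pow_eq_one hi
  have hk1 : k ≠ 1 := by
    rintro rfl
    rw [pow_one] at hk
    have hxc : x * c = c * x := by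
      have := congrArg (· * x) hk
      simpa using this.symm
    have hcz := mem_center_of_comm c hCidx x hx c (Subgroup.mem_zpowers c) hxc
    have h2 := hpow_le 2 (hcs c hcz)
    have h3 : (2 : ℕ) ^ 2 ∣ 2 ^ (n - 1) := pow_dvd_pow 2 (by omega)
    have := Nat.le_of_dvd (by norm_num) (h3.trans h2)
    norm_num at this
  have hkk : k * k ≡ 1 [MOD 2 ^ (n - 1)] := by
    rw [← hord, ← pow_eq_pow_iff_modEq, pow_one]
    have hxx : x * x ∈ Subgroup.zpowers c := Subgroup.mul_self_mem_of_index_two hCidx x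
    obtain ⟨i, hi⟩ := Subgroup.mem_zpowers_iff.mp hxx
    have h1 : (x * x) * c * (x * x)⁻¹ = c := by
      rw [← hi, mul_inv_eq_iff_eq_mul]
      have : c ^ i * c = c * c ^ i := by
        rw [← zpow_add_one, ← zpow_one_add, add_comm]
      exact this
    have h2 : (x * x) * c * (x * x)⁻¹ = x * (x * c * x⁻¹) * x⁻¹ := by group
    rw [h2, ← hk, conj_pow_eq, ← hk, ← pow_mul] at h1
    exact h1
  have hk4 : ¬ k ≡ 1 [MOD 4] := by
    intro h4
    have hk4' : k % 4 = 1 := h4
    obtain ⟨t, ht⟩ : ∃ t, k = 1 + 4 * t := ⟨k / 4, by omega⟩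
    set z := c ^ (2 ^ (n - 3)) with hz
    have hzc : x * z * x⁻¹ = z := by
      rw [hz, conj_pow_eq, ← hk, ← pow_mul, ht]
      have h1 : (1 + 4 * t) * 2 ^ (n - 3) = 2 ^ (n - 3) + t * 2 ^ (n - 1) := by
        have : (2 : ℕ) ^ (n - 1) = 4 * 2 ^ (n - 3) := by
          have : n - 1 = (n - 3) + 2 := by omega
          rw [this, pow_add]; ring
        rw [this]; ring
      rw [h1, pow_add, pow_mul', ← hord, pow_orderOf_eq_one, one_pow, mul_one]
    have hxz : x * z = z * x := by
      have := congrArg (· * x) hzc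
      simpa using this
    have hzz := mem_center_of_comm c hCidx x hx z (Subgroup.pow_mem _ (Subgroup.mem_zpowers c) _)
      hxz
    have h2 := hcs z hzz
    rw [hz, ← pow_mul] at h2
    have h3 := hpow_le _ h2
    have h4 : 2 ^ (n - 3) * 2 = 2 ^ (n - 2) := by
      rw [← pow_succ]; congr 1; omega
    rw [h4] at h3
    have h5 := Nat.le_of_dvd (by positivity) h3
    have h6 : 2 ^ (n - 2) < 2 ^ (n - 1) := Nat.pow_lt_pow_right (by norm_num) (by omega)
    omega
  refine ⟨c, x, hord, hCidx, hx, k, ?_, hk1, hk.symm, two_pow_dvd_succ n k hn hkk hk4⟩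
  rw [← hord]; exact hklt

end Cfsg.Agent.Helper29.FieldVal
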