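import Mathlib
import Cfsg.Agent.Helper29.FieldValE

set_option autoImplicit false

/-! 2-groups with a cyclic maximal subgroup inverted-like: abelianization of order 4. -/

namespace Cfsg.Agent.Helper29.FieldVal

open Subgroup
open scoped commutatorElement

universe u

theorem index_commutator_eq_four (X : Type u) [Group X] [Finite X] (n : ℕ) (hn : 3 ≤ n)
    (hX : Nat.card X = 2 ^ n) (c x : X) (hord : orderOf c = 2 ^ (n - 1))
    (k : ℕ) (hk : x * c * x⁻¹ = c ^ k) (h4 : 4 ∣ k + 1) :
    (commutator X).index = 4 := by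
  haveI : Fact (Nat.Prime 2) := ⟨Nat.prime_two⟩
  have hCidx : (Subgroup.zpowers c).index = 2 := by
    have h1 := (Subgroup.zpowers c).card_mul_index
    rw [hX, Nat.card_zpowers, hord] at h1
    have h2 : 2 ^ n = 2 ^ (n - 1) * 2 := by rw [← pow_succ]; congr 1; omega
    rw [h2] at h1
    exact Nat.eq_of_mul_eq_mul_left (by positivity) h1
  haveI hnorm : (Subgroup.zpowers c).Normal := Subgroup.normal_of_index_eq_two hCidx
  have hord2 : orderOf (c ^ 2) = 2 ^ (n - 2) := by
    rw [orderOf_pow, hord]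
    have h1 : (2 : ℕ) ^ (n - 1) = 2 ^ (n - 2) * 2 := by rw [← pow_succ]; congr 1; omega
    have h2 : Nat.gcd (2 ^ (n - 1)) 2 = 2 := by
      rw [h1]; exact Nat.gcd_mul_left_left (2 ^ (n - 2)) 2
    rw [h2, h1, Nat.mul_div_cancel _ (by norm_num)]
  set D := Subgroup.zpowers (c ^ 2) with hD
  haveI hDn : D.Normal := by
    refine ⟨?_⟩
    intro d hd y
    obtain ⟨j, rfl⟩ := Subgroup.mem_zpowers_iff.mp hd
    have h1 : y * c * y⁻¹ ∈ Subgroup.zpowers c := hnorm.conj_mem c (Subgroup.mem_zpowers c) y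
    obtain ⟨i, hi⟩ := Subgroup.mem_zpowers_iff.mp h1
    have h2 : y * (c ^ 2) ^ j * y⁻¹ = ((c ^ 2) ^ i) ^ j := by
      rw [← conj_zpow, ← conj_pow, ← hi]
      congr 1
      rw [← zpow_natCast, ← zpow_natCast, ← zpow_mul, ← zpow_mul, mul_comm]
    rw [h2]
    exact Subgroup.zpow_mem _ (Subgroup.zpow_mem _ (Subgroup.mem_zpowers _) i) j
  have hDidx : D.index = 4 := by
    have h1 := D.card_mul_index
    rw [hX, hD, Nat.card_zpowers, hord2] at h1
    have h2 : 2 ^ n = 2 ^ (n - 2) * 4 := by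
      have : n = (n - 2) + 2 := by omega
      conv_lhs => rw [this, pow_add]
      norm_num
    rw [h2] at h1
    exact Nat.eq_of_mul_eq_mul_left (by positivity) h1
  have hle : commutator X ≤ D := by
    rw [← Subgroup.Normal.quotient_commutative_iff_commutator_le]
    have hcard : Nat.card (X ⧸ D) = 2 ^ 2 := by
      rw [← Subgroup.index_eq_card, hDidx]; norm_num
    exact ⟨⟨IsPGroup.commutative_of_card_eq_prime_sq hcard⟩⟩
  have hge : D ≤ commutator X := by
    rw [hD, Subgroup.zpowers_le]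
    have h1 : ⁅x, c⁆ ∈ commutator X := by
      rw [_root_.commutator_def]
      exact Subgroup.commutator_mem_commutator (Subgroup.mem_top x) (Subgroup.mem_top c)
    obtain ⟨q, hq⟩ : ∃ q, k = 4 * q + 3 := by
      obtain ⟨r, hr⟩ := h4
      exact ⟨r - 1, by omega⟩
    have h2 : ⁅x, c⁆ = (c ^ 2) ^ (2 * q + 1) := by
      rw [commutatorElement_def, hk, hq, ← pow_mul]
      have : 2 * (2 * q + 1) + 1 = 4 * q + 3 := by ring
      rw [← this, pow_succ, mul_inv_cancel_right]
    have hcop : (2 * q + 1).Coprime (orderOf (c ^ 2)) := by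
      rw [hord2]
      apply Nat.Coprime.pow_right
      rw [Nat.coprime_two_right]
      exact ⟨q, rfl⟩
    obtain ⟨m, hm⟩ := exists_pow_eq_self_of_coprime hcop
    rw [← hm, ← h2]
    exact Subgroup.pow_mem _ h1 m
  rw [le_antisymm hle hge, hDidx]

end Cfsg.Agent.Helper29.FieldVal
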