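import Mathlib

set_option autoImplicit false

/-! Fusion of a cyclic 2-subgroup normal in a Sylow 2-subgroup. -/

namespace Cfsg.Agent.Helper29.FieldVal

open Subgroup

variable {G : Type*} [Group G] [Finite G]

theorem relIndex_centralizer_normalizer_zpowers (g : G) (t : ℕ) (ho : orderOf g = 2 ^ t) :
    ∃ s, (Subgroup.centralizer (Subgroup.zpowers g : Set G)).relIndex
      (Subgroup.normalizer (Subgroup.zpowers g : Set G)) = 2 ^ s := by
  have key := Subgroup.card_dvd_of_injective _
    (QuotientGroup.kerLift_injective (Subgroup.zpowers g).normalizerMonoidHom)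
  rw [Subgroup.normalizerMonoidHom_ker, ← Subgroup.index, ← Subgroup.relIndex] at key
  rw [IsCyclic.card_mulAut, Nat.card_zpowers, ho] at key
  have h2 : Nat.totient (2 ^ t) ∣ 2 ^ t := by
    rcases Nat.eq_zero_or_pos t with h0 | h0
    · subst h0; simp
    · rw [Nat.totient_prime_pow Nat.prime_two h0]
      simp only [Nat.add_one_sub_one, mul_one]
      exact pow_dvd_pow 2 (by omega)
  obtain ⟨s, -, hs⟩ := (Nat.dvd_prime_pow Nat.prime_two).mp (key.trans h2)
  exact ⟨s, hs⟩

theorem mem_normalizer_zpowers (g y : G) (hy : y * g * y⁻¹ ∈ Subgroup.zpowers g) :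
    y ∈ Subgroup.normalizer (Subgroup.zpowers g : Set G) := by
  apply Subgroup.mem_normalizer_fintype
  intro h hh
  obtain ⟨i, rfl⟩ := Subgroup.mem_zpowers_iff.mp hh
  rw [SetLike.mem_coe, ← conj_zpow]
  exact Subgroup.zpow_mem _ hy i

/-- fusion of `g` inside `⟨g⟩` is controlled by a Sylow 2-subgroup normalizing `⟨g⟩`. -/
theorem conj_eq_conj_of_sylow (P : Sylow 2 G) (g : G) (t : ℕ) (ho : orderOf g = 2 ^ t)
    (hnorm : ∀ u ∈ (P : Subgroup G), u * g * u⁻¹ ∈ Subgroup.zpowers g)
    (y : G) (hy : y * g * y⁻¹ ∈ Subgroup.zpowers g) :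
    ∃ u ∈ (P : Subgroup G), y * g * y⁻¹ = u * g * u⁻¹ := by
  haveI : Fact (Nat.Prime 2) := ⟨Nat.prime_two⟩
  set N := Subgroup.normalizer (Subgroup.zpowers g : Set G) with hN
  set C := Subgroup.centralizer (Subgroup.zpowers g : Set G) with hC
  have hPN : (P : Subgroup G) ≤ N := fun u hu => mem_normalizer_zpowers g u (hnorm u hu)
  have hyN : y ∈ N := mem_normalizer_zpowers g y hy
  obtain ⟨s, hs⟩ := relIndex_centralizer_normalizer_zpowers g t ho
  haveI hCn : (C.subgroupOf N).Normal := Subgroup.normal_subgroupOf_centralizer_normalizer _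
  set T := (P : Subgroup G).subgroupOf N ⊔ C.subgroupOf N with hT
  have h1 : T.index ∣ 2 ^ s := by
    rw [← hs]
    exact Subgroup.index_dvd_of_le le_sup_right
  have h2 : T.index ∣ (P : Subgroup G).index := by
    refine (Subgroup.index_dvd_of_le (le_sup_left : (P : Subgroup G).subgroupOf N ≤ T)).trans ?_
    exact Subgroup.relIndex_dvd_index_of_le hPN
  have h3 : T.index = 1 := by
    obtain ⟨r, -, hr⟩ := (Nat.dvd_prime_pow Nat.prime_two).mp h1
    rcases Nat.eq_zero_or_pos r with h0 | h0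
    · rw [hr, h0, pow_zero]
    · exfalso
      apply P.not_dvd_index
      refine dvd_trans ?_ h2
      rw [hr]
      exact dvd_pow_self 2 h0.ne'
  have h4 : T = ⊤ := Subgroup.index_eq_one.mp h3
  have h5 : (⟨y, hyN⟩ : N) ∈ ((P : Subgroup G).subgroupOf N ⊔ C.subgroupOf N : Subgroup N) := by
    rw [← hT, h4]; exact Subgroup.mem_top _
  rw [← SetLike.mem_coe, Subgroup.mul_normal] at h5
  obtain ⟨u, hu, c', hc', huc⟩ := Set.mem_mul.mp h5
  refine ⟨(u : G), Subgroup.mem_subgroupOf.mp hu, ?_⟩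
  have hyuc : y = (u : G) * (c' : G) := by
    have := congrArg Subtype.val huc
    simpa using this.symm
  have hcg : (c' : G) * g * (c' : G)⁻¹ = g := by
    have h6 : (c' : G) ∈ C := Subgroup.mem_subgroupOf.mp hc'
    rw [hC, Subgroup.mem_centralizer_iff] at h6
    have := h6 g (Subgroup.mem_zpowers g)
    rw [mul_inv_eq_iff_eq_mul]
    exact this.symm
  rw [hyuc]
  calc (u : G) * (c' : G) * g * ((u : G) * (c' : G))⁻¹
      = (u : G) * ((c' : G) * g * (c' : G)⁻¹) * (u : G)⁻¹ := by group
    _ = (u : G) * g * (u : G)⁻¹ := by rw [hcg]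

/-- if some element normalizes `⟨g⟩` without centralizing `g`, the class of `g` has even size. -/
theorem two_dvd_index_centralizer (g : G) (t : ℕ) (ho : orderOf g = 2 ^ t) (x : G)
    (hx : x * g * x⁻¹ ∈ Subgroup.zpowers g) (hxg : x * g ≠ g * x) :
    2 ∣ (Subgroup.centralizer ({g} : Set G)).index := by
  have hCC : Subgroup.centralizer ({g} : Set G) =
      Subgroup.centralizer (Subgroup.zpowers g : Set G) := by
    rw [Subgroup.zpowers_eq_closure, Subgroup.centralizer_closure]
  rw [hCC]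
  obtain ⟨s, hs⟩ := relIndex_centralizer_normalizer_zpowers g t ho
  have hxN := mem_normalizer_zpowers g x hx
  have hs0 : s ≠ 0 := by
    rintro rfl
    rw [pow_zero, Subgroup.relIndex_eq_one] at hs
    have h1 := hs hxN
    rw [Subgroup.mem_centralizer_iff] at h1
    exact hxg (h1 g (Subgroup.mem_zpowers g)).symm
  have h2 : (2 : ℕ) ∣ 2 ^ s := dvd_pow_self 2 hs0
  rw [← hs] at h2
  exact h2.trans (Subgroup.relIndex_dvd_index_of_le (Subgroup.centralizer_le_normalizer _))

end Cfsg.Agent.Helper29.FieldVal
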