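import Mathlib

set_option autoImplicit false

/-! Nonabelian groups of order 8 have abelianization of order 4. -/

namespace Cfsg.Agent.Helper29.FieldVal

open Subgroup

universe u

theorem index_commutator_of_card_eight (X : Type u) [Group X] [Finite X]
    (hX : Nat.card X = 2 ^ 3) (hna : ∃ a b : X, a * b ≠ b * a) :
    (commutator X).index = 4 := by
  haveI : Fact (Nat.Prime 2) := ⟨Nat.prime_two⟩
  have hPG : IsPGroup 2 X := IsPGroup.of_card hX
  haveI : Nontrivial X := by
    rw [← Finite.one_lt_card_iff_nontrivial, hX]; norm_num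
  have hZdvd : Nat.card (Subgroup.center X) ∣ 2 ^ 3 := by
    rw [← hX]; exact Subgroup.card_subgroup_dvd_card _
  obtain ⟨j, hj3, hj⟩ := (Nat.dvd_prime_pow Nat.prime_two).mp hZdvd
  have hncomm : Subgroup.center X ≠ ⊤ := by
    intro h
    obtain ⟨a, b, hab⟩ := hna
    apply hab
    have : b ∈ Subgroup.center X := by rw [h]; exact Subgroup.mem_top b
    exact (Subgroup.mem_center_iff.mp this a)
  have hj0 : j ≠ 0 := by
    rintro rfl
    haveI := hPG.center_nontrivial
    have : 1 < Nat.card (Subgroup.center X) := Finite.one_lt_card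
    rw [hj] at this
    norm_num at this
  have hj3' : j ≠ 3 := by
    rintro rfl
    apply hncomm
    apply (Subgroup.card_eq_iff_eq_top _).mp
    rw [hj, hX]
  have hquot : Nat.card (X ⧸ Subgroup.center X) * 2 ^ j = 2 ^ 3 := by
    have h1 := (Subgroup.center X).card_mul_index
    rw [hj, hX, Subgroup.index_eq_card] at h1
    rw [mul_comm]; exact h1
  have hj2 : j ≠ 2 := by
    rintro rfl
    have h2 : Nat.card (X ⧸ Subgroup.center X) = 2 := by omega
    haveI : IsCyclic (X ⧸ Subgroup.center X) := isCyclic_of_prime_card h2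
    have hcomm : IsMulCommutative X := isMulCommutative_of_isCyclic_quotient_center_self X
    obtain ⟨a, b, hab⟩ := hna
    exact hab (hcomm.is_comm.comm a b)
  have hj1 : j = 1 := by omega
  subst hj1
  have h4 : Nat.card (X ⧸ Subgroup.center X) = 2 ^ 2 := by omega
  have hle : commutator X ≤ Subgroup.center X := by
    rw [← Subgroup.Normal.quotient_commutative_iff_commutator_le]
    exact ⟨⟨IsPGroup.commutative_of_card_eq_prime_sq h4⟩⟩
  have hne : commutator X ≠ ⊥ := by
    intro h
    exact hncomm ((commutator_eq_bot_iff_center_eq_top X).mp h)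
  have hcd : Nat.card (commutator X) ∣ 2 := by
    have := Subgroup.card_dvd_of_le hle
    rwa [hj, pow_one] at this
  have hc1 : Nat.card (commutator X) ≠ 1 := by
    intro h
    exact hne (Subgroup.card_eq_one.mp h)
  have hc2 : Nat.card (commutator X) = 2 := by
    rcases (Nat.dvd_prime Nat.prime_two).mp hcd with h | h
    · exact absurd h hc1
    · exact h
  have h5 := (commutator X).card_mul_index
  rw [hc2, hX] at h5
  omega

end Cfsg.Agent.Helper29.FieldVal
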