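import Mathlib
import Cfsg.Agent.Helper29.FieldValC
import Cfsg.Agent.Helper29.FieldValF
import Cfsg.Agent.Helper29.FieldValG
import Cfsg.Agent.Helper29.FieldValH

set_option autoImplicit false

/-! Sylow 2-subgroups of maximal class and fields of values: forward direction. -/

namespace Cfsg.Agent.Helper29.FieldVal

open Cfsg

theorem forward {G : Type*} [Group G] [Finite G] (P : Sylow 2 G) (n : ℕ) (hn : 3 ≤ n)
    (hP : Nat.card P = 2 ^ n) (ζ : ℂ) (hζ : IsPrimitiveRoot ζ (2 ^ (n - 1)))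
    (hidx : (commutator ↥P).index = 4) :
    ∃ g : G, g ∈ (P : Subgroup G) ∧ 2 ∣ (Subgroup.centralizer ({g} : Set G)).index ∧
      (valField g = IntermediateField.adjoin ℚ ({ζ + ζ⁻¹} : Set ℂ) ∨
       valField g = IntermediateField.adjoin ℚ ({ζ - ζ⁻¹} : Set ℂ)) := by
  obtain ⟨c, x, hord, hCidx, hx, k, hklt, hk1, hk, hkdvd⟩ := maxClass_structure ↥P n hn hP hidx
  set g : G := (c : G) with hg
  have hgP : g ∈ (P : Subgroup G) := c.2
  have hog : orderOf g = 2 ^ (n - 1) := by rw [hg, Subgroup.orderOf_coe, hord]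
  have hxg : (x : G) * g * (x : G)⁻¹ = g ^ k := by
    have := congrArg Subtype.val hk
    simpa using this
  have hnorm : ∀ u ∈ (P : Subgroup G), u * g * u⁻¹ ∈ Subgroup.zpowers g := by
    intro u hu
    haveI hN : (Subgroup.zpowers c).Normal := Subgroup.normal_of_index_eq_two hCidx
    have h1 : (⟨u, hu⟩ : ↥P) * c * (⟨u, hu⟩ : ↥P)⁻¹ ∈ Subgroup.zpowers c :=
      hN.conj_mem c (Subgroup.mem_zpowers c) _
    obtain ⟨i, hi⟩ := Subgroup.mem_zpowers_iff.mp h1
    rw [Subgroup.mem_zpowers_iff]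
    refine ⟨i, ?_⟩
    have := congrArg Subtype.val hi
    simpa using this
  have hm1 : 1 < orderOf g := by rw [hog]; exact Nat.one_lt_two_pow (by omega)
  have hkm : k < orderOf g := by rw [hog]; exact hklt
  have hxcomm : (x : G) * g ≠ g * (x : G) := by
    intro h
    have h1 : g ^ k = g ^ 1 := by
      rw [← hxg, h, mul_inv_cancel_right, pow_one]
    exact hk1 (pow_injOn_Iio_orderOf (Set.mem_Iio.mpr hkm) (Set.mem_Iio.mpr hm1) h1)
  have heven := two_dvd_index_centralizer g (n - 1) hog (x : G)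
    (by rw [hxg]; exact Subgroup.pow_mem _ (Subgroup.mem_zpowers g) k) hxcomm
  have hconj : IsConj g (g ^ k) := isConj_iff.mpr ⟨(x : G), hxg⟩
  have hall : ∀ j, j < orderOf g → IsConj g (g ^ j) → j = 1 ∨ j = k := by
    intro j hj hcj
    obtain ⟨y, hy⟩ := isConj_iff.mp hcj
    obtain ⟨u, hu, huy⟩ := conj_eq_conj_of_sylow P g (n - 1) hog hnorm y
      (by rw [hy]; exact Subgroup.pow_mem _ (Subgroup.mem_zpowers g) j)
    rw [hy] at huy
    rcases Cfsg.Agent.Helper9.exists_zpow_of_index_two c hCidx x hx ⟨u, hu⟩ with ⟨i, hi⟩ | ⟨i, hi⟩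
    · left
      have hu' : u = g ^ i := by
        have := congrArg Subtype.val hi
        simpa using this
      have h1 : g ^ j = g ^ 1 := by
        rw [huy, hu', pow_one]; group
      exact pow_injOn_Iio_orderOf (Set.mem_Iio.mpr hj) (Set.mem_Iio.mpr hm1) h1
    · right
      have hu' : u = (x : G) * g ^ i := by
        have := congrArg Subtype.val hi
        simpa using this
      have h1 : g ^ j = g ^ k := by
        rw [huy, hu', ← hxg]; group
      exact pow_injOn_Iio_orderOf (Set.mem_Iio.mpr hj) (Set.mem_Iio.mpr hkm) h1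
  have hζm : ζ ^ orderOf g = 1 := by rw [hog]; exact hζ.pow_eq_one
  have hζ' : IsPrimitiveRoot ζ (orderOf g) := by rw [hog]; exact hζ
  have hmem : ζ + ζ ^ k ∈ valField g := add_pow_mem_valField g k hk1 hkm hm1 hconj hall ζ hζm
  have hsq : (ζ ^ (k + 1)) ^ 2 = 1 := by
    rw [← pow_mul]
    obtain ⟨r, hr⟩ := hkdvd
    have h2 : (2 : ℕ) ^ (n - 1) = 2 ^ (n - 2) * 2 := by rw [← pow_succ]; congr 1; omega
    have h3 : (k + 1) * 2 = 2 ^ (n - 1) * r := by rw [hr, h2]; ring
    rw [h3, pow_mul, hζ.pow_eq_one, one_pow]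
  have hpm : ζ ^ (k + 1) = 1 ∨ ζ ^ (k + 1) = -1 := sq_eq_one_iff.mp hsq
  have hζ0 : ζ ≠ 0 := hζ.ne_zero (by positivity)
  have heq : valField g = IntermediateField.adjoin ℚ ({ζ + ζ ^ k} : Set ℂ) := by
    apply le_antisymm
    · apply valField_le_of_isConj g k hconj ζ hζ'
      · exact IntermediateField.subset_adjoin ℚ _ rfl
      · rw [← pow_succ']
        rcases hpm with h | h
        · rw [h]; exact one_mem _
        · rw [h]; exact neg_mem (one_mem _)
    · rw [IntermediateField.adjoin_le_iff]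
      rintro z rfl
      exact hmem
  refine ⟨g, hgP, heven, ?_⟩
  rcases hpm with h | h
  · left
    have h1 : ζ ^ k = ζ⁻¹ := by
      rw [pow_succ] at h
      exact eq_inv_of_mul_eq_one_left h
    rw [heq, h1]
  · right
    have h1 : ζ ^ k = -ζ⁻¹ := by
      rw [pow_succ] at h
      have : ζ ^ k = ζ ^ k * ζ * ζ⁻¹ := by rw [mul_assoc, mul_inv_cancel₀ hζ0, mul_one]
      rw [this, h]; ring
    rw [heq, h1, ← sub_eq_add_neg]

end Cfsg.Agent.Helper29.FieldVal
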