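import Mathlib
import Cfsg.Agent.Helper29.FieldValI

set_option autoImplicit false

/-! Sylow 2-subgroups of maximal class and fields of values: backward direction. -/

namespace Cfsg.Agent.Helper29.FieldVal

open Cfsg

theorem backward {G : Type*} [Group G] [Finite G] (P : Sylow 2 G) (n : ℕ) (hn : 3 ≤ n)
    (hP : Nat.card P = 2 ^ n) (ζ : ℂ) (hζ : IsPrimitiveRoot ζ (2 ^ (n - 1)))
    (g : G) (hgP : g ∈ (P : Subgroup G))
    (heven : 2 ∣ (Subgroup.centralizer ({g} : Set G)).index)
    (ε : ℂ) (hε : ε = 1 ∨ ε = -1)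
    (hfield : valField g = IntermediateField.adjoin ℚ ({ζ + ε * ζ⁻¹} : Set ℂ)) :
    (commutator ↥P).index = 4 := by
  haveI : Fact (Nat.Prime 2) := ⟨Nat.prime_two⟩
  have hex : ∃ x₀ ∈ (P : Subgroup G), x₀ * g ≠ g * x₀ := by
    by_contra hcon
    push Not at hcon
    have hle : (P : Subgroup G) ≤ Subgroup.centralizer ({g} : Set G) := by
      intro u hu
      rw [Subgroup.mem_centralizer_iff]
      intro h hh
      rw [Set.mem_singleton_iff] at hh
      subst hh
      exact (hcon u hu).symm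
    have := Subgroup.index_dvd_of_le hle
    exact P.not_dvd_index (heven.trans this)
  obtain ⟨x₀, hx₀P, hx₀g⟩ := hex
  have hP' : Nat.card ↥P = 2 ^ n := hP
  rcases Nat.lt_or_ge n 4 with h3 | h4
  · have hn3 : n = 3 := by omega
    subst hn3
    apply index_commutator_of_card_eight ↥P hP
    refine ⟨⟨x₀, hx₀P⟩, ⟨g, hgP⟩, ?_⟩
    intro h
    apply hx₀g
    have := congrArg Subtype.val h
    simpa using this
  · set c : ↥P := ⟨g, hgP⟩ with hc
    set x : ↥P := ⟨x₀, hx₀P⟩ with hxdef
    have hoc : orderOf c = orderOf g := by rw [← Subgroup.orderOf_coe]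
    have hmem : ζ + ε * ζ⁻¹ ∈ valField g := by
      rw [hfield]; exact IntermediateField.subset_adjoin ℚ _ rfl
    have hdvd : orderOf g ∣ 2 ^ n := by rw [← hoc, ← hP]; exact orderOf_dvd_natCard c
    obtain ⟨e, hen, he⟩ := (Nat.dvd_prime_pow Nat.prime_two).mp hdvd
    have he1 : n - 1 ≤ e := by
      by_contra hlt
      push Not at hlt
      have : orderOf g ∣ 2 ^ (n - 2) := by rw [he]; exact pow_dvd_pow 2 (by omega)
      exact not_mem_valField_of_small_order g n h4 ζ hζ this ε hε hmem
    have hxc : x ∉ Subgroup.zpowers c := by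
      intro h
      obtain ⟨i, hi⟩ := Subgroup.mem_zpowers_iff.mp h
      apply hx₀g
      have h1 : x₀ = g ^ i := by
        have := congrArg Subtype.val hi
        simpa using this.symm
      rw [h1, ← zpow_add_one, ← zpow_one_add, add_comm]
    have he2 : e ≠ n := by
      rintro rfl
      apply hxc
      have : Subgroup.zpowers c = ⊤ := by
        apply Subgroup.eq_top_of_card_eq
        rw [Nat.card_zpowers, hoc, he, hP']
      rw [this]; exact Subgroup.mem_top x
    have hen1 : e = n - 1 := by omega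
    rw [hen1] at he
    have hord : orderOf c = 2 ^ (n - 1) := by rw [hoc, he]
    have hCidx : (Subgroup.zpowers c).index = 2 := by
      have h1 := (Subgroup.zpowers c).card_mul_index
      rw [hP', Nat.card_zpowers, hord] at h1
      have h2 : 2 ^ n = 2 ^ (n - 1) * 2 := by rw [← pow_succ]; congr 1; omega
      rw [h2] at h1
      exact Nat.eq_of_mul_eq_mul_left (by positivity) h1
    haveI hN : (Subgroup.zpowers c).Normal := Subgroup.normal_of_index_eq_two hCidx
    have hconj : x * c * x⁻¹ ∈ Subgroup.zpowers c := hN.conj_mem c (Subgroup.mem_zpowers c) x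
    obtain ⟨k, hklt, hk⟩ := exists_nat_pow_of_mem_zpowers c _ (orderOf_pos c) hconj
    have hxg : x₀ * g * x₀⁻¹ = g ^ k := by
      have := congrArg Subtype.val hk
      simpa using this.symm
    have hconjG : IsConj g (g ^ k) := isConj_iff.mpr ⟨x₀, hxg⟩
    have hcop : k.Coprime (2 ^ (n - 1)) := by
      have h1 : orderOf (g ^ k) = orderOf g := by
        rw [← hxg]
        exact (MulAut.conj x₀).orderOf_eq g
      rw [orderOf_pow, he] at h1
      rcases Nat.div_eq_self.mp h1 with h2 | h2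
      · exfalso
        have : 0 < 2 ^ (n - 1) := by positivity
        omega
      · exact Nat.coprime_comm.mp h2
    obtain ⟨τ, hτ⟩ := Cfsg.Agent.Helper8.exists_complex_aut_pow (2 ^ (n - 1)) (by positivity)
      k hcop
    have hfix := aut_fix_valField_of_isConj g (2 ^ (n - 1)) k (by rw [he]) τ hτ hconjG
    have h1 := hfix _ hmem
    have hζ1 := hζ.pow_eq_one
    have hτζ : τ ζ = ζ ^ k := hτ ζ hζ1
    have hε' : τ ε = ε := by
      rcases hε with rfl | rfl
      · exact map_one τ
      · rw [map_neg, map_one]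
    rw [map_add, map_mul, map_inv₀, hτζ, hε'] at h1
    have hζ0 : ζ ≠ 0 := hζ.ne_zero (by positivity)
    have hb0 : ζ ^ k ≠ 0 := pow_ne_zero _ hζ0
    have h2 : (ζ ^ k - ζ) * (ζ * ζ ^ k - ε) = 0 := by
      have h3 : (ζ ^ k + ε * (ζ ^ k)⁻¹) * (ζ * ζ ^ k) = (ζ + ε * ζ⁻¹) * (ζ * ζ ^ k) := by
        rw [h1]
      have h4 : (ζ ^ k + ε * (ζ ^ k)⁻¹) * (ζ * ζ ^ k) = ζ ^ k * (ζ * ζ ^ k) + ε * ζ := by
        field_simp
      have h5 : (ζ + ε * ζ⁻¹) * (ζ * ζ ^ k) = ζ * (ζ * ζ ^ k) + ε * ζ ^ k := by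
        field_simp
      rw [h4, h5] at h3
      linear_combination h3
    rcases mul_eq_zero.mp h2 with h3 | h3
    · exfalso
      have h4 : ζ ^ k = ζ ^ 1 := by rw [pow_one]; exact sub_eq_zero.mp h3
      have hk1 : k = 1 := by
        refine hζ.pow_inj ?_ ?_ h4
        · rw [← hord]; exact hklt
        · exact Nat.one_lt_two_pow (by omega)
      apply hx₀g
      rw [hk1, pow_one] at hxg
      have := congrArg (· * x₀) hxg
      simpa using this
    · have h4 : ζ ^ (k + 1) = ε := by rw [pow_succ']; exact sub_eq_zero.mp h3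
      have h5 : ζ ^ ((k + 1) * 2) = 1 := by
        rw [pow_mul, h4]
        rcases hε with rfl | rfl <;> norm_num
      have h6 := hζ.dvd_of_pow_eq_one _ h5
      have h7 : 2 ^ (n - 2) ∣ k + 1 := by
        have : (2 : ℕ) ^ (n - 1) = 2 ^ (n - 2) * 2 := by rw [← pow_succ]; congr 1; omega
        rw [this] at h6
        exact Nat.dvd_of_mul_dvd_mul_right (by norm_num) h6
      have h8 : 4 ∣ k + 1 := dvd_trans (pow_dvd_pow 2 (by omega) : (2 : ℕ) ^ 2 ∣ 2 ^ (n - 2)) h7
      exact index_commutator_eq_four ↥P n hn hP c x hord k hk.symm h8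

end Cfsg.Agent.Helper29.FieldVal
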