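import Mathlib
import Cfsg.Prelude.Def_Local
import Cfsg.Agent.Helper15.OmegaFus

set_option autoImplicit false
set_option linter.unusedSectionVars false
set_option linter.unusedVariables false

/-! # Gaschütz–Yen (S3798), piece A: for `p` odd, a `p'`-element normalizing a `p`-group and
centralizing its elements of order `p` centralizes it. -/

namespace Cfsg.Agent.Helper29.GY

open Subgroup

variable {G : Type*} [Group G] [Finite G] {p : ℕ} [hp : Fact p.Prime]

theorem centralizes_of_centralizes_omega_aux (hp2 : p ≠ 2) (P : Subgroup G) (hP : IsPGroup p P)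
    (a : G) (hcop : Nat.Coprime (orderOf a) p)
    (hom : ∀ x ∈ P, x ^ p = 1 → a * x = x * a) :
    ∀ (n : ℕ) (Q : Subgroup G), Q ≤ P → Nat.card Q = n → a ∈ normalizer (Q : Set G) →
      a ∈ centralizer (Q : Set G) := by
  intro n
  induction n using Nat.strong_induction_on with
  | _ n ih =>
  intro Q hQP hn haQ
  by_contra hna
  have hQp : IsPGroup p Q := hP.to_le hQP
  have hmin : ∀ H : Subgroup G, H < Q → a ∈ normalizer (H : Set G) →
      a ∈ centralizer (H : Set G) := by
    intro H hHQ haH
    have hlt : Nat.card H < n := by
      rw [← hn]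
      by_contra hcon
      push Not at hcon
      exact hHQ.ne (Subgroup.eq_of_le_of_card_ge hHQ.le hcon)
    exact ih _ hlt H (hHQ.le.trans hQP) rfl haH
  have hexp := Cfsg.Agent.Helper15.exponent_of_minimal_noncentralized Q hQp a haQ hcop hmin hna
  apply hna
  rw [mem_centralizer_iff]
  intro x hx
  have hx' : x ^ p = 1 := by
    rcases hexp x hx with h | h
    · exact h
    · exact absurd h.1 hp2
  exact (hom x (hQP hx) hx').symm

/-- `p` odd: a `p'`-element normalizing the `p`-group `P` and commuting with every element of `P` of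
order dividing `p` centralizes `P`. -/
theorem centralizes_of_centralizes_omega (hp2 : p ≠ 2) (P : Subgroup G) (hP : IsPGroup p P)
    (a : G) (hcop : Nat.Coprime (orderOf a) p) (haP : a ∈ normalizer (P : Set G))
    (hom : ∀ x ∈ P, x ^ p = 1 → a * x = x * a) :
    a ∈ centralizer (P : Set G) :=
  centralizes_of_centralizes_omega_aux hp2 P hP a hcop hom _ P le_rfl rfl haP

end Cfsg.Agent.Helper29.GY
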