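import Mathlib
import Cfsg.Prelude.Def_Local
import Cfsg.Agent.Lead.SZConj
import Cfsg.Agent.Lead.Compl

set_option autoImplicit false
set_option linter.unusedSectionVars false
set_option linter.unusedVariables false
set_option linter.style.haveILetI false

/-! # Gaschütz–Yen (S3798), piece B: relative Schur–Zassenhaus for a normal `p`-subgroup `P` of
`p'`-index in `H`, inside an ambient group. -/

namespace Cfsg.Agent.Helper29.GY

open Subgroup
open Pointwise

variable {G : Type*} [Group G] [Finite G] {p : ℕ} [hp : Fact p.Prime]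

theorem sz_rel (P H : Subgroup G) [hPn : P.Normal] (hPH : P ≤ H) (hP : IsPGroup p P)
    (hcop : (P.relIndex H).Coprime p) :
    (∃ Q : Subgroup G, Q ≤ H ∧ Nat.card Q = P.relIndex H) ∧
    (∀ Q₁ Q₂ : Subgroup G, Q₁ ≤ H → Q₂ ≤ H → Nat.card Q₁ = P.relIndex H →
      Nat.card Q₂ = P.relIndex H → ∃ u ∈ P, ∀ g : G, g ∈ Q₂ ↔ u⁻¹ * g * u ∈ Q₁) ∧
    (∀ Q : Subgroup G, Q ≤ H → Nat.card Q = P.relIndex H →
      ∀ h ∈ H, ∃ u ∈ P, ∃ q ∈ Q, h = u * q) := by
  obtain ⟨N, hN⟩ : ∃ N : Subgroup ↥H, N = P.subgroupOf H := ⟨_, rfl⟩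
  haveI hNn : N.Normal := by rw [hN]; infer_instance
  have hNcard : Nat.card N = Nat.card P := by
    rw [hN]; exact Nat.card_congr (Subgroup.subgroupOfEquivOfLe hPH).toEquiv
  obtain ⟨a, ha⟩ := IsPGroup.iff_card.mp hP
  have hNidx : N.index = P.relIndex H := by rw [hN]; rfl
  have hcopN : (Nat.card N).Coprime N.index := by
    rw [hNcard, ha, hNidx]; exact Nat.Coprime.pow_left a hcop.symm
  have hNp : IsPGroup p N := IsPGroup.of_card (hNcard.trans ha)
  haveI : Group.IsNilpotent N := hNp.isNilpotent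
  have hNsol : Group.IsSolvable N := inferInstance
  have hcardH : Nat.card N * N.index = Nat.card ↥H := N.card_mul_index
  have key : ∀ Q : Subgroup G, Q ≤ H → Nat.card Q = P.relIndex H →
      IsComplement' N (Q.subgroupOf H) := by
    intro Q hQH hQ
    have h1 : Nat.card (Q.subgroupOf H) = N.index := by
      rw [hNidx, ← hQ]; exact Nat.card_congr (Subgroup.subgroupOfEquivOfLe hQH).toEquiv
    apply isComplement'_of_coprime
    · rw [h1]; exact hcardH
    · rw [h1]; exact hcopN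
  have hmemN : ∀ n : ↥H, n ∈ N ↔ (n : G) ∈ P := by
    intro n; rw [hN]; exact Subgroup.mem_subgroupOf
  refine ⟨?_, ?_, ?_⟩
  · obtain ⟨K, hK⟩ := Subgroup.exists_right_complement'_of_coprime hcopN
    refine ⟨K.map H.subtype, Subgroup.map_subtype_le K, ?_⟩
    rw [← hNidx, hK.symm.index_eq_card]
    exact Nat.card_congr (K.equivMapOfInjective _ H.subtype_injective).toEquiv.symm
  · intro Q₁ Q₂ hQ₁H hQ₂H hQ₁ hQ₂
    have hK₁ := key Q₁ hQ₁H hQ₁
    have hK₂ := key Q₂ hQ₂H hQ₂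
    obtain ⟨g, hg⟩ := Cfsg.Agent.Lead.sz_conj N hcopN (Or.inl hNsol) _ _ hK₁ hK₂
    obtain ⟨⟨⟨n, hn⟩, ⟨k, hk⟩⟩, hnk⟩ := hK₁.2 g
    simp only at hnk
    have hg' : MulAut.conj n • (Q₁.subgroupOf H) = Q₂.subgroupOf H := by
      rw [← hg, ← hnk, map_mul, mul_smul, Subgroup.conj_smul_eq_self_of_mem hk]
    refine ⟨(n : G), (hmemN n).mp hn, ?_⟩
    intro x
    constructor
    · intro hx
      have hxH : x ∈ H := hQ₂H hx
      have h1 : (⟨x, hxH⟩ : ↥H) ∈ Q₂.subgroupOf H := Subgroup.mem_subgroupOf.mpr hx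
      rw [← hg', Cfsg.Agent.Lead.mem_conj_smul_iff, Subgroup.mem_subgroupOf] at h1
      simpa using h1
    · intro hx
      have hxH : x ∈ H := by
        have h2 : (n : G) * ((n : G)⁻¹ * x * (n : G)) * (n : G)⁻¹ ∈ H :=
          H.mul_mem (H.mul_mem n.2 (hQ₁H hx)) (H.inv_mem n.2)
        have e : (n : G) * ((n : G)⁻¹ * x * (n : G)) * (n : G)⁻¹ = x := by group
        rwa [e] at h2
      have h1 : (⟨x, hxH⟩ : ↥H) ∈ Q₂.subgroupOf H := by
        rw [← hg', Cfsg.Agent.Lead.mem_conj_smul_iff, Subgroup.mem_subgroupOf]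
        simpa using hx
      exact Subgroup.mem_subgroupOf.mp h1
  · intro Q hQH hQ h hh
    have hK := key Q hQH hQ
    obtain ⟨⟨⟨n, hn⟩, ⟨k, hk⟩⟩, hnk⟩ := hK.2 ⟨h, hh⟩
    simp only at hnk
    refine ⟨(n : G), (hmemN n).mp hn, (k : G), Subgroup.mem_subgroupOf.mp hk, ?_⟩
    have := congrArg (fun z : ↥H => (z : G)) hnk
    simpa using this.symm

end Cfsg.Agent.Helper29.GY
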