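import Mathlib
import Cfsg.Prelude.Def_Local
import Cfsg.Agent.Helper29.GYa
import Cfsg.Agent.Helper29.GYb
import Cfsg.Agent.Helper23.HallHigman
import Cfsg.Agent.Helper18.QuadPS1
import Cfsg.Agent.Helper21.ExpSix
import Cfsg.Agent.Helper7.PPrimeCore
import Cfsg.Agent.Helper15.KChar1
import Cfsg.Agent.Helper1.PLenSeries
import Cfsg.Agent.Lead.PSolvHall

set_option autoImplicit false
set_option linter.unusedSectionVars false
set_option linter.unusedVariables false
set_option linter.style.haveILetI false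
set_option maxHeartbeats 800000

/-! # Gaschütz–Yen (S3798), piece C: the core argument when `O_{p'}(G) = 1`. -/

namespace Cfsg.Agent.Helper29.GY

open Subgroup

variable {G : Type*} [Group G] [Finite G] {p : ℕ} [hp : Fact p.Prime]

/-- Core: `p` odd, `G` `p`-solvable with `O_{p'}(G) = 1`, and every characteristic subgroup
containing an element of order `p` contains all of them.  Then `O_p(G)` is a Sylow `p`-subgroup. -/
theorem index_pCore_coprime (hp2 : p ≠ 2) (hsol : Cfsg.IsPSolvable p G)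
    (hO : Cfsg.pPrimeCore p G = ⊥)
    (hchar : ∀ Y : Subgroup G, Y.Characteristic → (∃ y ∈ Y, orderOf y = p) →
      ∀ g : G, orderOf g = p → g ∈ Y) :
    (Cfsg.pCore p G).index.Coprime p := by
  by_contra hnc
  have hpp : p.Prime := hp.out
  have hdvd : p ∣ (Cfsg.pCore p G).index := by
    rw [Nat.coprime_comm, Nat.Prime.coprime_iff_not_dvd hpp] at hnc
    push Not at hnc; exact hnc
  obtain ⟨P, hPdef⟩ : ∃ P : Subgroup G, P = Cfsg.pCore p G := ⟨_, rfl⟩
  rw [← hPdef] at hdvd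
  haveI hPchar : P.Characteristic := by rw [hPdef]; infer_instance
  haveI hPn : P.Normal := inferInstance
  have hPp : IsPGroup p P := by rw [hPdef]; exact Cfsg.Agent.Helper14.pCore_isPGroup p
  have hCP : centralizer (P : Set G) ≤ P := by
    rw [hPdef]; exact Cfsg.Agent.Helper23.centralizer_pCore_le_of_isPSolvable hsol hO
  -- Step 1: all elements of order `p` lie in `Z = C_G(P) = Z(P)`.
  have hPne : P ≠ ⊥ := by
    intro h
    have h1 : centralizer ((⊥ : Subgroup G) : Set G) = ⊤ := by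
      rw [Subgroup.coe_bot]; exact Subgroup.centralizer_eq_top_iff_subset.mpr (by simp)
    rw [h, h1] at hCP
    have h2 : (⊥ : Subgroup G) = ⊤ := le_antisymm bot_le hCP
    rw [h, h2, Subgroup.index_top] at hdvd
    exact hpp.one_lt.ne' (Nat.dvd_one.mp hdvd)
  obtain ⟨Z, hZdef⟩ : ∃ Z : Subgroup G, Z = centralizer (P : Set G) := ⟨_, rfl⟩
  haveI hZchar : Z.Characteristic := by rw [hZdef]; infer_instance
  have hZP : Z ≤ P := by rw [hZdef]; exact hCP
  have hZy : ∃ y ∈ Z, orderOf y = p := by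
    haveI : Nontrivial ↥P := (Subgroup.nontrivial_iff_ne_bot P).mpr hPne
    haveI := hPp.center_nontrivial
    obtain ⟨z, hz⟩ := exists_ne (1 : ↥(Subgroup.center ↥P))
    have hzZ : ((z : ↥P) : G) ∈ Z := by
      rw [hZdef, mem_centralizer_iff]
      intro x hx
      have h1 := (Subgroup.mem_center_iff.mp z.2) ⟨x, hx⟩
      have := congrArg (fun w : ↥P => (w : G)) h1
      simpa using this
    have hZne : Nat.card Z ≠ 1 := by
      intro h1
      have h2 : Z = ⊥ := Subgroup.card_eq_one.mp h1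
      rw [h2, Subgroup.mem_bot] at hzZ
      apply hz
      ext
      simpa using hzZ
    have hZp : IsPGroup p Z := hPp.to_le hZP
    have hpZ : p ∣ Nat.card Z := by
      rcases hZp.card_eq_or_dvd with h | h
      · exact absurd h hZne
      · exact h
    obtain ⟨y, hy⟩ := exists_prime_orderOf_dvd_card' p hpZ
    exact ⟨(y : G), y.2, by rw [Subgroup.orderOf_coe]; exact hy⟩
  have hall : ∀ g : G, orderOf g = p → g ∈ Z := hchar Z hZchar hZy
  -- Step 2: the quotient by `P`.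
  have hOb : Cfsg.pCore p (G ⧸ P) = ⊥ := by
    subst hPdef; exact Cfsg.Agent.Helper21.ExpSix.pCore_quotient_pCore_eq_bot p
  have hsolb : Cfsg.IsPSolvable p (G ⧸ P) := Cfsg.Agent.Lead.isPSolvable_quotient hsol P
  obtain ⟨Kb, hKbdef⟩ : ∃ Kb : Subgroup (G ⧸ P), Kb = Cfsg.pPrimeCore p (G ⧸ P) := ⟨_, rfl⟩
  have hCK : centralizer (Kb : Set (G ⧸ P)) ≤ Kb := by
    rw [hKbdef]
    exact Cfsg.Agent.Helper18.QuadPS.centralizer_pPrimeCore_le_of_isPSolvable hsolb hOb
  have hKbcop : (Nat.card Kb).Coprime p := by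
    rw [hKbdef]; exact Cfsg.Agent.Helper23.pPrimeCore_card_coprime p (G ⧸ P)
  haveI hKbchar : Kb.Characteristic := by rw [hKbdef]; infer_instance
  obtain ⟨H, hHdef⟩ : ∃ H : Subgroup G, H = Kb.comap (QuotientGroup.mk' P) := ⟨_, rfl⟩
  haveI hHchar : H.Characteristic := by
    rw [hHdef]; exact Cfsg.Agent.Helper15.characteristic_comap_mk P Kb hKbchar
  haveI hHn : H.Normal := inferInstance
  have hmemH : ∀ g : G, g ∈ H ↔ (QuotientGroup.mk' P g) ∈ Kb := by
    intro g; rw [hHdef]; exact Subgroup.mem_comap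
  have hkerP : ∀ g : G, QuotientGroup.mk' P g = 1 ↔ g ∈ P := by
    intro g; rw [QuotientGroup.mk'_apply, QuotientGroup.eq_one_iff]
  have hPH : P ≤ H := by
    intro g hg
    rw [hmemH, (hkerP g).mpr hg]; exact one_mem _
  have hrel : P.relIndex H = Nat.card Kb := by
    rw [hHdef]; exact Cfsg.Agent.Helper1.PLen.relIndex_comap_mk' P Kb
  have hcardq : Nat.card (G ⧸ P) = P.index := by
    rw [Subgroup.index]
  have hpq : p ∣ Nat.card (G ⧸ P) := by rw [hcardq]; exact hdvd
  obtain ⟨xb, hxb⟩ := exists_prime_orderOf_dvd_card' p hpq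
  have hxbK : xb ∉ Kb := by
    intro h
    have h1 : orderOf (⟨xb, h⟩ : ↥Kb) ∣ Nat.card Kb := orderOf_dvd_natCard _
    have h2 : orderOf (⟨xb, h⟩ : ↥Kb) = p := by
      rw [← hxb, ← Subgroup.orderOf_coe]
    rw [h2] at h1
    exact (Nat.Prime.coprime_iff_not_dvd hpp).mp hKbcop.symm h1
  -- Step 3: a complement `Q` and an element `y` normalizing it.
  obtain ⟨⟨Q, hQH, hQcard⟩, hconj, hdec⟩ :=
    sz_rel P H hPH hPp (by rw [hrel]; exact hKbcop)
  have hQcop : (Nat.card Q).Coprime p := by rw [hQcard, hrel]; exact hKbcop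
  have hQP : Q ⊓ P = ⊥ := by
    apply Disjoint.eq_bot
    apply Subgroup.disjoint_of_coprime_natCard
    obtain ⟨a, ha⟩ := IsPGroup.iff_card.mp hPp
    rw [ha]; exact Nat.Coprime.pow_right a hQcop
  obtain ⟨x, rfl⟩ := QuotientGroup.mk'_surjective P xb
  obtain ⟨Q₂, hQ₂def⟩ : ∃ Q₂ : Subgroup G, Q₂ = Q.map (MulAut.conj x).toMonoidHom := ⟨_, rfl⟩
  have hmemQ₂ : ∀ q : G, x * q * x⁻¹ ∈ Q₂ ↔ q ∈ Q := by
    intro q
    rw [hQ₂def, Subgroup.mem_map]
    constructor
    · rintro ⟨q', hq', h⟩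
      have : q' = q := by
        have h' : x * q' * x⁻¹ = x * q * x⁻¹ := by simpa using h
        have := mul_right_cancel h'
        exact mul_left_cancel this
      rwa [← this]
    · intro hq
      exact ⟨q, hq, by simp⟩
  have hQ₂H : Q₂ ≤ H := by
    rw [hQ₂def]
    rintro _ ⟨q, hq, rfl⟩
    exact hHn.conj_mem q (hQH hq) x
  have hQ₂card : Nat.card Q₂ = P.relIndex H := by
    rw [hQ₂def, ← hQcard]
    exact Nat.card_congr (Q.equivMapOfInjective _ (MulAut.conj x).injective).toEquiv.symm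
  obtain ⟨u, huP, hu⟩ := hconj Q Q₂ hQH hQ₂H hQcard hQ₂card
  obtain ⟨y, hydef⟩ : ∃ y : G, y = u⁻¹ * x := ⟨_, rfl⟩
  have hyN : y ∈ normalizer (Q : Set G) := by
    rw [mem_normalizer_iff]
    intro q
    rw [← hmemQ₂ q, hu (x * q * x⁻¹)]
    have e : u⁻¹ * (x * q * x⁻¹) * u = y * q * y⁻¹ := by rw [hydef]; group
    rw [e]
  have hyx : QuotientGroup.mk' P y = QuotientGroup.mk' P x := by
    rw [hydef, map_mul, map_inv, (hkerP u).mpr huP, inv_one, one_mul]
  rw [← hyx] at hxb hxbK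
  -- Step 4
  have hypP : y ^ p ∈ P := by
    rw [← hkerP, map_pow, ← hxb, pow_orderOf_eq_one]
  have hyP : y ∉ P := by
    intro h
    rw [← hkerP] at h
    rw [h, orderOf_one] at hxb
    exact hpp.ne_one hxb.symm
  have hypN : y ^ p ∈ normalizer (Q : Set G) := (normalizer (Q : Set G)).pow_mem hyN p
  have hypQ : ∀ q ∈ Q, y ^ p * q = q * y ^ p := by
    intro q hq
    have h1 : y ^ p * q * (y ^ p)⁻¹ * q⁻¹ ∈ Q :=
      Q.mul_mem ((mem_normalizer_iff.mp hypN q).mp hq) (Q.inv_mem hq)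
    have h2 : y ^ p * q * (y ^ p)⁻¹ * q⁻¹ ∈ P := by
      have h3 : q * (y ^ p)⁻¹ * q⁻¹ ∈ P := hPn.conj_mem _ (P.inv_mem hypP) q
      have e : y ^ p * q * (y ^ p)⁻¹ * q⁻¹ = y ^ p * (q * (y ^ p)⁻¹ * q⁻¹) := by group
      rw [e]; exact P.mul_mem hypP h3
    have h4 : y ^ p * q * (y ^ p)⁻¹ * q⁻¹ ∈ Q ⊓ P := ⟨h1, h2⟩
    rw [hQP, Subgroup.mem_bot] at h4
    have e : y ^ p * q = (y ^ p * q * (y ^ p)⁻¹ * q⁻¹) * (q * y ^ p) := by group
    rw [e, h4, one_mul]
  -- the order of `y` is a power of `p`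
  obtain ⟨j, hj⟩ : ∃ j : ℕ, orderOf y = p ^ j := by
    obtain ⟨k, hk⟩ := (IsPGroup.iff_orderOf.mp hPp) ⟨y ^ p, hypP⟩
    have h1 : (y ^ p) ^ (p ^ k) = 1 := by
      have h2 : (⟨y ^ p, hypP⟩ : ↥P) ^ (p ^ k) = 1 := by rw [← hk]; exact pow_orderOf_eq_one _
      have := congrArg (fun w : ↥P => (w : G)) h2
      simpa using this
    have h3 : y ^ (p ^ (k + 1)) = 1 := by
      rw [pow_succ', pow_mul]; exact h1
    exact (Nat.dvd_prime_pow hpp).mp (orderOf_dvd_of_pow_eq_one h3) |>.imp fun _ h => h.2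
  have hy1 : y ≠ 1 := fun h => hyP (h ▸ P.one_mem)
  have hj1 : 1 ≤ j := by
    rcases Nat.eq_zero_or_pos j with h | h
    · rw [h, pow_zero, orderOf_eq_one_iff] at hj; exact absurd hj hy1
    · exact h
  obtain ⟨w, hwdef⟩ : ∃ w : G, w = y ^ (p ^ (j - 1)) := ⟨_, rfl⟩
  have hwo : orderOf w = p := by
    rw [hwdef, orderOf_pow_of_dvd (pow_pos hpp.pos _).ne' (by rw [hj]; exact pow_dvd_pow p (by omega)),
      hj]
    have : p ^ j = p ^ (j - 1) * p := by rw [← pow_succ]; congr 1; omega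
    rw [this, Nat.mul_div_cancel_left _ (pow_pos hpp.pos _)]
  have hwZ : w ∈ Z := hall w hwo
  have hj2 : 2 ≤ j := by
    by_contra h
    have hj' : j = 1 := by omega
    rw [hj', Nat.sub_self, pow_zero, pow_one] at hwdef
    rw [hwdef] at hwZ
    exact hyP (hZP hwZ)
  have hwQ : ∀ q ∈ Q, w * q = q * w := by
    intro q hq
    have e : w = (y ^ p) ^ (p ^ (j - 2)) := by
      rw [hwdef, ← pow_mul, ← pow_succ']; congr 2; omega
    have hc : Commute (y ^ p) q := hypQ q hq
    rw [e]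
    exact (hc.pow_left _).eq
  have hwH : w ∈ centralizer (H : Set G) := by
    rw [mem_centralizer_iff]
    intro h hh
    obtain ⟨u', hu', q, hq, rfl⟩ := hdec Q hQH hQcard h hh
    have h1 : u' * w = w * u' := by
      rw [hZdef, mem_centralizer_iff] at hwZ
      exact hwZ u' hu'
    rw [mul_assoc, ← hwQ q hq, ← mul_assoc, h1, mul_assoc]
  -- Step 5
  have hall' : ∀ g : G, orderOf g = p → g ∈ centralizer (H : Set G) :=
    hchar (centralizer (H : Set G)) inferInstance ⟨w, hwH, hwo⟩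
  -- Step 6
  have hQbot : ∀ a ∈ Q, a = 1 := by
    intro a ha
    have hao : (orderOf a).Coprime p := by
      have h1 : orderOf (⟨a, ha⟩ : ↥Q) ∣ Nat.card Q := orderOf_dvd_natCard _
      rw [Subgroup.orderOf_mk] at h1
      exact Nat.Coprime.coprime_dvd_left h1 hQcop
    have haN : a ∈ normalizer (P : Set G) := by
      rw [Subgroup.normalizer_eq_top]; exact Subgroup.mem_top a
    have hom : ∀ x' ∈ P, x' ^ p = 1 → a * x' = x' * a := by
      intro x' hx' hx'p
      by_cases h1 : x' = 1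
      · rw [h1, mul_one, one_mul]
      · have ho : orderOf x' = p := orderOf_eq_prime hx'p h1
        have := hall' x' ho
        rw [mem_centralizer_iff] at this
        exact this a (hQH ha)
    have haC := centralizes_of_centralizes_omega hp2 P hPp a hao haN hom
    have haP : a ∈ P := hCP haC
    have : a ∈ Q ⊓ P := ⟨ha, haP⟩
    rwa [hQP, Subgroup.mem_bot] at this
  have hQ1 : Nat.card Q = 1 := by
    rw [Subgroup.card_eq_one, eq_bot_iff]
    intro a ha; rw [Subgroup.mem_bot]; exact hQbot a ha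
  have hKb1 : Kb = ⊥ := by
    rw [← Subgroup.card_eq_one, ← hrel, ← hQcard]; exact hQ1
  have htop : centralizer ((Kb : Subgroup (G ⧸ P)) : Set (G ⧸ P)) = ⊤ := by
    rw [hKb1, Subgroup.coe_bot]; exact Subgroup.centralizer_eq_top_iff_subset.mpr (by simp)
  apply hxbK
  apply hCK
  rw [htop]; exact Subgroup.mem_top _

end Cfsg.Agent.Helper29.GY
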