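import Mathlib
import Cfsg.Prelude.Def_Local
import Cfsg.Agent.Helper29.GYc

set_option autoImplicit false
set_option linter.unusedSectionVars false
set_option linter.unusedVariables false
set_option linter.style.haveILetI false

/-! # Gaschütz–Yen (S3798), piece D: reduction to `O_{p'}(G) = 1` and the theorem. -/

namespace Cfsg.Agent.Helper29.GY

open Subgroup

variable {G : Type*} [Group G] [Finite G] {p : ℕ} [hp : Fact p.Prime]

theorem hchar_of_trans
    (htrans : ∀ U V : Subgroup G, Nat.card U = p → Nat.card V = p →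
      ∃ a : MulAut G, U.map a.toMonoidHom = V) :
    ∀ Y : Subgroup G, Y.Characteristic → (∃ y ∈ Y, orderOf y = p) →
      ∀ g : G, orderOf g = p → g ∈ Y := by
  rintro Y hY ⟨y, hyY, hyo⟩ g hgo
  obtain ⟨a, ha⟩ := htrans (zpowers y) (zpowers g) (by rw [Nat.card_zpowers, hyo])
    (by rw [Nat.card_zpowers, hgo])
  have hg : g ∈ (zpowers y).map a.toMonoidHom := by rw [ha]; exact mem_zpowers g
  obtain ⟨u, hu, rfl⟩ := hg
  have huY : u ∈ Y := (zpowers_le.mpr hyY) hu
  exact Cfsg.Agent.Helper15.char_apply_mem hY a huY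

theorem hchar_quotient (N : Subgroup G) [hNc : N.Characteristic] (hN : (Nat.card N).Coprime p)
    (hchar : ∀ Y : Subgroup G, Y.Characteristic → (∃ y ∈ Y, orderOf y = p) →
      ∀ g : G, orderOf g = p → g ∈ Y) :
    ∀ Y : Subgroup (G ⧸ N), Y.Characteristic → (∃ y ∈ Y, orderOf y = p) →
      ∀ g : G ⧸ N, orderOf g = p → g ∈ Y := by
  have hpp : p.Prime := hp.out
  rintro Y hY ⟨yb, hybY, hybo⟩ gb hgbo
  obtain ⟨n, hn⟩ : ∃ n : ℕ, n = Nat.card N := ⟨_, rfl⟩
  have hnp : ¬ p ∣ n := by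
    rw [hn]; exact (Nat.Prime.coprime_iff_not_dvd hpp).mp hN.symm
  have hkerN : ∀ g : G, QuotientGroup.mk' N g = 1 ↔ g ∈ N := by
    intro g; rw [QuotientGroup.mk'_apply, QuotientGroup.eq_one_iff]
  -- lifting elements of order `p`
  have lift : ∀ zb : G ⧸ N, orderOf zb = p →
      ∃ z : G, orderOf z = p ∧ QuotientGroup.mk' N z = zb ^ n := by
    intro zb hzbo
    obtain ⟨z, rfl⟩ := QuotientGroup.mk'_surjective N zb
    refine ⟨z ^ n, ?_, by rw [map_pow]⟩
    apply orderOf_eq_prime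
    · have h1 : z ^ p ∈ N := by
        rw [← hkerN, map_pow, ← hzbo, pow_orderOf_eq_one]
      have h2 : (⟨z ^ p, h1⟩ : ↥N) ^ n = 1 := by rw [hn]; exact pow_card_eq_one'
      have h3 := congrArg (fun w : ↥N => (w : G)) h2
      have h4 : (z ^ p) ^ n = 1 := by simpa using h3
      rw [← pow_mul, mul_comm, pow_mul]; exact h4
    · intro h
      have h1 : (QuotientGroup.mk' N z) ^ n = 1 := by rw [← map_pow, h, map_one]
      have h2 := orderOf_dvd_of_pow_eq_one h1
      rw [hzbo] at h2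
      exact hnp h2
  obtain ⟨y, hyo, hy⟩ := lift yb hybo
  obtain ⟨g, hgo, hg⟩ := lift gb hgbo
  have hY' : (Y.comap (QuotientGroup.mk' N)).Characteristic :=
    Cfsg.Agent.Helper15.characteristic_comap_mk N Y hY
  have hyY' : y ∈ Y.comap (QuotientGroup.mk' N) := by
    rw [Subgroup.mem_comap, hy]; exact Y.pow_mem hybY n
  have hgY' := hchar _ hY' ⟨y, hyY', hyo⟩ g hgo
  rw [Subgroup.mem_comap, hg] at hgY'
  -- `gb` is a power of `gb ^ n`
  have hcop : Nat.Coprime n p := (Nat.Prime.coprime_iff_not_dvd hpp).mpr hnp |>.symm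
  obtain ⟨m, -, hm⟩ := Nat.exists_mul_mod_eq_one_of_coprime hcop hpp.one_lt
  have e : gb = (gb ^ n) ^ m := by
    rw [← pow_mul, ← pow_mod_orderOf, hgbo, hm, pow_one]
  rw [e]
  exact Y.pow_mem hgY' m

/-- **Gaschütz–Yen.** -/
theorem gaschutz_yen (hp2 : p ≠ 2) (hG : Cfsg.IsPSolvable p G)
    (htrans : ∀ U V : Subgroup G, Nat.card U = p → Nat.card V = p →
      ∃ a : MulAut G, U.map a.toMonoidHom = V) :
    Cfsg.PLengthLE p 1 G := by
  have hNcop : (Nat.card (Cfsg.pPrimeCore p G)).Coprime p :=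
    Cfsg.Agent.Helper23.pPrimeCore_card_coprime p G
  have h1 := index_pCore_coprime (G := G ⧸ Cfsg.pPrimeCore p G) hp2
    (Cfsg.Agent.Lead.isPSolvable_quotient hG _)
    (Cfsg.Agent.Helper7.pPrimeCore_quotient_eq_bot p)
    (hchar_quotient (Cfsg.pPrimeCore p G) hNcop (hchar_of_trans htrans))
  have h2 : Cfsg.PLengthLE p 1 (G ⧸ Cfsg.pPrimeCore p G) := by
    have h3 := Cfsg.Agent.Helper1.PLen.pLengthLE_of_extension
      (Cfsg.pCore p (G ⧸ Cfsg.pPrimeCore p G)) (a := 1) (b := 0)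
      (Cfsg.Agent.Helper1.PLen.pLengthLE_one_of_isPGroup (Cfsg.Agent.Helper14.pCore_isPGroup p))
      (Cfsg.Agent.Helper1.PLen.pLengthLE_zero_of_coprime (by
        have : Nat.card ((G ⧸ Cfsg.pPrimeCore p G) ⧸ Cfsg.pCore p (G ⧸ Cfsg.pPrimeCore p G)) =
            (Cfsg.pCore p (G ⧸ Cfsg.pPrimeCore p G)).index := by rw [Subgroup.index]
        rw [this]; exact h1))
    simpa using h3
  have h4 := Cfsg.Agent.Helper1.PLen.pLengthLE_of_extension
    (Cfsg.pPrimeCore p G) (a := 0) (b := 1)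
    (Cfsg.Agent.Helper1.PLen.pLengthLE_zero_of_coprime hNcop) h2
  simpa using h4

end Cfsg.Agent.Helper29.GY
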