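import Mathlib
import Cfsg.Agent.Helper14.FrattiniChain
import Cfsg.Agent.Helper15.OmegaFus

/-! # S3795 (Gross, p = 2): `two_level_false`, general group lemmas. -/

set_option autoImplicit false
set_option linter.unusedSectionVars false
set_option linter.unusedVariables false

namespace Cfsg.Agent.Helper29.GrossTL

open Subgroup

variable {Γ : Type*} [Group Γ]

/-- the centre of `Q` as a subgroup of the ambient group -/
def zq (Q : Subgroup Γ) : Subgroup Γ := Q ⊓ centralizer (Q : Set Γ)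

theorem zq_le (Q : Subgroup Γ) : zq Q ≤ Q := inf_le_left

theorem mem_zq {Q : Subgroup Γ} {z : Γ} : z ∈ zq Q ↔ z ∈ Q ∧ ∀ g ∈ Q, g * z = z * g := by
  unfold zq
  rw [Subgroup.mem_inf, mem_centralizer_iff]
  rfl

theorem zq_comm {Q : Subgroup Γ} {z g : Γ} (hz : z ∈ zq Q) (hg : g ∈ Q) : z * g = g * z :=
  ((mem_zq.mp hz).2 g hg).symm

theorem normalizer_le_normalizer_zq (Q : Subgroup Γ) :
    normalizer (Q : Set Γ) ≤ normalizer ((zq Q : Subgroup Γ) : Set Γ) := by
  have key : ∀ t ∈ normalizer (Q : Set Γ), ∀ z ∈ zq Q, t * z * t⁻¹ ∈ zq Q := by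
    intro t ht z hz
    rw [mem_zq] at hz ⊢
    refine ⟨(mem_normalizer_iff.mp ht z).mp hz.1, ?_⟩
    intro g hg
    have hg' : t⁻¹ * g * t⁻¹⁻¹ ∈ Q := (mem_normalizer_iff.mp (inv_mem ht) g).mp hg
    have h1 := hz.2 _ hg'
    have e1 : g * (t * z * t⁻¹) = t * ((t⁻¹ * g * t⁻¹⁻¹) * z) * t⁻¹ := by group
    have e2 : t * z * t⁻¹ * g = t * (z * (t⁻¹ * g * t⁻¹⁻¹)) * t⁻¹ := by group
    rw [e1, e2, h1]
  intro t ht
  rw [mem_normalizer_iff]
  intro z
  constructor
  · exact key t ht z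
  · intro hz
    have := key t⁻¹ (inv_mem ht) _ hz
    have e : t⁻¹ * (t * z * t⁻¹) * t⁻¹⁻¹ = z := by group
    rwa [e] at this

/-- an element acting trivially on `Q / Z` and on `Z`, of order prime to `q`, centralizes the
`q`-group `Q` -/
theorem stable_centralizes [Finite Γ] {q : ℕ} (hq : q.Prime) (Q Z : Subgroup Γ) (hZQ : Z ≤ Q)
    (hQ : IsPGroup q Q) (c : Γ) (k : ℕ) (hck : c ^ k = 1) (hkq : k.Coprime q)
    (h1 : ∀ g ∈ Q, c * g * c⁻¹ * g⁻¹ ∈ Z) (h2 : ∀ z ∈ Z, c * z = z * c) :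
    ∀ g ∈ Q, c * g * c⁻¹ = g := by
  intro g hg
  obtain ⟨z, hzdef⟩ : ∃ z : Γ, z = c * g * c⁻¹ * g⁻¹ := ⟨_, rfl⟩
  have hz : z ∈ Z := by rw [hzdef]; exact h1 g hg
  have hcz : c * z = z * c := h2 z hz
  have hcg : c * g * c⁻¹ = z * g := by rw [hzdef]; group
  have hpow : ∀ j : ℕ, c ^ j * g * (c ^ j)⁻¹ = z ^ j * g := by
    intro j
    induction j with
    | zero => simp
    | succ j ih =>
      have e : c ^ (j + 1) * g * (c ^ (j + 1))⁻¹ = c * (c ^ j * g * (c ^ j)⁻¹) * c⁻¹ := by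
        rw [pow_succ']; group
      rw [e, ih]
      have hczj : c * z ^ j = z ^ j * c := (Commute.pow_right (show Commute c z from hcz) j).eq
      have e2 : c * (z ^ j * g) * c⁻¹ = (c * z ^ j) * g * c⁻¹ := by group
      rw [e2, hczj]
      have e3 : z ^ j * c * g * c⁻¹ = z ^ j * (c * g * c⁻¹) := by group
      rw [e3, hcg, pow_succ]
      group
  have hzk : z ^ k = 1 := by
    have := hpow k
    rw [hck] at this
    simp only [one_mul, inv_one, mul_one] at this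
    exact (mul_eq_right.mp this.symm)
  -- `z` is a `q`-element
  haveI : Fact q.Prime := ⟨hq⟩
  obtain ⟨j, hj⟩ := (IsPGroup.iff_orderOf.mp hQ) ⟨z, hZQ hz⟩
  rw [Subgroup.orderOf_mk] at hj
  have hdvd : orderOf z ∣ k := orderOf_dvd_of_pow_eq_one hzk
  have hcop : (orderOf z).Coprime k := by
    rw [hj]; exact Nat.Coprime.pow_left j hkq.symm
  have h1' : orderOf z = 1 := Nat.Coprime.eq_one_of_dvd hcop hdvd
  have hz1 : z = 1 := orderOf_eq_one_iff.mp h1'
  rw [hcg, hz1, one_mul]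

theorem derived_le_self (P : Subgroup Γ) : ⁅P, P⁆ ≤ P := by
  rw [Subgroup.commutator_le]
  intro g hg h hh
  rw [commutatorElement_def]
  exact P.mul_mem (P.mul_mem (P.mul_mem hg hh) (P.inv_mem hg)) (P.inv_mem hh)

theorem derived_ne_self [Finite Γ] {p : ℕ} (hp : p.Prime) (P : Subgroup Γ) (hP : IsPGroup p P)
    (hne : P ≠ ⊥) : ⁅P, P⁆ ≠ P := by
  haveI : Fact p.Prime := ⟨hp⟩
  haveI : Group.IsNilpotent P := hP.isNilpotent
  intro h
  exact hne (Cfsg.Agent.Helper15.eq_bot_of_le_commutator P P le_rfl h.ge)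

theorem comm_mem_derived {P : Subgroup Γ} {g h : Γ} (hg : g ∈ P) (hh : h ∈ P) :
    g * h * g⁻¹ * h⁻¹ ∈ ⁅P, P⁆ := by
  rw [← commutatorElement_def]
  exact Subgroup.commutator_mem_commutator hg hh

/-- conjugating a normalizing element: the forward direction as a function -/
theorem conj_mem_of_mem_normalizer {H : Subgroup Γ} {t g : Γ} (ht : t ∈ normalizer (H : Set Γ))
    (hg : g ∈ H) : t * g * t⁻¹ ∈ H := (mem_normalizer_iff.mp ht g).mp hg

theorem conj_inv_mem_of_mem_normalizer {H : Subgroup Γ} {t g : Γ}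
    (ht : t ∈ normalizer (H : Set Γ)) (hg : g ∈ H) : t⁻¹ * g * t ∈ H := by
  have := (mem_normalizer_iff.mp (inv_mem ht) g).mp hg
  rwa [inv_inv] at this

/-- to show `t ∈ N(H)` in a finite group it is enough that `t H t⁻¹ ⊆ H` -/
theorem mem_normalizer_of_conj_mem [Finite Γ] {H : Subgroup Γ} {t : Γ}
    (h : ∀ g ∈ H, t * g * t⁻¹ ∈ H) : t ∈ normalizer (H : Set Γ) := by
  rw [mem_normalizer_iff]
  intro g
  constructor
  · exact h g
  · intro hg
    -- `t⁻¹` is a power of `t`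
    have key : ∀ j : ℕ, ∀ x ∈ H, t ^ j * x * (t ^ j)⁻¹ ∈ H := by
      intro j
      induction j with
      | zero => intro x hx; simpa using hx
      | succ j ih =>
        intro x hx
        have e : t ^ (j + 1) * x * (t ^ (j + 1))⁻¹ = t * (t ^ j * x * (t ^ j)⁻¹) * t⁻¹ := by
          rw [pow_succ']; group
        rw [e]; exact h _ (ih x hx)
    have hpos : 0 < orderOf t := orderOf_pos t
    have h1 := key (orderOf t - 1) _ hg
    have e2 : t ^ (orderOf t - 1) = t⁻¹ := by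
      rw [eq_inv_iff_mul_eq_one, ← pow_succ, Nat.sub_add_cancel hpos, pow_orderOf_eq_one]
    rw [e2] at h1
    have e3 : t⁻¹ * (t * g * t⁻¹) * t⁻¹⁻¹ = g := by group
    rwa [e3] at h1

end Cfsg.Agent.Helper29.GrossTL
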