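import Mathlib
import Cfsg.Agent.Helper1.GrossHH
import Cfsg.Agent.Helper8.GrossBC
import Cfsg.Agent.Helper29.GrossTLa
import Cfsg.Agent.Helper9.GrossE

/-! # S3795 (Gross, p = 2): steps (a), (b), (c) and the assembly of `two_level_false`. -/

set_option autoImplicit false
set_option linter.unusedSectionVars false
set_option linter.unusedVariables false
set_option linter.style.haveILetI false

namespace Cfsg.Agent.Helper29.GrossTL

open Subgroup Cfsg.Agent.Helper1.GrossFit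

variable {Γ : Type*} [Group Γ] [Finite Γ] {V : Type*} [CommGroup V] [Finite V]
  {s0 q r n : ℕ} {S Q : Subgroup Γ} {s : Γ}

/-- if `b` centralizes `Q` then so does `S = [S, b]`, against `hnt` -/
theorem false_of_b_centralizes (C : TwoLevel s0 q n S Q s)
    (h : ∀ g ∈ Q, s ^ (2 ^ (n - 1)) * g * (s ^ (2 ^ (n - 1)))⁻¹ = g) : False := by
  obtain ⟨b, hb⟩ : ∃ b : Γ, b = s ^ (2 ^ (n - 1)) := ⟨_, rfl⟩
  rw [← hb] at h
  have hgen := C.hgen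
  rw [← hb] at hgen
  have hle : S ≤ centralizer (Q : Set Γ) := by
    rw [← hgen, closure_le]
    rintro _ ⟨x, hx, rfl⟩
    rw [SetLike.mem_coe, mem_centralizer_iff]
    intro g hg
    have hg' : x⁻¹ * g * x ∈ Q := conj_inv_mem_of_mem_normalizer (C.hSQ hx) hg
    have h1 : b * (x⁻¹ * g * x) * b⁻¹ = x⁻¹ * g * x := h _ hg'
    have h2 : b⁻¹ * (x⁻¹ * g * x) * b = x⁻¹ * g * x := by
      have e : b⁻¹ * (x⁻¹ * g * x) * b = b⁻¹ * (b * (x⁻¹ * g * x) * b⁻¹) * b := by rw [h1]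
      rw [e]; group
    have h3 : (b * x * b⁻¹ * x⁻¹) * g * (b * x * b⁻¹ * x⁻¹)⁻¹ = g := by
      have e : (b * x * b⁻¹ * x⁻¹) * g * (b * x * b⁻¹ * x⁻¹)⁻¹ =
          b * (x * (b⁻¹ * (x⁻¹ * g * x) * b) * x⁻¹) * b⁻¹ := by group
      rw [e, h2]
      have e2 : x * (x⁻¹ * g * x) * x⁻¹ = g := by group
      rw [e2]; exact h g hg
    calc g * (b * x * b⁻¹ * x⁻¹)
        = ((b * x * b⁻¹ * x⁻¹) * g * (b * x * b⁻¹ * x⁻¹)⁻¹) * (b * x * b⁻¹ * x⁻¹) := by rw [h3]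
      _ = (b * x * b⁻¹ * x⁻¹) * g := by group
  obtain ⟨x, hx, g, hg, hne⟩ := C.hnt
  apply hne
  have := (mem_centralizer_iff.mp (hle hx)) g hg
  rw [mul_inv_eq_iff_eq_mul]
  exact this.symm

/-- `b` centralizes every `s`-invariant abelian subgroup of `Q` -/
theorem b_centralizes_abelian (C : TwoLevel s0 q n S Q s) (hr : r.Prime) (hr2 : r ≠ 2)
    (hqr : q ≠ r) (hV : ∀ v : V, v ^ r = 1) (φ : Γ →* MulAut V)
    (hfaith : ∀ g ∈ Q, φ g = 1 → g = 1) (hfpfV : ∀ v : V, φ s v = v → v = 1)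
    (A : Subgroup Γ) (hAQ : A ≤ Q) (hsA : s ∈ normalizer (A : Set Γ))
    (hab : ∀ a ∈ A, ∀ b ∈ A, a * b = b * a) :
    ∀ g ∈ A, s ^ (2 ^ (n - 1)) * g * (s ^ (2 ^ (n - 1)))⁻¹ = g := by
  by_contra hcon
  push Not at hcon
  obtain ⟨v, hv1, hv⟩ := Cfsg.Agent.Helper8.GrossBC.abelian_group (p := 2) (q := q) (r := r)
    (n := n) Nat.prime_two C.hq hr hr2 (Ne.symm hqr) C.hn hV A (C.hQ.to_le hAQ) hab s hsA C.hs
    hcon φ (fun g hg => hfaith g (hAQ hg))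
  exact hv1 (hfpfV v hv)

/-- (a) `Q` is not abelian -/
theorem not_abelian (C : TwoLevel s0 q n S Q s) (hr : r.Prime) (hr2 : r ≠ 2)
    (hqr : q ≠ r) (hV : ∀ v : V, v ^ r = 1) (φ : Γ →* MulAut V)
    (hfaith : ∀ g ∈ Q, φ g = 1 → g = 1) (hfpfV : ∀ v : V, φ s v = v → v = 1) :
    ¬ ∀ g ∈ Q, ∀ h ∈ Q, g * h = h * g := by
  intro hab
  exact false_of_b_centralizes C
    (b_centralizes_abelian C hr hr2 hqr hV φ hfaith hfpfV Q le_rfl C.hsQ hab)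

theorem Q_ne_bot (C : TwoLevel s0 q n S Q s) : Q ≠ ⊥ := by
  intro h
  obtain ⟨x, hx, g, hg, hne⟩ := C.hnt
  rw [h, mem_bot] at hg
  apply hne
  rw [hg]; group

/-- (b1) the centre of `Q` is proper -/
theorem zq_ne (C : TwoLevel s0 q n S Q s) (hr : r.Prime) (hr2 : r ≠ 2)
    (hqr : q ≠ r) (hV : ∀ v : V, v ^ r = 1) (φ : Γ →* MulAut V)
    (hfaith : ∀ g ∈ Q, φ g = 1 → g = 1) (hfpfV : ∀ v : V, φ s v = v → v = 1) : zq Q ≠ Q := by
  intro h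
  apply not_abelian C hr hr2 hqr hV φ hfaith hfpfV
  intro g hg k hk
  have hg' : g ∈ zq Q := by rw [h]; exact hg
  exact zq_comm hg' hk

/-- (P2) in the form `M ≤ Z(Q)` -/
theorem le_zq_of_invariant (C : TwoLevel s0 q n S Q s) (M : Subgroup Γ) (hMQ : M ≤ Q)
    (hsM : s ∈ normalizer (M : Set Γ)) (hSM : S ≤ normalizer (M : Set Γ))
    (hQM : Q ≤ normalizer (M : Set Γ)) (hne : M ≠ Q) : M ≤ zq Q := by
  intro m hm
  rw [mem_zq]
  refine ⟨hMQ hm, fun g hg => ?_⟩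
  exact (C.central_of_invariant M hMQ hsM hSM hQM hne m hm g hg).symm

/-- (b2) `S` centralizes the centre of `Q` -/
theorem S_comm_zq (C : TwoLevel s0 q n S Q s) (hZne : zq Q ≠ Q) :
    ∀ x ∈ S, ∀ z ∈ zq Q, x * z = z * x := by
  intro x hx z hz
  have := C.hminQ (zq Q) (zq_le Q) (normalizer_le_normalizer_zq Q C.hsQ)
    (C.hSQ.trans (normalizer_le_normalizer_zq Q)) hZne x hx z hz
  rwa [mul_inv_eq_iff_eq_mul] at this

/-- (b3) `Q' ≤ Z(Q)` -/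
theorem comm_mem_zq (C : TwoLevel s0 q n S Q s) :
    ∀ g ∈ Q, ∀ h ∈ Q, g * h * g⁻¹ * h⁻¹ ∈ zq Q := by
  intro g hg h hh
  have hder := Cfsg.Agent.Helper14.normalizer_le_normalizer_derived Q
  have hle := le_zq_of_invariant C ⁅Q, Q⁆ (derived_le_self Q) (hder C.hsQ) (C.hSQ.trans hder)
    (le_normalizer.trans hder) (derived_ne_self C.hq Q C.hQ (Q_ne_bot C))
  exact hle (comm_mem_derived hg hh)

/-- class two: `(x y)^k = x^k y^k z` with `z` central -/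
theorem mul_pow_class_two {Q Z : Subgroup Γ} (hZQ : Z ≤ Q)
    (hZc : ∀ z ∈ Z, ∀ g ∈ Q, z * g = g * z)
    (hcomm : ∀ g ∈ Q, ∀ h ∈ Q, g * h * g⁻¹ * h⁻¹ ∈ Z) {x y : Γ} (hx : x ∈ Q) (hy : y ∈ Q) :
    ∀ k : ℕ, ∃ z ∈ Z, (x * y) ^ k = x ^ k * y ^ k * z := by
  intro k
  induction k with
  | zero => exact ⟨1, Z.one_mem, by simp⟩
  | succ k ih =>
    obtain ⟨z, hz, hk⟩ := ih
    -- `c = (y^k)⁻¹ x⁻¹ y^k x`
    have hyk : y ^ k ∈ Q := Q.pow_mem hy k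
    have hc : (y ^ k)⁻¹ * x⁻¹ * ((y ^ k)⁻¹)⁻¹ * (x⁻¹)⁻¹ ∈ Z :=
      hcomm _ (Q.inv_mem hyk) _ (Q.inv_mem hx)
    obtain ⟨c, hcdef⟩ : ∃ c : Γ, c = (y ^ k)⁻¹ * x⁻¹ * ((y ^ k)⁻¹)⁻¹ * (x⁻¹)⁻¹ := ⟨_, rfl⟩
    rw [← hcdef] at hc
    refine ⟨c * z, Z.mul_mem hc hz, ?_⟩
    have h1 : y ^ k * x = x * y ^ k * c := by rw [hcdef]; group
    have hzx : z * (x * y) = (x * y) * z := hZc z hz _ (Q.mul_mem hx hy)
    have hcy : c * y = y * c := hZc c hc y hy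
    calc (x * y) ^ (k + 1) = (x * y) ^ k * (x * y) := pow_succ _ _
      _ = x ^ k * y ^ k * z * (x * y) := by rw [hk]
      _ = x ^ k * y ^ k * ((x * y) * z) := by rw [mul_assoc (x ^ k * y ^ k), hzx]
      _ = x ^ k * (y ^ k * x) * y * z := by group
      _ = x ^ k * (x * y ^ k * c) * y * z := by rw [h1]
      _ = x ^ k * x * y ^ k * (c * y) * z := by group
      _ = x ^ k * x * y ^ k * (y * c) * z := by rw [hcy]
      _ = x ^ (k + 1) * y ^ (k + 1) * (c * z) := by rw [pow_succ, pow_succ]; group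

/-- (c) `Q / Z(Q)` has exponent `q` -/
theorem pow_mem_zq (C : TwoLevel s0 q n S Q s) (hZne : zq Q ≠ Q) :
    ∀ g ∈ Q, g ^ q ∈ zq Q := by
  have hcomm := comm_mem_zq C
  have hZc : ∀ z ∈ zq Q, ∀ g ∈ Q, z * g = g * z := fun z hz g hg => zq_comm hz hg
  have hnZ := normalizer_le_normalizer_zq Q
  -- the subgroup `M`
  let M : Subgroup Γ :=
    { carrier := {g | g ∈ Q ∧ g ^ q ∈ zq Q}
      one_mem' := ⟨Q.one_mem, by rw [one_pow]; exact (zq Q).one_mem⟩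
      mul_mem' := by
        rintro x y ⟨hx, hx'⟩ ⟨hy, hy'⟩
        refine ⟨Q.mul_mem hx hy, ?_⟩
        obtain ⟨z, hz, h⟩ := mul_pow_class_two (zq_le Q) hZc hcomm hx hy q
        rw [h]
        exact (zq Q).mul_mem ((zq Q).mul_mem hx' hy') hz
      inv_mem' := by
        rintro x ⟨hx, hx'⟩
        refine ⟨Q.inv_mem hx, ?_⟩
        rw [inv_pow]; exact (zq Q).inv_mem hx' }
  have hmemM : ∀ g : Γ, g ∈ M ↔ g ∈ Q ∧ g ^ q ∈ zq Q := fun g => Iff.rfl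
  have hMQ : M ≤ Q := fun g hg => ((hmemM g).mp hg).1
  have hZM : zq Q ≤ M := by
    intro z hz
    rw [hmemM]
    exact ⟨zq_le Q hz, (zq Q).pow_mem hz q⟩
  have hinv : ∀ t ∈ normalizer (Q : Set Γ), t ∈ normalizer (M : Set Γ) := by
    intro t ht
    apply mem_normalizer_of_conj_mem
    intro g hg
    rw [hmemM] at hg ⊢
    refine ⟨conj_mem_of_mem_normalizer ht hg.1, ?_⟩
    rw [conj_pow]
    exact conj_mem_of_mem_normalizer (hnZ ht) hg.2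
  by_contra hcon
  push Not at hcon
  obtain ⟨g0, hg0, hg0'⟩ := hcon
  have hMne : M ≠ Q := by
    intro h
    have : g0 ∈ M := by rw [h]; exact hg0
    exact hg0' ((hmemM g0).mp this).2
  have hMZ : M ≤ zq Q := le_zq_of_invariant C M hMQ (hinv s C.hsQ)
    (fun x hx => hinv x (C.hSQ hx)) (fun x hx => hinv x (le_normalizer hx)) hMne
  -- an element of `Q` outside `Z(Q)`
  obtain ⟨x, hxQ, hxZ⟩ : ∃ x ∈ Q, x ∉ zq Q := by
    by_contra h
    push Not at h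
    exact hZne (le_antisymm (zq_le Q) h)
  haveI : Fact q.Prime := ⟨C.hq⟩
  obtain ⟨k, hk⟩ := (IsPGroup.iff_orderOf.mp C.hQ) ⟨x, hxQ⟩
  rw [Subgroup.orderOf_mk] at hk
  have hex : ∃ j : ℕ, x ^ (q ^ j) ∈ zq Q := ⟨k, by rw [← hk, pow_orderOf_eq_one]; exact one_mem _⟩
  classical
  obtain ⟨j, hj, hjmin⟩ : ∃ j : ℕ, x ^ (q ^ j) ∈ zq Q ∧ ∀ i < j, x ^ (q ^ i) ∉ zq Q :=
    ⟨Nat.find hex, Nat.find_spec hex, fun i hi => Nat.find_min hex hi⟩
  rcases Nat.eq_zero_or_pos j with h0 | hpos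
  · rw [h0, pow_zero, pow_one] at hj
    exact hxZ hj
  · obtain ⟨j', rfl⟩ : ∃ j', j = j' + 1 := ⟨j - 1, by omega⟩
    have hy : x ^ (q ^ j') ∈ M := by
      rw [hmemM]
      refine ⟨Q.pow_mem hxQ _, ?_⟩
      rw [← pow_mul, ← pow_succ]; exact hj
    exact hjmin j' (by omega) (hMZ hy)

/-- **The two-level configuration cannot act** (assembly of helper9's `two_level_core` at
`Z = Z(Q)`). -/
theorem two_level_false (C : TwoLevel s0 q n S Q s) (hr : r.Prime) (hr2 : r ≠ 2)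
    (hqr : q ≠ r) (hV : ∀ v : V, v ^ r = 1) (φ : Γ →* MulAut V)
    (hfaith : ∀ g ∈ Q, φ g = 1 → g = 1) (hfpfV : ∀ v : V, φ s v = v → v = 1) : False := by
  have hZne := zq_ne C hr hr2 hqr hV φ hfaith hfpfV
  have hbZ : ∀ z ∈ zq Q, s ^ (2 ^ (n - 1)) * z = z * s ^ (2 ^ (n - 1)) := by
    intro z hz
    have := b_centralizes_abelian C hr hr2 hqr hV φ hfaith hfpfV (zq Q) (zq_le Q)
      (normalizer_le_normalizer_zq Q C.hsQ)
      (fun a ha b hb => zq_comm ha (zq_le Q hb)) z hz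
    rwa [mul_inv_eq_iff_eq_mul] at this
  exact Cfsg.Agent.Helper9.Gross.two_level_core C.hs0 C.hq hr C.hs02 C.hq2 hr2 C.hqs0 hqr C.hn
    S Q (zq Q) s C.hS C.hQ C.hsS C.hsQ C.hSQ C.hs C.hfpfQ C.hgen C.hnt C.hminS
    (zq_le Q) (fun z hz g hg => zq_comm hz hg)
    (fun g hg h => mem_zq.mpr ⟨hg, fun k hk => (h k hk).symm⟩)
    (comm_mem_zq C) (S_comm_zq C hZne) hbZ (pow_mem_zq C hZne)
    (fun M hMQ hsM hSM hQM hne => le_zq_of_invariant C M hMQ hsM hSM hQM hne)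
    hV φ hfaith hfpfV

end Cfsg.Agent.Helper29.GrossTL
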