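import Mathlib

/-!
# Irredundant bases of a permutation group (Cameron–Fon-Der-Flaass)

All irredundant bases have the same length iff irredundant bases are closed under reordering.
We work with lists, relative to a subgroup `H`, and translate to `Fin`-indexed sequences.
-/

set_option autoImplicit false

namespace Cfsg.Agent.Helper29.IrrBase

open MulAction

variable {G Ω : Type*} [Group G] [MulAction G Ω]

/-- every member of the list is moved by the stabilizer of the earlier ones (inside `H`). -/
def IrrPre : Subgroup G → List Ω → Prop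
  | _, [] => True
  | H, x :: l => (∃ g ∈ H, g • x ≠ x) ∧ IrrPre (H ⊓ stabilizer G x) l

/-- only the identity of `H` fixes all members of the list. -/
def IsBaseL (H : Subgroup G) (l : List Ω) : Prop :=
  ∀ g ∈ H, (∀ x ∈ l, g • x = x) → g = 1

/-- irredundant base of `H` (list form). -/
def IrrL (H : Subgroup G) (l : List Ω) : Prop := IrrPre H l ∧ IsBaseL H l

/-- the pointwise stabilizer in `H` of the members of a list. -/
def stabL (H : Subgroup G) (l : List Ω) : Subgroup G where
  carrier := {g | g ∈ H ∧ ∀ x ∈ l, g • x = x}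
  mul_mem' := by
    rintro a b ⟨ha, ha'⟩ ⟨hb, hb'⟩
    exact ⟨H.mul_mem ha hb, fun x hx => by rw [mul_smul, hb' x hx, ha' x hx]⟩
  one_mem' := ⟨H.one_mem, fun x _ => one_smul _ _⟩
  inv_mem' := by
    rintro a ⟨ha, ha'⟩
    exact ⟨H.inv_mem ha, fun x hx => by rw [inv_smul_eq_iff, ha' x hx]⟩

theorem mem_stabL {H : Subgroup G} {l : List Ω} {g : G} :
    g ∈ stabL H l ↔ g ∈ H ∧ ∀ x ∈ l, g • x = x := Iff.rfl

theorem stabL_cons (H : Subgroup G) (x : Ω) (l : List Ω) :
    stabL H (x :: l) = stabL (H ⊓ stabilizer G x) l := by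
  ext g
  simp only [mem_stabL, Subgroup.mem_inf, mem_stabilizer_iff, List.mem_cons, forall_eq_or_imp]
  tauto

theorem isBaseL_cons {H : Subgroup G} {x : Ω} {l : List Ω} :
    IsBaseL H (x :: l) ↔ IsBaseL (H ⊓ stabilizer G x) l := by
  unfold IsBaseL
  simp only [Subgroup.mem_inf, mem_stabilizer_iff, List.mem_cons, forall_eq_or_imp]
  constructor
  · rintro h g ⟨hg, hx⟩ hl
    exact h g hg ⟨hx, hl⟩
  · rintro h g hg ⟨hx, hl⟩
    exact h g ⟨hg, hx⟩ hl

theorem irrL_nil {H : Subgroup G} : IrrL H ([] : List Ω) ↔ ∀ g ∈ H, g = 1 := by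
  unfold IrrL IsBaseL IrrPre
  simp

theorem irrL_cons {H : Subgroup G} {x : Ω} {l : List Ω} :
    IrrL H (x :: l) ↔ (∃ g ∈ H, g • x ≠ x) ∧ IrrL (H ⊓ stabilizer G x) l := by
  unfold IrrL
  rw [isBaseL_cons]
  simp only [IrrPre]
  tauto

theorem irrPre_append {H : Subgroup G} {l₁ l₂ : List Ω} :
    IrrPre H (l₁ ++ l₂) ↔ IrrPre H l₁ ∧ IrrPre (stabL H l₁) l₂ := by
  induction l₁ generalizing H with
  | nil =>
    have : stabL H ([] : List Ω) = H := by
      ext g; simp [mem_stabL]
    simp [IrrPre, this]
  | cons x l ih =>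
    simp only [List.cons_append, IrrPre, ih, stabL_cons]
    tauto

theorem IsBaseL.perm {H : Subgroup G} {l l' : List Ω} (h : l.Perm l') (hb : IsBaseL H l) :
    IsBaseL H l' := by
  intro g hg hl
  exact hb g hg (fun x hx => hl x (h.mem_iff.mp hx))

/-! ### the greedy filter -/

open Classical in
/-- drop the redundant members of a list. -/
noncomputable def filt : Subgroup G → List Ω → List Ω
  | _, [] => []
  | H, x :: l => if ∃ g ∈ H, g • x ≠ x then x :: filt (H ⊓ stabilizer G x) l else filt H l

theorem filt_length_le (H : Subgroup G) (l : List Ω) : (filt H l).length ≤ l.length := by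
  induction l generalizing H with
  | nil => simp [filt]
  | cons x l ih =>
    unfold filt
    split_ifs
    · simp only [List.length_cons]
      exact Nat.succ_le_succ (ih _)
    · simp only [List.length_cons]
      exact (ih _).trans (Nat.le_succ _)

theorem irrL_filt {H : Subgroup G} {l : List Ω} (hb : IsBaseL H l) : IrrL H (filt H l) := by
  induction l generalizing H with
  | nil =>
    unfold filt
    rw [irrL_nil]
    intro g hg
    exact hb g hg (by simp)
  | cons x l ih =>
    unfold filt
    split_ifs with hx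
    · rw [irrL_cons]
      exact ⟨hx, ih (isBaseL_cons.mp hb)⟩
    · apply ih
      intro g hg hl
      apply hb g hg
      intro y hy
      rcases List.mem_cons.mp hy with rfl | hy
      · by_contra hne
        exact hx ⟨g, hg, hne⟩
      · exact hl y hy

theorem irrL_of_filt_length {H : Subgroup G} {l : List Ω} (hb : IsBaseL H l)
    (hlen : (filt H l).length = l.length) : IrrL H l := by
  induction l generalizing H with
  | nil =>
    rw [irrL_nil]
    intro g hg
    exact hb g hg (by simp)
  | cons x l ih =>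
    unfold filt at hlen
    split_ifs at hlen with hx
    · rw [irrL_cons]
      refine ⟨hx, ih (isBaseL_cons.mp hb) ?_⟩
      simp at hlen
      exact hlen
    · exfalso
      have := filt_length_le H l
      simp only [List.length_cons] at hlen
      omega

/-! ### the exchange argument -/

/-- irredundant bases of `H` are closed under reordering. -/
def Reord (H : Subgroup G) : Prop :=
  ∀ l l' : List Ω, l.Perm l' → IrrL H l → IrrL H l'

theorem Reord.stab {H : Subgroup G} (hP : Reord (Ω := Ω) H) {y : Ω} (hy : ∃ g ∈ H, g • y ≠ y) :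
    Reord (Ω := Ω) (H ⊓ stabilizer G y) := by
  intro l l' hp hl
  have h1 : IrrL H (y :: l) := irrL_cons.mpr ⟨hy, hl⟩
  have h2 : IrrL H (y :: l') := hP _ _ (hp.cons y) h1
  exact (irrL_cons.mp h2).2

theorem length_eq_of_reord {H : Subgroup G} {l l' : List Ω} (hP : Reord (Ω := Ω) H)
    (hl : IrrL H l) (hl' : IrrL H l') : l.length = l'.length := by
  classical
  induction l generalizing H l' with
  | nil =>
    rw [irrL_nil] at hl
    cases l' with
    | nil => rfl
    | cons y l' =>
      exfalso
      obtain ⟨⟨g, hg, hgy⟩, _⟩ := irrL_cons.mp hl'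
      rw [hl g hg, one_smul] at hgy
      exact hgy rfl
  | cons x l₁ ih =>
    -- rotate `x` to the end
    have h1 : IrrL H (l₁ ++ [x]) := hP _ _ (by simpa using (List.perm_append_comm (l₁ := [x]) (l₂ := l₁))) hl
    have h1' := irrPre_append.mp h1.1
    obtain ⟨h, hh, hhx⟩ := h1'.2.1
    rw [mem_stabL] at hh
    -- `h` moves some member `y` of `l'`
    have hy : ∃ y ∈ l', h • y ≠ y := by
      by_contra hcon
      push Not at hcon
      have := hl'.2 h hh.1 hcon
      rw [this, one_smul] at hhx
      exact hhx rfl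
    obtain ⟨y, hyl', hhy⟩ := hy
    -- `l₁ ++ [y]` is an irredundant base
    have h2 : IrrL H (l₁ ++ [y]) := by
      refine ⟨irrPre_append.mpr ⟨h1'.1, ⟨h, mem_stabL.mpr hh, hhy⟩, trivial⟩, ?_⟩
      intro g hg hfix
      by_contra hg1
      have hgx : g • x ≠ x := by
        intro hgx
        apply hg1
        apply hl.2 g hg
        intro z hz
        rcases List.mem_cons.mp hz with rfl | hz
        · exact hgx
        · exact hfix z (List.mem_append_left _ hz)
      have hgy : g • y = y := hfix y (by simp)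
      have hgl : ∀ z ∈ l₁, g • z = z := fun z hz => hfix z (List.mem_append_left _ hz)
      have h3 : IrrL H (l₁ ++ [y, x]) := by
        refine ⟨irrPre_append.mpr ⟨h1'.1, ⟨h, mem_stabL.mpr hh, hhy⟩, ⟨g, ?_, hgx⟩, trivial⟩, ?_⟩
        · exact Subgroup.mem_inf.mpr ⟨mem_stabL.mpr ⟨hg, hgl⟩, mem_stabilizer_iff.mpr hgy⟩
        · intro k hk hkfix
          apply hl.2 k hk
          intro z hz
          rcases List.mem_cons.mp hz with rfl | hz
          · exact hkfix _ (by simp)
          · exact hkfix z (List.mem_append_left _ hz)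
      have h4 : IrrL H (l₁ ++ [x, y]) :=
        hP _ _ (List.Perm.append_left l₁ (List.Perm.swap x y [])) h3
      obtain ⟨-, -, ⟨k, hk, hky⟩, -⟩ := irrPre_append.mp h4.1
      rw [Subgroup.mem_inf, mem_stabL, mem_stabilizer_iff] at hk
      have : k = 1 := by
        apply hl.2 k hk.1.1
        intro z hz
        rcases List.mem_cons.mp hz with rfl | hz
        · exact hk.2
        · exact hk.1.2 z hz
      rw [this, one_smul] at hky
      exact hky rfl
    -- move `y` to the front in both lists
    have h5 : IrrL H (y :: l₁) :=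
      hP _ _ (by simp) h2
    have h6 : IrrL H (y :: l'.erase y) := hP _ _ (List.perm_cons_erase hyl') hl'
    have hymoved : ∃ g ∈ H, g • y ≠ y := ⟨h, hh.1, hhy⟩
    have h7 := ih (hP.stab hymoved) (irrL_cons.mp h5).2 (irrL_cons.mp h6).2
    have h8 : l'.length = (l'.erase y).length + 1 := by
      have := (List.perm_cons_erase hyl').length_eq
      simpa using this
    simp only [List.length_cons]
    omega

/-! ### `Fin`-indexed sequences -/

/-- irredundant base of `H` (sequence form). -/
def IrrF (H : Subgroup G) {t : ℕ} (f : Fin t → Ω) : Prop :=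
  (∀ g ∈ H, (∀ i : Fin t, g • f i = f i) → g = 1) ∧
    ∀ i : Fin t, ∃ g ∈ H, (∀ j : Fin t, j < i → g • f j = f j) ∧ g • f i ≠ f i

theorem irrF_zero {H : Subgroup G} (f : Fin 0 → Ω) : IrrF H f ↔ ∀ g ∈ H, g = 1 := by
  unfold IrrF
  constructor
  · rintro ⟨h, -⟩ g hg
    exact h g hg (fun i => i.elim0)
  · intro h
    exact ⟨fun g hg _ => h g hg, fun i => i.elim0⟩

theorem irrF_succ {H : Subgroup G} {t : ℕ} (f : Fin (t + 1) → Ω) :
    IrrF H f ↔ (∃ g ∈ H, g • f 0 ≠ f 0) ∧
      IrrF (H ⊓ stabilizer G (f 0)) (fun i : Fin t => f i.succ) := by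
  unfold IrrF
  constructor
  · rintro ⟨hb, hi⟩
    refine ⟨?_, ?_, ?_⟩
    · obtain ⟨g, hg, -, hg0⟩ := hi 0
      exact ⟨g, hg, hg0⟩
    · intro g hg hfix
      rw [Subgroup.mem_inf, mem_stabilizer_iff] at hg
      apply hb g hg.1
      intro i
      refine Fin.cases ?_ (fun j => ?_) i
      · exact hg.2
      · exact hfix j
    · intro i
      obtain ⟨g, hg, hlt, hne⟩ := hi i.succ
      refine ⟨g, Subgroup.mem_inf.mpr ⟨hg, mem_stabilizer_iff.mpr (hlt 0 (Fin.succ_pos i))⟩, ?_, hne⟩
      intro j hj
      exact hlt j.succ (Fin.succ_lt_succ_iff.mpr hj)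
  · rintro ⟨⟨g0, hg0, hg0x⟩, hb, hi⟩
    refine ⟨?_, ?_⟩
    · intro g hg hfix
      exact hb g (Subgroup.mem_inf.mpr ⟨hg, mem_stabilizer_iff.mpr (hfix 0)⟩) (fun i => hfix i.succ)
    · intro i
      refine Fin.cases ?_ (fun j => ?_) i
      · exact ⟨g0, hg0, fun j hj => absurd hj (Fin.not_lt_zero j), hg0x⟩
      · obtain ⟨g, hg, hlt, hne⟩ := hi j
        rw [Subgroup.mem_inf, mem_stabilizer_iff] at hg
        refine ⟨g, hg.1, ?_, hne⟩
        intro k
        refine Fin.cases ?_ (fun k' => ?_) k
        · intro _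
          exact hg.2
        · intro hk
          exact hlt k' (Fin.succ_lt_succ_iff.mp hk)

theorem irrF_iff_irrL {H : Subgroup G} {t : ℕ} (f : Fin t → Ω) :
    IrrF H f ↔ IrrL H (List.ofFn f) := by
  induction t generalizing H with
  | zero => rw [irrF_zero, List.ofFn_zero, irrL_nil]
  | succ t ih =>
    rw [irrF_succ, List.ofFn_succ, irrL_cons, ih]

theorem irrL_iff_irrF_get {H : Subgroup G} (l : List Ω) :
    IrrL H l ↔ IrrF H l.get := by
  rw [irrF_iff_irrL, List.ofFn_get]

/-- a permutation of lists is induced by a bijection of index sets. -/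
theorem exists_equiv_of_perm {α : Type*} {l l' : List α} (h : l.Perm l') :
    ∃ σ : Fin l'.length ≃ Fin l.length, ∀ i, l'.get i = l.get (σ i) := by
  induction h with
  | nil => exact ⟨Equiv.refl _, fun i => i.elim0⟩
  | @cons x l₁ l₂ _ ih =>
    obtain ⟨σ, hσ⟩ := ih
    refine ⟨(finSuccEquiv _).trans ((Equiv.optionCongr σ).trans (finSuccEquiv _).symm), ?_⟩
    intro i
    refine Fin.cases ?_ (fun j => ?_) i
    · simp
    · have := hσ j
      simp only [List.get_eq_getElem] at this
      simpa using this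
  | swap x y l =>
    refine ⟨Equiv.swap 0 1, ?_⟩
    intro i
    refine Fin.cases ?_ (fun j => ?_) i
    · simp
    · refine Fin.cases ?_ (fun k => ?_) j
      · simp
      · have h0 : (k.succ.succ : Fin (l.length + 1 + 1)) ≠ 0 := Fin.succ_ne_zero _
        have h1 : (k.succ.succ : Fin (l.length + 1 + 1)) ≠ 1 := by
          intro h
          have := congrArg Fin.val h
          simp at this
        simp [Equiv.swap_apply_of_ne_of_ne h0 h1]
  | trans _ _ ih1 ih2 =>
    obtain ⟨σ1, h1⟩ := ih1
    obtain ⟨σ2, h2⟩ := ih2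
    refine ⟨σ2.trans σ1, fun i => ?_⟩
    rw [h2, h1]
    rfl

/-- reordering property for sequences, allowing an arbitrary bijection of index sets. -/
theorem irrF_comp_equiv {H : Subgroup G}
    (hP : ∀ (t : ℕ) (f : Fin t → Ω) (σ : Equiv.Perm (Fin t)), IrrF H f → IrrF H (f ∘ σ))
    {n m : ℕ} (f : Fin n → Ω) (σ : Fin m ≃ Fin n) (hf : IrrF H f) : IrrF H (f ∘ σ) := by
  have hmn : m = n := Fin.equiv_iff_eq.mp ⟨σ⟩
  subst hmn
  exact hP _ f σ hf

theorem reord_of_fin {H : Subgroup G}
    (hP : ∀ (t : ℕ) (f : Fin t → Ω) (σ : Equiv.Perm (Fin t)), IrrF H f → IrrF H (f ∘ σ)) :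
    Reord (Ω := Ω) H := by
  intro l l' hp hl
  obtain ⟨σ, hσ⟩ := exists_equiv_of_perm hp
  rw [irrL_iff_irrF_get] at hl ⊢
  have := irrF_comp_equiv hP l.get σ hl
  have he : l'.get = l.get ∘ σ := funext hσ
  rw [he]
  exact this

/-- **Cameron–Fon-Der-Flaass**, relative to a subgroup. -/
theorem same_length_iff_reorder (H : Subgroup G) :
    (∀ (t t' : ℕ) (f : Fin t → Ω) (f' : Fin t' → Ω), IrrF H f → IrrF H f' → t = t') ↔
    (∀ (t : ℕ) (f : Fin t → Ω) (σ : Equiv.Perm (Fin t)), IrrF H f → IrrF H (f ∘ σ)) := by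
  constructor
  · intro hlen t f σ hf
    set l := List.ofFn (f ∘ σ) with hl
    have hb : IsBaseL H l := by
      intro g hg hfix
      apply hf.1 g hg
      intro i
      have : f i ∈ l := by
        rw [hl, List.mem_ofFn]
        exact ⟨σ.symm i, by simp⟩
      exact hfix _ this
    have h1 : IrrL H (filt H l) := irrL_filt hb
    have h2 : IrrF H (filt H l).get := (irrL_iff_irrF_get _).mp h1
    have h3 : t = (filt H l).length := hlen _ _ f _ hf h2
    have h4 : l.length = t := by rw [hl, List.length_ofFn]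
    have h5 : IrrL H l := irrL_of_filt_length hb (by omega)
    exact (irrF_iff_irrL _).mpr h5
  · intro hP t t' f f' hf hf'
    have hR := reord_of_fin hP
    have := length_eq_of_reord hR ((irrF_iff_irrL f).mp hf) ((irrF_iff_irrL f').mp hf')
    simpa using this

end Cfsg.Agent.Helper29.IrrBase
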