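import Mathlib
import Cfsg.Agent.Helper18.K2P.Defs
import Cfsg.Agent.Helper18.K2P.QB
import Cfsg.Agent.Helper18.K2P.RACT
import Cfsg.Agent.Helper18.K2P.STAB
import Cfsg.Agent.Helper18.K2P.OMEGA
import Cfsg.Agent.Helper18.K2P.PERM

set_option autoImplicit false
set_option linter.unusedSectionVars false
set_option linter.unusedVariables false

/-! # S5692, `k = 2` hyperbolic blocks (K2P), helper29: torus elements and double swaps

`tau q e f ν` is the rotation `e ↦ ν e`, `f ↦ ν⁻¹ f` of the hyperbolic plane, `sw q e f` the swap `e ↔ f`.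
`tor_exists`: `ρ_i(ν) ρ_l(ν⁻¹) ∈ M` for `M ≥ H`; `dswap_exists`: the double swap in blocks `i, l`. -/

namespace Cfsg.Agent.K2P.H29

open Matrix Cfsg.Agent.OC2P Cfsg.Agent.Helper28.Sg Cfsg.Agent.Helper28.Spin
  Cfsg.Agent.Helper12.OrthGen Cfsg.Agent.K2M Cfsg.Agent.K2P

variable {F : Type*} [Field F] {t : ℕ} {Q : QuadraticForm F (Fin t × Fin 2 → F)}
  {q : QuadraticForm F (Fin 2 → F)} {e f : Fin 2 → F}

theorem pee (bp : BP Q q e f) : QuadraticMap.polar ⇑q e e = 0 := by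
  rw [QuadraticMap.polar_self, bp.qe, smul_zero]

theorem pff (bp : BP Q q e f) : QuadraticMap.polar ⇑q f f = 0 := by
  rw [QuadraticMap.polar_self, bp.qf, smul_zero]

theorem pfe (bp : BP Q q e f) : QuadraticMap.polar ⇑q f e = 1 := by
  rw [QuadraticMap.polar_comm]; exact bp.ef

/-- polar of a combination with `e` -/
theorem p_comb_e (bp : BP Q q e f) (α β : F) :
    QuadraticMap.polar ⇑q (α • e + β • f) e = β := by
  rw [QuadraticMap.polar_add_left, QuadraticMap.polar_smul_left, QuadraticMap.polar_smul_left,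
    pee bp, pfe bp]
  simp

theorem p_comb_f (bp : BP Q q e f) (α β : F) :
    QuadraticMap.polar ⇑q (α • e + β • f) f = α := by
  rw [QuadraticMap.polar_add_left, QuadraticMap.polar_smul_left, QuadraticMap.polar_smul_left,
    pff bp, bp.ef]
  simp

theorem q_comb (bp : BP Q q e f) (α β : F) : q (α • e + β • f) = α * β := by
  rw [QuadraticMap.map_add (⇑q), QuadraticMap.map_smul, QuadraticMap.map_smul, bp.qe, bp.qf,
    QuadraticMap.polar_smul_left, QuadraticMap.polar_smul_right, bp.ef]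
  simp

/-- `e, f` is a basis of the plane -/
theorem plane_decomp (bp : BP Q q e f) (y : Fin 2 → F) :
    y = QuadraticMap.polar ⇑q y f • e + QuadraticMap.polar ⇑q y e • f := by
  have hli : LinearIndependent F ![e, f] := by
    rw [LinearIndependent.pair_iff]
    intro a b hab
    have h1 := p_comb_f bp a b
    have h2 := p_comb_e bp a b
    rw [hab, QuadraticMap.polar_zero_left] at h1 h2
    exact ⟨h1.symm, h2.symm⟩
  have hspan : Submodule.span F (Set.range ![e, f]) = ⊤ :=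
    hli.span_eq_top_of_card_eq_finrank' (by simp)
  have hy : y ∈ Submodule.span F (Set.range ![e, f]) := by rw [hspan]; trivial
  have hr : Set.range ![e, f] = {e, f} := by
    ext z; simp [eq_comm, or_comm]
  rw [hr] at hy
  obtain ⟨a, b, rfl⟩ := Submodule.mem_span_pair.mp hy
  rw [p_comb_e bp, p_comb_f bp]

/-- the rotation `e ↦ ν e`, `f ↦ ν⁻¹ f` -/
noncomputable def tau (q : QuadraticForm F (Fin 2 → F)) (e f : Fin 2 → F) (ν : F) (y : Fin 2 → F) :
    Fin 2 → F :=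
  (ν * QuadraticMap.polar ⇑q y f) • e + (ν⁻¹ * QuadraticMap.polar ⇑q y e) • f

/-- the swap `e ↔ f` -/
noncomputable def sw (q : QuadraticForm F (Fin 2 → F)) (e f : Fin 2 → F) (y : Fin 2 → F) :
    Fin 2 → F :=
  QuadraticMap.polar ⇑q y e • e + QuadraticMap.polar ⇑q y f • f

theorem tau_comb (bp : BP Q q e f) (ν α β : F) :
    tau q e f ν (α • e + β • f) = (ν * α) • e + (ν⁻¹ * β) • f := by
  unfold tau; rw [p_comb_e bp, p_comb_f bp]

theorem sw_comb (bp : BP Q q e f) (α β : F) :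
    sw q e f (α • e + β • f) = β • e + α • f := by
  unfold sw; rw [p_comb_e bp, p_comb_f bp]

theorem tau_zero (ν : F) : tau q e f ν 0 = 0 := by
  unfold tau; simp

theorem sw_zero : sw q e f 0 = 0 := by
  unfold sw; simp

theorem tau_e (bp : BP Q q e f) (ν : F) : tau q e f ν e = ν • e := by
  unfold tau; rw [pee bp, bp.ef]; simp

theorem tau_f (bp : BP Q q e f) (ν : F) : tau q e f ν f = ν⁻¹ • f := by
  unfold tau; rw [pff bp, pfe bp]; simp

theorem sw_e (bp : BP Q q e f) : sw q e f e = f := by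
  unfold sw; rw [pee bp, bp.ef]; simp

theorem sw_f (bp : BP Q q e f) : sw q e f f = e := by
  unfold sw; rw [pff bp, pfe bp]; simp

theorem tau_add (ν : F) (y y' : Fin 2 → F) :
    tau q e f ν (y + y') = tau q e f ν y + tau q e f ν y' := by
  unfold tau
  rw [QuadraticMap.polar_add_left, QuadraticMap.polar_add_left]
  module

theorem tau_sub (ν : F) (y y' : Fin 2 → F) :
    tau q e f ν (y - y') = tau q e f ν y - tau q e f ν y' := by
  unfold tau
  rw [QuadraticMap.polar_sub_left, QuadraticMap.polar_sub_left]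
  module

theorem tau_smul (ν c : F) (y : Fin 2 → F) :
    tau q e f ν (c • y) = c • tau q e f ν y := by
  unfold tau
  rw [QuadraticMap.polar_smul_left, QuadraticMap.polar_smul_left]
  simp only [smul_eq_mul]
  module

theorem sw_smul (c : F) (y : Fin 2 → F) : sw q e f (c • y) = c • sw q e f y := by
  unfold sw
  rw [QuadraticMap.polar_smul_left, QuadraticMap.polar_smul_left]
  simp only [smul_eq_mul]
  module

theorem q_e_sub (bp : BP Q q e f) (ν : F) : q (e - ν • f) = -ν := by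
  have h : e - ν • f = (1 : F) • e + (-ν) • f := by module
  rw [h, q_comb bp]; ring

/-- the reflection in `e - ν f` -/
theorem r2_comb (bp : BP Q q e f) {ν : F} (hν : ν ≠ 0) (α β : F) :
    r2 q (e - ν • f) (α • e + β • f) = (ν⁻¹ * β) • e + (ν * α) • f := by
  unfold r2
  rw [q_e_sub bp, QuadraticMap.polar_comm, QuadraticMap.polar_sub_right,
    QuadraticMap.polar_smul_right, p_comb_e bp, p_comb_f bp]
  have h1 : ((-ν)⁻¹ * (β - ν • α)) = α - ν⁻¹ * β := by
    rw [smul_eq_mul]; field_simp; ring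
  rw [h1]
  have h2 : (α - ν⁻¹ * β) * ν = ν * α - β := by field_simp
  have : (α - ν⁻¹ * β) • (e - ν • f) = (α - ν⁻¹ * β) • e - (ν * α - β) • f := by
    rw [smul_sub, smul_smul, h2]
  rw [this]
  module

/-- two reflections give the rotation -/
theorem r2_r2 (bp : BP Q q e f) {ν : F} (hν : ν ≠ 0) (y : Fin 2 → F) :
    r2 q (e - ν⁻¹ • f) (r2 q (e - (1 : F) • f) y) = tau q e f ν y := by
  conv_lhs => rw [plane_decomp bp y]
  rw [r2_comb bp one_ne_zero, r2_comb bp (inv_ne_zero hν)]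
  unfold tau
  simp

theorem r2_sw (bp : BP Q q e f) (y : Fin 2 → F) :
    r2 q (e - (1 : F) • f) y = sw q e f y := by
  conv_lhs => rw [plane_decomp bp y]
  rw [r2_comb bp one_ne_zero]
  unfold sw
  simp

section grp

variable [Fintype F]

/-- the norm of the block vector `binj i (e - ν f)` -/
theorem Q_binj_e_sub (bp : BP Q q e f) (i : Fin t) {ν : F} (hν : ν ≠ 0) :
    Q (binj i (e - ν • f)) ≠ 0 := by
  rw [QB.Q_binj bp.toBM0, q_e_sub bp]
  exact neg_ne_zero.mpr hν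

/-- the torus element `ρ_i(ν) ρ_l(ν⁻¹)` of `H` -/
theorem tor_exists (bp : BP Q q e f) (ht : 3 ≤ t) {M : Subgroup (OG Q)} (hM : HasMO M)
    {i l : Fin t} (hil : i ≠ l) {ν : F} (hν : ν ≠ 0) :
    ∃ g ∈ M, StabD Q g ∧ ∀ x : Fin t × Fin 2 → F,
      bproj i (mt Q g *ᵥ x) = tau q e f ν (bproj i x) ∧
      bproj l (mt Q g *ᵥ x) = tau q e f ν⁻¹ (bproj l x) ∧
      ∀ m, m ≠ i → m ≠ l → bproj m (mt Q g *ᵥ x) = bproj m x := by
  have hν' : ν⁻¹ ≠ 0 := inv_ne_zero hν
  have h1 := Q_binj_e_sub bp i hν'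
  have h2 := Q_binj_e_sub bp l hν
  have h3 := Q_binj_e_sub bp i (one_ne_zero (α := F))
  have h4 := Q_binj_e_sub bp l (one_ne_zero (α := F))
  have m1 : reflO Q (binj i (e - ν⁻¹ • f)) h1 * reflO Q (binj l (e - ν • f)) h2 ∈ M := by
    apply OMEGA.pair_mem bp.toBM0 ht hM
    rw [q_e_sub bp, q_e_sub bp]
    exact ⟨1, by field_simp⟩
  have m2 : reflO Q (binj i (e - (1 : F) • f)) h3 * reflO Q (binj l (e - (1 : F) • f)) h4 ∈ M := by
    apply OMEGA.pair_mem bp.toBM0 ht hM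
    exact ⟨q (e - (1 : F) • f), rfl⟩
  have s1 := STAB.mul (STAB.reflO bp.toBM0 i _ h1) (STAB.reflO bp.toBM0 l _ h2)
  have s2 := STAB.mul (STAB.reflO bp.toBM0 i _ h3) (STAB.reflO bp.toBM0 l _ h4)
  refine ⟨_, M.mul_mem m1 m2, STAB.mul s1 s2, fun x => ⟨?_, ?_, ?_⟩⟩
  · rw [mt_mul_mulVec, mt_mul_mulVec, mt_mul_mulVec, RACT.bproj_same bp.toBM0,
      RACT.bproj_ne bp.toBM0 hil, RACT.bproj_same bp.toBM0, RACT.bproj_ne bp.toBM0 hil,
      r2_r2 bp hν]
  · rw [mt_mul_mulVec, mt_mul_mulVec, mt_mul_mulVec, RACT.bproj_ne bp.toBM0 hil.symm,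
      RACT.bproj_same bp.toBM0, RACT.bproj_ne bp.toBM0 hil.symm, RACT.bproj_same bp.toBM0]
    have := r2_r2 bp hν' (bproj l x)
    rw [inv_inv] at this
    exact this
  · intro m hmi hml
    rw [mt_mul_mulVec, mt_mul_mulVec, mt_mul_mulVec, RACT.bproj_ne bp.toBM0 hmi,
      RACT.bproj_ne bp.toBM0 hml, RACT.bproj_ne bp.toBM0 hmi, RACT.bproj_ne bp.toBM0 hml]

/-- the double swap in the blocks `i, l` -/
theorem dswap_exists (bp : BP Q q e f) (ht : 3 ≤ t) {M : Subgroup (OG Q)} (hM : HasMO M)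
    {i l : Fin t} (hil : i ≠ l) :
    ∃ g ∈ M, StabD Q g ∧ ∀ x : Fin t × Fin 2 → F,
      bproj i (mt Q g *ᵥ x) = sw q e f (bproj i x) ∧
      bproj l (mt Q g *ᵥ x) = sw q e f (bproj l x) ∧
      ∀ m, m ≠ i → m ≠ l → bproj m (mt Q g *ᵥ x) = bproj m x := by
  have h3 := Q_binj_e_sub bp i (one_ne_zero (α := F))
  have h4 := Q_binj_e_sub bp l (one_ne_zero (α := F))
  have m2 : reflO Q (binj i (e - (1 : F) • f)) h3 * reflO Q (binj l (e - (1 : F) • f)) h4 ∈ M := by
    apply OMEGA.pair_mem bp.toBM0 ht hM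
    exact ⟨q (e - (1 : F) • f), rfl⟩
  have s2 := STAB.mul (STAB.reflO bp.toBM0 i _ h3) (STAB.reflO bp.toBM0 l _ h4)
  refine ⟨_, m2, s2, fun x => ⟨?_, ?_, ?_⟩⟩
  · rw [mt_mul_mulVec, RACT.bproj_same bp.toBM0, RACT.bproj_ne bp.toBM0 hil, r2_sw bp]
  · rw [mt_mul_mulVec, RACT.bproj_ne bp.toBM0 hil.symm, RACT.bproj_same bp.toBM0, r2_sw bp]
  · intro m hmi hml
    rw [mt_mul_mulVec, RACT.bproj_ne bp.toBM0 hmi, RACT.bproj_ne bp.toBM0 hml]

end grp

end Cfsg.Agent.K2P.H29
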