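import Mathlib
import Cfsg.Agent.Helper29.K2PTorus
import Cfsg.Agent.Helper7.K2MSMOVE
import Cfsg.Agent.Helper23.K2MSSUPP

set_option autoImplicit false
set_option linter.unusedSectionVars false
set_option linter.unusedVariables false

/-! # S5692, K2P, chapter B (helper29, whole-chapter hedge), part 0: diagonal torus elements `TorBy`, closure of `InA` -/

namespace Cfsg.Agent.K2P.H29

open Matrix Cfsg.Agent.OC2P Cfsg.Agent.Helper28.Sg Cfsg.Agent.Helper28.Spin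
  Cfsg.Agent.Helper12.OrthGen Cfsg.Agent.K2M Cfsg.Agent.K2P

variable {F : Type*} [Field F] {t : ℕ} {Q : QuadraticForm F (Fin t × Fin 2 → F)}
  {q : QuadraticForm F (Fin 2 → F)} {e f : Fin 2 → F}

theorem tau_pf (bp : BP Q q e f) (ν : F) (y : Fin 2 → F) :
    QuadraticMap.polar ⇑q (tau q e f ν y) f = ν * QuadraticMap.polar ⇑q y f := by
  unfold tau; rw [p_comb_f bp]

theorem tau_pe (bp : BP Q q e f) (ν : F) (y : Fin 2 → F) :
    QuadraticMap.polar ⇑q (tau q e f ν y) e = ν⁻¹ * QuadraticMap.polar ⇑q y e := by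
  unfold tau; rw [p_comb_e bp]

theorem tau_tau (bp : BP Q q e f) (a b : F) (y : Fin 2 → F) :
    tau q e f a (tau q e f b y) = tau q e f (a * b) y := by
  have h1 : tau q e f a (tau q e f b y) = (a * QuadraticMap.polar ⇑q (tau q e f b y) f) • e
      + (a⁻¹ * QuadraticMap.polar ⇑q (tau q e f b y) e) • f := rfl
  rw [h1, tau_pf bp, tau_pe bp]
  unfold tau
  rw [mul_inv, mul_assoc, mul_assoc]

theorem tau_one (bp : BP Q q e f) (y : Fin 2 → F) : tau q e f 1 y = y := by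
  unfold tau
  rw [inv_one, one_mul, one_mul]
  exact (plane_decomp bp y).symm

theorem q_eq (bp : BP Q q e f) (y : Fin 2 → F) :
    q y = QuadraticMap.polar ⇑q y f * QuadraticMap.polar ⇑q y e := by
  conv_lhs => rw [plane_decomp bp y]
  rw [q_comb bp]

theorem q_tau (bp : BP Q q e f) {ν : F} (hν : ν ≠ 0) (y : Fin 2 → F) : q (tau q e f ν y) = q y := by
  rw [q_eq bp (tau q e f ν y), tau_pf bp, tau_pe bp, q_eq bp y]
  field_simp

/-- `y - tau ν y` in coordinates -/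
theorem sub_tau (bp : BP Q q e f) (ν : F) (y : Fin 2 → F) :
    y - tau q e f ν y = ((1 - ν) * QuadraticMap.polar ⇑q y f) • e
      + ((1 - ν⁻¹) * QuadraticMap.polar ⇑q y e) • f := by
  conv_lhs => rw [plane_decomp bp y]
  rw [tau_comb bp]
  module

theorem q_sub_tau (bp : BP Q q e f) (ν : F) (y : Fin 2 → F) :
    q (y - tau q e f ν y) = (1 - ν) * (1 - ν⁻¹) * q y := by
  rw [sub_tau bp, q_comb bp, q_eq bp y]
  ring

theorem sub_tau_ne (bp : BP Q q e f) {ν : F} (hν : ν ≠ 0) (hν1 : ν ≠ 1) {y : Fin 2 → F}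
    (hy : y ≠ 0) : y - tau q e f ν y ≠ 0 := by
  intro h0
  have h1 : QuadraticMap.polar ⇑q (y - tau q e f ν y) f = 0 := by
    rw [h0, QuadraticMap.polar_zero_left]
  have h2 : QuadraticMap.polar ⇑q (y - tau q e f ν y) e = 0 := by
    rw [h0, QuadraticMap.polar_zero_left]
  rw [QuadraticMap.polar_sub_left, tau_pf bp] at h1
  rw [QuadraticMap.polar_sub_left, tau_pe bp] at h2
  have hn1 : 1 - ν ≠ 0 := sub_ne_zero.mpr (Ne.symm hν1)
  have hn2 : 1 - ν⁻¹ ≠ 0 := by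
    intro h
    apply hν1
    have : ν⁻¹ = 1 := (sub_eq_zero.mp h).symm
    rw [← inv_inv ν, this, inv_one]
  have ha : QuadraticMap.polar ⇑q y f = 0 := by
    have : (1 - ν) * QuadraticMap.polar ⇑q y f = 0 := by linear_combination h1
    exact (mul_eq_zero.mp this).resolve_left hn1
  have hb : QuadraticMap.polar ⇑q y e = 0 := by
    have : (1 - ν⁻¹) * QuadraticMap.polar ⇑q y e = 0 := by linear_combination h2
    exact (mul_eq_zero.mp this).resolve_left hn2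
  apply hy
  rw [plane_decomp bp y, ha, hb]
  simp

/-- `g` acts on block `m` as the rotation `tau (c m)` -/
def TorBy (q : QuadraticForm F (Fin 2 → F)) (e f : Fin 2 → F) (g : OG Q) (c : Fin t → F) : Prop :=
  ∀ (x : Fin t × Fin 2 → F) (m : Fin t), bproj m (mt Q g *ᵥ x) = tau q e f (c m) (bproj m x)

theorem TorBy.mul (bp : BP Q q e f) {g g' : OG Q} {c c' : Fin t → F} (h : TorBy q e f g c)
    (h' : TorBy q e f g' c') : TorBy q e f (g * g') (fun m => c m * c' m) := by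
  intro x m
  rw [mt_mul_mulVec, h, h', tau_tau bp]

theorem TorBy.binj {g : OG Q} {c : Fin t → F} (h : TorBy q e f g c) (m : Fin t) (y : Fin 2 → F) :
    mt Q g *ᵥ binj m y = binj m (tau q e f (c m) y) := by
  apply QB.ext
  intro m'
  rw [h]
  by_cases hm : m' = m
  · subst hm; rw [bproj_binj, bproj_binj]
  · rw [bproj_binj_ne hm, bproj_binj_ne hm, tau_zero]

theorem TorBy.isBlk {g : OG Q} {c : Fin t → F} (h : TorBy q e f g c) {b : Fin t × Fin 2 → F}
    (hb : IsBlk b) : IsBlk (mt Q g *ᵥ b) := by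
  obtain ⟨i, hi⟩ := hb
  rw [QB.mem_Dblk_iff'.mp hi, h.binj]
  exact ⟨i, binj_mem i _⟩

theorem TorBy.bproj_sub {g : OG Q} {c : Fin t → F} (h : TorBy q e f g c)
    (a : Fin t × Fin 2 → F) (m : Fin t) :
    bproj m (a - mt Q g *ᵥ a) = bproj m a - tau q e f (c m) (bproj m a) := by
  rw [QB.bproj_sub, h]

/-- the norm of `a - g a` -/
theorem TorBy.Q_sub (bp : BP Q q e f) {g : OG Q} {c : Fin t → F} (h : TorBy q e f g c)
    (a : Fin t × Fin 2 → F) :
    Q (a - mt Q g *ᵥ a) = ∑ m : Fin t, (1 - c m) * (1 - (c m)⁻¹) * q (bproj m a) := by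
  rw [bp.sum]
  apply Finset.sum_congr rfl
  intro m _
  rw [h.bproj_sub, q_sub_tau bp]

section grp

variable [Fintype F] {M : Subgroup (OG Q)}

/-- generator: `ρ_i(ν) ρ_l(ν⁻¹)` -/
theorem torBy_pair (bp : BP Q q e f) (ht : 3 ≤ t) (hM : HasMO M) {i l : Fin t} (hil : i ≠ l) {ν : F}
    (hν : ν ≠ 0) :
    ∃ g ∈ M, TorBy q e f g (fun m => if m = i then ν else if m = l then ν⁻¹ else 1) := by
  obtain ⟨g, hgM, -, hg⟩ := tor_exists bp ht hM hil hν
  refine ⟨g, hgM, fun x m => ?_⟩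
  obtain ⟨h1, h2, h3⟩ := hg x
  by_cases e1 : m = i
  · subst e1; simp only [if_true]; exact h1
  · by_cases e2 : m = l
    · subst e2; simp only [e1, if_false, if_true]; exact h2
    · simp only [e1, e2, if_false]; rw [tau_one bp]; exact h3 m e1 e2

/-- generator: `ρ_i(μ²)` -/
theorem torBy_sq (bp : BP Q q e f) (ht : 3 ≤ t) (hM : HasMO M) (i : Fin t) {μ : F} (hμ : μ ≠ 0) :
    ∃ g ∈ M, TorBy q e f g (fun m => if m = i then μ * μ else 1) := by
  have hμ2 : μ * μ ≠ 0 := mul_ne_zero hμ hμ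
  have h1 := Q_binj_e_sub bp i (inv_ne_zero hμ2)
  have h3 := Q_binj_e_sub bp i (one_ne_zero (α := F))
  have m1 : reflO Q (binj i (e - (μ * μ)⁻¹ • f)) h1 * reflO Q (binj i (e - (1 : F) • f)) h3 ∈ M := by
    apply OMEGA.rot_mem bp.toBM0 ht hM
    rw [q_e_sub bp, q_e_sub bp]
    exact ⟨μ⁻¹, by field_simp⟩
  refine ⟨_, m1, fun x m => ?_⟩
  by_cases e1 : m = i
  · subst e1
    simp only [if_true]
    rw [mt_mul_mulVec, RACT.bproj_same bp.toBM0, RACT.bproj_same bp.toBM0, r2_r2 bp hμ2]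
  · simp only [e1, if_false]
    rw [mt_mul_mulVec, RACT.bproj_ne bp.toBM0 e1, RACT.bproj_ne bp.toBM0 e1, tau_one bp]

/-- `InA` is invariant under elements of `M` mapping block vectors to block vectors -/
theorem InA_conj {a : Fin t × Fin 2 → F} (ha : InA M a) {g : OG Q} (hg : g ∈ M)
    (hblk : ∀ b, IsBlk b → IsBlk (mt Q g *ᵥ b)) : InA M (mt Q g *ᵥ a) := by
  obtain ⟨b, ha', hb, hbb, hQab, hmem⟩ := ha
  have hQa : Q (mt Q g *ᵥ a) = Q a := Q_isom g a
  have hQb : Q (mt Q g *ᵥ b) = Q b := Q_isom g b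
  have ha2 : Q (mt Q g *ᵥ a) ≠ 0 := by rw [hQa]; exact ha'
  have hb2 : Q (mt Q g *ᵥ b) ≠ 0 := by rw [hQb]; exact hb
  refine ⟨mt Q g *ᵥ b, ha2, hb2, hblk b hbb, by rw [hQa, hQb, hQab], ?_⟩
  have e1 : reflO Q (mt Q g *ᵥ a) ha2 = g * reflO Q a ha' * g⁻¹ := reflO_conj Q g a ha' ha2
  have e2 : reflO Q (mt Q g *ᵥ b) hb2 = g * reflO Q b hb * g⁻¹ := reflO_conj Q g b hb hb2
  rw [e1, e2]
  have e3 : g * reflO Q a ha' * g⁻¹ * (g * reflO Q b hb * g⁻¹)
      = g * (reflO Q a ha' * reflO Q b hb) * g⁻¹ := by group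
  rw [e3]
  exact M.mul_mem (M.mul_mem hg hmem) (M.inv_mem hg)

/-- two `InA` vectors of the same norm: the product of their reflections is in `M` -/
theorem InA_pair (bp : BP Q q e f) (ht : 3 ≤ t) (hM : HasMO M) {x z : Fin t × Fin 2 → F}
    (hx : InA M x) (hz : InA M z) (hQ : Q x = Q z) (hx0 : Q x ≠ 0) (hz0 : Q z ≠ 0) :
    reflO Q x hx0 * reflO Q z hz0 ∈ M := by
  obtain ⟨b, _, hb, ⟨i, hbi⟩, hQxb, hmem⟩ := hx
  obtain ⟨b', _, hb', ⟨j, hbj⟩, hQzb, hmem'⟩ := hz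
  have eb : b = binj i (bproj i b) := QB.mem_Dblk_iff'.mp hbi
  have eb' : b' = binj j (bproj j b') := QB.mem_Dblk_iff'.mp hbj
  have hb2 : Q (binj i (bproj i b)) ≠ 0 := by rw [← eb]; exact hb
  have hb2' : Q (binj j (bproj j b')) ≠ 0 := by rw [← eb']; exact hb'
  have hqq : q (bproj i b) = q (bproj j b') := by
    rw [← QB.Q_binj bp.toBM0 i, ← QB.Q_binj bp.toBM0 j, ← eb, ← eb', ← hQxb, ← hQzb, hQ]
  have hmid : reflO Q b hb * reflO Q b' hb' ∈ M := by
    rw [reflO_congr' eb hb hb2, reflO_congr' eb' hb' hb2']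
    apply OMEGA.pair_mem bp.toBM0 ht hM
    rw [hqq]
    exact ⟨_, rfl⟩
  have h3 : reflO Q x hx0 * reflO Q z hz0 =
      (reflO Q x hx0 * reflO Q b hb) * (reflO Q b hb * reflO Q b' hb')
        * (reflO Q z hz0 * reflO Q b' hb')⁻¹ := by
    rw [_root_.mul_inv_rev, reflO_inv, reflO_inv]
    have e1 := reflO_mul_self Q b hb
    have e2 := reflO_mul_self Q b' hb'
    calc reflO Q x hx0 * reflO Q z hz0
        = reflO Q x hx0 * 1 * 1 * reflO Q z hz0 := by rw [mul_one, mul_one]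
      _ = reflO Q x hx0 * (reflO Q b hb * reflO Q b hb) * (reflO Q b' hb' * reflO Q b' hb')
            * reflO Q z hz0 := by rw [e1, e2]
      _ = _ := by group
  rw [h3]
  exact M.mul_mem (M.mul_mem hmem hmid) (M.inv_mem hmem')

/-- `InA` is closed under reflecting one member in another of the same norm -/
theorem InA_refl (bp : BP Q q e f) (ht : 3 ≤ t) (hM : HasMO M) {x z : Fin t × Fin 2 → F}
    (hx : InA M x) (hz : InA M z) (hQ : Q x = Q z) (hx0 : Q x ≠ 0) :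
    InA M (mt Q (reflO Q x hx0) *ᵥ z) := by
  have hz0 : Q z ≠ 0 := by rw [← hQ]; exact hx0
  have hpair := InA_pair bp ht hM hx hz hQ hx0 hz0
  obtain ⟨b, _, hb, hbb, hQxb, hmem⟩ := hx
  have hQr : Q (mt Q (reflO Q x hx0) *ᵥ z) = Q z := Q_isom _ z
  have hr0 : Q (mt Q (reflO Q x hx0) *ᵥ z) ≠ 0 := by rw [hQr]; exact hz0
  refine ⟨b, hr0, hb, hbb, by rw [hQr, ← hQ, hQxb], ?_⟩
  rw [reflO_conj Q (reflO Q x hx0) z hz0 hr0, reflO_inv]
  have : reflO Q x hx0 * reflO Q z hz0 * reflO Q x hx0 * reflO Q b hb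
      = (reflO Q x hx0 * reflO Q z hz0) * (reflO Q x hx0 * reflO Q b hb) := by group
  rw [this]
  exact M.mul_mem hpair hmem

/-- **the exit**: `a` and `g a` both in `InA`, `a - g a` singular: a Siegel element with centre `a - g a` -/
theorem sieg_of (bp : BP Q q e f) (ht : 3 ≤ t) (hM : HasMO M) {a : Fin t × Fin 2 → F}
    (ha : InA M a) {g : OG Q} (hg : g ∈ M) (hblk : ∀ b, IsBlk b → IsBlk (mt Q g *ᵥ b))
    (hz : Q (a - mt Q g *ᵥ a) = 0) :
    ∃ c : F, c ≠ 0 ∧ c • a ∈ Rad M (a - mt Q g *ᵥ a) hz := by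
  have ha0 : Q a ≠ 0 := by obtain ⟨b, ha', _⟩ := ha; exact ha'
  have hQ : Q (mt Q g *ᵥ a) = Q a := Q_isom g a
  have hga0 : Q (mt Q g *ᵥ a) ≠ 0 := by rw [hQ]; exact ha0
  have hpair := InA_pair bp ht hM ha (InA_conj ha hg hblk) hQ.symm ha0 hga0
  exact ⟨-(Q a)⁻¹, neg_ne_zero.mpr (inv_ne_zero ha0), STOSIEG.main ha0 hga0 hQ hz hpair⟩

end grp

end Cfsg.Agent.K2P.H29
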