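import Mathlib
import Cfsg.Agent.Helper29.K2PTorus

set_option autoImplicit false
set_option linter.unusedSectionVars false
set_option linter.unusedVariables false

/-! # S5692, `k = 2` hyperbolic blocks (K2P), chapter D (helper29): SPREAD for a frame centre

`SiegF Q q e f M` (a Siegel element `E(e_p, w) ∈ M`, `0 ≠ w ∈ D_p^⊥`) implies `S Q ≤ M`.
Isolation of one block component by two torus commutators; the set `A_j = {y | binj j y ∈ Rad M (binj p u)}` is an
`F`-subspace invariant under the torus of block `j`; it contains `F e` or `F f`; double swaps and block permutations give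
all root groups; helper12's `S_le_of_rad`. -/

namespace Cfsg.Agent.K2P.H29

open Matrix Cfsg.Agent.OC2P Cfsg.Agent.Helper28.Sg Cfsg.Agent.Helper28.Spin
  Cfsg.Agent.Helper12.OrthGen Cfsg.Agent.K2M Cfsg.Agent.K2P

variable {F : Type*} [Field F] {t : ℕ} {Q : QuadraticForm F (Fin t × Fin 2 → F)}
  {q : QuadraticForm F (Fin 2 → F)} {e f : Fin 2 → F}

/-- `g` acts as `φ` on block `i`, as `ψ` on block `l`, trivially on the others -/
def Diag (g : OG Q) (i l : Fin t) (φ ψ : (Fin 2 → F) → (Fin 2 → F)) : Prop :=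
  ∀ x : Fin t × Fin 2 → F,
    bproj i (mt Q g *ᵥ x) = φ (bproj i x) ∧ bproj l (mt Q g *ᵥ x) = ψ (bproj l x) ∧
      ∀ m, m ≠ i → m ≠ l → bproj m (mt Q g *ᵥ x) = bproj m x

theorem Diag.other {g : OG Q} {i l : Fin t} {φ ψ : (Fin 2 → F) → (Fin 2 → F)} (hg : Diag g i l φ ψ)
    (hφ : φ 0 = 0) (hψ : ψ 0 = 0) {m : Fin t} (hmi : m ≠ i) (hml : m ≠ l) (y : Fin 2 → F) :
    mt Q g *ᵥ binj m y = binj m y := by
  apply QB.ext
  intro m'
  obtain ⟨h1, h2, h3⟩ := hg (binj m y)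
  by_cases e1 : m' = i
  · subst e1
    rw [h1, bproj_binj_ne (Ne.symm hmi), hφ]
  · by_cases e2 : m' = l
    · subst e2
      rw [h2, bproj_binj_ne (Ne.symm hml), hψ]
    · exact h3 m' e1 e2

theorem Diag.fst {g : OG Q} {i l : Fin t} {φ ψ : (Fin 2 → F) → (Fin 2 → F)} (hg : Diag g i l φ ψ)
    (hil : i ≠ l) (hψ : ψ 0 = 0) (y : Fin 2 → F) :
    mt Q g *ᵥ binj i y = binj i (φ y) := by
  apply QB.ext
  intro m'
  obtain ⟨h1, h2, h3⟩ := hg (binj i y)
  by_cases e1 : m' = i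
  · subst e1
    rw [h1, bproj_binj, bproj_binj]
  · by_cases e2 : m' = l
    · subst e2
      rw [h2, bproj_binj_ne e1, bproj_binj_ne e1, hψ]
    · rw [h3 m' e1 e2, bproj_binj_ne e1, bproj_binj_ne e1]

theorem Diag.snd {g : OG Q} {i l : Fin t} {φ ψ : (Fin 2 → F) → (Fin 2 → F)} (hg : Diag g i l φ ψ)
    (hil : i ≠ l) (hφ : φ 0 = 0) (y : Fin 2 → F) :
    mt Q g *ᵥ binj l y = binj l (ψ y) := by
  apply QB.ext
  intro m'
  obtain ⟨h1, h2, h3⟩ := hg (binj l y)
  by_cases e2 : m' = l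
  · subst e2
    rw [h2, bproj_binj, bproj_binj]
  · by_cases e1 : m' = i
    · subst e1
      rw [h1, bproj_binj_ne e2, bproj_binj_ne e2, hφ]
    · rw [h3 m' e1 e2, bproj_binj_ne e2, bproj_binj_ne e2]

/-- the difference operator of the torus -/
noncomputable def dl (q : QuadraticForm F (Fin 2 → F)) (e f : Fin 2 → F) (ν : F) (y : Fin 2 → F) :
    Fin 2 → F := tau q e f ν y - y

theorem dl_zero (ν : F) : dl q e f ν 0 = 0 := by
  unfold dl; rw [tau_zero, sub_zero]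

theorem dl_comb (bp : BP Q q e f) (ν α β : F) :
    dl q e f ν (α • e + β • f) = ((ν - 1) * α) • e + ((ν⁻¹ - 1) * β) • f := by
  unfold dl; rw [tau_comb bp]; module

theorem dl_dl_ne (bp : BP Q q e f) {ν : F} (hν : ν ≠ 0) (hν1 : ν ≠ 1) {y : Fin 2 → F} (hy : y ≠ 0) :
    dl q e f ν (dl q e f ν y) ≠ 0 := by
  intro h0
  rw [plane_decomp bp y, dl_comb bp, dl_comb bp] at h0
  have h1 := p_comb_f bp ((ν - 1) * ((ν - 1) * QuadraticMap.polar ⇑q y f))
    ((ν⁻¹ - 1) * ((ν⁻¹ - 1) * QuadraticMap.polar ⇑q y e))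
  have h2 := p_comb_e bp ((ν - 1) * ((ν - 1) * QuadraticMap.polar ⇑q y f))
    ((ν⁻¹ - 1) * ((ν⁻¹ - 1) * QuadraticMap.polar ⇑q y e))
  rw [h0, QuadraticMap.polar_zero_left] at h1 h2
  have hn1 : ν - 1 ≠ 0 := sub_ne_zero.mpr hν1
  have hn2 : ν⁻¹ - 1 ≠ 0 := by
    intro h
    apply hν1
    have : ν⁻¹ = 1 := sub_eq_zero.mp h
    rw [← inv_inv ν, this, inv_one]
  have ha : QuadraticMap.polar ⇑q y f = 0 := by
    rcases mul_eq_zero.mp h1.symm with h | h
    · exact absurd h hn1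
    · rcases mul_eq_zero.mp h with h | h
      · exact absurd h hn1
      · exact h
  have hb : QuadraticMap.polar ⇑q y e = 0 := by
    rcases mul_eq_zero.mp h2.symm with h | h
    · exact absurd h hn2
    · rcases mul_eq_zero.mp h with h | h
      · exact absurd h hn2
      · exact h
  apply hy
  rw [plane_decomp bp y, ha, hb]
  simp

section grp

variable [Fintype F] {M : Subgroup (OG Q)}

theorem tor_diag (bp : BP Q q e f) (ht : 3 ≤ t) (hM : HasMO M)
    {i l : Fin t} (hil : i ≠ l) {ν : F} (hν : ν ≠ 0) :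
    ∃ g ∈ M, Diag g i l (tau q e f ν) (tau q e f ν⁻¹) := by
  obtain ⟨g, hgM, -, hg⟩ := tor_exists bp ht hM hil hν
  exact ⟨g, hgM, hg⟩

theorem dswap_diag (bp : BP Q q e f) (ht : 3 ≤ t) (hM : HasMO M)
    {i l : Fin t} (hil : i ≠ l) :
    ∃ g ∈ M, Diag g i l (sw q e f) (sw q e f) := by
  obtain ⟨g, hgM, -, hg⟩ := dswap_exists bp ht hM hil
  exact ⟨g, hgM, hg⟩

/-- commutator with a torus element fixing the centre -/
theorem comm_mem (bp : BP Q q e f) {g : OG Q} (hgM : g ∈ M) {a : Fin t × Fin 2 → F} (ha : Q a = 0)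
    (hfix : mt Q g *ᵥ a = a) {w : Fin t × Fin 2 → F} (hw : w ∈ Rad M a ha) :
    mt Q g *ᵥ w - w ∈ Rad M a ha :=
  (Rad M a ha).sub_mem (Rad_conj' hgM hw ha hfix rfl) hw

/-- **isolation** of the `j`-component -/
theorem isolate (bp : BP Q q e f) (ht : 4 ≤ t) (hM : HasMO M) {ν : F} (hν : ν ≠ 0)
    {p j : Fin t} (hjp : j ≠ p) {u : Fin 2 → F} (hu : Q (binj p u) = 0)
    {w : Fin t × Fin 2 → F} (hw : w ∈ Rad M (binj p u) hu) :
    binj j (dl q e f ν (dl q e f ν (bproj j w))) ∈ Rad M (binj p u) hu := by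
  obtain ⟨l, hlp, hlj, -⟩ := PERM.aux_exists_ne ht p j j
  obtain ⟨l', hlp', hlj', hll'⟩ := PERM.aux_exists_ne ht p j l
  obtain ⟨g1, hg1M, hg1⟩ := tor_diag bp (by omega) hM (Ne.symm hlj) hν
  obtain ⟨g2, hg2M, hg2⟩ := tor_diag bp (by omega) hM (Ne.symm hlj') hν
  have hinv0 : tau q e f ν⁻¹ 0 = 0 := tau_zero _
  have f1 : mt Q g1 *ᵥ binj p u = binj p u :=
    hg1.other (tau_zero _) hinv0 (Ne.symm hjp) (Ne.symm hlp) u
  have f2 : mt Q g2 *ᵥ binj p u = binj p u :=
    hg2.other (tau_zero _) hinv0 (Ne.symm hjp) (Ne.symm hlp') u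
  have hw1 := comm_mem bp hg1M hu f1 hw
  have hw2 := comm_mem bp hg2M hu f2 hw1
  have key : mt Q g2 *ᵥ (mt Q g1 *ᵥ w - w) - (mt Q g1 *ᵥ w - w)
      = binj j (dl q e f ν (dl q e f ν (bproj j w))) := by
    apply QB.ext
    intro m
    obtain ⟨a1, a2, a3⟩ := hg1 w
    obtain ⟨b1, b2, b3⟩ := hg2 (mt Q g1 *ᵥ w - w)
    rw [QB.bproj_sub]
    by_cases e1 : m = j
    · subst e1
      rw [b1, bproj_binj, QB.bproj_sub, a1]
      rfl
    · rw [bproj_binj_ne e1]
      by_cases e2 : m = l'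
      · subst e2
        rw [b2, QB.bproj_sub, a3 m e1 hll', sub_self, hinv0, sub_zero]
      · rw [b3 m e1 e2, sub_self]
  rw [← key]
  exact hw2

/-- torus invariance of `A_j` -/
theorem A_tau (bp : BP Q q e f) (ht : 3 ≤ t) (hM : HasMO M) {μ : F} (hμ : μ ≠ 0)
    {p j : Fin t} (hjp : j ≠ p) {u : Fin 2 → F} (hu : Q (binj p u) = 0)
    {y : Fin 2 → F} (hy : binj j y ∈ Rad M (binj p u) hu) :
    binj j (tau q e f μ y) ∈ Rad M (binj p u) hu := by
  obtain ⟨l, hlp, hlj, -⟩ : ∃ k : Fin t, k ≠ p ∧ k ≠ j ∧ k ≠ j := by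
    by_contra hcon
    push Not at hcon
    have hsub : (Finset.univ : Finset (Fin t)) ⊆ {p, j} := by
      intro k _
      by_cases h1 : k = p
      · simp [h1]
      · by_cases h2 : k = j
        · simp [h2]
        · exact absurd (hcon k h1 h2) h2
    have hcard := Finset.card_le_card hsub
    have h3 : ({p, j} : Finset (Fin t)).card ≤ 2 := Finset.card_le_two
    rw [Finset.card_univ, Fintype.card_fin] at hcard
    omega
  obtain ⟨g, hgM, hg⟩ := tor_diag bp ht hM (Ne.symm hlj) hμ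
  have f1 : mt Q g *ᵥ binj p u = binj p u :=
    hg.other (tau_zero _) (tau_zero _) (Ne.symm hjp) (Ne.symm hlp) u
  exact Rad_conj' hgM hy hu f1 (hg.fst (Ne.symm hlj) (tau_zero _) y)

/-- an index outside two given ones -/
theorem exists_ne2 (ht : 3 ≤ t) (p j : Fin t) : ∃ k : Fin t, k ≠ p ∧ k ≠ j := by
  by_contra hcon
  push Not at hcon
  have hsub : (Finset.univ : Finset (Fin t)) ⊆ {p, j} := by
    intro k _
    by_cases h1 : k = p
    · simp [h1]
    · simp [hcon k h1]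
  have hcard := Finset.card_le_card hsub
  have h3 : ({p, j} : Finset (Fin t)).card ≤ 2 := Finset.card_le_two
  rw [Finset.card_univ, Fintype.card_fin] at hcard
  omega

/-- scalar invariance of `A_j` (torus of the centre block) -/
theorem A_smul (bp : BP Q q e f) (ht : 3 ≤ t) (hM : HasMO M) (c : F)
    {p j : Fin t} (hjp : j ≠ p) {u : Fin 2 → F} (huef : u = e ∨ u = f) (hu : Q (binj p u) = 0)
    {y : Fin 2 → F} (hy : binj j y ∈ Rad M (binj p u) hu) :
    binj j (c • y) ∈ Rad M (binj p u) hu := by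
  by_cases hc : c = 0
  · subst hc
    rw [zero_smul, QB.binj_zero]
    exact (Rad M _ hu).zero_mem
  obtain ⟨l, hlp, hlj⟩ := exists_ne2 ht p j
  -- the torus element scaling `u` by `c`
  have hex : ∃ g ∈ M, mt Q g *ᵥ binj p u = c • binj p u ∧ mt Q g *ᵥ binj j y = binj j y := by
    rcases huef with rfl | rfl
    · obtain ⟨g, hgM, hg⟩ := tor_diag bp ht hM (Ne.symm hlp) hc
      refine ⟨g, hgM, ?_, hg.other (tau_zero _) (tau_zero _) hjp (Ne.symm hlj) y⟩
      rw [hg.fst (Ne.symm hlp) (tau_zero _), tau_e bp, QB.binj_smul]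
    · obtain ⟨g, hgM, hg⟩ := tor_diag bp ht hM (Ne.symm hlp) (inv_ne_zero hc)
      refine ⟨g, hgM, ?_, hg.other (tau_zero _) (tau_zero _) hjp (Ne.symm hlj) y⟩
      rw [hg.fst (Ne.symm hlp) (tau_zero _), tau_f bp, inv_inv, QB.binj_smul]
  obtain ⟨g, hgM, hg1, hg2⟩ := hex
  have hcu : Q (c • binj p u) = 0 := by rw [QuadraticMap.map_smul, hu, smul_zero]
  have h1 : binj j y ∈ Rad M (c • binj p u) hcu := Rad_conj' hgM hy hcu hg1 hg2
  have h2 := Rad_smul_left hu c hcu h1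
  rw [QB.binj_smul]
  exact h2

theorem A_sub {p j : Fin t} {u : Fin 2 → F} (hu : Q (binj p u) = 0) {y y' : Fin 2 → F}
    (hy : binj j y ∈ Rad M (binj p u) hu) (hy' : binj j y' ∈ Rad M (binj p u) hu) :
    binj j (y - y') ∈ Rad M (binj p u) hu := by
  rw [QB.binj_sub]
  exact (Rad M _ hu).sub_mem hy hy'

/-- a scalar `μ ≠ 0` with `μ² ≠ 1` -/
theorem exists_sq_ne_one (hq : 4 ≤ Fintype.card F) : ∃ μ : F, μ ≠ 0 ∧ μ * μ ≠ 1 := by
  classical
  by_contra hcon
  push Not at hcon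
  have hsub : (Finset.univ : Finset F) ⊆ {0, 1, -1} := by
    intro k _
    by_cases h1 : k = 0
    · simp [h1]
    · have h2 := hcon k h1
      have h3 : (k - 1) * (k + 1) = 0 := by linear_combination h2
      rcases mul_eq_zero.mp h3 with h | h
      · have : k = 1 := sub_eq_zero.mp h
        simp [this]
      · have : k = -1 := eq_neg_of_add_eq_zero_left h
        simp [this]
  have hcard := Finset.card_le_card hsub
  have h3 : ({0, 1, -1} : Finset F).card ≤ 3 := Finset.card_le_three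
  rw [Finset.card_univ] at hcard
  omega

/-- `A_j` contains a full coordinate line -/
theorem A_line (bp : BP Q q e f) (ht : 3 ≤ t) (hq : 4 ≤ Fintype.card F) (hM : HasMO M)
    {p j : Fin t} (hjp : j ≠ p) {u : Fin 2 → F} (huef : u = e ∨ u = f) (hu : Q (binj p u) = 0)
    {y : Fin 2 → F} (hy0 : y ≠ 0) (hy : binj j y ∈ Rad M (binj p u) hu) :
    ∃ u' : Fin 2 → F, (u' = e ∨ u' = f) ∧ ∀ d : F, binj j (d • u') ∈ Rad M (binj p u) hu := by
  obtain ⟨μ, hμ0, hμ1⟩ := exists_sq_ne_one hq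
  have hμd : μ - μ⁻¹ ≠ 0 := by
    intro h
    apply hμ1
    have : μ = μ⁻¹ := sub_eq_zero.mp h
    calc μ * μ = μ * μ⁻¹ := by rw [← this]
      _ = 1 := mul_inv_cancel₀ hμ0
  set a := QuadraticMap.polar ⇑q y f with ha
  set b := QuadraticMap.polar ⇑q y e with hb
  have hdec : y = a • e + b • f := plane_decomp bp y
  have hty := A_tau bp ht hM hμ0 hjp hu hy
  by_cases ha0 : a = 0
  · have hb0 : b ≠ 0 := by
      intro hb0
      apply hy0
      rw [hdec, ha0, hb0]; simp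
    refine ⟨f, Or.inr rfl, fun d => ?_⟩
    have h1 := A_sub hu hty (A_smul bp ht hM μ hjp huef hu hy)
    have h2 : tau q e f μ y - μ • y = ((μ⁻¹ - μ) * b) • f := by
      rw [hdec, tau_comb bp, ha0]; module
    rw [h2] at h1
    have h3 := A_smul bp ht hM (d / ((μ⁻¹ - μ) * b)) hjp huef hu h1
    have hne : (μ⁻¹ - μ) * b ≠ 0 := by
      apply mul_ne_zero _ hb0
      intro h; apply hμd; linear_combination -h
    rw [smul_smul, div_mul_cancel₀ d hne] at h3
    exact h3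
  · refine ⟨e, Or.inl rfl, fun d => ?_⟩
    have h1 := A_sub hu hty (A_smul bp ht hM μ⁻¹ hjp huef hu hy)
    have h2 : tau q e f μ y - μ⁻¹ • y = ((μ - μ⁻¹) * a) • e := by
      rw [hdec, tau_comb bp]; module
    rw [h2] at h1
    have h3 := A_smul bp ht hM (d / ((μ - μ⁻¹) * a)) hjp huef hu h1
    have hne : (μ - μ⁻¹) * a ≠ 0 := mul_ne_zero hμd ha0
    rw [smul_smul, div_mul_cancel₀ d hne] at h3
    exact h3

/-- root groups: `E(a, d b) ∈ M` for all `d` -/
def Root (M : Subgroup (OG Q)) (a b : Fin t × Fin 2 → F) : Prop :=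
  ∃ ha : Q a = 0, ∀ d : F, d • b ∈ Rad M a ha

theorem Root.conj {a b : Fin t × Fin 2 → F} (h : Root M a b) {g : OG Q} (hg : g ∈ M)
    {a' b' : Fin t × Fin 2 → F} (h1 : mt Q g *ᵥ a = a') (h2 : mt Q g *ᵥ b = b') : Root M a' b' := by
  obtain ⟨ha, hd⟩ := h
  have ha' : Q a' = 0 := by rw [← h1, Q_isom]; exact ha
  refine ⟨ha', fun d => ?_⟩
  refine Rad_conj' hg (hd d) ha' h1 ?_
  rw [Matrix.mulVec_smul, h2]

theorem root_sw_snd (bp : BP Q q e f) (ht : 3 ≤ t) (hM : HasMO M) {p j : Fin t} (hjp : j ≠ p)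
    {v v' : Fin 2 → F} (h : Root M (binj p v) (binj j v')) :
    Root M (binj p v) (binj j (sw q e f v')) := by
  obtain ⟨l, hlp, hlj⟩ := exists_ne2 ht p j
  obtain ⟨g, hgM, hg⟩ := dswap_diag bp ht hM (Ne.symm hlj)
  exact h.conj hgM (hg.other sw_zero sw_zero (Ne.symm hjp) (Ne.symm hlp) v)
    (hg.fst (Ne.symm hlj) sw_zero v')

theorem root_sw_fst (bp : BP Q q e f) (ht : 3 ≤ t) (hM : HasMO M) {p j : Fin t} (hjp : j ≠ p)
    {v v' : Fin 2 → F} (h : Root M (binj p v) (binj j v')) :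
    Root M (binj p (sw q e f v)) (binj j v') := by
  obtain ⟨l, hlp, hlj⟩ := exists_ne2 ht p j
  obtain ⟨g, hgM, hg⟩ := dswap_diag bp ht hM (Ne.symm hlp)
  exact h.conj hgM (hg.fst (Ne.symm hlp) sw_zero v)
    (hg.other sw_zero sw_zero hjp (Ne.symm hlj) v')

theorem ef_cases (bp : BP Q q e f) {u v : Fin 2 → F} (hu : u = e ∨ u = f) (hv : v = e ∨ v = f) :
    v = u ∨ v = sw q e f u := by
  rcases hu with rfl | rfl <;> rcases hv with rfl | rfl
  · exact Or.inl rfl
  · exact Or.inr (sw_e bp).symm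
  · exact Or.inr (sw_f bp).symm
  · exact Or.inl rfl

/-- all root groups with frame centres and frame directions in different blocks -/
theorem all_roots (bp : BP Q q e f) (ht : 4 ≤ t) (hM : HasMO M) {p j : Fin t} (hjp : j ≠ p)
    {u u' : Fin 2 → F} (hu : u = e ∨ u = f) (hu' : u' = e ∨ u' = f)
    (h : Root M (binj p u) (binj j u')) {p' j' : Fin t} (hjp' : j' ≠ p')
    {v v' : Fin 2 → F} (hv : v = e ∨ v = f) (hv' : v' = e ∨ v' = f) :
    Root M (binj p' v) (binj j' v') := by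
  obtain ⟨g, π, hgM, -, hπp, hπj, hg⟩ := PERM.move_pair bp.toBM0 ht hM (Ne.symm hjp) (Ne.symm hjp')
  have h1 : Root M (binj p' u) (binj j' u') := by
    refine h.conj hgM ?_ ?_
    · rw [hg, hπp]
    · rw [hg, hπj]
  have h2 : Root M (binj p' v) (binj j' u') := by
    rcases ef_cases bp hu hv with rfl | rfl
    · exact h1
    · exact root_sw_fst bp (by omega) hM hjp' h1
  rcases ef_cases bp hu' hv' with rfl | rfl
  · exact h2
  · exact root_sw_snd bp (by omega) hM hjp' h2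

end grp

end Cfsg.Agent.K2P.H29

namespace Cfsg.Agent.K2P

open Matrix Cfsg.Agent.OC2P Cfsg.Agent.Helper28.Sg Cfsg.Agent.Helper28.Spin
  Cfsg.Agent.Helper12.OrthGen Cfsg.Agent.K2M Cfsg.Agent.K2P Cfsg.Agent.K2P.H29

variable {F : Type*} [Field F] [Fintype F] {t : ℕ} {Q : QuadraticForm F (Fin t × Fin 2 → F)}
  {q : QuadraticForm F (Fin 2 → F)} {e f : Fin 2 → F}

/-- **Chapter D (SPREAD for a frame centre)**: weak hypotheses -/
theorem SPREAD.main' (bp : BP Q q e f) (ht : 4 ≤ t) (hF : 4 ≤ Fintype.card F)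
    {M : Subgroup (OG Q)} (hM : HasMO M) (hS : SiegF Q q e f M) : S Q ≤ M := by
  obtain ⟨p, u, w, hu, huef, hw0, hwp, hw⟩ := hS
  -- a nonzero component
  obtain ⟨j, hj⟩ : ∃ j, bproj j w ≠ 0 := by
    by_contra hcon
    push Not at hcon
    apply hw0
    apply QB.ext
    intro i
    rw [hcon i]; rfl
  have hjp : j ≠ p := by
    rintro rfl
    exact hj hwp
  -- a scalar `ν ∉ {0, 1}`
  obtain ⟨ν, hν0, hν1'⟩ := exists_sq_ne_one hF
  have hν1 : ν ≠ 1 := by
    rintro rfl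
    exact hν1' (mul_one 1)
  have hiso := isolate bp ht hM hν0 hjp hu hw
  have hne := dl_dl_ne bp hν0 hν1 hj
  obtain ⟨u', hu'ef, hline⟩ := A_line bp (by omega) hF hM hjp huef hu hne hiso
  have hroot : Root M (binj p u) (binj j u') := by
    refine ⟨hu, fun d => ?_⟩
    rw [← QB.binj_smul]
    exact hline d
  have hall : ∀ {p' j' : Fin t} (hjp' : j' ≠ p') {v v' : Fin 2 → F} (hv : v = e ∨ v = f)
      (hv' : v' = e ∨ v' = f), Root M (binj p' v) (binj j' v') :=
    fun hjp' _ _ hv hv' => all_roots bp ht hM hjp huef hu'ef hroot hjp' hv hv'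
  -- the hyperbolic pair of block `0`
  set i0 : Fin t := ⟨0, by omega⟩ with hi0
  set i1 : Fin t := ⟨1, by omega⟩ with hi1
  have h01 : i1 ≠ i0 := by
    rw [hi0, hi1]; intro h; simp [Fin.ext_iff] at h
  have hp : HypPair Q (binj i0 e) (binj i0 f) := by
    refine ⟨?_, ?_, ?_⟩
    · rw [QB.Q_binj bp.toBM0]; exact bp.qe
    · rw [QB.Q_binj bp.toBM0]; exact bp.qf
    · rw [QB.B_binj_left bp.toBM0, bproj_binj]; exact bp.ef
  -- vectors orthogonal to the pair have no `0`-component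
  have hperp : ∀ w : Fin t × Fin 2 → F, B Q (binj i0 e) w = 0 → B Q (binj i0 f) w = 0 →
      bproj i0 w = 0 := by
    intro w h1 h2
    rw [QB.B_binj_left bp.toBM0] at h1 h2
    rw [plane_decomp bp (bproj i0 w), QuadraticMap.polar_comm, h2, QuadraticMap.polar_comm ⇑q _ e, h1]
    simp
  have hrad : ∀ {v : Fin 2 → F} (hv : v = e ∨ v = f) (hQv : Q (binj i0 v) = 0)
      (w : Fin t × Fin 2 → F), bproj i0 w = 0 → w ∈ Rad M (binj i0 v) hQv := by
    intro v hv hQv w hw0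
    rw [QB.eq_sum w]
    apply AddSubgroup.sum_mem
    intro i _
    by_cases hi : i = i0
    · rw [hi, hw0, QB.binj_zero]
      exact (Rad M _ hQv).zero_mem
    · rw [plane_decomp bp (bproj i w), QB.binj_add, QB.binj_smul, QB.binj_smul]
      obtain ⟨_, h1⟩ := hall hi hv (Or.inl rfl)
      obtain ⟨_, h2⟩ := hall hi hv (Or.inr rfl)
      exact (Rad M _ hQv).add_mem (h1 _) (h2 _)
  refine S_le_of_rad bp.ndQ hp (fun w h1 h2 => hrad (Or.inl rfl) hp.Qe w (hperp w h1 h2))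
    (fun w h1 h2 => hrad (Or.inr rfl) hp.Qf w (hperp w h1 h2))
    (w₀ := binj i1 (e + f)) ?_ ?_ ?_
  · rw [QB.B_binj_left bp.toBM0, bproj_binj_ne (Ne.symm h01), QuadraticMap.polar_zero_right]
  · rw [QB.B_binj_left bp.toBM0, bproj_binj_ne (Ne.symm h01), QuadraticMap.polar_zero_right]
  · rw [QB.Q_binj bp.toBM0]
    have : e + f = (1 : F) • e + (1 : F) • f := by simp
    rw [this, q_comb bp]
    simp

/-- **Chapter D (SPREAD for a frame centre)**, in the shape of helper14's glue -/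
theorem SPREAD.main (bp : BP Q q e f) (ht : 7 ≤ t) (hF : 7 ≤ Fintype.card F)
    {M : Subgroup (OG Q)} (hM : HasMO M) (hS : SiegF Q q e f M) : S Q ≤ M :=
  SPREAD.main' bp (by omega) (by omega) hM hS

end Cfsg.Agent.K2P
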