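import Mathlib
import Cfsg.Agent.Helper29.K2PB0
import Cfsg.Agent.Helper29.K2PSPREAD
import Cfsg.Agent.Helper1.K2PPAIRF

set_option autoImplicit false
set_option linter.unusedSectionVars false
set_option linter.unusedVariables false

/-! # S5692, K2P, chapter B (helper29, whole-chapter hedge), part 1: a singular component; PAIRK -/

namespace Cfsg.Agent.K2P.H29

open Matrix Cfsg.Agent.OC2P Cfsg.Agent.Helper28.Sg Cfsg.Agent.Helper28.Spin
  Cfsg.Agent.Helper12.OrthGen Cfsg.Agent.K2M Cfsg.Agent.K2P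

variable {F : Type*} [Field F] [Fintype F] {t : ℕ} {Q : QuadraticForm F (Fin t × Fin 2 → F)}
  {q : QuadraticForm F (Fin 2 → F)} {e f : Fin 2 → F} {M : Subgroup (OG Q)}

/-- packaging of the exit: a torus element `g ∈ M` with `z = a - g a` singular, supported in `I`, and a component of `a`
outside `I` -/
theorem exit_of (bp : BP Q q e f) (ht : 3 ≤ t) (hM : HasMO M) {a : Fin t × Fin 2 → F}
    (ha : InA M a) {g : OG Q} (hg : g ∈ M) {c : Fin t → F} (hgc : TorBy q e f g c)
    (hz : Q (a - mt Q g *ᵥ a) = 0) {i : Fin t} (hi : bproj i a ≠ 0) (hci0 : c i ≠ 0)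
    (hci1 : c i ≠ 1) (I : Finset (Fin t)) (hI : I.card ≤ 4)
    (hsupp : ∀ m, m ∉ I → c m = 1 ∨ bproj m a = 0) {p : Fin t} (hpI : p ∉ I)
    (hp : bproj p a ≠ 0) : SiegOut M := by
  obtain ⟨c0, hc0, hrad⟩ := sieg_of bp ht hM ha hg (fun b hb => hgc.isBlk hb) hz
  refine ⟨a - mt Q g *ᵥ a, c0 • a, hz, I, p, ?_, hI, ?_, hpI, hrad, ?_⟩
  · intro h0
    have h1 := congrArg (bproj i) h0
    rw [hgc.bproj_sub, QB.bproj_zero] at h1
    exact sub_tau_ne bp hci0 hci1 hi h1
  · intro m hm
    rw [hgc.bproj_sub]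
    rcases hsupp m hm with h | h
    · rw [h, tau_one bp, sub_self]
    · rw [h, tau_zero, sub_self]
  · rw [QB.bproj_smul]
    exact smul_ne_zero hc0 hp

/-- **B1**: a singular nonzero component -/
theorem caseS (bp : BP Q q e f) (ht : 3 ≤ t) (hF : 4 ≤ Fintype.card F) (hM : HasMO M)
    {a : Fin t × Fin 2 → F} (ha : InA M a) {i p : Fin t} (hpi : p ≠ i) (hi0 : bproj i a ≠ 0)
    (hqi : q (bproj i a) = 0) (hp : bproj p a ≠ 0) : SiegOut M := by
  obtain ⟨μ, hμ0, hμ1⟩ := exists_sq_ne_one hF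
  obtain ⟨g, hgM, hgc⟩ := torBy_sq bp ht hM i hμ0
  have hz : Q (a - mt Q g *ᵥ a) = 0 := by
    rw [hgc.Q_sub bp]
    apply Finset.sum_eq_zero
    intro m _
    by_cases hm : m = i
    · subst hm; rw [hqi, mul_zero]
    · simp only [hm, if_false]; ring
  refine exit_of bp ht hM ha hgM hgc hz hi0 ?_ ?_ {i} (by simp) ?_ (by simpa using hpi) hp
  · simp only [if_true]; exact mul_ne_zero hμ0 hμ0
  · simp only [if_true]; exact hμ1
  · intro m hm
    left
    have : m ≠ i := by simpa using hm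
    simp only [this, if_false]

/-- **B3 (PAIRK)**: two nonsingular components, a third nonzero one and a free block -/
theorem caseK (bp : BP Q q e f) (ht : 3 ≤ t) (hF : 7 ≤ Fintype.card F) (hM : HasMO M)
    {a : Fin t × Fin 2 → F} (ha : InA M a) {i j k p : Fin t} (hij : i ≠ j) (hik : i ≠ k)
    (hjk : j ≠ k) (hni : q (bproj i a) ≠ 0) (hnj : q (bproj j a) ≠ 0) (hk : bproj k a ≠ 0)
    (hp : bproj p a = 0) : SiegOut M := by
  have hi0 : bproj i a ≠ 0 := by intro h; rw [h, map_zero] at hni; exact hni rfl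
  have hj0 : bproj j a ≠ 0 := by intro h; rw [h, map_zero] at hnj; exact hnj rfl
  have hip : i ≠ p := by rintro rfl; exact hi0 hp
  have hjp : j ≠ p := by rintro rfl; exact hj0 hp
  obtain ⟨lam, mu, s, hl0, hl1, hm0, hm1, heq, -⟩ := PAIRF.main hF hni hnj
  obtain ⟨g1, hg1M, hg1⟩ := torBy_pair bp ht hM hip hl0
  obtain ⟨g2, hg2M, hg2⟩ := torBy_pair bp ht hM hjp hm0
  have hgc := hg1.mul bp hg2
  have hgM := M.mul_mem hg1M hg2M
  have ci : (if i = i then lam else if i = p then lam⁻¹ else 1)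
      * (if i = j then mu else if i = p then mu⁻¹ else 1) = lam := by
    simp [hij, hip]
  have cj : (if j = i then lam else if j = p then lam⁻¹ else 1)
      * (if j = j then mu else if j = p then mu⁻¹ else 1) = mu := by
    simp [hij.symm, hjp]
  have cother : ∀ m, m ≠ i → m ≠ j → m ≠ p → (if m = i then lam else if m = p then lam⁻¹ else 1)
      * (if m = j then mu else if m = p then mu⁻¹ else 1) = 1 := by
    intro m h1 h2 h3
    simp [h1, h2, h3]
  have hz : Q (a - mt Q (g1 * g2) *ᵥ a) = 0 := by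
    rw [hgc.Q_sub bp, Finset.sum_eq_add i j hij]
    · rw [ci, cj]
      have : (1 - lam) * (1 - lam⁻¹) * q (bproj i a) + (1 - mu) * (1 - mu⁻¹) * q (bproj j a)
          = -(q (bproj i a) * (1 - lam) ^ 2 * mu + q (bproj j a) * (1 - mu) ^ 2 * lam) / (lam * mu) := by
        field_simp
        ring
      rw [this, heq, neg_zero, zero_div]
    · intro m _ ⟨h1, h2⟩
      by_cases h3 : m = p
      · rw [h3, hp, map_zero, mul_zero]
      · rw [cother m h1 h2 h3]; ring
    · intro h; exact absurd (Finset.mem_univ i) h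
    · intro h; exact absurd (Finset.mem_univ j) h
  refine exit_of bp ht hM ha hgM hgc hz hi0 (by rw [ci]; exact hl0) (by rw [ci]; exact hl1) {i, j}
    (le_trans Finset.card_le_two (by norm_num)) ?_ ?_ hk
  · intro m hm
    have h1 : m ≠ i := by intro h; apply hm; simp [h]
    have h2 : m ≠ j := by intro h; apply hm; simp [h]
    by_cases h3 : m = p
    · right; rw [h3]; exact hp
    · left; exact cother m h1 h2 h3
  · intro h
    rcases Finset.mem_insert.mp h with h | h
    · exact hik h.symm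
    · exact hjk (Finset.mem_singleton.mp h).symm

end Cfsg.Agent.K2P.H29
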