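import Mathlib
import Cfsg.Agent.Helper29.K2PB1
import Cfsg.Agent.Helper16.K2MSREFL4

set_option autoImplicit false
set_option linter.unusedSectionVars false
set_option linter.unusedVariables false

/-! # S5692, K2P, chapter B (helper29, whole-chapter hedge), part 2: FOUR (full support) -/

namespace Cfsg.Agent.K2P.H29

open Matrix Cfsg.Agent.OC2P Cfsg.Agent.Helper28.Sg Cfsg.Agent.Helper28.Spin
  Cfsg.Agent.Helper12.OrthGen Cfsg.Agent.K2M Cfsg.Agent.K2P

variable {F : Type*} [Field F] [Fintype F] {t : ℕ} {Q : QuadraticForm F (Fin t × Fin 2 → F)}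
  {q : QuadraticForm F (Fin 2 → F)} {e f : Fin 2 → F} {M : Subgroup (OG Q)}

/-- among three elements of a finite field (the middle one nonzero), two have a square product -/
theorem sq_three {x y z : F} (hy : y ≠ 0) :
    IsSquare (x * y) ∨ IsSquare (y * z) ∨ IsSquare (x * z) := by
  by_cases h1 : IsSquare (x * y)
  · exact Or.inl h1
  by_cases h2 : IsSquare (y * z)
  · exact Or.inr (Or.inl h2)
  obtain ⟨r, hr⟩ := SREFL4.isSquare_mul_of_not h1 h2
  refine Or.inr (Or.inr ⟨r / y, ?_⟩)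
  field_simp
  linear_combination hr

/-- choose a pair with square product among three indices -/
theorem pick3 (n : Fin t → F) (hn : ∀ m, n m ≠ 0) (x y z : Fin t) (hxy : x ≠ y) (hxz : x ≠ z)
    (hyz : y ≠ z) :
    ∃ u v w : Fin t, u ≠ v ∧ u ≠ w ∧ v ≠ w ∧ IsSquare (n u * n v) ∧
      ∀ P : Fin t → Prop, P x → P y → P z → P u ∧ P v ∧ P w := by
  rcases sq_three (x := n x) (y := n y) (z := n z) (hn y) with h | h | h
  · exact ⟨x, y, z, hxy, hxz, hyz, h, fun P hx hy hz => ⟨hx, hy, hz⟩⟩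
  · exact ⟨y, z, x, hyz, hxy.symm, hxz.symm, h, fun P hx hy hz => ⟨hy, hz, hx⟩⟩
  · exact ⟨x, z, y, hxz, hxy, hyz.symm, h, fun P hx hy hz => ⟨hx, hz, hy⟩⟩

/-- the torus element for FOUR -/
theorem tor_four (bp : BP Q q e f) (ht : 3 ≤ t) (hM : HasMO M) {i j k l : Fin t}
    (hij : i ≠ j) (hik : i ≠ k) (hil : i ≠ l) (hjk : j ≠ k) (hjl : j ≠ l) (hkl : k ≠ l)
    {a b c d σ : F} (ha : a ≠ 0) (hb : b ≠ 0) (hc : c ≠ 0) (hd : d ≠ 0)
    (hσ : a * b * c * d = σ * σ) :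
    ∃ g ∈ M, ∃ cc : Fin t → F, TorBy q e f g cc ∧ cc i = a ∧ cc j = b ∧ cc k = c ∧ cc l = d ∧
      ∀ m, m ≠ i → m ≠ j → m ≠ k → m ≠ l → cc m = 1 := by
  have hσ0 : σ ≠ 0 := by
    intro h
    rw [h, mul_zero] at hσ
    exact (mul_ne_zero (mul_ne_zero (mul_ne_zero ha hb) hc) hd) hσ
  obtain ⟨g1, hg1M, hg1⟩ := torBy_pair bp ht hM hil ha
  obtain ⟨g2, hg2M, hg2⟩ := torBy_pair bp ht hM hjl hb
  obtain ⟨g3, hg3M, hg3⟩ := torBy_pair bp ht hM hkl hc
  obtain ⟨g4, hg4M, hg4⟩ := torBy_sq bp ht hM l hσ0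
  refine ⟨g1 * g2 * g3 * g4, M.mul_mem (M.mul_mem (M.mul_mem hg1M hg2M) hg3M) hg4M, _,
    ((hg1.mul bp hg2).mul bp hg3).mul bp hg4, ?_, ?_, ?_, ?_, ?_⟩
  · simp [hij, hik, hil]
  · simp [hij.symm, hjk, hjl]
  · simp [hik.symm, hjk.symm, hkl]
  · simp only [hil.symm, hjl.symm, hkl.symm, if_false, if_true]
    rw [← hσ]
    field_simp
  · intro m h1 h2 h3 h4
    simp [h1, h2, h3, h4]

/-- **B4 (FOUR)** -/
theorem caseF (bp : BP Q q e f) (ht : 3 ≤ t) (hF : 7 ≤ Fintype.card F) (hM : HasMO M)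
    {a : Fin t × Fin 2 → F} (ha : InA M a) {i j k l p : Fin t}
    (hij : i ≠ j) (hik : i ≠ k) (hil : i ≠ l) (hjk : j ≠ k) (hjl : j ≠ l) (hkl : k ≠ l)
    (hpi : p ≠ i) (hpj : p ≠ j) (hpk : p ≠ k) (hpl : p ≠ l)
    (hni : q (bproj i a) ≠ 0) (hnj : q (bproj j a) ≠ 0) (hnk : q (bproj k a) ≠ 0)
    (hnl : q (bproj l a) ≠ 0) (hs1 : IsSquare (q (bproj i a) * q (bproj j a)))
    (hs2 : IsSquare (q (bproj k a) * q (bproj l a))) (hp : bproj p a ≠ 0) : SiegOut M := by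
  classical
  have hi0 : bproj i a ≠ 0 := by intro h; rw [h, map_zero] at hni; exact hni rfl
  obtain ⟨lam, mu, s, hl0, hl1, hm0, hm1, heq, hprod⟩ := PAIRF.main hF hni hnj
  obtain ⟨lam', mu', s', hl0', hl1', hm0', hm1', heq', hprod'⟩ := PAIRF.main hF hnk hnl
  obtain ⟨r, hr⟩ := hs1
  obtain ⟨r', hr'⟩ := hs2
  have hσ : lam * mu * lam' * mu' = (r * r' * s * s') * (r * r' * s * s') := by
    have : lam * mu * lam' * mu' = (lam * mu) * (lam' * mu') := by ring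
    rw [this, hprod, hprod', hr, hr']
    ring
  obtain ⟨g, hgM, cc, hgc, ci, cj, ck, cl, cother⟩ :=
    tor_four bp ht hM hij hik hil hjk hjl hkl hl0 hm0 hl0' hm0' hσ
  have hz : Q (a - mt Q g *ᵥ a) = 0 := by
    rw [hgc.Q_sub bp]
    have hsub : ∑ m : Fin t, (1 - cc m) * (1 - (cc m)⁻¹) * q (bproj m a)
        = ∑ m ∈ ({i, j, k, l} : Finset (Fin t)), (1 - cc m) * (1 - (cc m)⁻¹) * q (bproj m a) := by
      symm
      apply Finset.sum_subset (Finset.subset_univ _)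
      intro m _ hm
      have h1 : m ≠ i := by intro h; apply hm; simp [h]
      have h2 : m ≠ j := by intro h; apply hm; simp [h]
      have h3 : m ≠ k := by intro h; apply hm; simp [h]
      have h4 : m ≠ l := by intro h; apply hm; simp [h]
      rw [cother m h1 h2 h3 h4]; ring
    rw [hsub, Finset.sum_insert (by simp [hij, hik, hil]), Finset.sum_insert (by simp [hjk, hjl]),
      Finset.sum_insert (by simp [hkl]), Finset.sum_singleton, ci, cj, ck, cl]
    have e1 : (1 - lam) * (1 - lam⁻¹) * q (bproj i a) + (1 - mu) * (1 - mu⁻¹) * q (bproj j a)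
        = -(q (bproj i a) * (1 - lam) ^ 2 * mu + q (bproj j a) * (1 - mu) ^ 2 * lam) / (lam * mu) := by
      field_simp
      ring
    have e2 : (1 - lam') * (1 - lam'⁻¹) * q (bproj k a) + (1 - mu') * (1 - mu'⁻¹) * q (bproj l a)
        = -(q (bproj k a) * (1 - lam') ^ 2 * mu' + q (bproj l a) * (1 - mu') ^ 2 * lam')
          / (lam' * mu') := by
      field_simp
      ring
    rw [heq, neg_zero, zero_div] at e1
    rw [heq', neg_zero, zero_div] at e2
    linear_combination e1 + e2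
  refine exit_of bp ht hM ha hgM hgc hz hi0 (by rw [ci]; exact hl0) (by rw [ci]; exact hl1)
    {i, j, k, l} Finset.card_le_four ?_ ?_ hp
  · intro m hm
    have h1 : m ≠ i := by intro h; apply hm; simp [h]
    have h2 : m ≠ j := by intro h; apply hm; simp [h]
    have h3 : m ≠ k := by intro h; apply hm; simp [h]
    have h4 : m ≠ l := by intro h; apply hm; simp [h]
    exact Or.inl (cother m h1 h2 h3 h4)
  · simp [hpi, hpj, hpk, hpl]

/-- full support, all components nonsingular -/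
theorem caseFull (bp : BP Q q e f) (ht : 5 ≤ t) (hF : 7 ≤ Fintype.card F) (hM : HasMO M)
    {a : Fin t × Fin 2 → F} (ha : InA M a) (hfull : ∀ m, q (bproj m a) ≠ 0) : SiegOut M := by
  classical
  obtain ⟨e5⟩ := Function.Embedding.nonempty_of_card_le (α := Fin 5) (β := Fin t)
    (by rw [Fintype.card_fin, Fintype.card_fin]; exact ht)
  have hne : ∀ {s s' : Fin 5}, s ≠ s' → e5 s ≠ e5 s' := fun h h' => h (e5.injective h')
  obtain ⟨u, v, w, huv, huw, hvw, hsq1, htr⟩ := pick3 (fun m => q (bproj m a)) hfull (e5 0) (e5 1) (e5 2)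
    (hne (by decide)) (hne (by decide)) (hne (by decide))
  obtain ⟨⟨hu3, hu4⟩, ⟨hv3, hv4⟩, ⟨hw3, hw4⟩⟩ := htr (fun m => m ≠ e5 3 ∧ m ≠ e5 4)
    ⟨hne (by decide), hne (by decide)⟩ ⟨hne (by decide), hne (by decide)⟩
    ⟨hne (by decide), hne (by decide)⟩
  obtain ⟨u', v', w', huv', huw', hvw', hsq2, htr'⟩ := pick3 (fun m => q (bproj m a)) hfull w (e5 3)
    (e5 4) hw3 hw4 (hne (by decide))
  obtain ⟨⟨h1, h2⟩, ⟨h3, h4⟩, ⟨h5, h6⟩⟩ := htr' (fun m => m ≠ u ∧ m ≠ v)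
    ⟨huw.symm, hvw.symm⟩ ⟨hu3.symm, hv3.symm⟩ ⟨hu4.symm, hv4.symm⟩
  have hw0 : bproj w' a ≠ 0 := by
    intro h; exact hfull w' (by rw [h, map_zero])
  exact caseF bp (by omega) hF hM ha huv h1.symm h3.symm h2.symm h4.symm huv' h5 h6 huw'.symm
    hvw'.symm (hfull u) (hfull v) (hfull u') (hfull v') hsq1 hsq2 hw0

end Cfsg.Agent.K2P.H29
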