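import Mathlib
import Cfsg.Agent.Helper29.K2PB2

set_option autoImplicit false
set_option linter.unusedSectionVars false
set_option linter.unusedVariables false

/-! # S5692, K2P, chapter B (helper29, whole-chapter hedge), part 3: ADD23 and the assembly `B29.main`

`InA M a`, `a` not a block vector ⟹ `SiegOut M`. -/

namespace Cfsg.Agent.K2P.H29

open Matrix Cfsg.Agent.OC2P Cfsg.Agent.Helper28.Sg Cfsg.Agent.Helper28.Spin
  Cfsg.Agent.Helper12.OrthGen Cfsg.Agent.K2M Cfsg.Agent.K2P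

variable {F : Type*} [Field F] [Fintype F] {t : ℕ} {Q : QuadraticForm F (Fin t × Fin 2 → F)}
  {q : QuadraticForm F (Fin 2 → F)} {e f : Fin 2 → F} {M : Subgroup (OG Q)}

/-- three nonzero components -/
theorem of_three (bp : BP Q q e f) (ht : 5 ≤ t) (hF : 7 ≤ Fintype.card F) (hM : HasMO M)
    {a : Fin t × Fin 2 → F} (ha : InA M a) {i j k : Fin t} (hij : i ≠ j) (hik : i ≠ k)
    (hjk : j ≠ k) (hi : bproj i a ≠ 0) (hj : bproj j a ≠ 0) (hk : bproj k a ≠ 0) : SiegOut M := by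
  by_cases hS : ∃ m, bproj m a ≠ 0 ∧ q (bproj m a) = 0
  · obtain ⟨m, hm0, hmq⟩ := hS
    by_cases hmi : m = i
    · exact caseS bp (by omega) (by omega) hM ha (by rw [hmi]; exact hij.symm) hm0 hmq hj
    · exact caseS bp (by omega) (by omega) hM ha (Ne.symm hmi) hm0 hmq hi
  · push Not at hS
    by_cases hfree : ∃ p, bproj p a = 0
    · obtain ⟨p, hp⟩ := hfree
      exact caseK bp (by omega) hF hM ha hij hik hjk (hS i hi) (hS j hj) hk hp
    · push Not at hfree
      exact caseFull bp ht hF hM ha (fun m => hS m (hfree m))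

/-- `polar y (tau ν y) = (ν + ν⁻¹) q y` -/
theorem polar_tau (bp : BP Q q e f) (ν : F) (y : Fin 2 → F) :
    QuadraticMap.polar ⇑q y (tau q e f ν y) = (ν + ν⁻¹) * q y := by
  unfold tau
  rw [QuadraticMap.polar_add_right, QuadraticMap.polar_smul_right, QuadraticMap.polar_smul_right,
    q_eq bp y]
  simp only [smul_eq_mul]
  ring

/-- a scalar with `λ ≠ 0`, `λ² ≠ 1`, `λ² ≠ -1` -/
theorem exists_lam (hF : 7 ≤ Fintype.card F) :
    ∃ lam : F, lam ≠ 0 ∧ lam * lam ≠ 1 ∧ lam * lam ≠ -1 := by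
  classical
  by_cases h : ∃ r : F, r * r = -1
  · obtain ⟨r, hr⟩ := h
    obtain ⟨lam, h0, h1, h2, h3, h4⟩ := PAIRF.exists_avoid hF (0 : F) 1 (-1) r (-r)
    refine ⟨lam, h0, ?_, ?_⟩
    · intro h
      have : (lam - 1) * (lam + 1) = 0 := by linear_combination h
      rcases mul_eq_zero.mp this with h' | h'
      · exact h1 (sub_eq_zero.mp h')
      · exact h2 (eq_neg_of_add_eq_zero_left h')
    · intro h
      have : (lam - r) * (lam + r) = 0 := by linear_combination h - hr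
      rcases mul_eq_zero.mp this with h' | h'
      · exact h3 (sub_eq_zero.mp h')
      · exact h4 (eq_neg_of_add_eq_zero_left h')
  · push Not at h
    obtain ⟨lam, h0, h1, h2, -, -⟩ := PAIRF.exists_avoid hF (0 : F) 1 (-1) 0 0
    refine ⟨lam, h0, ?_, h lam⟩
    intro h
    have : (lam - 1) * (lam + 1) = 0 := by linear_combination h
    rcases mul_eq_zero.mp this with h' | h'
    · exact h1 (sub_eq_zero.mp h')
    · exact h2 (eq_neg_of_add_eq_zero_left h')

/-- **B5 (ADD23)**: exactly two nonzero components, both nonsingular: a new `InA` vector with three -/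
theorem add23 (bp : BP Q q e f) (ht : 4 ≤ t) (hF : 7 ≤ Fintype.card F) (hM : HasMO M)
    {a : Fin t × Fin 2 → F} (ha : InA M a) {i j : Fin t} (hij : i ≠ j)
    (hni : q (bproj i a) ≠ 0) (hnj : q (bproj j a) ≠ 0)
    (hoth : ∀ m, m ≠ i → m ≠ j → bproj m a = 0) :
    ∃ (a' : Fin t × Fin 2 → F) (k : Fin t), InA M a' ∧ i ≠ k ∧ j ≠ k ∧ bproj i a' ≠ 0 ∧
      bproj j a' ≠ 0 ∧ bproj k a' ≠ 0 := by
  have hj0 : bproj j a ≠ 0 := by intro h; rw [h, map_zero] at hnj; exact hnj rfl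
  have ha0 : Q a ≠ 0 := by obtain ⟨b, ha', _⟩ := ha; exact ha'
  obtain ⟨k, hki, hkj, -⟩ := PERM.aux_exists_ne ht i j j
  obtain ⟨p, hpi, hpj, hpk⟩ := PERM.aux_exists_ne ht i j k
  obtain ⟨lam, hl0, hl1, hl2⟩ := exists_lam hF
  -- the torus element
  obtain ⟨g1, hg1M, hg1⟩ := torBy_pair bp (by omega) hM (Ne.symm hpi) hl0
  -- the 3-cycle `j → k → p → j`
  obtain ⟨g2, hg2M, -, hg2⟩ := PERM.cycle3 bp.toBM0 hM (Ne.symm hkj) (Ne.symm hpj) (Ne.symm hpk)
  have ha1 : InA M (mt Q g1 *ᵥ a) := InA_conj ha hg1M (fun b hb => hg1.isBlk hb)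
  have hblk2 : ∀ b, IsBlk b → IsBlk (mt Q g2 *ᵥ b) := by
    rintro b ⟨m, hm⟩
    rw [QB.mem_Dblk_iff'.mp hm, hg2]
    exact ⟨_, binj_mem _ _⟩
  have ha2 : InA M (mt Q g2 *ᵥ (mt Q g1 *ᵥ a)) := InA_conj ha1 hg2M hblk2
  set a2 := mt Q g2 *ᵥ (mt Q g1 *ᵥ a) with ha2def
  have hQ2 : Q a = Q a2 := by rw [ha2def, Q_isom, Q_isom]
  have ha3 := InA_refl bp (by omega) hM ha ha2 hQ2 ha0
  -- components of `a2`
  set π : Equiv.Perm (Fin t) := Equiv.swap j k * Equiv.swap k p with hπ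
  have hg2' : ∀ (m : Fin t) (y : Fin 2 → F), mt Q g2 *ᵥ binj m y = binj (π m) y := by
    intro m y; rw [hg2]; rfl
  have hcomp : ∀ m, bproj (π m) a2 = bproj m (mt Q g1 *ᵥ a) := fun m =>
    PERM.bproj g2 π hg2' _ m
  have πi : π i = i := by
    rw [hπ, Equiv.Perm.mul_apply, Equiv.swap_apply_of_ne_of_ne (Ne.symm hki) (Ne.symm hpi),
      Equiv.swap_apply_of_ne_of_ne hij (Ne.symm hki)]
  have πj : π j = k := by
    rw [hπ, Equiv.Perm.mul_apply, Equiv.swap_apply_of_ne_of_ne (Ne.symm hkj) (Ne.symm hpj),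
      Equiv.swap_apply_left]
  have πp : π p = j := by
    rw [hπ, Equiv.Perm.mul_apply, Equiv.swap_apply_right, Equiv.swap_apply_right]
  have c2i : bproj i a2 = tau q e f lam (bproj i a) := by
    have := hcomp i
    rw [πi, hg1] at this
    simpa using this
  have c2k : bproj k a2 = bproj j a := by
    have := hcomp j
    rw [πj, hg1] at this
    simp only [hij.symm, Ne.symm hpj, if_false] at this
    rw [this, tau_one bp]
  have c2j : bproj j a2 = 0 := by
    have := hcomp p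
    rw [πp, hg1, hoth p hpi hpj, tau_zero] at this
    exact this
  -- the coefficient
  have hB : B Q a a2 = (lam + lam⁻¹) * q (bproj i a) := by
    rw [QB.B_eq bp.toBM0, Finset.sum_eq_single i]
    · rw [c2i, polar_tau bp]
    · intro m _ hmi
      by_cases hmj : m = j
      · rw [hmj, c2j, QuadraticMap.polar_zero_right]
      · rw [hoth m hmi hmj, QuadraticMap.polar_zero_left]
    · intro h; exact absurd (Finset.mem_univ i) h
  set c : F := (Q a)⁻¹ * B Q a a2 with hc
  have hlam2 : lam + lam⁻¹ ≠ 0 := by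
    intro h
    apply hl2
    field_simp at h
    linear_combination h
  have hc0 : c ≠ 0 := by
    rw [hc, hB]
    exact mul_ne_zero (inv_ne_zero ha0) (mul_ne_zero hlam2 hni)
  have hact : mt Q (reflO Q a ha0) *ᵥ a2 = a2 - c • a := RACT.mulVec a ha0 a2
  refine ⟨_, k, ha3, Ne.symm hki, Ne.symm hkj, ?_, ?_, ?_⟩
  · -- block `i`
    rw [hact, QB.bproj_sub, QB.bproj_smul, c2i]
    intro h0
    have h1 := congrArg (fun y => QuadraticMap.polar ⇑q y f) h0
    have h2 := congrArg (fun y => QuadraticMap.polar ⇑q y e) h0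
    simp only [QuadraticMap.polar_sub_left, QuadraticMap.polar_smul_left, tau_pf bp, tau_pe bp,
      QuadraticMap.polar_zero_left, smul_eq_mul] at h1 h2
    have hne : QuadraticMap.polar ⇑q (bproj i a) f ≠ 0 ∧ QuadraticMap.polar ⇑q (bproj i a) e ≠ 0 := by
      rw [q_eq bp] at hni
      exact ⟨left_ne_zero_of_mul hni, right_ne_zero_of_mul hni⟩
    have e1 : lam = c := by
      have : (lam - c) * QuadraticMap.polar ⇑q (bproj i a) f = 0 := by linear_combination h1
      exact sub_eq_zero.mp ((mul_eq_zero.mp this).resolve_right hne.1)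
    have e2 : lam⁻¹ = c := by
      have : (lam⁻¹ - c) * QuadraticMap.polar ⇑q (bproj i a) e = 0 := by linear_combination h2
      exact sub_eq_zero.mp ((mul_eq_zero.mp this).resolve_right hne.2)
    apply hl1
    calc lam * lam = lam * c := by rw [← e1]
      _ = lam * lam⁻¹ := by rw [e2]
      _ = 1 := mul_inv_cancel₀ hl0
  · -- block `j`
    rw [hact, QB.bproj_sub, QB.bproj_smul, c2j, zero_sub]
    exact neg_ne_zero.mpr (smul_ne_zero hc0 hj0)
  · -- block `k`
    rw [hact, QB.bproj_sub, QB.bproj_smul, c2k, hoth k hki hkj, smul_zero, sub_zero]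
    exact hj0

end Cfsg.Agent.K2P.H29

namespace Cfsg.Agent.K2P

open Matrix Cfsg.Agent.OC2P Cfsg.Agent.Helper28.Sg Cfsg.Agent.Helper28.Spin
  Cfsg.Agent.Helper12.OrthGen Cfsg.Agent.K2M Cfsg.Agent.K2P Cfsg.Agent.K2P.H29

variable {F : Type*} [Field F] [Fintype F] {t : ℕ} {Q : QuadraticForm F (Fin t × Fin 2 → F)}
  {q : QuadraticForm F (Fin 2 → F)} {e f : Fin 2 → F}

/-- **Chapter B (SIEGEL from `InA`)**, whole-chapter version of helper29 -/
theorem B29.main (bp : BP Q q e f) (ht : 7 ≤ t) (hF : 7 ≤ Fintype.card F) {M : Subgroup (OG Q)}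
    (hM : HasMO M) {a : Fin t × Fin 2 → F} (ha : InA M a) (hab : ¬ IsBlk a) : SiegOut M := by
  obtain ⟨i, j, hij, hi, hj⟩ := SSUPP.main (by omega) hab
  by_cases h3 : ∃ k, k ≠ i ∧ k ≠ j ∧ bproj k a ≠ 0
  · obtain ⟨k, hki, hkj, hk⟩ := h3
    exact of_three bp (by omega) hF hM ha hij (Ne.symm hki) (Ne.symm hkj) hi hj hk
  · push Not at h3
    by_cases hqi : q (bproj i a) = 0
    · exact caseS bp (by omega) (by omega) hM ha (Ne.symm hij) hi hqi hj
    by_cases hqj : q (bproj j a) = 0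
    · exact caseS bp (by omega) (by omega) hM ha hij hj hqj hi
    obtain ⟨a', k, ha', hik, hjk, h1, h2, h3'⟩ := add23 bp (by omega) hF hM ha hij hqi hqj h3
    exact of_three bp (by omega) hF hM ha' hij hik hjk h1 h2 h3'

/-- the same in the shape of helper14's glue -/
theorem B29.main' (bp : BP Q q e f) (ht : 7 ≤ t) (hF : 7 ≤ Fintype.card F) {M : Subgroup (OG Q)}
    (hM : HasMO M) {a : Fin t × Fin 2 → F} (ha : InA M a) (hab : ¬ IsBlk a) :
    SiegF Q q e f M ∨ SiegOut M :=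
  Or.inr (B29.main bp ht hF hM ha hab)

end Cfsg.Agent.K2P
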