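import Mathlib
import Cfsg.Prelude.Def_Characters
import Cfsg.Agent.Helper8.RegularOrbitBound
import Cfsg.Agent.Helper8.InducedSet
import Cfsg.Agent.Helper23.PrincipalBlock

/-!
# `k(GV)`-type class number bounds

The inequality `k(X) + |X : P| ≤ |C_X(g)| + k(X / P)` for a normal abelian Sylow subgroup `P`
of `X` and `g ∈ P`, and its translation to complements.
-/

set_option autoImplicit false
set_option linter.style.haveILetI false
set_option linter.unusedSectionVars false
set_option linter.unusedVariables false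

namespace Cfsg.Agent.Helper29.KGV

open Cfsg

theorem card_conjClasses_congr {A B : Type*} [Group A] [Group B] (e : A ≃* B) :
    Nat.card (ConjClasses A) = Nat.card (ConjClasses B) := by
  refine Nat.card_congr ⟨ConjClasses.map e.toMonoidHom, ConjClasses.map e.symm.toMonoidHom, ?_, ?_⟩
  · intro c
    obtain ⟨a, rfl⟩ := ConjClasses.mk_surjective c
    show ConjClasses.mk (e.symm (e a)) = ConjClasses.mk a
    rw [MulEquiv.symm_apply_apply]
  · intro c
    obtain ⟨a, rfl⟩ := ConjClasses.mk_surjective c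
    show ConjClasses.mk (e (e.symm a)) = ConjClasses.mk a
    rw [MulEquiv.apply_symm_apply]

section Main

variable {G : Type*} [Group G] [Finite G] {p : ℕ} [hp : Fact p.Prime]

/-- **The stabilizer bound**: `k(G) + |G : P| ≤ |C_G(g)| + k(G / P)`. -/
theorem card_irr_add_index_le (P : Sylow p G) [hPn : (P : Subgroup G).Normal]
    (hab : ∀ a ∈ P, ∀ b ∈ P, a * b = b * a) (g : G) (hg : g ∈ P) :
    Nat.card (Cfsg.IrrCharacter G) + (P : Subgroup G).index ≤
      Nat.card (Subgroup.centralizer ({g} : Set G)) +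
        Nat.card (Cfsg.IrrCharacter (G ⧸ (P : Subgroup G))) := by
  classical
  haveI : Fintype G := Fintype.ofFinite G
  haveI : Fintype (Cfsg.IrrCharacter G) := Fintype.ofFinite _
  haveI : Fintype (Cfsg.IrrCharacter (G ⧸ (P : Subgroup G))) := Fintype.ofFinite _
  haveI : Fintype (P : Subgroup G) := Fintype.ofFinite _
  set N : ℕ := Fintype.card (ZMod (Nat.card G))ˣ with hN
  have hNpos : 0 < N := Fintype.card_pos
  have hNr : (0 : ℝ) < N := by exact_mod_cast hNpos
  set C : ℕ := Nat.card (Subgroup.centralizer ({g} : Set G)) with hC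
  -- column orthogonality at each `g ^ u`
  have hcol : ∀ u : (ZMod (Nat.card G))ˣ,
      ∑ χ : Cfsg.IrrCharacter G, ‖(χ : G → ℂ) (g ^ (u : ZMod (Nat.card G)).val)‖ ^ 2
        = (C : ℝ) := by
    intro u
    have h1 := Cfsg.Agent.Helper24.sum_irr_mul_conj (g ^ (u : ZMod (Nat.card G)).val)
      (g ^ (u : ZMod (Nat.card G)).val)
    rw [if_pos (IsConj.refl _),
      Cfsg.Agent.Helper8.centralizer_pow_eq_of_pow (Cfsg.Agent.Helper8.pow_uval_pow_inv g u)] at h1
    have h2 : ∀ χ : Cfsg.IrrCharacter G,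
        (χ : G → ℂ) (g ^ (u : ZMod (Nat.card G)).val)
          * (starRingEnd ℂ) ((χ : G → ℂ) (g ^ (u : ZMod (Nat.card G)).val))
        = ((‖(χ : G → ℂ) (g ^ (u : ZMod (Nat.card G)).val)‖ ^ 2 : ℝ) : ℂ) := by
      intro χ
      rw [Complex.mul_conj, Complex.normSq_eq_norm_sq]
    simp only [h2] at h1
    have h3 : ((∑ χ : Cfsg.IrrCharacter G,
        ‖(χ : G → ℂ) (g ^ (u : ZMod (Nat.card G)).val)‖ ^ 2 : ℝ) : ℂ)
        = ((C : ℝ) : ℂ) := by
      push_cast at h1 ⊢
      exact h1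
    exact Complex.ofReal_injective h3
  -- the double sum
  have hdouble : ∑ χ : Cfsg.IrrCharacter G, ∑ u : (ZMod (Nat.card G))ˣ,
      ‖(χ : G → ℂ) (g ^ (u : ZMod (Nat.card G)).val)‖ ^ 2 = (N : ℝ) * (C : ℝ) := by
    rw [Finset.sum_comm]
    simp only [hcol]
    rw [Finset.sum_const, Finset.card_univ, nsmul_eq_mul]
  have hge : ∀ χ : Cfsg.IrrCharacter G, (N : ℝ)
      ≤ ∑ u : (ZMod (Nat.card G))ˣ, ‖(χ : G → ℂ) (g ^ (u : ZMod (Nat.card G)).val)‖ ^ 2 :=
    fun χ => Cfsg.Agent.Helper8.sum_sq_ge_card_units P hab g hg χ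
  -- the characters with `P` in the kernel
  set I₀ : Finset (Cfsg.IrrCharacter G) := Finset.univ.filter (fun θ : Cfsg.IrrCharacter G =>
        ∀ a : (P : Subgroup G), (θ : G → ℂ) a = (θ : G → ℂ) 1) with hI₀
  have hker : ∀ χ ∈ I₀, ∑ u : (ZMod (Nat.card G))ˣ,
      ‖(χ : G → ℂ) (g ^ (u : ZMod (Nat.card G)).val)‖ ^ 2 = (N : ℝ) * ‖(χ : G → ℂ) 1‖ ^ 2 := by
    intro χ hχ
    rw [hI₀, Finset.mem_filter] at hχ
    have h1 : ∀ u : (ZMod (Nat.card G))ˣ, (χ : G → ℂ) (g ^ (u : ZMod (Nat.card G)).val)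
        = (χ : G → ℂ) 1 := fun u => hχ.2 ⟨_, Subgroup.pow_mem _ hg _⟩
    simp only [h1]
    rw [Finset.sum_const, Finset.card_univ, nsmul_eq_mul]
  have hsq := Cfsg.Agent.Helper8.sum_sq_degree_of_kernel (K := G) (P : Subgroup G)
  -- real version of the sum of squares
  have hsqr : ∑ χ ∈ I₀, ‖(χ : G → ℂ) 1‖ ^ 2 = ((P : Subgroup G).index : ℝ) := by
    have h1 : ∀ χ : Cfsg.IrrCharacter G, ((χ : G → ℂ) 1) ^ 2 = ((‖(χ : G → ℂ) 1‖ ^ 2 : ℝ) : ℂ) := by
      intro χ
      rw [Cfsg.Agent.Helper24.irrDeg_spec, Complex.norm_natCast]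
      push_cast
      rfl
    have h2 : ((∑ χ ∈ I₀, ‖(χ : G → ℂ) 1‖ ^ 2 : ℝ) : ℂ) = (((P : Subgroup G).index : ℝ) : ℂ) := by
      push_cast
      rw [← hsq]
      refine Finset.sum_congr rfl ?_
      intro χ _
      rw [h1 χ]
      push_cast
      rfl
    exact Complex.ofReal_injective h2
  -- split the sum
  have hsplit : (N : ℝ) * ((P : Subgroup G).index : ℝ)
      + (N : ℝ) * ((Fintype.card (Cfsg.IrrCharacter G) : ℝ) - (I₀.card : ℝ))
      ≤ (N : ℝ) * (C : ℝ) := by
    rw [← hdouble, ← Finset.sum_filter_add_sum_filter_not Finset.univ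
      (fun θ : Cfsg.IrrCharacter G => ∀ a : (P : Subgroup G), (θ : G → ℂ) a = (θ : G → ℂ) 1)]
    refine add_le_add ?_ ?_
    · rw [← hsqr, Finset.mul_sum]
      exact le_of_eq (Finset.sum_congr rfl (fun χ hχ => (hker χ hχ).symm))
    · have hcard : ((Finset.univ.filter (fun θ : Cfsg.IrrCharacter G =>
          ¬ ∀ a : (P : Subgroup G), (θ : G → ℂ) a = (θ : G → ℂ) 1)).card : ℝ)
          = (Fintype.card (Cfsg.IrrCharacter G) : ℝ) - (I₀.card : ℝ) := by
        have := Finset.card_filter_add_card_filter_not (s := (Finset.univ :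
          Finset (Cfsg.IrrCharacter G)))
          (fun θ : Cfsg.IrrCharacter G => ∀ a : (P : Subgroup G), (θ : G → ℂ) a = (θ : G → ℂ) 1)
        rw [Finset.card_univ] at this
        rw [← this]
        push_cast
        ring
      rw [← hcard, mul_comm, ← nsmul_eq_mul, ← Finset.sum_const]
      exact Finset.sum_le_sum (fun χ _ => hge χ)
  -- count `I₀`
  have hI₀card : I₀.card = Fintype.card (Cfsg.IrrCharacter (G ⧸ (P : Subgroup G))) := by
    have himage : Finset.univ.image (Cfsg.Agent.Helper24.irrInflate (P : Subgroup G)) = I₀ := by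
      ext ψ
      rw [Finset.mem_image, hI₀, Finset.mem_filter]
      constructor
      · rintro ⟨ψ', _, rfl⟩
        refine ⟨Finset.mem_univ _, ?_⟩
        intro a
        show (ψ' : G ⧸ (P : Subgroup G) → ℂ) (QuotientGroup.mk (a : G))
          = (ψ' : G ⧸ (P : Subgroup G) → ℂ) (QuotientGroup.mk 1)
        rw [(QuotientGroup.eq_one_iff (a : G)).mpr a.2, QuotientGroup.mk_one]
      · rintro ⟨_, h⟩
        obtain ⟨ψ', hψ'⟩ := Cfsg.Agent.Helper23.PB.exists_irr_quotient (P : Subgroup G) ψ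
          (fun n hn => h ⟨n, hn⟩)
        refine ⟨ψ', Finset.mem_univ _, ?_⟩
        apply Subtype.ext
        funext x
        exact hψ' x
    rw [← himage, Finset.card_image_of_injective _
      (Cfsg.Agent.Helper24.irrInflate_injective (P : Subgroup G)), Finset.card_univ]
  have hfinal : ((P : Subgroup G).index : ℝ)
      + ((Fintype.card (Cfsg.IrrCharacter G) : ℝ) - (I₀.card : ℝ)) ≤ (C : ℝ) := by
    have : (N : ℝ) * (((P : Subgroup G).index : ℝ)
      + ((Fintype.card (Cfsg.IrrCharacter G) : ℝ) - (I₀.card : ℝ))) ≤ (N : ℝ) * (C : ℝ) := by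
      rw [mul_add]
      exact hsplit
    exact le_of_mul_le_mul_left this hNr
  rw [hI₀card] at hfinal
  rw [Nat.card_eq_fintype_card (α := Cfsg.IrrCharacter G),
    Nat.card_eq_fintype_card (α := Cfsg.IrrCharacter (G ⧸ (P : Subgroup G)))]
  have : ((Fintype.card (Cfsg.IrrCharacter G) + (P : Subgroup G).index : ℕ) : ℝ)
      ≤ ((C + Fintype.card (Cfsg.IrrCharacter (G ⧸ (P : Subgroup G))) : ℕ) : ℝ) := by
    push_cast
    linarith
  exact_mod_cast this

end Main

section Complement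

variable {X : Type*} [Group X]

/-- If `V` is abelian with complement `G` and `v ∈ V`, then `|C_X(v)| = |C_G(v)| |V|`. -/
theorem card_centralizer_eq (V : Subgroup X)
    (hab : ∀ a ∈ V, ∀ b ∈ V, a * b = b * a) (G : Subgroup X)
    (hGV : Subgroup.IsComplement' V G) (v : X) (hv : v ∈ V) :
    Nat.card (Subgroup.centralizer ({v} : Set X)) =
      Nat.card ↥(G ⊓ Subgroup.centralizer ({v} : Set X)) * Nat.card V := by
  set C := Subgroup.centralizer ({v} : Set X) with hC
  have hVC : V ≤ C := by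
    intro a ha
    rw [hC, Subgroup.mem_centralizer_iff]
    intro y hy
    rw [Set.mem_singleton_iff] at hy
    subst hy
    exact hab y hv a ha
  have hGC : G ⊓ C ≤ C := inf_le_right
  have hcomp : Subgroup.IsComplement' ((G ⊓ C).subgroupOf C) (V.subgroupOf C) := by
    apply Subgroup.isComplement'_of_disjoint_and_mul_eq_univ
    · rw [Subgroup.disjoint_def]
      intro x hx1 hx2
      rw [Subgroup.mem_subgroupOf] at hx1 hx2
      have h1 : (x : X) ∈ V ⊓ G := ⟨hx2, hx1.1⟩
      rw [hGV.disjoint.eq_bot, Subgroup.mem_bot] at h1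
      exact Subtype.ext h1
    · rw [Set.eq_univ_iff_forall]
      intro c
      obtain ⟨⟨b, a⟩, hba⟩ := hGV.symm.2 (c : X)
      have hba' : (b : X) * (a : X) = c := hba
      have hbC : (b : X) ∈ C := by
        have : (b : X) = c * (a : X)⁻¹ := by rw [← hba']; group
        rw [this]
        exact C.mul_mem c.2 (C.inv_mem (hVC a.2))
      rw [Set.mem_mul]
      refine ⟨⟨b, hbC⟩, ?_, ⟨a, hVC a.2⟩, ?_, ?_⟩
      · rw [SetLike.mem_coe, Subgroup.mem_subgroupOf]
        exact ⟨b.2, hbC⟩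
      · rw [SetLike.mem_coe, Subgroup.mem_subgroupOf]
        exact a.2
      · exact Subtype.ext hba'
  have h1 := hcomp.card_mul_card
  rw [Nat.card_congr (Subgroup.subgroupOfEquivOfLe hGC).toEquiv,
    Nat.card_congr (Subgroup.subgroupOfEquivOfLe hVC).toEquiv] at h1
  exact h1.symm

variable [Finite X]

/-- **S4955**: `k(X) + |G| ≤ |C_G(v)| |V| + k(G)`. -/
theorem stabilizer_bound (p : ℕ) [Fact p.Prime] (V : Subgroup X) [V.Normal]
    (hVp : IsPGroup p V) (hidx : ¬ p ∣ V.index) (hab : ∀ a ∈ V, ∀ b ∈ V, a * b = b * a)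
    (G : Subgroup X) (hGV : Subgroup.IsComplement' V G) (v : X) (hv : v ∈ V) :
    Nat.card (ConjClasses X) + Nat.card G ≤
      Nat.card ↥(G ⊓ Subgroup.centralizer ({v} : Set X)) * Nat.card V
        + Nat.card (ConjClasses G) := by
  classical
  set P : Sylow p X := hVp.toSylow hidx with hP
  have hPV : (P : Subgroup X) = V := IsPGroup.toSylow_coe hVp hidx
  haveI hPn : (P : Subgroup X).Normal := by rw [hPV]; infer_instance
  have hab' : ∀ a ∈ P, ∀ b ∈ P, a * b = b * a := fun a ha b hb =>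
    hab a ((IsPGroup.mem_toSylow hVp hidx).mp ha) b ((IsPGroup.mem_toSylow hVp hidx).mp hb)
  have key := card_irr_add_index_le P hab' v ((IsPGroup.mem_toSylow hVp hidx).mpr hv)
  have hGP : Subgroup.IsComplement' G (P : Subgroup X) := by rw [hPV]; exact hGV.symm
  rw [Cfsg.Agent.Helper24.card_irr_eq_card_conjClasses,
    Cfsg.Agent.Helper24.card_irr_eq_card_conjClasses,
    card_conjClasses_congr hGP.QuotientMulEquiv, hGP.index_eq_card,
    card_centralizer_eq V hab G hGV v hv] at key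
  exact key

end Complement

end Cfsg.Agent.Helper29.KGV
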