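import Mathlib
import Cfsg.Agent.Helper29.KWGeneral

set_option autoImplicit false
set_option linter.unusedSectionVars false

namespace Cfsg.Agent.Helper29.KW

open Subgroup
open scoped Pointwise

universe u

/-- the conclusion: a proper normal subgroup containing one of the factors -/
def HasProperNormal {G : Type u} [Group G] (A B : Subgroup G) : Prop :=
  ∃ N : Subgroup G, N.Normal ∧ N ≠ ⊤ ∧ (A ≤ N ∨ B ≤ N)

section

variable {G : Type u} [Group G] [Finite G]

/-- in a nilpotent group a proper subgroup lies in a proper normal subgroup -/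
theorem exists_proper_normal_of_nilpotent [Group.IsNilpotent G] {B : Subgroup G} (hB : B ≠ ⊤) :
    ∃ N : Subgroup G, N.Normal ∧ N ≠ ⊤ ∧ B ≤ N := by
  obtain ⟨K, hK, hBK⟩ := (eq_top_or_exists_le_coatom B).resolve_left hB
  exact ⟨K, NormalizerCondition.normal_of_coatom K Group.normalizerCondition_of_isNilpotent hK,
    hK.1, hBK⟩

/-- if `A ⊔ N = ⊤` with `N` normal then `G = AN` -/
theorem fac_of_sup_eq_top {A N : Subgroup G} [N.Normal] (h : A ⊔ N = ⊤) : Fac A N := by
  intro g
  have : g ∈ ((A ⊔ N : Subgroup G) : Set G) := by rw [h]; trivial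
  rw [Subgroup.mul_normal] at this
  obtain ⟨a, ha, n, hn, e⟩ := this
  exact ⟨a, ha, n, hn, e.symm⟩

theorem eq_top_of_fac_of_le {A N : Subgroup G} (h : Fac A N) (hNA : N ≤ A) : A = ⊤ := by
  rw [eq_top_iff]
  intro g _
  obtain ⟨a, ha, n, hn, rfl⟩ := h g
  exact A.mul_mem ha (hNA hn)

/-- lifting a proper normal subgroup from a quotient -/
theorem hasProperNormal_of_quotient {A B : Subgroup G} (N₀ : Subgroup G) [N₀.Normal]
    (h : HasProperNormal (A.map (QuotientGroup.mk' N₀)) (B.map (QuotientGroup.mk' N₀))) :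
    HasProperNormal A B := by
  obtain ⟨N', hN'n, hN'T, hN'⟩ := h
  refine ⟨N'.comap (QuotientGroup.mk' N₀), hN'n.comap _, ?_, ?_⟩
  · intro hT
    apply hN'T
    rw [eq_top_iff]
    intro q _
    obtain ⟨g, rfl⟩ := QuotientGroup.mk'_surjective N₀ q
    have : g ∈ N'.comap (QuotientGroup.mk' N₀) := by rw [hT]; trivial
    exact this
  · rcases hN' with h1 | h1
    · exact Or.inl (le_trans (Subgroup.le_comap_map _ _) (Subgroup.comap_mono h1))
    · exact Or.inr (le_trans (Subgroup.le_comap_map _ _) (Subgroup.comap_mono h1))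

theorem sup_eq_top_of_map_eq_top {A N₀ : Subgroup G} [N₀.Normal]
    (h : A.map (QuotientGroup.mk' N₀) = ⊤) : A ⊔ N₀ = ⊤ := by
  have := Subgroup.comap_map_eq (QuotientGroup.mk' N₀) A
  rw [h, Subgroup.comap_top, QuotientGroup.ker_mk'] at this
  exact this.symm

end

theorem proper_normal_aux (n : ℕ) : ∀ {G : Type u} [Group G] [Finite G], Nat.card G = n →
    ∀ A B : Subgroup G, Group.IsNilpotent A → Group.IsNilpotent B → Fac A B →
      (A ≠ ⊤ ∨ B ≠ ⊤) → HasProperNormal A B := by
  induction n using Nat.strong_induction_on with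
  | _ n ih =>
    intro G _ _ hn A B hA hB hfac hproper
    by_contra hno
    -- quotient step
    have hquot : ∀ (N₀ : Subgroup G) [N₀.Normal], N₀ ≠ ⊥ → A ⊔ N₀ = ⊤ ∧ B ⊔ N₀ = ⊤ := by
      intro N₀ _ hN₀
      by_contra hcon
      apply hno
      apply hasProperNormal_of_quotient N₀
      apply ih _ (hn ▸ card_quotient_lt hN₀) rfl _ _ (nilpotent_map_mk hA N₀)
        (nilpotent_map_mk hB N₀) (hfac.quotient N₀)
      by_contra h2
      push Not at h2
      exact hcon ⟨sup_eq_top_of_map_eq_top h2.1, sup_eq_top_of_map_eq_top h2.2⟩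
    -- a factor equal to `G` is impossible
    have hAtop : A ≠ ⊤ := by
      intro hAT
      have hBT : B ≠ ⊤ := hproper.resolve_left (not_not.mpr hAT)
      have e : A ≃* G := (MulEquiv.subgroupCongr hAT).trans Subgroup.topEquiv
      have : Group.IsNilpotent G := Group.nilpotent_of_mulEquiv e
      obtain ⟨N, hNn, hNT, hBN⟩ := exists_proper_normal_of_nilpotent hBT
      exact hno ⟨N, hNn, hNT, Or.inr hBN⟩
    have hBtop : B ≠ ⊤ := by
      intro hBT
      have e : B ≃* G := (MulEquiv.subgroupCongr hBT).trans Subgroup.topEquiv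
      have : Group.IsNilpotent G := Group.nilpotent_of_mulEquiv e
      obtain ⟨N, hNn, hNT, hAN⟩ := exists_proper_normal_of_nilpotent hAtop
      exact hno ⟨N, hNn, hNT, Or.inl hAN⟩
    have hsolv : Group.IsSolvable G := kegel_wielandt hA hB hfac
    have hnt : Nontrivial G := by
      by_contra hnt
      rw [not_nontrivial_iff_subsingleton] at hnt
      exact hAtop (Subsingleton.elim _ _)
    obtain ⟨p, hp, P, hPn, hPp, hP1⟩ := Cfsg.Agent.Lead.exists_normal_pgroup_of_isSolvable (G := G)
    have : Fact p.Prime := ⟨hp⟩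
    -- a minimal normal subgroup inside `P`
    obtain ⟨M, ⟨hMn, hM1, hMP⟩, hMmin⟩ := WellFounded.has_min
      (InvImage.wf (fun K : Subgroup G => Nat.card K) Nat.lt_wfRel.wf)
      {K : Subgroup G | K.Normal ∧ K ≠ ⊥ ∧ K ≤ P} ⟨P, hPn, hP1, le_rfl⟩
    have hmin : ∀ K : Subgroup G, K.Normal → K ≠ ⊥ → K ≤ M → K = M := by
      intro K hKn hK1 hKM
      have := hMmin K ⟨hKn, hK1, le_trans hKM hMP⟩
      have h2 : Nat.card M ≤ Nat.card K := Nat.le_of_not_lt this
      exact Subgroup.eq_of_le_of_card_ge hKM h2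
    have hMp : IsPGroup p M := hPp.to_le hMP
    -- `M` is abelian
    have hMab : ∀ x ∈ M, ∀ y ∈ M, x * y = y * x := by
      have hntM : Nontrivial M := (Subgroup.nontrivial_iff_ne_bot M).mpr hM1
      have hcn : Nontrivial (center M) := IsPGroup.center_nontrivial hMp
      obtain ⟨⟨z, hz⟩, hz1⟩ := exists_ne (1 : center M)
      have hKn : (M ⊓ centralizer (M : Set G)).Normal := inferInstance
      have hK1 : M ⊓ centralizer (M : Set G) ≠ ⊥ := by
        intro hbot
        have hzK : (z : G) ∈ M ⊓ centralizer (M : Set G) := by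
          refine Subgroup.mem_inf.mpr ⟨z.2, ?_⟩
          rw [mem_centralizer_iff]
          intro m hm
          have := (Subgroup.mem_center_iff.mp hz) ⟨m, hm⟩
          exact congrArg Subtype.val this
        rw [hbot, mem_bot] at hzK
        apply hz1
        apply Subtype.ext
        apply Subtype.ext
        exact hzK
      have hKM := hmin _ hKn hK1 inf_le_left
      intro x hx y hy
      have hxc : x ∈ centralizer (M : Set G) := by
        have : x ∈ M ⊓ centralizer (M : Set G) := by rw [hKM]; exact hx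
        exact this.2
      exact (mem_centralizer_iff.mp hxc y hy).symm
    obtain ⟨hAM, hBM⟩ := hquot M hM1
    -- the key facts for one factor
    have key : ∀ A' : Subgroup G, Group.IsNilpotent A' → A' ≠ ⊤ → A' ⊔ M = ⊤ →
        (∀ N₀ : Subgroup G, N₀.Normal → N₀ ≠ ⊥ → N₀ ≤ A' → False) →
        A' ⊓ M = ⊥ ∧ ¬ p ∣ Nat.card A' := by
      intro A' hA' hA'top hA'M hA'no
      have hfacM : Fac A' M := fac_of_sup_eq_top hA'M
      -- conjugation by `g = a m` on elements commuting with `M`
      have hconj : ∀ x : G, (∀ m ∈ M, m * x = x * m) → ∀ g : G, ∃ a ∈ A', g * x * g⁻¹ = a * x * a⁻¹ := by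
        intro x hx g
        obtain ⟨a, ha, m, hm, rfl⟩ := hfacM g
        refine ⟨a, ha, ?_⟩
        rw [mul_inv_rev, mul_assoc a m x, hx m hm]; group
      have hinf : A' ⊓ M = ⊥ := by
        by_contra hne
        have hKn : (A' ⊓ M).Normal := by
          refine ⟨fun x hx g => ?_⟩
          obtain ⟨a, ha, e⟩ := hconj x (fun m hm => hMab m hm x hx.2) g
          rw [e]
          exact ⟨A'.mul_mem (A'.mul_mem ha hx.1) (A'.inv_mem ha), hMn.conj_mem x hx.2 a⟩
        exact hA'no _ hKn hne inf_le_left
      refine ⟨hinf, ?_⟩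
      intro hpA'
      -- the centralizer of `M` in `A'` is trivial
      have hC : A' ⊓ centralizer (M : Set G) = ⊥ := by
        by_contra hne
        have hKn : (A' ⊓ centralizer (M : Set G)).Normal := by
          refine ⟨fun x hx g => ?_⟩
          obtain ⟨a, ha, e⟩ := hconj x (fun m hm => mem_centralizer_iff.mp hx.2 m hm) g
          rw [e]
          have hcn : (centralizer (M : Set G)).Normal := inferInstance
          exact ⟨A'.mul_mem (A'.mul_mem ha hx.1) (A'.inv_mem ha), hcn.conj_mem x hx.2 a⟩
        exact hA'no _ hKn hne inf_le_left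
      obtain ⟨z, hzA', hzc, hzo⟩ := exists_central_of_dvd hA' hpA'
      have hz1 : z ≠ 1 := by
        intro hz
        rw [hz, orderOf_one] at hzo
        exact hp.one_lt.ne hzo
      -- fixed points of `z` on `M`
      set F : Subgroup G := M ⊓ centralizer ({z} : Set G) with hF
      have hF1 : F ≠ ⊥ := by
        intro hbot
        have hmod := Cfsg.Agent.Helper5.card_modEq_one_of_fixedPointFree M p z hzo
          (by rw [normalizer_eq_top_iff.mpr hMn]; trivial) (by
          intro k hk hzk
          have : k ∈ F := ⟨hk, MinCE.mem_centralizer_singleton.mpr hzk⟩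
          rwa [hbot, mem_bot] at this)
        have hpM : p ∣ Nat.card M := pgroup_dvd_card hMp hM1
        have h0 : Nat.card M % p = 0 := Nat.mod_eq_zero_of_dvd hpM
        rw [Nat.ModEq, h0, Nat.mod_eq_of_lt hp.one_lt] at hmod
        exact absurd hmod (by norm_num)
      have hFn : F.Normal := by
        refine ⟨fun x hx g => ?_⟩
        obtain ⟨a, ha, e⟩ := hconj x (fun m hm => hMab m hm x hx.1) g
        rw [e]
        refine Subgroup.mem_inf.mpr ⟨hMn.conj_mem x hx.1 a, ?_⟩
        rw [MinCE.mem_centralizer_singleton]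
        have h1 : z * x = x * z := MinCE.mem_centralizer_singleton.mp hx.2
        have h2 : a * z = z * a := hzc a ha
        calc z * (a * x * a⁻¹) = (z * a) * x * a⁻¹ := by group
          _ = a * (z * x) * a⁻¹ := by rw [← h2]; group
          _ = a * x * (z * a⁻¹) := by rw [h1]; group
          _ = a * x * (a⁻¹ * (a * z) * a⁻¹) := by group
          _ = a * x * a⁻¹ * z := by rw [h2]; group
      have hFM := hmin F hFn hF1 inf_le_left
      have hzC : z ∈ A' ⊓ centralizer (M : Set G) := by
        refine Subgroup.mem_inf.mpr ⟨hzA', ?_⟩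
        rw [mem_centralizer_iff]
        intro m hm
        have : m ∈ F := by rw [hFM]; exact hm
        exact (MinCE.mem_centralizer_singleton.mp this.2).symm
      rw [hC, mem_bot] at hzC
      exact hz1 hzC
    have hAkey := key A hA hAtop hAM (by
      intro N₀ hN₀n hN₀1 hN₀A
      have := (hquot N₀ hN₀1).1
      exact hAtop (eq_top_of_fac_of_le (fac_of_sup_eq_top this) hN₀A))
    have hBkey := key B hB hBtop hBM (by
      intro N₀ hN₀n hN₀1 hN₀B
      have := (hquot N₀ hN₀1).2
      exact hBtop (eq_top_of_fac_of_le (fac_of_sup_eq_top this) hN₀B))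
    -- counting
    have h1 := Cfsg.Agent.Helper3.card_mul_card_inf_of_prod A M (fac_of_sup_eq_top hAM)
    rw [hAkey.1, Subgroup.card_bot, mul_one] at h1
    have h2 := Cfsg.Agent.Helper3.card_mul_card_inf_of_prod A B hfac
    rw [h1] at h2
    have hApos : 0 < Nat.card A := Nat.card_pos
    have h3 : Nat.card M * Nat.card (A ⊓ B : Subgroup G) = Nat.card B := by
      apply Nat.eq_of_mul_eq_mul_left hApos
      rw [← h2]; ring
    have hpM : p ∣ Nat.card M := pgroup_dvd_card hMp hM1
    exact hBkey.2 (h3 ▸ Dvd.dvd.mul_right hpM _)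

end Cfsg.Agent.Helper29.KW
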