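import Mathlib
import Cfsg.Prelude.Def_Blocks
import Cfsg.Agent.Helper5.BlockOrth
import Cfsg.Agent.Helper5.ThirdMain
import Cfsg.Agent.Helper24.Burnside
import Cfsg.Agent.Helper24.Ito
import Cfsg.Agent.Helper24.DefectZero

set_option autoImplicit false

/-! # Kazarin's theorem: the character-theoretic core -/

namespace Cfsg.Agent.Helper29.Kazarin

open Cfsg Cfsg.Agent.Helper24 Cfsg.Agent.Helper5 Cfsg.Agent.Helper5.Loc Cfsg.Agent.Helper5.CC
open Module

universe u

variable {G : Type u} [Group G] [Finite G]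

/-- If `G` is generated by the conjugates of `x`, an element of `q`-power order whose class size
is a power of `p`, then for a prime `r ∉ {p, q}` every nonprincipal character of the principal
`r`-block has degree divisible by `p`. -/
theorem dvd_degree_of_mem_principalBlock {p q r k j : ℕ} (hp : p.Prime) (hq : q.Prime)
    (hr : r.Prime) (hrp : r ≠ p) (hrq : r ≠ q) (M : Ideal AlgInt) (hM : IsPModular r M) (x : G)
    (hx : (Subgroup.centralizer ({x} : Set G)).index = p ^ k) (hxq : x ^ (q ^ j) = 1)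
    (hN : Subgroup.normalClosure ({x} : Set G) = ⊤)
    (χ : IrrCharacter G) (hχ : χ ∈ principalBlock M G) (hne : χ ≠ trivIrr G) :
    ∃ m : ℕ, (χ : G → ℂ) 1 = p * m := by
  have hMp := isPrime_of_isPModular hM
  obtain ⟨n, ρ, hρ, hχρ⟩ := χ.2
  haveI := hρ
  have hfr : finrank ℂ (Fin n → ℂ) = n := Module.finrank_fin_fun ℂ
  have h1 : (χ : G → ℂ) 1 = (n : ℂ) := by
    rw [← hχρ, Representation.char_one, hfr]
  by_cases hpd : p ∣ n
  · obtain ⟨m, hm⟩ := hpd
    exact ⟨m, by rw [h1, hm]; push_cast; ring⟩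
  exfalso
  have hSB : SameBlock M (fun _ : G => (1 : ℂ)) (χ : G → ℂ) := hχ
  have hSBx := hSB x
  have hc1 : centralChar (fun _ : G => (1 : ℂ)) x = ((p ^ k : ℕ) : ℂ) := by
    unfold centralChar
    rw [hx]
    simp
  have hrpk : ¬ r ∣ p ^ k := by
    intro h
    have := hr.dvd_of_dvd_pow h
    exact hrp ((Nat.prime_dvd_prime_iff_eq hr hp).mp this)
  have hnli : ¬ MemLocalIdeal M ((p ^ k : ℕ) : ℂ) := by
    rw [memLocalIdeal_natCast_iff hM]; exact hrpk
  -- χ x ≠ 0
  have hχx : (χ : G → ℂ) x ≠ 0 := by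
    intro h0
    have hc2 : centralChar (χ : G → ℂ) x = 0 := by
      unfold centralChar
      rw [h0]; simp
    rw [hc1, hc2, sub_zero] at hSBx
    exact hnli hSBx
  -- Burnside
  have hcop : Nat.Coprime (finrank ℂ (Fin n → ℂ)) (Subgroup.centralizer ({x} : Set G)).index := by
    rw [hx, hfr]
    exact Nat.Coprime.pow_right k ((Nat.Prime.coprime_iff_not_dvd hp).mpr hpd).symm
  have hnorm : ‖ρ.character x‖ = (finrank ℂ (Fin n → ℂ) : ℝ) := by
    rcases char_eq_zero_or_norm_eq_of_coprime ρ x hcop with h0 | hn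
    · exact absurd (hχρ ▸ h0) hχx
    · exact hn
  obtain ⟨ω, hω⟩ := (norm_char_eq_iff ρ x).mp hnorm
  -- everything acts by scalars
  have hmulinv : ∀ g : G, ∀ v : Fin n → ℂ, ρ g (ρ g⁻¹ v) = v := by
    intro g v
    have h2 : ρ g * ρ g⁻¹ = 1 := by rw [← map_mul, mul_inv_cancel, map_one]
    have h3 := LinearMap.congr_fun h2 v
    simpa using h3
  let S : Subgroup G :=
    { carrier := {g | ∃ c : ℂ, ρ g = c • (LinearMap.id : (Fin n → ℂ) →ₗ[ℂ] (Fin n → ℂ))}
      mul_mem' := by
        rintro a b ⟨c, hc⟩ ⟨d, hd⟩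
        refine ⟨c * d, ?_⟩
        rw [map_mul, hc, hd]
        refine LinearMap.ext fun v => ?_
        simp only [Module.End.mul_apply, LinearMap.smul_apply, LinearMap.id_coe, id_eq]
        rw [smul_smul]
      one_mem' := ⟨1, by rw [map_one, one_smul]; rfl⟩
      inv_mem' := by
        rintro a ⟨c, hc⟩
        refine ⟨c⁻¹, ?_⟩
        have hc0 : c ≠ 0 := by
          rintro rfl
          rw [zero_smul] at hc
          have h3 : finrank ℂ (Fin n → ℂ) = 0 := by
            have : Subsingleton (Fin n → ℂ) := by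
              constructor
              intro u v
              have hu := hmulinv a u
              have hv := hmulinv a v
              rw [hc] at hu hv
              rw [← hu, ← hv]; rfl
            exact Module.finrank_zero_of_subsingleton
          have := finrank_pos_of_isIrreducible ρ
          omega
        refine LinearMap.ext fun v => ?_
        have h3 := hmulinv a v
        rw [hc] at h3
        simp only [LinearMap.smul_apply, LinearMap.id_coe, id_eq] at h3 ⊢
        rw [← h3, smul_smul, inv_mul_cancel₀ hc0, one_smul, h3] }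
  have hSn : S.Normal := by
    constructor
    rintro a ⟨c, hc⟩ g
    refine ⟨c, ?_⟩
    rw [map_mul, map_mul, hc]
    refine LinearMap.ext fun v => ?_
    simp only [Module.End.mul_apply, LinearMap.smul_apply, LinearMap.id_coe, id_eq, map_smul]
    rw [hmulinv]
  have hST : S = ⊤ := by
    rw [eq_top_iff, ← hN]
    exact Subgroup.normalClosure_le_normal (Set.singleton_subset_iff.mpr ⟨ω, hω⟩)
  have hn1 : n = 1 := by
    have h2 := finrank_dvd_index_of_scalar ρ S (fun b hb => hb)
    rw [hST, Subgroup.index_top, hfr] at h2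
    exact Nat.dvd_one.mp h2
  subst hn1
  -- ω is a root of unity
  have hωpow : ω ^ (q ^ j) = 1 := by
    have h2 : ρ (x ^ (q ^ j)) = (ρ x) ^ (q ^ j) := map_pow ρ x _
    rw [hxq, map_one, hω] at h2
    have h3 := LinearMap.congr_fun h2 (fun _ => 1)
    have h4 : ∀ m : ℕ, (ω • (LinearMap.id : (Fin 1 → ℂ) →ₗ[ℂ] (Fin 1 → ℂ))) ^ m =
        (ω ^ m) • LinearMap.id := by
      intro m
      induction m with
      | zero => simp; rfl
      | succ m ih =>
        rw [pow_succ, ih, pow_succ]
        refine LinearMap.ext fun v => ?_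
        simp only [Module.End.mul_apply, LinearMap.smul_apply, LinearMap.id_coe, id_eq]
        rw [smul_smul]
    rw [h4] at h3
    have h5 := congrFun h3 0
    simp at h5
    exact h5.symm
  have hχx' : (χ : G → ℂ) x = ω := by
    rw [← hχρ]
    unfold Representation.character
    rw [hω, map_smul, LinearMap.trace_id, hfr]
    simp
  -- congruence at x
  have hc2 : centralChar (χ : G → ℂ) x = ((p ^ k : ℕ) : ℂ) * ω := by
    unfold centralChar
    rw [hx, hχx', h1]
    simp
  rw [hc1, hc2] at hSBx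
  have h6 : MemLocalIdeal M (((p ^ k : ℕ) : ℂ) * (1 - ω)) := by
    have : ((p ^ k : ℕ) : ℂ) * (1 - ω) = ((p ^ k : ℕ) : ℂ) - ((p ^ k : ℕ) : ℂ) * ω := by ring
    rw [this]; exact hSBx
  have hωint : IsIntegral ℤ ω :=
    IsIntegral.of_pow (pow_pos hq.pos j) (by rw [hωpow]; exact isIntegral_one)
  have h7 : MemLocalIdeal M (1 - ω) := by
    rcases li_of_mul hMp (memLocalRing_natCast hMp _)
      (lr_sub hMp (memLocalRing_one hMp) (memLocalRing_of_isIntegral hMp hωint)) h6 with h | h
    · exact absurd h hnli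
    · exact h
  set ω' : AlgInt := ⟨ω, hωint⟩ with hω'
  have h8 : (1 : AlgInt) - ω' ∈ M := by
    rw [← memLocalIdeal_algInt_iff hMp]
    have : (((1 : AlgInt) - ω' : AlgInt) : ℂ) = 1 - ω := by
      push_cast; rfl
    rw [this]; exact h7
  have hrq' : ¬ r ∣ q ^ j := by
    intro h
    have := hr.dvd_of_dvd_pow h
    exact hrq ((Nat.prime_dvd_prime_iff_eq hr hq).mp this)
  have h9 := root_of_unity_inj r M hM 1 ω' ⟨1, by simpa using hr.one_lt.ne', by simp⟩
    ⟨q ^ j, hrq', hωpow⟩ h8
  have hω1 : ω = 1 := by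
    have := congrArg (fun a : AlgInt => (a : ℂ)) h9
    simpa [hω'] using this.symm
  -- so ρ is trivial
  rw [hω1, one_smul] at hω
  let K : Subgroup G := (ρ : G →* _).ker
  have hKT : K = ⊤ := by
    rw [eq_top_iff, ← hN]
    apply Subgroup.normalClosure_le_normal
    rw [Set.singleton_subset_iff]
    exact hω
  apply hne
  apply Subtype.ext
  funext g
  rw [trivIrr_apply, ← hχρ]
  have hg : g ∈ K := by rw [hKT]; exact Subgroup.mem_top g
  have hg' : ρ g = 1 := hg
  unfold Representation.character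
  rw [hg']
  simp


/-- With `G` generated by the conjugates of a `q`-element `x` of `p`-power class size, no prime
outside `{p, q}` divides `|G|`. -/
theorem not_dvd_card {p q r k j : ℕ} (hp : p.Prime) (hq : q.Prime)
    (hr : r.Prime) (hrp : r ≠ p) (hrq : r ≠ q) (x : G)
    (hx : (Subgroup.centralizer ({x} : Set G)).index = p ^ k) (hxq : x ^ (q ^ j) = 1)
    (hN : Subgroup.normalClosure ({x} : Set G) = ⊤) : ¬ r ∣ Nat.card G := by
  intro hdvd
  haveI : Fact r.Prime := ⟨hr⟩
  obtain ⟨y, hy⟩ := exists_prime_orderOf_dvd_card' r hdvd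
  obtain ⟨M, hM⟩ := exists_isPModular r hr
  have hMp := isPrime_of_isPModular hM
  haveI : Fintype G := Fintype.ofFinite G
  haveI : Fintype (IrrCharacter G) := Fintype.ofFinite _
  classical
  have horth := block_orthogonality hM (isPBlock_principalBlock (M := M) (G := G)) 1 y
    (by rw [orderOf_one]; exact fun h => hr.one_lt.ne' (Nat.dvd_one.mp h)) (by rw [hy])
  have hp0 : (p : ℂ) ≠ 0 := by exact_mod_cast hp.ne_zero
  have key : ∀ χ : IrrCharacter G, ∃ β : ℂ, IsIntegral ℤ β ∧
      (χ ≠ trivIrr G → (if χ ∈ principalBlock M G then (1 : ℂ) else 0) *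
        ((χ : G → ℂ) 1 * (starRingEnd ℂ) ((χ : G → ℂ) y)) = p * β) := by
    intro χ
    by_cases hχ : χ ∈ principalBlock M G
    · by_cases hne : χ = trivIrr G
      · exact ⟨0, isIntegral_zero, fun h => absurd hne h⟩
      · obtain ⟨m, hm⟩ := dvd_degree_of_mem_principalBlock hp hq hr hrp hrq M hM x hx hxq hN χ hχ hne
        refine ⟨m * (starRingEnd ℂ) ((χ : G → ℂ) y), ?_, ?_⟩
        · refine IsIntegral.mul ?_ ?_
          · exact isIntegral_algebraMap (R := ℤ) (A := ℂ) (x := (m : ℤ)) |> fun h => by simpa using h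
          · apply map_isIntegral_int
            obtain ⟨n, ρ, hρ, hχρ⟩ := χ.2
            rw [← hχρ]; exact char_isIntegral ρ y
        · intro _
          rw [if_pos hχ, hm]; ring
    · refine ⟨0, isIntegral_zero, fun _ => ?_⟩
      rw [if_neg hχ]; ring
  choose β hβint hβ using key
  rw [← Finset.add_sum_erase Finset.univ _ (Finset.mem_univ (trivIrr G))] at horth
  have hrest : ∑ χ ∈ Finset.univ.erase (trivIrr G),
      (if χ ∈ principalBlock M G then (1 : ℂ) else 0) *
        ((χ : G → ℂ) 1 * (starRingEnd ℂ) ((χ : G → ℂ) y)) =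
      p * ∑ χ ∈ Finset.univ.erase (trivIrr G), β χ := by
    rw [Finset.mul_sum]
    refine Finset.sum_congr rfl ?_
    intro χ hχ
    exact hβ χ (Finset.ne_of_mem_erase hχ)
  rw [hrest, if_pos (trivIrr_mem_principalBlock hMp), trivIrr_apply, trivIrr_apply, map_one,
    mul_one, mul_one] at horth
  set B := ∑ χ ∈ Finset.univ.erase (trivIrr G), β χ with hB
  have hBint : IsIntegral ℤ B := IsIntegral.sum _ (fun χ _ => hβint χ)
  have hBval : B = ((-(1 / (p : ℚ)) : ℚ) : ℂ) := by
    push_cast
    field_simp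
    linear_combination horth
  rw [hBval] at hBint
  obtain ⟨m, hm⟩ := exists_int_of_isIntegral_ratCast hBint
  have hpq : (p : ℚ) ≠ 0 := by exact_mod_cast hp.ne_zero
  have h2 : (-1 : ℚ) = m * p := by
    field_simp at hm
    linarith
  have h3 : (-1 : ℤ) = m * p := by exact_mod_cast h2
  have h4 : (p : ℤ) ∣ 1 := ⟨-m, by linarith⟩
  have h5 : p ∣ 1 := by exact_mod_cast h4
  exact hp.one_lt.ne' (Nat.dvd_one.mp h5)

end Cfsg.Agent.Helper29.Kazarin
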