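import Mathlib
import Cfsg.Agent.Helper29.KazarinA
import Cfsg.Agent.Helper7.Signalizer
import Cfsg.Agent.Helper24.Classes
import Cfsg.Agent.Helper20.Basic

set_option autoImplicit false

/-! # Kazarin's theorem: an element of prime-power class size has solvable normal closure -/

namespace Cfsg.Agent.Helper29.Kazarin

open Subgroup Cfsg.Agent.Helper24

universe u

theorem isSolvable_of_normalClosure_eq_top {G : Type u} [Group G] [Finite G] {p q k j : ℕ}
    (hp : p.Prime) (hq : q.Prime) (x : G)
    (hx : (centralizer ({x} : Set G)).index = p ^ k) (hxq : x ^ (q ^ j) = 1)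
    (hN : normalClosure ({x} : Set G) = ⊤) : Group.IsSolvable G := by
  have hn0 : Nat.card G ≠ 0 := Nat.card_pos.ne'
  obtain ⟨a, m, hpm, hn⟩ := Nat.exists_eq_pow_mul_and_not_dvd hn0 p hp.ne_one
  have hm0 : m ≠ 0 := by
    rintro rfl
    rw [mul_zero] at hn
    exact hn0 hn
  obtain ⟨b, m', hqm', hm⟩ := Nat.exists_eq_pow_mul_and_not_dvd hm0 q hq.ne_one
  have hm'1 : m' = 1 := by
    by_contra hne
    obtain ⟨r, hr, hrm⟩ := Nat.exists_prime_and_dvd hne
    have hrm2 : r ∣ m := hm ▸ Dvd.dvd.mul_left hrm _
    have hrn : r ∣ Nat.card G := hn ▸ Dvd.dvd.mul_left hrm2 _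
    have hrp : r ≠ p := by rintro rfl; exact hpm hrm2
    have hrq : r ≠ q := by rintro rfl; exact hqm' hrm
    exact not_dvd_card hp hq hr hrp hrq x hx hxq hN hrn
  exact isSolvable_of_card_eq_prime_pow_mul p q a b hp hq (by rw [hn, hm, hm'1, mul_one])

theorem isSolvable_finset_sup {H : Type*} [Group H] {ι : Type*} (s : Finset ι)
    (K : ι → Subgroup H) (hn : ∀ i, (K i).Normal) (hs : ∀ i, Group.IsSolvable (K i)) :
    Group.IsSolvable ↥(s.sup K) := by
  classical
  induction s using Finset.induction_on with
  | empty =>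
    rw [Finset.sup_empty]
    exact isSolvable_of_top_eq_bot _ (Subsingleton.elim _ _)
  | insert i s hi ih =>
    rw [Finset.sup_insert]
    refine Cfsg.Agent.Helper7.isSolvable_sup_of_le_normalizer (hs i) ih ?_
    rw [normalizer_eq_top_iff.mpr (hn i)]
    exact le_top

theorem centralizer_singleton_subgroupOf {G : Type*} [Group G] (N : Subgroup G) (y : N) :
    centralizer ({y} : Set N) = (centralizer ({(y : G)} : Set G)).subgroupOf N := by
  ext z
  rw [mem_subgroupOf, mem_centralizer_singleton_iff, mem_centralizer_singleton_iff]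
  constructor
  · intro h
    have := congrArg Subtype.val h
    simpa using this
  · intro h
    apply Subtype.ext
    simpa using h

theorem index_centralizer_pow_dvd {G : Type*} [Group G] (x : G) (b : ℕ) :
    (centralizer ({x ^ b} : Set G)).index ∣ (centralizer ({x} : Set G)).index := by
  apply index_dvd_of_le
  intro z hz
  rw [mem_centralizer_singleton_iff] at hz ⊢
  exact ((Commute.pow_right (show Commute z x from hz) b)).eq


/-- for a normal subgroup `F`, `|F : H ⊓ F|` divides `|G : H|` -/
theorem relIndex_dvd_index_of_normal_right' {G : Type*} [Group G] [Finite G] (H F : Subgroup G)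
    [F.Normal] : H.relIndex F ∣ H.index := by
  have e1 := Cfsg.Agent.Helper17.relIndex_mul_card_inf H F
  have e2 := Cfsg.Agent.Helper17.relIndex_mul_card_inf H (H ⊔ F)
  rw [inf_of_le_left (le_sup_left : H ≤ H ⊔ F)] at e2
  have e3 := Cfsg.Agent.Helper17.card_sup_mul_card_inf_of_normal F H
  rw [sup_comm, inf_comm] at e3
  have hpos1 : 0 < Nat.card H := Nat.card_pos
  have hpos2 : 0 < Nat.card (H ⊓ F : Subgroup G) := Nat.card_pos
  have heq : H.relIndex (H ⊔ F) = H.relIndex F := by
    apply Nat.eq_of_mul_eq_mul_right (Nat.mul_pos hpos1 hpos2)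
    calc H.relIndex (H ⊔ F) * (Nat.card H * Nat.card (H ⊓ F : Subgroup G))
        = (H.relIndex (H ⊔ F) * Nat.card H) * Nat.card (H ⊓ F : Subgroup G) := by ring
      _ = Nat.card (H ⊔ F : Subgroup G) * Nat.card (H ⊓ F : Subgroup G) := by rw [e2]
      _ = Nat.card F * Nat.card H := e3
      _ = (H.relIndex F * Nat.card (H ⊓ F : Subgroup G)) * Nat.card H := by rw [e1]
      _ = H.relIndex F * (Nat.card H * Nat.card (H ⊓ F : Subgroup G)) := by ring
  rw [← heq]
  exact relIndex_dvd_index_of_le le_sup_left

theorem kazarin_aux : ∀ (n : ℕ) (G : Type u) [Group G] [Finite G], Nat.card G = n →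
    ∀ (p : ℕ), p.Prime → ∀ (m : ℕ) (x : G), orderOf x = m →
    ∀ (k : ℕ), (centralizer ({x} : Set G)).index = p ^ k →
    Group.IsSolvable ↥(normalClosure ({x} : Set G)) := by
  intro n
  induction n using Nat.strong_induction_on with
  | _ n ihn =>
  intro G _ _ hcard p hp m
  induction m using Nat.strong_induction_on with
  | _ m ihm =>
  intro x hxm k hx
  by_cases hpp : ∃ q j, q.Prime ∧ m = q ^ j
  · obtain ⟨q, j, hq, rfl⟩ := hpp
    have hxq : x ^ (q ^ j) = 1 := by rw [← hxm]; exact pow_orderOf_eq_one x
    by_cases hN : normalClosure ({x} : Set G) = ⊤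
    · haveI := isSolvable_of_normalClosure_eq_top hp hq x hx hxq hN
      exact solvable_of_solvable_injective (Subgroup.subtype_injective _)
    · set N := normalClosure ({x} : Set G) with hNdef
      have hNlt : Nat.card N < n := by
        rw [← hcard]
        refine lt_of_le_of_ne (Subgroup.card_le_card_group N) ?_
        intro h
        exact hN ((Subgroup.card_eq_iff_eq_top N).mp h)
      have hmem : ∀ g : G, g * x * g⁻¹ ∈ N := fun g =>
        (normalClosure_normal (s := ({x} : Set G))).conj_mem x
          (subset_normalClosure (Set.mem_singleton x)) g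
      have key : ∀ g : G, Group.IsSolvable
          ↥(normalClosure ({(⟨g * x * g⁻¹, hmem g⟩ : N)} : Set N)) := by
        intro g
        set y : N := ⟨g * x * g⁻¹, hmem g⟩ with hy
        have hidx : ∃ k', (centralizer ({y} : Set N)).index = p ^ k' := by
          have h1 : (centralizer ({y} : Set N)).index ∣ p ^ k := by
            rw [centralizer_singleton_subgroupOf, ← hx,
              index_centralizer_eq_of_isConj (isConj_iff.mpr ⟨g, rfl⟩ : IsConj x (g * x * g⁻¹))]
            exact relIndex_dvd_index_of_normal_right' _ N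
          obtain ⟨k', _, hk'⟩ := (Nat.dvd_prime_pow hp).mp h1
          exact ⟨k', hk'⟩
        obtain ⟨k', hk'⟩ := hidx
        exact ihn _ hNlt N rfl p hp _ y rfl k' hk'
      haveI : Fintype G := Fintype.ofFinite G
      set T : Subgroup N := Finset.univ.sup
        (fun g : G => normalClosure ({(⟨g * x * g⁻¹, hmem g⟩ : N)} : Set N)) with hT
      have hTs : Group.IsSolvable T :=
        isSolvable_finset_sup _ _ (fun g => normalClosure_normal) key
      have hNT : N ≤ T.map N.subtype := by
        have hNcl : N = closure (Group.conjugatesOfSet ({x} : Set G)) := rfl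
        have hsub : Group.conjugatesOfSet ({x} : Set G) ⊆ ((T.map N.subtype : Subgroup G) : Set G) := by
          intro z hz
          obtain ⟨a, ha, hconj⟩ := Group.mem_conjugatesOfSet_iff.mp hz
          rw [Set.mem_singleton_iff] at ha
          subst ha
          obtain ⟨g, hg⟩ := isConj_iff.mp hconj
          rw [SetLike.mem_coe, ← hg]
          refine ⟨⟨g * a * g⁻¹, hmem g⟩, ?_, rfl⟩
          have h1 : normalClosure ({(⟨g * a * g⁻¹, hmem g⟩ : N)} : Set N) ≤ T :=
            Finset.le_sup (f := fun g : G => normalClosure ({(⟨g * a * g⁻¹, hmem g⟩ : N)} : Set N))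
              (Finset.mem_univ g)
          exact h1 (subset_normalClosure (Set.mem_singleton _))
        intro z hz
        have hz' : z ∈ closure (Group.conjugatesOfSet ({x} : Set G)) := hz
        exact (closure_le _).mpr hsub hz'
      have hTtop : ∀ z : N, z ∈ T := by
        intro z
        obtain ⟨t, ht, htz⟩ := hNT z.2
        have : t = z := Subtype.ext htz
        rw [← this]; exact ht
      let f : N →* T :=
        { toFun := fun z => ⟨z, hTtop z⟩
          map_one' := rfl
          map_mul' := fun _ _ => rfl }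
      have hf : Function.Injective f := by
        intro a b hab
        have := congrArg (fun t : T => (t : N)) hab
        exact this
      exact solvable_of_solvable_injective hf
  · -- not a prime power: split
    have hm0 : m ≠ 0 := by rw [← hxm]; exact (orderOf_pos x).ne'
    have hm1 : m ≠ 1 := fun h => hpp ⟨2, 0, Nat.prime_two, by rw [h, pow_zero]⟩
    set q := m.minFac with hqdef
    have hq : q.Prime := Nat.minFac_prime hm1
    obtain ⟨j, b, hqb, hmb⟩ := Nat.exists_eq_pow_mul_and_not_dvd hm0 q hq.ne_one
    have hb1 : b ≠ 1 := fun h => hpp ⟨q, j, hq, by rw [hmb, h, mul_one]⟩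
    have hb0 : b ≠ 0 := by
      rintro rfl
      exact hqb (dvd_zero q)
    have hj0 : j ≠ 0 := by
      rintro rfl
      rw [pow_zero, one_mul] at hmb
      exact hqb (hmb ▸ Nat.minFac_dvd m)
    set a := q ^ j with ha
    have ha2 : 2 ≤ a := by
      calc 2 ≤ q := hq.two_le
        _ = q ^ 1 := (pow_one q).symm
        _ ≤ q ^ j := Nat.pow_le_pow_right hq.pos (Nat.one_le_iff_ne_zero.mpr hj0)
    have hb2 : 2 ≤ b := by omega
    have hapos : 0 < a := by omega
    have hbpos : 0 < b := by omega
    have hxab : x ^ (a * b) = 1 := by rw [← hmb, ← hxm]; exact pow_orderOf_eq_one x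
    -- the two parts
    have ho1 : orderOf (x ^ b) < m := by
      have h1 : orderOf (x ^ b) ∣ a := by
        apply orderOf_dvd_of_pow_eq_one
        rw [← pow_mul, mul_comm]; exact hxab
      have h2 := Nat.le_of_dvd hapos h1
      calc orderOf (x ^ b) ≤ a := h2
        _ < a * b := by nlinarith
        _ = m := hmb.symm
    have ho2 : orderOf (x ^ a) < m := by
      have h1 : orderOf (x ^ a) ∣ b := by
        apply orderOf_dvd_of_pow_eq_one
        rw [← pow_mul]; exact hxab
      have h2 := Nat.le_of_dvd hbpos h1
      calc orderOf (x ^ a) ≤ b := h2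
        _ < a * b := by nlinarith
        _ = m := hmb.symm
    have hidx : ∀ c : ℕ, ∃ k', (centralizer ({x ^ c} : Set G)).index = p ^ k' := by
      intro c
      have h1 := index_centralizer_pow_dvd x c
      rw [hx] at h1
      obtain ⟨k', _, hk'⟩ := (Nat.dvd_prime_pow hp).mp h1
      exact ⟨k', hk'⟩
    obtain ⟨k1, hk1⟩ := hidx b
    obtain ⟨k2, hk2⟩ := hidx a
    have hs1 := ihm _ ho1 (x ^ b) rfl k1 hk1
    have hs2 := ihm _ ho2 (x ^ a) rfl k2 hk2
    set W := normalClosure ({x ^ b} : Set G) ⊔ normalClosure ({x ^ a} : Set G) with hW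
    have hWs : Group.IsSolvable W := by
      refine Cfsg.Agent.Helper7.isSolvable_sup_of_le_normalizer hs1 hs2 ?_
      rw [normalizer_eq_top_iff.mpr normalClosure_normal]
      exact le_top
    haveI hWn : W.Normal := Subgroup.sup_normal _ _
    have hcop : Nat.Coprime b a := by
      rw [ha]
      exact (Nat.Coprime.pow_right j ((Nat.Prime.coprime_iff_not_dvd hq).mpr hqb).symm)
    have hxW : x ∈ W := by
      have hbez := Nat.gcd_eq_gcd_ab b a
      rw [hcop.gcd_eq_one] at hbez
      have h1 : x = (x ^ b) ^ (Nat.gcdA b a) * (x ^ a) ^ (Nat.gcdB b a) := by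
        rw [← zpow_natCast x b, ← zpow_natCast x a, ← zpow_mul, ← zpow_mul, ← zpow_add, ← hbez]
        simp
      rw [h1]
      exact mul_mem
        (zpow_mem ((le_sup_left : _ ≤ W) (subset_normalClosure (Set.mem_singleton _))) _)
        (zpow_mem ((le_sup_right : _ ≤ W) (subset_normalClosure (Set.mem_singleton _))) _)
    have hle : normalClosure ({x} : Set G) ≤ W :=
      normalClosure_le_normal (Set.singleton_subset_iff.mpr hxW)
    exact solvable_of_solvable_injective (inclusion_injective hle)

/-- **Kazarin's theorem.** -/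
theorem kazarin {G : Type u} [Group G] [Finite G] (x : G) {p : ℕ} (hp : p.Prime) (k : ℕ)
    (hx : (centralizer ({x} : Set G)).index = p ^ k) :
    Group.IsSolvable ↥(normalClosure ({x} : Set G)) :=
  kazarin_aux _ G rfl p hp _ x rfl k hx

end Cfsg.Agent.Helper29.Kazarin
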