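import Mathlib
import Cfsg.Agent.Helper29.KazarinB
import Cfsg.Agent.Helper7.FStar
import Cfsg.Agent.Helper21.ExpSix

set_option autoImplicit false

/-! # Conjugates of an element of `p`-power class size commute modulo `O_p(G)` -/

namespace Cfsg.Agent.Helper29.Kazarin

open Subgroup Cfsg

universe u

/-- A normal `r`-subgroup lies in every subgroup of `p`-power index, `p ≠ r`. -/
theorem le_of_normal_pGroup_of_index {G : Type*} [Group G] [Finite G] {p r : ℕ} (hp : p.Prime)
    (hr : r.Prime) (hrp : r ≠ p) (R C : Subgroup G) [R.Normal] (hR : IsPGroup r R) {k : ℕ}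
    (hC : C.index = p ^ k) : R ≤ C := by
  haveI : Fact r.Prime := ⟨hr⟩
  rw [← relIndex_eq_one]
  have h1 : C.relIndex R ∣ p ^ k := hC ▸ relIndex_dvd_index_of_normal_right' C R
  have h2 : C.relIndex R ∣ Nat.card R := Subgroup.index_dvd_card _
  obtain ⟨n, hn⟩ := IsPGroup.iff_card.mp hR
  rw [hn] at h2
  have hcop : Nat.Coprime (p ^ k) (r ^ n) :=
    Nat.Coprime.pow _ _ ((Nat.coprime_primes hp hr).mpr hrp.symm)
  exact Nat.Coprime.eq_one_of_dvd (Nat.Coprime.coprime_dvd_left h1 hcop) h2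

theorem commutator_conj_mem_pCore {G : Type u} [Group G] [Finite G] (p : ℕ) [Fact p.Prime]
    (x : G) (hx : ∃ a : ℕ, (centralizer ({x} : Set G)).index = p ^ a) (g h : G) :
    (g * x * g⁻¹) * (h * x * h⁻¹) * (g * x * g⁻¹)⁻¹ * (h * x * h⁻¹)⁻¹ ∈ Cfsg.pCore p G := by
  have hp : p.Prime := Fact.out
  obtain ⟨a, ha⟩ := hx
  haveI hpn : (pCore p G).Normal := Cfsg.Agent.Helper14.pCore_normal p
  set π := QuotientGroup.mk' (pCore p G) with hπ
  set xb : G ⧸ pCore p G := π x with hxb
  have hidx : ∃ a', (centralizer ({xb} : Set (G ⧸ pCore p G))).index = p ^ a' := by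
    have h1 : (centralizer ({x} : Set G)).map π ≤ centralizer {xb} := by
      rintro _ ⟨z, hz, rfl⟩
      rw [SetLike.mem_coe, mem_centralizer_singleton_iff] at hz
      rw [mem_centralizer_singleton_iff, hxb, ← map_mul, ← map_mul, hz]
    have h2 : (centralizer {xb}).index ∣ ((centralizer ({x} : Set G)).map π).index :=
      index_dvd_of_le h1
    have h3 : ((centralizer ({x} : Set G)).map π).index ∣ (centralizer ({x} : Set G)).index :=
      index_map_dvd _ (QuotientGroup.mk'_surjective _)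
    obtain ⟨a', _, ha'⟩ := (Nat.dvd_prime_pow hp).mp (ha ▸ h2.trans h3)
    exact ⟨a', ha'⟩
  obtain ⟨a', ha'⟩ := hidx
  set Nb := normalClosure ({xb} : Set (G ⧸ pCore p G)) with hNb
  have hsolv : Group.IsSolvable Nb := kazarin xb hp a' ha'
  have hF : fittingSubgroup (G ⧸ pCore p G) ≤ centralizer {xb} := by
    rw [Cfsg.Agent.Helper7.fittingSubgroup_eq_pCoreSup, Cfsg.Agent.Helper7.pCoreSup_le_iff]
    intro r hr
    by_cases hrp : r = p
    · subst hrp
      rw [Cfsg.Agent.Helper21.ExpSix.pCore_quotient_pCore_eq_bot]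
      exact bot_le
    · haveI : Fact r.Prime := ⟨hr⟩
      haveI : (pCore r (G ⧸ pCore p G)).Normal := Cfsg.Agent.Helper14.pCore_normal r
      exact le_of_normal_pGroup_of_index hp hr hrp _ _ (Cfsg.Agent.Helper14.pCore_isPGroup r) ha'
  haveI hFchar : (fittingSubgroup (G ⧸ pCore p G)).Characteristic :=
    Cfsg.Agent.Helper7.fittingSubgroup_characteristic _
  haveI hFn : (fittingSubgroup (G ⧸ pCore p G)).Normal := inferInstance
  haveI hCn : (centralizer (fittingSubgroup (G ⧸ pCore p G) : Set (G ⧸ pCore p G))).Normal :=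
    inferInstance
  have hNC : Nb ≤ centralizer (fittingSubgroup (G ⧸ pCore p G) : Set (G ⧸ pCore p G)) := by
    apply normalClosure_le_normal
    rw [Set.singleton_subset_iff, SetLike.mem_coe, mem_centralizer_iff]
    intro f hf
    have h1 := hF hf
    rw [mem_centralizer_singleton_iff] at h1
    exact h1
  have hNF : Nb ≤ fittingSubgroup (G ⧸ pCore p G) :=
    Cfsg.Agent.Helper7.solvable_subnormal_le_fitting_of_le_centralizer
      (Subgroup.Normal.isSubnormal normalClosure_normal) hsolv hNC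
  have hcomm : ∀ u ∈ Nb, ∀ v ∈ Nb, u * v = v * u := by
    intro u hu v hv
    have h1 := hNC hu
    have h2 := hNF hv
    exact (mem_centralizer_iff.mp h1 v h2).symm
  have hconj : ∀ t : G, π (t * x * t⁻¹) ∈ Nb := by
    intro t
    rw [map_mul, map_mul, map_inv]
    exact (normalClosure_normal (s := ({xb} : Set (G ⧸ pCore p G)))).conj_mem _
      (subset_normalClosure (Set.mem_singleton _)) _
  rw [← QuotientGroup.ker_mk' (pCore p G), MonoidHom.mem_ker]
  have h1 : π ((g * x * g⁻¹) * (h * x * h⁻¹) * (g * x * g⁻¹)⁻¹ * (h * x * h⁻¹)⁻¹) =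
      π (g * x * g⁻¹) * π (h * x * h⁻¹) * (π (g * x * g⁻¹))⁻¹ * (π (h * x * h⁻¹))⁻¹ := by
    simp only [map_mul, map_inv]
  rw [← hπ, h1, hcomm _ (hconj g) _ (hconj h)]
  group

end Cfsg.Agent.Helper29.Kazarin
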