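import Mathlib
import Cfsg.Prelude.Def_Characters
import Cfsg.Agent.Helper8.DualGroup
import Cfsg.Agent.Helper8.CharComp
import Cfsg.Agent.Helper24.Expansion
import Cfsg.Agent.Helper24.Linear

set_option autoImplicit false
set_option linter.unusedSectionVars false

/-!
# Fourier analysis on a finite abelian group (dual group `A →* ℂˣ`)
-/

namespace Cfsg.Agent.Helper29.Knorr

open scoped ComplexConjugate

variable {A : Type*} [CommGroup A] [Fintype A]

/-- The dual group of a finite abelian group is a fintype. -/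
@[reducible] noncomputable def dualFintype (A : Type*) [CommGroup A] [Fintype A] : Fintype (A →* ℂˣ) := by
  have := Cfsg.Agent.Helper8.finite_hom_units (W := A) mul_comm
  exact Fintype.ofFinite _

attribute [local instance] dualFintype

/-- evaluation of a linear character, as a complex number -/
noncomputable def ev (σ : A →* ℂˣ) (x : A) : ℂ := ((σ x : ℂˣ) : ℂ)

theorem ev_mul (σ τ : A →* ℂˣ) (x : A) : ev (σ * τ) x = ev σ x * ev τ x := by
  simp [ev]

theorem ev_one (x : A) : ev (1 : A →* ℂˣ) x = 1 := by simp [ev]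

theorem ev_map_mul (σ : A →* ℂˣ) (x y : A) : ev σ (x * y) = ev σ x * ev σ y := by
  simp [ev]

theorem ev_map_one (σ : A →* ℂˣ) : ev σ 1 = 1 := by simp [ev]

theorem norm_ev (σ : A →* ℂˣ) (x : A) : ‖ev σ x‖ = 1 :=
  Cfsg.Agent.Helper8.norm_hom_units σ x

theorem conj_ev (σ : A →* ℂˣ) (x : A) : conj (ev σ x) = ev σ⁻¹ x :=
  Cfsg.Agent.Helper8.conj_hom_units σ x

theorem ev_inv_mul (σ : A →* ℂˣ) (x : A) : ev σ⁻¹ x * ev σ x = 1 := by
  unfold ev
  simp

theorem ev_ne_zero (σ : A →* ℂˣ) (x : A) : ev σ x ≠ 0 := by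
  intro h
  have := norm_ev σ x
  rw [h, norm_zero] at this
  exact zero_ne_one this

/-- first orthogonality -/
theorem sum_ev_mul_conj (σ τ : A →* ℂˣ) :
    ∑ x : A, ev σ x * conj (ev τ x) = if σ = τ then (Fintype.card A : ℂ) else 0 := by
  have h := Cfsg.Agent.Helper8.classInner_hom_units σ τ
  unfold Cfsg.classInner at h
  have hA : (Nat.card A : ℂ) ≠ 0 := Nat.cast_ne_zero.mpr Nat.card_pos.ne'
  have h2 : ∑ x : A, ev σ x * conj (ev τ x) = (Nat.card A : ℂ) * (if σ = τ then 1 else 0) := by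
    rw [← h, ← mul_assoc, mul_inv_cancel₀ hA, one_mul]
    rfl
  rw [h2, Nat.card_eq_fintype_card]
  split_ifs <;> simp

/-- the Fourier series with integer coefficients `b` -/
noncomputable def fs (b : (A →* ℂˣ) → ℤ) (x : A) : ℂ := ∑ σ : A →* ℂˣ, (b σ : ℂ) * ev σ x

/-- translation of coefficient functions -/
def tr (ρ : A →* ℂˣ) (b : (A →* ℂˣ) → ℤ) : (A →* ℂˣ) → ℤ := fun σ => b (σ * ρ⁻¹)

theorem fs_tr (ρ : A →* ℂˣ) (b : (A →* ℂˣ) → ℤ) (x : A) :
    fs (tr ρ b) x = ev ρ x * fs b x := by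
  unfold fs tr
  rw [Finset.mul_sum]
  rw [← Equiv.sum_comp (Equiv.mulRight ρ) (fun σ => ((b (σ * ρ⁻¹) : ℤ) : ℂ) * ev σ x)]
  refine Finset.sum_congr rfl fun σ _ => ?_
  simp only [Equiv.coe_mulRight, mul_inv_cancel_right, ev_mul]
  ring

theorem fs_sub (b b' : (A →* ℂˣ) → ℤ) (x : A) : fs (b - b') x = fs b x - fs b' x := by
  unfold fs
  rw [← Finset.sum_sub_distrib]
  refine Finset.sum_congr rfl fun σ _ => ?_
  simp only [Pi.sub_apply, Int.cast_sub]
  ring

/-- Plancherel -/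
theorem plancherel (b : (A →* ℂˣ) → ℤ) :
    ∑ x : A, ‖fs b x‖ ^ 2 = (Fintype.card A : ℝ) * ∑ σ : A →* ℂˣ, ((b σ : ℤ) : ℝ) ^ 2 := by
  classical
  have hC : ((∑ x : A, ‖fs b x‖ ^ 2 : ℝ) : ℂ) =
      (((Fintype.card A : ℝ) * ∑ σ : A →* ℂˣ, ((b σ : ℤ) : ℝ) ^ 2 : ℝ) : ℂ) := by
    push_cast
    have h1 : ∀ x : A, ((‖fs b x‖ : ℝ) : ℂ) ^ 2 = fs b x * conj (fs b x) := by
      intro x
      rw [Complex.mul_conj, Complex.normSq_eq_norm_sq]
      push_cast; rfl
    simp_rw [h1]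
    have h2 : ∀ x : A, fs b x * conj (fs b x) =
        ∑ σ : A →* ℂˣ, ∑ τ : A →* ℂˣ, ((b σ : ℂ) * (b τ : ℂ)) * (ev σ x * conj (ev τ x)) := by
      intro x
      unfold fs
      rw [map_sum, Finset.sum_mul_sum]
      refine Finset.sum_congr rfl fun σ _ => Finset.sum_congr rfl fun τ _ => ?_
      rw [map_mul, map_intCast]
      ring
    simp_rw [h2]
    rw [Finset.sum_comm]
    simp_rw [Finset.sum_comm (s := (Finset.univ : Finset A)), ← Finset.mul_sum, sum_ev_mul_conj]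
    rw [Finset.mul_sum]
    refine Finset.sum_congr rfl fun σ _ => ?_
    rw [Finset.sum_eq_single σ]
    · rw [if_pos rfl]; ring
    · intro τ _ hne
      rw [if_neg (Ne.symm hne), mul_zero]
    · intro h; exact absurd (Finset.mem_univ σ) h
  exact_mod_cast hC


open Classical in
/-- the annihilator of a subgroup in the dual group, as a finset -/
noncomputable def ann (K : Subgroup A) : Finset (A →* ℂˣ) :=
  Finset.univ.filter (fun φ : A →* ℂˣ => ∀ y ∈ K, φ y = 1)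

theorem mem_ann {K : Subgroup A} {φ : A →* ℂˣ} : φ ∈ ann K ↔ ∀ y ∈ K, φ y = 1 := by
  classical
  simp [ann]

theorem one_mem_ann (K : Subgroup A) : (1 : A →* ℂˣ) ∈ ann K := by
  rw [mem_ann]; intro y _; rfl

theorem mul_mem_ann {K : Subgroup A} {φ ψ : A →* ℂˣ} (h1 : φ ∈ ann K) (h2 : ψ ∈ ann K) :
    φ * ψ ∈ ann K := by
  rw [mem_ann] at h1 h2 ⊢
  intro y hy
  rw [MonoidHom.mul_apply, h1 y hy, h2 y hy, one_mul]

theorem inv_mem_ann {K : Subgroup A} {φ : A →* ℂˣ} (h1 : φ ∈ ann K) : φ⁻¹ ∈ ann K := by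
  rw [mem_ann] at h1 ⊢
  intro y hy
  rw [MonoidHom.inv_apply, h1 y hy, inv_one]

theorem ev_ann {K : Subgroup A} {φ : A →* ℂˣ} (h1 : φ ∈ ann K) {y : A} (hy : y ∈ K) :
    ev φ y = 1 := by
  rw [mem_ann] at h1
  unfold ev
  rw [h1 y hy]; rfl

theorem sum_ann (K : Subgroup A) (x : A) [Decidable (x ∈ K)] :
    ∑ ρ ∈ ann K, ev ρ x = if x ∈ K then ((ann K).card : ℂ) else 0 := by
  classical
  have := Cfsg.Agent.Helper8.sum_annihilator (W := A) mul_comm K x
  unfold ann ev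
  convert this using 2

theorem card_ann (K : Subgroup A) : (ann K).card = K.index := by
  classical
  have := Cfsg.Agent.Helper8.hasEnoughRootsOfUnity_exponent A
  have h1 := CommGroup.card_domRestrictHom_ker (M := ℂ) K
  have h2 : Nat.card (MonoidHom.domRestrictHom K ℂˣ).ker = (ann K).card := by
    rw [Nat.card_eq_fintype_card, ← Fintype.card_coe]
    apply Fintype.card_congr
    apply Equiv.subtypeEquivRight
    intro φ
    rw [mem_ann, MonoidHom.mem_ker, MonoidHom.domRestrictHom_apply, MonoidHom.domRestrict_eq_one_iff]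
  rw [← h2, h1]
  rfl

theorem card_ann_pos (K : Subgroup A) : 0 < (ann K).card :=
  Finset.card_pos.mpr ⟨1, one_mem_ann K⟩

theorem ann_inf {K K₁ : Subgroup A} {φ : A →* ℂˣ} (h : φ ∈ ann (K ⊓ K₁)) :
    ∃ ℓ ∈ ann K, ∃ κ ∈ ann K₁, φ = ℓ * κ := by
  have := Cfsg.Agent.Helper8.hasEnoughRootsOfUnity_exponent A
  let e := CommGroup.subgroupOrderIsoSubgroupMonoidHom A ℂ
  have h1 : φ ∈ (e (K ⊓ K₁)).ofDual := by
    rw [CommGroup.mem_subgroupOrderIsoSubgroupMonoidHom_iff]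
    exact mem_ann.mp h
  have h2 : (e (K ⊓ K₁)).ofDual = (e K).ofDual ⊔ (e K₁).ofDual := by
    rw [OrderIso.map_inf]; rfl
  rw [h2, Subgroup.mem_sup] at h1
  obtain ⟨ℓ, hℓ, κ, hκ, hφ⟩ := h1
  rw [CommGroup.mem_subgroupOrderIsoSubgroupMonoidHom_iff] at hℓ hκ
  exact ⟨ℓ, mem_ann.mpr hℓ, κ, mem_ann.mpr hκ, hφ.symm⟩

theorem card_dual : Fintype.card (A →* ℂˣ) = Fintype.card A := by
  have := Cfsg.Agent.Helper8.hasEnoughRootsOfUnity_exponent A
  have := CommGroup.card_monoidHom_of_hasEnoughRootsOfUnity A ℂ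
  rwa [Nat.card_eq_fintype_card, Nat.card_eq_fintype_card] at this

/-- second orthogonality -/
theorem sum_dual_ev (x : A) [Decidable (x = 1)] :
    ∑ σ : A →* ℂˣ, ev σ x = if x = 1 then (Fintype.card A : ℂ) else 0 := by
  classical
  have h := sum_ann (⊥ : Subgroup A) x
  have h1 : ann (⊥ : Subgroup A) = Finset.univ := by
    ext φ
    simp only [Finset.mem_univ, iff_true]
    rw [mem_ann]
    intro y hy
    rw [Subgroup.mem_bot] at hy
    rw [hy, map_one]
  rw [h1] at h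
  rw [h, Finset.card_univ, card_dual]
  simp only [Subgroup.mem_bot]

/-- every character of a finite abelian group is an integer combination of linear characters -/
theorem exists_coeff {ψ : A → ℂ} (hψ : Cfsg.IsCharacter A ψ) :
    ∃ b : (A →* ℂˣ) → ℤ, ∀ x, ψ x = fs b x := by
  classical
  have hlin : ∀ σ : A →* ℂˣ, Cfsg.IsCharacter A (fun x => ev σ x) := by
    intro σ
    exact Cfsg.Agent.Helper24.isCharacter_of_monoidHom ((Units.coeHom ℂ).comp σ)
  have : Fintype (Cfsg.IrrCharacter A) := Fintype.ofFinite _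
  have hnat : ∀ σ : A →* ℂˣ, ∃ n : ℕ, Cfsg.classInner ψ (fun x => ev σ x) = n :=
    fun σ => Cfsg.Agent.Helper24.IsCharacter.classInner_nat hψ (hlin σ)
  choose n hn using hnat
  refine ⟨fun σ => (n σ : ℤ), fun x => ?_⟩
  unfold fs
  have hA : (Fintype.card A : ℂ) ≠ 0 := Nat.cast_ne_zero.mpr Fintype.card_ne_zero
  have h1 : ∀ σ : A →* ℂˣ, (((n σ : ℤ) : ℤ) : ℂ) =
      (Fintype.card A : ℂ)⁻¹ * ∑ y : A, ψ y * conj (ev σ y) := by
    intro σ
    rw [Int.cast_natCast, ← hn σ, Cfsg.classInner, Nat.card_eq_fintype_card]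
  simp_rw [h1]
  simp_rw [mul_assoc, ← Finset.mul_sum, Finset.sum_mul]
  rw [Finset.sum_comm]
  have h2 : ∀ y : A, ∑ σ : A →* ℂˣ, ψ y * conj (ev σ y) * ev σ x =
      ψ y * (if x * y⁻¹ = 1 then (Fintype.card A : ℂ) else 0) := by
    intro y
    rw [← sum_dual_ev (x * y⁻¹), Finset.mul_sum]
    refine Finset.sum_congr rfl fun σ _ => ?_
    rw [ev_map_mul, conj_ev]
    have : ev σ⁻¹ y = ev σ y⁻¹ := by unfold ev; simp
    rw [this]; ring
  simp_rw [h2]
  rw [Finset.sum_eq_single x]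
  · rw [mul_inv_cancel, if_pos rfl]
    field_simp
  · intro y _ hne
    rw [if_neg, mul_zero]
    intro h
    apply hne
    rw [mul_inv_eq_one] at h
    exact h.symm
  · intro h; exact absurd (Finset.mem_univ x) h

end Cfsg.Agent.Helper29.Knorr
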