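import Mathlib
import Cfsg.Agent.Helper29.KnorrA

set_option autoImplicit false
set_option linter.unusedSectionVars false

/-!
# Weighted norms of Fourier series: the analytic identity
-/

namespace Cfsg.Agent.Helper29.Knorr

open scoped ComplexConjugate

variable {A : Type*} [CommGroup A] [Fintype A]

attribute [local instance] dualFintype

open Classical in
/-- weight of a single (subgroup, value) pair -/
noncomputable def wt1 (K : Subgroup A) (q : ℝ) (x : A) : ℝ := if x ∈ K then 1 else q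

theorem wt1_of_mem {K : Subgroup A} {q : ℝ} {x : A} (hx : x ∈ K) : wt1 K q x = 1 := by
  unfold wt1; rw [if_pos hx]

theorem wt1_of_not_mem {K : Subgroup A} {q : ℝ} {x : A} (hx : x ∉ K) : wt1 K q x = q := by
  unfold wt1; rw [if_neg hx]

/-- product weight of a list -/
noncomputable def wt (l : List (Subgroup A × ℝ)) (x : A) : ℝ :=
  (l.map (fun kq => wt1 kq.1 kq.2 x)).prod

/-- intersection of the subgroups of a list -/
def kerOf (l : List (Subgroup A × ℝ)) : Subgroup A := (l.map Prod.fst).foldr (· ⊓ ·) ⊤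

@[simp] theorem wt_nil (x : A) : wt ([] : List (Subgroup A × ℝ)) x = 1 := rfl

@[simp] theorem wt_cons (K : Subgroup A) (q : ℝ) (l : List (Subgroup A × ℝ)) (x : A) :
    wt ((K, q) :: l) x = wt1 K q x * wt l x := by
  simp [wt]

@[simp] theorem kerOf_nil : kerOf ([] : List (Subgroup A × ℝ)) = ⊤ := rfl

@[simp] theorem kerOf_cons (K : Subgroup A) (q : ℝ) (l : List (Subgroup A × ℝ)) :
    kerOf ((K, q) :: l) = K ⊓ kerOf l := rfl

/-- weighted squared norm of a Fourier series -/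
noncomputable def F (w : A → ℝ) (b : (A →* ℂˣ) → ℤ) : ℝ := ∑ x : A, ‖fs b x‖ ^ 2 * w x

theorem F_nonneg {w : A → ℝ} (hw : ∀ x, 0 ≤ w x) (b : (A →* ℂˣ) → ℤ) : 0 ≤ F w b :=
  Finset.sum_nonneg fun x _ => mul_nonneg (sq_nonneg _) (hw x)

theorem norm_sub_sq_unit (a b : ℂ) (ha : ‖a‖ = 1) (hb : ‖b‖ = 1) :
    ‖a - b‖ ^ 2 = 2 - 2 * (a * conj b).re := by
  have h1 : ‖a - b‖ ^ 2 = Complex.normSq (a - b) := (Complex.normSq_eq_norm_sq _).symm
  rw [h1, Complex.normSq_sub, Complex.normSq_eq_norm_sq, Complex.normSq_eq_norm_sq, ha, hb]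
  ring

/-- the pointwise analytic identity -/
theorem sum_sum_norm_ev_sub (K : Subgroup A) (x : A) [Decidable (x ∈ K)] :
    ∑ ρ ∈ ann K, ∑ ρ' ∈ ann K, ‖ev ρ x - ev ρ' x‖ ^ 2 =
      if x ∈ K then 0 else 2 * ((ann K).card : ℝ) ^ 2 := by
  classical
  split_ifs with hx
  · apply Finset.sum_eq_zero
    intro ρ hρ
    apply Finset.sum_eq_zero
    intro ρ' hρ'
    rw [ev_ann hρ hx, ev_ann hρ' hx, sub_self, norm_zero]
    ring
  · have h0 : ∑ ρ ∈ ann K, ev ρ x = 0 := by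
      rw [sum_ann, if_neg hx]
    have h1 : ∀ ρ ∈ ann K, ∀ ρ' ∈ ann K, ‖ev ρ x - ev ρ' x‖ ^ 2 =
        2 - 2 * (ev ρ x * conj (ev ρ' x)).re := fun ρ _ ρ' _ =>
      norm_sub_sq_unit _ _ (norm_ev ρ x) (norm_ev ρ' x)
    rw [Finset.sum_congr rfl fun ρ hρ => Finset.sum_congr rfl fun ρ' hρ' => h1 ρ hρ ρ' hρ']
    simp_rw [Finset.sum_sub_distrib, Finset.sum_const, ← Finset.mul_sum]
    have h2 : ∑ ρ ∈ ann K, ∑ ρ' ∈ ann K, (ev ρ x * conj (ev ρ' x)).re = 0 := by
      have : ∑ ρ ∈ ann K, ∑ ρ' ∈ ann K, (ev ρ x * conj (ev ρ' x)) =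
          (∑ ρ ∈ ann K, ev ρ x) * conj (∑ ρ' ∈ ann K, ev ρ' x) := by
        rw [map_sum, Finset.sum_mul_sum]
      have h3 := congrArg Complex.re this
      rw [h0, zero_mul, Complex.zero_re] at h3
      rw [← h3, Complex.re_sum]
      refine Finset.sum_congr rfl fun ρ _ => ?_
      rw [Complex.re_sum]
    rw [h2]
    simp only [nsmul_eq_mul]
    ring

/-- the analytic identity -/
theorem F_wt1 (w : A → ℝ) (K : Subgroup A) (q : ℝ) (b : (A →* ℂˣ) → ℤ) :
    F (fun x => wt1 K q x * w x) b =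
      F w b + (q - 1) / (2 * ((ann K).card : ℝ) ^ 2) *
        ∑ ρ ∈ ann K, ∑ ρ' ∈ ann K, F w (tr ρ b - tr ρ' b) := by
  classical
  have hn : ((ann K).card : ℝ) ≠ 0 := by
    have := card_ann_pos K
    exact_mod_cast this.ne'
  have h1 : ∑ ρ ∈ ann K, ∑ ρ' ∈ ann K, F w (tr ρ b - tr ρ' b) =
      ∑ x : A, ‖fs b x‖ ^ 2 * w x * (if x ∈ K then 0 else 2 * ((ann K).card : ℝ) ^ 2) := by
    unfold F
    simp_rw [Finset.sum_comm (s := ann K) (t := (Finset.univ : Finset A))]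
    refine Finset.sum_congr rfl fun x _ => ?_
    rw [← sum_sum_norm_ev_sub K x, Finset.mul_sum]
    refine Finset.sum_congr rfl fun ρ _ => ?_
    rw [Finset.mul_sum]
    refine Finset.sum_congr rfl fun ρ' _ => ?_
    rw [fs_sub, fs_tr, fs_tr, ← sub_mul, norm_mul, mul_pow]
    ring
  rw [h1, Finset.mul_sum]
  unfold F
  rw [← Finset.sum_add_distrib]
  refine Finset.sum_congr rfl fun x _ => ?_
  show ‖fs b x‖ ^ 2 * (wt1 K q x * w x) = _
  by_cases hx : x ∈ K
  · rw [wt1_of_mem hx, if_pos hx]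
    ring
  · rw [wt1_of_not_mem hx, if_neg hx]
    field_simp
    ring

end Cfsg.Agent.Helper29.Knorr
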