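import Mathlib
import Cfsg.Agent.Helper29.KnorrB

set_option autoImplicit false
set_option linter.unusedSectionVars false

/-!
# Counting lemmas and the combinatorial inequality on the dual group
-/

namespace Cfsg.Agent.Helper29.Knorr

section Count

variable {ι α : Type*} [DecidableEq ι] [DecidableEq α]

/-- among rows `f ρ` (ρ ∈ R) together with a ground row `x₀`, not all equal, there are many
unequal pairs -/
theorem count_ground (R : Finset ι) (f : ι → α) (x₀ : α) (ρ₀ : ι) (hρ₀ : ρ₀ ∈ R)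
    (h0 : f ρ₀ ≠ x₀) :
    2 * R.card ≤ 2 * (R.filter (fun ρ => f ρ ≠ x₀)).card +
      ((R ×ˢ R).filter (fun p => f p.1 ≠ f p.2)).card := by
  set S₀ := R.filter (fun ρ => f ρ = x₀) with hS₀
  have hsplit : S₀.card + (R.filter (fun ρ => f ρ ≠ x₀)).card
      = R.card := Finset.card_filter_add_card_filter_not _
  have hρ₀S : ρ₀ ∉ S₀ := by
    rw [hS₀, Finset.mem_filter]
    exact fun h => h0 h.2
  have hsub : (S₀ ×ˢ {ρ₀}) ∪ ({ρ₀} ×ˢ S₀) ⊆ (R ×ˢ R).filter (fun p => f p.1 ≠ f p.2) := by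
    intro p hp
    rw [Finset.mem_union, Finset.mem_product, Finset.mem_product] at hp
    rw [Finset.mem_filter, Finset.mem_product]
    rcases hp with ⟨h1, h2⟩ | ⟨h1, h2⟩
    · rw [Finset.mem_singleton] at h2
      rw [hS₀, Finset.mem_filter] at h1
      refine ⟨⟨h1.1, h2 ▸ hρ₀⟩, ?_⟩
      rw [h1.2, h2]
      exact fun h => h0 h.symm
    · rw [Finset.mem_singleton] at h1
      rw [hS₀, Finset.mem_filter] at h2
      refine ⟨⟨h1 ▸ hρ₀, h2.1⟩, ?_⟩
      rw [h2.2, h1]
      exact h0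
  have hdisj : Disjoint (S₀ ×ˢ ({ρ₀} : Finset ι)) (({ρ₀} : Finset ι) ×ˢ S₀) := by
    rw [Finset.disjoint_left]
    intro p hp1 hp2
    rw [Finset.mem_product] at hp1 hp2
    rw [Finset.mem_singleton] at hp1 hp2
    apply hρ₀S
    rw [← hp2.1]
    exact hp1.1
  have hcard := Finset.card_le_card hsub
  rw [Finset.card_union_of_disjoint hdisj, Finset.card_product, Finset.card_product,
    Finset.card_singleton] at hcard
  omega

/-- among rows `f ρ` (ρ ∈ R), not all equal, there are many unequal pairs -/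
theorem count_noground (R : Finset ι) (f : ι → α) (ρ₁ ρ₂ : ι) (h1 : ρ₁ ∈ R) (h2 : ρ₂ ∈ R)
    (hne : f ρ₁ ≠ f ρ₂) :
    2 * (R.card - 1) ≤ ((R ×ˢ R).filter (fun p => f p.1 ≠ f p.2)).card := by
  set S := R.filter (fun ρ => f ρ = f ρ₁) with hS
  set T := R.filter (fun ρ => ¬ f ρ = f ρ₁) with hT
  have hsplit : S.card + T.card = R.card := Finset.card_filter_add_card_filter_not _
  have hSpos : 1 ≤ S.card := by
    apply Finset.card_pos.mpr
    exact ⟨ρ₁, by rw [hS, Finset.mem_filter]; exact ⟨h1, rfl⟩⟩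
  have hTpos : 1 ≤ T.card := by
    apply Finset.card_pos.mpr
    exact ⟨ρ₂, by rw [hT, Finset.mem_filter]; exact ⟨h2, fun h => hne h.symm⟩⟩
  have hsub : (S ×ˢ T) ∪ (T ×ˢ S) ⊆ (R ×ˢ R).filter (fun p => f p.1 ≠ f p.2) := by
    intro p hp
    rw [Finset.mem_union, Finset.mem_product, Finset.mem_product] at hp
    rw [Finset.mem_filter, Finset.mem_product]
    rcases hp with ⟨h1, h2⟩ | ⟨h1, h2⟩
    · rw [hS, Finset.mem_filter] at h1
      rw [hT, Finset.mem_filter] at h2
      refine ⟨⟨h1.1, h2.1⟩, ?_⟩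
      rw [h1.2]
      exact fun h => h2.2 h.symm
    · rw [hT, Finset.mem_filter] at h1
      rw [hS, Finset.mem_filter] at h2
      refine ⟨⟨h1.1, h2.1⟩, ?_⟩
      rw [h2.2]
      exact h1.2
  have hdisj : Disjoint (S ×ˢ T) (T ×ˢ S) := by
    rw [Finset.disjoint_left]
    intro p hp1 hp2
    rw [Finset.mem_product] at hp1 hp2
    have h3 := hp1.1
    have h4 := hp2.1
    rw [hS, Finset.mem_filter] at h3
    rw [hT, Finset.mem_filter] at h4
    exact h4.2 h3.2
  have hcard := Finset.card_le_card hsub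
  rw [Finset.card_union_of_disjoint hdisj, Finset.card_product, Finset.card_product] at hcard
  have h5 : R.card - 1 ≤ S.card * T.card := by
    have : (S.card - 1) * (T.card - 1) + (S.card + T.card - 1) = S.card * T.card := by
      obtain ⟨s, hs⟩ := Nat.exists_eq_add_of_le hSpos
      obtain ⟨t, ht⟩ := Nat.exists_eq_add_of_le hTpos
      rw [hs, ht]
      simp only [Nat.add_sub_cancel_left]
      have : 1 + s + (1 + t) - 1 = s + t + 1 := by omega
      rw [this]; ring
    rw [← hsplit, ← this]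
    exact Nat.le_add_left _ _
  have h6 : T.card * S.card = S.card * T.card := mul_comm _ _
  omega

end Count


section GroupId

variable {Γ : Type*} [CommGroup Γ]

theorem gid1 (σ ρ lam : Γ) : σ * ρ⁻¹ * (lam * ρ⁻¹)⁻¹ = σ * lam⁻¹ := by
  rw [mul_inv_rev, inv_inv]
  rw [mul_assoc, ← mul_assoc ρ⁻¹, inv_mul_cancel, one_mul]

theorem gid2 (σ ρ : Γ) : σ * ρ * ρ⁻¹ = σ := mul_inv_cancel_right σ ρ

theorem gid3 (σ ρ lam : Γ) : σ * ρ * lam⁻¹ = σ * (lam * ρ⁻¹)⁻¹ := by
  rw [mul_inv_rev, inv_inv, mul_assoc]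

theorem gid4 (lam ρ : Γ) : lam * ρ⁻¹ * ρ = lam := inv_mul_cancel_right lam ρ

theorem gid5 (σ κ : Γ) : σ * κ⁻¹ * κ⁻¹⁻¹ = σ := by
  rw [inv_inv, inv_mul_cancel_right]

theorem gid6 (σ lam ℓ κ : Γ) (h : σ * lam⁻¹ = ℓ * κ) : σ * κ⁻¹ * lam⁻¹ = ℓ := by
  have h1 : σ = ℓ * κ * lam := by
    rw [← h, inv_mul_cancel_right]
  rw [h1]
  simp [mul_assoc, mul_comm κ lam]

theorem gid7 (σ κ₀ κ : Γ) : σ * κ₀⁻¹ * (κ₀ * κ)⁻¹⁻¹ = σ * κ⁻¹⁻¹ := by
  rw [inv_inv, inv_inv, mul_assoc, ← mul_assoc κ₀⁻¹, inv_mul_cancel, one_mul]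

end GroupId

section Cover

variable {A : Type*} [CommGroup A] [Fintype A]

attribute [local instance] dualFintype

/-- `lam` agrees on `K` with some character in the support of `b` -/
def Cov (K : Subgroup A) (b : (A →* ℂˣ) → ℤ) (lam : A →* ℂˣ) : Prop :=
  ∃ σ, b σ ≠ 0 ∧ σ * lam⁻¹ ∈ ann K

open Classical in
/-- the number of characters covered by the support of `b` modulo `ann K` -/
noncomputable def M (K : Subgroup A) (b : (A →* ℂˣ) → ℤ) : ℕ :=
  (Finset.univ.filter (Cov K b)).card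

theorem cov_tr (K : Subgroup A) (b : (A →* ℂˣ) → ℤ) (ρ lam : A →* ℂˣ) :
    Cov K (tr ρ b) lam ↔ Cov K b (lam * ρ⁻¹) := by
  constructor
  · rintro ⟨σ, h1, h2⟩
    refine ⟨σ * ρ⁻¹, h1, ?_⟩
    rw [gid1 σ ρ lam]; exact h2
  · rintro ⟨σ, h1, h2⟩
    refine ⟨σ * ρ, ?_, ?_⟩
    · show b (σ * ρ * ρ⁻¹) ≠ 0
      rw [gid2 σ ρ]; exact h1
    · rw [gid3 σ ρ lam]; exact h2

theorem M_tr (K : Subgroup A) (b : (A →* ℂˣ) → ℤ) (ρ : A →* ℂˣ) :
    M K (tr ρ b) = M K b := by
  classical
  unfold M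
  apply Finset.card_nbij' (fun lam => lam * ρ⁻¹) (fun lam => lam * ρ)
  · intro lam hlam
    simp only [Finset.coe_filter, Finset.mem_univ, true_and, Set.mem_ofPred_eq] at hlam ⊢
    exact (cov_tr K b ρ lam).mp hlam
  · intro lam hlam
    simp only [Finset.coe_filter, Finset.mem_univ, true_and, Set.mem_ofPred_eq] at hlam ⊢
    rw [cov_tr, gid2 lam ρ]
    exact hlam
  · intro lam _
    exact gid4 lam ρ
  · intro lam _
    exact gid2 lam ρ

theorem M_eq_sum (K : Subgroup A) (b : (A →* ℂˣ) → ℤ) [DecidablePred (Cov K b)] :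
    M K b = ∑ lam : A →* ℂˣ, if Cov K b lam then 1 else 0 := by
  classical
  unfold M
  rw [Finset.card_filter]
  refine Finset.sum_congr rfl fun lam _ => ?_
  congr

/-- the combinatorial inequality -/
theorem comb (K K₁ : Subgroup A) (b : (A →* ℂˣ) → ℤ) :
    2 * (ann K₁).card * M (K ⊓ K₁) b ≤
      2 * (ann K₁).card * M K b +
        ∑ ρ ∈ ann K₁, ∑ ρ' ∈ ann K₁, M K (tr ρ b - tr ρ' b) := by
  classical
  set R := ann K₁ with hR
  -- pointwise inequality
  have hpt : ∀ lam : A →* ℂˣ, (if Cov (K ⊓ K₁) b lam then 2 * R.card else 0) ≤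
      2 * (R.filter (fun ρ => Cov K (tr ρ b) lam)).card +
        ((R ×ˢ R).filter (fun p => Cov K (tr p.1 b - tr p.2 b) lam)).card := by
    intro lam
    split_ifs with hc
    · obtain ⟨σ, hσ, hσl⟩ := hc
      obtain ⟨ℓ, hℓ, κ, hκ, hprod⟩ := ann_inf hσl
      let f : (A →* ℂˣ) → ((A →* ℂˣ) → ℤ) := fun ρ τ =>
        if τ * lam⁻¹ ∈ ann K then tr ρ b τ else 0
      have hf0 : ∀ ρ, f ρ ≠ 0 ↔ Cov K (tr ρ b) lam := by
        intro ρ
        constructor
        · intro h
          by_contra hcon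
          apply h
          funext τ
          show (if τ * lam⁻¹ ∈ ann K then tr ρ b τ else 0) = 0
          split_ifs with h1
          · by_contra h2
            exact hcon ⟨τ, h2, h1⟩
          · rfl
        · rintro ⟨τ, h1, h2⟩ h
          have := congrFun h τ
          simp only [f, if_pos h2] at this
          exact h1 this
      have hfne : ∀ ρ ρ', f ρ ≠ f ρ' ↔ Cov K (tr ρ b - tr ρ' b) lam := by
        intro ρ ρ'
        constructor
        · intro h
          by_contra hcon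
          apply h
          funext τ
          show (if τ * lam⁻¹ ∈ ann K then tr ρ b τ else 0) =
            (if τ * lam⁻¹ ∈ ann K then tr ρ' b τ else 0)
          split_ifs with h1
          · by_contra h2
            apply hcon
            refine ⟨τ, ?_, h1⟩
            rw [Pi.sub_apply]
            exact sub_ne_zero.mpr h2
          · rfl
        · rintro ⟨τ, h1, h2⟩ h
          have := congrFun h τ
          simp only [f, if_pos h2] at this
          rw [Pi.sub_apply] at h1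
          exact h1 (sub_eq_zero.mpr this)
      have hκ' : κ⁻¹ ∈ R := inv_mem_ann hκ
      have hfκ : f κ⁻¹ ≠ 0 := by
        rw [hf0]
        refine ⟨σ * κ⁻¹, ?_, ?_⟩
        · show b (σ * κ⁻¹ * κ⁻¹⁻¹) ≠ 0
          rw [gid5 σ κ]
          exact hσ
        · rw [gid6 σ lam ℓ κ hprod]; exact hℓ
      have hcount := count_ground R f 0 κ⁻¹ hκ' hfκ
      have e1 : R.filter (fun ρ => f ρ ≠ 0) = R.filter (fun ρ => Cov K (tr ρ b) lam) :=
        Finset.filter_congr fun ρ _ => hf0 ρ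
      have e2 : (R ×ˢ R).filter (fun p => f p.1 ≠ f p.2) =
          (R ×ˢ R).filter (fun p => Cov K (tr p.1 b - tr p.2 b) lam) :=
        Finset.filter_congr fun p _ => hfne p.1 p.2
      rw [e1, e2] at hcount
      exact hcount
    · exact Nat.zero_le _
  have hsum := Finset.sum_le_sum (s := (Finset.univ : Finset (A →* ℂˣ))) fun lam _ => hpt lam
  -- left side
  have hL : ∑ lam : A →* ℂˣ, (if Cov (K ⊓ K₁) b lam then 2 * R.card else 0) =
      2 * R.card * M (K ⊓ K₁) b := by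
    rw [M_eq_sum, Finset.mul_sum]
    refine Finset.sum_congr rfl fun lam _ => ?_
    split_ifs <;> simp
  -- right side, first part
  have hR1 : ∑ lam : A →* ℂˣ, (R.filter (fun ρ => Cov K (tr ρ b) lam)).card =
      R.card * M K b := by
    simp_rw [Finset.card_filter]
    rw [Finset.sum_comm]
    have : ∀ ρ ∈ R, ∑ lam : A →* ℂˣ, (if Cov K (tr ρ b) lam then 1 else 0) = M K b := by
      intro ρ _
      rw [← M_eq_sum, M_tr]
    rw [Finset.sum_congr rfl this, Finset.sum_const, smul_eq_mul]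
  have hR2 : ∑ lam : A →* ℂˣ,
      ((R ×ˢ R).filter (fun p => Cov K (tr p.1 b - tr p.2 b) lam)).card =
      ∑ ρ ∈ R, ∑ ρ' ∈ R, M K (tr ρ b - tr ρ' b) := by
    simp_rw [Finset.card_filter]
    rw [Finset.sum_comm, Finset.sum_product]
    refine Finset.sum_congr rfl fun ρ _ => Finset.sum_congr rfl fun ρ' _ => ?_
    rw [← M_eq_sum]
  rw [Finset.sum_add_distrib, ← Finset.mul_sum, hL, hR1, hR2] at hsum
  rw [← mul_assoc] at hsum
  exact hsum

end Cover

end Cfsg.Agent.Helper29.Knorr
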