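import Mathlib
import Cfsg.Agent.Helper29.KnorrC

set_option autoImplicit false
set_option linter.unusedSectionVars false

/-!
# The lattice lemma and the Knörr sum inequality
-/

namespace Cfsg.Agent.Helper29.Knorr

open scoped ComplexConjugate

variable {A : Type*} [CommGroup A] [Fintype A]

attribute [local instance] dualFintype

theorem wt1_nonneg {K : Subgroup A} {q : ℝ} (hq : 0 ≤ q) (x : A) : 0 ≤ wt1 K q x := by
  by_cases hx : x ∈ K
  · rw [wt1_of_mem hx]; exact zero_le_one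
  · rw [wt1_of_not_mem hx]; exact hq

theorem wt_nonneg (l : List (Subgroup A × ℝ)) (hl : ∀ kq ∈ l, 0 ≤ kq.2) (x : A) : 0 ≤ wt l x := by
  induction l with
  | nil => simp
  | cons kq l ih =>
    obtain ⟨K, q⟩ := kq
    rw [wt_cons]
    apply mul_nonneg
    · exact wt1_nonneg (hl (K, q) List.mem_cons_self) x
    · exact ih fun kq hkq => hl kq (List.mem_cons_of_mem _ hkq)

theorem eq_of_mul_inv_mem_ann_top {σ lam : A →* ℂˣ} (h : σ * lam⁻¹ ∈ ann (⊤ : Subgroup A)) :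
    σ = lam := by
  rw [mem_ann] at h
  ext y
  have := h y (Subgroup.mem_top y)
  rw [MonoidHom.mul_apply, MonoidHom.inv_apply, mul_inv_eq_one] at this
  rw [this]

/-- the lattice lemma -/
theorem lattice (l : List (Subgroup A × ℝ)) (hl : ∀ kq ∈ l, (kq.1.index : ℝ) + 1 ≤ kq.2) :
    ∀ b : (A →* ℂˣ) → ℤ, (Fintype.card A : ℝ) * (M (kerOf l) b : ℝ) ≤ F (wt l) b := by
  classical
  induction l with
  | nil =>
    intro b
    have h1 : F (wt ([] : List (Subgroup A × ℝ))) b = ∑ x : A, ‖fs b x‖ ^ 2 := by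
      unfold F
      refine Finset.sum_congr rfl fun x _ => ?_
      rw [wt_nil, mul_one]
    rw [h1, plancherel, kerOf_nil]
    apply mul_le_mul_of_nonneg_left _ (Nat.cast_nonneg _)
    rw [M_eq_sum]
    push_cast
    apply Finset.sum_le_sum
    intro lam _
    split_ifs with hc
    · obtain ⟨σ, hσ, hσl⟩ := hc
      have := eq_of_mul_inv_mem_ann_top hσl
      subst this
      have h2 : (1 : ℤ) ≤ (b σ) ^ 2 := by
        have : 0 < (b σ) ^ 2 := by positivity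
        omega
      exact_mod_cast h2
    · positivity
  | cons kq l ih =>
    obtain ⟨K₁, q⟩ := kq
    intro b
    have hl' : ∀ kq ∈ l, (kq.1.index : ℝ) + 1 ≤ kq.2 :=
      fun kq hkq => hl kq (List.mem_cons_of_mem _ hkq)
    have ih' := ih hl'
    have hq : (K₁.index : ℝ) + 1 ≤ q := hl (K₁, q) List.mem_cons_self
    have hwl : ∀ x, 0 ≤ wt l x := wt_nonneg l (fun kq hkq => by
      have := hl' kq hkq
      have h0 : (0 : ℝ) ≤ (kq.1.index : ℝ) := Nat.cast_nonneg _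
      linarith)
    set n : ℕ := (ann K₁).card with hn
    have hnK : n = K₁.index := card_ann K₁
    have hnpos : (0 : ℝ) < n := by
      have := card_ann_pos K₁
      exact_mod_cast this
    have h1 : F (wt ((K₁, q) :: l)) b = F (fun x => wt1 K₁ q x * wt l x) b := by
      unfold F
      refine Finset.sum_congr rfl fun x _ => ?_
      rw [wt_cons]
    rw [h1, F_wt1, kerOf_cons, inf_comm]
    set K := kerOf l with hK
    -- lower bounds from the induction hypothesis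
    have h2 : (Fintype.card A : ℝ) * (M K b : ℝ) ≤ F (wt l) b := ih' b
    have h3 : (Fintype.card A : ℝ) * ((∑ ρ ∈ ann K₁, ∑ ρ' ∈ ann K₁, M K (tr ρ b - tr ρ' b) : ℕ) : ℝ)
        ≤ ∑ ρ ∈ ann K₁, ∑ ρ' ∈ ann K₁, F (wt l) (tr ρ b - tr ρ' b) := by
      push_cast
      rw [Finset.mul_sum]
      apply Finset.sum_le_sum
      intro ρ _
      rw [Finset.mul_sum]
      apply Finset.sum_le_sum
      intro ρ' _
      exact ih' _
    have hcomb := comb K K₁ b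
    have hcomb' : (2 * (n : ℝ)) * (M (K ⊓ K₁) b : ℝ) ≤ (2 * (n : ℝ)) * (M K b : ℝ) +
        ((∑ ρ ∈ ann K₁, ∑ ρ' ∈ ann K₁, M K (tr ρ b - tr ρ' b) : ℕ) : ℝ) := by
      exact_mod_cast hcomb
    have hS_nonneg : 0 ≤ ∑ ρ ∈ ann K₁, ∑ ρ' ∈ ann K₁, F (wt l) (tr ρ b - tr ρ' b) :=
      Finset.sum_nonneg fun ρ _ => Finset.sum_nonneg fun ρ' _ => F_nonneg hwl _
    have hcoef : 1 / (2 * (n : ℝ)) ≤ (q - 1) / (2 * ((n : ℝ)) ^ 2) := by
      rw [div_le_div_iff₀ (by positivity) (by positivity)]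
      have : (n : ℝ) ≤ q - 1 := by rw [hnK]; linarith
      nlinarith [this, hnpos]
    set S := ∑ ρ ∈ ann K₁, ∑ ρ' ∈ ann K₁, F (wt l) (tr ρ b - tr ρ' b) with hS
    set T : ℝ := ((∑ ρ ∈ ann K₁, ∑ ρ' ∈ ann K₁, M K (tr ρ b - tr ρ' b) : ℕ) : ℝ) with hT
    have hcardA : (0 : ℝ) ≤ Fintype.card A := Nat.cast_nonneg _
    calc (Fintype.card A : ℝ) * (M (K ⊓ K₁) b : ℝ)
        = (Fintype.card A : ℝ) * ((2 * (n : ℝ)) * (M (K ⊓ K₁) b : ℝ)) / (2 * (n : ℝ)) := by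
          field_simp
      _ ≤ (Fintype.card A : ℝ) * ((2 * (n : ℝ)) * (M K b : ℝ) + T) / (2 * (n : ℝ)) := by
          apply div_le_div_of_nonneg_right _ (by positivity)
          exact mul_le_mul_of_nonneg_left hcomb' hcardA
      _ = (Fintype.card A : ℝ) * (M K b : ℝ) + 1 / (2 * (n : ℝ)) * ((Fintype.card A : ℝ) * T) := by
          field_simp
      _ ≤ F (wt l) b + 1 / (2 * (n : ℝ)) * S := by
          apply add_le_add h2
          apply mul_le_mul_of_nonneg_left h3 (by positivity)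
      _ ≤ F (wt l) b + (q - 1) / (2 * ((n : ℝ)) ^ 2) * S := by
          apply add_le_add le_rfl
          exact mul_le_mul_of_nonneg_right hcoef hS_nonneg


/-- the row of `tr ρ b` over the coset of `lam` -/
noncomputable def rowf (K : Subgroup A) (b : (A →* ℂˣ) → ℤ) (lam ρ : A →* ℂˣ) :
    (A →* ℂˣ) → ℤ := by
  classical
  exact fun τ => if τ * lam⁻¹ ∈ ann K then tr ρ b τ else 0

theorem rowf_ne_iff (K : Subgroup A) (b : (A →* ℂˣ) → ℤ) (lam ρ ρ' : A →* ℂˣ) :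
    rowf K b lam ρ ≠ rowf K b lam ρ' ↔ Cov K (tr ρ b - tr ρ' b) lam := by
  classical
  constructor
  · intro h
    by_contra hcon
    apply h
    funext τ
    show (if τ * lam⁻¹ ∈ ann K then tr ρ b τ else 0) =
      (if τ * lam⁻¹ ∈ ann K then tr ρ' b τ else 0)
    split_ifs with h1
    · by_contra h2
      apply hcon
      refine ⟨τ, ?_, h1⟩
      rw [Pi.sub_apply]
      exact sub_ne_zero.mpr h2
    · rfl
  · rintro ⟨τ, h1, h2⟩ h
    have := congrFun h τ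
    simp only [rowf, if_pos h2] at this
    rw [Pi.sub_apply] at h1
    exact h1 (sub_eq_zero.mpr this)

/-- if all rows over `lam` agree and `K ⊓ K₁ = ⊥`, then `b` is invariant under `ann K₁` -/
theorem tr_eq_of_rows_eq (K K₁ : Subgroup A) (hK : K ⊓ K₁ = ⊥) (b : (A →* ℂˣ) → ℤ)
    (lam : A →* ℂˣ)
    (hrows : ∀ ρ ∈ ann K₁, ∀ ρ' ∈ ann K₁, rowf K b lam ρ = rowf K b lam ρ')
    (κ : A →* ℂˣ) (hκ : κ ∈ ann K₁) : tr κ⁻¹ b = b := by
  classical
  funext σ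
  show b (σ * κ⁻¹⁻¹) = b σ
  have hmem : σ * lam⁻¹ ∈ ann (K ⊓ K₁) := by
    rw [hK, mem_ann]
    intro y hy
    rw [Subgroup.mem_bot] at hy
    rw [hy, map_one]
  obtain ⟨ℓ, hℓ, κ₀, hκ₀, hprod⟩ := ann_inf hmem
  -- τ = σ κ₀⁻¹
  have hτ : σ * κ₀⁻¹ * lam⁻¹ ∈ ann K := by rw [gid6 σ lam ℓ κ₀ hprod]; exact hℓ
  have h1 := hrows κ₀⁻¹ (inv_mem_ann hκ₀) (κ₀ * κ)⁻¹ (inv_mem_ann (mul_mem_ann hκ₀ hκ))
  have h2 := congrFun h1 (σ * κ₀⁻¹)
  simp only [rowf, if_pos hτ] at h2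
  -- h2 : tr κ₀⁻¹ b (σ κ₀⁻¹) = tr (κ₀ κ)⁻¹ b (σ κ₀⁻¹)
  have e1 : tr κ₀⁻¹ b (σ * κ₀⁻¹) = b σ := by
    show b (σ * κ₀⁻¹ * κ₀⁻¹⁻¹) = b σ
    rw [gid5 σ κ₀]
  have e2 : tr (κ₀ * κ)⁻¹ b (σ * κ₀⁻¹) = b (σ * κ⁻¹⁻¹) := by
    show b (σ * κ₀⁻¹ * (κ₀ * κ)⁻¹⁻¹) = b (σ * κ⁻¹⁻¹)
    congr 1
    exact gid7 σ κ₀ κ
  rw [e1, e2] at h2
  exact h2.symm


/-- the Knörr sum inequality -/
theorem knorr_sum (l : List (Subgroup A × ℝ)) (hl : ∀ kq ∈ l, (kq.1.index : ℝ) + 1 ≤ kq.2)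
    (K₁ : Subgroup A) [DecidablePred (fun x => x ∈ K₁)] (hK : kerOf l ⊓ K₁ = ⊥)
    (b : (A →* ℂˣ) → ℤ) (x₀ : A) (hx₀ : x₀ ∉ K₁) (hb : fs b x₀ ≠ 0) :
    ((K₁.index : ℝ) - 1) * (Fintype.card A : ℝ) ^ 2 ≤
      (K₁.index : ℝ) ^ 2 * ∑ x : A, (if x ∈ K₁ then 0 else ‖fs b x‖ ^ 2 * wt l x) := by
  classical
  set K := kerOf l with hKdef
  set R := ann K₁ with hR
  set n : ℕ := R.card with hn
  have hnK : n = K₁.index := card_ann K₁
  have hn1 : 1 ≤ n := card_ann_pos K₁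
  have hnpos : (0 : ℝ) < n := by exact_mod_cast hn1
  -- the sum as a difference of F's
  have hsum : ∑ x : A, (if x ∈ K₁ then 0 else ‖fs b x‖ ^ 2 * wt l x) =
      F (fun x => wt1 K₁ 2 x * wt l x) b - F (wt l) b := by
    unfold F
    rw [← Finset.sum_sub_distrib]
    refine Finset.sum_congr rfl fun x _ => ?_
    show _ = ‖fs b x‖ ^ 2 * (wt1 K₁ 2 x * wt l x) - _
    by_cases hx : x ∈ K₁
    · rw [if_pos hx, wt1_of_mem hx]; ring
    · rw [if_neg hx, wt1_of_not_mem hx]; ring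
  rw [hsum, F_wt1, add_sub_cancel_left]
  set S := ∑ ρ ∈ R, ∑ ρ' ∈ R, F (wt l) (tr ρ b - tr ρ' b) with hS
  -- lattice lemma
  have h3 : (Fintype.card A : ℝ) * ((∑ ρ ∈ R, ∑ ρ' ∈ R, M K (tr ρ b - tr ρ' b) : ℕ) : ℝ) ≤ S := by
    push_cast
    rw [Finset.mul_sum]
    apply Finset.sum_le_sum
    intro ρ _
    rw [Finset.mul_sum]
    apply Finset.sum_le_sum
    intro ρ' _
    exact lattice l hl _
  -- counting
  have hT : ∑ ρ ∈ R, ∑ ρ' ∈ R, M K (tr ρ b - tr ρ' b) =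
      ∑ lam : A →* ℂˣ, ((R ×ˢ R).filter (fun p => Cov K (tr p.1 b - tr p.2 b) lam)).card := by
    symm
    simp_rw [Finset.card_filter]
    rw [Finset.sum_comm, Finset.sum_product]
    refine Finset.sum_congr rfl fun ρ _ => Finset.sum_congr rfl fun ρ' _ => ?_
    rw [← M_eq_sum]
  have hpt : ∀ lam : A →* ℂˣ, 2 * (n - 1) ≤
      ((R ×ˢ R).filter (fun p => Cov K (tr p.1 b - tr p.2 b) lam)).card := by
    intro lam
    have hex : ∃ ρ₁ ∈ R, ∃ ρ₂ ∈ R, rowf K b lam ρ₁ ≠ rowf K b lam ρ₂ := by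
      by_contra hcon
      push Not at hcon
      obtain ⟨κ, hκ1, hκ2⟩ := Cfsg.Agent.Helper8.exists_hom_units_of_not_mem mul_comm K₁ hx₀
      have hκR : κ ∈ R := mem_ann.mpr hκ1
      have htr := tr_eq_of_rows_eq K K₁ hK b lam hcon κ hκR
      have h1 : fs b x₀ = ev κ⁻¹ x₀ * fs b x₀ := by
        conv_lhs => rw [← htr]
        exact fs_tr κ⁻¹ b x₀
      have h2 : (1 - ev κ⁻¹ x₀) * fs b x₀ = 0 := by
        rw [sub_mul, one_mul, ← h1, sub_self]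
      rcases mul_eq_zero.mp h2 with h4 | h4
      · apply hκ2
        have h5 : ev κ⁻¹ x₀ = 1 := (sub_eq_zero.mp h4).symm
        have h6 : ((κ⁻¹ x₀ : ℂˣ) : ℂ) = 1 := h5
        have h7 : κ⁻¹ x₀ = 1 := by
          apply Units.ext
          rw [h6]; rfl
        rw [MonoidHom.inv_apply, inv_eq_one] at h7
        exact h7
      · exact hb h4
    obtain ⟨ρ₁, h1, ρ₂, h2, hne⟩ := hex
    have hcount := count_noground R (rowf K b lam) ρ₁ ρ₂ h1 h2 hne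
    have e2 : (R ×ˢ R).filter (fun p => rowf K b lam p.1 ≠ rowf K b lam p.2) =
        (R ×ˢ R).filter (fun p => Cov K (tr p.1 b - tr p.2 b) lam) :=
      Finset.filter_congr fun p _ => rowf_ne_iff K b lam p.1 p.2
    rw [e2] at hcount
    exact hcount
  have hTge : Fintype.card A * (2 * (n - 1)) ≤ ∑ ρ ∈ R, ∑ ρ' ∈ R, M K (tr ρ b - tr ρ' b) := by
    rw [hT, ← card_dual, ← Finset.card_univ, ← smul_eq_mul, ← Finset.sum_const]
    exact Finset.sum_le_sum fun lam _ => hpt lam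
  have hTge' : (Fintype.card A : ℝ) * (2 * ((n : ℝ) - 1)) ≤
      ((∑ ρ ∈ R, ∑ ρ' ∈ R, M K (tr ρ b - tr ρ' b) : ℕ) : ℝ) := by
    have : ((Fintype.card A * (2 * (n - 1)) : ℕ) : ℝ) ≤
        ((∑ ρ ∈ R, ∑ ρ' ∈ R, M K (tr ρ b - tr ρ' b) : ℕ) : ℝ) := by exact_mod_cast hTge
    rw [Nat.cast_mul, Nat.cast_mul, Nat.cast_sub hn1] at this
    push_cast at this ⊢
    exact this
  have hcardA : (0 : ℝ) ≤ Fintype.card A := Nat.cast_nonneg _
  have hSge : (Fintype.card A : ℝ) * ((Fintype.card A : ℝ) * (2 * ((n : ℝ) - 1))) ≤ S :=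
    le_trans (mul_le_mul_of_nonneg_left hTge' hcardA) h3
  rw [← hnK]
  have : (n : ℝ) ^ 2 * ((2 - 1) / (2 * (n : ℝ) ^ 2) * S) = S / 2 := by
    field_simp
    ring
  rw [this]
  nlinarith [hSge]

end Cfsg.Agent.Helper29.Knorr
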