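import Mathlib
import Cfsg.Agent.Helper29.KnorrD
import Cfsg.Agent.Helper26.Maschke
import Cfsg.Agent.Helper3.MaschkeExt

set_option autoImplicit false
set_option linter.unusedSectionVars false

/-!
# The module side: weight lists from invariant decompositions
-/

namespace Cfsg.Agent.Helper29.Knorr

section SubgroupLemmas

variable {X : Type*} [Group X]

/-- elements of a sup of two elementwise commuting subgroups are products -/
theorem exists_mul_of_mem_sup_commute (U U' : Subgroup X)
    (hcomm : ∀ u ∈ U, ∀ u' ∈ U', u * u' = u' * u) {x : X} (hx : x ∈ U ⊔ U') :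
    ∃ u ∈ U, ∃ u' ∈ U', x = u * u' := by
  have hLE : U ≤ Subgroup.normalizer (U' : Set X) := by
    intro u hu
    rw [Subgroup.mem_normalizer_iff]
    intro h
    constructor
    · intro hh
      rw [hcomm u hu h hh, mul_inv_cancel_right]
      exact hh
    · intro hh
      have h1 : u⁻¹ * (u * h * u⁻¹) * u = h := by group
      have h2 := hcomm u⁻¹ (U.inv_mem hu) (u * h * u⁻¹) hh
      rw [h2] at h1
      rw [← h1, mul_assoc, inv_mul_cancel, mul_one]
      exact hh
  have := Subgroup.coe_mul_of_left_le_normalizer_right U U' hLE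
  have hx' : x ∈ ((U ⊔ U' : Subgroup X) : Set X) := hx
  rw [this, Set.mem_mul] at hx'
  obtain ⟨u, hu, u', hu', rfl⟩ := hx'
  exact ⟨u, hu, u', hu', rfl⟩

/-- uniqueness of the decomposition -/
theorem eq_of_mul_eq_mul_disjoint (U U' : Subgroup X) (hdisj : U ⊓ U' = ⊥)
    {a a' b b' : X} (ha : a ∈ U) (ha' : a' ∈ U) (hb : b ∈ U') (hb' : b' ∈ U')
    (h : a * b = a' * b') : a = a' ∧ b = b' := by
  have h1 : a'⁻¹ * a = b' * b⁻¹ := by
    have : a'⁻¹ * (a * b) * b⁻¹ = a'⁻¹ * (a' * b') * b⁻¹ := by rw [h]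
    simpa [mul_assoc] using this
  have h2 : a'⁻¹ * a ∈ U ⊓ U' :=
    ⟨U.mul_mem (U.inv_mem ha') ha, h1 ▸ U'.mul_mem hb' (U'.inv_mem hb)⟩
  rw [hdisj, Subgroup.mem_bot] at h2
  have h3 : a = a' := by
    have := inv_mul_eq_one.mp h2
    exact this.symm
  refine ⟨h3, ?_⟩
  rw [h2] at h1
  have := (mul_inv_eq_one.mp h1.symm)
  exact this.symm

theorem card_sup_of_commute (U U' : Subgroup X) [Finite X]
    (hcomm : ∀ u ∈ U, ∀ u' ∈ U', u * u' = u' * u) (hdisj : U ⊓ U' = ⊥) :
    Nat.card ↥(U ⊔ U') = Nat.card U * Nat.card U' := by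
  rw [← Nat.card_prod]
  symm
  apply Nat.card_congr
  refine Equiv.ofBijective
    (fun ab : U × U' => (⟨(ab.1 : X) * (ab.2 : X),
      Subgroup.mul_mem _ (Subgroup.mem_sup_left ab.1.2) (Subgroup.mem_sup_right ab.2.2)⟩ :
        ↥(U ⊔ U'))) ⟨?_, ?_⟩
  · rintro ⟨a, b⟩ ⟨a', b'⟩ h
    have h1 : (a : X) * (b : X) = (a' : X) * (b' : X) := congrArg Subtype.val h
    obtain ⟨h2, h3⟩ := eq_of_mul_eq_mul_disjoint U U' hdisj a.2 a'.2 b.2 b'.2 h1
    exact Prod.ext (Subtype.ext h2) (Subtype.ext h3)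
  · rintro ⟨x, hx⟩
    obtain ⟨u, hu, u', hu', rfl⟩ := exists_mul_of_mem_sup_commute U U' hcomm hx
    exact ⟨(⟨u, hu⟩, ⟨u', hu'⟩), rfl⟩

/-- fixed points of a normalizing element on a commuting direct product -/
theorem sup_inf_centralizer (U U' : Subgroup X)
    (hcomm : ∀ u ∈ U, ∀ u' ∈ U', u * u' = u' * u) (hdisj : U ⊓ U' = ⊥) (g : X)
    (hgU : ∀ u ∈ U, g * u * g⁻¹ ∈ U) (hgU' : ∀ u ∈ U', g * u * g⁻¹ ∈ U') :
    (U ⊔ U') ⊓ Subgroup.centralizer ({g} : Set X) =
      (U ⊓ Subgroup.centralizer ({g} : Set X)) ⊔ (U' ⊓ Subgroup.centralizer ({g} : Set X)) := by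
  apply le_antisymm
  · intro x hx
    rw [Subgroup.mem_inf] at hx
    obtain ⟨hx1, hx2⟩ := hx
    obtain ⟨u, hu, u', hu', rfl⟩ := exists_mul_of_mem_sup_commute U U' hcomm hx1
    rw [Subgroup.mem_centralizer_iff] at hx2
    have h1 : g * (u * u') = u * u' * g := hx2 g rfl
    have h2 : (g * u * g⁻¹) * (g * u' * g⁻¹) = u * u' := by
      have : g * u * g⁻¹ * (g * u' * g⁻¹) = g * (u * u') * g⁻¹ := by group
      rw [this, h1, mul_inv_cancel_right]
    obtain ⟨h3, h4⟩ := eq_of_mul_eq_mul_disjoint U U' hdisj (hgU u hu) hu (hgU' u' hu') hu' h2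
    apply Subgroup.mul_mem
    · apply Subgroup.mem_sup_left
      refine Subgroup.mem_inf.mpr ⟨hu, ?_⟩
      rw [Subgroup.mem_centralizer_iff]
      intro y hy
      rw [Set.mem_singleton_iff] at hy
      subst hy
      have := congrArg (fun z => z * y) h3
      simpa using this
    · apply Subgroup.mem_sup_right
      refine Subgroup.mem_inf.mpr ⟨hu', ?_⟩
      rw [Subgroup.mem_centralizer_iff]
      intro y hy
      rw [Set.mem_singleton_iff] at hy
      subst hy
      have := congrArg (fun z => z * y) h4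
      simpa using this
  · apply sup_le
    · exact inf_le_inf_right _ le_sup_left
    · exact inf_le_inf_right _ le_sup_right

theorem compl_exp {X : Type*} [Group X] [Finite X] (p : ℕ) [Fact p.Prime] (W W₁ : Subgroup X)
    (hab : ∀ a ∈ W, ∀ b ∈ W, a * b = b * a) (hexp : ∀ v ∈ W, v ^ p = 1) (h1 : W₁ ≤ W) :
    ∃ W₀ : Subgroup X, W₀ ≤ W ∧ W₁ ⊓ W₀ = ⊥ ∧ W₁ ⊔ W₀ = W := by
  let inst : CommGroup ↥W :=
    { (inferInstance : Group ↥W) with
      mul_comm := fun a b => Subtype.ext (hab a a.2 b b.2) }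
  have hexp' : ∀ v : ↥W, v ^ p = 1 := fun v => Subtype.ext (by simpa using hexp v v.2)
  obtain ⟨U, hU1, hU2⟩ := @Cfsg.Agent.Helper3.exists_compl_of_exponent ↥W inst _ p _ hexp'
    (W₁.subgroupOf W)
  refine ⟨U.map W.subtype, ?_, ?_, ?_⟩
  · intro x hx
    obtain ⟨y, _, rfl⟩ := hx
    exact y.2
  · rw [eq_bot_iff]
    intro x hx
    obtain ⟨hx1, y, hy, rfl⟩ := hx
    have : y ∈ W₁.subgroupOf W ⊓ U := ⟨hx1, hy⟩
    rw [hU1, Subgroup.mem_bot] at this
    rw [this]; simp
  · apply le_antisymm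
    · apply sup_le h1
      intro x hx
      obtain ⟨y, _, rfl⟩ := hx
      exact y.2
    · intro x hx
      have : (⟨x, hx⟩ : ↥W) ∈ W₁.subgroupOf W ⊔ U := by rw [hU2]; exact Subgroup.mem_top _
      rw [Subgroup.mem_sup] at this
      obtain ⟨a, ha, b, hb, hab'⟩ := this
      have hx' : x = (a : X) * (b : X) := by
        have := congrArg Subtype.val hab'
        simpa using this.symm
      rw [hx']
      exact Subgroup.mul_mem _ (Subgroup.mem_sup_left ha) (Subgroup.mem_sup_right ⟨b, hb, rfl⟩)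

end SubgroupLemmas


section Module

variable {X : Type*} [Group X] [Finite X] {A : Type*} [CommGroup A] [Fintype A]

/-- the standing hypotheses on the module side -/
structure Setup (p : ℕ) (V H : Subgroup X) (φ : A →* X) : Prop where
  hVab : ∀ a ∈ V, ∀ b ∈ V, a * b = b * a
  hVexp : ∀ v ∈ V, v ^ p = 1
  hHab : ∀ a ∈ H, ∀ b ∈ H, a * b = b * a
  hcop : (Nat.card H).Coprime (Nat.card V)
  hφ : ∀ a : A, ∃ h ∈ H, ∀ w ∈ V, φ a * w * (φ a)⁻¹ = h * w * h⁻¹

/-- `H`-invariant subgroups of `V` -/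
def IsInv (V H W : Subgroup X) : Prop := W ≤ V ∧ H ≤ Subgroup.normalizer (W : Set X)

variable {p : ℕ} {V H : Subgroup X} {φ : A →* X}

theorem IsInv.conj_mem_of_mem {W : Subgroup X} (hW : IsInv V H W) {h : X} (hh : h ∈ H) {w : X}
    (hw : w ∈ W) : h * w * h⁻¹ ∈ W :=
  (Subgroup.mem_normalizer_iff.mp (hW.2 hh) w).mp hw

theorem Setup.conj_mem (hS : Setup p V H φ) {W : Subgroup X} (hW : IsInv V H W) (a : A) {w : X}
    (hw : w ∈ W) : φ a * w * (φ a)⁻¹ ∈ W := by
  obtain ⟨h, hh, hconj⟩ := hS.hφ a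
  rw [hconj w (hW.1 hw)]
  exact hW.conj_mem_of_mem hh hw

theorem Setup.fixed_isInv (hS : Setup p V H φ) {W : Subgroup X} (hW : IsInv V H W) (a : A) :
    IsInv V H (W ⊓ Subgroup.centralizer ({φ a} : Set X)) := by
  refine ⟨inf_le_left.trans hW.1, ?_⟩
  obtain ⟨ha, hha, hconj⟩ := hS.hφ a
  have key : ∀ h ∈ H, ∀ x ∈ W ⊓ Subgroup.centralizer ({φ a} : Set X),
      h * x * h⁻¹ ∈ W ⊓ Subgroup.centralizer ({φ a} : Set X) := by
    intro h hh x hx
    rw [Subgroup.mem_inf] at hx ⊢
    obtain ⟨hx1, hx2⟩ := hx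
    have hx3 : h * x * h⁻¹ ∈ W := hW.conj_mem_of_mem hh hx1
    refine ⟨hx3, ?_⟩
    rw [Subgroup.mem_centralizer_iff] at hx2 ⊢
    intro y hy
    rw [Set.mem_singleton_iff] at hy
    subst hy
    -- φ a (h x h⁻¹) (φ a)⁻¹ = h x h⁻¹
    have h1 : φ a * (h * x * h⁻¹) * (φ a)⁻¹ = ha * (h * x * h⁻¹) * ha⁻¹ := hconj _ (hW.1 hx3)
    have h2 : φ a * x * (φ a)⁻¹ = ha * x * ha⁻¹ := hconj _ (hW.1 hx1)
    have h3 : φ a * x * (φ a)⁻¹ = x := by
      rw [hx2 (φ a) rfl, mul_inv_cancel_right]
    have h4 : ha * h = h * ha := hS.hHab ha hha h hh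
    have h5 : ha * (h * x * h⁻¹) * ha⁻¹ = h * (ha * x * ha⁻¹) * h⁻¹ := by
      have : ha * (h * x * h⁻¹) * ha⁻¹ = (ha * h) * x * (ha * h)⁻¹ := by group
      rw [this, h4]; group
    have h6 : φ a * (h * x * h⁻¹) * (φ a)⁻¹ = h * x * h⁻¹ := by
      rw [h1, h5, ← h2, h3]
    have := congrArg (fun z => z * φ a) h6
    simpa using this
  intro h hh
  rw [Subgroup.mem_normalizer_iff]
  intro x
  constructor
  · exact key h hh x
  · intro hx
    have := key h⁻¹ (H.inv_mem hh) _ hx
    have e : h⁻¹ * (h * x * h⁻¹) * h⁻¹⁻¹ = x := by group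
    rwa [e] at this


/-- minimal nontrivial invariant subgroups below `W` -/
def IsMinInv (V H W W₁ : Subgroup X) : Prop :=
  Minimal (fun U : Subgroup X => U ≠ ⊥ ∧ IsInv V H U ∧ U ≤ W) W₁

theorem IsMinInv.eq_bot_or_eq {W W₁ : Subgroup X} (hm : IsMinInv V H W W₁) {U : Subgroup X}
    (hU : IsInv V H U) (hUW : U ≤ W₁) : U = ⊥ ∨ U = W₁ := by
  by_cases h : U = ⊥
  · exact Or.inl h
  · right
    exact le_antisymm hUW (hm.2 ⟨h, hU, hUW.trans hm.1.2.2⟩ hUW)

/-- the acting group is semiregular modulo the kernel on a minimal invariant subgroup -/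
theorem Setup.index_bound (hS : Setup p V H φ) {W W₁ : Subgroup X} (hm : IsMinInv V H W W₁) :
    ((Subgroup.centralizer (W₁ : Set X)).comap φ).index + 1 ≤ Nat.card W₁ := by
  classical
  set K₁ := (Subgroup.centralizer (W₁ : Set X)).comap φ with hK₁
  have hW₁inv : IsInv V H W₁ := hm.1.2.1
  obtain ⟨w₁, hw₁, hw₁1⟩ : ∃ w ∈ W₁, w ≠ 1 := by
    by_contra hcon
    push Not at hcon
    apply hm.1.1
    rw [eq_bot_iff]
    intro x hx
    rw [Subgroup.mem_bot]
    exact hcon x hx
  -- the orbit map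
  let f0 : A → ↥W₁ := fun a => ⟨φ a * w₁ * (φ a)⁻¹, hS.conj_mem hW₁inv a hw₁⟩
  have hf0 : ∀ a b : A, f0 a = f0 b ↔ a⁻¹ * b ∈ K₁ := by
    intro a b
    constructor
    · intro h
      have h1 : φ a * w₁ * (φ a)⁻¹ = φ b * w₁ * (φ b)⁻¹ := congrArg Subtype.val h
      -- φ (a⁻¹ b) centralizes w₁
      have h2 : w₁ ∈ W₁ ⊓ Subgroup.centralizer ({φ (a⁻¹ * b)} : Set X) := by
        rw [Subgroup.mem_inf]
        refine ⟨hw₁, ?_⟩
        rw [Subgroup.mem_centralizer_iff]
        intro y hy
        rw [Set.mem_singleton_iff] at hy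
        subst hy
        rw [map_mul, map_inv]
        have : (φ a)⁻¹ * (φ a * w₁ * (φ a)⁻¹) * φ b = (φ a)⁻¹ * (φ b * w₁ * (φ b)⁻¹) * φ b := by
          rw [h1]
        simpa [mul_assoc] using this.symm
      have h3 := hm.eq_bot_or_eq (hS.fixed_isInv hW₁inv (a⁻¹ * b)) inf_le_left
      rcases h3 with h3 | h3
      · rw [h3, Subgroup.mem_bot] at h2
        exact absurd h2 hw₁1
      · rw [hK₁, Subgroup.mem_comap, Subgroup.mem_centralizer_iff]
        intro y hy
        have hy' : y ∈ W₁ ⊓ Subgroup.centralizer ({φ (a⁻¹ * b)} : Set X) := by rw [h3]; exact hy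
        rw [Subgroup.mem_inf, Subgroup.mem_centralizer_iff] at hy'
        exact (hy'.2 _ rfl).symm
    · intro h
      rw [hK₁, Subgroup.mem_comap, Subgroup.mem_centralizer_iff] at h
      have h1 := h w₁ hw₁
      rw [map_mul, map_inv] at h1
      apply Subtype.ext
      show φ a * w₁ * (φ a)⁻¹ = φ b * w₁ * (φ b)⁻¹
      have h2 : φ b = φ a * ((φ a)⁻¹ * φ b) := by group
      rw [h2]
      have : φ a * ((φ a)⁻¹ * φ b) * w₁ * (φ a * ((φ a)⁻¹ * φ b))⁻¹ =
          φ a * (((φ a)⁻¹ * φ b) * w₁ * ((φ a)⁻¹ * φ b)⁻¹) * (φ a)⁻¹ := by group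
      rw [this, ← h1, mul_inv_cancel_right]
  let f : Option (A ⧸ K₁) → ↥W₁ := fun o =>
    match o with
    | none => 1
    | some q => Quotient.liftOn' q f0 (fun a b hab => by
        rw [QuotientGroup.leftRel_apply] at hab
        exact (hf0 a b).mpr hab)
  have hfinj : Function.Injective f := by
    intro o o' h
    match o, o' with
    | none, none => rfl
    | none, some q =>
      exfalso
      induction q using Quotient.inductionOn' with
      | h a =>
        have h1 : (1 : ↥W₁) = f0 a := h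
        have h2 : (1 : X) = φ a * w₁ * (φ a)⁻¹ := congrArg Subtype.val h1
        apply hw₁1
        have : (φ a)⁻¹ * (φ a * w₁ * (φ a)⁻¹) * φ a = w₁ := by group
        rw [← this, ← h2]; group
    | some q, none =>
      exfalso
      induction q using Quotient.inductionOn' with
      | h a =>
        have h1 : f0 a = (1 : ↥W₁) := h
        have h2 : φ a * w₁ * (φ a)⁻¹ = (1 : X) := congrArg Subtype.val h1
        apply hw₁1
        have : (φ a)⁻¹ * (φ a * w₁ * (φ a)⁻¹) * φ a = w₁ := by group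
        rw [← this, h2]; group
    | some q, some q' =>
      induction q using Quotient.inductionOn' with
      | h a =>
        induction q' using Quotient.inductionOn' with
        | h b =>
          have h1 : f0 a = f0 b := h
          congr 1
          apply Quotient.sound'
          rw [QuotientGroup.leftRel_apply]
          exact (hf0 a b).mp h1
  have hcard := Nat.card_le_card_of_injective f hfinj
  have h1 : Nat.card (Option (A ⧸ K₁)) = K₁.index + 1 := by
    have : Fintype (A ⧸ K₁) := Fintype.ofFinite _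
    rw [Nat.card_eq_fintype_card, Fintype.card_option, ← Nat.card_eq_fintype_card]
    rfl
  rw [h1] at hcard
  exact hcard


theorem centralizer_bot_eq_top : Subgroup.centralizer (((⊥ : Subgroup X) : Subgroup X) : Set X) = ⊤ := by
  rw [eq_top_iff]
  intro x _
  rw [Subgroup.mem_centralizer_iff]
  intro y hy
  have : y = 1 := by simpa using hy
  rw [this, one_mul, mul_one]

/-- the weight list attached to an invariant subgroup -/
theorem Setup.exists_list [Fact p.Prime] (hS : Setup p V H φ) (n : ℕ) :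
    ∀ W : Subgroup X, IsInv V H W → Nat.card W ≤ n →
      ∃ l : List (Subgroup A × ℝ), (∀ kq ∈ l, (kq.1.index : ℝ) + 1 ≤ kq.2) ∧
        (∀ a : A, (Nat.card W : ℝ) =
          wt l a * (Nat.card ↥(W ⊓ Subgroup.centralizer ({φ a} : Set X)) : ℝ)) ∧
        kerOf l = (Subgroup.centralizer (W : Set X)).comap φ := by
  classical
  induction n with
  | zero =>
    intro W _ hn
    have : 0 < Nat.card W := Nat.card_pos
    omega
  | succ n ih =>
    intro W hW hn
    by_cases hbot : W = ⊥
    · subst hbot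
      refine ⟨[], by simp, fun a => ?_, ?_⟩
      · rw [wt_nil, one_mul]
        have : (⊥ : Subgroup X) ⊓ Subgroup.centralizer ({φ a} : Set X) = ⊥ := bot_inf_eq _
        rw [this]
      · rw [kerOf_nil, centralizer_bot_eq_top, Subgroup.comap_top]
    · -- a minimal invariant subgroup
      obtain ⟨W₁, hW₁W, hmin⟩ := exists_minimal_le_of_wellFoundedLT
        (fun U : Subgroup X => U ≠ ⊥ ∧ IsInv V H U ∧ U ≤ W) W ⟨hbot, hW, le_rfl⟩
      have hm : IsMinInv V H W W₁ := hmin
      have hW₁inv : IsInv V H W₁ := hm.1.2.1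
      have hW₁ne : W₁ ≠ ⊥ := hm.1.1
      have hWab : ∀ a ∈ W, ∀ b ∈ W, a * b = b * a := fun a ha b hb =>
        hS.hVab a (hW.1 ha) b (hW.1 hb)
      have hWexp : ∀ v ∈ W, v ^ p = 1 := fun v hv => hS.hVexp v (hW.1 hv)
      obtain ⟨W₀, hW₀W, hd0, hs0⟩ := compl_exp p W W₁ hWab hWexp hW₁W
      have : IsMulCommutative W := ⟨⟨fun a b => Subtype.ext (hWab a a.2 b b.2)⟩⟩
      have hcopW : (Nat.card H).Coprime (Nat.card W) :=
        Nat.Coprime.coprime_dvd_right (Subgroup.card_dvd_of_le hW.1) hS.hcop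
      obtain ⟨W', hW'W, hW'H, hd, hs⟩ := Cfsg.Agent.Helper26.maschke_abelian W H W₁ W₀ hW.2 hcopW
        hW₁W hW₁inv.2 hW₀W hd0 hs0
      have hW'inv : IsInv V H W' := ⟨hW'W.trans hW.1, hW'H⟩
      have hcomm : ∀ u ∈ W₁, ∀ u' ∈ W', u * u' = u' * u := fun u hu u' hu' =>
        hWab u (hW₁W hu) u' (hW'W hu')
      have hcardW : Nat.card W = Nat.card W₁ * Nat.card W' := by
        rw [← card_sup_of_commute W₁ W' hcomm hd, hs]
      have hW₁card : 1 < Nat.card W₁ := by
        rw [Subgroup.one_lt_card_iff_ne_bot]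
        exact hW₁ne
      have hW'card : Nat.card W' ≤ n := by
        have h1 : 0 < Nat.card W' := Nat.card_pos
        have : Nat.card W' * 2 ≤ Nat.card W := by
          rw [hcardW, mul_comm]
          exact Nat.mul_le_mul_right _ hW₁card
        omega
      obtain ⟨l', hl'1, hl'2, hl'3⟩ := ih W' hW'inv hW'card
      set K₁ := (Subgroup.centralizer (W₁ : Set X)).comap φ with hK₁
      refine ⟨(K₁, (Nat.card W₁ : ℝ)) :: l', ?_, ?_, ?_⟩
      · intro kq hkq
        rw [List.mem_cons] at hkq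
        rcases hkq with rfl | hkq
        · have := hS.index_bound hm
          show ((K₁.index : ℝ)) + 1 ≤ (Nat.card W₁ : ℝ)
          exact_mod_cast this
        · exact hl'1 kq hkq
      · intro a
        rw [wt_cons]
        -- fixed points decompose
        have hfix := sup_inf_centralizer W₁ W' hcomm hd (φ a)
          (fun u hu => hS.conj_mem hW₁inv a hu) (fun u hu => hS.conj_mem hW'inv a hu)
        rw [hs] at hfix
        have hcomm' : ∀ u ∈ W₁ ⊓ Subgroup.centralizer ({φ a} : Set X),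
            ∀ u' ∈ W' ⊓ Subgroup.centralizer ({φ a} : Set X), u * u' = u' * u :=
          fun u hu u' hu' => hcomm u (Subgroup.mem_inf.mp hu).1 u' (Subgroup.mem_inf.mp hu').1
        have hd' : (W₁ ⊓ Subgroup.centralizer ({φ a} : Set X)) ⊓
            (W' ⊓ Subgroup.centralizer ({φ a} : Set X)) = ⊥ := by
          rw [eq_bot_iff, ← hd]
          exact inf_le_inf inf_le_left inf_le_left
        have hcardfix := card_sup_of_commute _ _ hcomm' hd'
        rw [← hfix] at hcardfix
        rw [hcardfix, hcardW]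
        push_cast
        have hl'2a := hl'2 a
        -- the minimal part
        have hmin1 : (Nat.card W₁ : ℝ) = wt1 K₁ (Nat.card W₁ : ℝ) a *
            (Nat.card ↥(W₁ ⊓ Subgroup.centralizer ({φ a} : Set X)) : ℝ) := by
          by_cases ha : a ∈ K₁
          · rw [wt1_of_mem ha, one_mul]
            have : W₁ ⊓ Subgroup.centralizer ({φ a} : Set X) = W₁ := by
              apply inf_eq_left.mpr
              intro y hy
              rw [hK₁, Subgroup.mem_comap, Subgroup.mem_centralizer_iff] at ha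
              rw [Subgroup.mem_centralizer_iff]
              intro z hz
              rw [Set.mem_singleton_iff] at hz
              subst hz
              exact (ha y hy).symm
            rw [this]
          · rw [wt1_of_not_mem ha]
            have h3 := hm.eq_bot_or_eq (hS.fixed_isInv hW₁inv a) inf_le_left
            rcases h3 with h3 | h3
            · rw [h3]
              simp
            · exfalso
              apply ha
              rw [hK₁, Subgroup.mem_comap, Subgroup.mem_centralizer_iff]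
              intro y hy
              have hy' : y ∈ W₁ ⊓ Subgroup.centralizer ({φ a} : Set X) := by rw [h3]; exact hy
              rw [Subgroup.mem_inf, Subgroup.mem_centralizer_iff] at hy'
              exact (hy'.2 _ rfl).symm
        rw [hl'2a]
        conv_lhs => rw [hmin1]
        ring
      · rw [kerOf_cons, hl'3, hK₁, ← Subgroup.comap_inf]
        congr 1
        rw [← hs]
        ext x
        rw [Subgroup.mem_inf, Subgroup.mem_centralizer_iff, Subgroup.mem_centralizer_iff,
          Subgroup.mem_centralizer_iff]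
        constructor
        · rintro ⟨h1, h2⟩ y hy
          obtain ⟨u, hu, u', hu', rfl⟩ := exists_mul_of_mem_sup_commute W₁ W' hcomm hy
          have e1 := h1 u hu
          have e2 := h2 u' hu'
          calc u * u' * x = u * (u' * x) := mul_assoc _ _ _
            _ = u * (x * u') := by rw [e2]
            _ = (u * x) * u' := (mul_assoc _ _ _).symm
            _ = (x * u) * u' := by rw [e1]
            _ = x * (u * u') := mul_assoc _ _ _
        · intro h
          exact ⟨fun y hy => h y (Subgroup.mem_sup_left hy), fun y hy => h y (Subgroup.mem_sup_right hy)⟩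

end Module

end Cfsg.Agent.Helper29.Knorr
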