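import Mathlib
import Cfsg.Agent.Helper29.KnorrE

set_option autoImplicit false
set_option linter.unusedSectionVars false

/-!
# Centralizer bound for elements `c * z`
-/

namespace Cfsg.Agent.Helper29.Knorr

section Cent

variable {X : Type*} [Group X] [Finite X]

theorem commute_of_mem_centralizer_singleton {a x : X}
    (h : x ∈ Subgroup.centralizer ({a} : Set X)) : a * x = x * a := by
  rw [Subgroup.mem_centralizer_iff] at h
  exact h a rfl

theorem mem_centralizer_singleton_of_commute {a x : X} (h : a * x = x * a) :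
    x ∈ Subgroup.centralizer ({a} : Set X) := by
  rw [Subgroup.mem_centralizer_iff]
  intro y hy
  rw [Set.mem_singleton_iff] at hy
  subst hy
  exact h

theorem card_centralizer_le (p : ℕ) [hp : Fact p.Prime] (V G : Subgroup X)
    (hVab : ∀ a ∈ V, ∀ b ∈ V, a * b = b * a) (hGV : Subgroup.IsComplement' V G) (v : X)
    (hv : v ∈ V) (hvp : v ^ p = 1)
    (hab : ∀ a ∈ G ⊓ Subgroup.centralizer ({v} : Set X),
      ∀ b ∈ G ⊓ Subgroup.centralizer ({v} : Set X), a * b = b * a)
    (hcop : (Nat.card ↥(G ⊓ Subgroup.centralizer ({v} : Set X))).Coprime p)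
    (c : X) (hc : c ∈ G ⊓ Subgroup.centralizer ({v} : Set X)) (z : X)
    (hz : z ∈ Subgroup.zpowers v) (hz1 : z ≠ 1) :
    Nat.card (Subgroup.centralizer ({c * z} : Set X)) ≤
      Nat.card ↥(G ⊓ Subgroup.centralizer ({v} : Set X)) *
        Nat.card ↥(V ⊓ Subgroup.centralizer ({c * z} : Set X)) := by
  classical
  set C := G ⊓ Subgroup.centralizer ({v} : Set X) with hC
  set m := Nat.card C with hm
  set a := c * z with ha
  obtain ⟨k, hk⟩ := Subgroup.mem_zpowers_iff.mp hz
  have hcv : v * c = c * v := commute_of_mem_centralizer_singleton (Subgroup.mem_inf.mp hc).2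
  have hcz : Commute c z := by
    rw [← hk]
    exact (Commute.zpow_right hcv.symm k)
  have hcm : c ^ m = 1 := by
    have := pow_card_eq_one' (G := C) (x := ⟨c, hc⟩)
    have h2 := congrArg Subtype.val this
    rw [Subgroup.coe_pow, Subgroup.coe_one] at h2
    exact h2
  have ham : a ^ m = z ^ m := by
    rw [ha, hcz.mul_pow, hcm, one_mul]
  -- p does not divide k
  have hpk : ¬ (p : ℤ) ∣ k := by
    rintro ⟨j, rfl⟩
    apply hz1
    rw [← hk, zpow_mul, zpow_natCast, hvp, one_zpow]
  have hcopkm : IsCoprime (k * (m : ℤ)) (p : ℤ) := by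
    have h1 : IsCoprime k (p : ℤ) := by
      rw [isCoprime_comm]
      exact (Int.isCoprime_iff_gcd_eq_one.mpr
        ((Int.prime_iff_natAbs_prime.mpr (by simpa using hp.out)).coprime_iff_not_dvd.mpr hpk |>
          Int.isCoprime_iff_gcd_eq_one.mp))
    have h2 : IsCoprime (m : ℤ) (p : ℤ) := by
      rw [Nat.isCoprime_iff_coprime]
      exact hcop
    exact h1.mul_left h2
  obtain ⟨s, t, hst⟩ := hcopkm
  -- v is a power of a
  have hva : v = (a ^ m) ^ s := by
    have h1 : v ^ (p : ℤ) = 1 := by rw [zpow_natCast]; exact hvp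
    have e : v ^ (s * (k * (m : ℤ)) + t * (p : ℤ)) = v := by rw [hst, zpow_one]
    have e2 : v ^ (t * (p : ℤ)) = 1 := by rw [mul_comm, zpow_mul, h1, one_zpow]
    have e3 : v ^ (s * (k * (m : ℤ))) = ((v ^ k) ^ (m : ℤ)) ^ s := by
      rw [mul_comm s, zpow_mul, zpow_mul]
    rw [zpow_add, e2, mul_one, e3] at e
    rw [ham, ← hk, ← zpow_natCast (v ^ k) m]
    exact e.symm
  -- decomposition
  have hex : ∀ x : Subgroup.centralizer ({a} : Set X),
      ∃ gu : C × ↥(V ⊓ Subgroup.centralizer ({a} : Set X)), ((gu.2 : X) * (gu.1 : X)) = x := by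
    intro x
    have hxa : a * (x : X) = (x : X) * a := commute_of_mem_centralizer_singleton x.2
    have hxv : v * (x : X) = (x : X) * v := by
      have h1 : Commute (x : X) a := hxa.symm
      have h2 : Commute (x : X) ((a ^ m) ^ s) := (h1.pow_right m).zpow_right s
      rw [← hva] at h2
      exact h2.symm
    obtain ⟨⟨u, g⟩, hug⟩ := hGV.2 (x : X)
    have hug' : (u : X) * (g : X) = x := hug
    have huv : v * (u : X) = (u : X) * v := hVab v hv u u.2
    have hgv : v * (g : X) = (g : X) * v := by
      have h1 : (g : X) = (u : X)⁻¹ * x := by rw [← hug']; group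
      rw [h1]
      have h2 : Commute v (u : X)⁻¹ := (Commute.inv_right huv)
      exact (h2.mul_right hxv)
    have hgC : (g : X) ∈ C := Subgroup.mem_inf.mpr ⟨g.2, mem_centralizer_singleton_of_commute hgv⟩
    have hga : a * (g : X) = (g : X) * a := by
      have h1 : Commute (g : X) c := hab g hgC c hc
      have h2 : Commute (g : X) z := by
        rw [← hk]
        exact (Commute.zpow_right hgv.symm k)
      exact (h1.mul_right h2).symm
    have hua : a * (u : X) = (u : X) * a := by
      have h1 : (u : X) = x * (g : X)⁻¹ := by rw [← hug']; group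
      rw [h1]
      have h2 : Commute a (g : X)⁻¹ := Commute.inv_right hga
      exact (Commute.mul_right hxa h2)
    exact ⟨(⟨g, hgC⟩, ⟨u, Subgroup.mem_inf.mpr ⟨u.2, mem_centralizer_singleton_of_commute hua⟩⟩),
      hug'⟩
  choose f hf using hex
  have hinj : Function.Injective f := by
    intro x y hxy
    apply Subtype.ext
    rw [← hf x, ← hf y, hxy]
  have := Nat.card_le_card_of_injective f hinj
  rwa [Nat.card_prod] at this

end Cent

end Cfsg.Agent.Helper29.Knorr
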