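import Mathlib
import Cfsg.Prelude.Def_Characters
import Cfsg.Agent.Helper29.KnorrF
import Cfsg.Agent.Helper8.RegularOrbitBound

set_option autoImplicit false
set_option linter.unusedSectionVars false
set_option linter.unusedVariables false

/-!
# Knörr's theorem: abelian point stabilizer implies `k(GV) ≤ |V|`
-/

namespace Cfsg.Agent.Helper29.Knorr

open scoped ComplexConjugate

variable {X : Type*} [Group X] [Finite X]

/-- the sup of an abelian subgroup and the cyclic group of a commuting element is abelian -/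
theorem sup_zpowers_comm (C : Subgroup X) (v : X)
    (hab : ∀ a ∈ C, ∀ b ∈ C, a * b = b * a) (hCv : ∀ c ∈ C, c * v = v * c) :
    (∀ c ∈ C, ∀ z ∈ Subgroup.zpowers v, c * z = z * c) ∧
      ∀ a ∈ C ⊔ Subgroup.zpowers v, ∀ b ∈ C ⊔ Subgroup.zpowers v, a * b = b * a := by
  have hcz : ∀ c ∈ C, ∀ z ∈ Subgroup.zpowers v, c * z = z * c := by
    intro c hc z hz
    obtain ⟨k, rfl⟩ := Subgroup.mem_zpowers_iff.mp hz
    have : Commute c v := hCv c hc
    exact this.zpow_right k
  refine ⟨hcz, ?_⟩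
  intro a ha b hb
  obtain ⟨c, hc, z, hz, rfl⟩ := exists_mul_of_mem_sup_commute C (Subgroup.zpowers v) hcz ha
  obtain ⟨c', hc', z', hz', rfl⟩ := exists_mul_of_mem_sup_commute C (Subgroup.zpowers v) hcz hb
  have h1 : Commute c c' := hab c hc c' hc'
  have h2 : Commute c z' := hcz c hc z' hz'
  have h3 : Commute z c' := (hcz c' hc' z hz).symm
  have h4 : Commute z z' := by
    obtain ⟨k, rfl⟩ := Subgroup.mem_zpowers_iff.mp hz
    obtain ⟨k', rfl⟩ := Subgroup.mem_zpowers_iff.mp hz'
    exact ((Commute.refl v).zpow_right k').zpow_left k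
  exact ((h1.mul_right h2).mul_left (h3.mul_right h4))


attribute [local instance] dualFintype

/-- Knörr's theorem for a non-identity vector with abelian stabilizer -/
theorem knorr_main (p : ℕ) [hp : Fact p.Prime] (V : Subgroup X) [hVn : V.Normal]
    (hVexp : ∀ v ∈ V, v ^ p = 1) (hidx : ¬ p ∣ V.index)
    (hself : Subgroup.centralizer (V : Set X) = V) (G : Subgroup X)
    (hGV : Subgroup.IsComplement' V G) (v : X) (hv : v ∈ V) (hv1 : v ≠ 1)
    (hab : ∀ a ∈ G ⊓ Subgroup.centralizer ({v} : Set X),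
      ∀ b ∈ G ⊓ Subgroup.centralizer ({v} : Set X), a * b = b * a) :
    Nat.card (ConjClasses X) ≤ Nat.card V := by
  classical
  have : Fintype X := Fintype.ofFinite X
  have : Fintype (Cfsg.IrrCharacter X) := Fintype.ofFinite _
  -- V is abelian
  have hVab : ∀ a ∈ V, ∀ b ∈ V, a * b = b * a := by
    intro a ha b hb
    have : b ∈ Subgroup.centralizer (V : Set X) := by rw [hself]; exact hb
    rw [Subgroup.mem_centralizer_iff] at this
    exact this a ha
  have hVp : IsPGroup p V := by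
    intro g
    refine ⟨1, ?_⟩
    apply Subtype.ext
    rw [pow_one, Subgroup.coe_pow, Subgroup.coe_one]
    exact hVexp g g.2
  set C := G ⊓ Subgroup.centralizer ({v} : Set X) with hC
  have hVG : V ⊓ G = ⊥ := hGV.disjoint.eq_bot
  have hGcard : V.index = Nat.card G := hGV.symm.index_eq_card
  have hcopC : (Nat.card C).Coprime p := by
    have h1 : Nat.card C ∣ Nat.card G := Subgroup.card_dvd_of_le inf_le_left
    have h2 : (Nat.card G).Coprime p := by
      rw [← hGcard, Nat.coprime_comm]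
      exact (Nat.Prime.coprime_iff_not_dvd hp.out).mpr hidx
    exact Nat.Coprime.coprime_dvd_left h1 h2
  have hcopCV : (Nat.card C).Coprime (Nat.card V) := by
    obtain ⟨k, hk⟩ := IsPGroup.iff_card.mp hVp
    rw [hk]
    exact Nat.Coprime.pow_right k hcopC
  have hCv : ∀ c ∈ C, c * v = v * c := fun c hc =>
    (commute_of_mem_centralizer_singleton (Subgroup.mem_inf.mp hc).2).symm
  obtain ⟨hcz, hAab⟩ := sup_zpowers_comm C v hab hCv
  set A := C ⊔ Subgroup.zpowers v with hA
  let instA : CommGroup ↥A :=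
    { (inferInstance : Group ↥A) with
      mul_comm := fun a b => Subtype.ext (hAab a a.2 b b.2) }
  have : Fintype ↥A := Fintype.ofFinite _
  let φ : ↥A →* X := A.subtype
  have hzV : Subgroup.zpowers v ≤ V := by
    rw [Subgroup.zpowers_le]; exact hv
  -- the setup
  have hS : Setup p V C φ := by
    refine ⟨hVab, hVexp, hab, hcopCV, ?_⟩
    intro a
    obtain ⟨c, hc, z, hz, haz⟩ := exists_mul_of_mem_sup_commute C (Subgroup.zpowers v) hcz a.2
    refine ⟨c, hc, fun w hw => ?_⟩
    show (a : X) * w * (a : X)⁻¹ = c * w * c⁻¹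
    rw [haz]
    have h1 : z * w = w * z := hVab z (hzV hz) w hw
    have : c * z * w * (c * z)⁻¹ = c * (z * w * z⁻¹) * c⁻¹ := by group
    rw [this, h1, mul_inv_cancel_right]
  have hVinv : IsInv V C V := ⟨le_rfl, Subgroup.le_normalizer_of_normal⟩
  obtain ⟨l, hl1, hl2, hl3⟩ := hS.exists_list (Nat.card V) V hVinv le_rfl
  rw [hself] at hl3
  set K₁ : Subgroup ↥A := C.subgroupOf A with hK₁
  have hK : kerOf l ⊓ K₁ = ⊥ := by
    rw [eq_bot_iff]
    intro x hx
    rw [Subgroup.mem_inf, hl3, Subgroup.mem_comap, hK₁, Subgroup.mem_subgroupOf] at hx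
    have h1 : (x : X) ∈ V ⊓ G := ⟨hx.1, (Subgroup.mem_inf.mp hx.2).1⟩
    rw [hVG, Subgroup.mem_bot] at h1
    rw [Subgroup.mem_bot]
    exact Subtype.ext h1
  let x₀ : ↥A := ⟨v, Subgroup.mem_sup_right (Subgroup.mem_zpowers v)⟩
  have hx₀ : x₀ ∉ K₁ := by
    intro h
    rw [hK₁, Subgroup.mem_subgroupOf] at h
    have h1 : v ∈ V ⊓ G := ⟨hv, (Subgroup.mem_inf.mp h).1⟩
    rw [hVG, Subgroup.mem_bot] at h1
    exact hv1 h1
  -- cardinalities
  set n : ℕ := K₁.index with hn
  have hK₁card : Nat.card K₁ = Nat.card C :=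
    Nat.card_congr (Subgroup.subgroupOfEquivOfLe (le_sup_left : C ≤ A)).toEquiv
  have hAcard : Nat.card C * n = Fintype.card ↥A := by
    rw [← hK₁card, hn, K₁.card_mul_index, Nat.card_eq_fintype_card]
  have hn2 : 2 ≤ n := by
    have h1 : n ≠ 0 := Subgroup.index_ne_zero_of_finite
    have h2 : n ≠ 1 := by
      intro h
      rw [hn, Subgroup.index_eq_one] at h
      exact hx₀ (h ▸ Subgroup.mem_top x₀)
    omega
  have hCpos : 0 < Nat.card C := Nat.card_pos
  have hwnn : ∀ a : ↥A, 0 ≤ wt l a := wt_nonneg l (fun kq hkq => by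
    have := hl1 kq hkq
    have h0 : (0 : ℝ) ≤ (kq.1.index : ℝ) := Nat.cast_nonneg _
    linarith)
  -- per-character lower bound
  have hlower : ∀ χ : Cfsg.IrrCharacter X,
      ((n : ℝ) - 1) * (Fintype.card ↥A : ℝ) ^ 2 ≤
        (n : ℝ) ^ 2 * ∑ a : ↥A, (if a ∈ K₁ then 0 else ‖(χ : X → ℂ) (a : X)‖ ^ 2 * wt l a) := by
    intro χ
    have hχc := Cfsg.Agent.Helper24.IsIrrCharacter.isCharacter χ.2
    have hres : Cfsg.IsCharacter ↥A (fun a : ↥A => (χ : X → ℂ) (a : X)) :=
      Cfsg.Agent.Helper8.isCharacter_restrict A hχc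
    obtain ⟨b, hb⟩ := exists_coeff hres
    obtain ⟨d, hd, hdvd⟩ := Cfsg.Agent.Helper24.ito_character V hVab χ χ.2
    have hpd : ¬ p ∣ d := fun h => hidx (h.trans hdvd)
    have hχv : (χ : X → ℂ) v ≠ 0 :=
      Cfsg.Agent.Helper8.char_ne_zero_of_pElement hχc hd hpd v 1 (by rw [pow_one]; exact hVexp v hv)
    have hb0 : fs b x₀ ≠ 0 := by
      rw [← hb x₀]
      exact hχv
    have := knorr_sum l hl1 K₁ hK b x₀ hx₀ hb0
    simp_rw [← hb] at this
    exact this
  -- column orthogonality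
  have hcol : ∀ a : X, ∑ χ : Cfsg.IrrCharacter X, ‖(χ : X → ℂ) a‖ ^ 2 =
      (Nat.card (Subgroup.centralizer ({a} : Set X)) : ℝ) := by
    intro a
    have h1 := Cfsg.Agent.Helper24.sum_irr_mul_conj a a
    rw [if_pos (IsConj.refl _)] at h1
    have h2 : ∀ χ : Cfsg.IrrCharacter X,
        (χ : X → ℂ) a * (starRingEnd ℂ) ((χ : X → ℂ) a) = ((‖(χ : X → ℂ) a‖ ^ 2 : ℝ) : ℂ) := by
      intro χ
      rw [Complex.mul_conj, Complex.normSq_eq_norm_sq]
    simp only [h2] at h1
    have h3 : ((∑ χ : Cfsg.IrrCharacter X, ‖(χ : X → ℂ) a‖ ^ 2 : ℝ) : ℂ)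
        = ((Nat.card (Subgroup.centralizer ({a} : Set X)) : ℝ) : ℂ) := by
      push_cast at h1 ⊢
      exact h1
    exact Complex.ofReal_injective h3
  -- upper bound for each element outside K₁
  have hupper : ∀ a : ↥A, a ∉ K₁ →
      wt l a * (Nat.card (Subgroup.centralizer ({(a : X)} : Set X)) : ℝ) ≤
        (Nat.card C : ℝ) * (Nat.card V : ℝ) := by
    intro a ha
    obtain ⟨c, hc, z, hz, haz⟩ := exists_mul_of_mem_sup_commute C (Subgroup.zpowers v) hcz a.2
    have hz1 : z ≠ 1 := by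
      intro h
      apply ha
      rw [hK₁, Subgroup.mem_subgroupOf, haz, h, mul_one]
      exact hc
    have h1 := card_centralizer_le p V G hVab hGV v hv (hVexp v hv) hab hcopC c hc z hz hz1
    rw [← haz] at h1
    have h2 := hl2 a
    have h3 : (Nat.card (Subgroup.centralizer ({(a : X)} : Set X)) : ℝ) ≤
        (Nat.card C : ℝ) * (Nat.card ↥(V ⊓ Subgroup.centralizer ({(a : X)} : Set X)) : ℝ) := by
      exact_mod_cast h1
    calc wt l a * (Nat.card (Subgroup.centralizer ({(a : X)} : Set X)) : ℝ)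
        ≤ wt l a * ((Nat.card C : ℝ) *
            (Nat.card ↥(V ⊓ Subgroup.centralizer ({(a : X)} : Set X)) : ℝ)) :=
          mul_le_mul_of_nonneg_left h3 (hwnn a)
      _ = (Nat.card C : ℝ) * (wt l a *
            (Nat.card ↥(V ⊓ Subgroup.centralizer ({φ a} : Set X)) : ℝ)) := by
          show _ = (Nat.card C : ℝ) * (wt l a *
            (Nat.card ↥(V ⊓ Subgroup.centralizer ({(a : X)} : Set X)) : ℝ))
          ring
      _ = (Nat.card C : ℝ) * (Nat.card V : ℝ) := by rw [← h2]
  -- sum over all irreducible characters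
  set k : ℕ := Fintype.card (Cfsg.IrrCharacter X) with hk
  have hsumχ : (k : ℝ) * (((n : ℝ) - 1) * (Fintype.card ↥A : ℝ) ^ 2) ≤
      (n : ℝ) ^ 2 * ∑ a : ↥A, (if a ∈ K₁ then 0 else
        wt l a * (Nat.card (Subgroup.centralizer ({(a : X)} : Set X)) : ℝ)) := by
    have h1 := Finset.sum_le_sum (s := (Finset.univ : Finset (Cfsg.IrrCharacter X)))
      fun χ _ => hlower χ
    rw [Finset.sum_const, Finset.card_univ, nsmul_eq_mul, ← Finset.mul_sum, Finset.sum_comm] at h1
    refine le_trans h1 (le_of_eq ?_)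
    congr 1
    refine Finset.sum_congr rfl fun a _ => ?_
    by_cases ha : a ∈ K₁
    · simp only [if_pos ha]
      rw [Finset.sum_const_zero]
    · simp only [if_neg ha]
      rw [← Finset.sum_mul, hcol]
      ring
  have hsumle : ∑ a : ↥A, (if a ∈ K₁ then 0 else
      wt l a * (Nat.card (Subgroup.centralizer ({(a : X)} : Set X)) : ℝ)) ≤
      ((Fintype.card ↥A : ℝ) - (Nat.card C : ℝ)) * ((Nat.card C : ℝ) * (Nat.card V : ℝ)) := by
    have h1 : ∑ a : ↥A, (if a ∈ K₁ then 0 else
        wt l a * (Nat.card (Subgroup.centralizer ({(a : X)} : Set X)) : ℝ)) ≤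
        ∑ a : ↥A, (if a ∈ K₁ then 0 else (Nat.card C : ℝ) * (Nat.card V : ℝ)) := by
      apply Finset.sum_le_sum
      intro a _
      by_cases ha : a ∈ K₁
      · rw [if_pos ha, if_pos ha]
      · rw [if_neg ha, if_neg ha]
        exact hupper a ha
    refine le_trans h1 (le_of_eq ?_)
    have h2 : ∀ a : ↥A, (if a ∈ K₁ then 0 else (Nat.card C : ℝ) * (Nat.card V : ℝ)) =
        (Nat.card C : ℝ) * (Nat.card V : ℝ) -
          (if a ∈ K₁ then (Nat.card C : ℝ) * (Nat.card V : ℝ) else 0) := by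
      intro a
      split_ifs <;> ring
    simp_rw [h2]
    rw [Finset.sum_sub_distrib, Finset.sum_const, Finset.card_univ, nsmul_eq_mul,
      ← Finset.sum_filter, Finset.sum_const, nsmul_eq_mul]
    have h3 : (Finset.univ.filter (fun a : ↥A => a ∈ K₁)).card = Nat.card C := by
      rw [← hK₁card, Nat.card_eq_fintype_card, Fintype.card_subtype]
    rw [h3]
    ring
  have hfinal : (k : ℝ) * (((n : ℝ) - 1) * (Fintype.card ↥A : ℝ) ^ 2) ≤
      (n : ℝ) ^ 2 * (((Fintype.card ↥A : ℝ) - (Nat.card C : ℝ)) *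
        ((Nat.card C : ℝ) * (Nat.card V : ℝ))) :=
    le_trans hsumχ (mul_le_mul_of_nonneg_left hsumle (by positivity))
  have hAc : (Fintype.card ↥A : ℝ) = (Nat.card C : ℝ) * (n : ℝ) := by
    rw [← hAcard]; push_cast; ring
  rw [hAc] at hfinal
  have hn2' : (2 : ℝ) ≤ (n : ℝ) := by exact_mod_cast hn2
  have hCpos' : (0 : ℝ) < (Nat.card C : ℝ) := by exact_mod_cast hCpos
  have hpos : (0 : ℝ) < ((n : ℝ) - 1) * ((Nat.card C : ℝ) * (n : ℝ)) ^ 2 := by
    apply mul_pos
    · linarith
    · positivity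
  have hkV : (k : ℝ) ≤ (Nat.card V : ℝ) := by
    have h1 : (k : ℝ) * (((n : ℝ) - 1) * ((Nat.card C : ℝ) * (n : ℝ)) ^ 2) ≤
        (Nat.card V : ℝ) * (((n : ℝ) - 1) * ((Nat.card C : ℝ) * (n : ℝ)) ^ 2) := by
      refine le_trans hfinal (le_of_eq ?_)
      ring
    exact le_of_mul_le_mul_right h1 hpos
  rw [← Cfsg.Agent.Helper24.card_irr_eq_card_conjClasses, Nat.card_eq_fintype_card]
  exact_mod_cast hkV


/-- **Knörr's theorem** (S4958) -/
theorem knorr (p : ℕ) [hp : Fact p.Prime] (V : Subgroup X) [hVn : V.Normal]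
    (hVexp : ∀ v ∈ V, v ^ p = 1) (hidx : ¬ p ∣ V.index)
    (hself : Subgroup.centralizer (V : Set X) = V) (G : Subgroup X)
    (hGV : Subgroup.IsComplement' V G) (v : X) (hv : v ∈ V)
    (hab : ∀ a ∈ G ⊓ Subgroup.centralizer ({v} : Set X),
      ∀ b ∈ G ⊓ Subgroup.centralizer ({v} : Set X), a * b = b * a) :
    Nat.card (ConjClasses X) ≤ Nat.card V := by
  by_cases hv1 : v = 1
  · by_cases hV : V = ⊥
    · have h1 : (⊤ : Subgroup X) = ⊥ := by
        rw [← centralizer_bot_eq_top (X := X)]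
        rw [hV] at hself
        exact hself
      have hsub : Subsingleton X := by
        constructor
        intro a b
        have ha : a ∈ (⊤ : Subgroup X) := Subgroup.mem_top a
        have hb : b ∈ (⊤ : Subgroup X) := Subgroup.mem_top b
        rw [h1, Subgroup.mem_bot] at ha hb
        rw [ha, hb]
      have : Subsingleton (ConjClasses X) := by
        constructor
        intro a b
        obtain ⟨a, rfl⟩ := ConjClasses.mk_surjective a
        obtain ⟨b, rfl⟩ := ConjClasses.mk_surjective b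
        rw [Subsingleton.elim a b]
      have h2 : Nat.card (ConjClasses X) ≤ 1 := Finite.card_le_one_iff_subsingleton.mpr this
      have h3 : 0 < Nat.card V := Nat.card_pos
      omega
    · obtain ⟨v', hv', hv'1⟩ : ∃ w ∈ V, w ≠ 1 := by
        by_contra hcon
        push Not at hcon
        apply hV
        rw [eq_bot_iff]
        intro x hx
        rw [Subgroup.mem_bot]
        exact hcon x hx
      have hab' : ∀ a ∈ G ⊓ Subgroup.centralizer ({v'} : Set X),
          ∀ b ∈ G ⊓ Subgroup.centralizer ({v'} : Set X), a * b = b * a := by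
        intro a ha b hb
        have hone : ∀ x : X, x ∈ Subgroup.centralizer ({v} : Set X) := by
          intro x
          rw [hv1]
          apply mem_centralizer_singleton_of_commute
          rw [one_mul, mul_one]
        exact hab a (Subgroup.mem_inf.mpr ⟨(Subgroup.mem_inf.mp ha).1, hone a⟩) b
          (Subgroup.mem_inf.mpr ⟨(Subgroup.mem_inf.mp hb).1, hone b⟩)
      exact knorr_main p V hVexp hidx hself G hGV v' hv' hv'1 hab'
  · exact knorr_main p V hVexp hidx hself G hGV v hv hv1 hab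

end Cfsg.Agent.Helper29.Knorr
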