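import Mathlib
import Cfsg.Agent.Helper4.LSDefs
import Cfsg.Agent.Helper19.LS34HEISA

set_option autoImplicit false

/-! S2334 piece HEIS: every nontrivial weight space of the centre `Z = {z S}` of the radical has
dimension at least `q` (Heisenberg argument). -/

namespace Cfsg.Agent.Helper29.LS34HEIS

open Matrix Module Cfsg.Agent.Helper2.SUGen Cfsg.Agent.S2334P

variable {K : Type*} [Field K] {q : ℕ}

theorem cm_val {σ : K →+* K} (hσ : ∀ x, σ (σ x) = x) {m : ℕ} (a b : Fin m → K) :
    (cm hσ a b).1 = vecMulVec a (σ ∘ b) - vecMulVec b (σ ∘ a) := rfl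

theorem cm_add_right {σ : K →+* K} (hσ : ∀ x, σ (σ x) = x) {m : ℕ} (a b b' : Fin m → K) :
    cm hσ a (b + b') = cm hσ a b + cm hσ a b' := by
  apply Subtype.ext
  rw [AddSubgroup.coe_add, cm_val, cm_val, cm_val]
  ext i j
  simp only [Matrix.sub_apply, Matrix.add_apply, vecMulVec_apply, Function.comp_apply,
    Pi.add_apply, map_add]
  ring

theorem cm_add_left {σ : K →+* K} (hσ : ∀ x, σ (σ x) = x) {m : ℕ} (a a' b : Fin m → K) :
    cm hσ (a + a') b = cm hσ a b + cm hσ a' b := by
  apply Subtype.ext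
  rw [AddSubgroup.coe_add, cm_val, cm_val, cm_val]
  ext i j
  simp only [Matrix.sub_apply, Matrix.add_apply, vecMulVec_apply, Function.comp_apply,
    Pi.add_apply, map_add]
  ring

theorem cm_zero_right {σ : K →+* K} (hσ : ∀ x, σ (σ x) = x) {m : ℕ} (a : Fin m → K) :
    cm hσ a 0 = 0 := by
  apply Subtype.ext
  rw [cm_val]
  ext i j
  simp [vecMulVec_apply]

theorem cm_smul_left {σ : K →+* K} (hσ : ∀ x, σ (σ x) = x) {m : ℕ} (c : K) (a b : Fin m → K) :
    cm hσ (c • a) b = cm hσ a (σ c • b) := by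
  apply Subtype.ext
  rw [cm_val, cm_val]
  ext i j
  simp only [Matrix.sub_apply, vecMulVec_apply, Function.comp_apply, Pi.smul_apply, smul_eq_mul,
    map_mul, hσ]
  ring

theorem cm_neg_left {σ : K →+* K} (hσ : ∀ x, σ (σ x) = x) {m : ℕ} (a b : Fin m → K) :
    cm hσ (-a) b = -cm hσ a b := by
  apply Subtype.ext
  rw [AddSubgroup.coe_neg, cm_val, cm_val]
  ext i j
  simp only [Matrix.sub_apply, Matrix.neg_apply, vecMulVec_apply, Function.comp_apply,
    Pi.neg_apply, map_neg]
  ring

/-- every anti-Hermitian matrix is a sum of commutator matrices -/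
theorem eq_sum_cm {σ : K →+* K} (hσ : ∀ x, σ (σ x) = x) {m : ℕ} (μ : K) (hμ : μ + σ μ = 1)
    (S : AH σ m) :
    S = ∑ i, ∑ j, cm hσ ((μ * S.1 i j) • (Pi.single i 1 : Fin m → K)) (Pi.single j 1) := by
  classical
  apply Subtype.ext
  rw [AddSubgroup.val_finset_sum]
  simp_rw [AddSubgroup.val_finset_sum]
  ext k l
  have hS : σ (S.1 l k) = -S.1 k l := by
    have := congrFun (congrFun ((mem_AH σ m S.1).mp S.2) k) l
    rwa [ct_apply] at this
  simp only [Matrix.sum_apply, cm_val, Matrix.sub_apply, vecMulVec_apply, Function.comp_apply,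
    Pi.smul_apply, smul_eq_mul, Pi.single_apply, map_mul, apply_ite, map_one, map_zero,
    mul_one, mul_zero, ite_mul, one_mul, zero_mul, Finset.sum_sub_distrib]
  simp only [Finset.sum_ite_eq, Finset.mem_univ, if_true]
  have h1 : (∑ x, ∑ c, if l = x then if k = c then σ μ * σ (S.1 x c) else 0 else 0)
      = σ μ * σ (S.1 l k) := by
    rw [Finset.sum_eq_single l]
    · rw [Finset.sum_eq_single k]
      · simp
      · intro c _ hc; simp [Ne.symm hc]
      · simp
    · intro x _ hx; simp [Ne.symm hx]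
    · simp
  rw [h1, hS]
  linear_combination (-(S.1 k l)) * hμ

end Cfsg.Agent.Helper29.LS34HEIS

namespace Cfsg.Agent.S2334P

open Matrix Module Cfsg.Agent.Helper2.SUGen Cfsg.Agent.Helper29.LS34HEIS

variable {K : Type*} [Field K] {q : ℕ}

theorem finrank_wt_ge [Fintype K] (D : Frob K q) (hK : Fintype.card K = q ^ 2) (m : ℕ)
    {G : Type*} [Group G] {V : Type*} [AddCommGroup V] [Module ℂ V] [FiniteDimensional ℂ V]
    (z : AH D.σ m → G) (x : (Fin m → K) → G)
    (hz : ∀ S T, z (S + T) = z S * z T)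
    (hxz : ∀ a S, x a * z S = z S * x a)
    (hxx : ∀ a b, x a * x b = z (cm D.invol b a) * (x b * x a))
    (ρ : G →* Module.End ℂ V) (χ : AH D.σ m → ℂ) (hχ : ∃ S, χ S ≠ 1)
    (U : Submodule ℂ V) (hU : ∀ v, v ∈ U ↔ ∀ S, ρ (z S) v = χ S • v) (hU0 : U ≠ ⊥) :
    q ≤ finrank ℂ U := by
  classical
  obtain ⟨v₀, hv₀U, hv₀⟩ := Submodule.exists_mem_ne_zero_of_ne_bot hU0
  have hv₀' := (hU v₀).mp hv₀U
  -- `χ` is a character
  have hmul : ∀ S T, χ (S + T) = χ S * χ T := by
    intro S T
    have h1 := hv₀' (S + T)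
    rw [hz, map_mul, Module.End.mul_apply, hv₀' T, map_smul, hv₀' S, smul_smul] at h1
    have h2 : (χ T * χ S - χ (S + T)) • v₀ = 0 := by rw [sub_smul, h1, sub_self]
    rcases smul_eq_zero.mp h2 with h3 | h3
    · linear_combination -h3
    · exact absurd h3 hv₀
  have hz0 : z 0 = 1 := by
    have h := hz 0 0
    rw [add_zero] at h
    exact (mul_eq_left (a := z 0) (b := z 0)).mp h.symm
  have hone : χ 0 = 1 := by
    have h1 := hv₀' 0
    rw [hz0, map_one, Module.End.one_apply] at h1
    have h2 : (1 - χ 0) • v₀ = 0 := by rw [sub_smul, one_smul, ← h1, sub_self]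
    rcases smul_eq_zero.mp h2 with h3 | h3
    · linear_combination -h3
    · exact absurd h3 hv₀
  have hneg : ∀ S, χ S = 1 → χ (-S) = 1 := by
    intro S hS
    have h := hmul (-S) S
    rw [neg_add_cancel, hone, hS, mul_one] at h
    exact h.symm
  -- a pair with nontrivial character value
  obtain ⟨μ, hμ⟩ := exists_trace D 1 (map_one _)
  have hex : ∃ u₀ s₁ : Fin m → K, χ (cm D.invol u₀ s₁) ≠ 1 := by
    by_contra hcon
    push Not at hcon
    obtain ⟨S, hS⟩ := hχ
    apply hS
    let H : AddSubgroup (AH D.σ m) :=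
      { carrier := {T | χ T = 1}
        zero_mem' := hone
        add_mem' := by
          intro a b ha hb
          show χ (a + b) = 1
          rw [hmul, show χ a = 1 from ha, show χ b = 1 from hb, one_mul]
        neg_mem' := by
          intro a ha
          exact hneg a ha }
    have hmem : S ∈ H := by
      rw [eq_sum_cm D.invol μ hμ S]
      apply AddSubgroup.sum_mem
      intro i _
      apply AddSubgroup.sum_mem
      intro j _
      exact hcon _ _
    exact hmem
  obtain ⟨u₀, s₁, hus⟩ := hex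
  -- invariance of `U`
  have hinv : ∀ g : G, (∀ S, g * z S = z S * g) → ∀ v ∈ U, ρ g v ∈ U := by
    intro g hg v hv
    rw [hU]
    intro S
    rw [← Module.End.mul_apply, ← map_mul, ← hg S, map_mul, Module.End.mul_apply,
      (hU v).mp hv S, map_smul]
  have hxi : ∀ a S, (x a)⁻¹ * z S = z S * (x a)⁻¹ := by
    intro a S
    have h := hxz a S
    calc (x a)⁻¹ * z S = (x a)⁻¹ * (z S * x a) * (x a)⁻¹ := by group
      _ = (x a)⁻¹ * (x a * z S) * (x a)⁻¹ := by rw [h]
      _ = z S * (x a)⁻¹ := by group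
  let Tx : (Fin m → K) → Module.End ℂ U := fun a => (ρ (x a)).restrict (hinv (x a) (hxz a))
  let Txi : (Fin m → K) → Module.End ℂ U := fun a => (ρ (x a)⁻¹).restrict (hinv _ (hxi a))
  have hTT : ∀ a, Tx a * Txi a = 1 := by
    intro a
    ext v
    show ρ (x a) (ρ (x a)⁻¹ v.1) = v.1
    rw [← Module.End.mul_apply, ← map_mul, mul_inv_cancel, map_one, Module.End.one_apply]
  have hTT' : ∀ a, Txi a * Tx a = 1 := by
    intro a
    ext v
    show ρ (x a)⁻¹ (ρ (x a) v.1) = v.1
    rw [← Module.End.mul_apply, ← map_mul, inv_mul_cancel, map_one, Module.End.one_apply]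
  haveI : Nontrivial U := Submodule.nontrivial_iff_ne_bot.mpr hU0
  -- the characters
  let chi : K → Multiplicative (Fin m → K) →* ℂ := fun t =>
    { toFun := fun s => χ (cm D.invol (t • u₀) (Multiplicative.toAdd s))
      map_one' := by
        show χ (cm D.invol (t • u₀) 0) = 1
        rw [cm_zero_right, hone]
      map_mul' := by
        intro s s'
        show χ (cm D.invol (t • u₀) (Multiplicative.toAdd s + Multiplicative.toAdd s')) = _
        rw [cm_add_right, hmul] }
  have hchi : Function.Injective chi := by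
    intro t t' h
    by_contra hne
    have hc : t - t' ≠ 0 := sub_ne_zero.mpr hne
    apply hus
    have h1 : ∀ s : Fin m → K, χ (cm D.invol (t • u₀) s) = χ (cm D.invol (t' • u₀) s) := by
      intro s
      exact DFunLike.congr_fun h (Multiplicative.ofAdd s)
    have h2 : ∀ s : Fin m → K, χ (cm D.invol ((t - t') • u₀) s) = 1 := by
      intro s
      have h3 : cm D.invol ((t - t') • u₀) s
          = cm D.invol (t • u₀) s + -cm D.invol (t' • u₀) s := by
        rw [← cm_neg_left, ← cm_add_left, sub_smul, sub_eq_add_neg]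
      have h4 := hmul (cm D.invol (t' • u₀) s) (-cm D.invol (t' • u₀) s)
      rw [add_neg_cancel, hone] at h4
      rw [h3, hmul, h1 s, ← h4]
    have h5 := h2 ((D.σ (t - t'))⁻¹ • s₁)
    rw [cm_smul_left, smul_smul, mul_inv_cancel₀, one_smul] at h5
    · exact h5
    · intro h0
      apply hc
      exact D.σ.injective (by rw [h0, map_zero])
  have key := card_le_sq_of_twisted (U := U) (Q := Multiplicative (Fin m → K)) (I := K)
    (fun t : K => Tx (t • u₀)) (fun s => Tx (Multiplicative.toAdd s))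
    (fun s => Txi (Multiplicative.toAdd s)) (fun s => hTT _) ?_ chi hchi ?_
  · rw [hK] at key
    exact (Nat.pow_le_pow_iff_left two_ne_zero).mp key
  · intro t v w hvw
    have := congrArg (Txi (t • u₀)) hvw
    rw [← Module.End.mul_apply, ← Module.End.mul_apply, hTT', Module.End.one_apply,
      Module.End.one_apply] at this
    exact this
  · intro t s
    ext v
    show ρ (x (Multiplicative.toAdd s)) (ρ (x (t • u₀)) v.1)
      = χ (cm D.invol (t • u₀) (Multiplicative.toAdd s)) •
        ρ (x (t • u₀)) (ρ (x (Multiplicative.toAdd s)) v.1)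
    have hmemU : ρ (x (t • u₀)) (ρ (x (Multiplicative.toAdd s)) v.1) ∈ U :=
      hinv _ (hxz _) _ (hinv _ (hxz _) _ v.2)
    rw [← (hU _).mp hmemU, ← Module.End.mul_apply, ← Module.End.mul_apply, ← Module.End.mul_apply,
      ← map_mul, ← map_mul, ← map_mul, hxx, mul_assoc]

end Cfsg.Agent.S2334P
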