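import Mathlib
import Cfsg.Agent.Helper4.LSDefs
import Cfsg.Agent.Helper4.LS34GLT
import Cfsg.Agent.Helper4.LS34ORBA

set_option autoImplicit false

/-! S2334 piece ORBC: the orbit bound `q^(2m) - 1 ≤ (q+1) |W|` by double counting. -/

namespace Cfsg.Agent.Helper29.LS34ORBC

open Matrix Module Cfsg.Agent.Helper2.SUGen Cfsg.Agent.S2334P

variable {K : Type*} [Field K] {q : ℕ}

theorem congT_congT {σ : K →+* K} (hσ : ∀ x, σ (σ x) = x) {m : ℕ}
    (g h : Matrix (Fin m) (Fin m) K) (S : AH σ m) :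
    congT hσ g (congT hσ h S) = congT hσ (h * g) S := by
  apply Subtype.ext
  show ct σ g * (ct σ h * S.1 * h) * g = ct σ (h * g) * S.1 * (h * g)
  rw [ct_mul]
  simp only [Matrix.mul_assoc]

theorem congT_one {σ : K →+* K} (hσ : ∀ x, σ (σ x) = x) {m : ℕ} (S : AH σ m) :
    congT hσ (1 : Matrix (Fin m) (Fin m) K) S = S := by
  apply Subtype.ext
  show ct σ 1 * S.1 * 1 = S.1
  rw [ct_one, Matrix.one_mul, Matrix.mul_one]

theorem congT_inv_congT {σ : K →+* K} (hσ : ∀ x, σ (σ x) = x) {m : ℕ}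
    (g : Matrix.GeneralLinearGroup (Fin m) K) (S : AH σ m) :
    congT hσ (g : Matrix (Fin m) (Fin m) K)
      (congT hσ ((g⁻¹ : Matrix.GeneralLinearGroup (Fin m) K) : Matrix (Fin m) (Fin m) K) S) = S := by
  rw [congT_congT]
  have : ((g⁻¹ : Matrix.GeneralLinearGroup (Fin m) K) : Matrix (Fin m) (Fin m) K) *
      (g : Matrix (Fin m) (Fin m) K) = 1 := by
    rw [← Units.val_mul, inv_mul_cancel, Units.val_one]
  rw [this, congT_one]

theorem qf_single {σ : K →+* K} {m : ℕ} (S : Matrix (Fin (m + 1)) (Fin (m + 1)) K) :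
    qf σ S (Pi.single 0 1) = S 0 0 := by
  unfold qf
  have h1 : (σ ∘ (Pi.single 0 1 : Fin (m + 1) → K)) = Pi.single 0 1 := by
    funext i
    by_cases hi : i = 0
    · subst hi; simp
    · simp [Pi.single_eq_of_ne hi]
  rw [h1, single_dotProduct, one_mul, mulVec_single_one]
  rfl

/-- the nilpotent matrix with row `0` equal to `(0, β)` -/
def nilM {m : ℕ} (β : Fin m → K) : Matrix (Fin (m + 1)) (Fin (m + 1)) K :=
  vecMulVec (Pi.single 0 1) (Fin.cons 0 β)

theorem nilM_mul_nilM {m : ℕ} (β : Fin m → K) : nilM β * nilM β = 0 := by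
  unfold nilM
  rw [vecMulVec_mul_vecMulVec, dotProduct_single, mul_one, Fin.cons_zero, zero_smul]
  ext i j
  simp [vecMulVec_apply]

/-- the unipotent element `1 + nilM β` of `GL` -/
def uniG {m : ℕ} (β : Fin m → K) : Matrix.GeneralLinearGroup (Fin (m + 1)) K :=
  ⟨1 + nilM β, 1 - nilM β, by
    rw [add_mul, mul_sub, mul_sub, Matrix.mul_one, Matrix.one_mul, Matrix.mul_one, nilM_mul_nilM]
    abel, by
    rw [sub_mul, mul_add, mul_add, Matrix.mul_one, Matrix.one_mul, Matrix.mul_one, nilM_mul_nilM]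
    abel⟩

theorem uniG_val {m : ℕ} (β : Fin m → K) :
    ((uniG β : Matrix.GeneralLinearGroup (Fin (m + 1)) K) : Matrix (Fin (m + 1)) (Fin (m + 1)) K)
      = 1 + nilM β := rfl

theorem congT_uniG_col {σ : K →+* K} (hσ : ∀ x, σ (σ x) = x) {m : ℕ} (β : Fin m → K)
    (S : AH σ (m + 1)) (i : Fin (m + 1)) :
    (congT hσ (1 + nilM β) S).1 i 0 = S.1 i 0 + S.1 0 0 * σ ((Fin.cons 0 β : Fin (m + 1) → K) i) := by
  have hcol : ∀ M : Matrix (Fin (m + 1)) (Fin (m + 1)) K, M i 0 = (M *ᵥ Pi.single 0 1) i := by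
    intro M
    rw [mulVec_single_one]
    rfl
  rw [hcol (congT hσ (1 + nilM β) S).1]
  show ((ct σ (1 + nilM β) * S.1 * (1 + nilM β)) *ᵥ Pi.single 0 1) i = _
  rw [← mulVec_mulVec, ← mulVec_mulVec]
  have h1 : (1 + nilM β) *ᵥ (Pi.single 0 1 : Fin (m + 1) → K) = Pi.single 0 1 := by
    rw [add_mulVec, one_mulVec]
    unfold nilM
    rw [vecMulVec_mulVec, dotProduct_single, mul_one, Fin.cons_zero]
    simp
  rw [h1]
  have h2 : ct σ (1 + nilM β) = 1 + vecMulVec (σ ∘ (Fin.cons 0 β : Fin (m + 1) → K))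
      (Pi.single 0 1) := by
    rw [ct_add, ct_one]
    congr 1
    ext a b
    rw [ct_apply]
    unfold nilM
    rw [vecMulVec_apply, vecMulVec_apply, map_mul, Function.comp_apply, mul_comm]
    congr 1
    by_cases hb : b = 0
    · subst hb; simp
    · simp [Pi.single_eq_of_ne hb]
  rw [h2, add_mulVec, one_mulVec, vecMulVec_mulVec, single_dotProduct, one_mul]
  rw [Pi.add_apply, mulVec_single_one]
  simp [Matrix.col_apply, mul_comm]

theorem card_fiber_ge [Fintype K] (D : Frob K q) (hK : Fintype.card K = q ^ 2) (m : ℕ)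
    (W : Set (AH D.σ (m + 1)))
    (hcl : ∀ S ∈ W, ∀ g : Matrix.GeneralLinearGroup (Fin (m + 1)) K,
      congT D.invol (g : Matrix (Fin (m + 1)) (Fin (m + 1)) K) S ∈ W)
    (S₂ : AH D.σ (m + 1)) (hS₂ : S₂ ∈ W) (s₀ : K) (h00 : S₂.1 0 0 = s₀) (hs₀ : s₀ ≠ 0) :
    q ^ (2 * m) ≤ {S : AH D.σ (m + 1) | S ∈ W ∧ S.1 0 0 = s₀}.ncard := by
  classical
  let f : (Fin m → K) → AH D.σ (m + 1) := fun β => congT D.invol (1 + nilM β) S₂
  have hf : Function.Injective f := by
    intro β β' h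
    funext j
    have h1 := congT_uniG_col D.invol β S₂ j.succ
    have h2 := congT_uniG_col D.invol β' S₂ j.succ
    have h3 : (f β).1 j.succ 0 = (f β').1 j.succ 0 := by rw [h]
    have h4 : S₂.1 0 0 * D.σ (β j) = S₂.1 0 0 * D.σ (β' j) := by
      have h5 : (congT D.invol (1 + nilM β) S₂).1 j.succ 0
          = (congT D.invol (1 + nilM β') S₂).1 j.succ 0 := h3
      rw [h1, h2, Fin.cons_succ, Fin.cons_succ] at h5
      exact add_left_cancel h5
    rw [h00] at h4
    exact D.σ.injective (mul_left_cancel₀ hs₀ h4)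
  have hsub : f '' Set.univ ⊆ {S : AH D.σ (m + 1) | S ∈ W ∧ S.1 0 0 = s₀} := by
    rintro _ ⟨β, -, rfl⟩
    refine ⟨?_, ?_⟩
    · have := hcl S₂ hS₂ (uniG β)
      rwa [uniG_val] at this
    · show (congT D.invol (1 + nilM β) S₂).1 0 0 = s₀
      rw [congT_uniG_col, Fin.cons_zero, map_zero, mul_zero, add_zero, h00]
  have hcard : (f '' Set.univ).ncard = q ^ (2 * m) := by
    rw [Set.ncard_image_of_injective _ hf, Set.ncard_univ, Nat.card_eq_fintype_card,
      Fintype.card_fun, Fintype.card_fin, hK, ← pow_mul]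
  rw [← hcard]
  exact Set.ncard_le_ncard hsub (Set.toFinite _)

end Cfsg.Agent.Helper29.LS34ORBC

namespace Cfsg.Agent.S2334P

open Matrix Module Cfsg.Agent.Helper2.SUGen Cfsg.Agent.Helper29.LS34ORBC

variable {K : Type*} [Field K] {q : ℕ}

theorem orbit_bound [Fintype K] (D : Frob K q) (hK : Fintype.card K = q ^ 2) (m : ℕ)
    (W : Set (AH D.σ m)) (hne : W.Nonempty) (h0 : (0 : AH D.σ m) ∉ W)
    (hcl : ∀ S ∈ W, ∀ g : Matrix.GeneralLinearGroup (Fin m) K,
      congT D.invol (g : Matrix (Fin m) (Fin m) K) S ∈ W) :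
    q ^ (2 * m) - 1 ≤ (q + 1) * W.ncard := by
  classical
  cases m with
  | zero => simp
  | succ m =>
  obtain ⟨S₁, hS₁⟩ := hne
  have hS₁0 : S₁ ≠ 0 := fun h => h0 (h ▸ hS₁)
  obtain ⟨u₁, hu₁⟩ := exists_qf_ne_zero D S₁ hS₁0
  obtain ⟨s₀, hs₀def⟩ : ∃ s₀, s₀ = qf D.σ S₁.1 u₁ := ⟨_, rfl⟩
  have hs₀ : s₀ ≠ 0 := by rw [hs₀def]; exact hu₁
  have hq : 0 < q := by
    rcases Nat.eq_zero_or_pos q with h | h
    · subst h
      have : 0 < Fintype.card K := Fintype.card_pos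
      rw [hK] at this
      simp at this
    · exact h
  have hu₁0 : u₁ ≠ 0 := by
    intro h
    apply hu₁
    rw [h]
    unfold qf
    rw [mulVec_zero, dotProduct_zero]
  -- an element of `W` with `(0,0)` entry `s₀`
  obtain ⟨g₁, hg₁⟩ := exists_gl_mulVec_single m u₁ hu₁0
  have hS₂W : congT D.invol (g₁ : Matrix (Fin (m + 1)) (Fin (m + 1)) K) S₁ ∈ W := hcl S₁ hS₁ g₁
  have hS₂00 : (congT D.invol (g₁ : Matrix (Fin (m + 1)) (Fin (m + 1)) K) S₁).1 0 0 = s₀ := by
    rw [← qf_single (σ := D.σ) (congT D.invol (g₁ : Matrix (Fin (m + 1)) (Fin (m + 1)) K) S₁).1,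
      qf_congT, hg₁, hs₀def]
  have hA := card_fiber_ge D hK m W hcl _ hS₂W s₀ hS₂00 hs₀
  -- lower bound for every nonzero `u`
  have hlow : ∀ u : Fin (m + 1) → K, u ≠ 0 →
      q ^ (2 * m) ≤ {S : AH D.σ (m + 1) | S ∈ W ∧ qf D.σ S.1 u = s₀}.ncard := by
    intro u hu
    obtain ⟨g, hg⟩ := exists_gl_mulVec_single m u hu
    refine le_trans hA ?_
    let φ : AH D.σ (m + 1) → AH D.σ (m + 1) := fun S =>
      congT D.invol ((g⁻¹ : Matrix.GeneralLinearGroup (Fin (m + 1)) K) :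
        Matrix (Fin (m + 1)) (Fin (m + 1)) K) S
    have hφ : Function.Injective φ := by
      intro S S' h
      have := congrArg (congT D.invol (g : Matrix (Fin (m + 1)) (Fin (m + 1)) K)) h
      rwa [congT_inv_congT, congT_inv_congT] at this
    have hsub : φ '' {S : AH D.σ (m + 1) | S ∈ W ∧ S.1 0 0 = s₀} ⊆
        {S : AH D.σ (m + 1) | S ∈ W ∧ qf D.σ S.1 u = s₀} := by
      rintro _ ⟨S, ⟨hSW, hS00⟩, rfl⟩
      refine ⟨hcl S hSW g⁻¹, ?_⟩
      show qf D.σ (congT D.invol _ S).1 u = s₀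
      rw [qf_congT, ← hg, mulVec_mulVec]
      have : ((g⁻¹ : Matrix.GeneralLinearGroup (Fin (m + 1)) K) :
          Matrix (Fin (m + 1)) (Fin (m + 1)) K) * (g : Matrix (Fin (m + 1)) (Fin (m + 1)) K) = 1 := by
        rw [← Units.val_mul, inv_mul_cancel, Units.val_one]
      rw [this, one_mulVec, qf_single, hS00]
    rw [← Set.ncard_image_of_injective _ hφ]
    exact Set.ncard_le_ncard hsub (Set.toFinite _)
  -- upper bound for every `S ∈ W`
  have hup : ∀ S ∈ W, {u : Fin (m + 1) → K | qf D.σ S.1 u = s₀}.ncard ≤ (q + 1) * q ^ (2 * m) := by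
    intro S hS
    exact ncard_qf_eq_le D hK m S (fun h => h0 (h ▸ hS)) s₀ hs₀
  -- double counting
  have : Fintype (AH D.σ (m + 1)) := Fintype.ofFinite _
  let sU : Finset (Fin (m + 1) → K) := Finset.univ.filter (fun u => u ≠ 0)
  let tW : Finset (AH D.σ (m + 1)) := Finset.univ.filter (fun S => S ∈ W)
  let r : (Fin (m + 1) → K) → AH D.σ (m + 1) → Prop := fun u S => qf D.σ S.1 u = s₀
  have htW : W.ncard = tW.card := by
    rw [← Set.ncard_coe_finset]
    congr 1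
    ext S
    simp [tW]
  have hsU : sU.card = q ^ (2 * (m + 1)) - 1 := by
    show (Finset.univ.filter (fun u : Fin (m + 1) → K => u ≠ 0)).card = _
    rw [Finset.filter_ne', Finset.card_erase_of_mem (Finset.mem_univ _), Finset.card_univ,
      Fintype.card_fun, Fintype.card_fin, hK, ← pow_mul]
  have hdc := Finset.card_mul_le_card_mul (s := sU) (t := tW) r (m := q ^ (2 * m))
    (n := (q + 1) * q ^ (2 * m)) ?_ ?_
  · rw [hsU, ← htW] at hdc
    have h2 : (q ^ (2 * (m + 1)) - 1) * q ^ (2 * m) ≤ ((q + 1) * W.ncard) * q ^ (2 * m) := by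
      calc (q ^ (2 * (m + 1)) - 1) * q ^ (2 * m) ≤ W.ncard * ((q + 1) * q ^ (2 * m)) := hdc
        _ = ((q + 1) * W.ncard) * q ^ (2 * m) := by ring
    exact Nat.le_of_mul_le_mul_right h2 (pow_pos hq _)
  · intro u hu
    have hu0 : u ≠ 0 := (Finset.mem_filter.mp hu).2
    refine le_trans (hlow u hu0) ?_
    rw [← Set.ncard_coe_finset]
    apply Set.ncard_le_ncard _ (Set.toFinite _)
    rintro S ⟨hSW, hSu⟩
    simp only [Finset.coe_filter, Finset.bipartiteAbove, Set.mem_ofPred_eq]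
    exact ⟨Finset.mem_filter.mpr ⟨Finset.mem_univ _, hSW⟩, hSu⟩
  · intro S hS
    have hSW : S ∈ W := (Finset.mem_filter.mp hS).2
    refine le_trans ?_ (hup S hSW)
    rw [← Set.ncard_coe_finset]
    apply Set.ncard_le_ncard _ (Set.toFinite _)
    intro u hu
    simp only [Finset.coe_filter, Finset.bipartiteBelow, Set.mem_ofPred_eq] at hu
    exact hu.2

end Cfsg.Agent.S2334P
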