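import Mathlib
import Cfsg.Agent.Helper29.KazarinB
import Cfsg.Agent.S0219

/-!
# Groups with a (cyclic)-by-(cyclic 2-group) subgroup of prime power index are solvable

Reduction to simple groups, where Kazarin/Burnside (prime power class size) or a cyclic Sylow
2-subgroup finish.
-/

set_option autoImplicit false

universe u

namespace Cfsg.Agent.Helper29.MetaIdx

open Subgroup

/-- the hypothesis: a subgroup `A` of `p`-power index having a cyclic normal subgroup `B` with
`A ⧸ B` a cyclic 2-group -/
def Phi (G : Type u) [Group G] (p : ℕ) : Prop :=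
  ∃ (A : Subgroup G) (s : ℕ) (B : Subgroup A) (_ : B.Normal) (r : ℕ),
    A.index = p ^ s ∧ IsCyclic B ∧ IsCyclic (A ⧸ B) ∧ Nat.card (A ⧸ B) = 2 ^ r

theorem Phi.quotient {G : Type u} [Group G] [Finite G] {p : ℕ} (hp : p.Prime) (h : Phi G p)
    (N : Subgroup G) [N.Normal] : Phi (G ⧸ N) p := by
  obtain ⟨A, s, B, hBn, r, hA, hBc, hABc, hr⟩ := h
  set π := QuotientGroup.mk' N with hπ
  have hπs : Function.Surjective π := QuotientGroup.mk'_surjective N
  set φ : A →* (A.map π) := π.subgroupMap A with hφdef
  have hφ : Function.Surjective φ := π.subgroupMap_surjective A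
  haveI hBn' : (B.map φ).Normal := hBn.map φ hφ
  obtain ⟨s', hs'⟩ : ∃ s', (A.map π).index = p ^ s' := by
    have h1 : (A.map π).index ∣ A.index := Subgroup.index_map_dvd A hπs
    rw [hA] at h1
    obtain ⟨k', _, hk'⟩ := (Nat.dvd_prime_pow hp).mp h1
    exact ⟨k', hk'⟩
  -- the induced map on quotients
  let θ : A ⧸ B →* (A.map π) ⧸ (B.map φ) :=
    QuotientGroup.map B (B.map φ) φ (Subgroup.le_comap_map φ B)
  have hθ : Function.Surjective θ := by
    intro y
    obtain ⟨y', rfl⟩ := QuotientGroup.mk_surjective y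
    obtain ⟨x, rfl⟩ := hφ y'
    exact ⟨QuotientGroup.mk x, rfl⟩
  haveI := hABc
  have hcyc : IsCyclic ((A.map π) ⧸ (B.map φ)) := isCyclic_of_surjective θ hθ
  obtain ⟨r', hr'⟩ : ∃ r', Nat.card ((A.map π) ⧸ (B.map φ)) = 2 ^ r' := by
    have h1 : Nat.card ((A.map π) ⧸ (B.map φ)) ∣ Nat.card (A ⧸ B) :=
      Subgroup.card_dvd_of_surjective θ hθ
    rw [hr] at h1
    obtain ⟨k', _, hk'⟩ := (Nat.dvd_prime_pow Nat.prime_two).mp h1
    exact ⟨k', hk'⟩
  haveI := hBc
  have hBc' : IsCyclic (B.map φ) :=
    isCyclic_of_surjective (φ.subgroupMap B) (φ.subgroupMap_surjective B)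
  exact ⟨A.map π, s', B.map φ, hBn', r', hs', hBc', hcyc, hr'⟩

theorem Phi.normal_subgroup {G : Type u} [Group G] [Finite G] {p : ℕ} (hp : p.Prime)
    (h : Phi G p) (M : Subgroup G) [M.Normal] : Phi M p := by
  obtain ⟨A, s, B, hBn, r, hA, hBc, hABc, hr⟩ := h
  set AM : Subgroup M := A.subgroupOf M with hAM
  let ψ : AM →* A :=
    { toFun := fun x => ⟨((x : M) : G), Subgroup.mem_subgroupOf.mp x.2⟩
      map_one' := rfl
      map_mul' := fun _ _ => rfl }
  have hψ : Function.Injective ψ := by
    intro x y hxy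
    have h1 : ((x : M) : G) = ((y : M) : G) := congrArg (fun t : A => (t : G)) hxy
    exact Subtype.ext (Subtype.ext h1)
  let φ : AM →* A ⧸ B := (QuotientGroup.mk' B).comp ψ
  obtain ⟨s', hs'⟩ : ∃ s', AM.index = p ^ s' := by
    have h1 : AM.index ∣ A.index :=
      Cfsg.Agent.Helper29.Kazarin.relIndex_dvd_index_of_normal_right' A M
    rw [hA] at h1
    obtain ⟨k', _, hk'⟩ := (Nat.dvd_prime_pow hp).mp h1
    exact ⟨k', hk'⟩
  have hinj : Function.Injective (QuotientGroup.kerLift φ) := QuotientGroup.kerLift_injective φ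
  haveI := hABc
  have hcyc : IsCyclic (AM ⧸ φ.ker) := isCyclic_of_injective (QuotientGroup.kerLift φ) hinj
  obtain ⟨r', hr'⟩ : ∃ r', Nat.card (AM ⧸ φ.ker) = 2 ^ r' := by
    have h1 : Nat.card (AM ⧸ φ.ker) ∣ Nat.card (A ⧸ B) :=
      Subgroup.card_dvd_of_injective (QuotientGroup.kerLift φ) hinj
    rw [hr] at h1
    obtain ⟨k', _, hk'⟩ := (Nat.dvd_prime_pow Nat.prime_two).mp h1
    exact ⟨k', hk'⟩
  -- the kernel embeds in `B`
  have hker : ∀ x : φ.ker, ψ (x : AM) ∈ B := by
    intro x
    have h1 : φ (x : AM) = 1 := x.2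
    have h2 : (QuotientGroup.mk' B) (ψ (x : AM)) = 1 := h1
    exact (QuotientGroup.eq_one_iff _).mp h2
  let χ : φ.ker →* B :=
    { toFun := fun x => ⟨ψ (x : AM), hker x⟩
      map_one' := by
        apply Subtype.ext
        simp
      map_mul' := fun x y => by
        apply Subtype.ext
        simp }
  have hχ : Function.Injective χ := by
    intro x y hxy
    have h1 : ψ (x : AM) = ψ (y : AM) := congrArg (fun t : B => (t : A)) hxy
    exact Subtype.ext (hψ h1)
  haveI := hBc
  have hBc' : IsCyclic φ.ker := isCyclic_of_injective χ hχ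
  exact ⟨AM, s', φ.ker, inferInstance, r', hs', hBc', hcyc, hr'⟩


/-- if `A ≤ C_G(x)` and `|G : A| = p ^ s` then the class size of `x` is a power of `p` -/
theorem index_centralizer_of_le {G : Type u} [Group G] [Finite G] {p : ℕ} (hp : p.Prime)
    {A : Subgroup G} {s : ℕ} (hA : A.index = p ^ s) (x : G)
    (h : A ≤ centralizer ({x} : Set G)) :
    ∃ k, (centralizer ({x} : Set G)).index = p ^ k := by
  have h1 := Subgroup.index_dvd_of_le h
  rw [hA] at h1
  obtain ⟨k', _, hk'⟩ := (Nat.dvd_prime_pow hp).mp h1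
  exact ⟨k', hk'⟩

theorem factorization_two_odd_mul (m r : ℕ) (hm : ¬ 2 ∣ m) :
    (m * 2 ^ r).factorization 2 = r := by
  have hm0 : m ≠ 0 := by
    rintro rfl
    exact hm (dvd_zero 2)
  rw [Nat.factorization_mul hm0 (pow_ne_zero _ two_ne_zero)]
  simp [Nat.factorization_eq_zero_of_not_dvd hm, Nat.prime_two.factorization_pow]

theorem zpow_of_sq_eq_one {H : Type*} [Group H] (z : H) (hz : z ^ 2 = 1) (k : ℤ) :
    z ^ k = 1 ∨ z ^ k = z := by
  have h1 : z ^ k = z ^ (k % 2) := by
    conv_lhs => rw [← Int.mul_ediv_add_emod k 2]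
    rw [zpow_add, zpow_mul]
    have : z ^ (2 : ℤ) = 1 := by
      have := hz
      rw [← zpow_natCast] at this
      exact_mod_cast this
    rw [this, one_zpow, one_mul]
  rcases Int.emod_two_eq_zero_or_one k with h | h
  · left; rw [h1, h, zpow_zero]
  · right; rw [h1, h, zpow_one]


/-- the middle alternative: a nontrivial element with prime power class size -/
def Mid (G : Type u) [Group G] : Prop :=
  ∃ x : G, x ≠ 1 ∧ ∃ (l k : ℕ), l.Prime ∧ (centralizer ({x} : Set G)).index = l ^ k

theorem mid_of_central {G : Type u} [Group G] [Finite G] {p : ℕ} (hp : p.Prime)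
    {A : Subgroup G} {s : ℕ} (hA : A.index = p ^ s) (z : A) (hz : z ≠ 1)
    (hc : ∀ y : A, y * z = z * y) : Mid G := by
  refine ⟨(z : G), ?_, p, ?_⟩
  · intro h
    exact hz (Subtype.ext h)
  · have hle : A ≤ centralizer ({(z : G)} : Set G) := by
      intro y hy
      rw [Subgroup.mem_centralizer_iff]
      intro w hw
      rw [Set.mem_singleton_iff] at hw
      subst hw
      have := hc ⟨y, hy⟩
      have h2 := congrArg (fun t : A => (t : G)) this
      simp only [Subgroup.coe_mul] at h2
      exact h2.symm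
    obtain ⟨k, hk⟩ := index_centralizer_of_le hp hA _ hle
    exact ⟨k, hp, hk⟩

theorem mid_of_comm {G : Type u} [Group G] [Finite G] {p : ℕ} (hp : p.Prime)
    {A : Subgroup G} {s : ℕ} (hA : A.index = p ^ s) (hAbot : A ≠ ⊥)
    (hc : ∀ y z : A, y * z = z * y) : Mid G := by
  obtain ⟨z, hz1⟩ := (Subgroup.ne_bot_iff_exists_ne_one).mp hAbot
  exact mid_of_central hp hA z hz1 (fun y => hc y z)


theorem Phi.trichotomy {G : Type u} [Group G] [Finite G] {p : ℕ} (hp : p.Prime) (h : Phi G p) :
    IsPGroup p G ∨ Mid G ∨ (∃ H : Subgroup G, H.index = 2) := by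
  obtain ⟨A, s, B, hBn, r, hA, hBc, hABc, hr⟩ := h
  by_cases hAbot : A = ⊥
  · left
    rw [hAbot, Subgroup.index_bot] at hA
    exact IsPGroup.of_card hA
  right
  obtain ⟨b, hb⟩ := hBc.exists_generator
  -- elements of `B` commute with `b`
  have hBcomm : ∀ x y : A, x ∈ B → y ∈ B → x * y = y * x := by
    intro x y hx hy
    obtain ⟨i, hi⟩ := Subgroup.mem_zpowers_iff.mp (hb ⟨x, hx⟩)
    obtain ⟨j, hj⟩ := Subgroup.mem_zpowers_iff.mp (hb ⟨y, hy⟩)
    have hx' : x = (b : A) ^ i := by
      have := congrArg (fun t : B => (t : A)) hi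
      simpa using this.symm
    have hy' : y = (b : A) ^ j := by
      have := congrArg (fun t : B => (t : A)) hj
      simpa using this.symm
    rw [hx', hy', ← zpow_add, ← zpow_add, add_comm]
  -- Case B = ⊥
  by_cases hBbot : B = ⊥
  · left
    refine mid_of_comm hp hA hAbot ?_
    intro y z
    letI : CommGroup (A ⧸ B) := IsCyclic.commGroup
    have h1 : (QuotientGroup.mk' B) (y * z) = (QuotientGroup.mk' B) (z * y) := by
      rw [map_mul, map_mul, mul_comm]
    have h2 : (y * z)⁻¹ * (z * y) ∈ B := by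
      have := (QuotientGroup.eq (s := B)).mp h1
      exact this
    rw [hBbot, Subgroup.mem_bot] at h2
    exact (inv_mul_eq_one.mp h2)
  -- Case r = 0
  by_cases hr0 : r = 0
  · left
    have hBtop : B = ⊤ := by
      rw [hr0, pow_zero] at hr
      have h1 : B.index = 1 := by rw [Subgroup.index_eq_card]; exact hr
      exact Subgroup.index_eq_one.mp h1
    refine mid_of_comm hp hA hAbot ?_
    intro y z
    exact hBcomm y z (by rw [hBtop]; trivial) (by rw [hBtop]; trivial)
  have hb1 : (b : A) ≠ 1 := by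
    intro h
    apply hBbot
    rw [Subgroup.eq_bot_iff_forall]
    intro x hx
    obtain ⟨i, hi⟩ := Subgroup.mem_zpowers_iff.mp (hb ⟨x, hx⟩)
    have := congrArg (fun t : B => (t : A)) hi
    simp only [Subgroup.coe_zpow] at this
    rw [← this, h, one_zpow]
  by_cases hp2 : p = 2
  · -- p = 2 : the class of `b` has 2-power size
    left
    refine ⟨((b : A) : G), ?_, 2, ?_⟩
    · intro h
      exact hb1 (Subtype.ext h)
    · have hle : B.map A.subtype ≤ centralizer ({((b : A) : G)} : Set G) := by
        rintro _ ⟨x, hx, rfl⟩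
        rw [Subgroup.mem_centralizer_iff]
        intro w hw
        rw [Set.mem_singleton_iff] at hw
        subst hw
        have := hBcomm (b : A) x b.2 hx
        have h2 := congrArg (fun t : A => (t : G)) this
        simp only [Subgroup.coe_mul] at h2
        exact h2
      have h1 := Subgroup.index_dvd_of_le hle
      have hBi : B.index = 2 ^ r := by rw [Subgroup.index_eq_card]; exact hr
      rw [Subgroup.index_map_subtype, hA, hBi, hp2, ← pow_add] at h1
      obtain ⟨k', _, hk'⟩ := (Nat.dvd_prime_pow Nat.prime_two).mp h1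
      exact ⟨k', Nat.prime_two, hk'⟩
  have hpodd : ¬ 2 ∣ p := by
    intro h
    exact hp2 ((Nat.prime_dvd_prime_iff_eq Nat.prime_two hp).mp h).symm
  have hordb : orderOf b = Nat.card B := orderOf_eq_card_of_forall_mem_zpowers hb
  by_cases heven : 2 ∣ Nat.card B
  · -- the involution of `B` is central in `A`
    left
    obtain ⟨m, hm⟩ := heven
    have hm0 : m ≠ 0 := by
      rintro rfl
      rw [mul_zero] at hm
      exact (Nat.card_pos (α := B)).ne' hm
    set z : B := b ^ m with hz
    have hz1 : z ≠ 1 := by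
      apply pow_ne_one_of_lt_orderOf hm0
      rw [hordb, hm]; omega
    have hz2 : z ^ 2 = 1 := by
      rw [hz, ← pow_mul, mul_comm, ← hm, ← hordb, pow_orderOf_eq_one]
    refine mid_of_central hp hA (z : A) ?_ ?_
    · intro h
      exact hz1 (Subtype.ext h)
    · intro y
      -- conjugate of b by y
      set w : B := ⟨y * (b : A) * y⁻¹, hBn.conj_mem (b : A) b.2 y⟩ with hw
      obtain ⟨k, hk⟩ := Subgroup.mem_zpowers_iff.mp (hb w)
      have h1 : y * (z : A) * y⁻¹ = ((z ^ k : B) : A) := by
        have h2 : ((z ^ k : B) : A) = ((w ^ m : B) : A) := by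
          rw [← hk, hz, ← zpow_natCast, ← zpow_natCast, ← zpow_mul, ← zpow_mul, mul_comm]
        rw [h2, hz]
        simp only [Subgroup.coe_pow]
        rw [hw]
        simp only
        rw [conj_pow]
      rcases zpow_of_sq_eq_one z hz2 k with h3 | h3
      · exfalso
        rw [h3] at h1
        apply hz1
        apply Subtype.ext
        have : (z : A) = y⁻¹ * (y * (z : A) * y⁻¹) * y := by group
        rw [this, h1]
        simp
      · rw [h3] at h1
        calc y * (z : A) = (y * (z : A) * y⁻¹) * y := by group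
          _ = (z : A) * y := by rw [h1]
  · -- odd `|B|`, `r ≥ 1`, `p` odd: cyclic Sylow 2-subgroup
    right
    haveI : Fact (Nat.Prime 2) := ⟨Nat.prime_two⟩
    have hcardA : Nat.card A = Nat.card B * 2 ^ r := by
      rw [← hr, mul_comm]
      exact Subgroup.card_eq_card_quotient_mul_card_subgroup B
    have hcardG : Nat.card G = (Nat.card B * p ^ s) * 2 ^ r := by
      rw [← hA, ← Subgroup.card_mul_index A, hcardA]
      ring
    have hfA : (Nat.card A).factorization 2 = r := by
      rw [hcardA]; exact factorization_two_odd_mul _ _ heven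
    have hfG : (Nat.card G).factorization 2 = r := by
      rw [hcardG]
      apply factorization_two_odd_mul
      intro h
      rcases (Nat.Prime.dvd_mul Nat.prime_two).mp h with h | h
      · exact heven h
      · exact hpodd (Nat.prime_two.dvd_of_dvd_pow h)
    obtain ⟨Q⟩ := (inferInstance : Nonempty (Sylow 2 A))
    have hQcard : Nat.card Q = 2 ^ r := by
      rw [Sylow.card_eq_multiplicity, hfA]
    let f : Q →* A ⧸ B := (QuotientGroup.mk' B).comp (Q : Subgroup A).subtype
    have hf : Function.Injective f := by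
      rw [injective_iff_map_eq_one]
      intro x hx
      have h1 : ((x : A)) ∈ B := (QuotientGroup.eq_one_iff _).mp hx
      obtain ⟨k, hk⟩ := (IsPGroup.iff_orderOf.mp Q.isPGroup') x
      have h2 : orderOf (⟨(x : A), h1⟩ : B) ∣ Nat.card B := orderOf_dvd_natCard _
      have h3 : orderOf (⟨(x : A), h1⟩ : B) = orderOf x := by
        rw [← Subgroup.orderOf_coe, ← Subgroup.orderOf_coe x]
      rw [h3, hk] at h2
      have hk0 : k = 0 := by
        by_contra hk0
        apply heven
        exact dvd_trans (dvd_pow_self 2 hk0) h2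
      rw [hk0, pow_zero] at hk
      exact orderOf_eq_one_iff.mp hk
    haveI := hABc
    haveI hQc : IsCyclic Q := isCyclic_of_injective f hf
    set T : Subgroup G := (Q : Subgroup A).map A.subtype with hT
    have hTcard : Nat.card T = 2 ^ (Nat.card G).factorization 2 := by
      rw [hfG, hT, Subgroup.card_subtype]
      exact hQcard
    let e : Q ≃* T := (Q : Subgroup A).equivMapOfInjective A.subtype A.subtype_injective
    have hTc : IsCyclic T := isCyclic_of_surjective e e.surjective
    have heG : Even (Nat.card G) := by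
      rw [hcardG, even_iff_two_dvd]
      exact Dvd.dvd.mul_left (dvd_pow_self 2 hr0) _
    exact Cfsg.Agent.S0219.result heG (Sylow.ofCard T hTcard) (by rw [Sylow.coe_ofCard]; exact hTc)


theorem isSolvable_of_Phi {p : ℕ} (hp : p.Prime) :
    ∀ (n : ℕ) (G : Type u) [Group G] [Finite G], Nat.card G = n → Phi G p →
      Group.IsSolvable G := by
  intro n
  induction n using Nat.strong_induction_on with
  | _ n ih =>
  intro G _ _ hn hΦ
  by_cases hN : ∃ N : Subgroup G, N.Normal ∧ N ≠ ⊥ ∧ N ≠ ⊤
  · obtain ⟨N, hNn, hNb, hNt⟩ := hN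
    haveI := hNn
    have hlt1 : Nat.card N < n := by
      rw [← hn]
      refine lt_of_le_of_ne (Subgroup.card_le_card_group N) ?_
      intro h
      exact hNt ((Subgroup.card_eq_iff_eq_top N).mp h)
    have hlt2 : Nat.card (G ⧸ N) < n := by
      rw [← hn, ← Subgroup.index_eq_card, ← Subgroup.card_mul_index N]
      have h1 : 1 < Nat.card N := by
        rw [Finite.one_lt_card_iff_nontrivial]
        exact (Subgroup.nontrivial_iff_ne_bot N).mpr hNb
      have h2 : 0 < N.index := Nat.pos_of_ne_zero Subgroup.index_ne_zero_of_finite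
      nlinarith
    haveI h1 : Group.IsSolvable N := ih _ hlt1 N rfl (hΦ.normal_subgroup hp N)
    haveI h2 : Group.IsSolvable (G ⧸ N) := ih _ hlt2 (G ⧸ N) rfl (hΦ.quotient hp N)
    exact solvable_of_ker_le_range N.subtype (QuotientGroup.mk' N) (by simp)
  · push Not at hN
    rcases hΦ.trichotomy hp with h | ⟨x, hx1, l, k, hl, hx⟩ | ⟨H, hH⟩
    · haveI : Fact p.Prime := ⟨hp⟩
      haveI := h.isNilpotent
      infer_instance
    · have hs := Cfsg.Agent.Helper29.Kazarin.kazarin x hl k hx
      have hne : normalClosure ({x} : Set G) ≠ ⊥ := by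
        intro h
        apply hx1
        have : x ∈ normalClosure ({x} : Set G) := subset_normalClosure (Set.mem_singleton x)
        rw [h] at this
        exact Subgroup.mem_bot.mp this
      have htop : normalClosure ({x} : Set G) = ⊤ := by
        by_contra h
        exact h (hN _ normalClosure_normal hne)
      rw [htop] at hs
      haveI := hs
      exact solvable_of_surjective (f := (Subgroup.topEquiv : (⊤ : Subgroup G) ≃* G).toMonoidHom)
        (Subgroup.topEquiv : (⊤ : Subgroup G) ≃* G).surjective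
    · haveI : H.Normal := Subgroup.normal_of_index_eq_two hH
      have hHt : H ≠ ⊤ := by
        intro h
        rw [h, Subgroup.index_top] at hH
        omega
      have hHb : H = ⊥ := by
        by_contra h
        exact hHt (hN H inferInstance h)
      rw [hHb, Subgroup.index_bot] at hH
      haveI : Fact (Nat.Prime 2) := ⟨Nat.prime_two⟩
      have hP : IsPGroup 2 G := IsPGroup.of_card (n := 1) (by rw [hH, pow_one])
      haveI := hP.isNilpotent
      infer_instance

/-- **S4245.** -/
theorem isSolvable_of_metacyclic_like_prime_power_index {G : Type u} [Group G] [Finite G]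
    (A : Subgroup G) (p s : ℕ) (hp : p.Prime) (hA : A.index = p ^ s)
    (B : Subgroup A) [hBn : B.Normal] (hB : IsCyclic B) (hAB : IsCyclic (A ⧸ B)) (r : ℕ)
    (hr : Nat.card (A ⧸ B) = 2 ^ r) : Group.IsSolvable G :=
  isSolvable_of_Phi hp _ G rfl ⟨A, s, B, hBn, r, hA, hB, hAB, hr⟩

end Cfsg.Agent.Helper29.MetaIdx
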