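import Mathlib
import Cfsg.Agent.Helper1.SylowBasic

/-!
# Group-theoretic lemmas for normal complements of Sylow normalizers

* fusion control modulo a normal subgroup `K` with `P' ≤ K`, inside a subgroup `L` with
  `L ∩ N_G(P) ≤ P`;
* the focal subgroup theorem inside a subgroup `L ≥ P`;
* if `L'` lies in `Y P` with `Y` normal, then the normal closure `L` of `P` lies in `Y P`.
-/

set_option autoImplicit false
set_option linter.style.haveILetI false

namespace Cfsg.Agent.Helper29.NormCompl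

open scoped commutatorElement

variable {G : Type*} [Group G]

theorem mk_comm_of_commutator_mem (K : Subgroup G) [hK : K.Normal] (a b : G) (h : ⁅a, b⁆ ∈ K) :
    QuotientGroup.mk' K a * QuotientGroup.mk' K b = QuotientGroup.mk' K b * QuotientGroup.mk' K a := by
  rw [← commutatorElement_eq_one_iff_mul_comm, ← map_commutatorElement]
  exact (QuotientGroup.eq_one_iff _).mpr h

variable [Finite G] {p : ℕ} [hp : Fact p.Prime]

/-- Fusion control: if `P' ≤ K ⊴ G`, `P ≤ L` and `L ∩ N_G(P) ≤ P`, then two elements of `P` that are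
conjugate under `L` are congruent modulo `K`. -/
theorem mul_inv_mem_of_conj (P : Sylow p G) (K L : Subgroup G) [hK : K.Normal]
    (hPL : (P : Subgroup G) ≤ L)
    (hPK : ⁅(P : Subgroup G), (P : Subgroup G)⁆ ≤ K)
    (hLN : L ⊓ Subgroup.normalizer ((P : Subgroup G) : Set G) ≤ P)
    (x u : G) (hx : x ∈ (P : Subgroup G)) (hu : u ∈ L) (hy : u * x * u⁻¹ ∈ (P : Subgroup G)) :
    x * (u * x * u⁻¹)⁻¹ ∈ K := by
  obtain ⟨y, hydef⟩ : ∃ y, y = u * x * u⁻¹ := ⟨_, rfl⟩
  rw [← hydef] at hy ⊢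
  -- the subgroup `C` of elements of `L` centralizing `y` modulo `K`
  obtain ⟨C, hC⟩ : ∃ C : Subgroup G, C = (Subgroup.centralizer
      ({QuotientGroup.mk' K y} : Set (G ⧸ K))).comap (QuotientGroup.mk' K) ⊓ L := ⟨_, rfl⟩
  have hmemC : ∀ c, c ∈ C ↔ (QuotientGroup.mk' K c * QuotientGroup.mk' K y =
      QuotientGroup.mk' K y * QuotientGroup.mk' K c ∧ c ∈ L) := by
    intro c
    rw [hC, Subgroup.mem_inf, Subgroup.mem_comap, Subgroup.mem_centralizer_singleton_iff]
  have hPC : (P : Subgroup G) ≤ C := by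
    intro a ha
    rw [hmemC]
    exact ⟨mk_comm_of_commutator_mem K a y (hPK (Subgroup.commutator_mem_commutator ha hy)),
      hPL ha⟩
  have hQC : ((u • P : Sylow p G) : Subgroup G) ≤ C := by
    intro b hb
    have hb' : u⁻¹ * b * u ∈ (P : Subgroup G) := (Cfsg.Agent.Helper1.mem_sylow_smul_iff P u b).mp hb
    rw [hmemC]
    refine ⟨mk_comm_of_commutator_mem K b y ?_, ?_⟩
    · have h1 : ⁅u⁻¹ * b * u, x⁆ ∈ K := hPK (Subgroup.commutator_mem_commutator hb' hx)
      have h2 : ⁅b, y⁆ = u * ⁅u⁻¹ * b * u, x⁆ * u⁻¹ := by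
        rw [hydef, commutatorElement_def, commutatorElement_def]
        group
      rw [h2]
      exact hK.conj_mem _ h1 u
    · have : b = u * (u⁻¹ * b * u) * u⁻¹ := by group
      rw [this]
      exact L.mul_mem (L.mul_mem hu (hPL hb')) (L.inv_mem hu)
  obtain ⟨c, hcC, hc⟩ := Cfsg.Agent.Helper1.sylow_conj_in_subgroup (u • P : Sylow p G) P C hQC hPC
  rw [← mul_smul, Sylow.smul_eq_iff_mem_normalizer] at hc
  have hcL : c ∈ L := ((hmemC c).mp hcC).2
  have hvP : c * u ∈ (P : Subgroup G) := hLN ⟨L.mul_mem hcL hu, hc⟩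
  have h3 : QuotientGroup.mk' K (c * u) * QuotientGroup.mk' K x =
      QuotientGroup.mk' K x * QuotientGroup.mk' K (c * u) :=
    mk_comm_of_commutator_mem K (c * u) x (hPK (Subgroup.commutator_mem_commutator hvP hx))
  have h4 := ((hmemC c).mp hcC).1
  have h5 : QuotientGroup.mk' K x = QuotientGroup.mk' K y := by
    have e1 : QuotientGroup.mk' K ((c * u) * x * (c * u)⁻¹) = QuotientGroup.mk' K x := by
      rw [map_mul, map_mul, h3, map_inv, mul_inv_cancel_right]
    have e2 : QuotientGroup.mk' K (c * y * c⁻¹) = QuotientGroup.mk' K y := by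
      rw [map_mul, map_mul, h4, map_inv, mul_inv_cancel_right]
    have e3 : (c * u) * x * (c * u)⁻¹ = c * y * c⁻¹ := by rw [hydef]; group
    rw [← e1, e3, e2]
  rw [← QuotientGroup.eq_one_iff, ← QuotientGroup.mk'_apply, map_mul, map_inv, h5, mul_inv_cancel]

/-- The focal subgroup theorem inside a subgroup `L` containing the Sylow `p`-subgroup `P`. -/
theorem commutator_inf_le_of_fusion (P : Sylow p G) (L D : Subgroup G)
    (hPL : (P : Subgroup G) ≤ L)
    (h : ∀ x ∈ (P : Subgroup G), ∀ u ∈ L, u * x * u⁻¹ ∈ (P : Subgroup G) →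
      x * (u * x * u⁻¹)⁻¹ ∈ D) :
    ⁅L, L⁆ ⊓ (P : Subgroup G) ≤ D := by
  intro z hz
  obtain ⟨hzL, hzP⟩ := Subgroup.mem_inf.mp hz
  rw [← Subgroup.map_subtype_commutator] at hzL
  obtain ⟨w, hw, rfl⟩ := hzL
  have hfoc := Subgroup.commutator_inf_eq_focalSubgroup (P.subtype hPL)
  have hwP : w ∈ ((P.subtype hPL : Sylow p L) : Subgroup L) := by
    rw [Sylow.coe_subtype, Subgroup.mem_subgroupOf]
    exact hzP
  have hwf : w ∈ Subgroup.focalSubgroup ((P.subtype hPL : Sylow p L) : Subgroup L) := by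
    rw [← hfoc]
    exact ⟨hw, hwP⟩
  have hle : Subgroup.focalSubgroup ((P.subtype hPL : Sylow p L) : Subgroup L) ≤
      D.comap L.subtype := by
    rw [Subgroup.focalSubgroup_def, Subgroup.closure_le]
    rintro g ⟨hgP, x, hxP, u, rfl⟩
    rw [Sylow.coe_subtype, Subgroup.mem_subgroupOf] at hgP hxP
    show ((⁅x, u⁆ : L) : G) ∈ D
    have e : ((⁅x, u⁆ : L) : G) = (x : G) * ((u : G) * (x : G) * (u : G)⁻¹)⁻¹ := by
      rw [commutatorElement_def]
      push_cast
      group
    rw [e]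
    refine h _ hxP _ u.2 ?_
    have e2 : (u : G) * (x : G) * (u : G)⁻¹ = (((⁅x, u⁆ : L) : G))⁻¹ * (x : G) := by
      rw [commutatorElement_def]
      push_cast
      group
    rw [e2]
    exact Subgroup.mul_mem _ (Subgroup.inv_mem _ hgP) hxP
  exact hle hwf

/-- If `Y ⊴ G` and the derived subgroup of the normal closure `L` of `P` lies in `Y P`, then
`L ≤ Y P`. -/
theorem normalClosure_le_sup (P : Sylow p G) (Y : Subgroup G) [hY : Y.Normal]
    (h : ⁅Subgroup.normalClosure ((P : Subgroup G) : Set G),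
      Subgroup.normalClosure ((P : Subgroup G) : Set G)⁆ ≤ Y ⊔ (P : Subgroup G)) :
    Subgroup.normalClosure ((P : Subgroup G) : Set G) ≤ Y ⊔ (P : Subgroup G) := by
  obtain ⟨L, hL⟩ : ∃ L : Subgroup G, L = Subgroup.normalClosure ((P : Subgroup G) : Set G) :=
    ⟨_, rfl⟩
  rw [← hL] at h ⊢
  haveI hLn : L.Normal := by rw [hL]; exact Subgroup.normalClosure_normal
  have hPL : (P : Subgroup G) ≤ L := by rw [hL]; exact Subgroup.le_normalClosure
  have hnorm : (Y ⊔ (P : Subgroup G)).Normal := by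
    constructor
    intro z hz g
    have hz' : z ∈ ((Y ⊔ (P : Subgroup G) : Subgroup G) : Set G) := hz
    rw [Subgroup.normal_mul, Set.mem_mul] at hz'
    obtain ⟨y, hy, a, ha, rfl⟩ := hz'
    have e : g * (y * a) * g⁻¹ = (g * y * g⁻¹) * (g * a * g⁻¹) := by group
    rw [e]
    refine Subgroup.mul_mem _ (Subgroup.mem_sup_left (hY.conj_mem y hy g)) ?_
    have hgPL : ((g • P : Sylow p G) : Subgroup G) ≤ L := by
      intro b hb
      have hb' : g⁻¹ * b * g ∈ (P : Subgroup G) :=
        (Cfsg.Agent.Helper1.mem_sylow_smul_iff P g b).mp hb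
      have : b = g * (g⁻¹ * b * g) * g⁻¹ := by group
      rw [this]
      exact hLn.conj_mem _ (hPL hb') g
    obtain ⟨l, hlL, hl⟩ := Cfsg.Agent.Helper1.sylow_conj_in_subgroup P (g • P : Sylow p G) L
      hPL hgPL
    have hmem : g * a * g⁻¹ ∈ ((g • P : Sylow p G) : Subgroup G) := by
      refine (Cfsg.Agent.Helper1.mem_sylow_smul_iff P g _).mpr ?_
      have : g⁻¹ * (g * a * g⁻¹) * g = a := by group
      rw [this]
      exact ha
    rw [← hl] at hmem
    have ha' : l⁻¹ * (g * a * g⁻¹) * l ∈ (P : Subgroup G) :=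
      (Cfsg.Agent.Helper1.mem_sylow_smul_iff P l _).mp hmem
    have e3 : g * a * g⁻¹ = ⁅l, l⁻¹ * (g * a * g⁻¹) * l⁆ * (l⁻¹ * (g * a * g⁻¹) * l) := by
      rw [commutatorElement_def]
      group
    rw [e3]
    exact Subgroup.mul_mem _ (h (Subgroup.commutator_mem_commutator hlL (hPL ha')))
      (Subgroup.mem_sup_right ha')
  rw [hL]
  exact Subgroup.normalClosure_le_normal (N := Y ⊔ (P : Subgroup G)) (fun a ha => Subgroup.mem_sup_right ha)

end Cfsg.Agent.Helper29.NormCompl
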