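import Mathlib
import Cfsg.Prelude.Def_Characters
import Cfsg.Prelude.Def_Blocks
import Cfsg.Agent.Helper5.ConjAct
import Cfsg.Agent.Helper24.GlaubSolv
import Cfsg.Agent.Helper24.OddIndexReal
import Cfsg.Agent.Helper24.SmallDegree
import Cfsg.Agent.Helper24.Linear
import Cfsg.Agent.Helper24.ColumnOrth

/-!
# Kernels of the irreducible characters of `p'`-degree: general lemmas (part A)

* a normal subgroup meeting `C_G(P)` trivially has order `≡ 1 mod p`;
* the `P`-invariant irreducible characters of a normal `p'`-subgroup `M`: only the trivial one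
  when `C_M(P) = 1`, a nontrivial one otherwise (Glauberman count);
* an irreducible character of `p'`-degree has a `P`-invariant constituent on a normal subgroup.
-/

set_option autoImplicit false
set_option linter.style.haveILetI false

namespace Cfsg.Agent.Helper29.PPK

open Cfsg Cfsg.Agent.Helper24
open scoped commutatorElement

universe u

section Basic

variable {G : Type u} [Group G] [Finite G] {p : ℕ} [hp : Fact p.Prime]

/-- A normal subgroup meeting `C_G(P)` trivially, `P` a `p`-subgroup, has order `≡ 1 mod p`. -/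
theorem card_modEq_one_of_inf_centralizer (P N : Subgroup G) (hP : IsPGroup p P) [hN : N.Normal]
    (h : N ⊓ Subgroup.centralizer (P : Set G) = ⊥) : Nat.card N ≡ 1 [MOD p] := by
  have hPN : P ≤ Subgroup.normalizer (N : Set G) := by
    rw [Subgroup.normalizer_eq_top]; exact le_top
  let _ := Helper5.conjActOn P N hPN
  have key := hP.card_modEq_card_fixedPoints N
  have hfp : MulAction.fixedPoints P N = {1} := by
    ext k
    rw [MulAction.mem_fixedPoints, Set.mem_singleton_iff]
    constructor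
    · intro hk
      have hmem : (k : G) ∈ N ⊓ Subgroup.centralizer (P : Set G) := by
        refine Subgroup.mem_inf.mpr ⟨k.2, ?_⟩
        rw [Subgroup.mem_centralizer_iff]
        intro u hu
        have h1 := hk ⟨u, hu⟩
        have h2 : u * (k : G) * u⁻¹ = k := congrArg Subtype.val h1
        calc u * (k : G) = u * k * u⁻¹ * u := by group
          _ = k * u := by rw [h2]
      rw [h, Subgroup.mem_bot] at hmem
      exact Subtype.ext hmem
    · rintro rfl u
      apply Subtype.ext
      show (u : G) * ((1 : N) : G) * (u : G)⁻¹ = ((1 : N) : G)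
      simp
  rw [hfp] at key
  simpa using key

theorem coprime_card_of_inf_centralizer (P N : Subgroup G) (hP : IsPGroup p P) [hN : N.Normal]
    (h : N ⊓ Subgroup.centralizer (P : Set G) = ⊥) : (Nat.card N).Coprime p := by
  have h1 := card_modEq_one_of_inf_centralizer P N hP h
  rw [Nat.coprime_comm, Nat.Prime.coprime_iff_not_dvd hp.out]
  intro hd
  have h2 : Nat.card N ≡ 0 [MOD p] := (Nat.modEq_zero_iff_dvd).mpr hd
  have h3 : 1 ≡ 0 [MOD p] := h1.symm.trans h2
  have h4 : p ∣ 1 := (Nat.modEq_zero_iff_dvd).mp h3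
  exact hp.out.one_lt.ne' (Nat.dvd_one.mp h4)

end Basic

section Invariant

variable {G : Type u} [Group G] [Finite G] {p : ℕ} [hp : Fact p.Prime]

theorem isSolvable_of_isPGroup (P : Subgroup G) (hP : IsPGroup p P) : Group.IsSolvable P := by
  haveI := hP.isNilpotent
  exact IsNilpotent.to_isSolvable

omit [Finite G] in
theorem invAt_trivIrr (M : Subgroup G) [Finite M] (s : G) :
    InvAt M ((trivIrr M : IrrCharacter M) : M → ℂ) s := by
  intro g g' _
  rfl

/-- Glauberman count for a `p`-group acting on a normal `p'`-subgroup. -/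
theorem card_invariant_irr (M P : Subgroup G) [hM : M.Normal] (hP : IsPGroup p P)
    (hcop : (Nat.card M).Coprime p) :
    Nat.card {χ : IrrCharacter M // ∀ s ∈ P, InvAt M (χ : M → ℂ) s} =
      Nat.card (ConjClasses ↥(M ⊓ Subgroup.centralizer (P : Set G))) := by
  have hPN : P ≤ Subgroup.normalizer (M : Set G) := by
    rw [Subgroup.normalizer_eq_top]; exact le_top
  have hcop' : (Nat.card M).Coprime (Nat.card P) := by
    obtain ⟨k, hk⟩ := IsPGroup.iff_card.mp hP
    rw [hk]; exact Nat.Coprime.pow_right k hcop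
  rw [card_invariant_irr_eq_card_irr_fixed M P hPN hcop' (isSolvable_of_isPGroup P hP),
    card_irr_eq_card_conjClasses]

/-- If `C_M(P) = 1` the only `P`-invariant irreducible character of `M` is the trivial one. -/
theorem invariant_irr_eq_triv (M P : Subgroup G) [hM : M.Normal] (hP : IsPGroup p P)
    (hcop : (Nat.card M).Coprime p) (h : M ⊓ Subgroup.centralizer (P : Set G) = ⊥)
    (θ : IrrCharacter M) (hθ : ∀ s ∈ P, InvAt M (θ : M → ℂ) s) : θ = trivIrr M := by
  have hc := card_invariant_irr M P hP hcop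
  have hsub : Subsingleton ↥(M ⊓ Subgroup.centralizer (P : Set G)) := by
    have hbot : ∀ y : G, y ∈ M ⊓ Subgroup.centralizer (P : Set G) → y = 1 := by
      intro y hy
      rw [h, Subgroup.mem_bot] at hy
      exact hy
    refine ⟨fun a b => Subtype.ext ?_⟩
    rw [hbot a a.2, hbot b b.2]
  have h1 : Nat.card (ConjClasses ↥(M ⊓ Subgroup.centralizer (P : Set G))) = 1 := by
    rw [Nat.card_eq_one_iff_unique]
    exact ⟨ConjClasses.mk_surjective.subsingleton, ⟨ConjClasses.mk 1⟩⟩
  rw [h1, Nat.card_eq_one_iff_unique] at hc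
  haveI := hc.1
  have := Subsingleton.elim
    (⟨θ, hθ⟩ : {χ : IrrCharacter M // ∀ s ∈ P, InvAt M (χ : M → ℂ) s})
    ⟨trivIrr M, fun s _ => invAt_trivIrr M s⟩
  exact congrArg Subtype.val this

/-- If `C_M(P) ≠ 1` there is a nontrivial `P`-invariant irreducible character of `M`. -/
theorem exists_invariant_irr_ne_triv (M P : Subgroup G) [hM : M.Normal] (hP : IsPGroup p P)
    (hcop : (Nat.card M).Coprime p) (h : M ⊓ Subgroup.centralizer (P : Set G) ≠ ⊥) :
    ∃ θ : IrrCharacter M, (∀ s ∈ P, InvAt M (θ : M → ℂ) s) ∧ θ ≠ trivIrr M := by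
  have hc := card_invariant_irr M P hP hcop
  obtain ⟨x, hx1⟩ := (Subgroup.ne_bot_iff_exists_ne_one).mp h
  have h2 : 1 < Nat.card (ConjClasses ↥(M ⊓ Subgroup.centralizer (P : Set G))) := by
    rw [Finite.one_lt_card_iff_nontrivial]
    refine ⟨⟨ConjClasses.mk 1, ConjClasses.mk x, ?_⟩⟩
    intro h3
    rw [ConjClasses.mk_eq_mk_iff_isConj, isConj_one_right] at h3
    exact hx1 h3
  rw [← hc, Finite.one_lt_card_iff_nontrivial] at h2
  haveI := h2
  obtain ⟨θ, hθ⟩ := exists_ne
    (⟨trivIrr M, fun s _ => invAt_trivIrr M s⟩ :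
      {χ : IrrCharacter M // ∀ s ∈ P, InvAt M (χ : M → ℂ) s})
  exact ⟨θ.1, θ.2, fun h4 => hθ (Subtype.ext h4)⟩

end Invariant

section CliffordFix

variable {G : Type u} [Group G] [Fintype G] {p : ℕ} [hp : Fact p.Prime]

omit [Fintype G] in
theorem smul_val_eq_conjFun (N : Subgroup G) [hN : N.Normal] (θ : IrrCharacter N) (g : G) :
    (((irrConjAction N).smul g θ : IrrCharacter N) : N → ℂ) = Helper24.conjFun N (θ : N → ℂ) g⁻¹ := by
  funext k
  show (θ : N → ℂ) (MulAut.conjNormal g⁻¹ k) = _
  rw [conjFun_apply]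
  congr 1

/-- The number of conjugates of a constituent `θ` of `χ_N` divides `χ(1)`. -/
theorem card_orbit_dvd_irrDeg (N : Subgroup G) [hN : N.Normal] [Fintype N] (χ : IrrCharacter G)
    (θ : IrrCharacter N)
    (hcon : classInner (fun n : N => (χ : G → ℂ) n) (θ : N → ℂ) ≠ 0) :
    letI := irrConjAction (G := G) N
    Nat.card (MulAction.orbit G θ) ∣ irrDeg χ := by
  classical
  letI := irrConjAction (G := G) N
  haveI : Finite G := Finite.of_fintype G
  haveI : Fintype (IrrCharacter N) := Fintype.ofFinite _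
  have hcl := clifford_finset N χ.2 θ.2 hcon
  obtain ⟨e, he⟩ := IsCharacter.classInner_irr_nat
    (Helper8.isCharacter_restrict N (IsIrrCharacter.isCharacter χ.2)) θ
  rw [he] at hcl
  have h1 := congrFun hcl 1
  simp only [OneMemClass.coe_one, Pi.smul_apply, Finset.sum_apply, smul_eq_mul] at h1
  have hval : ∀ ψ ∈ Finset.univ.image (Helper24.conjFun N (θ : N → ℂ)), ψ 1 = (irrDeg θ : ℂ) := by
    intro ψ hψ
    obtain ⟨g, -, rfl⟩ := Finset.mem_image.mp hψ
    rw [conjFun_apply, ← irrDeg_spec]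
    have e1 : (⟨g * ((1 : N) : G) * g⁻¹, hN.conj_mem _ (1 : N).2 g⟩ : N) = 1 := by
      apply Subtype.ext
      simp
    rw [e1]
  rw [Finset.sum_congr rfl hval, Finset.sum_const, nsmul_eq_mul, irrDeg_spec] at h1
  have h2 : irrDeg χ = e *
      ((Finset.univ.image (Helper24.conjFun N (θ : N → ℂ))).card * irrDeg θ) := by
    exact_mod_cast h1
  have h3 : Nat.card (MulAction.orbit G θ) =
      (Finset.univ.image (Helper24.conjFun N (θ : N → ℂ))).card := by
    have himg : (fun η : IrrCharacter N => (η : N → ℂ)) '' (MulAction.orbit G θ) =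
        ((Finset.univ.image (Helper24.conjFun N (θ : N → ℂ)) : Finset (N → ℂ)) : Set (N → ℂ)) := by
      ext f
      simp only [Set.mem_image, Finset.coe_image, Finset.coe_univ, Set.image_univ, Set.mem_range]
      constructor
      · rintro ⟨η, ⟨g, rfl⟩, rfl⟩
        exact ⟨g⁻¹, (smul_val_eq_conjFun N θ g).symm⟩
      · rintro ⟨g, rfl⟩
        refine ⟨g⁻¹ • θ, ⟨g⁻¹, rfl⟩, ?_⟩
        have := smul_val_eq_conjFun N θ g⁻¹
        rw [inv_inv] at this
        exact this
    rw [← Nat.card_image_of_injective Subtype.val_injective (MulAction.orbit G θ), himg,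
      Nat.card_coe_set_eq, Set.ncard_coe_finset]
  rw [h3, h2]
  exact ⟨e * irrDeg θ, by ring⟩

/-- An irreducible character of degree prime to `p` has a `P`-invariant constituent on every
normal subgroup. -/
theorem exists_invariant_constituent (P : Subgroup G) (hP : IsPGroup p P) (N : Subgroup G)
    [hN : N.Normal] [Fintype N] (χ : IrrCharacter G) (hχ : ¬ p ∣ irrDeg χ) :
    ∃ η : IrrCharacter N, classInner (fun n : N => (χ : G → ℂ) n) (η : N → ℂ) ≠ 0 ∧
      ∀ s ∈ P, InvAt N (η : N → ℂ) s := by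
  classical
  letI := irrConjAction (G := G) N
  obtain ⟨θ, hθ⟩ := exists_constituent_restrict N χ
  have hdvd := card_orbit_dvd_irrDeg N χ θ hθ
  have hnd : ¬ p ∣ Nat.card (MulAction.orbit G θ) := fun h => hχ (h.trans hdvd)
  obtain ⟨⟨η, hη⟩, hfix⟩ := hP.nonempty_fixed_point_of_prime_not_dvd_card
    (MulAction.orbit G θ) hnd
  refine ⟨η, ?_, ?_⟩
  · obtain ⟨g, rfl⟩ := hη
    have hcf : IsClassFunction G (χ : G → ℂ) := isClassFunction_irr χ
    have h1 := classInner_restrict_conjFun N hcf (θ : N → ℂ) g⁻¹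
    rw [← smul_val_eq_conjFun N θ g] at h1
    show classInner (fun n : N => (χ : G → ℂ) n)
      (((irrConjAction N).smul g θ : IrrCharacter N) : N → ℂ) ≠ 0
    rw [h1]
    exact hθ
  · intro s hs g g' hgg'
    have h1 := hfix ⟨s, hs⟩
    have h2 : (irrConjAction N).smul s η = η := congrArg Subtype.val h1
    have h3 := congrFun (smul_val_eq_conjFun N η s) g'
    rw [h2, conjFun_apply] at h3
    rw [h3]
    have e1 : (⟨s⁻¹ * (g' : G) * s⁻¹⁻¹, hN.conj_mem _ g'.2 s⁻¹⟩ : N) = g := by
      apply Subtype.ext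
      show s⁻¹ * (g' : G) * s⁻¹⁻¹ = g
      rw [hgg']
      group
    rw [e1]

end CliffordFix

section Kernel

variable {G : Type u} [Group G] [Fintype G] {p : ℕ} [hp : Fact p.Prime]

/-- A normal subgroup meeting `C_G(P)` trivially lies in the kernel of every irreducible
character of degree prime to `p`. -/
theorem apply_eq_of_inf_centralizer (P : Subgroup G) (hP : IsPGroup p P) (N : Subgroup G)
    [hN : N.Normal] (h : N ⊓ Subgroup.centralizer (P : Set G) = ⊥) (χ : IrrCharacter G)
    (hχ : ¬ p ∣ irrDeg χ) (n : G) (hn : n ∈ N) : (χ : G → ℂ) n = (χ : G → ℂ) 1 := by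
  classical
  haveI : Finite G := Finite.of_fintype G
  haveI : Fintype N := Fintype.ofFinite N
  have hcop := coprime_card_of_inf_centralizer P N hP h
  obtain ⟨η, hη, hinv⟩ := exists_invariant_constituent P hP N χ hχ
  have := invariant_irr_eq_triv N P hP hcop h η hinv
  subst this
  exact Helper5.CC.eq_one_of_trivial_constituent N χ hη n hn

/-- A character of degree prime to `p` has an irreducible constituent of degree prime to `p`. -/
theorem exists_pprime_constituent {Φ : G → ℂ} (hΦ : IsCharacter G Φ) (d : ℕ) (hd : Φ 1 = d)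
    (hpd : ¬ p ∣ d) :
    ∃ χ : IrrCharacter G, classInner Φ (χ : G → ℂ) ≠ 0 ∧ ¬ p ∣ irrDeg χ := by
  classical
  haveI : Finite G := Finite.of_fintype G
  haveI : Fintype (IrrCharacter G) := Fintype.ofFinite _
  obtain ⟨a, ha⟩ := IsCharacter.exists_nat_coeff hΦ
  have h1 : d = ∑ ψ : IrrCharacter G, a ψ * irrDeg ψ := by
    have h2 := congrFun ha 1
    simp only [Finset.sum_apply, Pi.smul_apply, smul_eq_mul] at h2
    rw [hd] at h2
    simp_rw [irrDeg_spec] at h2
    exact_mod_cast h2
  by_contra hcon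
  push Not at hcon
  apply hpd
  rw [h1]
  apply Finset.dvd_sum
  intro ψ _
  by_cases h0 : a ψ = 0
  · rw [h0, zero_mul]; exact dvd_zero _
  · apply Dvd.dvd.mul_left
    apply hcon ψ
    rw [ha, classInner_sum_irr]
    exact_mod_cast h0

omit [Fintype G] in
theorem norm_irr_le [Finite G] (ψ : IrrCharacter G) (g : G) : ‖(ψ : G → ℂ) g‖ ≤ (irrDeg ψ : ℝ) := by
  obtain ⟨n, ρ, hρ, h⟩ := ψ.2
  have h1 : (ψ : G → ℂ) 1 = (Module.finrank ℂ (Fin n → ℂ) : ℂ) := by
    rw [← h, Representation.char_one]
  have h2 : irrDeg ψ = Module.finrank ℂ (Fin n → ℂ) := by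
    rw [irrDeg_spec] at h1
    exact_mod_cast h1
  rw [h2, ← h]
  exact norm_char_le ρ g

/-- The kernel of a character lies in the kernel of each of its irreducible constituents. -/
theorem apply_eq_of_constituent {Φ : G → ℂ} (hΦ : IsCharacter G Φ) (ψ : IrrCharacter G)
    (hψ : classInner Φ (ψ : G → ℂ) ≠ 0) (m : G) (hm : Φ m = Φ 1) :
    (ψ : G → ℂ) m = (ψ : G → ℂ) 1 := by
  classical
  haveI : Finite G := Finite.of_fintype G
  haveI : Fintype (IrrCharacter G) := Fintype.ofFinite _
  obtain ⟨a, ha⟩ := IsCharacter.exists_nat_coeff hΦ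
  have haψ : a ψ ≠ 0 := by
    intro h0
    apply hψ
    rw [ha, classInner_sum_irr, h0]
    simp
  have h1 : ∑ φ : IrrCharacter G, (a φ : ℝ) * ((irrDeg φ : ℝ) - ((φ : G → ℂ) m).re) = 0 := by
    have e1 := congrFun ha m
    have e2 := congrFun ha 1
    simp only [Finset.sum_apply, Pi.smul_apply, smul_eq_mul] at e1 e2
    rw [hm, e2] at e1
    simp_rw [irrDeg_spec] at e1
    have e3 := congrArg Complex.re e1
    simp only [Complex.re_sum, Complex.mul_re, Complex.natCast_re, Complex.natCast_im,
      zero_mul, sub_zero] at e3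
    simp_rw [mul_sub]
    rw [Finset.sum_sub_distrib, e3, sub_self]
  have hnn : ∀ φ ∈ (Finset.univ : Finset (IrrCharacter G)),
      0 ≤ (a φ : ℝ) * ((irrDeg φ : ℝ) - ((φ : G → ℂ) m).re) := by
    intro φ _
    apply mul_nonneg (Nat.cast_nonneg _)
    have := norm_irr_le φ m
    have h2 := Complex.re_le_norm ((φ : G → ℂ) m)
    linarith
  have h2 := (Finset.sum_eq_zero_iff_of_nonneg hnn).mp h1 ψ (Finset.mem_univ _)
  have h3 : ((ψ : G → ℂ) m).re = (irrDeg ψ : ℝ) := by
    rcases mul_eq_zero.mp h2 with h | h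
    · exfalso; apply haψ; exact_mod_cast h
    · linarith
  have h4 := norm_irr_le ψ m
  rw [irrDeg_spec]
  have h5 : ((ψ : G → ℂ) m).im = 0 := by
    have h6 : ‖(ψ : G → ℂ) m‖ ^ 2 = ((ψ : G → ℂ) m).re ^ 2 + ((ψ : G → ℂ) m).im ^ 2 := by
      rw [Complex.sq_norm, Complex.normSq_apply]; ring
    have h7 : ‖(ψ : G → ℂ) m‖ ^ 2 ≤ (irrDeg ψ : ℝ) ^ 2 :=
      pow_le_pow_left₀ (norm_nonneg _) h4 2
    rw [h6, h3] at h7
    have h8 : ((ψ : G → ℂ) m).im ^ 2 ≤ 0 := by linarith
    have h9 : ((ψ : G → ℂ) m).im ^ 2 = 0 := le_antisymm h8 (sq_nonneg _)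
    exact pow_eq_zero_iff (two_ne_zero) |>.mp h9
  apply Complex.ext
  · rw [h3]; simp
  · rw [h5]; simp

end Kernel

section PGroupRep

variable {X : Type u} [Group X] [Finite X] {p : ℕ} [hp : Fact p.Prime]

/-- An irreducible character of a `p`-group of degree prime to `p` is linear. -/
theorem irrDeg_eq_one_of_isPGroup (hX : IsPGroup p X) (ψ : IrrCharacter X)
    (h : ¬ p ∣ irrDeg ψ) : irrDeg ψ = 1 := by
  obtain ⟨k, hk⟩ := IsPGroup.iff_card.mp hX
  have h1 := irrDeg_dvd_card ψ
  rw [hk] at h1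
  obtain ⟨j, -, hj⟩ := (Nat.dvd_prime_pow hp.out).mp h1
  rcases j with _ | j
  · simpa using hj
  · exfalso
    apply h
    rw [hj, pow_succ]
    exact dvd_mul_left p _

/-- A representation of a `p`-group of degree prime to `p` has a nonzero vector fixed by all
commutators. -/
theorem exists_commutator_invariant (hX : IsPGroup p X) {V : Type*} [AddCommGroup V]
    [Module ℂ V] [FiniteDimensional ℂ V] (σ : Representation ℂ X V)
    (hdim : ¬ p ∣ Module.finrank ℂ V) :
    ∃ v : V, v ≠ 0 ∧ ∀ x ∈ commutator X, σ x v = v := by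
  classical
  haveI : Fintype X := Fintype.ofFinite X
  haveI : Fintype (IrrCharacter X) := Fintype.ofFinite _
  obtain ⟨H, hH⟩ : ∃ H : Subgroup X, H = commutator X := ⟨_, rfl⟩
  haveI : Fintype H := Fintype.ofFinite H
  haveI : Fintype (IrrCharacter H) := Fintype.ofFinite _
  have hΦ : IsCharacter X σ.character := isCharacter_character σ
  obtain ⟨ψ, hψ, hψd⟩ := exists_pprime_constituent (p := p) hΦ (Module.finrank ℂ V)
    (Representation.char_one σ) hdim
  have hψ1 : irrDeg ψ = 1 := irrDeg_eq_one_of_isPGroup hX ψ hψd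
  have hψ1' : (ψ : X → ℂ) 1 = 1 := by rw [irrDeg_spec, hψ1]; simp
  -- `ψ` is trivial on `H`
  have hψH : ∀ x ∈ H, (ψ : X → ℂ) x = 1 := by
    intro x hx
    rw [hH, commutator_def, Subgroup.commutator_def] at hx
    refine Subgroup.closure_induction (p := fun x _ => (ψ : X → ℂ) x = 1) ?_ ?_ ?_ ?_ hx
    · rintro y ⟨a, -, b, -, rfl⟩
      exact irr_commutator_eq_one ψ hψ1' a b
    · exact hψ1'
    · intro y z _ _ hy hz
      rw [Helper5.linChar_mul (IsIrrCharacter.isCharacter ψ.2) hψ1', hy, hz, one_mul]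
    · intro y _ hy
      rw [Helper5.linChar_inv (IsIrrCharacter.isCharacter ψ.2) hψ1', hy, inv_one]
  obtain ⟨a, ha⟩ := IsCharacter.exists_nat_coeff hΦ
  have hcoef : ∀ φ : IrrCharacter X, ∃ n : ℕ,
      classInner (fun x : H => (φ : X → ℂ) x) (fun _ : H => (1 : ℂ)) = n := by
    intro φ
    exact IsCharacter.classInner_irr_nat
      (Helper8.isCharacter_restrict H (IsIrrCharacter.isCharacter φ.2)) (trivIrr H)
  choose n hn using hcoef
  have hnψ : n ψ = 1 := by
    have h1 : (fun x : H => (ψ : X → ℂ) x) = ((trivIrr H : IrrCharacter H) : H → ℂ) := by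
      funext x
      exact hψH x x.2
    have h2 := hn ψ
    rw [h1] at h2
    have h3 : classInner ((trivIrr H : IrrCharacter H) : H → ℂ) (fun _ : H => (1 : ℂ)) = 1 :=
      classInner_irr_self (trivIrr H)
    rw [h3] at h2
    exact_mod_cast h2.symm
  have haψ : a ψ ≠ 0 := by
    intro h0
    apply hψ
    rw [ha, classInner_sum_irr, h0]
    simp
  have hsum : classInner (fun x : H => σ.character x) (fun _ : H => (1 : ℂ)) =
      ((∑ φ : IrrCharacter X, a φ * n φ : ℕ) : ℂ) := by
    have : (fun x : H => σ.character x) =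
        ∑ φ : IrrCharacter X, (a φ : ℂ) • (fun x : H => (φ : X → ℂ) x) := by
      funext x
      rw [ha]
      simp [Finset.sum_apply]
    rw [this, classInner_sum_left]
    push_cast
    refine Finset.sum_congr rfl ?_
    intro φ _
    rw [classInner_smul_left, hn]
  rw [classInner_restrict_one_eq_finrank_invariants σ H] at hsum
  have hpos : 0 < ∑ φ : IrrCharacter X, a φ * n φ := by
    apply Finset.sum_pos'
    · intro φ _; exact Nat.zero_le _
    · exact ⟨ψ, Finset.mem_univ _, by rw [hnψ, mul_one]; exact Nat.pos_of_ne_zero haψ⟩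
  have hfr : 0 < Module.finrank ℂ (Representation.invariants (σ.comp H.subtype)) := by
    have : Module.finrank ℂ (Representation.invariants (σ.comp H.subtype)) =
        ∑ φ : IrrCharacter X, a φ * n φ := by exact_mod_cast hsum
    rw [this]; exact hpos
  obtain ⟨v, hv⟩ := (Module.finrank_pos_iff_exists_ne_zero).mp hfr
  refine ⟨(v : V), fun h => hv (Subtype.ext h), ?_⟩
  intro x hx
  have h1 := v.2
  rw [Representation.mem_invariants] at h1
  exact h1 ⟨x, hH ▸ hx⟩

end PGroupRep

section CoreLe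

variable {G : Type u} [Group G] [Fintype G] {p : ℕ} [hp : Fact p.Prime]

/-- **First inclusion.** The core of `N P'` lies in the kernel of every irreducible character of
degree prime to `p`, when `C_N(P) = 1`. -/
theorem apply_eq_of_mem_core (P : Subgroup G) (hP : IsPGroup p P) (N : Subgroup G) [hN : N.Normal]
    (h : N ⊓ Subgroup.centralizer (P : Set G) = ⊥) (χ : IrrCharacter G) (hχ : ¬ p ∣ irrDeg χ)
    (g : G) (hg : g ∈ (N ⊔ ⁅P, P⁆).normalCore) : (χ : G → ℂ) g = (χ : G → ℂ) 1 := by
  classical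
  haveI : Finite G := Finite.of_fintype G
  obtain ⟨H, hH⟩ : ∃ H : Subgroup G, H = N ⊔ ⁅P, P⁆ := ⟨_, rfl⟩
  haveI : Fintype H := Fintype.ofFinite H
  rw [← hH] at hg
  have hker := apply_eq_of_inf_centralizer P hP N h χ hχ
  obtain ⟨m, ρ, hρ, hχρ⟩ := χ.2
  have hdeg : (χ : G → ℂ) 1 = (Module.finrank ℂ (Fin m → ℂ) : ℂ) := by
    rw [← hχρ, Representation.char_one]
  have hfr : irrDeg χ = Module.finrank ℂ (Fin m → ℂ) := by
    rw [irrDeg_spec] at hdeg
    exact_mod_cast hdeg
  have hNid : ∀ n ∈ N, ρ n = LinearMap.id := by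
    intro n hn
    rw [← char_eq_finrank_iff, hχρ, hker n hn, hdeg]
  -- a nonzero vector fixed by commutators of `P`
  obtain ⟨v, hv0, hv⟩ := exists_commutator_invariant (p := p) (X := P) hP (ρ.comp P.subtype)
    (by rw [← hfr]; exact hχ)
  -- the stabilizer of `v`
  let S : Subgroup G :=
    { carrier := {x | ρ x v = v}
      mul_mem' := by
        intro a b ha hb
        show ρ (a * b) v = v
        rw [map_mul, Module.End.mul_apply, hb, ha]
      one_mem' := by
        show ρ 1 v = v
        rw [map_one, Module.End.one_apply]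
      inv_mem' := by
        intro a ha
        show ρ a⁻¹ v = v
        have ha' : ρ a v = v := ha
        calc ρ a⁻¹ v = ρ a⁻¹ (ρ a v) := by rw [ha']
          _ = (ρ a⁻¹ * ρ a) v := rfl
          _ = v := by rw [← map_mul, inv_mul_cancel, map_one, Module.End.one_apply] }
  have hNS : N ≤ S := by
    intro n hn
    show ρ n v = v
    rw [hNid n hn]; rfl
  have hPS : ⁅P, P⁆ ≤ S := by
    rw [Subgroup.commutator_le]
    intro a ha b hb
    show ρ ⁅a, b⁆ v = v
    have hmem : ⁅(⟨a, ha⟩ : P), (⟨b, hb⟩ : P)⁆ ∈ commutator P :=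
      Subgroup.commutator_mem_commutator (Subgroup.mem_top _) (Subgroup.mem_top _)
    exact hv _ hmem
  have hHS : H ≤ S := by
    rw [hH]; exact sup_le hNS hPS
  have hinv : v ∈ Representation.invariants (ρ.comp H.subtype) := by
    rw [mem_invariants_comp_subtype]
    intro x hx
    exact hHS hx
  have hfr2 : 0 < Module.finrank ℂ (Representation.invariants (ρ.comp H.subtype)) := by
    rw [Module.finrank_pos_iff_exists_ne_zero]
    exact ⟨⟨v, hinv⟩, fun h0 => hv0 (congrArg Subtype.val h0)⟩
  have h1 : classInner (fun x : H => (χ : G → ℂ) x) (fun _ : H => (1 : ℂ)) ≠ 0 := by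
    rw [← hχρ, classInner_restrict_one_eq_finrank_invariants ρ H]
    exact_mod_cast hfr2.ne'
  refine core_le_ker_of_constituent H χ ?_ g hg
  rw [Helper8.frobenius_reciprocity H _ _ (isClassFunction_irr χ), ← classInner_conj_symm]
  intro h0
  apply h1
  have := congrArg (starRingEnd ℂ) h0
  simpa using this

end CoreLe

end Cfsg.Agent.Helper29.PPK
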