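import Mathlib
import Cfsg.Agent.Helper29.PPrimeKerA
import Cfsg.Agent.Helper24.McKayCoprime
import Cfsg.Agent.Helper24.Induced
import Cfsg.Agent.Helper5.IndFun
import Cfsg.Agent.Helper8.Ind
import Cfsg.Agent.Helper1.PGroup
import Cfsg.Agent.Helper17.Basic
import Cfsg.Agent.Helper29.KazarinB
import Cfsg.Agent.S0081

/-!
# Kernels of the irreducible characters of `p'`-degree: part B

* the common kernel of the `p'`-degree irreducible characters meets `P` inside `P'`;
* a normal `p'`-subgroup inside that common kernel meets `C_G(P)` trivially.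
-/

set_option autoImplicit false
set_option linter.style.haveILetI false

namespace Cfsg.Agent.Helper29.PPK

open Cfsg Cfsg.Agent.Helper24
open scoped commutatorElement

universe u

section StepA

variable {G : Type u} [Group G] [Fintype G] {p : ℕ} [hp : Fact p.Prime]

/-- An element of `Q` (a subgroup of index prime to `p`) lying in the kernel of every irreducible
character of degree prime to `p` lies in `Q'`. -/
theorem mem_commutator_of_mem_kernels (Q : Subgroup G) (hQi : ¬ p ∣ Q.index) (x : G) (hxP : x ∈ Q)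
    (hx : ∀ χ : IrrCharacter G, ¬ p ∣ irrDeg χ → (χ : G → ℂ) x = (χ : G → ℂ) 1) :
    x ∈ ⁅Q, Q⁆ := by
  classical
  haveI : Finite G := Finite.of_fintype G
  haveI : Fintype Q := Fintype.ofFinite _
  by_contra hxn
  have hx' : (⟨x, hxP⟩ : Q) ∉ commutator Q := by
    intro h
    apply hxn
    rw [← Subgroup.map_subtype_commutator]
    exact ⟨⟨x, hxP⟩, h, rfl⟩
  have hne : Abelianization.of (⟨x, hxP⟩ : Q) ≠ 1 := by
    intro h
    apply hx'
    rw [← Abelianization.ker_of, MonoidHom.mem_ker]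
    exact h
  obtain ⟨φ, hφ⟩ := CommGroup.exists_apply_ne_one_of_hasEnoughRootsOfUnity
    (Abelianization Q) ℂ hne
  let lam : Q →* ℂ := (Units.coeHom ℂ).comp (φ.comp Abelianization.of)
  have hlamx : lam ⟨x, hxP⟩ ≠ 1 := by
    intro h
    apply hφ
    apply Units.ext
    exact h
  have hlamirr : IsIrrCharacter Q (fun y => lam y) := isIrrCharacter_of_monoidHom lam
  have hΦ : IsCharacter G (indFun Q (fun y => lam y)) :=
    isCharacter_indFun Q (IsIrrCharacter.isCharacter hlamirr)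
  have hΦ1 : indFun Q (fun y => lam y) 1 = (Q.index : ℂ) := by
    rw [Helper5.indFun_apply_one, map_one, mul_one]
  obtain ⟨χ, hχ, hχd⟩ := exists_pprime_constituent (p := p) hΦ _ hΦ1 hQi
  rw [Helper8.frobenius_reciprocity Q _ _ (isClassFunction_irr χ)] at hχ
  have hχ' : classInner (fun y : Q => (χ : G → ℂ) y)
      ((⟨fun y => lam y, hlamirr⟩ : IrrCharacter Q) : Q → ℂ) ≠ 0 := by
    intro h0
    apply hχ
    rw [← classInner_conj_symm]
    show (starRingEnd ℂ) (classInner (fun y : Q => (χ : G → ℂ) y) (fun y => lam y)) = 0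
    rw [h0, map_zero]
  have hres : IsCharacter Q (fun y : Q => (χ : G → ℂ) y) :=
    Helper8.isCharacter_restrict Q (IsIrrCharacter.isCharacter χ.2)
  have := apply_eq_of_constituent hres ⟨fun y => lam y, hlamirr⟩ hχ' ⟨x, hxP⟩ (hx χ hχd)
  apply hlamx
  show lam ⟨x, hxP⟩ = 1
  rw [show lam ⟨x, hxP⟩ = lam 1 from this, map_one]

end StepA

section LemmaC

variable {X : Type u} [Group X] [Finite X] {p : ℕ} [hp : Fact p.Prime]

/-- `X = M P` with `M` a normal `p'`-subgroup, `P` a `p`-subgroup and `C_M(P) ≠ 1`: some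
irreducible character of degree prime to `p` does not have `M` in its kernel. -/
theorem exists_pprime_irr_nontrivial (M : Subgroup X) [hM : M.Normal]
    (hcop : (Nat.card M).Coprime p) (P : Subgroup X) (hP : IsPGroup p P) (hMP : M ⊔ P = ⊤)
    (hC : M ⊓ Subgroup.centralizer (P : Set X) ≠ ⊥) :
    ∃ ψ : IrrCharacter X, ¬ p ∣ irrDeg ψ ∧ ∃ m ∈ M, (ψ : X → ℂ) m ≠ (ψ : X → ℂ) 1 := by
  classical
  haveI : Fintype X := Fintype.ofFinite X
  haveI : Fintype M := Fintype.ofFinite M
  obtain ⟨θ, hθinv, hθne⟩ := exists_invariant_irr_ne_triv M P hP hcop hC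
  -- `θ` is `X`-invariant
  have hinv : ∀ (g : X) (n : M),
      (θ : M → ℂ) ⟨g * n * g⁻¹, hM.conj_mem (n : X) n.2 g⟩ = (θ : M → ℂ) n := by
    intro g n
    obtain ⟨k, hk, y, hy, rfl⟩ := exists_mul_of_sup_eq_top M P hMP g
    have h1 := hθinv y hy n ⟨y * n * y⁻¹, hM.conj_mem (n : X) n.2 y⟩ rfl
    rw [← h1]
    have h2 := isClassFunction_irr θ ⟨y * n * y⁻¹, hM.conj_mem (n : X) n.2 y⟩ ⟨k, hk⟩
    rw [← h2]
    have e1 : (⟨k * y * (n : X) * (k * y)⁻¹, hM.conj_mem (n : X) n.2 (k * y)⟩ : M) =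
        ⟨k, hk⟩ * ⟨y * n * y⁻¹, hM.conj_mem (n : X) n.2 y⟩ * ⟨k, hk⟩⁻¹ := by
      apply Subtype.ext
      show k * y * (n : X) * (k * y)⁻¹ = k * (y * n * y⁻¹) * k⁻¹
      group
    rw [e1]
  have hidx : M.index ∣ Nat.card P := index_dvd_card_of_sup_eq_top M P hMP
  have hcopM : (Nat.card M).Coprime M.index := by
    obtain ⟨k, hk⟩ := IsPGroup.iff_card.mp hP
    rw [hk] at hidx
    exact Nat.Coprime.coprime_dvd_right hidx (Nat.Coprime.pow_right k hcop)
  have hc : Nat.Coprime M.index (detOrder (θ : M → ℂ) * irrDeg θ) := by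
    apply Nat.Coprime.symm
    apply Nat.Coprime.mul_left
    · exact Nat.Coprime.coprime_dvd_left (detOrder_dvd_card θ.2) hcopM
    · exact Nat.Coprime.coprime_dvd_left (irrDeg_dvd_card θ) hcopM
  obtain ⟨χ, ⟨hχ, hχM, -⟩, -⟩ := coprime_unique_extension M (θ : M → ℂ) θ.2 hinv
    (irrDeg θ) (irrDeg_spec θ) hc
  have hdeg : irrDeg (⟨χ, hχ⟩ : IrrCharacter X) = irrDeg θ := by
    have h1 := irrDeg_spec (⟨χ, hχ⟩ : IrrCharacter X)
    have h2 := hχM 1
    rw [irrDeg_spec θ] at h2
    have h3 : (irrDeg (⟨χ, hχ⟩ : IrrCharacter X) : ℂ) = (irrDeg θ : ℂ) := by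
      rw [← h1, ← h2]; rfl
    exact_mod_cast h3
  refine ⟨⟨χ, hχ⟩, ?_, ?_⟩
  · rw [hdeg]
    intro hd
    have h1 : p ∣ Nat.card M := hd.trans (irrDeg_dvd_card θ)
    have h2 : p ∣ Nat.gcd (Nat.card M) p := Nat.dvd_gcd h1 dvd_rfl
    rw [Nat.Coprime.gcd_eq_one hcop] at h2
    exact hp.out.one_lt.ne' (Nat.dvd_one.mp h2)
  · by_contra hcon
    push Not at hcon
    apply hθne
    by_contra hne
    have h0 := classInner_irr_ne hne
    have hconst : ∀ n : M, (θ : M → ℂ) n = (irrDeg θ : ℂ) := by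
      intro n
      rw [← hχM n, ← irrDeg_spec θ, ← hχM 1]
      exact hcon n n.2
    unfold classInner at h0
    simp only [hconst, trivIrr_apply, map_one, mul_one, Finset.sum_const, Finset.card_univ,
      nsmul_eq_mul] at h0
    rw [← Nat.card_eq_fintype_card, ← mul_assoc, inv_mul_cancel₀ (by
      exact_mod_cast (Nat.card_pos (α := M)).ne'), one_mul] at h0
    have := irrDeg_pos θ
    have h5 : irrDeg θ = 0 := by exact_mod_cast h0
    omega

end LemmaC

section StepC

variable {G : Type u} [Group G] [Fintype G] {p : ℕ} [hp : Fact p.Prime]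

/-- A normal `p'`-subgroup contained in the kernel of every irreducible character of degree
prime to `p` meets `C_G(P)` trivially (`P` a `p`-subgroup of index prime to `p`). -/
theorem inf_centralizer_eq_bot_of_le_kernels (P : Subgroup G) (hP : IsPGroup p P)
    (hPi : ¬ p ∣ P.index) (M : Subgroup G) [hM : M.Normal] (hcop : (Nat.card M).Coprime p)
    (hker : ∀ χ : IrrCharacter G, ¬ p ∣ irrDeg χ → ∀ m ∈ M, (χ : G → ℂ) m = (χ : G → ℂ) 1) :
    M ⊓ Subgroup.centralizer (P : Set G) = ⊥ := by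
  classical
  haveI : Finite G := Finite.of_fintype G
  by_contra hC
  obtain ⟨H, hH⟩ : ∃ H : Subgroup G, H = M ⊔ P := ⟨_, rfl⟩
  have hMH : M ≤ H := hH ▸ le_sup_left
  have hPH : P ≤ H := hH ▸ le_sup_right
  haveI : Fintype H := Fintype.ofFinite H
  haveI hM'n : (M.subgroupOf H).Normal := Subgroup.normal_subgroupOf
  have hM'card : Nat.card (M.subgroupOf H) = Nat.card M :=
    Nat.card_congr (Subgroup.subgroupOfEquivOfLe hMH).toEquiv
  have hP' : IsPGroup p (P.subgroupOf H) := hP.comap_subtype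
  have hsup : M.subgroupOf H ⊔ P.subgroupOf H = ⊤ := by
    rw [← Subgroup.subgroupOf_sup hMH hPH, ← hH, Subgroup.subgroupOf_self]
  have hC' : M.subgroupOf H ⊓
      Subgroup.centralizer ((P.subgroupOf H : Subgroup H) : Set H) ≠ ⊥ := by
    obtain ⟨x, hx1⟩ := (Subgroup.ne_bot_iff_exists_ne_one).mp hC
    have hxM : (x : G) ∈ M := (Subgroup.mem_inf.mp x.2).1
    have hxC : (x : G) ∈ Subgroup.centralizer (P : Set G) := (Subgroup.mem_inf.mp x.2).2
    intro hbot
    have hmem : (⟨(x : G), hMH hxM⟩ : H) ∈ M.subgroupOf H ⊓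
        Subgroup.centralizer ((P.subgroupOf H : Subgroup H) : Set H) := by
      refine Subgroup.mem_inf.mpr ⟨Subgroup.mem_subgroupOf.mpr hxM, ?_⟩
      rw [Subgroup.mem_centralizer_iff]
      intro y hy
      apply Subtype.ext
      exact Subgroup.mem_centralizer_iff.mp hxC (y : G) (Subgroup.mem_subgroupOf.mp hy)
    rw [hbot, Subgroup.mem_bot] at hmem
    apply hx1
    apply Subtype.ext
    exact congrArg (fun z : H => (z : G)) hmem
  obtain ⟨ψ, hψd, m, hmM, hψm⟩ := exists_pprime_irr_nontrivial (M.subgroupOf H)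
    (by rw [hM'card]; exact hcop) (P.subgroupOf H) hP' hsup hC'
  have hΦ : IsCharacter G (indFun H (ψ : H → ℂ)) :=
    isCharacter_indFun H (IsIrrCharacter.isCharacter ψ.2)
  have hΦ1 : indFun H (ψ : H → ℂ) 1 = ((H.index * irrDeg ψ : ℕ) : ℂ) := by
    rw [Helper5.indFun_apply_one, irrDeg_spec]; push_cast; rfl
  have hHi : ¬ p ∣ H.index * irrDeg ψ := by
    intro hd
    rcases (Nat.Prime.dvd_mul hp.out).mp hd with h | h
    · exact hPi (h.trans (Subgroup.index_dvd_of_le hPH))
    · exact hψd h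
  obtain ⟨χ, hχ, hχd⟩ := exists_pprime_constituent (p := p) hΦ _ hΦ1 hHi
  rw [Helper8.frobenius_reciprocity H _ _ (isClassFunction_irr χ)] at hχ
  have hχ' : classInner (fun y : H => (χ : G → ℂ) y) (ψ : H → ℂ) ≠ 0 := by
    intro h0
    apply hχ
    rw [← classInner_conj_symm, h0, map_zero]
  have hres : IsCharacter H (fun y : H => (χ : G → ℂ) y) :=
    Helper8.isCharacter_restrict H (IsIrrCharacter.isCharacter χ.2)
  exact hψm (apply_eq_of_constituent hres ψ hχ' m
    (hker χ hχd (m : G) (Subgroup.mem_subgroupOf.mp hmM)))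

end StepC

section StepB

variable {G : Type u} [Group G] [Finite G] {p : ℕ} [hp : Fact p.Prime]

/-- A normal subgroup `K` meeting the Sylow `p`-subgroup `P` inside `P'` has a normal
`p`-complement `M`, which is normal in `G`, and `K = M (K ∩ P)`. -/
theorem exists_normal_pcomplement_image (P : Sylow p G) (K : Subgroup G) [hK : K.Normal]
    (h : K ⊓ (P : Subgroup G) ≤ ⁅(P : Subgroup G), (P : Subgroup G)⁆) :
    ∃ M : Subgroup G, M.Normal ∧ M ≤ K ∧ (Nat.card M).Coprime p ∧
      K ≤ M ⊔ (K ⊓ (P : Subgroup G)) := by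
  have hfr : K ⊓ (P : Subgroup G) ≤ (frattini P).map (P : Subgroup G).subtype := by
    refine h.trans ?_
    rw [← Subgroup.map_subtype_commutator]
    exact Subgroup.map_mono (Cfsg.Agent.Helper1.IsPGroup.commutator_le_frattini (p := p) P.2)
  obtain ⟨Q, M₀, hM₀n, hcompl⟩ := Cfsg.Agent.S0081.result P K hfr
  haveI := hM₀n
  have hcard : Nat.card M₀ * Nat.card Q = Nat.card K := hcompl.card_mul_card
  have hidxQ : (Q : Subgroup K).index = Nat.card M₀ := hcompl.index_eq_card
  have hidxM : M₀.index = Nat.card Q := hcompl.symm.index_eq_card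
  have hM₀cop : (Nat.card M₀).Coprime p := by
    rw [← hidxQ, Nat.coprime_comm, Nat.Prime.coprime_iff_not_dvd hp.out]
    exact Q.not_dvd_index
  obtain ⟨a, ha⟩ := IsPGroup.iff_card.mp Q.2
  have hcop2 : (Nat.card M₀).Coprime (Nat.card Q) := by
    rw [ha]; exact Nat.Coprime.pow_right a hM₀cop
  have hMcard : Nat.card (M₀.map K.subtype) = Nat.card M₀ :=
    Subgroup.card_map_of_injective K.subtype_injective
  have hMn : (M₀.map K.subtype).Normal := by
    constructor
    rintro _ ⟨m, hm, rfl⟩ g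
    refine ⟨⟨g * (m : G) * g⁻¹, hK.conj_mem _ m.2 g⟩, ?_, rfl⟩
    obtain ⟨k, hk⟩ : ∃ k : K, k = ⟨g * (m : G) * g⁻¹, hK.conj_mem _ m.2 g⟩ := ⟨_, rfl⟩
    rw [← hk]
    show k ∈ M₀
    have hmpow : m ^ Nat.card M₀ = 1 := by
      have h1 : (⟨m, hm⟩ : M₀) ^ Nat.card M₀ = 1 := pow_card_eq_one'
      exact congrArg (fun z : M₀ => (z : K)) h1
    have hkpow : k ^ Nat.card M₀ = 1 := by
      apply Subtype.ext
      rw [hk]
      show (g * (m : G) * g⁻¹) ^ Nat.card M₀ = 1
      rw [conj_pow]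
      have h2 : ((m : K) : G) ^ Nat.card M₀ = 1 := by
        have := congrArg (fun z : K => (z : G)) hmpow
        simpa using this
      rw [h2, mul_one, mul_inv_cancel]
    have h3 : orderOf (QuotientGroup.mk k : K ⧸ M₀) ∣ Nat.card M₀ := by
      apply orderOf_dvd_of_pow_eq_one
      rw [← QuotientGroup.mk_pow, hkpow]
      rfl
    have h4 : orderOf (QuotientGroup.mk k : K ⧸ M₀) ∣ Nat.card Q := by
      rw [← hidxM]
      exact orderOf_dvd_natCard _
    have h5 := Nat.eq_one_of_dvd_coprimes hcop2 h3 h4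
    rw [orderOf_eq_one_iff] at h5
    exact (QuotientGroup.eq_one_iff k).mp h5
  refine ⟨M₀.map K.subtype, hMn, Subgroup.map_subtype_le M₀, ?_, ?_⟩
  · rw [hMcard]; exact hM₀cop
  · -- counting
    have hD : Nat.card Q ∣ Nat.card (K ⊓ (P : Subgroup G) : Subgroup G) := by
      have e1 := Cfsg.Agent.Helper17.relIndex_mul_card_inf (P : Subgroup G) K
      have e2 : (P : Subgroup G).relIndex K ∣ (P : Subgroup G).index :=
        Cfsg.Agent.Helper29.Kazarin.relIndex_dvd_index_of_normal_right' (P : Subgroup G) K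
      have e3 : (Nat.card Q).Coprime ((P : Subgroup G).relIndex K) := by
        rw [ha]
        apply Nat.Coprime.pow_left
        rw [Nat.Prime.coprime_iff_not_dvd hp.out]
        exact fun hd => P.not_dvd_index (hd.trans e2)
      have e4 : Nat.card Q ∣ (P : Subgroup G).relIndex K *
          Nat.card ((P : Subgroup G) ⊓ K : Subgroup G) := by
        rw [e1, ← hcard]; exact dvd_mul_left _ _
      rw [inf_comm]
      exact (Nat.Coprime.dvd_mul_left e3).mp e4
    have hle : M₀.map K.subtype ⊔ (K ⊓ (P : Subgroup G)) ≤ K :=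
      sup_le (Subgroup.map_subtype_le M₀) inf_le_left
    have hdvd : Nat.card K ∣ Nat.card (M₀.map K.subtype ⊔ (K ⊓ (P : Subgroup G)) : Subgroup G) := by
      rw [← hcard]
      apply Nat.Coprime.mul_dvd_of_dvd_of_dvd hcop2
      · rw [← hMcard]; exact Subgroup.card_dvd_of_le le_sup_left
      · exact hD.trans (Subgroup.card_dvd_of_le le_sup_right)
    have := Subgroup.eq_of_le_of_card_ge hle (Nat.le_of_dvd Nat.card_pos hdvd)
    rw [this]

end StepB

end Cfsg.Agent.Helper29.PPK
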