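import Mathlib
import Cfsg.Prelude.Def_Characters
import Cfsg.Prelude.Def_Blocks
import Cfsg.Prelude.Def_Transfer
import Cfsg.Agent.Helper24.Abelian
import Cfsg.Agent.Helper24.Codegree
import Cfsg.Agent.Helper24.SmallDegree
import Cfsg.Agent.Helper24.Product
import Cfsg.Agent.Helper24.GagolaCentral
import Cfsg.Agent.Helper12.ExtraspecialChar
import Cfsg.Agent.Helper23.PGroup
import Cfsg.Agent.Helper14.Frattini
import Cfsg.Agent.Helper1.PGroup
import Cfsg.Agent.Helper29.NilpHall
import Cfsg.Agent.Helper8.CharComp

/-!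
# Nilpotent groups with a unique irreducible character of degree divisible by `p`

Such a group is an extraspecial `2`-group (and `p = 2`), and conversely.
-/

set_option autoImplicit false
set_option linter.style.haveILetI false
set_option linter.unusedSectionVars false
set_option linter.unusedVariables false

namespace Cfsg.Agent.Helper29.UniqueSingular

open Cfsg Cfsg.Agent.Helper24
open scoped commutatorElement

universe u

section PGroup

variable {G : Type u} [Group G] [Finite G] {p : ℕ} [hp : Fact p.Prime]

/-- In a `p`-group the characters of degree divisible by `p` are the nonlinear ones. -/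
theorem dvd_charDegree_iff (hG : IsPGroup p G) (χ : IrrCharacter G) :
    p ∣ charDegree (χ : G → ℂ) ↔ ¬ (χ : G → ℂ) 1 = 1 := by
  rw [charDegree_irr, ← irrDeg_eq_one_iff]
  obtain ⟨m, hm⟩ := IsPGroup.iff_card.mp hG
  have h1 := irrDeg_dvd_card χ
  rw [hm] at h1
  obtain ⟨a, _, ha⟩ := (Nat.dvd_prime_pow hp.out).mp h1
  rw [ha]
  constructor
  · intro h h1
    rw [h1] at h
    exact hp.out.one_lt.ne' (Nat.dvd_one.mp h)
  · intro h
    cases a with
    | zero => exact absurd (pow_zero p) h
    | succ a => exact dvd_pow_self p (Nat.succ_ne_zero a)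

/-- The count of `p`-singular irreducible characters of a `p`-group. -/
theorem card_singular_add (hG : IsPGroup p G) :
    Nat.card {χ : IrrCharacter G // p ∣ charDegree (χ : G → ℂ)} + (commutator G).index
      = Nat.card (ConjClasses G) := by
  rw [← card_irr_eq_card_conjClasses, ← card_linear_irr]
  have e1 : {χ : IrrCharacter G // p ∣ charDegree (χ : G → ℂ)} ≃
      {χ : IrrCharacter G // ¬ (χ : G → ℂ) 1 = 1} :=
    Equiv.subtypeEquivRight (dvd_charDegree_iff hG)
  rw [Nat.card_congr e1, add_comm, ← Nat.card_sum]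
  exact Nat.card_congr (Equiv.sumCompl _)

/-- Class number of an extraspecial group, without reference to its order. -/
theorem extraspecial_card_conjClasses' (hP : IsExtraspecial p G) :
    p * Nat.card (ConjClasses G) + p = p * p + Nat.card G := by
  classical
  have hp' : p.Prime := hp.out
  have : Fintype G := Fintype.ofFinite G
  have h1 := card_comm_eq_card_conjClasses_mul_card G
  have h2 : Nat.card {pr : G × G // Commute pr.1 pr.2} =
      ∑ g : G, Nat.card {x : G // Commute g x} := by
    rw [Nat.card_congr (Equiv.subtypeProdEquivSigmaSubtype (Commute (S := G))), Nat.card_sigma]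
  have h3 : ∀ g : G, p * Nat.card {x : G // Commute g x} =
      Nat.card G * (if g ∈ Subgroup.center G then p else 1) := by
    intro g
    have := Cfsg.Agent.Helper12.extraspecial_card_commute_mul p hP g
    by_cases hg : g ∈ Subgroup.center G
    · rw [if_pos hg] at this ⊢
      rw [← this]; ring
    · rw [if_neg hg] at this ⊢
      rw [← this]; ring
  have h4 : p * (Nat.card (ConjClasses G) * Nat.card G) =
      Nat.card G * ∑ g : G, (if g ∈ Subgroup.center G then p else 1) := by
    rw [← h1, h2, Finset.mul_sum, Finset.mul_sum]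
    exact Finset.sum_congr rfl fun g _ => h3 g
  have h5 : ∑ g : G, (if g ∈ Subgroup.center G then p else 1) + p = p * p + Nat.card G := by
    have e : ∀ g : G, (if g ∈ Subgroup.center G then p else 1) =
        (if g ∈ Subgroup.center G then p - 1 else 0) + 1 := by
      intro g
      have := hp'.one_lt
      split_ifs <;> omega
    rw [Finset.sum_congr rfl fun g _ => e g, Finset.sum_add_distrib, Finset.sum_const,
      Finset.card_univ, smul_eq_mul, mul_one, ← Finset.sum_filter, Finset.sum_const, smul_eq_mul,
      ← Nat.card_eq_fintype_card]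
    have hZ : (Finset.univ.filter (fun g : G => g ∈ Subgroup.center G)).card = p := by
      rw [← hP.2, Nat.card_eq_fintype_card, Fintype.card_subtype]
    rw [hZ]
    have := hp'.one_lt
    obtain ⟨m, hm⟩ : ∃ m, p = m + 1 := ⟨p - 1, by omega⟩
    rw [hm, Nat.add_sub_cancel]
    ring
  have hPpos : 0 < Nat.card G := Nat.card_pos
  have h6 : p * Nat.card (ConjClasses G) = ∑ g : G, (if g ∈ Subgroup.center G then p else 1) := by
    apply Nat.eq_of_mul_eq_mul_left hPpos
    rw [← h4]; ring
  rw [h6, h5]

end PGroup

section Converse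

variable {G : Type u} [Group G] [Finite G]

/-- An extraspecial `2`-group has exactly one irreducible character of even degree. -/
theorem card_singular_of_extraspecial (hP : IsExtraspecial 2 G) :
    Nat.card {χ : IrrCharacter G // 2 ∣ charDegree (χ : G → ℂ)} = 1 := by
  haveI : Fact (Nat.Prime 2) := ⟨Nat.prime_two⟩
  have hG : IsPGroup 2 G := hP.1.1
  have h1 := card_singular_add (p := 2) hG
  have h2 := extraspecial_card_conjClasses' (p := 2) hP
  have h3 : (commutator G).index * 2 = Nat.card G := by
    have := Subgroup.index_mul_card (Subgroup.center G)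
    rw [hP.2] at this
    rw [hP.1.2.2]
    exact this
  omega

end Converse

section Forward

variable {G : Type u} [Group G] [Finite G] {p : ℕ} [hp : Fact p.Prime]

/-- A linear character is trivial on the commutator subgroup. -/
theorem linear_apply_of_mem_commutator (χ : IrrCharacter G) (h1 : (χ : G → ℂ) 1 = 1) {z : G}
    (hz : z ∈ commutator G) : (χ : G → ℂ) z = 1 := by
  obtain ⟨φ, hφ⟩ := (linOfAb_bijective (G := G)).2 ⟨χ, h1⟩
  have h2 : ((linOfAb φ : IrrCharacter G) : G → ℂ) z = (χ : G → ℂ) z := by rw [hφ]
  rw [← h2, linOfAb_apply]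
  have : Abelianization.of z = 1 := (QuotientGroup.eq_one_iff z).mpr hz
  rw [this, map_one, Units.val_one]

/-- If all irreducible characters agree at `z` and `1` then `z = 1`. -/
theorem eq_one_of_forall_irr {z : G} (h : ∀ χ : IrrCharacter G, (χ : G → ℂ) z = (χ : G → ℂ) 1) :
    z = 1 := by
  haveI : Fintype G := Fintype.ofFinite G
  haveI : Fintype (IrrCharacter G) := Fintype.ofFinite _
  have := (isConj_iff_forall_irr z 1).mpr h
  rw [isConj_iff] at this
  obtain ⟨c, hc⟩ := this
  have : z = c⁻¹ * 1 * c := by rw [← hc]; group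
  rw [this]; group

/-- Minimality of the derived subgroup when there is only one nonlinear character. -/
theorem commutator_le_of_unique_nonlinear (θ : IrrCharacter G)
    (huniq : ∀ χ : IrrCharacter G, ¬ (χ : G → ℂ) 1 = 1 → χ = θ)
    (N : Subgroup G) [hN : N.Normal] (hNbot : N ≠ ⊥) (hNle : N ≤ commutator G) :
    commutator G ≤ N := by
  classical
  by_contra hle
  haveI : Finite (G ⧸ N) := inferInstance
  have hnc : ¬ ∀ a b : G ⧸ N, a * b = b * a := by
    intro hc
    apply hle
    rw [commutator_def, Subgroup.commutator_le]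
    intro a _ b _
    rw [← QuotientGroup.eq_one_iff]
    have : ((⁅a, b⁆ : G) : G ⧸ N) = ⁅(QuotientGroup.mk a : G ⧸ N), QuotientGroup.mk b⁆ := rfl
    rw [this, commutatorElement_eq_one_iff_mul_comm]
    exact hc _ _
  rw [comm_iff_forall_irr_one] at hnc
  push Not at hnc
  obtain ⟨ψ, hψ⟩ := hnc
  have h1 : irrInflate N ψ = θ := by
    apply huniq
    intro h
    apply hψ
    have : ((irrInflate N ψ : IrrCharacter G) : G → ℂ) 1 = (ψ : G ⧸ N → ℂ) 1 := rfl
    rw [← this, h]
  obtain ⟨z, hzN, hz1⟩ := (Subgroup.ne_bot_iff_exists_ne_one).mp hNbot |>.imp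
    (fun z hz => hz) |> fun ⟨z, hz⟩ => (⟨z.1, z.2, fun h => hz (Subtype.ext h)⟩ :
      ∃ z : G, z ∈ N ∧ z ≠ 1)
  apply hz1
  apply eq_one_of_forall_irr
  intro χ
  by_cases hχ : (χ : G → ℂ) 1 = 1
  · rw [linear_apply_of_mem_commutator χ hχ (hNle hzN), hχ]
  · rw [huniq χ hχ, ← h1]
    show (ψ : G ⧸ N → ℂ) (QuotientGroup.mk z) = (ψ : G ⧸ N → ℂ) (QuotientGroup.mk 1)
    rw [(QuotientGroup.eq_one_iff z).mpr hzN, QuotientGroup.mk_one]

/-- A `p`-group with exactly one irreducible character of degree divisible by `p` is an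
extraspecial `2`-group. -/
theorem pgroup_unique_singular (hG : IsPGroup p G)
    (h1 : Nat.card {χ : IrrCharacter G // p ∣ charDegree (χ : G → ℂ)} = 1) :
    p = 2 ∧ IsExtraspecial 2 G := by
  classical
  haveI : Fintype G := Fintype.ofFinite G
  haveI : Fintype (IrrCharacter G) := Fintype.ofFinite _
  have hp' : p.Prime := hp.out
  -- the unique nonlinear character
  obtain ⟨⟨θ, hθ⟩, hθu⟩ := (Nat.card_eq_one_iff_exists).mp h1
  have hθ1 : ¬ (θ : G → ℂ) 1 = 1 := (dvd_charDegree_iff hG θ).mp hθ
  have huniq : ∀ χ : IrrCharacter G, ¬ (χ : G → ℂ) 1 = 1 → χ = θ := by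
    intro χ hχ
    have := hθu ⟨χ, (dvd_charDegree_iff hG χ).mpr hχ⟩
    exact congrArg Subtype.val this
  -- class number
  have hk : 1 + (commutator G).index = Nat.card (ConjClasses G) := by
    rw [← h1]; exact card_singular_add hG
  -- sum of squares
  set d := irrDeg θ with hd
  have hdpos : 0 < d := irrDeg_pos θ
  have hdne : d ≠ 1 := fun h => hθ1 ((irrDeg_eq_one_iff θ).mp h)
  have hsum : (commutator G).index + d ^ 2 = Nat.card G := by
    have h2 := sum_irrDeg_sq (G := G)
    have h3 : ∀ χ : IrrCharacter G, irrDeg χ ^ 2 = 1 + (if χ = θ then d ^ 2 - 1 else 0) := by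
      intro χ
      by_cases hχ : χ = θ
      · rw [if_pos hχ, hχ]
        show d ^ 2 = 1 + (d ^ 2 - 1)
        have : 0 < d ^ 2 := by positivity
        omega
      · rw [if_neg hχ]
        have : (χ : G → ℂ) 1 = 1 := by
          by_contra h
          exact hχ (huniq χ h)
        rw [(irrDeg_eq_one_iff χ).mpr this]
        norm_num
    rw [Finset.sum_congr rfl (fun χ _ => h3 χ), Finset.sum_add_distrib, Finset.sum_const,
      Finset.card_univ, smul_eq_mul, mul_one, Finset.sum_ite_eq' Finset.univ θ,
      if_pos (Finset.mem_univ θ), ← Nat.card_eq_fintype_card, card_irr_eq_card_conjClasses,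
      ← hk] at h2
    have : 0 < d ^ 2 := by positivity
    omega
  -- `d` is a power of `p`
  obtain ⟨m, hm⟩ := IsPGroup.iff_card.mp hG
  obtain ⟨a, _, ha⟩ := (Nat.dvd_prime_pow hp').mp (hm ▸ irrDeg_dvd_card θ)
  have ha0 : a ≠ 0 := by
    intro h
    rw [h, pow_zero] at ha
    exact hdne (hd ▸ ha)
  -- the derived subgroup
  have hcne : commutator G ≠ ⊥ := by
    intro h
    have hc : ∀ x y : G, x * y = y * x := by
      intro x y
      have : ⁅x, y⁆ ∈ commutator G := by
        rw [commutator_def]
        exact Subgroup.commutator_mem_commutator (Subgroup.mem_top x) (Subgroup.mem_top y)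
      rw [h, Subgroup.mem_bot, commutatorElement_eq_one_iff_mul_comm] at this
      exact this
    exact hθ1 ((comm_iff_forall_irr_one.mp hc) θ)
  obtain ⟨b, hbc, hbz, hb1⟩ := Cfsg.Agent.Helper23.exists_mem_inf_center_ne_one hG (commutator G) hcne
  -- an element of order `p` in `G' ∩ Z(G)`
  set M : Subgroup G := commutator G ⊓ Subgroup.center G with hM
  have hMne : M ≠ ⊥ := by
    intro h
    have : b ∈ M := ⟨hbc, hbz⟩
    rw [h, Subgroup.mem_bot] at this
    exact hb1 this
  have hpM : p ∣ Nat.card M := by
    obtain ⟨n, hn⟩ := IsPGroup.iff_card.mp (hG.to_subgroup M)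
    rcases n with _ | n
    · exfalso; apply hMne
      rw [pow_zero] at hn
      exact Subgroup.card_eq_one.mp hn
    · rw [hn, pow_succ]; exact dvd_mul_left p _
  obtain ⟨z', hz'⟩ := exists_prime_orderOf_dvd_card' p hpM
  set z : G := (z' : G) with hz
  have hzord : orderOf z = p := by rw [hz, Subgroup.orderOf_coe]; exact hz'
  have hzc : z ∈ commutator G := z'.2.1
  have hzz : z ∈ Subgroup.center G := z'.2.2
  haveI hNn : (Subgroup.zpowers z).Normal := by
    constructor
    intro n hn g
    have hnc : n ∈ Subgroup.center G :=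
      Subgroup.zpowers_le.mpr hzz hn
    have : g * n * g⁻¹ = n := by
      rw [(Subgroup.mem_center_iff.mp hnc g)]; group
    rw [this]; exact hn
  have hNne : Subgroup.zpowers z ≠ ⊥ := by
    intro h
    rw [Subgroup.zpowers_eq_bot] at h
    rw [h, orderOf_one] at hzord
    exact hp'.one_lt.ne hzord
  have hNle : Subgroup.zpowers z ≤ commutator G := (Subgroup.zpowers_le).mpr hzc
  have hcle := commutator_le_of_unique_nonlinear θ huniq (Subgroup.zpowers z) hNne hNle
  have hceq : commutator G = Subgroup.zpowers z := le_antisymm hcle hNle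
  have hccard : Nat.card (commutator G) = p := by rw [hceq, Nat.card_zpowers, hzord]
  have hcz : commutator G ≤ Subgroup.center G := by
    rw [hceq]; exact (Subgroup.zpowers_le).mpr hzz
  -- arithmetic: `p = 2`
  have hidx : (commutator G).index * p = Nat.card G := by
    rw [← hccard]; exact Subgroup.index_mul_card _
  have hd2 : (commutator G).index * (p - 1) = d ^ 2 := by
    have h4 : (commutator G).index * p = (commutator G).index + d ^ 2 := by rw [hidx, hsum]
    obtain ⟨q, hq⟩ : ∃ q, p = q + 1 := ⟨p - 1, by have := hp'.one_lt; omega⟩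
    rw [hq, Nat.add_sub_cancel]
    rw [hq, mul_add, mul_one] at h4
    omega
  have hp2 : p = 2 := by
    have h5 : (p - 1) ∣ p ^ (2 * a) := by
      rw [pow_mul', ← ha, ← hd, ← hd2]
      exact dvd_mul_left _ _
    obtain ⟨c, _, hc⟩ := (Nat.dvd_prime_pow hp').mp h5
    rcases c with _ | c
    · rw [pow_zero] at hc
      have := hp'.one_lt
      omega
    · exfalso
      have h6 : p ∣ p - 1 := by rw [hc]; exact dvd_pow_self p (Nat.succ_ne_zero c)
      have h7 := Nat.le_of_dvd (by have := hp'.one_lt; omega) h6
      have := hp'.one_lt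
      omega
  subst hp2
  refine ⟨rfl, ?_⟩
  -- the centre has order 2
  have hd3 : d ^ 2 * 2 = Nat.card G := by
    rw [← hidx, ← hd2]
    norm_num
  have hZle : Nat.card (Subgroup.center G) ≤ 2 := by
    have h8 := Cfsg.Agent.Helper12.irrDeg_sq_mul_card_center_le θ
    rw [← hd, ← hd3] at h8
    have : 0 < d ^ 2 := by positivity
    exact Nat.le_of_mul_le_mul_left h8 this
  have hZeq : commutator G = Subgroup.center G := by
    apply Subgroup.eq_of_le_of_card_ge hcz
    rw [hccard]; exact hZle
  have hZcard : Nat.card (Subgroup.center G) = 2 := by rw [← hZeq, hccard]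
  -- Frattini
  have hcomm : ∀ x y : G, ⁅x, y⁆ ∈ Subgroup.center G := by
    intro x y
    rw [← hZeq, commutator_def]
    exact Subgroup.commutator_mem_commutator (Subgroup.mem_top x) (Subgroup.mem_top y)
  have hsq : ∀ c ∈ Subgroup.center G, c * c = 1 := by
    intro c hc
    have := pow_card_eq_one' (G := Subgroup.center G) (x := ⟨c, hc⟩)
    rw [hZcard] at this
    have h9 := congrArg Subtype.val this
    simpa [pow_two] using h9
  have hpow : ∀ x : G, x ^ 2 ∈ Subgroup.center G := by
    intro x
    rw [Subgroup.mem_center_iff]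
    intro y
    set c := ⁅x, y⁆ with hc
    have hcc := hcomm x y
    have hcy : ∀ w : G, w * c = c * w := fun w => Subgroup.mem_center_iff.mp hcc w
    have hxy : x * y = c * y * x := by rw [hc, commutatorElement_def]; group
    have hcc2 := hsq c hcc
    calc y * x ^ 2 = (c * c) * y * x ^ 2 := by rw [hcc2, one_mul]
      _ = c * (c * y * x) * x := by rw [pow_two]; group
      _ = c * (x * y) * x := by rw [hxy]
      _ = (x * c) * y * x := by rw [hcy x]; group
      _ = x * (c * y * x) := by group
      _ = x * (x * y) := by rw [hxy]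
      _ = x ^ 2 * y := by rw [pow_two]; group
  have hfr1 : frattini G ≤ Subgroup.center G :=
    Cfsg.Agent.Helper14.frattini_le_of_elemAb 2 (Subgroup.center G) hcomm hpow
  have hfr2 : Subgroup.center G ≤ frattini G := by
    rw [← hZeq]; exact Cfsg.Agent.Helper1.IsPGroup.commutator_le_frattini hG
  exact ⟨⟨hG, le_antisymm hfr1 hfr2, hZeq⟩, hZcard⟩

end Forward

section Nilpotent

variable {G : Type u} [Group G]

/-- Transport of irreducible characters along an isomorphism. -/
noncomputable def irrCongr {K : Type u} [Group K] (e : G ≃* K) :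
    IrrCharacter G ≃ IrrCharacter K where
  toFun χ := ⟨fun k => (χ : G → ℂ) (e.symm k),
    Cfsg.Agent.Helper8.isIrrCharacter_comp_surjective e.symm.toMonoidHom e.symm.surjective χ.2⟩
  invFun ψ := ⟨fun g => (ψ : K → ℂ) (e g),
    Cfsg.Agent.Helper8.isIrrCharacter_comp_surjective e.toMonoidHom e.surjective ψ.2⟩
  left_inv χ := by
    apply Subtype.ext
    funext g
    simp
  right_inv ψ := by
    apply Subtype.ext
    funext k
    simp

theorem card_singular_congr {K : Type u} [Group K] (e : G ≃* K) (p : ℕ) :
    Nat.card {χ : IrrCharacter G // p ∣ charDegree (χ : G → ℂ)} =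
      Nat.card {χ : IrrCharacter K // p ∣ charDegree (χ : K → ℂ)} := by
  apply Nat.card_congr
  refine (irrCongr e).subtypeEquiv ?_
  intro χ
  have : ((irrCongr e χ : IrrCharacter K) : K → ℂ) 1 = (χ : G → ℂ) 1 := by
    show (χ : G → ℂ) (e.symm 1) = _
    rw [map_one]
  unfold charDegree
  rw [this]

theorem card_singular_prod {P H : Type u} [Group P] [Group H] [Finite P] [Finite H] {p : ℕ}
    (hH : (Nat.card H).Coprime p) :
    Nat.card {χ : IrrCharacter (P × H) // p ∣ charDegree (χ : P × H → ℂ)} =
      Nat.card {α : IrrCharacter P // p ∣ charDegree (α : P → ℂ)} * Nat.card (IrrCharacter H) := by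
  rw [← Nat.card_prod]
  apply Nat.card_congr
  let e0 : IrrCharacter P × IrrCharacter H ≃ IrrCharacter (P × H) :=
    Equiv.ofBijective irrProd ⟨irrProd_injective, irrProd_surjective⟩
  have e1 : {x : IrrCharacter P × IrrCharacter H // p ∣ charDegree (x.1 : P → ℂ)} ≃
      {χ : IrrCharacter (P × H) // p ∣ charDegree (χ : P × H → ℂ)} := by
    refine e0.subtypeEquiv ?_
    intro x
    rw [charDegree_irr, charDegree_irr]
    show p ∣ irrDeg x.1 ↔ p ∣ irrDeg (irrProd x)
    rw [irrDeg_irrProd]
    have hc : Nat.Coprime p (irrDeg x.2) :=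
      Nat.Coprime.coprime_dvd_right (irrDeg_dvd_card x.2) hH.symm
    exact (Nat.Coprime.dvd_mul_right hc).symm
  exact e1.symm.trans (Equiv.prodSubtypeFstEquivSubtypeProd
    (p := fun α : IrrCharacter P => p ∣ charDegree (α : P → ℂ)))

variable [Finite G] {p : ℕ} [hp : Fact p.Prime]

/-- A nilpotent group with a unique `p`-singular irreducible character is a `p`-group. -/
theorem isPGroup_of_unique_singular [Group.IsNilpotent G]
    (h1 : Nat.card {χ : IrrCharacter G // p ∣ charDegree (χ : G → ℂ)} = 1) : IsPGroup p G := by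
  classical
  let P : Sylow p G := default
  haveI hPn : (P : Subgroup G).Normal :=
    Sylow.normal_of_normalizerCondition Group.normalizerCondition_of_isNilpotent P
  have hcop : (Nat.card (P : Subgroup G)).Coprime (P : Subgroup G).index := P.card_coprime_index
  obtain ⟨H, hH⟩ := Subgroup.exists_right_complement'_of_coprime hcop
  have hHcard : Nat.card H = (P : Subgroup G).index := (hH.symm.index_eq_card).symm
  have hHp : (Nat.card H).Coprime p := by
    rw [hHcard]
    exact (Nat.Coprime.symm ((Nat.Prime.coprime_iff_not_dvd hp.out).mpr P.not_dvd_index))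
  have hcomm := Cfsg.Agent.Helper29.commute_of_pgroup_of_coprime (A := (P : Subgroup G)) (B := H)
    P.2 hHp
  let f : ↥(P : Subgroup G) × ↥H →* G :=
    MonoidHom.noncommCoprod (P : Subgroup G).subtype H.subtype (fun a b => hcomm a a.2 b b.2)
  have hf : Function.Bijective f := hH
  let e : ↥(P : Subgroup G) × ↥H ≃* G := MulEquiv.ofBijective f hf
  rw [card_singular_congr e.symm p, card_singular_prod hHp] at h1
  have h2 : Nat.card (IrrCharacter H) = 1 := Nat.eq_one_of_mul_eq_one_left h1
  rw [card_irr_eq_card_conjClasses] at h2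
  have h3 : Nat.card H = 1 := by
    rw [Nat.card_eq_one_iff_unique] at h2 ⊢
    obtain ⟨hs, _⟩ := h2
    refine ⟨⟨fun a b => ?_⟩, ⟨1⟩⟩
    have key : ∀ x : H, x = 1 := by
      intro x
      have := hs.elim (ConjClasses.mk x) (ConjClasses.mk 1)
      rw [ConjClasses.mk_eq_mk_iff_isConj, isConj_iff] at this
      obtain ⟨c, hc⟩ := this
      have : x = c⁻¹ * 1 * c := by rw [← hc]; group
      rw [this]; group
    rw [key a, key b]
  have h4 : Nat.card G = Nat.card (P : Subgroup G) := by
    have := hH.card_mul_card
    rw [h3, mul_one] at this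
    exact this.symm
  obtain ⟨n, hn⟩ := IsPGroup.iff_card.mp P.2
  exact IsPGroup.of_card (h4.trans hn)

/-- **S4762**. -/
theorem unique_singular_iff [Group.IsNilpotent G] :
    Nat.card {χ : IrrCharacter G // p ∣ charDegree (χ : G → ℂ)} = 1 ↔
      (p = 2 ∧ IsExtraspecial 2 G) := by
  constructor
  · intro h1
    exact pgroup_unique_singular (isPGroup_of_unique_singular h1) h1
  · rintro ⟨rfl, hE⟩
    exact card_singular_of_extraspecial hE

end Nilpotent

end Cfsg.Agent.Helper29.UniqueSingular
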