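import Mathlib
import Cfsg.Agent.Helper29.NormComplA
import Cfsg.Agent.Helper29.PPrimeKerB
import Cfsg.Agent.Helper29.UniqueSingular
import Cfsg.Agent.Helper24.Gagola
import Cfsg.Agent.Helper24.Codegree
import Cfsg.Agent.Helper24.SmallDegree
import Cfsg.Agent.Helper8.CharComp

/-!
# Extension of `p'`-degree characters of a Sylow normalizer and normal complements
-/

set_option autoImplicit false
set_option linter.style.haveILetI false

namespace Cfsg.Agent.Helper29.NormCompl

open Cfsg Cfsg.Agent.Helper24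
open scoped commutatorElement

universe u

variable {G : Type u} [Group G]

/-- A normal complement gives a retraction onto the complemented subgroup. -/
theorem exists_retraction (K N : Subgroup G) [hK : K.Normal] (hsup : K ⊔ N = ⊤) (hinf : K ⊓ N = ⊥) :
    ∃ r : G →* N, (∀ n : N, r n = n) ∧ Function.Surjective r := by
  obtain ⟨f, hf⟩ : ∃ f : N →* G ⧸ K, f = (QuotientGroup.mk' K).comp N.subtype := ⟨_, rfl⟩
  have hfa : ∀ n : N, f n = QuotientGroup.mk' K (n : G) := by
    intro n; rw [hf]; rfl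
  have hinj : Function.Injective f := by
    rw [injective_iff_map_eq_one]
    intro n hn
    rw [hfa, QuotientGroup.mk'_apply, QuotientGroup.eq_one_iff] at hn
    have : (n : G) ∈ K ⊓ N := ⟨hn, n.2⟩
    rw [hinf, Subgroup.mem_bot] at this
    exact Subtype.ext this
  have hsurj : Function.Surjective f := by
    intro q
    obtain ⟨g, rfl⟩ := QuotientGroup.mk'_surjective K q
    have hg : g ∈ ((K ⊔ N : Subgroup G) : Set G) := by rw [hsup]; trivial
    rw [Subgroup.normal_mul, Set.mem_mul] at hg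
    obtain ⟨k, hk, n, hn, rfl⟩ := hg
    refine ⟨⟨n, hn⟩, ?_⟩
    rw [hfa, map_mul]
    have : QuotientGroup.mk' K k = 1 := (QuotientGroup.eq_one_iff k).mpr hk
    rw [this, one_mul]
  obtain ⟨e, he⟩ : ∃ e : N ≃* G ⧸ K, ∀ n, e n = f n :=
    ⟨MulEquiv.ofBijective f ⟨hinj, hsurj⟩, fun n => rfl⟩
  refine ⟨e.symm.toMonoidHom.comp (QuotientGroup.mk' K), ?_, ?_⟩
  · intro n
    show e.symm (QuotientGroup.mk' K (n : G)) = n
    rw [← hfa, ← he, MulEquiv.symm_apply_apply]
  · intro n
    obtain ⟨g, hg⟩ := QuotientGroup.mk'_surjective K (e n)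
    refine ⟨g, ?_⟩
    show e.symm (QuotientGroup.mk' K g) = n
    rw [hg, MulEquiv.symm_apply_apply]

/-- With a normal complement, every irreducible character of `N` extends to `G`. -/
theorem exists_extension_of_complement (K N : Subgroup G) [hK : K.Normal] (hsup : K ⊔ N = ⊤)
    (hinf : K ⊓ N = ⊥) (θ : IrrCharacter N) :
    ∃ χ : IrrCharacter G, ∀ x : N, (χ : G → ℂ) x = (θ : N → ℂ) x := by
  obtain ⟨r, hr, hrs⟩ := exists_retraction K N hsup hinf
  refine ⟨⟨fun g => (θ : N → ℂ) (r g),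
    Cfsg.Agent.Helper8.isIrrCharacter_comp_surjective r hrs θ.2⟩, ?_⟩
  intro x
  show (θ : N → ℂ) (r x) = (θ : N → ℂ) x
  rw [hr]

section Forward

variable [Finite G] {p : ℕ} [hp : Fact p.Prime]

/-- Data: `N = N_G(P)` and each `p'`-degree irreducible character of `N` has an extension. -/
theorem exists_normal_complement_aux (P : Sylow p G) (N : Subgroup G)
    (hN : N = Subgroup.normalizer ((P : Subgroup G) : Set G))
    (h : ∀ θ : IrrCharacter N, ¬ p ∣ irrDeg θ →
      ∃ χ : IrrCharacter G, ∀ x : N, (χ : G → ℂ) x = (θ : N → ℂ) x) :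
    ∃ K : Subgroup G, K.Normal ∧ K ⊔ N = ⊤ ∧ K ⊓ N = ⊥ := by
  classical
  haveI : Fintype N := Fintype.ofFinite N
  have hPN : (P : Subgroup G) ≤ N := by rw [hN]; exact Subgroup.le_normalizer
  obtain ⟨PN, hPNdef⟩ : ∃ PN : Subgroup N, PN = (P : Subgroup G).subgroupOf N := ⟨_, rfl⟩
  haveI hPNn : PN.Normal := by
    rw [hPNdef, Subgroup.normal_subgroupOf_iff_le_normalizer hPN, hN]
  have hPNp : IsPGroup p PN := by rw [hPNdef]; exact P.2.comap_subtype
  have hPNi : ¬ p ∣ PN.index := by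
    intro hdvd
    apply P.not_dvd_index
    have : PN.index = (P : Subgroup G).relIndex N := by rw [hPNdef]; rfl
    rw [this] at hdvd
    exact hdvd.trans (Subgroup.relIndex_dvd_index_of_le hPN)
  have hPNmap : PN.map N.subtype = (P : Subgroup G) := by
    rw [hPNdef]; exact Subgroup.map_subgroupOf_eq_of_le hPN
  choose ext hext using h
  have hext1 : ∀ θ hθ, ((ext θ hθ : IrrCharacter G) : G → ℂ) 1 = (θ : N → ℂ) 1 := by
    intro θ hθ
    exact hext θ hθ 1
  -- Step 1: the normal closure of `P` meets `N` in `P`.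
  obtain ⟨L, hL⟩ : ∃ L : Subgroup G, L = Subgroup.normalClosure ((P : Subgroup G) : Set G) :=
    ⟨_, rfl⟩
  haveI hLn : L.Normal := by rw [hL]; exact Subgroup.normalClosure_normal
  have hPL : (P : Subgroup G) ≤ L := by rw [hL]; exact Subgroup.le_normalClosure
  have hLN : L ⊓ N ≤ (P : Subgroup G) := by
    intro x hx
    obtain ⟨hxL, hxN⟩ := Subgroup.mem_inf.mp hx
    by_contra hxP
    have hx' : (QuotientGroup.mk' PN ⟨x, hxN⟩ : N ⧸ PN) ≠ 1 := by
      intro h1
      rw [QuotientGroup.mk'_apply, QuotientGroup.eq_one_iff, hPNdef, Subgroup.mem_subgroupOf] at h1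
      exact hxP h1
    have hex : ∃ β' : IrrCharacter (N ⧸ PN), (β' : N ⧸ PN → ℂ) (QuotientGroup.mk' PN ⟨x, hxN⟩) ≠
        (β' : N ⧸ PN → ℂ) 1 := by
      by_contra hall
      push Not at hall
      exact hx' (Cfsg.Agent.Helper29.UniqueSingular.eq_one_of_forall_irr hall)
    obtain ⟨β', hβ'⟩ := hex
    obtain ⟨β, hβ⟩ : ∃ β : IrrCharacter N, ∀ n : N, (β : N → ℂ) n =
        (β' : N ⧸ PN → ℂ) (QuotientGroup.mk' PN n) :=
      ⟨⟨fun n => (β' : N ⧸ PN → ℂ) (QuotientGroup.mk' PN n),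
        Cfsg.Agent.Helper8.isIrrCharacter_comp_surjective (QuotientGroup.mk' PN)
          (QuotientGroup.mk'_surjective PN) β'.2⟩, fun n => rfl⟩
    have hdeg : irrDeg β = irrDeg β' := by
      have h1 := irrDeg_spec β
      rw [hβ, map_one, irrDeg_spec β'] at h1
      exact_mod_cast h1.symm
    have hβp : ¬ p ∣ irrDeg β := by
      rw [hdeg]
      intro hdvd
      apply hPNi
      have := hdvd.trans (irrDeg_dvd_card β')
      rwa [← Subgroup.index_eq_card] at this
    have hPker : (P : Subgroup G) ≤ irrKer (ext β hβp) := by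
      intro a ha
      rw [mem_irrKer, hext1 β hβp]
      have := hext β hβp ⟨a, hPN ha⟩
      rw [this, hβ, hβ]
      have ha' : QuotientGroup.mk' PN ⟨a, hPN ha⟩ = 1 := by
        rw [QuotientGroup.mk'_apply, QuotientGroup.eq_one_iff, hPNdef, Subgroup.mem_subgroupOf]
        exact ha
      rw [ha', map_one]
    have hLker : L ≤ irrKer (ext β hβp) := by
      rw [hL]
      exact Subgroup.normalClosure_le_normal hPker
    have h2 := hLker hxL
    rw [mem_irrKer, hext1 β hβp] at h2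
    have h3 := hext β hβp ⟨x, hxN⟩
    rw [h2, hβ, hβ, map_one] at h3
    exact hβ' h3.symm
  -- Step 2: the common kernel `K` of the chosen extensions meets `P` in `P'`.
  obtain ⟨K, hK⟩ : ∃ K : Subgroup G, K = ⨅ θ : {θ : IrrCharacter N // ¬ p ∣ irrDeg θ},
      irrKer (ext θ.1 θ.2) := ⟨_, rfl⟩
  haveI hKn : K.Normal := by
    rw [hK]
    exact Subgroup.normal_iInf_normal (fun θ => irrKer_normal _)
  have hKmem : ∀ x, x ∈ K ↔ ∀ (θ : IrrCharacter N) (hθ : ¬ p ∣ irrDeg θ),
      ((ext θ hθ : IrrCharacter G) : G → ℂ) x = (θ : N → ℂ) 1 := by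
    intro x
    rw [hK]
    simp only [Subgroup.mem_iInf, mem_irrKer]
    constructor
    · intro hx θ hθ
      rw [hx ⟨θ, hθ⟩, hext1]
    · intro hx θ
      rw [hx θ.1 θ.2, hext1]
  have hKP : K ⊓ (P : Subgroup G) ≤ ⁅(P : Subgroup G), (P : Subgroup G)⁆ := by
    intro x hx
    obtain ⟨hxK, hxP⟩ := Subgroup.mem_inf.mp hx
    have hx' : (⟨x, hPN hxP⟩ : N) ∈ ⁅PN, PN⁆ := by
      refine Cfsg.Agent.Helper29.PPK.mem_commutator_of_mem_kernels PN hPNi _ ?_ ?_
      · rw [hPNdef, Subgroup.mem_subgroupOf]; exact hxP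
      · intro θ hθ
        rw [← hext θ hθ ⟨x, hPN hxP⟩]
        exact (hKmem x).mp hxK θ hθ
    have : x ∈ (⁅PN, PN⁆).map N.subtype := ⟨_, hx', rfl⟩
    rwa [Subgroup.map_commutator, hPNmap] at this
  have hPK : ⁅(P : Subgroup G), (P : Subgroup G)⁆ ≤ K := by
    intro z hz
    rw [← hPNmap, ← Subgroup.map_commutator] at hz
    obtain ⟨z', hz', rfl⟩ := hz
    rw [hKmem]
    intro θ hθ
    rw [Subgroup.coe_subtype, hext θ hθ z']
    refine Cfsg.Agent.Helper29.PPK.apply_eq_of_mem_core PN hPNp ⊥ (by simp) θ hθ z' ?_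
    rw [bot_sup_eq, Subgroup.normalCore_eq_self]
    exact hz'
  -- Step 3: focal subgroup theorem inside `L`.
  have hLN' : L ⊓ Subgroup.normalizer ((P : Subgroup G) : Set G) ≤ P := by rw [← hN]; exact hLN
  have hfoc : ⁅L, L⁆ ⊓ (P : Subgroup G) ≤ ⁅(P : Subgroup G), (P : Subgroup G)⁆ := by
    refine commutator_inf_le_of_fusion P L _ hPL ?_
    intro x hx u hu hy
    refine hKP ⟨mul_inv_mem_of_conj P K L hPL hPK hLN' x u hx hu hy, ?_⟩
    exact Subgroup.mul_mem _ hx (Subgroup.inv_mem _ hy)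
  -- Step 4: Tate's theorem gives a normal `p`-complement of `L'`.
  haveI hLLn : (⁅L, L⁆).Normal := Subgroup.commutator_normal L L
  obtain ⟨Y, hYn, hYL, hYcop, hLY⟩ :=
    Cfsg.Agent.Helper29.PPK.exists_normal_pcomplement_image P ⁅L, L⁆ hfoc
  haveI := hYn
  have hLYP : L ≤ Y ⊔ (P : Subgroup G) := by
    rw [hL]
    refine normalClosure_le_sup P Y ?_
    rw [← hL]
    exact hLY.trans (sup_le_sup_left inf_le_right Y)
  refine ⟨Y, hYn, ?_, ?_⟩
  · -- Frattini
    have hfr : Subgroup.normalizer ((P : Subgroup G) : Set G) ⊔ L = ⊤ :=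
      Sylow.normalizer_sup_eq_top' P hPL
    rw [← hN] at hfr
    rw [eq_top_iff, ← hfr]
    refine sup_le le_sup_right (hLYP.trans (sup_le le_sup_left (hPN.trans le_sup_right)))
  · rw [eq_bot_iff]
    intro x hx
    obtain ⟨hxY, hxN⟩ := Subgroup.mem_inf.mp hx
    have hxP : x ∈ (P : Subgroup G) :=
      hLN ⟨(hYL.trans (Subgroup.commutator_le_right L L)) hxY, hxN⟩
    obtain ⟨k, hk⟩ := P.2 ⟨x, hxP⟩
    have hk' : x ^ p ^ k = 1 := by
      have := congrArg Subtype.val hk
      simpa using this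
    have h1 : orderOf x ∣ p ^ k := orderOf_dvd_of_pow_eq_one hk'
    have h2 : orderOf x ∣ Nat.card Y := Subgroup.orderOf_dvd_natCard Y hxY
    have h3 : (orderOf x).Coprime (orderOf x) :=
      Nat.Coprime.coprime_dvd_left h2 (Nat.Coprime.coprime_dvd_right h1 (hYcop.pow_right k))
    rw [Nat.coprime_self, orderOf_eq_one_iff] at h3
    rw [Subgroup.mem_bot]
    exact h3

end Forward

end Cfsg.Agent.Helper29.NormCompl
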