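import Mathlib
import Cfsg.Prelude

set_option autoImplicit false

/-! S3875 piece REDB: Frattini-type argument: `H = P N`, `N` a normal `p'`-subgroup, `P` not normal,
all proper subgroups `p`-closed ⇒ `N` is a `q`-group. -/

namespace Cfsg.Agent.S3875P

open scoped Pointwise

/-- A `P`-invariant Sylow `q`-subgroup of the normal `p'`-subgroup `N` (coprime action). -/
theorem exists_invariant_sylow {H : Type*} [Group H] [Finite H] {p : ℕ} [Fact p.Prime]
    (P : Sylow p H) (N : Subgroup H) [N.Normal] (hcop : ¬ p ∣ Nat.card N) (q : ℕ)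
    [Fact q.Prime] :
    ∃ T : Subgroup H, T ≤ N ∧ (P : Subgroup H) ≤ Subgroup.normalizer (T : Set H) ∧
      Nat.card T = q ^ (Nat.card N).factorization q ∧ IsPGroup q T := by
  let φ : (P : Subgroup H) →* MulAut N :=
    (MulAut.conjNormal (H := N)).comp (P : Subgroup H).subtype
  letI : MulAction (P : Subgroup H) (Sylow q N) := MulAction.compHom (Sylow q N) φ
  have hnd : ¬ p ∣ Nat.card (Sylow q N) := by
    intro h
    have S0 : Sylow q N := default
    exact hcop (h.trans ((S0.card_dvd_index).trans (Subgroup.index_dvd_card _)))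
  obtain ⟨S, hS⟩ := (P.isPGroup').nonempty_fixed_point_of_prime_not_dvd_card (Sylow q N) hnd
  have key : ∀ g ∈ (P : Subgroup H), ∀ t ∈ (S : Subgroup N).map N.subtype,
      g * t * g⁻¹ ∈ (S : Subgroup N).map N.subtype := by
    intro g hg t ht
    obtain ⟨s, hs, rfl⟩ := ht
    have h1 : (⟨g, hg⟩ : (P : Subgroup H)) • S = S := hS ⟨g, hg⟩
    have h2 : (MulAut.conjNormal g : MulAut N) s ∈
        (((⟨g, hg⟩ : (P : Subgroup H)) • S : Sylow q N) : Subgroup N) := by
      show _ ∈ ((MulAut.conjNormal g : MulAut N) • (S : Subgroup N))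
      exact Subgroup.smul_mem_pointwise_smul _ _ _ hs
    rw [h1] at h2
    exact ⟨_, h2, by simp [MulAut.conjNormal_apply]⟩
  refine ⟨(S : Subgroup N).map N.subtype, ?_, ?_, ?_, ?_⟩
  · rintro _ ⟨x, -, rfl⟩; exact x.2
  · intro g hg
    rw [Subgroup.mem_normalizer_iff]
    intro t
    constructor
    · exact key g hg t
    · intro h
      have := key g⁻¹ (inv_mem hg) _ h
      simpa [mul_assoc] using this
  · rw [← S.card_eq_multiplicity]
    exact Nat.card_congr
      ((S : Subgroup N).equivMapOfInjective N.subtype N.subtype_injective).symm.toEquiv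
  · exact S.isPGroup'.map N.subtype

/-- REDB. -/
theorem exists_prime_isPGroup {H : Type*} [Group H] [Finite H] {p : ℕ} [Fact p.Prime]
    (hsub : ∀ K : Subgroup H, K ≠ ⊤ → Cfsg.IsPClosed p ↥K)
    (P : Sylow p H) (hP : ¬ (P : Subgroup H).Normal)
    (N : Subgroup H) [N.Normal] (hsup : (P : Subgroup H) ⊔ N = ⊤) (hcop : ¬ p ∣ Nat.card N) :
    ∃ q : ℕ, q.Prime ∧ IsPGroup q N := by
  classical
  have hpp : p.Prime := Fact.out
  by_contra hcon
  push Not at hcon
  have hall : ∀ q : ℕ, q.Prime → q ^ (Nat.card N).factorization q ∣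
      Nat.card (N ⊓ Subgroup.normalizer ((P : Subgroup H) : Set H) : Subgroup H) := by
    intro q hq
    have : Fact q.Prime := ⟨hq⟩
    obtain ⟨T, hTN, hPT, hcard, hTq⟩ := exists_invariant_sylow P N hcop q
    by_cases hK : (P : Subgroup H) ⊔ T = ⊤
    · exfalso
      have hTn : T.Normal := by
        rw [← Subgroup.normalizer_eq_top_iff]
        apply top_le_iff.1; rw [← hK]; exact sup_le hPT Subgroup.le_normalizer
      have hdisj : (P : Subgroup H) ⊓ N = ⊥ := by
        apply Disjoint.eq_bot
        apply Subgroup.disjoint_of_coprime_natCard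
        rw [P.card_eq_multiplicity]
        exact Nat.Coprime.pow_left _ ((Nat.Prime.coprime_iff_not_dvd hpp).2 hcop)
      have hNT : N ≤ T := by
        intro n hn
        have hmem : n ∈ (P : Subgroup H) ⊔ T := by rw [hK]; trivial
        rw [Subgroup.mem_sup_of_normal_right] at hmem
        obtain ⟨x, hx, t, ht, rfl⟩ := hmem
        have hxN : x ∈ N := by
          have := N.mul_mem hn (N.inv_mem (hTN ht))
          simpa using this
        have hx1 : x = 1 := by
          have hmem2 : x ∈ (P : Subgroup H) ⊓ N := ⟨hx, hxN⟩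
          rw [hdisj] at hmem2; exact hmem2
        rw [hx1, one_mul]; exact ht
      have hEq : N = T := le_antisymm hNT hTN
      apply hcon q hq
      subst hEq
      exact hTq
    · have hKc := hsub _ hK
      have hPn := hKc (P.subtype le_sup_left)
      rw [Sylow.coe_subtype, Subgroup.normal_subgroupOf_iff_le_normalizer le_sup_left] at hPn
      have hT : T ≤ N ⊓ Subgroup.normalizer ((P : Subgroup H) : Set H) :=
        le_inf hTN (le_sup_right.trans hPn)
      rw [← hcard]
      exact Subgroup.card_dvd_of_le hT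
  have hdvd : Nat.card N ∣
      Nat.card (N ⊓ Subgroup.normalizer ((P : Subgroup H) : Set H) : Subgroup H) := by
    rw [← Nat.factorization_prime_le_iff_dvd (Nat.card_pos.ne') (Nat.card_pos.ne')]
    intro q hq
    exact (hq.pow_dvd_iff_le_factorization Nat.card_pos.ne').1 (hall q hq)
  have hN : N ≤ Subgroup.normalizer ((P : Subgroup H) : Set H) := by
    have h1 : N ⊓ Subgroup.normalizer ((P : Subgroup H) : Set H) = N :=
      Subgroup.eq_of_le_of_card_ge inf_le_left (Nat.le_of_dvd Nat.card_pos hdvd)
    rw [← h1]; exact inf_le_right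
  apply hP
  rw [← Subgroup.normalizer_eq_top_iff]
  apply top_le_iff.1; rw [← hsup]; exact sup_le Subgroup.le_normalizer hN

end Cfsg.Agent.S3875P
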