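import Mathlib
import Cfsg.Prelude
import Cfsg.Agent.Helper18.PSL27b
import Cfsg.Agent.Helper26.S3875REDA
import Cfsg.Agent.Helper26.S3875REDC
import Cfsg.Agent.Helper29.S3875REDB
import Cfsg.Agent.Helper14.S3875REDMgen
import Cfsg.Agent.Helper3.S3875PSLNC
import Cfsg.Agent.Helper3.S3875FROB
import Cfsg.Agent.S0999

set_option autoImplicit false

/-! S3875: SIMP + induction + existence. -/

namespace Cfsg.Agent.S3875P

/-- REDM: assembly of REDA/REDB/REDC (helper14's `REDM.simple_or_primePow_of`). -/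
theorem simple_or_primePow {H : Type*} [Group H] [Finite H] {p : ℕ} [Fact p.Prime]
    (hnc : ¬ Cfsg.IsPClosed p H)
    (hsub : ∀ K : Subgroup H, K ≠ ⊤ → Cfsg.IsPClosed p ↥K)
    (hquo : ∀ (N : Subgroup H) [N.Normal], N ≠ ⊥ → Cfsg.IsPClosed p (H ⧸ N)) :
    (IsSimpleGroup H ∧ ¬ IsCyclic H ∧ p ∣ Nat.card H) ∨
      ∃ n : ℕ, IsPrimePow n ∧ n % p = 1 ∧ p * n ≤ Nat.card H :=
  REDM.simple_or_primePow_of
    (fun P hP N _ h1 h2 => normal_facts hsub hquo P hP N h1 h2)
    (fun P hP N _ h1 h2 => exists_prime_isPGroup hsub P hP N h1 h2)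
    (fun P Z _ h => card_mod_of_fixedPointFree P Z h) hnc

/-- SIMP: a non-cyclic simple group of order divisible by the odd prime `p` has order at least
`p (p^2 - 1) / 2`. -/
theorem simple_bound {H : Type*} [Group H] [Finite H] [IsSimpleGroup H] (hH : ¬ IsCyclic H)
    (p : ℕ) (hp : p.Prime) (hp2 : p ≠ 2) (hdvd : p ∣ Nat.card H) :
    p * (p ^ 2 - 1) / 2 ≤ Nat.card H := by
  have hodd : p % 2 = 1 := hp.eq_two_or_odd.resolve_left hp2
  have hp3 : 3 ≤ p := by have := hp.two_le; omega
  by_cases hbig : Nat.card H < p ^ 3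
  · apply Nat.div_le_of_le_mul
    rcases Cfsg.Agent.S0999.result hH p hp hdvd hbig with ⟨F, _, _, hF, h3, ⟨e⟩⟩ | ⟨a, F, _, _, hF, hpa, h3, ⟨e⟩⟩
    · rw [Nat.card_congr e.toEquiv]
      have h := Cfsg.Agent.Helper18.PSL27.card_psl2 (F := F) p hF (by omega)
      have hg : Nat.gcd 2 (p - 1) = 2 := Nat.gcd_eq_left (by omega)
      rw [hg] at h
      obtain ⟨n, rfl⟩ : ∃ n, p = n + 1 := ⟨p - 1, by omega⟩
      have e1 : (n + 1) ^ 2 - 1 = n * (n + 2) := by
        have : (n + 1) ^ 2 = n * (n + 2) + 1 := by ring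
        omega
      have e2 : (n + 1) ^ 2 - (n + 1) = (n + 1) * n := by
        have : (n + 1) ^ 2 = (n + 1) * n + (n + 1) := by ring
        omega
      rw [e1, e2, Nat.add_sub_cancel] at h
      rw [e1]
      have hn : 0 < n := by omega
      have : 2 * Nat.card (Matrix.ProjectiveSpecialLinearGroup (Fin 2) F) * n
          = (n + 1) * (n * (n + 2)) * n := by
        rw [← mul_assoc] at h
        linarith
      exact le_of_eq (Nat.eq_of_mul_eq_mul_right hn this).symm
    · rw [Nat.card_congr e.toEquiv]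
      have hq4 : 4 ≤ 2 ^ a := by omega
      have h := Cfsg.Agent.Helper18.PSL27.card_psl2 (F := F) (2 ^ a) hF (by omega)
      have hg : Nat.gcd 2 (2 ^ a - 1) = 1 := by
        have ha : a ≠ 0 := by rintro rfl; simp at hq4
        have hev : 2 ∣ 2 ^ a := dvd_pow_self 2 ha
        have : (2 ^ a - 1) % 2 = 1 := by omega
        exact Nat.prime_two.coprime_iff_not_dvd.2 (by omega)
      rw [hg, mul_one] at h
      subst hpa
      generalize 2 ^ a = q at *
      obtain ⟨n, rfl⟩ : ∃ n, q = n + 1 := ⟨q - 1, by omega⟩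
      have e1 : (n + 1) ^ 2 - 1 = n * (n + 2) := by
        have : (n + 1) ^ 2 = n * (n + 2) + 1 := by ring
        omega
      have e2 : (n + 1) ^ 2 - (n + 1) = (n + 1) * n := by
        have : (n + 1) ^ 2 = (n + 1) * n + (n + 1) := by ring
        omega
      rw [e1, e2, Nat.add_sub_cancel] at h
      have hn : 0 < n := by omega
      have hc : Nat.card (Matrix.ProjectiveSpecialLinearGroup (Fin 2) F)
          = n * (n + 2) * (n + 1) := by
        apply Nat.eq_of_mul_eq_mul_right hn
        rw [h]; ring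
      rw [hc]
      have e3 : (n + 1 + 1) ^ 2 - 1 = (n + 1) * (n + 3) := by
        have : (n + 1 + 1) ^ 2 = (n + 1) * (n + 3) + 1 := by ring
        omega
      rw [e3]
      have hn3 : 3 ≤ n := by omega
      nlinarith [mul_le_mul hn3 hn3 (by omega) (by omega), mul_pos hn hn]
  · push Not at hbig
    calc p * (p ^ 2 - 1) / 2 ≤ p * (p ^ 2 - 1) := Nat.div_le_self _ _
      _ ≤ p * p ^ 2 := Nat.mul_le_mul_left p (Nat.sub_le _ _)
      _ = p ^ 3 := by ring
      _ ≤ _ := hbig

/-- The lower bound, by strong induction on the order. -/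
theorem lower_bound (p : ℕ) [Fact p.Prime] (hp : p ≠ 2) (m : ℕ)
    (hleast : ∀ k : ℕ, IsPrimePow k → k % p = 1 → m ≤ k) :
    ∀ (n : ℕ) (H : Type) [Group H] [Finite H], Nat.card H = n → ¬ Cfsg.IsPClosed p H →
      min (p * m) (p * (p ^ 2 - 1) / 2) ≤ Nat.card H := by
  intro n
  induction n using Nat.strong_induction_on with
  | _ n ih =>
    intro H _ _ hn hnc
    by_cases hsub : ∀ K : Subgroup H, K ≠ ⊤ → Cfsg.IsPClosed p ↥K
    · by_cases hquo : ∀ (N : Subgroup H) [N.Normal], N ≠ ⊥ → Cfsg.IsPClosed p (H ⧸ N)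
      · rcases simple_or_primePow hnc hsub hquo with ⟨hs, hncyc, hdvd⟩ | ⟨k, hk, hk1, hle⟩
        · exact le_trans (min_le_right _ _) (simple_bound hncyc p Fact.out hp hdvd)
        · exact le_trans (min_le_left _ _)
            (le_trans (Nat.mul_le_mul_left p (hleast k hk hk1)) hle)
      · push Not at hquo
        obtain ⟨N, hN, hNbot, hncN⟩ := hquo
        have hcard := Subgroup.card_eq_card_quotient_mul_card_subgroup N
        have h2 : 1 < Nat.card N := (Subgroup.one_lt_card_iff_ne_bot N).2 hNbot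
        have hpos : 0 < Nat.card (H ⧸ N) := Nat.card_pos
        have hlt : Nat.card (H ⧸ N) < n := by
          rw [← hn, hcard]
          nlinarith
        exact le_trans (ih _ hlt (H ⧸ N) rfl hncN) (by omega)
    · push Not at hsub
      obtain ⟨K, hK, hncK⟩ := hsub
      have hlt : Nat.card K < n := by
        rw [← hn]
        exact lt_of_le_of_ne (Subgroup.card_le_card_group K)
          (fun h => hK ((Subgroup.card_eq_iff_eq_top K).1 h))
      exact le_trans (ih _ hlt K rfl hncK) (by omega)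

/-- Existence of a non-`p`-closed group of the minimal order. -/
theorem exists_min (p : ℕ) [Fact p.Prime] (hp : p ≠ 2) (m : ℕ) (hm : IsPrimePow m)
    (hm1 : m % p = 1) (hleast : ∀ k : ℕ, IsPrimePow k → k % p = 1 → m ≤ k) :
    ∃ (H : Type) (_ : Group H) (_ : Finite H),
      Nat.card H = min (p * m) (p * (p ^ 2 - 1) / 2) ∧ ¬ Cfsg.IsPClosed p H := by
  have hpp : p.Prime := Fact.out
  by_cases h : p * m ≤ p * (p ^ 2 - 1) / 2
  · rw [min_eq_left h]
    exact exists_frobenius_npc p m hm hm1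
  · push Not at h
    rw [min_eq_right h.le]
    apply exists_psl_npc p
    by_contra hlt
    push Not at hlt
    have h2 := hpp.two_le
    have hp3 : p = 3 := by
      interval_cases p
      · exact absurd rfl hp
      · rfl
      · exact absurd hpp (by decide)
    subst hp3
    have h4 : m ≤ 4 := hleast 4 ⟨2, 2, Nat.prime_two.prime, by norm_num, by norm_num⟩ (by norm_num)
    norm_num at h
    omega

end Cfsg.Agent.S3875P
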