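import Mathlib
import Cfsg.Agent.Helper29.SchurPA
import Cfsg.Agent.Helper24.GlaubCyc
import Cfsg.Agent.Helper24.Clifford
import Cfsg.Agent.Helper24.Ito
import Cfsg.Agent.Helper8.IndTrans
import Cfsg.Agent.Helper24.Induced

set_option autoImplicit false

/-!
`p`-rationalisation of characters of a group with a normal `p`-complement (towards S4472).
-/

namespace Cfsg.Agent.Helper29.PRat

open Cfsg Cfsg.Agent.Helper24 Cfsg.Agent.Helper8 Cfsg.Agent.Helper29.SchurP

universe u

/-- stable under the automorphisms of `ℂ` fixing the `m`-th roots of unity -/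
def GalStable (m : ℕ) {H : Type*} (f : H → ℂ) : Prop :=
  ∀ τ : ℂ ≃+* ℂ, (∀ μ : ℂ, μ ^ m = 1 → τ μ = μ) → ∀ h, τ (f h) = f h

theorem GalStable.add {m : ℕ} {H : Type*} {f g : H → ℂ} (hf : GalStable m f)
    (hg : GalStable m g) : GalStable m (f + g) := by
  intro τ hτ h
  rw [Pi.add_apply, map_add, hf τ hτ, hg τ hτ]

theorem galStable_zero {m : ℕ} {H : Type*} : GalStable m (0 : H → ℂ) := by
  intro τ _ h
  simp

/-- characters of a group of order dividing `m` are stable -/
theorem galStable_char {K : Type*} [Group K] [Finite K] {m : ℕ} (hm : Nat.card K ∣ m)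
    {θ : K → ℂ} (hθ : IsCharacter K θ) : GalStable m θ := by
  intro τ hτ k
  obtain ⟨n, ρ, rfl⟩ := hθ
  rw [char_eq_sum_eigen, map_sum]
  apply Finset.sum_congr rfl
  intro μ hμ
  rw [map_mul, map_natCast]
  congr 1
  apply hτ
  have h1 := rho_eigenvalue_pow ρ k (mem_eigenFinset.mp hμ)
  obtain ⟨c, hc⟩ := (orderOf_dvd_natCard k).trans hm
  rw [hc, pow_mul, h1, one_pow]

section Canonical

variable {T : Type u} [Group T] [Finite T] (N : Subgroup T) [hN : N.Normal]

/-- the canonical extension of an invariant irreducible character of a normal Hall subgroup,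
which is stable under the Galois automorphisms fixing the `|N|`-th roots of unity -/
theorem exists_stable_extension (hcop : (Nat.card N).Coprime N.index) (θ : N → ℂ)
    (hθ : IsIrrCharacter N θ)
    (hinv : ∀ (g : T) (n : N), θ ⟨g * n * g⁻¹, hN.conj_mem (n : T) n.2 g⟩ = θ n) :
    ∃ χ : T → ℂ, IsIrrCharacter T χ ∧ (∀ n : N, χ n = θ n) ∧ GalStable (Nat.card N) χ := by
  have hd : θ 1 = (irrDeg (⟨θ, hθ⟩ : IrrCharacter N) : ℂ) := irrDeg_spec (⟨θ, hθ⟩ : IrrCharacter N)
  have hcop' : Nat.Coprime N.index (detOrder θ * irrDeg (⟨θ, hθ⟩ : IrrCharacter N)) := by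
    apply Nat.Coprime.mul_right
    · exact (Nat.Coprime.coprime_dvd_left (detOrder_dvd_card hθ) hcop).symm
    · exact (Nat.Coprime.coprime_dvd_left (irrDeg_dvd_card _) hcop).symm
  obtain ⟨χ, ⟨hχ, hχN, hχo⟩, huniq⟩ := coprime_unique_extension N θ hθ hinv _ hd hcop'
  refine ⟨χ, hχ, hχN, ?_⟩
  intro τ hτ
  have hτχ : IsIrrCharacter T (fun g => τ (χ g)) := isIrrCharacter_ringEquiv_comp τ hχ
  have hres : ∀ n : N, (fun g => τ (χ g)) n = θ n := by
    intro n
    show τ (χ n) = θ n
    rw [hχN]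
    exact galStable_char (dvd_refl _) (IsIrrCharacter.isCharacter hθ) τ hτ n
  have hdo : detOrder (fun g => τ (χ g)) = detOrder χ := detOrder_ringEquiv_comp τ hχ hτχ
  have hc2 : Nat.Coprime N.index (detOrder (fun g => τ (χ g))) := by
    rw [hdo, hχo]
    exact (Nat.Coprime.coprime_dvd_left (detOrder_dvd_card hθ) hcop).symm
  have h1 := huniq _ hτχ hres hc2
  intro h
  exact congrFun h1 h

end Canonical

end Cfsg.Agent.Helper29.PRat
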