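import Mathlib
import Cfsg.Agent.Helper29.PRatA
import Cfsg.Agent.Helper24.OddInduced

set_option autoImplicit false

/-!
`p`-rationalisation, one orbit: the character induced from the canonical extension to the
inertia group.
-/

namespace Cfsg.Agent.Helper29.PRat

open Cfsg Cfsg.Agent.Helper24 Cfsg.Agent.Helper8 Cfsg.Agent.Helper29.SchurP

universe u

section Step

variable {H : Type u} [Group H] [Fintype H] (K : Subgroup H) [hK : K.Normal] [Fintype K]

theorem exists_orbit_char (hcop : (Nat.card K).Coprime K.index) (θ : K → ℂ)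
    (hθ : IsIrrCharacter K θ) :
    ∃ η : H → ℂ, IsCharacter H η ∧ GalStable (Nat.card K) η ∧ η 1 ≠ 0 ∧
      ∀ θ'' : K → ℂ, IsIrrCharacter K θ'' →
        (classInner (fun k : K => η k) θ'' = 0 ∨
          (classInner (fun k : K => η k) θ'' = 1 ∧ ∃ x : H, θ'' = Helper24.conjFun K θ x)) := by
  classical
  have hcf : IsClassFunction K θ := IsCharacter.isClassFunction (IsIrrCharacter.isCharacter hθ)
  set T := inertiaSubgroup K θ with hT
  have hKT : K ≤ T := le_inertiaSubgroup K θ hcf
  haveI : Fintype T := Fintype.ofFinite T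
  haveI : Fintype (IrrCharacter K) := Fintype.ofFinite _
  set N : Subgroup T := K.subgroupOf T with hNdef
  haveI hNn : N.Normal := Subgroup.normal_subgroupOf
  have hcardN : Nat.card N = Nat.card K := card_subgroupOf_of_le hKT
  have hidxN : N.index ∣ K.index := by
    have h1 := Subgroup.relIndex_mul_index hKT
    exact Dvd.intro _ h1
  have hcopN : (Nat.card N).Coprime N.index := by
    rw [hcardN]
    exact Nat.Coprime.coprime_dvd_right hidxN hcop
  set θT : N → ℂ := toSubgroupOf K T θ with hθT
  have hθTirr : IsIrrCharacter N θT := by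
    have h1 := isIrrCharacter_comp_surjective (Subgroup.subgroupOfEquivOfLe hKT).toMonoidHom
      (Subgroup.subgroupOfEquivOfLe hKT).surjective hθ
    exact h1
  have hinvT : ∀ (g : T) (n : N), θT ⟨g * n * g⁻¹, hNn.conj_mem (n : T) n.2 g⟩ = θT n := by
    intro g n
    have h1 := (mem_inertiaSubgroup K θ (g : H)).mp g.2
      ⟨((n : T) : H), Subgroup.mem_subgroupOf.mp n.2⟩
    exact h1
  obtain ⟨χ, hχ, hχN, hχs⟩ := exists_stable_extension N hcopN θT hθTirr hinvT
  refine ⟨indFun T χ, isCharacter_indFun T (IsIrrCharacter.isCharacter hχ), ?_, ?_, ?_⟩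
  · intro τ hτ h
    have h1 := congrFun (ringEquiv_indFun T χ τ) h
    rw [h1]
    congr 2
    funext t
    exact hχs τ (by rw [hcardN]; exact hτ) t
  · rw [Cfsg.Agent.Helper5.indFun_apply_one]
    intro h
    rcases mul_eq_zero.mp h with h | h
    · have : T.index ≠ 0 := Subgroup.index_ne_zero_of_finite
      exact this (by exact_mod_cast h)
    · exact irr_one_ne_zero ⟨χ, hχ⟩ h
  · intro θ'' hθ''
    -- the restriction formula
    have hres : (fun k : K => indFun T χ k) =
        ((Nat.card T : ℂ)⁻¹) • ∑ x : H, Helper24.conjFun K θ x⁻¹ := by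
      funext k
      rw [indFun_def, Pi.smul_apply, Finset.sum_apply, smul_eq_mul]
      congr 1
      apply Finset.sum_congr rfl
      intro x _
      have hmemK : x⁻¹ * (k : H) * x ∈ K := by
        have := hK.conj_mem k k.2 x⁻¹
        simpa using this
      rw [ebz_mem T χ (hKT hmemK)]
      have h2 := hχN ⟨⟨x⁻¹ * (k : H) * x, hKT hmemK⟩, Subgroup.mem_subgroupOf.mpr hmemK⟩
      rw [h2, conjFun_apply]
      show θ ⟨x⁻¹ * (k : H) * x, _⟩ = θ ⟨x⁻¹ * (k : H) * x⁻¹⁻¹, _⟩
      congr 1
      apply Subtype.ext
      simp
    have hinner : classInner (fun k : K => indFun T χ k) θ'' =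
        (Nat.card T : ℂ)⁻¹ * ((Finset.univ.filter (fun x : H => Helper24.conjFun K θ x⁻¹ = θ'')).card : ℂ) := by
      rw [hres, Helper24.classInner_smul_left, Helper24.classInner_sum_left]
      congr 1
      rw [Finset.sum_congr rfl (fun x _ => classInner_of_isIrrCharacter
        (isIrrCharacter_conjFun K hθ x⁻¹) hθ''), Finset.sum_boole]
    obtain ⟨e, he⟩ := IsCharacter.classInner_nat
      (isCharacter_restrict K (isCharacter_indFun T (IsIrrCharacter.isCharacter hχ)))
      (IsIrrCharacter.isCharacter hθ'')
    set S := Finset.univ.filter (fun x : H => Helper24.conjFun K θ x⁻¹ = θ'') with hS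
    have hT0 : (Nat.card T : ℂ) ≠ 0 := Nat.cast_ne_zero.mpr Nat.card_pos.ne'
    have hcount : Nat.card T * e = S.card := by
      have h1 : ((Nat.card T * e : ℕ) : ℂ) = (S.card : ℂ) := by
        push_cast
        rw [← he, hinner, ← mul_assoc, mul_inv_cancel₀ hT0, one_mul]
      exact_mod_cast h1
    rcases Finset.eq_empty_or_nonempty S with hemp | ⟨x₀, hx₀⟩
    · left
      rw [hinner, hemp]
      simp
    · right
      rw [hS, Finset.mem_filter] at hx₀
      refine ⟨?_, x₀⁻¹, hx₀.2.symm⟩
      have hmemT : ∀ x ∈ S, x⁻¹ * x₀ ∈ T := by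
        intro x hx
        rw [hS, Finset.mem_filter] at hx
        show Helper24.conjFun K θ (x⁻¹ * x₀) = θ
        rw [← conjFun_conjFun, hx.2, ← hx₀.2, conjFun_conjFun, inv_mul_cancel, conjFun_one]
      have hle : S.card ≤ Nat.card T := by
        have h1 : (Finset.univ.filter (fun x : H => x ∈ T)).card = Nat.card T := by
          rw [Nat.card_eq_fintype_card, Fintype.card_subtype]
        rw [← h1]
        apply Finset.card_le_card_of_injOn (fun x => x⁻¹ * x₀)
        · intro x hx
          rw [Finset.mem_coe, Finset.mem_filter]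
          exact ⟨Finset.mem_univ _, hmemT x hx⟩
        · intro x _ y _ hxy
          simp only at hxy
          exact inv_injective (mul_right_cancel hxy)
      have hpos : 0 < S.card := Finset.card_pos.mpr ⟨x₀, by rw [hS, Finset.mem_filter]; exact hx₀⟩
      have hTpos : 0 < Nat.card T := Nat.card_pos
      have he1 : e = 1 := by
        rcases Nat.lt_or_ge e 1 with h | h
        · have : e = 0 := by omega
          rw [this, mul_zero] at hcount
          omega
        · rcases Nat.lt_or_ge 1 e with h2 | h2
          · have : Nat.card T * 2 ≤ Nat.card T * e := Nat.mul_le_mul_left _ h2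
            omega
          · omega
      rw [he, he1]
      simp

end Step


section Main

variable {H : Type u} [Group H] [Fintype H] (K : Subgroup H) [hK : K.Normal] [Fintype K]

/-- **`p`-rationalisation**: if `K` is a normal Hall subgroup of `H`, every class function of `H`
restricting to a character of `K` agrees on `K` with a character of `H` that is stable under all
field automorphisms fixing the `|K|`-th roots of unity. -/
theorem exists_stable_char (hcop : (Nat.card K).Coprime K.index) :
    ∀ (n : ℕ) (Ψ : H → ℂ), IsClassFunction H Ψ → IsCharacter K (fun k : K => Ψ k) →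
      Ψ 1 = (n : ℂ) →
      ∃ χ' : H → ℂ, IsCharacter H χ' ∧ (∀ k : K, χ' k = Ψ k) ∧ GalStable (Nat.card K) χ' := by
  classical
  haveI : Fintype (IrrCharacter K) := Fintype.ofFinite _
  intro n
  induction n using Nat.strong_induction_on with
  | _ n ih =>
  intro Ψ hcf hchar hdeg
  by_cases h0 : (fun k : K => Ψ k) = 0
  · refine ⟨0, isCharacter_zero, ?_, galStable_zero⟩
    intro k
    have := congrFun h0 k
    simp only [Pi.zero_apply] at this ⊢
    exact this.symm
  · obtain ⟨θ, hθ⟩ := IsCharacter.exists_irr_constituent hchar h0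
    obtain ⟨η, hηc, hηs, hη1, hηK⟩ := exists_orbit_char K hcop (θ : K → ℂ) θ.2
    have hηcf : IsClassFunction H η := IsCharacter.isClassFunction hηc
    have hcf' : IsClassFunction H (Ψ - η) := by
      intro g h
      rw [Pi.sub_apply, Pi.sub_apply, hcf g h, hηcf g h]
    have hresK : (fun k : K => (Ψ - η) k) = (fun k : K => Ψ k) - (fun k : K => η k) := rfl
    have hchar' : IsCharacter K (fun k : K => (Ψ - η) k) := by
      apply isCharacter_of_classInner_nat
      · intro k h
        have := hcf' (k : H) (h : H)
        exact this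
      · intro θ''
        rw [hresK, Helper24.classInner_sub_left]
        obtain ⟨a, ha⟩ := IsCharacter.classInner_nat hchar (IsIrrCharacter.isCharacter θ''.2)
        rcases hηK (θ'' : K → ℂ) θ''.2 with h1 | ⟨h1, x, hx⟩
        · exact ⟨a, by rw [ha, h1, sub_zero]⟩
        · have h2 : classInner (fun k : K => Ψ k) (θ'' : K → ℂ) =
              classInner (fun k : K => Ψ k) (θ : K → ℂ) := by
            rw [hx, classInner_restrict_conjFun K hcf]
          have ha0 : a ≠ 0 := by
            intro h
            apply hθ
            rw [← h2, ha, h]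
            simp
          refine ⟨a - 1, ?_⟩
          rw [ha, h1]
          have : 1 ≤ a := Nat.one_le_iff_ne_zero.mpr ha0
          push_cast [Nat.cast_sub this]
          ring
    obtain ⟨n', hn'⟩ := isCharacter_one hchar'
    obtain ⟨e', he'⟩ := isCharacter_one hηc
    have he'0 : e' ≠ 0 := by
      intro h
      apply hη1
      rw [he', h]
      simp
    have hn'1 : (Ψ - η) 1 = (n' : ℂ) := hn'
    have hlt : n' < n := by
      have h1 : (n' : ℂ) + (e' : ℂ) = (n : ℂ) := by
        rw [← hn'1, ← he', ← hdeg, Pi.sub_apply]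
        ring
      have h2 : n' + e' = n := by exact_mod_cast h1
      omega
    obtain ⟨χ'', hχ''c, hχ''K, hχ''s⟩ := ih n' hlt (Ψ - η) hcf' hchar' hn'1
    refine ⟨χ'' + η, IsCharacter.add hχ''c hηc, ?_, GalStable.add hχ''s hηs⟩
    intro k
    rw [Pi.add_apply, hχ''K k, Pi.sub_apply]
    ring

end Main

end Cfsg.Agent.Helper29.PRat
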