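import Mathlib
import Cfsg.Agent.Helper8.GaloisChar
import Cfsg.Agent.Helper8.CharComp
import Cfsg.Agent.Helper24.GlaubPoly
import Cfsg.Agent.Helper24.Product
import Cfsg.Agent.Helper24.Expansion
import Cfsg.Agent.Helper24.Linear
import Cfsg.Agent.Helper23.EigenMult
import Cfsg.Agent.Helper23.CharGalois

set_option autoImplicit false

/-!
# Schur's bound for the Sylow `p`-exponent of a group with a faithful `p`-rational character
-/

namespace Cfsg.Agent.Helper29.SchurB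


open Cfsg Cfsg.Agent.Helper24 Cfsg.Agent.Helper23 Cfsg.Agent.Helper8 Module

/-- the fixed field of a ring automorphism of `ℂ` -/
noncomputable def fixedIF (τ : ℂ ≃+* ℂ) : IntermediateField ℚ ℂ where
  carrier := {z | τ z = z}
  mul_mem' := by
    intro a b ha hb
    simp only [Set.mem_setOf_eq] at *
    rw [map_mul, ha, hb]
  one_mem' := map_one τ
  add_mem' := by
    intro a b ha hb
    simp only [Set.mem_setOf_eq] at *
    rw [map_add, ha, hb]
  zero_mem' := map_zero τ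
  algebraMap_mem' := by
    intro q
    simp
  inv_mem' := by
    intro a ha
    simp only [Set.mem_setOf_eq] at *
    rw [map_inv₀, ha]

theorem fix_adjoin (τ : ℂ ≃+* ℂ) (ζ : ℂ) (h : τ ζ = ζ) (z : ℂ)
    (hz : z ∈ IntermediateField.adjoin ℚ ({ζ} : Set ℂ)) : τ z = z := by
  have hle : IntermediateField.adjoin ℚ ({ζ} : Set ℂ) ≤ fixedIF τ := by
    rw [IntermediateField.adjoin_le_iff]
    intro w hw
    rw [Set.mem_singleton_iff] at hw
    subst hw
    exact h
  exact hle hz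

theorem galois_fix {G : Type*} [Group G] [Finite G] {χ : G → ℂ} (hχ : IsCharacter G χ)
    (r : ℕ) (hr : 0 < r)
    (hrat : ∀ g : G, χ g ∈ IntermediateField.adjoin ℚ
      ({Complex.exp (2 * Real.pi * Complex.I / r)} : Set ℂ))
    (k : ℕ) (hk : k.Coprime (Nat.card G * r)) (hk1 : k ≡ 1 [MOD r]) (g : G) :
    χ (g ^ k) = χ g := by
  obtain ⟨τ, hτ⟩ := exists_complex_aut_pow (Nat.card G * r) (Nat.mul_pos Nat.card_pos hr) k hk
  have hζ : (Complex.exp (2 * Real.pi * Complex.I / r)) ^ r = 1 := by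
    have := (Complex.isPrimitiveRoot_exp r hr.ne').pow_eq_one
    exact this
  have h1 : τ (Complex.exp (2 * Real.pi * Complex.I / r)) =
      Complex.exp (2 * Real.pi * Complex.I / r) := by
    rw [hτ _ (by rw [pow_mul', hζ, one_pow])]
    rw [pow_eq_pow_mod k hζ, hk1, ← pow_eq_pow_mod 1 hζ, pow_one]
  have h2 : τ (χ g) = χ g := fix_adjoin τ _ h1 _ (hrat g)
  obtain ⟨n, ρ, rfl⟩ := hχ
  let σ' : cyclo (Nat.card G) →ₐ[ℚ] ℂ :=
    ((τ : ℂ →+* ℂ).comp (algebraMap (cyclo (Nat.card G)) ℂ)).toRatAlgHom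
  have h := embedding_char ρ σ' k (fun μ hμ => hτ μ (by rw [pow_mul, hμ, one_pow])) g
  rw [← h2]
  exact h.symm




theorem exists_k (p : ℕ) (hp : p.Prime) (N r : ℕ) (hN : 0 < N) (hr : 0 < r) (hpr : ¬ p ∣ r)
    (j : ℕ) (hj : j.Coprime p) :
    ∃ k : ℕ, k.Coprime (N * r) ∧ k ≡ 1 [MOD r] ∧ k ≡ j [MOD p ^ N.factorization p] := by
  set a := N.factorization p with ha
  set m' := N / p ^ a with hm'
  have hNeq : p ^ a * m' = N := Nat.ordProj_mul_ordCompl_eq_self N p
  have hcop1 : p.Coprime m' := Nat.coprime_ordCompl hp hN.ne'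
  have hcop2 : p.Coprime r := (Nat.Prime.coprime_iff_not_dvd hp).mpr hpr
  have hcop : (p ^ a).Coprime (r * m') :=
    Nat.Coprime.pow_left a (Nat.Coprime.mul_right hcop2 hcop1)
  obtain ⟨k, hk1, hk2⟩ := Nat.chineseRemainder hcop j 1
  refine ⟨k, ?_, ?_, hk1⟩
  · have e : N * r = p ^ a * (r * m') := by rw [← hNeq]; ring
    rw [e]
    apply Nat.Coprime.mul_right
    · have : k.gcd (p ^ a) = j.gcd (p ^ a) := Nat.ModEq.gcd_eq hk1
      unfold Nat.Coprime
      rw [this]
      exact Nat.Coprime.pow_right a hj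
    · have : k.gcd (r * m') = Nat.gcd 1 (r * m') := Nat.ModEq.gcd_eq hk2
      unfold Nat.Coprime
      rw [this]
      exact Nat.gcd_one_left _
  · exact Nat.ModEq.of_mul_right m' hk2

theorem sum_range_mul' {M : Type*} [AddCommMonoid M] (f : ℕ → M) (q p : ℕ) :
    ∑ j ∈ Finset.range (q * p), f j = ∑ i ∈ Finset.range q, ∑ s ∈ Finset.range p, f (i * p + s) := by
  induction q with
  | zero => simp
  | succ q ih =>
    rw [Nat.succ_mul, Finset.sum_range_add, ih, Finset.sum_range_succ]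



section Elt

universe u v
variable {G : Type u} [Group G] [Finite G]
variable {V : Type v} [AddCommGroup V] [Module ℂ V] [FiniteDimensional ℂ V]

/-- integrality and congruence -/
theorem elt_int (p : ℕ) [hp : Fact p.Prime] (ρ : Representation ℂ G V) (x : G) (k : ℕ)
    (hx : x ^ (p ^ (k + 1)) = 1)
    (hinv : ∀ j : ℕ, j.Coprime p → ρ.character (x ^ j) = ρ.character x) :
    ∃ c : ℤ, ρ.character x = c ∧ c ≡ (finrank ℂ V : ℤ) [ZMOD p] := by
  classical
  have hord : orderOf x ∣ p ^ (k + 1) := orderOf_dvd_of_pow_eq_one hx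
  have hμpow : ∀ μ ∈ eigenFinset (ρ x), μ ^ (p ^ (k + 1)) = 1 := by
    intro μ hμ
    have h1 := rho_eigenvalue_pow ρ x (mem_eigenFinset.mp hμ)
    obtain ⟨d, hd⟩ := hord
    rw [hd, pow_mul, h1, one_pow]
  obtain ⟨a', ha', hcong⟩ := rootSum_int_prime_pow
    (ι := {μ // μ ∈ eigenFinset (ρ x)}) p k
    (fun i => finrank ℂ (Module.End.eigenspace (ρ x) i.1)) (fun i => i.1)
    (fun i => hμpow i.1 i.2) (ρ.character x) (by
      intro j hj
      have hjp : j.Coprime p :=
        Nat.Coprime.coprime_dvd_right (dvd_pow_self p (Nat.succ_ne_zero k)) hj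
      rw [← hinv j hjp, EM.char_pow_eq_sum_eigen ρ x j]
      rw [← Finset.sum_coe_sort (eigenFinset (ρ x))]
      refine Finset.sum_congr rfl ?_
      intro i _
      rw [mul_comm])
  refine ⟨a', ha', ?_⟩
  have hdim := finrank_eq_sum_eigen ρ x
  rw [← Finset.sum_coe_sort (eigenFinset (ρ x))] at hdim
  have hdim' : (finrank ℂ V : ℤ) =
      ∑ i : {μ // μ ∈ eigenFinset (ρ x)}, (finrank ℂ (Module.End.eigenspace (ρ x) i.1) : ℤ) := by
    have : ((finrank ℂ V : ℤ) : ℂ) = ((∑ i : {μ // μ ∈ eigenFinset (ρ x)},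
        (finrank ℂ (Module.End.eigenspace (ρ x) i.1) : ℤ) : ℤ) : ℂ) := by
      push_cast
      exact hdim
    exact_mod_cast this
  rw [hdim']
  exact hcong.symm





/-- lower bound -/
theorem elt_lower (p : ℕ) [hp : Fact p.Prime] (ρ : Representation ℂ G V) (x : G) (k : ℕ)
    (hx : x ^ (p ^ (k + 1)) = 1)
    (hinv : ∀ j : ℕ, j.Coprime p → ρ.character (x ^ j) = ρ.character x)
    (c : ℤ) (hc : ρ.character x = c) :
    0 ≤ ((p : ℤ) - 1) * c + (finrank ℂ V : ℤ) := by
  classical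
  have hp0 : 0 < p := hp.out.pos
  set E := eigenFinset (ρ x) with hE
  set w : ℂ → ℕ := fun μ => finrank ℂ (Module.End.eigenspace (ρ x) μ) with hw
  have hord : orderOf x ∣ p ^ (k + 1) := orderOf_dvd_of_pow_eq_one hx
  have hμpow : ∀ μ ∈ E, μ ^ (p ^ (k + 1)) = 1 := by
    intro μ hμ
    have h1 := rho_eigenvalue_pow ρ x (mem_eigenFinset.mp hμ)
    obtain ⟨d, hd⟩ := hord
    rw [hd, pow_mul, h1, one_pow]
  have hχj : ∀ j : ℕ, ρ.character (x ^ j) = ∑ μ ∈ E, μ ^ j * (w μ : ℂ) :=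
    fun j => EM.char_pow_eq_sum_eigen ρ x j
  set q' := p ^ k with hq'
  have hq'0 : 0 < q' := pow_pos hp0 k
  have hqq : p ^ (k + 1) = q' * p := pow_succ p k
  -- the sum A computed by splitting
  have hA1 : ∑ j ∈ Finset.range (q' * p), ρ.character (x ^ j) =
      ∑ i ∈ Finset.range q', ρ.character (x ^ (i * p)) + (q' : ℂ) * ((p : ℂ) - 1) * c := by
    rw [sum_range_mul']
    have hin : ∀ i ∈ Finset.range q', ∑ s ∈ Finset.range p, ρ.character (x ^ (i * p + s)) =
        ρ.character (x ^ (i * p)) + ((p : ℂ) - 1) * c := by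
      intro i _
      rw [Finset.range_eq_Ico, Finset.sum_eq_sum_Ico_succ_bot hp0]
      congr 1
      have : ∀ s ∈ Finset.Ico (0 + 1) p, ρ.character (x ^ (i * p + s)) = (c : ℂ) := by
        intro s hs
        rw [Finset.mem_Ico] at hs
        rw [← hc]
        apply hinv
        have h1 : s.Coprime p := by
          apply Nat.Coprime.symm
          rw [Nat.Prime.coprime_iff_not_dvd hp.out]
          intro hd
          have := Nat.le_of_dvd (by omega) hd
          omega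
        rw [Nat.coprime_mul_right_add_left]
        exact h1
      rw [Finset.sum_congr rfl this, Finset.sum_const, Nat.card_Ico, nsmul_eq_mul]
      rw [Nat.cast_sub (by omega)]
      simp
    rw [Finset.sum_congr rfl hin, Finset.sum_add_distrib, Finset.sum_const, Finset.card_range,
      nsmul_eq_mul]
    ring
  -- A via eigenvalues
  have hA2 : ∑ j ∈ Finset.range (q' * p), ρ.character (x ^ j) =
      ∑ μ ∈ E, (if μ = 1 then ((q' * p : ℕ) : ℂ) else 0) * (w μ : ℂ) := by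
    simp_rw [hχj]
    rw [Finset.sum_comm]
    refine Finset.sum_congr rfl ?_
    intro μ hμ
    rw [← Finset.sum_mul, EM.sum_pow_of_pow_eq_one (by rw [← hqq]; exact hμpow μ hμ)]
  have hB2 : ∑ i ∈ Finset.range q', ρ.character (x ^ (i * p)) =
      ∑ μ ∈ E, (if μ ^ p = 1 then (q' : ℂ) else 0) * (w μ : ℂ) := by
    simp_rw [hχj]
    rw [Finset.sum_comm]
    refine Finset.sum_congr rfl ?_
    intro μ hμ
    have : ∀ i ∈ Finset.range q', μ ^ (i * p) * (w μ : ℂ) = (μ ^ p) ^ i * (w μ : ℂ) := by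
      intro i _
      rw [mul_comm i p, pow_mul]
    rw [Finset.sum_congr rfl this, ← Finset.sum_mul,
      EM.sum_pow_of_pow_eq_one (by rw [← pow_mul, mul_comm, ← hqq]; exact hμpow μ hμ)]
  have hdim := finrank_eq_sum_eigen ρ x
  -- define natural numbers
  set N1 : ℕ := ∑ μ ∈ E, if μ = 1 then w μ else 0 with hN1
  set Np : ℕ := ∑ μ ∈ E, if μ ^ p = 1 then w μ else 0 with hNp
  have hNp_le : Np ≤ finrank ℂ V := by
    have h1 : (finrank ℂ V : ℕ) = ∑ μ ∈ E, w μ := by
      have : ((finrank ℂ V : ℕ) : ℂ) = ((∑ μ ∈ E, w μ : ℕ) : ℂ) := by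
        push_cast
        exact hdim
      exact_mod_cast this
    rw [h1]
    apply Finset.sum_le_sum
    intro μ _
    split_ifs <;> omega
  have hA3 : ∑ μ ∈ E, (if μ = 1 then ((q' * p : ℕ) : ℂ) else 0) * (w μ : ℂ) =
      ((q' * p * N1 : ℕ) : ℂ) := by
    rw [hN1]
    push_cast
    rw [Finset.mul_sum]
    refine Finset.sum_congr rfl ?_
    intro μ _
    split_ifs <;> simp
  have hB3 : ∑ μ ∈ E, (if μ ^ p = 1 then (q' : ℂ) else 0) * (w μ : ℂ) = ((q' * Np : ℕ) : ℂ) := by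
    rw [hNp]
    push_cast
    rw [Finset.mul_sum]
    refine Finset.sum_congr rfl ?_
    intro μ _
    split_ifs <;> simp
  have hkey : ((q' * p * N1 : ℕ) : ℂ) = ((q' * Np : ℕ) : ℂ) + (q' : ℂ) * ((p : ℂ) - 1) * c := by
    rw [← hA3, ← hA2, hA1, hB2, hB3]
  have hkeyZ : ((q' * p * N1 : ℕ) : ℤ) = ((q' * Np : ℕ) : ℤ) + (q' : ℤ) * ((p : ℤ) - 1) * c := by
    have : (((q' * p * N1 : ℕ) : ℤ) : ℂ) =
        ((((q' * Np : ℕ) : ℤ) + (q' : ℤ) * ((p : ℤ) - 1) * c : ℤ) : ℂ) := by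
      push_cast
      push_cast at hkey
      exact hkey
    exact_mod_cast this
  have hq'Z : (0 : ℤ) < (q' : ℤ) := by exact_mod_cast hq'0
  have h2 : (q' : ℤ) * (((p : ℤ) - 1) * c + (finrank ℂ V : ℤ)) =
      (q' : ℤ) * ((p : ℤ) * N1 + ((finrank ℂ V : ℤ) - Np)) := by
    push_cast at hkeyZ
    linear_combination -hkeyZ
  have h3 : ((p : ℤ) - 1) * c + (finrank ℂ V : ℤ) = (p : ℤ) * N1 + ((finrank ℂ V : ℤ) - Np) :=
    mul_left_cancel₀ hq'Z.ne' h2
  rw [h3]
  have : (Np : ℤ) ≤ (finrank ℂ V : ℤ) := by exact_mod_cast hNp_le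
  have : (0 : ℤ) ≤ (p : ℤ) * N1 := by positivity
  linarith


end Elt


section Dvd

variable {P : Type*} [Group P] [Fintype P]

theorem sum_char_dvd {ψ : P → ℂ} (hψ : IsCharacter P ψ) :
    ∃ m : ℕ, ∑ x : P, ψ x = (Nat.card P : ℂ) * m := by
  haveI : Fintype (IrrCharacter P) := Fintype.ofFinite _
  obtain ⟨m, hm⟩ := IsCharacter.classInner_nat hψ (isCharacter_const_one (G := P))
  refine ⟨m, ?_⟩
  unfold classInner at hm
  simp only [map_one, mul_one] at hm
  have hne : (Nat.card P : ℂ) ≠ 0 := by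
    have : 0 < Nat.card P := Nat.card_pos
    exact_mod_cast this.ne'
  rw [← hm, ← mul_assoc, mul_inv_cancel₀ hne, one_mul]

/-- the polynomial-in-character sum is divisible by the group order -/
theorem sum_prod_dvd {ψ : P → ℂ} (hψ : IsCharacter P ψ) (s : ℕ → ℤ) (T : ℕ) :
    ∀ j : ℕ, ∃ z : ℤ, ∑ x : P, ψ x ^ j * ∏ t ∈ Finset.range T, (ψ x - (s t : ℂ)) =
      (Nat.card P : ℂ) * z := by
  induction T with
  | zero =>
    intro j
    obtain ⟨m, hm⟩ := sum_char_dvd (IsCharacter.pow hψ j)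
    refine ⟨m, ?_⟩
    simp only [Finset.range_zero, Finset.prod_empty, mul_one]
    simp only [Pi.pow_apply] at hm
    rw [hm]
    simp
  | succ T ih =>
    intro j
    obtain ⟨z1, hz1⟩ := ih (j + 1)
    obtain ⟨z0, hz0⟩ := ih j
    refine ⟨z1 - s T * z0, ?_⟩
    have : ∀ x : P, ψ x ^ j * ∏ t ∈ Finset.range (T + 1), (ψ x - (s t : ℂ)) =
        ψ x ^ (j + 1) * ∏ t ∈ Finset.range T, (ψ x - (s t : ℂ)) -
          (s T : ℂ) * (ψ x ^ j * ∏ t ∈ Finset.range T, (ψ x - (s t : ℂ))) := by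
      intro x
      rw [Finset.prod_range_succ]
      ring
    rw [Finset.sum_congr rfl (fun x _ => this x), Finset.sum_sub_distrib, ← Finset.mul_sum, hz1, hz0]
    push_cast
    ring


end Dvd

end Cfsg.Agent.Helper29.SchurB
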