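import Mathlib
import Cfsg.Agent.Helper29.SchurBound

set_option autoImplicit false

/-!
Core of Schur's bound, for a `p`-group with a character stable under the power maps prime to `p`
(not necessarily faithful).
-/

namespace Cfsg.Agent.Helper29.SchurB

open Cfsg Cfsg.Agent.Helper24 Cfsg.Agent.Helper23 Cfsg.Agent.Helper8 Module

theorem schur_core {P : Type*} [Group P] [Finite P] (p : ℕ) (hp : p.Prime) (a : ℕ)
    (hP : Nat.card P = p ^ a) (ψ : P → ℂ) (hψ : IsCharacter P ψ) (nn : ℕ) (hn : ψ 1 = (nn : ℂ))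
    (hinvψ : ∀ (x : P) (j : ℕ), j.Coprime p → ψ (x ^ j) = ψ x)
    (D : Subgroup P) (hD : ∀ x : P, ψ x = ψ 1 → x ∈ D) (c : ℕ) (hDc : Nat.card D = p ^ c) :
    a ≤ c + ∑ i ∈ Finset.range (nn + 1), nn / ((p - 1) * p ^ i) := by
  classical
  haveI : Fact p.Prime := ⟨hp⟩
  rcases Nat.eq_zero_or_pos a with ha0 | hapos
  · rw [ha0]; exact Nat.zero_le _
  obtain ⟨k, hk⟩ : ∃ k, a = k + 1 := Nat.exists_eq_succ_of_ne_zero hapos.ne'
  have hp0 : 0 < p := hp.pos
  have hp1 : 1 < p := hp.one_lt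
  haveI : Fintype P := Fintype.ofFinite _
  have hψ' := hψ
  obtain ⟨n0, ρ, hρ⟩ := hψ
  have hψ1 : ψ 1 = (n0 : ℂ) := by
    rw [← hρ]
    simp
  have hnn : n0 = nn := by
    have : (n0 : ℂ) = (nn : ℂ) := by rw [← hψ1, hn]
    exact_mod_cast this
  subst hnn
  have hfin : finrank ℂ (Fin n0 → ℂ) = n0 := by simp
  have hxpow : ∀ x : P, x ^ (p ^ (k + 1)) = 1 := by
    intro x
    have h1 : x ^ Nat.card P = 1 := pow_card_eq_one'
    rw [hP, hk] at h1
    exact h1
  have hinv : ∀ x : P, ∀ j : ℕ, j.Coprime p → ρ.character (x ^ j) = ρ.character x := by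
    intro x j hj
    rw [hρ]
    exact hinvψ x j hj
  -- the kernel
  set Kr : Subgroup P := MonoidHom.ker (ρ : P →* _) with hKr
  have hker : ∀ x : P, ψ x = ψ 1 ↔ x ∈ Kr := by
    intro x
    rw [hψ1, ← hρ, MonoidHom.mem_ker]
    have h1 := char_eq_finrank_iff ρ x
    rw [hfin] at h1
    rw [h1]
    rfl
  -- per-element data
  have hdata : ∀ x : P, x ∉ Kr →
      ∃ t : ℕ, t < n0 / (p - 1) ∧ ψ x = ((n0 : ℤ) - (p : ℤ) * ((t : ℤ) + 1) : ℤ) := by
    intro x hx1
    obtain ⟨c, hc, hcong⟩ := elt_int p ρ x k (hxpow x) (hinv x)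
    have hlow := elt_lower p ρ x k (hxpow x) (hinv x) c hc
    rw [hfin] at hcong hlow
    have hle : c ≤ (n0 : ℤ) := by
      have h1 := norm_char_le ρ x
      rw [hc, hfin] at h1
      have h2 : ‖((c : ℤ) : ℂ)‖ = |(c : ℝ)| := by
        rw [← Complex.ofReal_intCast, Complex.norm_real, Real.norm_eq_abs]
      rw [h2] at h1
      have h3 : (c : ℝ) ≤ (n0 : ℝ) := le_trans (le_abs_self _) h1
      exact_mod_cast h3
    have hne : c ≠ (n0 : ℤ) := by
      intro h
      apply hx1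
      rw [← hker, hψ1, ← hρ, hc, h]
      simp
    have hlt : c < (n0 : ℤ) := lt_of_le_of_ne hle hne
    obtain ⟨t, ht⟩ : (p : ℤ) ∣ (n0 : ℤ) - c := Int.ModEq.dvd hcong
    have hpZ : (0 : ℤ) < (p : ℤ) := by exact_mod_cast hp0
    have htpos : 0 < t := by
      have : 0 < (p : ℤ) * t := by rw [← ht]; linarith
      exact (mul_pos_iff_of_pos_left hpZ).mp this
    have hbound : ((p : ℤ) - 1) * t ≤ (n0 : ℤ) := by
      have hc' : c = (n0 : ℤ) - (p : ℤ) * t := by linarith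
      rw [hc'] at hlow
      have : (p : ℤ) * (((p : ℤ) - 1) * t) ≤ (p : ℤ) * (n0 : ℤ) := by nlinarith
      exact le_of_mul_le_mul_left this hpZ
    obtain ⟨t', rfl⟩ : ∃ t' : ℕ, t = (t' : ℤ) + 1 := by
      refine ⟨(t - 1).toNat, ?_⟩
      rw [Int.toNat_of_nonneg (by omega)]
      ring
    refine ⟨t', ?_, ?_⟩
    · rw [Nat.lt_iff_add_one_le, Nat.le_div_iff_mul_le (by omega)]
      have h1 : (((t' + 1) * (p - 1) : ℕ) : ℤ) ≤ (n0 : ℤ) := by
        push_cast
        rw [Nat.cast_sub hp1.le]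
        push_cast
        linarith
      exact_mod_cast h1
    · rw [← hρ, hc]
      congr 1
      linarith
  -- the divisibility
  set T := n0 / (p - 1) with hT
  let s : ℕ → ℤ := fun t' => (n0 : ℤ) - (p : ℤ) * ((t' : ℤ) + 1)
  obtain ⟨z, hz⟩ := sum_prod_dvd hψ' s T 0
  simp only [pow_zero, one_mul] at hz
  have hterm : ∀ x : P, ∏ t ∈ Finset.range T, (ψ x - (s t : ℂ)) =
      if x ∈ Kr then (((p ^ T * T.factorial : ℕ) : ℤ) : ℂ) else 0 := by
    intro x
    by_cases hx : x ∈ Kr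
    · rw [if_pos hx]
      have hx' : ψ x = (n0 : ℂ) := by rw [(hker x).mpr hx, hψ1]
      have h1 : ∀ t ∈ Finset.range T, (ψ x - (s t : ℂ)) = (p : ℂ) * ((t + 1 : ℕ) : ℂ) := by
        intro t _
        rw [hx']
        simp [s]
      rw [Finset.prod_congr rfl h1, Finset.prod_mul_distrib, Finset.prod_const, Finset.card_range,
        ← Nat.cast_prod, Finset.prod_range_add_one_eq_factorial]
      push_cast
      rfl
    · rw [if_neg hx]
      obtain ⟨t, ht, hxt⟩ := hdata x hx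
      apply Finset.prod_eq_zero (Finset.mem_range.mpr ht)
      rw [hxt]
      simp [s]
  rw [Finset.sum_congr rfl (fun x _ => hterm x), Finset.sum_ite, Finset.sum_const_zero, add_zero,
    Finset.sum_const, nsmul_eq_mul, hP] at hz
  have hcardK : (Finset.univ.filter (fun x : P => x ∈ Kr)).card = Nat.card Kr := by
    rw [Nat.card_eq_fintype_card, Fintype.card_subtype]
  rw [hcardK] at hz
  have hKrle : Kr ≤ D := fun x hx => hD x ((hker x).mpr hx)
  have hKrdvd : Nat.card Kr ∣ p ^ c := by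
    rw [← hDc]
    exact Subgroup.card_dvd_of_le hKrle
  have hdvd : (p ^ a : ℕ) ∣ p ^ c * (p ^ T * T.factorial) := by
    have h2 : ((Nat.card Kr * (p ^ T * T.factorial) : ℕ) : ℤ) = ((p ^ a : ℕ) : ℤ) * z := by
      have : (((Nat.card Kr * (p ^ T * T.factorial) : ℕ) : ℤ) : ℂ) =
          ((((p ^ a : ℕ) : ℤ) * z : ℤ) : ℂ) := by
        push_cast
        push_cast at hz
        rw [← hz]
      exact_mod_cast this
    have h3 : ((p ^ a : ℕ) : ℤ) ∣ ((Nat.card Kr * (p ^ T * T.factorial) : ℕ) : ℤ) := ⟨z, h2⟩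
    have h4 : (p ^ a : ℕ) ∣ Nat.card Kr * (p ^ T * T.factorial) := by exact_mod_cast h3
    exact h4.trans (Nat.mul_dvd_mul_right hKrdvd _)
  have hTf : T.factorial ≠ 0 := Nat.factorial_ne_zero T
  have hpT : p ^ T ≠ 0 := pow_ne_zero _ hp0.ne'
  have hpc : p ^ c ≠ 0 := pow_ne_zero _ hp0.ne'
  have hle : a ≤ padicValNat p (p ^ c * (p ^ T * T.factorial)) :=
    (padicValNat_dvd_iff_le (mul_ne_zero hpc (mul_ne_zero hpT hTf))).mp hdvd
  rw [padicValNat.mul hpc (mul_ne_zero hpT hTf), padicValNat.mul hpT hTf, padicValNat.prime_pow,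
    padicValNat.prime_pow] at hle
  have hlog : Nat.log p T < n0 + 1 := by
    have h1 : Nat.log p T ≤ T := Nat.log_le_self p T
    have h2 : T ≤ n0 := Nat.div_le_self _ _
    omega
  rw [padicValNat_factorial hlog] at hle
  have hsumeq : ∑ i ∈ Finset.range (n0 + 1), n0 / ((p - 1) * p ^ i) =
      T + ∑ i ∈ Finset.Ico 1 (n0 + 1), T / p ^ i := by
    rw [Finset.range_eq_Ico, Finset.sum_eq_sum_Ico_succ_bot (Nat.succ_pos n0)]
    congr 1
    · simp [hT]
    · apply Finset.sum_congr rfl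
      intro i _
      rw [hT, Nat.div_div_eq_div_mul]
  rw [hsumeq]
  exact hle

end Cfsg.Agent.Helper29.SchurB
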