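import Mathlib
import Cfsg.Agent.Helper29.PRatB
import Cfsg.Agent.Helper29.SchurCore
import Cfsg.Agent.Lead.Coprime

set_option autoImplicit false

/-!
The Schur bound for a `p`-group acting coprimely on a subgroup on which a character is faithful.
-/

namespace Cfsg.Agent.Helper29.PRat

open Cfsg Cfsg.Agent.Helper24 Cfsg.Agent.Helper8 Cfsg.Agent.Helper29.SchurP
  Cfsg.Agent.Helper29.SchurB

universe u

theorem stable_pow {H : Type u} [Group H] [Finite H] (p : ℕ) (hp : p.Prime) (m : ℕ)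
    (hm : m ∣ Nat.card H) (hpm : ¬ p ∣ m) {f : H → ℂ} (hf : IsCharacter H f)
    (hs : GalStable m f) (x : H) (b : ℕ) (hx : x ^ (p ^ b) = 1) (j : ℕ) (hj : j.Coprime p) :
    f (x ^ j) = f x := by
  have hmpos : 0 < m := Nat.pos_of_dvd_of_pos hm Nat.card_pos
  obtain ⟨k, hk1, hk2, hk3⟩ := exists_k p hp (Nat.card H) m Nat.card_pos hmpos hpm j hj
  have hkN : k.Coprime (Nat.card H) := Nat.Coprime.coprime_mul_right_right hk1
  obtain ⟨τ, hτ1, hτ2⟩ := exists_complex_aut_char H k hkN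
  have hτfix : ∀ μ : ℂ, μ ^ m = 1 → τ μ = μ := by
    intro μ hμ
    obtain ⟨c, hc⟩ := hm
    rw [hτ1 μ (by rw [hc, pow_mul, hμ, one_pow])]
    rw [pow_eq_pow_mod k hμ, hk2, ← pow_eq_pow_mod 1 hμ, pow_one]
  have h1 : f (x ^ k) = f x := by
    rw [← hτ2 f hf x]
    exact hs τ hτfix x
  have h2 : x ^ k = x ^ j := by
    rw [pow_eq_pow_iff_modEq]
    have ho : orderOf x ∣ p ^ b := orderOf_dvd_of_pow_eq_one hx
    obtain ⟨e, -, he⟩ := (Nat.dvd_prime_pow hp).mp ho
    have hoN : orderOf x ∣ Nat.card H := orderOf_dvd_natCard x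
    rw [he] at hoN
    have hle : e ≤ (Nat.card H).factorization p :=
      (Nat.Prime.pow_dvd_iff_le_factorization hp Nat.card_pos.ne').mp hoN
    apply Nat.ModEq.of_dvd _ hk3
    rw [he]
    exact pow_dvd_pow p hle
  rw [← h2, h1]


theorem bound_of_coprime_action {G : Type u} [Group G] [Finite G] (p : ℕ) [hp : Fact p.Prime]
    (χ : G → ℂ) (hχ : IsCharacter G χ) (hfaith : ∀ g : G, χ g = χ 1 → g = 1) (n : ℕ)
    (hn : χ 1 = (n : ℂ)) (K P₁ : Subgroup G) (hKp : (Nat.card K).Coprime p) (a₁ : ℕ)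
    (hP₁ : Nat.card P₁ = p ^ a₁) (hnorm : P₁ ≤ Subgroup.normalizer (K : Set G)) (c : ℕ)
    (hc : Nat.card ↥(P₁ ⊓ Subgroup.centralizer (K : Set G)) = p ^ c) :
    a₁ ≤ c + ∑ i ∈ Finset.range (n + 1), n / ((p - 1) * p ^ i) := by
  classical
  set Hs : Subgroup G := K ⊔ P₁ with hHs
  have hKH : K ≤ Hs := le_sup_left
  have hPH : P₁ ≤ Hs := le_sup_right
  haveI : Fintype Hs := Fintype.ofFinite _
  set K' : Subgroup Hs := K.subgroupOf Hs with hK'
  set P' : Subgroup Hs := P₁.subgroupOf Hs with hP'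
  haveI hK'n : K'.Normal := Cfsg.Agent.Lead.normal_subgroupOf_sup_of_le_normalizer' hnorm
  haveI : Fintype K' := Fintype.ofFinite _
  have hcardK' : Nat.card K' = Nat.card K := card_subgroupOf_of_le hKH
  have hcardP' : Nat.card P' = p ^ a₁ := by rw [hP', card_subgroupOf_of_le hPH, hP₁]
  have hcopKP : (Nat.card K').Coprime (Nat.card P') := by
    rw [hcardK', hcardP']
    exact Nat.Coprime.pow_right _ hKp
  have hdisj : Disjoint K' P' := Subgroup.disjoint_of_coprime_natCard hcopKP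
  have hsup : K' ⊔ P' = ⊤ := by
    rw [hK', hP', ← Subgroup.subgroupOf_sup hKH hPH, Subgroup.subgroupOf_self]
  have hcompl : Subgroup.IsComplement' K' P' := by
    apply Subgroup.isComplement'_of_disjoint_and_mul_eq_univ hdisj
    rw [← Subgroup.normal_mul, hsup]
    rfl
  have hidx : K'.index = p ^ a₁ := by
    rw [hcompl.symm.index_eq_card, hcardP']
  have hcop : (Nat.card K').Coprime K'.index := by
    rw [hidx, hcardK']
    exact Nat.Coprime.pow_right _ hKp
  -- the class function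
  set Ψ : Hs → ℂ := fun h => χ h with hΨ
  have hΨc : IsCharacter Hs Ψ := isCharacter_restrict Hs hχ
  have hΨcf : IsClassFunction Hs Ψ := IsCharacter.isClassFunction hΨc
  have hΨK : IsCharacter K' (fun k : K' => Ψ k) := isCharacter_restrict K' hΨc
  have hΨ1 : Ψ 1 = (n : ℂ) := hn
  obtain ⟨χ', hχ'c, hχ'K, hχ's⟩ := exists_stable_char K' hcop n Ψ hΨcf hΨK hΨ1
  have hχ'1 : χ' 1 = (n : ℂ) := by
    have := hχ'K 1
    rw [← hΨ1]
    exact this
  -- the character of P₁
  set ψ : P₁ → ℂ := fun x => χ' (Subgroup.inclusion hPH x) with hψ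
  have hψc : IsCharacter P₁ ψ := isCharacter_comp (Subgroup.inclusion hPH) hχ'c
  have hψ1 : ψ 1 = (n : ℂ) := by
    show χ' (Subgroup.inclusion hPH 1) = _
    rw [map_one, hχ'1]
  have hpm : ¬ p ∣ Nat.card K' := by
    rw [hcardK']
    intro h
    have := Nat.Coprime.eq_one_of_dvd hKp.symm h
    exact hp.out.one_lt.ne' this
  have hinvψ : ∀ (x : P₁) (j : ℕ), j.Coprime p → ψ (x ^ j) = ψ x := by
    intro x j hj
    show χ' (Subgroup.inclusion hPH (x ^ j)) = χ' (Subgroup.inclusion hPH x)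
    rw [map_pow]
    apply stable_pow p hp.out (Nat.card K') (Subgroup.card_subgroup_dvd_card K') hpm hχ'c hχ's _ a₁
      _ j hj
    rw [← map_pow]
    have : x ^ (p ^ a₁) = 1 := by rw [← hP₁]; exact pow_card_eq_one'
    rw [this, map_one]
  set D : Subgroup P₁ := (P₁ ⊓ Subgroup.centralizer (K : Set G)).subgroupOf P₁ with hD
  have hDc : Nat.card D = p ^ c := by
    rw [hD, card_subgroupOf_of_le inf_le_left, hc]
  have hDmem : ∀ x : P₁, ψ x = ψ 1 → x ∈ D := by
    intro x hx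
    rw [hD, Subgroup.mem_subgroupOf, Subgroup.mem_inf]
    refine ⟨x.2, ?_⟩
    rw [Subgroup.mem_centralizer_iff]
    intro k hk
    obtain ⟨m, ρ, hρ⟩ := hχ'c
    set x' : Hs := Subgroup.inclusion hPH x with hx'
    set k' : Hs := ⟨k, hKH hk⟩ with hk'
    have hρx : ρ x' = 1 := by
      have h1 : ρ.character x' = (Module.finrank ℂ (Fin m → ℂ) : ℂ) := by
        rw [← Representation.char_one ρ, hρ]
        have : ψ 1 = χ' 1 := by
          show χ' (Subgroup.inclusion hPH 1) = _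
          rw [map_one]
        rw [← this, ← hx]
      exact (char_eq_finrank_iff ρ x').mp h1
    set y : Hs := x' * k' * x'⁻¹ * k'⁻¹ with hy
    have hk'K : k' ∈ K' := Subgroup.mem_subgroupOf.mpr hk
    have hyK : y ∈ K' := by
      rw [hy]
      exact K'.mul_mem (hK'n.conj_mem k' hk'K x') (K'.inv_mem hk'K)
    have hρxi : ρ x'⁻¹ = 1 := by
      have h : ρ x'⁻¹ * ρ x' = 1 := by rw [← map_mul, inv_mul_cancel, map_one]
      rw [hρx, mul_one] at h
      exact h
    have hρy : ρ y = 1 := by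
      rw [hy, map_mul, map_mul, map_mul, hρx, hρxi, one_mul, mul_one, ← map_mul, mul_inv_cancel,
        map_one]
    have hχ'y : χ' y = χ' 1 := by
      rw [← hρ]
      have h10 : ρ y = ρ 1 := by rw [hρy, map_one]
      show LinearMap.trace ℂ _ (ρ y) = LinearMap.trace ℂ _ (ρ 1)
      rw [h10]
    have h2 : χ (y : G) = χ 1 := by
      have h3 := hχ'K ⟨y, hyK⟩
      have h4 := hχ'K 1
      have h5 : Ψ ((⟨y, hyK⟩ : K') : Hs) = χ (y : G) := rfl
      have h6 : Ψ ((1 : K') : Hs) = χ 1 := rfl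
      rw [← h5, ← h6, ← h3, ← h4]
      exact hχ'y
    have h7 : (y : G) = 1 := hfaith _ h2
    have h8 : (y : G) = (x : G) * k * (x : G)⁻¹ * k⁻¹ := rfl
    rw [h8] at h7
    have h9 : (x : G) * k = k * (x : G) := by
      have := congrArg (fun z => z * k * (x : G)) h7
      simp only [one_mul] at this
      rw [← this]
      group
    exact h9.symm
  exact schur_core p hp.out a₁ hP₁ ψ hψc n hψ1 hinvψ D hDmem c hDc

end Cfsg.Agent.Helper29.PRat
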