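import Mathlib
import Cfsg.Agent.Helper14.QdOver3

/-! # S2766 (helper29), part A: the affine cocycle.

`Γ` a group, `Q` an abelian normal subgroup, `ρ : Γ → SL₂(F)`, `ψ : Q → F²` equivariant, `t` with `ρ t = -1`.
Then `β g := ½ ψ ⁅g,t⁆` is a cocycle and `g ↦ (β g, ρ g)` is a homomorphism `Γ → F² ⋊ SL₂(F) = affSub F`. -/

set_option autoImplicit false

namespace Cfsg.Agent.PU

open Matrix
open scoped commutatorElement

section Aff

variable {F : Type*} [Field F]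

open Cfsg.Agent.Helper14 in
theorem S2766_aux_affTau_add (v w : Fin 2 → F) : affTau (v + w) = affTau v * affTau w := by
  apply affMat3_injective
  rw [affMat3_mul]
  ext i j
  fin_cases i <;> fin_cases j <;>
    simp [affMat3, affTau, Matrix.mul_apply, Fin.sum_univ_three, add_comm]

open Cfsg.Agent.Helper14 in
theorem S2766_aux_affTau_zero : affTau (0 : Fin 2 → F) = 1 := by
  apply affMat3_injective
  ext i j
  fin_cases i <;> fin_cases j <;> simp [affMat3, affTau]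

open Cfsg.Agent.Helper14 in
theorem S2766_aux_affIota_affTau (N : SpecialLinearGroup (Fin 2) F) (w : Fin 2 → F) :
    affIota F N * affTau w = affTau ((N : Matrix (Fin 2) (Fin 2) F).mulVec w) * affIota F N := by
  apply affMat3_injective
  rw [affMat3_mul, affMat3_mul]
  ext i j
  fin_cases i <;> fin_cases j <;>
    simp [affMat3, affTau, affIota, Matrix.mul_apply, Fin.sum_univ_three, Matrix.mulVec, dotProduct,
      Fin.sum_univ_two]

end Aff

section Cocycle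

variable {Γ : Type*} [Group Γ] {F : Type*} [Field F]

/-- the setup: `Q` abelian normal of exponent `p`, coordinates `ρ, ψ` with `ker ρ = Q`, `ker ψ = Q ∩ Z(Γ)`,
an involution `t` over `-1`. -/
structure S2766_aux_Setup (p : ℕ) (Q : Subgroup Γ) (ρ : Γ →* SpecialLinearGroup (Fin 2) F)
    (ψ : ↥Q →* Multiplicative (Fin 2 → F)) (t : Γ) : Prop where
  hp : p.Prime
  hp2 : p ≠ 2
  two_ne : (2 : F) ≠ 0
  Qn : Q.Normal
  Qab : ∀ a ∈ Q, ∀ b ∈ Q, a * b = b * a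
  Qexp : ∀ a ∈ Q, a ^ p = 1
  surj_ρ : Function.Surjective ρ
  surj_ψ : Function.Surjective ψ
  ker_ρ : ∀ g : Γ, ρ g = 1 ↔ g ∈ Q
  ker_ψ : ∀ u : ↥Q, ψ u = 1 ↔ (u : Γ) ∈ Subgroup.center Γ
  equiv : ∀ (g : Γ) (u w : ↥Q), (w : Γ) = g * (u : Γ) * g⁻¹ →
    Multiplicative.toAdd (ψ w) =
      ((ρ g : SpecialLinearGroup (Fin 2) F) : Matrix (Fin 2) (Fin 2) F).mulVec (Multiplicative.toAdd (ψ u))
  ht : ρ t = -1
  tt : t * t = 1

variable {p : ℕ} {Q : Subgroup Γ} {ρ : Γ →* SpecialLinearGroup (Fin 2) F}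
  {ψ : ↥Q →* Multiplicative (Fin 2 → F)} {t : Γ}

theorem S2766_aux_Setup.t_inv (h : S2766_aux_Setup p Q ρ ψ t) : t⁻¹ = t :=
  inv_eq_of_mul_eq_one_left h.tt

/-- `⁅g, t⁆ ∈ Q` -/
theorem S2766_aux_Setup.comm_mem (h : S2766_aux_Setup p Q ρ ψ t) (g : Γ) : ⁅g, t⁆ ∈ Q := by
  rw [← h.ker_ρ, commutatorElement_def, map_mul, map_mul, map_mul, map_inv, map_inv, h.ht]
  simp

/-- conjugation on `Q` -/
def S2766_aux_Setup.cjQ (h : S2766_aux_Setup p Q ρ ψ t) (g : Γ) (u : ↥Q) : ↥Q :=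
  ⟨g * (u : Γ) * g⁻¹, h.Qn.conj_mem u u.2 g⟩

theorem S2766_aux_Setup.psi_cjQ (h : S2766_aux_Setup p Q ρ ψ t) (g : Γ) (u : ↥Q) :
    Multiplicative.toAdd (ψ (h.cjQ g u)) =
      ((ρ g : SpecialLinearGroup (Fin 2) F) : Matrix (Fin 2) (Fin 2) F).mulVec (Multiplicative.toAdd (ψ u)) :=
  h.equiv g u (h.cjQ g u) rfl

/-- `t` acts as `-1` -/
theorem S2766_aux_Setup.psi_t (h : S2766_aux_Setup p Q ρ ψ t) (u : ↥Q) :
    Multiplicative.toAdd (ψ (h.cjQ t u)) = - Multiplicative.toAdd (ψ u) := by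
  rw [h.psi_cjQ, h.ht, SpecialLinearGroup.coe_neg]
  have e1 : ((1 : SpecialLinearGroup (Fin 2) F) : Matrix (Fin 2) (Fin 2) F) = 1 := rfl
  rw [e1, Matrix.neg_mulVec, Matrix.one_mulVec]

/-- the cocycle `β g = ½ ψ ⁅g,t⁆` -/
noncomputable def S2766_aux_Setup.beta (h : S2766_aux_Setup p Q ρ ψ t) (g : Γ) : Fin 2 → F :=
  (2⁻¹ : F) • Multiplicative.toAdd (ψ ⟨⁅g, t⁆, h.comm_mem g⟩)

theorem S2766_aux_Setup.beta_mul (h : S2766_aux_Setup p Q ρ ψ t) (g k : Γ) :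
    h.beta (g * k) = h.beta g +
      ((ρ g : SpecialLinearGroup (Fin 2) F) : Matrix (Fin 2) (Fin 2) F).mulVec (h.beta k) := by
  have e : (⟨⁅g * k, t⁆, h.comm_mem (g * k)⟩ : ↥Q) =
      h.cjQ g ⟨⁅k, t⁆, h.comm_mem k⟩ * ⟨⁅g, t⁆, h.comm_mem g⟩ := by
    apply Subtype.ext
    show ⁅g * k, t⁆ = g * ⁅k, t⁆ * g⁻¹ * ⁅g, t⁆
    simp only [commutatorElement_def]
    group
  unfold S2766_aux_Setup.beta
  rw [e, map_mul, toAdd_mul, h.psi_cjQ, Matrix.mulVec_smul, smul_add, add_comm]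

theorem S2766_aux_Setup.beta_one (h : S2766_aux_Setup p Q ρ ψ t) : h.beta 1 = 0 := by
  unfold S2766_aux_Setup.beta
  have e : (⟨⁅(1 : Γ), t⁆, h.comm_mem 1⟩ : ↥Q) = 1 := by
    apply Subtype.ext
    show ⁅(1 : Γ), t⁆ = 1
    rw [commutatorElement_one_left]
  rw [e, map_one, toAdd_one, smul_zero]

/-- on `Q` the cocycle is `ψ` -/
theorem S2766_aux_Setup.beta_of_mem (h : S2766_aux_Setup p Q ρ ψ t) (u : ↥Q) :
    h.beta (u : Γ) = Multiplicative.toAdd (ψ u) := by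
  unfold S2766_aux_Setup.beta
  have e : (⟨⁅(u : Γ), t⁆, h.comm_mem u⟩ : ↥Q) = u * h.cjQ t u⁻¹ := by
    apply Subtype.ext
    show ⁅(u : Γ), t⁆ = (u : Γ) * (t * ((u⁻¹ : ↥Q) : Γ) * t⁻¹)
    rw [commutatorElement_def, Subgroup.coe_inv]
    group
  rw [e, map_mul, toAdd_mul, h.psi_t, map_inv, toAdd_inv, neg_neg, ← two_smul F, smul_smul,
    inv_mul_cancel₀ h.two_ne, one_smul]

open Cfsg.Agent.Helper14 in
/-- the homomorphism `Γ → affSub F`, `g ↦ (β g, ρ g)` -/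
noncomputable def S2766_aux_Setup.aff (h : S2766_aux_Setup p Q ρ ψ t) : Γ →* ↥(Cfsg.Agent.Helper17.affSub F) where
  toFun g := affTau (h.beta g) * affIota F (ρ g)
  map_one' := by
    rw [h.beta_one, map_one, map_one, S2766_aux_affTau_zero, one_mul]
  map_mul' g k := by
    rw [h.beta_mul, S2766_aux_affTau_add, map_mul, map_mul]
    calc affTau (h.beta g) * affTau ((ρ g : Matrix (Fin 2) (Fin 2) F).mulVec (h.beta k)) *
          (affIota F (ρ g) * affIota F (ρ k))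
        = affTau (h.beta g) * (affTau ((ρ g : Matrix (Fin 2) (Fin 2) F).mulVec (h.beta k)) *
          affIota F (ρ g)) * affIota F (ρ k) := by group
      _ = affTau (h.beta g) * (affIota F (ρ g) * affTau (h.beta k)) * affIota F (ρ k) := by
          rw [S2766_aux_affIota_affTau]
      _ = affTau (h.beta g) * affIota F (ρ g) * (affTau (h.beta k) * affIota F (ρ k)) := by group

open Cfsg.Agent.Helper14 in
theorem S2766_aux_Setup.aff_apply (h : S2766_aux_Setup p Q ρ ψ t) (g : Γ) :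
    h.aff g = affTau (h.beta g) * affIota F (ρ g) := rfl

open Cfsg.Agent.Helper14 in
theorem S2766_aux_Setup.affPi_aff (h : S2766_aux_Setup p Q ρ ψ t) (g : Γ) : affPi F (h.aff g) = ρ g := by
  rw [h.aff_apply, map_mul, affPi_affIota]
  have := affTau_mem_ker (h.beta g)
  rw [MonoidHom.mem_ker] at this
  rw [this, one_mul]

open Cfsg.Agent.Helper14 in
theorem S2766_aux_Setup.aff_eq_one_iff (h : S2766_aux_Setup p Q ρ ψ t) (g : Γ) :
    h.aff g = 1 ↔ g ∈ Q ⊓ Subgroup.center Γ := by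
  constructor
  · intro h1
    have h2 : ρ g = 1 := by rw [← h.affPi_aff, h1, map_one]
    have hg : g ∈ Q := (h.ker_ρ g).1 h2
    refine Subgroup.mem_inf.2 ⟨hg, ?_⟩
    rw [h.aff_apply, h2, map_one, mul_one] at h1
    have h3 : h.beta g = 0 := by
      have := congrArg affVec h1
      rw [affVec_affTau] at this
      rw [this]
      ext i
      fin_cases i <;> simp [affVec, affMat3]
    have h4 := h.beta_of_mem ⟨g, hg⟩
    rw [show ((⟨g, hg⟩ : ↥Q) : Γ) = g from rfl, h3] at h4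
    have h5 : ψ ⟨g, hg⟩ = 1 := by
      rw [← ofAdd_toAdd (ψ ⟨g, hg⟩), ← h4]
      rfl
    exact (h.ker_ψ ⟨g, hg⟩).1 h5
  · intro hg
    obtain ⟨hgQ, hgc⟩ := Subgroup.mem_inf.1 hg
    have h2 : ρ g = 1 := (h.ker_ρ g).2 hgQ
    have h5 : ψ ⟨g, hgQ⟩ = 1 := (h.ker_ψ ⟨g, hgQ⟩).2 hgc
    have h4 := h.beta_of_mem ⟨g, hgQ⟩
    rw [show ((⟨g, hgQ⟩ : ↥Q) : Γ) = g from rfl, h5, toAdd_one] at h4
    rw [h.aff_apply, h2, h4, map_one, mul_one, S2766_aux_affTau_zero]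

open Cfsg.Agent.Helper14 in
theorem S2766_aux_Setup.aff_surjective (h : S2766_aux_Setup p Q ρ ψ t) : Function.Surjective h.aff := by
  intro M
  obtain ⟨g, hg⟩ := h.surj_ρ (affPi F M)
  have hN : (h.aff g)⁻¹ * M ∈ (affPi F).ker := by
    rw [MonoidHom.mem_ker, map_mul, map_inv, h.affPi_aff, hg, inv_mul_cancel]
  obtain ⟨u, hu⟩ := h.surj_ψ (Multiplicative.ofAdd (affVec ((h.aff g)⁻¹ * M)))
  refine ⟨g * (u : Γ), ?_⟩
  have h1 : h.aff (u : Γ) = (h.aff g)⁻¹ * M := by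
    rw [h.aff_apply, (h.ker_ρ _).2 u.2, map_one, mul_one, h.beta_of_mem, hu, toAdd_ofAdd]
    exact eq_of_mem_ker_of_affVec_eq (affTau_mem_ker _) hN (affVec_affTau _)
  rw [map_mul, h1, mul_inv_cancel_left]

end Cocycle

end Cfsg.Agent.PU
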