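import Cfsg.Agent.Helper29.PU2766A

/-! # S2766 (helper29), part B: `Q = V × A`, transfer, the complement `[Γ,Γ]` -/

set_option autoImplicit false

namespace Cfsg.Agent.PU

open Matrix
open scoped commutatorElement

/-- transfer into `S/S'`: a central element of the commutator subgroup has `a ^ |Γ : S| ∈ S'` -/
theorem S2766_aux_transfer {Γ : Type*} [Group Γ] (S : Subgroup Γ) [S.FiniteIndex] {a : Γ}
    (ha : a ∈ Subgroup.center Γ) (hc : a ∈ commutator Γ) : a ^ S.index ∈ ⁅S, S⁆ := by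
  have key : ∀ (k : ℕ) (g₀ : Γ), g₀⁻¹ * a ^ k * g₀ ∈ S → g₀⁻¹ * a ^ k * g₀ = a ^ k := by
    intro k g₀ _
    have hk : a ^ k ∈ Subgroup.center Γ := pow_mem ha k
    rw [mul_assoc, (Subgroup.mem_center_iff.1 hk g₀).symm, ← mul_assoc, inv_mul_cancel, one_mul]
  have h1 := MonoidHom.transfer_eq_pow (Abelianization.of : ↥S →* Abelianization ↥S) a key
  have h2 : MonoidHom.transfer (Abelianization.of : ↥S →* Abelianization ↥S) a = 1 := by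
    have := Abelianization.commutator_subset_ker
      (MonoidHom.transfer (Abelianization.of : ↥S →* Abelianization ↥S)) hc
    exact this
  rw [h2] at h1
  have h3 : (⟨a ^ S.index, MonoidHom.transfer_eq_pow_aux a key⟩ : ↥S) ∈ commutator ↥S := by
    rw [← Abelianization.ker_of, MonoidHom.mem_ker]
    exact h1.symm
  rw [← Subgroup.map_subtype_commutator]
  exact ⟨_, h3, rfl⟩

section Setup

variable {Γ : Type*} [Group Γ] {F : Type*} [Field F]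
variable {p : ℕ} {Q : Subgroup Γ} {ρ : Γ →* SpecialLinearGroup (Fin 2) F}
  {ψ : ↥Q →* Multiplicative (Fin 2 → F)} {t : Γ}

theorem S2766_aux_Setup.commute (h : S2766_aux_Setup p Q ρ ψ t) {a b : Γ} (ha : a ∈ Q) (hb : b ∈ Q) :
    Commute a b := h.Qab a ha b hb

/-- `2 m = p + 1` -/
theorem S2766_aux_Setup.exists_half (h : S2766_aux_Setup p Q ρ ψ t) : ∃ m : ℕ, 2 * m = p + 1 := by
  rcases h.hp.eq_two_or_odd with h2 | h2
  · exact absurd h2 h.hp2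
  · exact ⟨(p + 1) / 2, by omega⟩

/-- `u ^ (2 m) = u` on `Q` -/
theorem S2766_aux_Setup.pow_half (h : S2766_aux_Setup p Q ρ ψ t) {m : ℕ} (hm : 2 * m = p + 1) {u : Γ}
    (hu : u ∈ Q) : (u * u) ^ m = u := by
  rw [← pow_two, ← pow_mul, hm, pow_succ, h.Qexp u hu, one_mul]

/-- `V`: the elements of `Q` inverted by `t` -/
def S2766_aux_Setup.V (h : S2766_aux_Setup p Q ρ ψ t) : Subgroup Γ where
  carrier := {u | u ∈ Q ∧ t * u * t⁻¹ = u⁻¹}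
  one_mem' := ⟨Q.one_mem, by simp⟩
  mul_mem' := by
    rintro a b ⟨ha, ha'⟩ ⟨hb, hb'⟩
    refine ⟨Q.mul_mem ha hb, ?_⟩
    have e : t * (a * b) * t⁻¹ = (t * a * t⁻¹) * (t * b * t⁻¹) := by group
    rw [e, ha', hb', h.Qab a ha b hb, _root_.mul_inv_rev]
  inv_mem' := by
    rintro a ⟨ha, ha'⟩
    refine ⟨Q.inv_mem ha, ?_⟩
    have e : t * a⁻¹ * t⁻¹ = (t * a * t⁻¹)⁻¹ := by group
    rw [e, ha']

theorem S2766_aux_Setup.mem_V (h : S2766_aux_Setup p Q ρ ψ t) {u : Γ} :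
    u ∈ h.V ↔ u ∈ Q ∧ t * u * t⁻¹ = u⁻¹ := Iff.rfl

theorem S2766_aux_Setup.V_le (h : S2766_aux_Setup p Q ρ ψ t) : h.V ≤ Q := fun _ hu => hu.1

/-- `V ∩ Z(Γ) = 1` -/
theorem S2766_aux_Setup.V_inf_center (h : S2766_aux_Setup p Q ρ ψ t) {u : Γ} (hu : u ∈ h.V)
    (hc : u ∈ Subgroup.center Γ) : u = 1 := by
  obtain ⟨huQ, hut⟩ := hu
  have h1 : t * u * t⁻¹ = u := by
    rw [(Subgroup.mem_center_iff.1 hc t), mul_assoc, mul_inv_cancel, mul_one]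
  rw [h1] at hut
  have h2 : u ^ 2 = 1 := by
    rw [pow_two]
    nth_rewrite 1 [hut]
    exact inv_mul_cancel u
  have h3 := pow_gcd_eq_one.2 ⟨h2, h.Qexp u huQ⟩
  have h4 : Nat.gcd 2 p = 1 := by
    rw [Nat.coprime_primes Nat.prime_two h.hp |>.2 (Ne.symm h.hp2)]
  rw [h4, pow_one] at h3
  exact h3

/-- an element of `Q` centralised by `t` is central -/
theorem S2766_aux_Setup.center_of_fixed (h : S2766_aux_Setup p Q ρ ψ t) {a : Γ} (ha : a ∈ Q)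
    (hat : t * a * t⁻¹ = a) : a ∈ Subgroup.center Γ := by
  have h1 := h.psi_t ⟨a, ha⟩
  have e : h.cjQ t ⟨a, ha⟩ = ⟨a, ha⟩ := Subtype.ext hat
  rw [e] at h1
  have h2 : (2 : F) • Multiplicative.toAdd (ψ ⟨a, ha⟩) = 0 := by
    rw [two_smul]
    nth_rewrite 1 [h1]
    exact neg_add_cancel _
  have h3 : Multiplicative.toAdd (ψ ⟨a, ha⟩) = 0 := by
    rcases smul_eq_zero.1 h2 with h4 | h4
    · exact absurd h4 h.two_ne
    · exact h4
  have h5 : ψ ⟨a, ha⟩ = 1 := by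
    rw [← ofAdd_toAdd (ψ ⟨a, ha⟩), h3]
    rfl
  exact (h.ker_ψ ⟨a, ha⟩).1 h5

/-- `Q = V · A` -/
theorem S2766_aux_Setup.exists_decomp (h : S2766_aux_Setup p Q ρ ψ t) {u : Γ} (hu : u ∈ Q) :
    ∃ v ∈ h.V, ∃ a ∈ Q ⊓ Subgroup.center Γ, u = v * a := by
  obtain ⟨m, hm⟩ := h.exists_half
  have hw : t * u * t⁻¹ ∈ Q := h.Qn.conj_mem u hu t
  have hwi : (t * u * t⁻¹)⁻¹ ∈ Q := Q.inv_mem hw
  have htw : t * (t * u * t⁻¹) * t⁻¹ = u := by
    rw [h.t_inv]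
    have : t * (t * u * t) * t = (t * t) * u * (t * t) := by group
    rw [this, h.tt, one_mul, mul_one]
  have hv : u * (t * u * t⁻¹)⁻¹ ∈ h.V := by
    refine ⟨Q.mul_mem hu hwi, ?_⟩
    have e : t * (u * (t * u * t⁻¹)⁻¹) * t⁻¹ = (t * u * t⁻¹) * (t * (t * u * t⁻¹) * t⁻¹)⁻¹ := by group
    rw [e, htw, _root_.mul_inv_rev, inv_inv]
  have ha : u * (t * u * t⁻¹) ∈ Q ⊓ Subgroup.center Γ := by
    have haQ : u * (t * u * t⁻¹) ∈ Q := Q.mul_mem hu hw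
    refine Subgroup.mem_inf.2 ⟨haQ, h.center_of_fixed haQ ?_⟩
    have e : t * (u * (t * u * t⁻¹)) * t⁻¹ = (t * u * t⁻¹) * (t * (t * u * t⁻¹) * t⁻¹) := by group
    rw [e, htw, h.Qab _ hw _ hu]
  refine ⟨_, pow_mem hv m, _, pow_mem ha m, ?_⟩
  have hc : Commute (u * (t * u * t⁻¹)⁻¹) (u * (t * u * t⁻¹)) :=
    h.commute (Q.mul_mem hu hwi) (Q.mul_mem hu hw)
  rw [← hc.mul_pow]
  have e : u * (t * u * t⁻¹)⁻¹ * (u * (t * u * t⁻¹)) = u * u := by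
    rw [mul_assoc, ← mul_assoc _ u, h.Qab _ hwi _ hu, mul_assoc u, inv_mul_cancel, mul_one]
  rw [e, h.pow_half hm hu]

/-- `V` is normal -/
theorem S2766_aux_Setup.V_normal (h : S2766_aux_Setup p Q ρ ψ t) : h.V.Normal := by
  constructor
  intro v hv g
  obtain ⟨hvQ, hvt⟩ := hv
  refine ⟨h.Qn.conj_mem v hvQ g, ?_⟩
  have hc : ⁅g⁻¹, t⁆ ∈ Q := h.comm_mem g⁻¹
  have e : t * (g * v * g⁻¹) * t⁻¹ = g * (⁅g⁻¹, t⁆ * (t * v * t⁻¹) * ⁅g⁻¹, t⁆⁻¹) * g⁻¹ := by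
    simp only [commutatorElement_def]
    group
  have e2 : ⁅g⁻¹, t⁆ * v⁻¹ * ⁅g⁻¹, t⁆⁻¹ = v⁻¹ := by
    rw [h.Qab _ hc _ (Q.inv_mem hvQ), mul_assoc, mul_inv_cancel, mul_one]
  rw [e, hvt, e2]
  group

/-- `[Q, Γ] ≤ V` -/
theorem S2766_aux_Setup.comm_le_V (h : S2766_aux_Setup p Q ρ ψ t) : ⁅Q, (⊤ : Subgroup Γ)⁆ ≤ h.V := by
  rw [Subgroup.commutator_le]
  intro u hu g _
  obtain ⟨v, hv, a, ha, rfl⟩ := h.exists_decomp hu
  have hac := (Subgroup.mem_inf.1 ha).2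
  have e : ⁅v * a, g⁆ = v * (g * v⁻¹ * g⁻¹) := by
    rw [commutatorElement_def]
    have h1 : v * a * g = v * g * a := by
      rw [mul_assoc, ← (Subgroup.mem_center_iff.1 hac g), ← mul_assoc]
    rw [h1]
    group
  rw [e]
  exact h.V.mul_mem hv (h.V_normal.conj_mem _ (h.V.inv_mem hv) g)

/-- `V ≤ [Γ, Γ]` -/
theorem S2766_aux_Setup.V_le_commutator (h : S2766_aux_Setup p Q ρ ψ t) : h.V ≤ commutator Γ := by
  intro v hv
  obtain ⟨m, hm⟩ := h.exists_half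
  obtain ⟨hvQ, hvt⟩ := hv
  have h1 : ⁅v, t⁆ = v * v := by
    rw [commutatorElement_def]
    have e : v * t * v⁻¹ * t⁻¹ = v * (t * v * t⁻¹)⁻¹ := by group
    rw [e, hvt, inv_inv]
  have h2 : v * v ∈ commutator Γ := by
    rw [← h1, commutator_def]
    exact Subgroup.commutator_mem_commutator (Subgroup.mem_top v) (Subgroup.mem_top t)
  rw [← h.pow_half hm hvQ]
  exact pow_mem h2 m

end Setup

end Cfsg.Agent.PU
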