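import Cfsg.Agent.Helper29.PU2766B

/-! # S2766 (helper29), part C: the abstract splitting theorem `Γ = [Γ,Γ] × (Q ∩ Z(Γ))`, `[Γ,Γ] ≅ affSub F` -/

set_option autoImplicit false

namespace Cfsg.Agent.PU

open Matrix
open scoped commutatorElement

section Setup

variable {Γ : Type*} [Group Γ] {F : Type*} [Field F]
variable {p : ℕ} {Q : Subgroup Γ} {ρ : Γ →* SpecialLinearGroup (Fin 2) F}
  {ψ : ↥Q →* Multiplicative (Fin 2 → F)} {t : Γ}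

/-- `[Γ,Γ] ∩ Q ∩ Z(Γ) = 1` (transfer) -/
theorem S2766_aux_Setup.comm_inf_center (h : S2766_aux_Setup p Q ρ ψ t) (S : Subgroup Γ) [S.FiniteIndex]
    (hidx : S.index.Coprime p) (hSS : ⁅S, S⁆ ≤ ⁅Q, (⊤ : Subgroup Γ)⁆) {x : Γ} (hx : x ∈ commutator Γ)
    (hxQ : x ∈ Q) (hxc : x ∈ Subgroup.center Γ) : x = 1 := by
  have h1 : x ^ S.index ∈ h.V := h.comm_le_V (hSS (S2766_aux_transfer S hxc hx))
  have h2 : x ^ S.index = 1 := h.V_inf_center h1 (pow_mem hxc _)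
  have h3 := pow_gcd_eq_one.2 ⟨h2, h.Qexp x hxQ⟩
  rw [Nat.Coprime] at hidx
  rw [hidx, pow_one] at h3
  exact h3

/-- `[Γ,Γ] · (Q ∩ Z(Γ)) = Γ` -/
theorem S2766_aux_Setup.exists_comm_mul (h : S2766_aux_Setup p Q ρ ψ t)
    (hperf : commutator (SpecialLinearGroup (Fin 2) F) = ⊤) (g : Γ) :
    ∃ c ∈ commutator Γ, ∃ a ∈ Q ⊓ Subgroup.center Γ, g = c * a := by
  have hmap : (commutator Γ).map ρ = ⊤ := by
    rw [commutator_def, Subgroup.map_commutator, ← MonoidHom.range_eq_map,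
      MonoidHom.range_eq_top.2 h.surj_ρ, ← commutator_def, hperf]
  have hg : ρ g ∈ (commutator Γ).map ρ := by rw [hmap]; exact Subgroup.mem_top _
  obtain ⟨c, hc, hcg⟩ := hg
  have hQ : c⁻¹ * g ∈ Q := by
    rw [← h.ker_ρ, map_mul, map_inv, hcg, inv_mul_cancel]
  obtain ⟨v, hv, a, ha, e⟩ := h.exists_decomp hQ
  refine ⟨c * v, (commutator Γ).mul_mem hc (h.V_le_commutator hv), a, ha, ?_⟩
  rw [mul_assoc, ← e, mul_inv_cancel_left]

/-- **the abstract splitting theorem** -/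
theorem S2766_aux_Setup.main (h : S2766_aux_Setup p Q ρ ψ t)
    (hperf : commutator (SpecialLinearGroup (Fin 2) F) = ⊤) (S : Subgroup Γ) [S.FiniteIndex]
    (hidx : S.index.Coprime p) (hSS : ⁅S, S⁆ ≤ ⁅Q, (⊤ : Subgroup Γ)⁆) :
    ∃ G₀ E : Subgroup Γ, (∀ a ∈ G₀, ∀ b ∈ E, a * b = b * a) ∧ G₀ ⊓ E = ⊥ ∧ G₀ ⊔ E = ⊤ ∧
      (∀ a ∈ E, ∀ b ∈ E, a * b = b * a) ∧ (∀ a ∈ E, a ^ p = 1) ∧
      Nonempty (↥G₀ ≃* ↥(Cfsg.Agent.Helper17.affSub F)) := by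
  have hinf : commutator Γ ⊓ (Q ⊓ Subgroup.center Γ) = ⊥ := by
    rw [eq_bot_iff]
    intro x hx
    obtain ⟨hx1, hx2⟩ := Subgroup.mem_inf.1 hx
    obtain ⟨hx3, hx4⟩ := Subgroup.mem_inf.1 hx2
    rw [Subgroup.mem_bot]
    exact h.comm_inf_center S hidx hSS hx1 hx3 hx4
  refine ⟨commutator Γ, Q ⊓ Subgroup.center Γ, ?_, hinf, ?_, ?_, ?_, ?_⟩
  · intro a _ b hb
    exact Subgroup.mem_center_iff.1 (Subgroup.mem_inf.1 hb).2 a
  · rw [eq_top_iff]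
    intro g _
    obtain ⟨c, hc, a, ha, rfl⟩ := h.exists_comm_mul hperf g
    exact Subgroup.mul_mem_sup hc ha
  · intro a ha b hb
    exact h.Qab a (Subgroup.mem_inf.1 ha).1 b (Subgroup.mem_inf.1 hb).1
  · intro a ha
    exact h.Qexp a (Subgroup.mem_inf.1 ha).1
  · refine ⟨MulEquiv.ofBijective (h.aff.comp (commutator Γ).subtype) ⟨?_, ?_⟩⟩
    · rw [injective_iff_map_eq_one]
      intro x hx
      rw [MonoidHom.comp_apply, h.aff_eq_one_iff] at hx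
      have : (x : Γ) ∈ commutator Γ ⊓ (Q ⊓ Subgroup.center Γ) := Subgroup.mem_inf.2 ⟨x.2, hx⟩
      rw [hinf, Subgroup.mem_bot] at this
      exact Subtype.ext this
    · intro M
      obtain ⟨g, rfl⟩ := h.aff_surjective M
      obtain ⟨c, hc, a, ha, rfl⟩ := h.exists_comm_mul hperf g
      refine ⟨⟨c, hc⟩, ?_⟩
      rw [MonoidHom.comp_apply, map_mul, (h.aff_eq_one_iff a).2 ha, mul_one]
      rfl

end Setup

end Cfsg.Agent.PU
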