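import Cfsg.Agent.Helper5.PUDefs2
import Cfsg.Agent.Helper1.PUB2core

/-! # S2766 (helper29), part D: in the hub language, `s = 1` and an element `n ∈ N_X(S)` that normalises no nontrivial
normal `p`-subgroup of `G`: `Q` is abelian, `Q ∩ Q^n ≤ Z(S)`, `[S,S] ≤ [Q,S]`. -/

set_option autoImplicit false

namespace Cfsg.Agent.PU

open Subgroup
open scoped commutatorElement

variable {X : Type*} [Group X]

/-- `[A ⊔ Dd, A ⊔ Dd] ≤ [Dd, Dd]` when `A` is abelian and commutes with `Dd` -/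
theorem S2766_aux_comm_sup {A Dd : Subgroup X} (hA : ∀ a ∈ A, ∀ b ∈ A, a * b = b * a)
    (hAD : ∀ a ∈ A, ∀ d ∈ Dd, a * d = d * a) : ⁅A ⊔ Dd, A ⊔ Dd⁆ ≤ ⁅Dd, Dd⁆ := by
  have hDn : ∀ x ∈ Dd, x ∈ normalizer ((⁅Dd, Dd⁆ : Subgroup X) : Set X) := by
    intro x hx
    apply mem_normalizer_of_cj_eq
    rw [cj_commutator, cj_eq_self_of_mem hx]
  have hAn : ∀ x ∈ A, x ∈ normalizer ((⁅Dd, Dd⁆ : Subgroup X) : Set X) := by
    intro x hx
    apply centralizer_le_normalizer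
    have h1 : x ∈ centralizer (Dd : Set X) := by
      rw [mem_centralizer_iff]
      intro d hd
      exact (hAD x hx d hd).symm
    exact centralizer_le (by exact_mod_cast (Subgroup.commutator_le_self Dd)) h1
  rw [sup_eq_closure]
  apply B2class_aux_gen
  · rintro x (hx | hx)
    · exact hAn x hx
    · exact hDn x hx
  · rintro x (hx | hx)
    · exact hAn x hx
    · exact hDn x hx
  · rintro x (hx | hx) y (hy | hy)
    · rw [commutatorElement_eq_one_iff_mul_comm.2 (hA x hx y hy)]; exact one_mem _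
    · rw [commutatorElement_eq_one_iff_mul_comm.2 (hAD x hx y hy)]; exact one_mem _
    · rw [commutatorElement_eq_one_iff_mul_comm.2 (hAD y hy x hx).symm]; exact one_mem _
    · exact commutator_mem_commutator hx hy

variable (D : Dat X)

/-- Dedekind: `Q^n = Z^n (Q ∩ Q^n)` -/
theorem S2766_aux_dedekind (hB : D.Base) {n : X} (hn : n ∈ D.N) (hS : cj n D.Z ⊔ D.Q = D.S) :
    cj n D.Q = cj n D.Z ⊔ (D.Q ⊓ cj n D.Q) := by
  have hnS : cj n D.S = D.S := cj_eq_self_of_mem_normalizer hn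
  have hSNZ : D.S ≤ normalizer (D.Z : Set X) := hB.S_le.trans hB.Z_norm
  have hSNZ' : D.S ≤ normalizer (cj n D.Z : Set X) := by
    have := le_normalizer_cj (x := n) hSNZ
    rwa [hnS] at this
  apply le_antisymm
  · intro x hx
    have hxS : x ∈ D.S := by
      rw [← hnS]; exact cj_mono hB.Q_le hx
    rw [← hS] at hxS
    obtain ⟨a, ha, b, hb, rfl⟩ := B2class_aux_mem_sup (hB.Q_le.trans hSNZ') hxS
    have ha' : a ∈ cj n D.Q := cj_mono hB.Z_le ha
    have hb' : b ∈ cj n D.Q := by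
      have := mul_mem (inv_mem ha') hx
      rwa [inv_mul_cancel_left] at this
    exact mul_mem_sup ha (mem_inf.2 ⟨hb, hb'⟩)
  · exact sup_le (cj_mono hB.Z_le) inf_le_right

/-- **`Q` is abelian** -/
theorem S2766_aux_Qab (hB : D.Base) {n : X} (hn : n ∈ D.N)
    (hS : cj n D.Z ⊔ D.Q = D.S) (hQ : D.Q = D.Z ⊔ (D.Q ⊓ cj n D.Q))
    (hc : D.Q ⊓ cj n D.Q ≤ centralizer ((D.Z ⊔ cj n D.Z : Subgroup X) : Set X))
    (hmaxn : ∀ T : Subgroup X, T ≤ D.Q → D.G ≤ normalizer (T : Set X) → cj n T = T → T = ⊥) :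
    ∀ a ∈ D.Q, ∀ b ∈ D.Q, a * b = b * a := by
  have hQ' := S2766_aux_dedekind D hB hn hS
  have hZD : ∀ a ∈ D.Z, ∀ d ∈ D.Q ⊓ cj n D.Q, a * d = d * a := by
    intro a ha d hd
    have := hc hd
    rw [mem_centralizer_iff] at this
    exact this a (mem_sup_left ha)
  have hZD' : ∀ a ∈ cj n D.Z, ∀ d ∈ D.Q ⊓ cj n D.Q, a * d = d * a := by
    intro a ha d hd
    have := hc hd
    rw [mem_centralizer_iff] at this
    exact this a (mem_sup_right ha)
  have hZ'ab : ∀ a ∈ cj n D.Z, ∀ b ∈ cj n D.Z, a * b = b * a := by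
    intro a ha b hb
    obtain ⟨a', ha', rfl⟩ := mem_cj'.1 ha
    obtain ⟨b', hb', rfl⟩ := mem_cj'.1 hb
    have := hB.Z_comm a' ha' b' hb'
    calc n * a' * n⁻¹ * (n * b' * n⁻¹) = n * (a' * b') * n⁻¹ := by group
      _ = n * (b' * a') * n⁻¹ := by rw [this]
      _ = n * b' * n⁻¹ * (n * a' * n⁻¹) := by group
  have h1 : ⁅D.Q, D.Q⁆ ≤ ⁅D.Q ⊓ cj n D.Q, D.Q ⊓ cj n D.Q⁆ := by
    conv_lhs => rw [hQ]
    exact S2766_aux_comm_sup hB.Z_comm hZD
  have h2 : ⁅cj n D.Q, cj n D.Q⁆ ≤ ⁅D.Q ⊓ cj n D.Q, D.Q ⊓ cj n D.Q⁆ := by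
    conv_lhs => rw [hQ']
    exact S2766_aux_comm_sup hZ'ab hZD'
  have h3 : ⁅D.Q ⊓ cj n D.Q, D.Q ⊓ cj n D.Q⁆ ≤ ⁅D.Q, D.Q⁆ := commutator_mono inf_le_left inf_le_left
  have h4 : ⁅D.Q ⊓ cj n D.Q, D.Q ⊓ cj n D.Q⁆ ≤ ⁅cj n D.Q, cj n D.Q⁆ :=
    commutator_mono inf_le_right inf_le_right
  have h5 : cj n ⁅D.Q, D.Q⁆ = ⁅D.Q, D.Q⁆ := by
    rw [cj_commutator]
    exact le_antisymm (h2.trans h3) (h1.trans h4)
  have h6 : ⁅D.Q, D.Q⁆ = ⊥ := by
    apply hmaxn _ (Subgroup.commutator_le_self D.Q) _ h5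
    intro g hg
    apply mem_normalizer_of_cj_eq
    rw [cj_commutator, cj_eq_self_of_le_normalizer hB.Q_norm hg]
  intro a ha b hb
  have := commutator_mem_commutator ha hb
  rw [h6, mem_bot] at this
  exact commutatorElement_eq_one_iff_mul_comm.1 this

/-- `Q ∩ Q^n` is central in `S` when `Q` is abelian -/
theorem S2766_aux_Dd_central (hB : D.Base) {n : X}
    (hS : cj n D.Z ⊔ D.Q = D.S)
    (hc : D.Q ⊓ cj n D.Q ≤ centralizer ((D.Z ⊔ cj n D.Z : Subgroup X) : Set X))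
    (hQab : ∀ a ∈ D.Q, ∀ b ∈ D.Q, a * b = b * a) :
    D.Q ⊓ cj n D.Q ≤ centralizer (D.S : Set X) := by
  intro d hd
  have h1 : cj n D.Z ≤ centralizer ({d} : Set X) := by
    intro a ha
    rw [mem_centralizer_iff]
    intro y hy
    rw [Set.mem_singleton_iff] at hy
    subst hy
    have := hc hd
    rw [mem_centralizer_iff] at this
    exact (this a (mem_sup_right ha)).symm
  have h2 : D.Q ≤ centralizer ({d} : Set X) := by
    intro a ha
    rw [mem_centralizer_iff]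
    intro y hy
    rw [Set.mem_singleton_iff] at hy
    subst hy
    exact hQab y (mem_inf.1 hd).1 a ha
  have h3 : D.S ≤ centralizer ({d} : Set X) := by
    rw [← hS]; exact sup_le h1 h2
  rw [mem_centralizer_iff]
  intro s hs
  have := h3 hs
  rw [mem_centralizer_iff] at this
  exact (this d rfl).symm

/-- `[S,S] ≤ [Q,S]` when `Q` is abelian -/
theorem S2766_aux_SS (hB : D.Base) {n : X} (hn : n ∈ D.N)
    (hS : cj n D.Z ⊔ D.Q = D.S) : ⁅D.S, D.S⁆ ≤ ⁅D.Q, D.S⁆ := by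
  have hnS : cj n D.S = D.S := cj_eq_self_of_mem_normalizer hn
  have hZ'S : cj n D.Z ≤ D.S := by
    rw [← hnS]; exact cj_mono (hB.Z_le.trans hB.Q_le)
  have hSNQ : D.S ≤ normalizer (D.Q : Set X) := hB.S_le.trans hB.Q_norm
  have hPn : ∀ x ∈ D.S, x ∈ normalizer ((⁅D.Q, D.S⁆ : Subgroup X) : Set X) := by
    intro x hx
    apply mem_normalizer_of_cj_eq
    rw [cj_commutator, cj_eq_self_of_le_normalizer hSNQ hx, cj_eq_self_of_mem hx]
  have hZ'ab : ∀ a ∈ cj n D.Z, ∀ b ∈ cj n D.Z, a * b = b * a := by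
    intro a ha b hb
    obtain ⟨a', ha', rfl⟩ := mem_cj'.1 ha
    obtain ⟨b', hb', rfl⟩ := mem_cj'.1 hb
    have := hB.Z_comm a' ha' b' hb'
    calc n * a' * n⁻¹ * (n * b' * n⁻¹) = n * (a' * b') * n⁻¹ := by group
      _ = n * (b' * a') * n⁻¹ := by rw [this]
      _ = n * b' * n⁻¹ * (n * a' * n⁻¹) := by group
  conv_lhs => rw [← hS, sup_eq_closure]
  apply B2class_aux_gen
  · rintro x (hx | hx)
    · exact hPn x (hZ'S hx)
    · exact hPn x (hB.Q_le hx)
  · rintro x (hx | hx)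
    · exact hPn x (hZ'S hx)
    · exact hPn x (hB.Q_le hx)
  · rintro x (hx | hx) y (hy | hy)
    · rw [commutatorElement_eq_one_iff_mul_comm.2 (hZ'ab x hx y hy)]; exact one_mem _
    · rw [← commutatorElement_inv]
      exact inv_mem (commutator_mem_commutator hy (hZ'S hx))
    · exact commutator_mem_commutator hx (hZ'S hy)
    · exact commutator_mem_commutator hx (hB.Q_le hy)

end Cfsg.Agent.PU
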