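import Cfsg.Agent.Helper29.PU2766C
import Cfsg.Agent.Helper29.PUNatFac
import Cfsg.Agent.Helper28.PUM1Defs

/-! # S2766 (helper29), part E: the `G`-level statement: from `GBase`, the natural factor `Z/A`, `Q = Z` and
`[S,S] ≤ [Q,G]` to `G = G₀ × E`, `G₀ ≅ affSub F`. -/

set_option autoImplicit false

namespace Cfsg.Agent.PU

open Matrix
open scoped commutatorElement

/-- a field with at least four elements has an element `a ≠ 0` with `a² ≠ 1` -/
theorem S2766_aux_field_cond {F : Type*} [Field F] [Fintype F] (hF : 4 ≤ Fintype.card F) :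
    ∃ a : F, a ≠ 0 ∧ a ^ 2 ≠ 1 := by
  classical
  by_contra hcon
  push Not at hcon
  have hsub : (Finset.univ : Finset F) ⊆ ({0, 1, -1} : Finset F) := by
    intro a _
    by_cases ha : a = 0
    · simp [ha]
    · have h := hcon a ha
      have h1 : (a - 1) * (a + 1) = 0 := by ring_nf; rw [h]; ring
      rcases mul_eq_zero.mp h1 with h2 | h2
      · have : a = 1 := sub_eq_zero.mp h2
        simp [this]
      · have : a = -1 := eq_neg_of_add_eq_zero_left h2
        simp [this]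
  have hcard := Finset.card_le_card hsub
  rw [Finset.card_univ] at hcard
  have h3 : ({0, 1, -1} : Finset F).card ≤ 3 := Finset.card_le_three
  omega

/-- in a field with `p ^ n` elements, `p` odd, `2 ≠ 0` -/
theorem S2766_aux_two_ne {F : Type*} [Field F] [Fintype F] {p n : ℕ} (hp : p.Prime) (hp2 : p ≠ 2)
    (hF : Fintype.card F = p ^ n) : (2 : F) ≠ 0 := by
  intro h2
  obtain ⟨c, hc⟩ := CharP.exists F
  have := hc
  obtain ⟨m, hcp, hm⟩ := FiniteField.card F c
  have h1 : c ∣ 2 := by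
    have := (CharP.cast_eq_zero_iff F c 2).1 (by exact_mod_cast h2)
    exact this
  have hc2 : c = 2 := (Nat.prime_dvd_prime_iff_eq hcp Nat.prime_two).1 h1
  have h3 : p ∣ c ^ (m : ℕ) := by
    rw [← hm, hF]
    have hn : n ≠ 0 := by
      rintro rfl
      rw [pow_zero] at hF
      have := Fintype.one_lt_card (α := F)
      omega
    exact dvd_pow_self p hn
  have h4 : p ∣ c := hp.dvd_of_dvd_pow h3
  rw [hc2] at h4
  exact hp2 ((Nat.prime_dvd_prime_iff_eq hp Nat.prime_two).1 h4)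

section Ker

variable {G : Type*} [Group G] {F : Type*} [Field F]

/-- the kernel of `ρ` is the kernel of the action on `U/C` -/
theorem S2766_aux_ker_iff {U C : Subgroup G} (hUn : U.Normal)
    {ρ : G →* SpecialLinearGroup (Fin 2) F} {ψ : ↥U →* Multiplicative (Fin 2 → F)}
    (hψ : Function.Surjective ψ) (hker : ∀ u : ↥U, ψ u = 1 ↔ (u : G) ∈ C)
    (heq : ∀ (g : G) (u w : ↥U), (w : G) = g * (u : G) * g⁻¹ →
      Multiplicative.toAdd (ψ w) =
        ((ρ g : SpecialLinearGroup (Fin 2) F) : Matrix (Fin 2) (Fin 2) F).mulVec (Multiplicative.toAdd (ψ u)))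
    (g : G) : ρ g = 1 ↔ ∀ u ∈ U, ⁅g, u⁆ ∈ C := by
  have hψeq : ∀ a b : ↥U, ψ a = ψ b ↔ (a : G) * (b : G)⁻¹ ∈ C := by
    intro a b
    have := hker (a * b⁻¹)
    rw [map_mul, map_inv, mul_inv_eq_one] at this
    exact this
  constructor
  · intro hg u hu
    have hm : g * u * g⁻¹ ∈ U := hUn.conj_mem _ hu g
    have := heq g ⟨u, hu⟩ ⟨_, hm⟩ rfl
    rw [hg, Matrix.SpecialLinearGroup.coe_one, Matrix.one_mulVec] at this
    have e2 : ψ ⟨g * u * g⁻¹, hm⟩ = ψ ⟨u, hu⟩ := by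
      rw [← ofAdd_toAdd (ψ ⟨u, hu⟩), ← this]; rfl
    have := (hψeq _ _).1 e2
    have e3 : ⁅g, u⁆ = g * u * g⁻¹ * u⁻¹ := commutatorElement_def g u
    rw [e3]
    exact this
  · intro hg
    apply NatFac_aux_faithful
    intro v
    obtain ⟨b, hb⟩ := hψ (Multiplicative.ofAdd v)
    have hb' : Multiplicative.toAdd (ψ b) = v := by rw [hb]; rfl
    have hmem : g * (b : G) * g⁻¹ ∈ U := hUn.conj_mem _ b.2 g
    have := heq g b ⟨_, hmem⟩ rfl
    rw [← hb', ← this]
    congr 1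
    rw [hψeq]
    have hc := hg (b : G) b.2
    rw [commutatorElement_def] at hc
    exact hc

end Ker

section GLevel

variable {G : Type*} [Group G] [Finite G] {p : ℕ} {F : Type*} [Field F] [Fintype F]

/-- **the `G`-level statement** -/
theorem S2766_aux_glevel (S : Subgroup G) {n : ℕ} (hGB : GBase p (p ^ n) S) (hp2 : p ≠ 2)
    (hF : Fintype.card F = p ^ n) (hF4 : 4 ≤ Fintype.card F)
    (hnat : NatFac F (ZG p S) (ZG p S ⊓ Subgroup.center G))
    (hkerG : ∀ g : G, (∀ u ∈ ZG p S, ⁅g, u⁆ ∈ ZG p S ⊓ Subgroup.center G) → g ∈ Cfsg.pCore p G)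
    (hQZ : Cfsg.pCore p G ≤ ZG p S)
    (hidx : S.index.Coprime p) (hSS : ⁅S, S⁆ ≤ ⁅Cfsg.pCore p G, (⊤ : Subgroup G)⁆) :
    ∃ G₀ E : Subgroup G, (∀ a ∈ G₀, ∀ b ∈ E, a * b = b * a) ∧ G₀ ⊓ E = ⊥ ∧ G₀ ⊔ E = ⊤ ∧
      (∀ a ∈ E, ∀ b ∈ E, a * b = b * a) ∧ (∀ a ∈ E, a ^ p = 1) ∧
      Nonempty (↥G₀ ≃* ↥(Cfsg.Agent.Helper17.affSub F)) := by
  have hp : p.Prime := hGB.hp
  have hZn : (ZG p S).Normal := by unfold ZG; exact Subgroup.normalClosure_normal
  have hQeq : Cfsg.pCore p G = ZG p S := le_antisymm hQZ hGB.Z_le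
  obtain ⟨ρ, ψ, hρ, hψ, hker, heq⟩ := hnat.coord
  have hkerρ : ∀ g : G, ρ g = 1 ↔ g ∈ ZG p S := by
    intro g
    rw [S2766_aux_ker_iff hZn hψ hker heq g]
    constructor
    · intro h
      rw [← hQeq]
      exact hkerG g h
    · intro hg u hu
      rw [commutatorElement_eq_one_iff_mul_comm.2 (hGB.Z_comm g hg u hu)]
      exact Subgroup.one_mem _
  -- the involution
  have hodd : Odd p := hp.eq_two_or_odd'.resolve_left hp2
  obtain ⟨t₀, ht₀⟩ := hρ (-1)
  have ht₀2 : t₀ * t₀ ∈ ZG p S := by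
    rw [← hkerρ, map_mul, ht₀]
    simp
  have hsetup : S2766_aux_Setup p (ZG p S) ρ ψ (t₀ ^ p) :=
    { hp := hp
      hp2 := hp2
      two_ne := S2766_aux_two_ne hp hp2 hF
      Qn := hZn
      Qab := hGB.Z_comm
      Qexp := hGB.Z_exp
      surj_ρ := hρ
      surj_ψ := hψ
      ker_ρ := hkerρ
      ker_ψ := by
        intro u
        rw [hker u]
        exact ⟨fun h => (Subgroup.mem_inf.1 h).2, fun h => Subgroup.mem_inf.2 ⟨u.2, h⟩⟩
      equiv := heq
      ht := by rw [map_pow, ht₀, hodd.neg_one_pow]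
      tt := by
        rw [← pow_add, ← two_mul, pow_mul, pow_two]
        exact hGB.Z_exp _ ht₀2 }
  obtain ⟨a, ha, hasq⟩ := S2766_aux_field_cond hF4
  have hperf : commutator (SpecialLinearGroup (Fin 2) F) = ⊤ := Matrix.SL2.commutator_eq_top ha hasq
  rw [hQeq] at hSS
  exact hsetup.main hperf S hidx hSS

end GLevel

end Cfsg.Agent.PU
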