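import Cfsg.Agent.Helper29.PU2766D
import Cfsg.Agent.Helper29.PU2766E
import Cfsg.Agent.Helper29.PURowsP3
import Cfsg.Agent.Helper29.PUB2ker
import Cfsg.Agent.Helper29.PUAsm2
import Cfsg.Agent.Helper28.PUM1
import Cfsg.Agent.Helper14.PUCmain
import Cfsg.Agent.Helper1.PUB2exp
import Cfsg.Agent.Helper14.QdOver4
import Cfsg.Prelude.Def_LocalEven

/-! # S2766 (helper29), part F: from the frozen hypotheses to the `G`-level statement, and back to `H`. -/

set_option autoImplicit false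

namespace Cfsg.Agent.PU

open Subgroup
open scoped commutatorElement

section DatOf

variable {G : Type*} [Group G] {X : Type*} [Group X] {p q : ℕ}

/-- an element of `Q` of order dividing `p` centralising `S` lies in `Z` (`Y = Ω₁Z(S)`) -/
theorem S2766_aux_mem_Z (i : G →* X) (hi : Function.Injective i) (S : Subgroup G)
    (hQS : Cfsg.pCore p G ≤ S) {d : X} (hdQ : d ∈ (datOf p q i S).Q)
    (hdc : d ∈ centralizer (((datOf p q i S).S : Subgroup X) : Set X)) (hdp : d ^ p = 1) :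
    d ∈ (datOf p q i S).Z := by
  obtain ⟨d', hd', rfl⟩ := hdQ
  have hd'S : d' ∈ S := hQS hd'
  have h1 : d' ∈ centralizer (S : Set G) := by
    rw [mem_centralizer_iff]
    intro s hs
    rw [mem_centralizer_iff] at hdc
    have := hdc (i s) ⟨s, hs, rfl⟩
    rw [← map_mul, ← map_mul] at this
    exact hi this
  have h2 : d' ^ p = 1 := by
    apply hi
    rw [map_pow, map_one]
    exact hdp
  have h3 : d' ∈ YG p S := by
    unfold YG Cfsg.omegaOne
    exact subset_closure ⟨mem_inf.2 ⟨hd'S, h1⟩, h2⟩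
  have h4 : d' ∈ ZG p S := by
    unfold ZG
    exact Subgroup.subset_normalClosure h3
  exact ⟨d', h4, rfl⟩

end DatOf

section Final

variable {H : Type*} [Group H] [Finite H] {p : ℕ} [Fact p.Prime]

/-- **S2766, in terms of `affSub F`** -/
theorem S2766_aux_final (hnat : ∀ D : Dat H, D.Base → D.Emb → D.SEl → D.NAT) (hp : 5 ≤ p) (G : Subgroup H)
    (hmax : ∀ R : Subgroup H, IsPGroup p ↥R → R ≠ ⊥ → G ≤ Subgroup.normalizer (R : Set H) →
      Subgroup.normalizer (R : Set H) = G)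
    (S : Sylow p ↥G)
    (hE₁ : Subgroup.centralizer (Cfsg.pCore p ↥G : Set ↥G) ≤ Cfsg.pCore p ↥G)
    (hE₂ : ∃! M : Subgroup ↥G, IsCoatom M ∧ (S : Subgroup ↥G) ≤ M) (K : Subgroup ↥G) [K.Normal]
    (F : Type) [Field F] [Fintype F] (n : ℕ) (hn : 1 ≤ n) (hF : Fintype.card F = p ^ n)
    (hE₃ : Nonempty (↥G ⧸ K ≃* Matrix.ProjectiveSpecialLinearGroup (Fin 2) F))
    (hN : ¬ Subgroup.normalizer (((S : Subgroup ↥G).map G.subtype : Subgroup H) : Set H) ≤ G) :
    ∃ G₀ E : Subgroup ↥G, (∀ a ∈ G₀, ∀ b ∈ E, a * b = b * a) ∧ G₀ ⊓ E = ⊥ ∧ G₀ ⊔ E = ⊤ ∧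
      (∀ a ∈ E, ∀ b ∈ E, a * b = b * a) ∧ (∀ a ∈ E, a ^ p = 1) ∧
      Nonempty (↥G₀ ≃* ↥(Cfsg.Agent.Helper17.affSub F)) := by
  have hpp : p.Prime := Fact.out
  have hp2 : p ≠ 2 := by omega
  have hi : Function.Injective G.subtype := G.subtype_injective
  have hrange : G.subtype.range = G := G.range_subtype
  have hSp : IsPGroup p ↥((S : Subgroup ↥G).map G.subtype) := S.2.map _
  -- (D) in the frozen form
  have hd : ∀ T : Subgroup ↥(S : Subgroup ↥G), T ≠ ⊥ → T.Characteristic →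
      ¬ (T.map (S : Subgroup ↥G).subtype).Normal := by
    intro T hTne hTc hnorm
    have hT'S : T.map (S : Subgroup ↥G).subtype ≤ (S : Subgroup ↥G) := Subgroup.map_subtype_le T
    have hchar : ((T.map (S : Subgroup ↥G).subtype).subgroupOf (S : Subgroup ↥G)).Characteristic := by
      have : (T.map (S : Subgroup ↥G).subtype).subgroupOf (S : Subgroup ↥G) = T :=
        Subgroup.comap_map_eq_self_of_injective (S : Subgroup ↥G).subtype_injective T
      rw [this]
      exact hTc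
    have h1 := TR_aux_char G.subtype hi hT'S hchar
    have h2 : ((T.map (S : Subgroup ↥G).subtype).map G.subtype) ≠ ⊥ := by
      intro h0
      apply hTne
      have := (Subgroup.map_eq_bot_iff_of_injective _ hi).1 h0
      exact (Subgroup.map_eq_bot_iff_of_injective _ (S : Subgroup ↥G).subtype_injective).1 this
    have h3 : IsPGroup p ↥((T.map (S : Subgroup ↥G).subtype).map G.subtype) :=
      hSp.to_le (Subgroup.map_mono hT'S)
    have h4 : G ≤ normalizer (((T.map (S : Subgroup ↥G).subtype).map G.subtype : Subgroup H) : Set H) := by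
      have := TR_aux_range_le_normalizer G.subtype (T.map (S : Subgroup ↥G).subtype)
      rwa [hrange] at this
    have h5 := hmax _ h3 h2 h4
    rw [h5] at h1
    exact hN h1
  have hdX : ∀ T : Subgroup H, T ≤ (S : Subgroup ↥G).map G.subtype → T ≠ ⊥ →
      normalizer (((S : Subgroup ↥G).map G.subtype : Subgroup H) : Set H) ≤ normalizer (T : Set H) →
      ¬ G.subtype.range ≤ normalizer (T : Set H) := by
    intro T hTS hTne hTN hTG
    rw [hrange] at hTG
    have h5 := hmax T (hSp.to_le hTS) hTne hTG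
    rw [h5] at hTN
    exact hN hTN
  have hGB := gbase_of_hyp S hE₁ hE₂ K F n hn hF hE₃ hd
  set D := datOf p (p ^ n) G.subtype (S : Subgroup ↥G) with hD
  have hB : D.Base := base_of_gbase G.subtype hi (S : Subgroup ↥G) hGB hdX
  have hEmb : D.Emb := emb_of_gbase G.subtype hi (S : Subgroup ↥G) hGB
  have hSEl : D.SEl := sel_of_gbase G.subtype (S : Subgroup ↥G) hGB
  have hNAT : D.NAT := hnat D hB hEmb hSEl
  obtain ⟨s, hs1, hs⟩ := exists_isS D hB
  have hs2 : s ≤ 2 := C_main D hB hNAT hs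
  have hs' : D.IsS 1 := by
    have hcases : s = 1 ∨ s = 2 := by omega
    rcases hcases with rfl | rfl
    · exact hs
    · exfalso
      have h3 : D.p = 3 := rows_aux_p3 D hB hNAT hs
      have : p = 3 := h3
      omega
  obtain ⟨n₀, hn₀, hc⟩ := B2_ex D hB hs'
  obtain ⟨h1, _⟩ := B2_S D hB hNAT hs' hn₀ hc
  obtain ⟨h3, h4⟩ := B2_ded D hB hNAT hs' hn₀ hc
  have hDG : D.G = G := hrange
  have hmaxn : ∀ T : Subgroup H, T ≤ D.Q → D.G ≤ normalizer (T : Set H) → cj n₀ T = T → T = ⊥ := by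
    intro T hTQ hTG hTn
    by_contra hTne
    rw [hDG] at hTG
    have h5 := hmax T (hB.S_pgroup.to_le (hTQ.trans hB.Q_le)) hTne hTG
    have h6 : n₀ ∈ D.G := by
      rw [hDG, ← h5]
      exact mem_normalizer_of_cj_eq hTn
    apply hc
    rw [cj_eq_self_of_le_normalizer hB.Z_norm h6]
    exact hB.Z_le
  have hQab := S2766_aux_Qab D hB hn₀ h1 h3 h4 hmaxn
  have hDdc := S2766_aux_Dd_central D hB h1 h4 hQab
  have hSSX := S2766_aux_SS D hB hn₀ h1
  have hexp : ∀ x ∈ D.S, x ^ p = 1 := B2_exp_odd D hB hNAT hs' hp2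
  -- `Q ≤ Z`
  have hQZX : D.Q ≤ D.Z := by
    rw [h3]
    apply sup_le le_rfl
    intro d hd
    exact S2766_aux_mem_Z G.subtype hi (S : Subgroup ↥G) hGB.Q_le (mem_inf.1 hd).1 (hDdc hd)
      (hexp d (hB.Q_le (mem_inf.1 hd).1))
  have hQZ : Cfsg.pCore p ↥G ≤ ZG p (S : Subgroup ↥G) :=
    (Subgroup.map_le_map_iff_of_injective hi).1 hQZX
  -- the natural factor
  obtain ⟨hnat, _, _⟩ := asm_aux_s1 (S : Subgroup ↥G) F n hF hGB G.subtype hi D rfl rfl rfl rfl rfl
    (ST1_natOut D hB hNAT hs') (B2_ker_aux_QL D hB hNAT hs')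
    (fun g hg h => B2_ker D hB hNAT hs' hg h)
  have hA : D.A = (ZG p (S : Subgroup ↥G) ⊓ Subgroup.center ↥G).map G.subtype := by
    rw [asm_aux_map_inf_center G.subtype hi]; rfl
  have hkerG : ∀ g : ↥G, (∀ u ∈ ZG p (S : Subgroup ↥G), ⁅g, u⁆ ∈ ZG p (S : Subgroup ↥G) ⊓ Subgroup.center ↥G) →
      g ∈ Cfsg.pCore p ↥G := by
    intro g hg
    have hgG : G.subtype g ∈ D.G := ⟨g, rfl⟩
    have : G.subtype g ∈ D.Q := by
      apply B2_ker D hB hNAT hs' hgG
      rintro z ⟨z0, hz0, rfl⟩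
      rw [hA, ← map_commutatorElement]
      exact Subgroup.mem_map_of_mem G.subtype (hg z0 hz0)
    exact (Subgroup.mem_map_iff_mem hi).1 this
  have hSS : ⁅(S : Subgroup ↥G), (S : Subgroup ↥G)⁆ ≤ ⁅Cfsg.pCore p ↥G, (⊤ : Subgroup ↥G)⁆ := by
    rw [← Subgroup.map_le_map_iff_of_injective hi, Subgroup.map_commutator, Subgroup.map_commutator,
      ← MonoidHom.range_eq_map]
    exact hSSX.trans (Subgroup.commutator_mono le_rfl hB.S_le)
  have hidx : (S : Subgroup ↥G).index.Coprime p := by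
    rw [Nat.coprime_comm, hpp.coprime_iff_not_dvd]
    exact S.not_dvd_index
  have hF4 : 4 ≤ Fintype.card F := by
    rw [hF]
    calc 4 ≤ p := by omega
      _ = p ^ 1 := (pow_one p).symm
      _ ≤ p ^ n := Nat.pow_le_pow_right hpp.pos hn
  exact S2766_aux_glevel (S : Subgroup ↥G) hGB hp2 hF hF4 hnat hkerG hQZ hidx hSS

end Final

end Cfsg.Agent.PU
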