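import Cfsg.Agent.Helper29.PUWK0Core
import Cfsg.Agent.Helper13.PUD_UQ

/-! # PU hub, row `W_K0` (official wrapper) -/

set_option autoImplicit false

namespace Cfsg.Agent.PU

open Subgroup
open scoped commutatorElement

variable {X : Type*} [Group X] (D : Dat X)

section W2
variable {F : Type} [Field F] [Fintype F] {C : Subgroup X}

/-- the common kernel of the two sections acts trivially on `U/A` -/
theorem W_K0 (hB : D.Base) (hN : D.NAT) (hs : D.IsS 2) (hp : D.p ≠ 2) (hF : Fintype.card F = D.q) (hO : D.NatOut F D.U D.Z C)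
    {k : X} (hk : k ∈ D.G) (h1 : ∀ z ∈ D.Z, ⁅k, z⁆ ∈ D.A) (h2 : ∀ u ∈ D.U, ⁅k, u⁆ ∈ C) : ∀ u ∈ D.U, ⁅k, u⁆ ∈ D.A :=
  W_K0_aux_core D hB hF hO (D_UQ D hB hN hs) hk h1 h2

end W2

end Cfsg.Agent.PU
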