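import Cfsg.Agent.Helper29.PUWUexpCore
import Cfsg.Agent.Helper3.PUDp2
import Cfsg.Agent.Helper9.PUSHV
import Cfsg.Agent.Helper23.PUSHW

/-! # PU hub, row `W_Uexp` (official wrapper) -/

set_option autoImplicit false

namespace Cfsg.Agent.PU

open Subgroup
open scoped commutatorElement

variable {X : Type*} [Group X] (D : Dat X)

/-- `U/A` has exponent `p` -/
theorem W_Uexp (hB : D.Base) (hN : D.NAT) (hs : D.IsS 2) : ∀ u ∈ D.U, u ^ D.p ∈ D.A := by
  have hUQ : D.U ≤ D.Q := SH_V_le D hB hs (by norm_num : 1 < 2)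
  have hUG : D.U ≤ D.G := hUQ.trans (hB.Q_le.trans hB.S_le)
  have hAU : D.A ≤ D.U := (inf_le_left : D.A ≤ D.Z).trans (SH_Z_le_U D)
  exact W_Uexp_aux_core D hB hUG hAU (D_UU' D hB hN hs)

end Cfsg.Agent.PU
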