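import Mathlib
import Cfsg.Prelude.Def_Blocks
import Cfsg.Agent.Helper5.PElementCongr
import Cfsg.Agent.Helper5.BlockDegSq
import Cfsg.Agent.Helper24.DefectZero
import Cfsg.Agent.Helper24.ColumnOrth

/-!
# Congruences of `p^a`-th powers of character values modulo `p`

`χ(u s)^(p^k) ≡ χ(s)^(p^k)` modulo `p` (in the algebraic integers) for a `p`-element `u` with
`u^(p^k) = 1` commuting with `s`; and the `p`-regular parts of two elements are conjugate iff the
`p^a`-th powers of all irreducible character values at them are congruent modulo `p`.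
-/

set_option autoImplicit false

namespace Cfsg.Agent.Helper29.PowCongr

open Cfsg Cfsg.Agent.Helper24 Cfsg.Agent.Helper5 Cfsg.Agent.Helper5.Loc

/-- A rational prime is not a unit in the ring of algebraic integers. -/
theorem natCast_prime_mem_nonunits (p : ℕ) (hp : p.Prime) : (p : AlgInt) ∈ nonunits AlgInt := by
  obtain ⟨M, hM⟩ := exists_isPModular p hp
  intro hu
  exact hM.2.1.ne_top (Ideal.eq_top_of_isUnit_mem M hM.2.2 hu)

/-- **Congruence of `p^k`-th powers modulo `p`.** For a character `χ`, an element `x` with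
`x ^ (p ^ k) = 1` and an element `y` commuting with `x`, the difference
`χ (x * y) ^ (p ^ k) - χ y ^ (p ^ k)` is `p` times an algebraic integer. -/
theorem char_mul_pow_sub_char_pow {G : Type*} [Group G] [Finite G] {p : ℕ} [hp : Fact p.Prime]
    {χ : G → ℂ} (hχ : IsCharacter G χ) (x y : G) (hxy : Commute x y)
    (k : ℕ) (hx : x ^ (p ^ k) = 1) :
    ∃ γ : AlgInt, χ (x * y) ^ (p ^ k) - χ y ^ (p ^ k) = (p : ℂ) * (γ : ℂ) := by
  classical
  set A : Subgroup G := Subgroup.closure ({x, y} : Set G) with hA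
  have hpair : ∀ a ∈ ({x, y} : Set G), ∀ b ∈ ({x, y} : Set G), a * b = b * a := by
    intro a ha b hb
    rcases ha with rfl | rfl <;> rcases hb with rfl | rfl
    · rfl
    · exact hxy.eq
    · exact hxy.eq.symm
    · rfl
  have hcommA : ∀ a b : A, a * b = b * a := by
    have h := Subgroup.isMulCommutative_closure hpair
    intro a b
    exact h.is_comm.comm a b
  have : Fintype A := Fintype.ofFinite _
  have : Fintype (IrrCharacter A) := Fintype.ofFinite _
  have hres : IsCharacter A (fun a : A => χ a) := Cfsg.Agent.Helper8.isCharacter_restrict A hχ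
  obtain ⟨n, hn⟩ := IsCharacter.exists_nat_coeff hres
  have hxA : x ∈ A := Subgroup.subset_closure (by simp)
  have hyA : y ∈ A := Subgroup.subset_closure (by simp)
  have hlin : ∀ ψ : IrrCharacter A, (ψ : A → ℂ) 1 = 1 := comm_iff_forall_irr_one.mp hcommA
  have e1 : χ (x * y) = ∑ ψ : IrrCharacter A, (n ψ : ℂ) * (ψ : A → ℂ) (⟨x, hxA⟩ * ⟨y, hyA⟩) := by
    have := congrFun hn (⟨x, hxA⟩ * ⟨y, hyA⟩)
    rw [Finset.sum_apply] at this
    exact this
  have e2 : χ y = ∑ ψ : IrrCharacter A, (n ψ : ℂ) * (ψ : A → ℂ) ⟨y, hyA⟩ := by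
    have := congrFun hn ⟨y, hyA⟩
    rw [Finset.sum_apply] at this
    exact this
  -- algebraic integer versions
  let v : IrrCharacter A → A → AlgInt := fun ψ a => ⟨(ψ : A → ℂ) a, irr_isIntegral ψ a⟩
  let X : AlgInt := ∑ ψ : IrrCharacter A, (n ψ : AlgInt) * (v ψ ⟨x, hxA⟩ * v ψ ⟨y, hyA⟩)
  let Y : AlgInt := ∑ ψ : IrrCharacter A, (n ψ : AlgInt) * v ψ ⟨y, hyA⟩
  have hX : (X : ℂ) = χ (x * y) := by
    rw [e1]
    simp only [X]
    rw [AddSubmonoidClass.coe_finsetSum]
    refine Finset.sum_congr rfl fun ψ _ => ?_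
    have hψc := IsIrrCharacter.isCharacter ψ.2
    rw [linChar_mul hψc (hlin ψ)]
    simp [v]
  have hY : (Y : ℂ) = χ y := by
    rw [e2]
    simp only [Y]
    rw [AddSubmonoidClass.coe_finsetSum]
    refine Finset.sum_congr rfl fun ψ _ => ?_
    simp [v]
  have hvx : ∀ ψ : IrrCharacter A, v ψ ⟨x, hxA⟩ ^ (p ^ k) = 1 := by
    intro ψ
    have hψc := IsIrrCharacter.isCharacter ψ.2
    apply Subtype.ext
    have hc : ((v ψ ⟨x, hxA⟩ ^ (p ^ k) : AlgInt) : ℂ) = (ψ : A → ℂ) ⟨x, hxA⟩ ^ (p ^ k) := by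
      simp [v]
    rw [hc, OneMemClass.coe_one]
    rw [← linChar_pow hψc (hlin ψ)]
    have : (⟨x, hxA⟩ : A) ^ (p ^ k) = 1 := by
      apply Subtype.ext
      simp [hx]
    rw [this, hlin ψ]
  -- work in the quotient by `p`
  have hchar : CharP (AlgInt ⧸ (Ideal.span ({(p : AlgInt)} : Set AlgInt))) p :=
    CharP.quotient AlgInt p (natCast_prime_mem_nonunits p hp.out)
  set φ := Ideal.Quotient.mk (Ideal.span ({(p : AlgInt)} : Set AlgInt)) with hφ
  have hXY : φ X ^ (p ^ k) = φ Y ^ (p ^ k) := by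
    simp only [X, Y]
    rw [map_sum, map_sum, sum_pow_char_pow, sum_pow_char_pow]
    refine Finset.sum_congr rfl fun ψ _ => ?_
    rw [map_mul, map_mul, map_mul, mul_pow, mul_pow, mul_pow, ← map_pow φ (v ψ ⟨x, hxA⟩), hvx ψ,
      map_one, one_mul]
  have hmem : X ^ (p ^ k) - Y ^ (p ^ k) ∈ Ideal.span ({(p : AlgInt)} : Set AlgInt) := by
    apply Ideal.Quotient.eq_zero_iff_mem.mp
    rw [map_sub, map_pow, map_pow, hXY, sub_self]
  rw [Ideal.mem_span_singleton] at hmem
  obtain ⟨γ, hγ⟩ := hmem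
  refine ⟨γ, ?_⟩
  rw [← hX, ← hY]
  have := congrArg (fun z : AlgInt => (z : ℂ)) hγ
  simpa using this


/-- If `α ^ (p ^ k) - β ^ (p ^ k) ∈ M` then `α - β ∈ M`. -/
theorem sub_mem_of_pow_sub_pow_mem {p : ℕ} [hp : Fact p.Prime] {M : Ideal AlgInt}
    (hM : IsPModular p M) (α β : AlgInt) (k : ℕ)
    (h : α ^ (p ^ k) - β ^ (p ^ k) ∈ M) : α - β ∈ M := by
  have hchar : CharP (AlgInt ⧸ M) p := algInt_quot_charP p M hM
  have hmax := hM.2.1
  let _ := Ideal.Quotient.field M
  have h1 : (Ideal.Quotient.mk M α - Ideal.Quotient.mk M β) ^ (p ^ k) = 0 := by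
    rw [sub_pow_char_pow, ← map_pow, ← map_pow, ← map_sub]
    exact Ideal.Quotient.eq_zero_iff_mem.mpr h
  have h2 := (pow_eq_zero_iff (pow_ne_zero k hp.out.ne_zero)).mp h1
  apply Ideal.Quotient.eq_zero_iff_mem.mp
  rw [map_sub]; exact h2

/-- An element of `p`-power order is killed by the `p`-part of the group order. -/
theorem pow_ppart_card_eq_one {G : Type*} [Group G] [Finite G] {p : ℕ} [hp : Fact p.Prime] (u : G)
    (hu : ∃ k : ℕ, orderOf u = p ^ k) : u ^ (p ^ (Nat.card G).factorization p) = 1 := by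
  obtain ⟨k, hk⟩ := hu
  have h1 : p ^ k ∣ Nat.card G := hk ▸ orderOf_dvd_natCard u
  have h2 : k ≤ (Nat.card G).factorization p :=
    (hp.out.pow_dvd_iff_le_factorization Nat.card_pos.ne').mp h1
  rw [← orderOf_dvd_iff_pow_eq_one, hk]
  exact pow_dvd_pow p h2

/-- **Conjugacy of `p`-regular parts, detected modulo `p`.** -/
theorem isConj_regular_iff {G : Type*} [Group G] [Finite G] (p : ℕ) [hp : Fact p.Prime]
    (x y x' y' : G)
    (hx : (∃ k : ℕ, orderOf (x * x'⁻¹) = p ^ k) ∧ Commute (x * x'⁻¹) x' ∧ ¬ p ∣ orderOf x')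
    (hy : (∃ k : ℕ, orderOf (y * y'⁻¹) = p ^ k) ∧ Commute (y * y'⁻¹) y' ∧ ¬ p ∣ orderOf y') :
    IsConj x' y' ↔ ∀ χ : IrrCharacter G, ∃ γ : AlgInt,
      (χ : G → ℂ) x ^ (p ^ (Nat.card G).factorization p) -
        (χ : G → ℂ) y ^ (p ^ (Nat.card G).factorization p) = (p : ℂ) * (γ : ℂ) := by
  classical
  set a := (Nat.card G).factorization p with ha
  have hxq : ∀ χ : IrrCharacter G, ∃ γ : AlgInt,
      (χ : G → ℂ) x ^ (p ^ a) - (χ : G → ℂ) x' ^ (p ^ a) = (p : ℂ) * (γ : ℂ) := by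
    intro χ
    have h := char_mul_pow_sub_char_pow (IsIrrCharacter.isCharacter χ.2) (x * x'⁻¹) x' hx.2.1 a
      (pow_ppart_card_eq_one _ hx.1)
    rwa [inv_mul_cancel_right] at h
  have hyq : ∀ χ : IrrCharacter G, ∃ γ : AlgInt,
      (χ : G → ℂ) y ^ (p ^ a) - (χ : G → ℂ) y' ^ (p ^ a) = (p : ℂ) * (γ : ℂ) := by
    intro χ
    have h := char_mul_pow_sub_char_pow (IsIrrCharacter.isCharacter χ.2) (y * y'⁻¹) y' hy.2.1 a
      (pow_ppart_card_eq_one _ hy.1)
    rwa [inv_mul_cancel_right] at h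
  constructor
  · intro hc χ
    obtain ⟨γ₁, h1⟩ := hxq χ
    obtain ⟨γ₂, h2⟩ := hyq χ
    have hcl : (χ : G → ℂ) x' = (χ : G → ℂ) y' := by
      obtain ⟨c, hc'⟩ := isConj_iff.mp hc
      rw [← hc']
      exact (IsCharacter.isClassFunction (IsIrrCharacter.isCharacter χ.2) x' c).symm
    refine ⟨γ₁ - γ₂, ?_⟩
    push_cast
    rw [mul_sub, ← h1, ← h2, hcl]
    ring
  · intro h
    by_contra hnc
    obtain ⟨M, hM⟩ := exists_isPModular p hp.out
    have hMp := isPrime_of_isPModular hM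
    have : Fintype G := Fintype.ofFinite G
    have : Fintype (IrrCharacter G) := Fintype.ofFinite _
    have hdiff : ∀ χ : IrrCharacter G,
        MemLocalIdeal M ((χ : G → ℂ) x' - (χ : G → ℂ) y') := by
      intro χ
      obtain ⟨γ, h0⟩ := h χ
      obtain ⟨γ₁, h1⟩ := hxq χ
      obtain ⟨γ₂, h2⟩ := hyq χ
      let α : AlgInt := ⟨(χ : G → ℂ) x', irr_isIntegral χ x'⟩
      let β : AlgInt := ⟨(χ : G → ℂ) y', irr_isIntegral χ y'⟩
      have hmem : α ^ (p ^ a) - β ^ (p ^ a) ∈ M := by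
        have e : α ^ (p ^ a) - β ^ (p ^ a) = (p : AlgInt) * (γ - γ₁ + γ₂) := by
          apply Subtype.ext
          have hc1 : ((α ^ (p ^ a) - β ^ (p ^ a) : AlgInt) : ℂ) =
              (χ : G → ℂ) x' ^ (p ^ a) - (χ : G → ℂ) y' ^ (p ^ a) := by
            simp [α, β]
          rw [hc1]
          push_cast
          rw [mul_add, mul_sub, ← h0, ← h1, ← h2]
          ring
        rw [e]
        exact M.mul_mem_right _ hM.2.2
      have h3 := sub_mem_of_pow_sub_pow_mem hM α β a hmem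
      have h4 := (memLocalIdeal_algInt_iff hMp (α - β)).mpr h3
      have h5 : ((α - β : AlgInt) : ℂ) = (χ : G → ℂ) x' - (χ : G → ℂ) y' := by simp [α, β]
      rwa [h5] at h4
    obtain ⟨r, hr, hfr⟩ := Cfsg.Agent.Helper5.BDS.exists_lr_coeff_of_regular hM
      (isClassFunction_classIndicator x')
      (fun t => by
        by_cases hc : IsConj x' t
        · rw [classIndicator_of_isConj hc]; exact memLocalRing_one hMp
        · rw [classIndicator_of_not_isConj hc]; exact memLocalRing_zero hMp)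
    have e1 := hfr x' hx.2.2
    have e2 := hfr y' hy.2.2
    rw [classIndicator_of_isConj (IsConj.refl x')] at e1
    rw [classIndicator_of_not_isConj hnc] at e2
    have e3 : (1 : ℂ) = ∑ χ : IrrCharacter G, r χ * ((χ : G → ℂ) x' - (χ : G → ℂ) y') := by
      have : (1 : ℂ) = 1 - 0 := by ring
      rw [this, e1, e2, ← Finset.sum_sub_distrib]
      refine Finset.sum_congr rfl fun χ _ => ?_
      ring
    apply not_memLocalIdeal_one hMp
    rw [e3]
    apply li_sum hMp
    intro χ _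
    exact li_mul_left hMp (hr χ) (hdiff χ)

end Cfsg.Agent.Helper29.PowCongr
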