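import Mathlib
import Cfsg.Agent.Helper29.PqN6
import Cfsg.Agent.Helper4.PqFF
import Cfsg.Agent.Helper8.PqHH

/-!
# S4306, piece (N): step (β3)
-/

set_option autoImplicit false
set_option maxHeartbeats 800000

namespace Cfsg.Agent.Helper29.Pq

open scoped commutatorElement
open Module Cfsg.Agent.Helper29.S3f

variable {Γ : Type*} [Group Γ] {A : Type*} [Group A]
  {K : Type*} [Field K] {M : Type*} [AddCommGroup M] [Module K M]
  {f η : A} {ℓ h : ℕ} {j : A →* Γ} {X S Q Z Q0 : Subgroup Γ} {s q : ℕ}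
  {ρ : Representation K Γ M}

namespace NCtx

/-- (β3) a weight fixed by `η` is impossible when `F` is free on the weights and `[Q,F] ≤ Q₀`. -/
theorem b3 [Finite Γ] [Finite A] [IsAlgClosed K] [FiniteDimensional K M] [Z.Normal]
    (H : NCtx f η ℓ h j X S Q Z Q0 s q ρ)
    (hβ : ∀ ζ : ↥Z →* Kˣ, wtSpace ρ Z ζ ≠ ⊥ → conjChar (j f) ζ ≠ ζ)
    (hFQ : ∀ x ∈ Q, j f * x * (j f)⁻¹ * x⁻¹ ∈ Q0)
    {ζ : ↥Z →* Kˣ} (hζ : wtSpace ρ Z ζ ≠ ⊥) (hη : conjChar (j η) ζ = ζ) : False := by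
  haveI := H.Sn
  haveI := H.Q0n
  haveI := H.Xn
  have hSn : S.Normal := H.Sn
  have hh : h.Prime := H.hA.hh
  -- invariance of `U`
  have hUX : ∀ g ∈ X, ∀ m ∈ wtSpace ρ Z ζ, ρ g m ∈ wtSpace ρ Z ζ :=
    fun g hg m hm => rho_mem_wtSpace_of_comm ρ Z (H.hXZ g hg) hm
  have hUS : ∀ u ∈ S, ∀ m ∈ wtSpace ρ Z ζ, ρ u m ∈ wtSpace ρ Z ζ :=
    fun u hu => hUX u (H.hSX hu)
  have hUη : ∀ m ∈ wtSpace ρ Z ζ, ρ (j η) m ∈ wtSpace ρ Z ζ :=
    fun m hm => rho_mem_wtSpace_of_stab ρ Z j hη hm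
  have hη' : conjChar (j η⁻¹) ζ = ζ := (stabChar Z j ζ).inv_mem hη
  have hUη' : ∀ m ∈ wtSpace ρ Z ζ, ρ (j η)⁻¹ m ∈ wtSpace ρ Z ζ := by
    intro m hm
    rw [← map_inv]
    exact rho_mem_wtSpace_of_stab ρ Z j hη' hm
  -- no fixed vectors of `η` on `U`
  have hstab : ∀ a : A, conjChar (j a) ζ = ζ → a ∈ Subgroup.zpowers η :=
    fun a ha => stab_le_η Z H.hA j hη (hβ ζ hζ) ha
  have hfixU : ∀ m ∈ wtSpace ρ Z ζ, ρ (j η) m = m → m = 0 :=
    fun m hm hfix => fix_eq_zero ρ Z H.hZab j H.hAK H.hfixA hm η hstab hfix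
  have hjη1 : j η ≠ 1 := by
    intro h1
    obtain ⟨m, hm, hm0⟩ := (Submodule.ne_bot_iff _).mp hζ
    apply hm0
    apply hfixU m hm
    rw [h1, map_one, Module.End.one_apply]
  -- the radical and `C`
  obtain ⟨R, hR⟩ := exists_radSub ρ S Z (wtSpace ρ Z ζ) H.hder H.hcen
  have hRS : R ≤ S := rad_le hR
  have hRn : ∀ u ∈ S, ∀ v ∈ R, u * v * u⁻¹ ∈ R := fun u hu v hv => rad_normal hR hUS hu hv
  have hηS : ∀ u ∈ S, j η * u * (j η)⁻¹ ∈ S := fun u hu => H.jS η hu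
  obtain ⟨C, hC⟩ := exists_cSub hRS hRn (j η) hηS
  have hRη : ∀ v ∈ R, j η * v * (j η)⁻¹ ∈ R := by
    intro v hv
    exact rad_conj hR hηS (fun u hu => H.jS' η hu) hUη' hv
  have hRQ : ∀ x ∈ Q, ∀ v ∈ R, x * v * x⁻¹ ∈ R := by
    intro x hx v hv
    apply rad_conj hR (y := x) _ _ _ hv
    · intro u hu; exact hSn.conj_mem u hu x
    · intro u hu
      have := hSn.conj_mem u hu x⁻¹
      rwa [inv_inv] at this
    · intro m hm; exact hUX _ (X.inv_mem (H.hQX hx)) m hm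
  have hZR : Z ≤ R := le_rad hR H.hZS H.hcen
  have hRC : R ≤ C := by
    intro v hv
    exact (hC v).mpr ⟨hRS hv, R.mul_mem (hRη v hv) (R.inv_mem hv)⟩
  have hCS : C ≤ S := fun u hu => ((hC u).mp hu).1
  -- Hall–Higman
  have hsc : ∀ u ∈ S, ∀ v ∈ S, ∃ c : K, ∀ m ∈ wtSpace ρ Z ζ,
      ρ (u * v * u⁻¹ * v⁻¹) m = c • m := by
    intro u hu v hv
    exact ⟨((ζ ⟨_, H.hder u hu v hv⟩ : Kˣ) : K), fun m hm => hm ⟨_, H.hder u hu v hv⟩⟩
  obtain ⟨⟨n, hn⟩, halt⟩ := Cfsg.Agent.Helper8.PqHH.hall_higman_step ρ S (j η) h hh H.hSK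
    H.hhK (H.not_dvd_S hh H.h_dvd_card) hηS H.jη_pow (wtSpace ρ Z ζ) hUS hUη hsc hfixU R C hR hC
  -- Frobenius formula
  have hcopS : (Nat.card S).Coprime (Nat.card Q * h) :=
    Nat.Coprime.mul_right H.copQS.symm (Nat.Coprime.coprime_dvd_right H.h_dvd_card H.copSA)
  have hcopQ : (Nat.card Q).Coprime h := Nat.Coprime.coprime_dvd_right H.h_dvd_card H.copQA
  have hfpfη : ∀ x ∈ Q, j η * x * (j η)⁻¹ * x⁻¹ ∈ Q0 → x ∈ Q0 := by
    intro x hx hxη
    exact H.η_fpf_Qt hFQ (j η) ⟨η, Subgroup.mem_zpowers η, rfl⟩ hjη1 x hx hxη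
  have hCSQ : ∀ u ∈ S, (∀ x ∈ Q, x * u * x⁻¹ * u⁻¹ ∈ R) → u ∈ R := by
    intro u hu hfix
    have hQS : Q ≤ Subgroup.normalizer ((S : Subgroup Γ) : Set Γ) := by
      rw [Subgroup.normalizer_eq_top]; exact le_top
    have hSR : S ≤ Subgroup.normalizer ((R : Subgroup Γ) : Set Γ) :=
      Cfsg.Agent.Helper4.PqFP.le_normalizer_of_conj_mem S R hRn
    have hQR : Q ≤ Subgroup.normalizer ((R : Subgroup Γ) : Set Γ) :=
      Cfsg.Agent.Helper4.PqFP.le_normalizer_of_conj_mem Q R hRQ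
    obtain ⟨c, hc, huc⟩ := Cfsg.Agent.Lead.coprime_fixed_points_quotient Q S hQS H.copQS
      (Or.inr H.S_solv) R hRS hSR hQR u hu hfix
    obtain ⟨hcS, hcC⟩ := Subgroup.mem_inf.mp hc
    have hcZ : c ∈ Z := by
      apply H.hZQ c hcS
      intro x hx
      rw [Subgroup.mem_centralizer_iff] at hcC
      rw [hcC x hx]; group
    have h1 : u⁻¹ ∈ R := by
      have := R.mul_mem huc (R.inv_mem (hZR hcZ))
      rwa [mul_inv_cancel_right] at this
    exact (R.inv_mem_iff).mp h1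
  have hFF := Cfsg.Agent.Helper4.PqFF.frob_formula_section S Q Q0 R C (j η) h hh H.jη_pow hjη1
    H.S_solv H.hQ0 (fun x hx => H.hQA η x hx) hRS hRn hRQ hRη hcopS hcopQ hfpfη hCSQ hC
  have hmul : R.relIndex C * C.relIndex S = R.relIndex S := Subgroup.relIndex_mul_relIndex R C S hRC hCS
  have hc0 : 0 < R.relIndex C := by
    apply Nat.pos_of_ne_zero
    unfold Subgroup.relIndex
    exact Subgroup.index_ne_zero_of_finite
  rcases halt with htriv | ⟨N, hN1, hhN, hNk⟩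
  · -- `[S, η]` trivial on `U`
    have hCeq : S ≤ C := by
      intro u hu
      refine (hC u).mpr ⟨hu, ?_⟩
      apply mem_rad_of_trivial hR hUS (S.mul_mem (hηS u hu) (S.inv_mem hu))
      exact htriv u hu
    have hCS1 : C.relIndex S = 1 := Subgroup.relIndex_eq_one.mpr hCeq
    rw [hCS1, mul_one] at hmul
    have hc1 : R.relIndex C = 1 := by
      rw [← hmul] at hFF
      by_contra hne
      have h2 : 2 ≤ R.relIndex C := by omega
      have h3 : R.relIndex C ^ 1 < R.relIndex C ^ h :=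
        Nat.pow_lt_pow_right h2 hh.one_lt
      rw [pow_one] at h3
      omega
    rw [hc1] at hmul
    have hSR : S ≤ R := Subgroup.relIndex_eq_one.mp hmul.symm
    -- all commutators of `S` are trivial
    have hSab : ∀ a ∈ S, ∀ b ∈ S, a * b = b * a := by
      intro a ha b hb
      have hab : a * b * a⁻¹ * b⁻¹ ∈ S :=
        S.mul_mem (S.mul_mem (S.mul_mem ha hb) (S.inv_mem ha)) (S.inv_mem hb)
      have h1 : a * b * a⁻¹ * b⁻¹ = 1 := by
        apply dfix ρ Z j X S H.hcov H.hXZ H.hfix0 hζ hab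
        intro a' m hm
        have e : (j a')⁻¹ * (a * b * a⁻¹ * b⁻¹) * j a'
            = ((j a')⁻¹ * a * j a') * ((j a')⁻¹ * b * j a') * ((j a')⁻¹ * a * j a')⁻¹
              * ((j a')⁻¹ * b * j a')⁻¹ := by group
        rw [e]
        exact ((hR _).mp (hSR (H.jS' a' ha))).2 _ (H.jS' a' hb) m hm
      calc a * b = (a * b * a⁻¹ * b⁻¹) * (b * a) := by group
        _ = b * a := by rw [h1, one_mul]
    have hbot := cenSQ_eq_bot_of_abelian S Q hSab H.copQS H.hcomm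
    apply H.hZne
    rw [eq_bot_iff]
    intro z hz
    rw [← hbot]
    exact mem_cenSQ.mpr ⟨H.hZS hz, fun x hx => H.hXZ x (H.hQX hx) z hz⟩
  · exact b3_arith hN1 hhN hc0 hNk hn hFF (by rw [hmul])

end NCtx

end Cfsg.Agent.Helper29.Pq
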