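import Mathlib
import Cfsg.Agent.Helper29.PqN6
import Cfsg.Agent.Helper27.PqL1

/-!
# S4306, piece (N): step (β1): `C_S(F) = 1`
-/

set_option autoImplicit false
set_option maxHeartbeats 800000

namespace Cfsg.Agent.Helper29.Pq

open scoped commutatorElement
open Module Cfsg.Agent.Helper29.S3f

variable {Γ : Type*} [Group Γ] {A : Type*} [Group A]
  {K : Type*} [Field K] {M : Type*} [AddCommGroup M] [Module K M]
  {f η : A} {ℓ h : ℕ} {j : A →* Γ} {X S Q Z Q0 : Subgroup Γ} {s q : ℕ}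
  {ρ : Representation K Γ M}

theorem mem_normalizer_of_conj (N : Subgroup Γ) (x : Γ) (h1 : ∀ n ∈ N, x * n * x⁻¹ ∈ N)
    (h2 : ∀ n ∈ N, x⁻¹ * n * x ∈ N) : x ∈ Subgroup.normalizer (N : Set Γ) := by
  rw [Subgroup.mem_normalizer_iff]
  intro n
  constructor
  · exact h1 n
  · intro hn
    have := h2 _ hn
    have e : x⁻¹ * (x * n * x⁻¹) * x = n := by group
    rwa [e] at this

namespace NCtx

/-- `⟨j f⟩` is `A`-invariant. -/
theorem ginv_zpowers_f (H : NCtx f η ℓ h j X S Q Z Q0 s q ρ) :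
    GInv j (Subgroup.zpowers (j f)) := by
  intro a y hy
  rw [← MonoidHom.map_zpowers] at hy ⊢
  obtain ⟨v, hv, rfl⟩ := hy
  refine ⟨a * v * a⁻¹, Cfsg.Agent.Helper4.PqFQ.conj_f_mem H.hA a hv, ?_⟩
  rw [map_mul, map_mul, map_inv]

/-- (β1) if no weight of `Z` is fixed by `f`, then `C_S(f) = 1`. -/
theorem b1 [Finite Γ] [Finite A] [IsAlgClosed K] [FiniteDimensional K M] [Z.Normal]
    (H : NCtx f η ℓ h j X S Q Z Q0 s q ρ) {ζ0 : ↥Z →* Kˣ} (hζ0 : wtSpace ρ Z ζ0 ≠ ⊥)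
    (hβ : ∀ ζ : ↥Z →* Kˣ, wtSpace ρ Z ζ ≠ ⊥ → conjChar (j f) ζ ≠ ζ) :
    ∀ u ∈ S, j f * u * (j f)⁻¹ = u → u = 1 := by
  haveI := H.Sn
  haveI := H.Xn
  have hh : h.Prime := H.hA.hh
  -- a weight fixed by `η`
  obtain ⟨a, ha1, ha⟩ := exists_stab_ne_one ρ Z H.hZab j H.hAK H.hfixA hζ0
  obtain ⟨b, hη⟩ := exists_conj_fix_η Z H.hA j (hβ ζ0 hζ0) ha1 ha
  have hζ : wtSpace ρ Z (conjChar (j b) ζ0) ≠ ⊥ := by
    obtain ⟨m0, hm0ζ, hm0⟩ := (Submodule.ne_bot_iff _).mp hζ0
    intro hbot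
    have h1 := rho_mem_wtSpace_conjChar ρ Z (j b) hm0ζ
    rw [hbot] at h1
    have h2 := (Submodule.mem_bot _).mp h1
    apply hm0
    apply S3f.rho_injective ρ (j b)
    rw [h2, map_zero]
  set ζ := conjChar (j b) ζ0 with hζdef
  -- invariance of `U`
  have hUX : ∀ g ∈ X, ∀ m ∈ wtSpace ρ Z ζ, ρ g m ∈ wtSpace ρ Z ζ :=
    fun g hg m hm => rho_mem_wtSpace_of_comm ρ Z (H.hXZ g hg) hm
  have hUS : ∀ u ∈ S, ∀ m ∈ wtSpace ρ Z ζ, ρ u m ∈ wtSpace ρ Z ζ :=
    fun u hu => hUX u (H.hSX hu)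
  have hUη : ∀ m ∈ wtSpace ρ Z ζ, ρ (j η) m ∈ wtSpace ρ Z ζ :=
    fun m hm => rho_mem_wtSpace_of_stab ρ Z j hη hm
  have hη' : conjChar (j η⁻¹) ζ = ζ := (stabChar Z j ζ).inv_mem hη
  have hUη' : ∀ m ∈ wtSpace ρ Z ζ, ρ (j η)⁻¹ m ∈ wtSpace ρ Z ζ := by
    intro m hm
    rw [← map_inv]
    exact rho_mem_wtSpace_of_stab ρ Z j hη' hm
  have hstab : ∀ a : A, conjChar (j a) ζ = ζ → a ∈ Subgroup.zpowers η :=
    fun a ha => stab_le_η Z H.hA j hη (hβ ζ hζ) ha
  have hfixU : ∀ m ∈ wtSpace ρ Z ζ, ρ (j η) m = m → m = 0 :=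
    fun m hm hfix => fix_eq_zero ρ Z H.hZab j H.hAK H.hfixA hm η hstab hfix
  -- `CF = C_S(f)` and its centre `B`
  set CF : Subgroup Γ := cenSQ S (Subgroup.zpowers (j f)) with hCFdef
  have hCFA : GInv j CF := cenSQ_ginv j S _ (GInv.of_normal j S) H.ginv_zpowers_f
  have hCFS : CF ≤ S := cenSQ_le _ _
  set B : Subgroup Γ := cenSQ CF CF with hBdef
  have hBA : GInv j B := cenSQ_ginv j CF CF hCFA hCFA
  have hBCF : B ≤ CF := cenSQ_le _ _
  have hBS : B ≤ S := hBCF.trans hCFS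
  have hBab : ∀ a ∈ B, ∀ b ∈ B, a * b = b * a :=
    fun a ha b hb => (mem_cenSQ'.mp ha).2 b (hBCF hb)
  have hBK : (Nat.card B : K) ≠ 0 := by
    obtain ⟨d, hd⟩ := Subgroup.card_dvd_of_le hBS
    intro h0
    apply H.hSK
    rw [hd, Nat.cast_mul, h0, zero_mul]
  have hL1 := Cfsg.Agent.Helper27.PqL1.L1 ρ B hBab hBK (j η) (fun b hb => hBA η b hb) h hh
    H.jη_pow (wtSpace ρ Z ζ) (fun b hb => hUS b (hBS hb)) hUη hfixU
  -- `T`: elements of `B` acting trivially on `U`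
  set T : Subgroup Γ := B ⊓ trivSub ρ (wtSpace ρ Z ζ) with hTdef
  have hTB : T ≤ B := inf_le_left
  have hηB : j η ∈ Subgroup.normalizer (B : Set Γ) :=
    range_le_normalizer_of_GInv j hBA ⟨η, rfl⟩
  have hηT : j η ∈ Subgroup.normalizer (T : Set Γ) := by
    apply mem_normalizer_of_conj
    · intro t ht
      obtain ⟨htB, htU⟩ := Subgroup.mem_inf.mp ht
      refine Subgroup.mem_inf.mpr ⟨hBA η t htB, fun m hm => ?_⟩
      rw [rho_mul' ρ (j η * t), rho_mul' ρ (j η) t, htU _ (hUη' m hm)]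
      exact rho_rho_inv ρ (j η) m
    · intro t ht
      obtain ⟨htB, htU⟩ := Subgroup.mem_inf.mp ht
      refine Subgroup.mem_inf.mpr ⟨hBA.inv_conj η htB, fun m hm => ?_⟩
      rw [rho_mul' ρ ((j η)⁻¹ * t), rho_mul' ρ (j η)⁻¹ t, htU _ (hUη m hm)]
      exact rho_inv_rho ρ (j η) m
  have hBT : B ≤ Subgroup.normalizer (T : Set Γ) := by
    intro b hb
    apply mem_normalizer_of_conj
    · intro t ht
      have e : b * t * b⁻¹ = t := by
        rw [hBab b hb t (hTB ht)]; group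
      rw [e]; exact ht
    · intro t ht
      have e : b⁻¹ * t * b = t := by
        rw [mul_assoc, hBab t (hTB ht) b hb]; group
      rw [e]; exact ht
  have hcomm1 : ∀ b ∈ B, j η * b * (j η)⁻¹ * b⁻¹ ∈ T := by
    intro b hb
    exact Subgroup.mem_inf.mpr ⟨B.mul_mem (hBA η b hb) (B.inv_mem hb), hL1 b hb⟩
  have hcommAll := comm_mem_of_mem_zpowers B T (j η) hηB hηT hBT hcomm1
  -- every element of `B` lies in `T`
  have hBsolv : Group.IsSolvable ↥B := by
    haveI : IsMulCommutative ↥B := ⟨⟨fun a b => Subtype.ext (hBab a a.2 b b.2)⟩⟩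
    exact Cfsg.Agent.Lead.isSolvable_of_isMulCommutative B
  have hcardη : Nat.card ↥(Subgroup.zpowers (j η)) ∣ h := by
    rw [Nat.card_zpowers]
    exact orderOf_dvd_of_pow_eq_one H.jη_pow
  have hcop : (Nat.card ↥(Subgroup.zpowers (j η))).Coprime (Nat.card B) := by
    have h1 : (Nat.card B).Coprime (Nat.card A) :=
      Nat.Coprime.coprime_dvd_left (Subgroup.card_dvd_of_le hBS) H.copSA
    exact (Nat.Coprime.coprime_dvd_right (hcardη.trans H.h_dvd_card) h1).symm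
  have hBle : ∀ b ∈ B, ∀ m ∈ wtSpace ρ Z ζ, ρ b m = m := by
    intro b hb
    obtain ⟨c, hc, hbc⟩ := Cfsg.Agent.Lead.coprime_fixed_points_quotient
      (Subgroup.zpowers (j η)) B (Subgroup.zpowers_le.mpr hηB) hcop (Or.inr hBsolv) T hTB hBT
      (Subgroup.zpowers_le.mpr hηT) b hb (fun y hy => hcommAll y hy b hb)
    obtain ⟨hcB, hcC⟩ := Subgroup.mem_inf.mp hc
    have hc1 : c = 1 := by
      apply H.hfpf c (H.hSX (hBS hcB))
      intro a
      let D : Subgroup A :=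
        { carrier := {a | j a * c * (j a)⁻¹ = c}
          one_mem' := by
            show j 1 * c * (j 1)⁻¹ = c
            rw [map_one]; group
          mul_mem' := by
            intro a b ha hb
            show j (a * b) * c * (j (a * b))⁻¹ = c
            have ha' : j a * c * (j a)⁻¹ = c := ha
            have hb' : j b * c * (j b)⁻¹ = c := hb
            calc j (a * b) * c * (j (a * b))⁻¹ = j a * (j b * c * (j b)⁻¹) * (j a)⁻¹ := by
                  rw [map_mul]; group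
              _ = c := by rw [hb', ha']
          inv_mem' := by
            intro a ha
            show j a⁻¹ * c * (j a⁻¹)⁻¹ = c
            have ha' : j a * c * (j a)⁻¹ = c := ha
            calc j a⁻¹ * c * (j a⁻¹)⁻¹ = (j a)⁻¹ * (j a * c * (j a)⁻¹) * j a := by
                  rw [ha', map_inv, inv_inv]
              _ = c := by group }
      have hfD : f ∈ D := (mem_cenSQ.mp (hBCF hcB)).2 (j f) (Subgroup.mem_zpowers _)
      have hηD : η ∈ D := by
        rw [Subgroup.mem_centralizer_iff] at hcC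
        have := hcC (j η) (Subgroup.mem_zpowers _)
        show j η * c * (j η)⁻¹ = c
        rw [this]; group
      exact H.all_of_gens D hfD hηD a
    rw [hc1, mul_one] at hbc
    have hbT : b ∈ T := (T.inv_mem_iff).mp hbc
    exact (Subgroup.mem_inf.mp hbT).2
  -- hence `B = ⊥`
  have hBbot : ∀ b ∈ B, b = 1 := by
    intro b hb
    apply dfix ρ Z j X S H.hcov H.hXZ H.hfix0 hζ (hBS hb)
    intro a m hm
    exact hBle _ (hBA.inv_conj a hb) m hm
  -- hence `CF = ⊥`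
  have hCFbot : CF = ⊥ := by
    by_contra hne
    haveI : Nontrivial ↥CF := (Subgroup.nontrivial_iff_ne_bot CF).mpr hne
    haveI : Fact s.Prime := ⟨H.hs⟩
    have hCFp : IsPGroup s ↥CF := H.hSp.to_le hCFS
    have hnt := hCFp.center_nontrivial
    obtain ⟨z, hz1⟩ := exists_ne (1 : ↥(Subgroup.center ↥CF))
    apply hz1
    apply Subtype.ext
    apply Subtype.ext
    show ((z : ↥CF) : Γ) = 1
    apply hBbot
    refine mem_cenSQ'.mpr ⟨(z : ↥CF).2, fun x hx => ?_⟩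
    have := Subgroup.mem_center_iff.mp z.2 ⟨x, hx⟩
    have h2 := congrArg (fun t : ↥CF => (t : Γ)) this
    exact h2.symm
  intro u hu hfu
  have huCF : u ∈ CF := by
    refine mem_cenSQ'.mpr ⟨hu, ?_⟩
    have hle : Subgroup.zpowers (j f) ≤ Subgroup.centralizer ({u} : Set Γ) := by
      rw [Subgroup.zpowers_le, Subgroup.mem_centralizer_iff]
      intro u' hu'
      rw [Set.mem_singleton_iff] at hu'
      subst hu'
      calc u' * j f = (j f * u' * (j f)⁻¹) * j f := by rw [hfu]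
        _ = j f * u' := by group
    intro y hy
    have := hle hy
    rw [Subgroup.mem_centralizer_iff] at this
    exact this u rfl
  rw [hCFbot, Subgroup.mem_bot] at huCF
  exact huCF

end NCtx

end Cfsg.Agent.Helper29.Pq
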