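import Mathlib
import Cfsg.Agent.Helper29.PqN6

/-!
# S4306, piece (N): step (β2): `[Q, F] ≤ Q₀`
-/

set_option autoImplicit false

namespace Cfsg.Agent.Helper29.Pq

open scoped commutatorElement
open Module Cfsg.Agent.Helper29.S3f

variable {Γ : Type*} [Group Γ] {A : Type*} [Group A]
  {K : Type*} [Field K] {M : Type*} [AddCommGroup M] [Module K M]
  {f η : A} {ℓ h : ℕ} {j : A →* Γ} {X S Q Z Q0 : Subgroup Γ} {s q : ℕ}
  {ρ : Representation K Γ M}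

namespace NCtx

/-- (β2) if `C_S(f) = 1` then `[Q, f] ≤ Q₀`. -/
theorem b2 [Finite Γ] [Finite A] (H : NCtx f η ℓ h j X S Q Z Q0 s q ρ)
    (hCF : ∀ u ∈ S, j f * u * (j f)⁻¹ = u → u = 1) :
    ∀ x ∈ Q, j f * x * (j f)⁻¹ * x⁻¹ ∈ Q0 := by
  haveI := H.Q0n
  haveI := H.Sn
  have hQ0n : Q0.Normal := H.Q0n
  by_contra hne
  push Not at hne
  obtain ⟨x0, hx0, hx0n⟩ := hne
  obtain ⟨Q1, hQ1⟩ := exists_cSub (S := Q) (R := Q0) H.hQ0Q
    (fun u _ v hv => hQ0n.conj_mem v hv u) (j f) (fun x hx => H.hQA f x hx)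
  have hQ1Q : Q1 ≤ Q := fun x hx => ((hQ1 x).mp hx).1
  have hQ1ne : Q1 ≠ Q := by
    intro heq
    have : x0 ∈ Q1 := by rw [heq]; exact hx0
    exact hx0n ((hQ1 x0).mp this).2
  have hQ1A : GInv j Q1 := by
    intro a x hx
    obtain ⟨hxQ, hxf⟩ := (hQ1 x).mp hx
    refine (hQ1 _).mpr ⟨H.hQA a x hxQ, ?_⟩
    have hmem : a⁻¹ * f * a⁻¹⁻¹ ∈ Subgroup.zpowers f :=
      Cfsg.Agent.Helper4.PqFQ.conj_f_mem H.hA a⁻¹ (Subgroup.mem_zpowers f)
    have hmem' : j (a⁻¹ * f * a⁻¹⁻¹) ∈ Subgroup.zpowers (j f) := by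
      rw [← MonoidHom.map_zpowers]
      exact Subgroup.mem_map_of_mem j hmem
    have h1 := comm_mem_of_mem_zpowers_normal Q0 (j f) x hxf _ hmem'
    have e : j f * (j a * x * (j a)⁻¹) * (j f)⁻¹ * (j a * x * (j a)⁻¹)⁻¹
        = j a * (j (a⁻¹ * f * a⁻¹⁻¹) * x * (j (a⁻¹ * f * a⁻¹⁻¹))⁻¹ * x⁻¹) * (j a)⁻¹ := by
      simp only [map_mul, map_inv, inv_inv]; group
    rw [e]
    exact hQ0n.conj_mem _ h1 (j a)
  have hQ1Q0 : Q1 ≤ Q0 := by
    intro x hx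
    refine (H.hQ0 x).mpr ⟨hQ1Q hx, fun u hu => ?_⟩
    have := H.hQmin Q1 hQ1Q hQ1ne hQ1A x hx u hu
    calc x * u = (x * u * x⁻¹) * x := by group
      _ = u * x := by rw [this]
  have hcardR0 : Nat.card ↥((Subgroup.zpowers f).map j) ∣ Nat.card A := by
    have h1 : Nat.card ↥((Subgroup.zpowers f).map j) ∣ Nat.card ↥(Subgroup.zpowers f) :=
      Subgroup.card_map_dvd _ _
    exact h1.trans (Subgroup.card_subgroup_dvd_card _)
  obtain ⟨u, hu, hu1, hfix⟩ := Cfsg.Agent.Helper4.PqFP.frob_pair_fix S Q Q0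
    ((Subgroup.zpowers f).map j) H.S_solv H.hQ0
    (by
      rintro _ ⟨v, -, rfl⟩ x hx
      exact H.hQA v x hx)
    (Nat.Coprime.mul_right H.copQS.symm (Nat.Coprime.coprime_dvd_right hcardR0 H.copSA))
    (Nat.Coprime.coprime_dvd_right hcardR0 H.copQA)
    (by
      rintro _ ⟨v, hv, rfl⟩ hv1 x hx hvx
      have hv1' : v ≠ 1 := by
        rintro rfl
        exact hv1 (map_one j)
      have hfv := Cfsg.Agent.Helper4.PqFQ.f_mem_zpowers H.hA hv hv1'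
      have hfv' : j f ∈ Subgroup.zpowers (j v) := by
        rw [← MonoidHom.map_zpowers]
        exact Subgroup.mem_map_of_mem j hfv
      have h1 := comm_mem_of_mem_zpowers_normal Q0 (j v) x hvx _ hfv'
      exact hQ1Q0 ((hQ1 x).mpr ⟨hx, h1⟩))
    H.Q0_ne
  exact hu1 (hCF u hu (hfix (j f) ⟨f, Subgroup.mem_zpowers f, rfl⟩))

end NCtx

end Cfsg.Agent.Helper29.Pq
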