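import Mathlib
import Cfsg.Agent.Helper29.PqN8
import Cfsg.Agent.Helper29.PqNb1
import Cfsg.Agent.Helper29.PqNb2
import Cfsg.Agent.Helper27.PqNa2

/-!
# S4306, piece (N): the nonabelian case `C_S(Q) ≠ 1`
-/

set_option autoImplicit false
set_option maxHeartbeats 800000

namespace Cfsg.Agent.Helper29.Pq

open scoped commutatorElement
open Module Cfsg.Agent.Helper29.S3f

/-- (N) the case `C_S(Q) ≠ 1` (`S` of class 2): weights of `Z = C_S(Q)` and the Hall–Higman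
count. -/
theorem caseNonab {Γ : Type*} [Group Γ] [Finite Γ] {A : Type*} [Group A] [Finite A] {f η : A}
    {ℓ h : ℕ} (hA : FrobPQ A f η ℓ h) (hAcard : Nat.card A = ℓ * h)
    (j : A →* Γ) (hj : Function.Injective j)
    (X S Q : Subgroup Γ) [X.Normal] [S.Normal] {s q : ℕ} [Fact s.Prime] [Fact q.Prime]
    (hsq : s ≠ q) (hXcop : (Nat.card X).Coprime (Nat.card A))
    (hcov : ∀ γ : Γ, ∃ g ∈ X, ∃ a : A, γ = g * j a)
    (hSp : IsPGroup s S) (hSne : S ≠ ⊥) (hQ : IsPGroup q Q) (hQA : GInv j Q) (hQX : Q ≤ X)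
    (hSQ : S ⊔ Q = X) (hcomm : ⁅S, Q⁆ = S)
    (hZne : ∃ u ∈ S, u ≠ 1 ∧ ∀ x ∈ Q, x * u * x⁻¹ = u)
    (hSmin : ∀ S1 : Subgroup Γ, S1 ≤ S → S1 ≠ S → (∀ x ∈ Q, ∀ u ∈ S1, x * u * x⁻¹ ∈ S1) →
      GInv j S1 → ∀ x ∈ Q, ∀ u ∈ S1, x * u * x⁻¹ = u)
    (hQmin : ∀ Q1 : Subgroup Γ, Q1 ≤ Q → Q1 ≠ Q → GInv j Q1 →
      ∀ x ∈ Q1, ∀ u ∈ S, x * u * x⁻¹ = u)
    (hfpf : ∀ x ∈ X, (∀ a : A, j a * x * (j a)⁻¹ = x) → x = 1)
    {K : Type*} [Field K] [IsAlgClosed K] {r : ℕ} [Fact r.Prime] [CharP K r] (hrs : r ≠ s)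
    (hrA : (Nat.card A).Coprime r)
    {M : Type*} [AddCommGroup M] [Module K M] [FiniteDimensional K M] (ρ : Representation K Γ M)
    (hfaith : ∀ x ∈ X, ρ x = 1 → x = 1)
    (hfixA : ∀ m : M, (∀ a : A, ρ (j a) m = m) → m = 0)
    (hfix0 : ∀ B0 : Subgroup Γ, B0 ≤ S → B0.Normal → B0 ≠ ⊥ →
      ∀ m : M, (∀ b ∈ B0, ρ b m = m) → m = 0) : False := by
  classical
  have hs : s.Prime := Fact.out
  have hq : q.Prime := Fact.out
  have hr : r.Prime := Fact.out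
  have hSX : S ≤ X := by rw [← hSQ]; exact le_sup_left
  have hder0 : ∀ a ∈ S, ∀ b ∈ S, ⁅a, b⁆ ∈ cenSQ S Q :=
    fun a ha b hb => commutator_mem_cenSQ j S Q hSp hSne hSmin ha hb
  have hder : ∀ a ∈ S, ∀ b ∈ S, a * b * a⁻¹ * b⁻¹ ∈ cenSQ S Q := by
    intro a ha b hb
    have := hder0 a ha b hb
    rwa [commutatorElement_def] at this
  have hSA : GInv j S := GInv.of_normal j S
  haveI hZn : (cenSQ S Q).Normal := cenSQ_normal j X S Q hcov hSQ hcomm hder0 hSA hQA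
  haveI hQ0n : (cenSQ Q S).Normal := cenQS_normal j X S Q hcov hSQ hQA
  -- cardinalities
  obtain ⟨kS, hkS⟩ := IsPGroup.iff_card.mp hSp
  obtain ⟨kQ, hkQ⟩ := IsPGroup.iff_card.mp hQ
  have copSA : (Nat.card S).Coprime (Nat.card A) :=
    Nat.Coprime.coprime_dvd_left (Subgroup.card_dvd_of_le hSX) hXcop
  have copQA : (Nat.card Q).Coprime (Nat.card A) :=
    Nat.Coprime.coprime_dvd_left (Subgroup.card_dvd_of_le hQX) hXcop
  have copQS : (Nat.card Q).Coprime (Nat.card S) := by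
    rw [hkS, hkQ]
    exact Nat.Coprime.pow _ _ ((Nat.coprime_primes hq hs).mpr (Ne.symm hsq))
  have hSK : (Nat.card S : K) ≠ 0 := by
    rw [hkS, Nat.cast_pow]
    apply pow_ne_zero
    intro h0
    rw [CharP.cast_eq_zero_iff K r] at h0
    exact hrs ((Nat.prime_dvd_prime_iff_eq hr hs).mp h0)
  have hAK : (Nat.card A : K) ≠ 0 := by
    intro h0
    rw [CharP.cast_eq_zero_iff K r] at h0
    have := Nat.Coprime.eq_one_of_dvd hrA.symm h0
    exact hr.one_lt.ne' this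
  have hZne' : cenSQ S Q ≠ ⊥ := by
    obtain ⟨u, hu, hu1, hfix⟩ := hZne
    intro hbot
    have : u ∈ cenSQ S Q := mem_cenSQ.mpr ⟨hu, hfix⟩
    rw [hbot, Subgroup.mem_bot] at this
    exact hu1 this
  have H : NCtx f η ℓ h j X S Q (cenSQ S Q) (cenSQ Q S) s q ρ :=
    { hA := hA
      hAcard := hAcard
      Xn := inferInstance
      Sn := inferInstance
      Zn := hZn
      Q0n := hQ0n
      hs := hs
      hq := hq
      hsq := hsq
      hcov := hcov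
      hSp := hSp
      hSne := hSne
      hQp := hQ
      hQA := hQA
      hQX := hQX
      hSX := hSX
      hcomm := hcomm
      hQmin := hQmin
      hfpf := hfpf
      copSA := copSA
      copQA := copQA
      copQS := copQS
      hZS := cenSQ_le S Q
      hZne := hZne'
      hZQ := fun u hu hfix => mem_cenSQ.mpr ⟨hu, hfix⟩
      hder := hder
      hcen := fun z hz u hu => cenSQ_central S Q hcomm hder0 hz hu
      hXZ := fun g hg z hz => cenSQ_centralX X S Q hSQ hcomm hder0 hg hz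
      hQ0 := fun x => mem_cenSQ'
      hSK := hSK
      hAK := hAK
      hfixA := hfixA
      hfix0 := hfix0 }
  -- a weight of `Z`
  have hMne : (⊤ : Submodule K M) ≠ ⊥ := by
    intro htop
    obtain ⟨u, hu1⟩ := (Subgroup.ne_bot_iff_exists_ne_one).mp hSne
    have hu' : (u : Γ) ≠ 1 := fun h1 => hu1 (Subtype.ext h1)
    apply hu'
    apply hfaith _ (hSX u.2)
    ext m
    have hm : m ∈ (⊤ : Submodule K M) := trivial
    rw [htop, Submodule.mem_bot] at hm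
    rw [hm, map_zero, map_zero]
  obtain ⟨ζ0, m0, -, hm0, hm0ζ⟩ := exists_weight ρ (cenSQ S Q) H.hZab ⊤ hMne
    (fun _ _ _ _ => trivial)
  have hζ0 : wtSpace ρ (cenSQ S Q) ζ0 ≠ ⊥ := by
    intro hbot
    apply hm0
    have : m0 ∈ wtSpace ρ (cenSQ S Q) ζ0 := hm0ζ
    rw [hbot] at this
    exact (Submodule.mem_bot _).mp this
  by_cases hα : ∃ ζ : ↥(cenSQ S Q) →* Kˣ, wtSpace ρ (cenSQ S Q) ζ ≠ ⊥ ∧ conjChar (j f) ζ = ζ
  · obtain ⟨ζ, hζ, hf⟩ := hα
    exact Cfsg.Agent.Helper27.PqNa.alpha H hζ hf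
  · push Not at hα
    have hCF := H.b1 hζ0 hα
    have hFQ := H.b2 hCF
    obtain ⟨a, ha1, ha⟩ := exists_stab_ne_one ρ (cenSQ S Q) H.hZab j hAK hfixA hζ0
    obtain ⟨b, hb⟩ := exists_conj_fix_η (cenSQ S Q) hA j (hα ζ0 hζ0) ha1 ha
    have hζ : wtSpace ρ (cenSQ S Q) (conjChar (j b) ζ0) ≠ ⊥ := by
      intro hbot
      have h1 := rho_mem_wtSpace_conjChar ρ (cenSQ S Q) (j b) hm0ζ
      rw [hbot] at h1
      have h2 := (Submodule.mem_bot _).mp h1
      apply hm0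
      apply S3f.rho_injective ρ (j b)
      rw [h2, map_zero]
    exact H.b3 hα hFQ hζ hb

end Cfsg.Agent.Helper29.Pq
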