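import Mathlib
import Cfsg.Agent.Helper29.PqAsm
import Cfsg.Agent.Helper29.PqWt
import Cfsg.Agent.Helper27.PqD
import Cfsg.Agent.Helper13.PqS
import Cfsg.Agent.Helper1.PqB
import Cfsg.Agent.Helper29.PqN9

set_option autoImplicit false
set_option maxHeartbeats 800000

namespace Cfsg.Agent.Helper29.Pq

open scoped commutatorElement
open Module TensorProduct Cfsg.Agent.Helper5.FrobMod Cfsg.Agent.Helper29.S3f

universe u v

/-- The quotient `X = G / C_G(V)` is nilpotent. -/
theorem quot_nilpotent {Γ : Type u} [Group Γ] [Finite Γ] {A : Type v} [Group A] [Finite A]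
    {f η : A} {ℓ h : ℕ} (hA : FrobPQ A f η ℓ h) (hAcard : Nat.card A = ℓ * h)
    (j : A →* Γ) (hj : Function.Injective j)
    (G : Subgroup Γ) [hGn : G.Normal] (hGA : ∀ γ : Γ, ∃ g ∈ G, ∃ a : A, γ = g * j a)
    (hG : HypPQ j G) (V : Subgroup Γ) [hVn : V.Normal] (hVG : V ≤ G) (hVne : V ≠ ⊥)
    (hmin : ∀ W : Subgroup Γ, W.Normal → W ≤ V → W ≠ ⊥ → W = V)
    (hVab : ∀ a ∈ V, ∀ b ∈ V, a * b = b * a) {r : ℕ} [hr : Fact r.Prime]
    (hrV : r ∣ Nat.card V) (hVexp : ∀ v ∈ V, v ^ r = 1)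
    {V₀ : Type u} [AddCommGroup V₀] [Module (ZMod r) V₀] (D : RepData V r V₀)
    (IH : ∀ (Γ' : Type u) [Group Γ'] [Finite Γ'] (j' : A →* Γ') (G' : Subgroup Γ'),
      HypPQ j' G' → Nat.card G' < Nat.card G → Concl j' G') :
    Group.IsNilpotent ↥(G.map (QuotientGroup.mk' (cen G V))) := by
  classical
  by_contra hnn
  have hrp : r.Prime := Fact.out
  have hrA : (Nat.card A).Coprime r := by
    have h1 : r ∣ Nat.card G := hrV.trans (Subgroup.card_dvd_of_le hVG)
    exact (Nat.Coprime.coprime_dvd_left h1 hG.cop).symm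
  have hVC : V ≤ cen G V := le_cen G V hVG hVab
  have hCne : cen G V ≠ ⊥ := fun h => hVne (by rw [eq_bot_iff, ← h]; exact hVC)
  have hX : HypPQ ((QuotientGroup.mk' (cen G V)).comp j) (G.map (QuotientGroup.mk' (cen G V))) :=
    hG.quot (cen G V) (cen_le G V)
  have hXn : (G.map (QuotientGroup.mk' (cen G V))).Normal := quot_normal (cen G V)
  have hcov := quot_cover hGA (cen G V)
  have hj₁ := quot_injective j hj hG.cop (cen G V) (cen_le G V)
  have hlt := S3f.quot_card_lt (cen G V) (cen_le G V) hCne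
  obtain ⟨NX, hNXle, hNXA, hNXX, hNXnil, k, hk⟩ := IH _ _ _ hX hlt
  have hVp : IsPGroup r V := by
    intro v
    refine ⟨1, ?_⟩
    rw [pow_one]
    exact Subtype.ext (by simpa using hVexp v v.2)
  set j₁ := (QuotientGroup.mk' (cen G V)).comp j with hj₁def
  set X₁ := G.map (QuotientGroup.mk' (cen G V)) with hX₁def
  have hNXn : NX.Normal := normal_of_cover j₁ X₁ hcov NX hNXX hNXA
  have hr' : ¬ r ∣ Nat.card ↥NX :=
    not_dvd_card_of_nilpotent G V D hmin hrV NX hNXle hNXnil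
  have hdag := fun H hH hne hHA =>
    Cfsg.Agent.Helper27.PqD.dagger j G hG V hVG hVp (cen G V) rfl hVC NX hNXle hr' k hk IH
      H hH hne hHA
  obtain ⟨s, q, S, Q, hs, hq, hsq, hSn, hSNX, hSne, hSp, hQp, hQA, hQX, hSQ, hcomm, hSmin,
      hQmin⟩ :=
    Cfsg.Agent.Helper13.PqS.structure_thm j₁ X₁ hcov hX hdag NX hNXle hNXnil k hk hnn
  have _hsf : Fact s.Prime := ⟨hs⟩
  have _hqf : Fact q.Prime := ⟨hq⟩
  have hSX : S ≤ X₁ := hSNX.trans hNXle
  obtain ⟨k', hk'⟩ := IsPGroup.iff_card.mp hSp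
  have hk'0 : k' ≠ 0 := by
    rintro rfl
    rw [pow_zero] at hk'
    exact hSne (Subgroup.card_eq_one.mp hk')
  have hsS : s ∣ Nat.card S := by rw [hk']; exact dvd_pow_self _ hk'0
  have hsr : s ≠ r := by
    rintro rfl
    exact hr' (hsS.trans (Subgroup.card_dvd_of_le hSNX))
  have hsA : (Nat.card A).Coprime s :=
    (Nat.Coprime.coprime_dvd_left (hsS.trans (Subgroup.card_dvd_of_le hSX)) hX.cop).symm
  have hQne : Q ≠ ⊥ := by
    intro hQb
    apply hnn
    have : X₁ = S := by rw [← hSQ, hQb, sup_bot_eq]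
    rw [this]
    exact hSp.isNilpotent
  have hqA : (Nat.card A).Coprime q := by
    obtain ⟨k'', hk''⟩ := IsPGroup.iff_card.mp hQp
    have hk''0 : k'' ≠ 0 := by
      rintro rfl
      rw [pow_zero] at hk''
      exact hQne (Subgroup.card_eq_one.mp hk'')
    have h1 : q ∣ Nat.card Q := by rw [hk'']; exact dvd_pow_self _ hk''0
    exact (Nat.Coprime.coprime_dvd_left (h1.trans (Subgroup.card_dvd_of_le hQX)) hX.cop).symm
  have hScop : (Nat.card S).Coprime r := by
    rw [hk']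
    exact Nat.Coprime.pow_left k' ((Nat.coprime_primes hs hrp).mpr hsr)
  have _hfinV₀ : Finite V₀ := D.finite
  have _hcharK : CharP (AlgebraicClosure (ZMod r)) r :=
    charP_of_injective_algebraMap (algebraMap (ZMod r) (AlgebraicClosure (ZMod r))).injective r
  have hAK : (Nat.card A : AlgebraicClosure (ZMod r)) ≠ 0 := by
    intro h0
    rw [CharP.cast_eq_zero_iff (AlgebraicClosure (ZMod r)) r] at h0
    have := Nat.Coprime.eq_one_of_dvd hrA.symm h0
    exact hrp.one_lt.ne' this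
  have hfixA := rhoK_fixA j G V D hrA hG hVG
  have hfix0 : ∀ B0 : Subgroup (Γ ⧸ cen G V), B0 ≤ S → B0.Normal → B0 ≠ ⊥ →
      ∀ m : AlgebraicClosure (ZMod r) ⊗[ZMod r] V₀, (∀ b ∈ B0, rhoK G V D b m = m) → m = 0 := by
    intro B0 hB0 hn hne m hm
    have hcop : (Nat.card B0).Coprime r :=
      Nat.Coprime.coprime_dvd_left (Subgroup.card_dvd_of_le hB0) hScop
    exact rhoK_fix0 G V D hmin B0 (hB0.trans hSX) hne hcop m hm
  by_cases hZ : ∀ u ∈ S, (∀ x ∈ Q, x * u * x⁻¹ = u) → u = 1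
  · -- abelian case: weights of `S`
    have hSab : ∀ a ∈ S, ∀ b ∈ S, a * b = b * a := by
      -- `S' < S` is centralised by `Q`, hence trivial
      have hder : ⁅S, S⁆ ≠ S := by
        intro heq
        have hSnil : Group.IsNilpotent ↥S := hSp.isNilpotent
        obtain ⟨n, hn⟩ := (Subgroup.isNilpotent_iff_lowerCentralSeries S).mp hSnil
        have hall : ∀ i, S.lowerCentralSeries i = S := by
          intro i
          induction i with
          | zero => rfl
          | succ i ih => rw [Subgroup.lowerCentralSeries_succ, ih, heq]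
        exact hSne (by rw [← hall n, hn])
      have hchar : ∀ g : Γ ⧸ cen G V, ∀ u ∈ ⁅S, S⁆, g * u * g⁻¹ ∈ ⁅S, S⁆ := by
        intro g u hu
        have : (⁅S, S⁆).Normal := Subgroup.commutator_normal S S
        exact this.conj_mem u hu g
      have hcent := hSmin ⁅S, S⁆ (Subgroup.commutator_le_left S S) hder
        (fun x _ u hu => hchar x u hu) (fun a u hu => hchar (j₁ a) u hu)
      intro a ha b hb
      have h1 : ⁅a, b⁆ ∈ ⁅S, S⁆ := Subgroup.commutator_mem_commutator ha hb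
      have h2 := hZ ⁅a, b⁆ (Subgroup.commutator_le_left S S h1) (fun x hx => hcent x hx _ h1)
      exact commutatorElement_eq_one_iff_mul_comm.mp h2
    let Λ : Set (↥S →* (AlgebraicClosure (ZMod r))ˣ) := {χ | wtSpace (rhoK G V D) S χ ≠ ⊥}
    have hMne : (⊤ : Submodule (AlgebraicClosure (ZMod r))
        (AlgebraicClosure (ZMod r) ⊗[ZMod r] V₀)) ≠ ⊥ := by
      intro h
      obtain ⟨v, hv1⟩ := (Subgroup.ne_bot_iff_exists_ne_one).mp hVne
      have hw : D.e v ≠ 0 := fun h0 => hv1 ((D.e_eq_zero_iff v).mp h0)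
      have hmem : ((1 : AlgebraicClosure (ZMod r)) ⊗ₜ[ZMod r] D.e v) ∈
          (⊤ : Submodule (AlgebraicClosure (ZMod r)) (AlgebraicClosure (ZMod r) ⊗[ZMod r] V₀)) :=
        trivial
      rw [h] at hmem
      have h0 := (Submodule.mem_bot _).mp hmem
      have hinj := Module.Flat.tensorProduct_mk_injective (ZMod r) V₀ (AlgebraicClosure (ZMod r))
      apply hw
      apply hinj
      rw [map_zero]
      exact h0
    obtain ⟨χ0, m0, -, hm0, hm0χ⟩ := exists_weight (rhoK G V D) S hSab ⊤ hMne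
      (fun _ _ _ _ => trivial)
    have hΛne : Λ.Nonempty := by
      refine ⟨χ0, ?_⟩
      intro h
      apply hm0
      have : m0 ∈ wtSpace (rhoK G V D) S χ0 := hm0χ
      rw [h] at this
      exact (Submodule.mem_bot _).mp this
    have hΛ1 : ∀ χ ∈ Λ, χ ≠ 1 := by
      intro χ hχ h1
      obtain ⟨m, hm, hm0'⟩ := (Submodule.ne_bot_iff _).mp hχ
      apply hm0'
      apply hfix0 S le_rfl hSn hSne m
      intro b hb
      have := hm ⟨b, hb⟩
      rw [h1] at this
      simpa using this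
    have hconj : ∀ χ ∈ Λ, ∀ g : Γ ⧸ cen G V, conjChar g χ ∈ Λ := by
      intro χ hχ g
      obtain ⟨m, hm, hm0'⟩ := (Submodule.ne_bot_iff _).mp hχ
      show wtSpace (rhoK G V D) S (conjChar g χ) ≠ ⊥
      intro h
      have h1 := rho_mem_wtSpace_conjChar (rhoK G V D) S g hm
      rw [h] at h1
      have h2 := (Submodule.mem_bot _).mp h1
      apply hm0'
      apply S3f.rho_injective (rhoK G V D) g
      rw [h2, map_zero]
    have hnorm : ∀ χ ∈ Λ, ∃ a : A, a ≠ 1 ∧ conjChar (j₁ a) χ = χ := fun χ hχ =>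
      exists_stab_ne_one (rhoK G V D) S hSab j₁ hAK hfixA hχ
    exact Cfsg.Agent.Helper1.PqB.caseAb hA hAcard j₁ hj₁ S Q hsq hsA hqA hSp hSne hQp hQA hcomm
      hZ hSmin hQmin (fun u hu => hX.fpf u (hSX hu)) (fun x hx => hX.fpf x (hQX hx)) Λ hΛne hΛ1
      (fun χ hχ x _ => hconj χ hχ x) (fun χ hχ a => hconj χ hχ (j₁ a)) hnorm
  · -- nonabelian case
    push Not at hZ
    obtain ⟨u, hu, hfix, hu1⟩ := hZ
    exact caseNonab hA hAcard j₁ hj₁ X₁ S Q hsq hX.cop hcov hSp hSne hQp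
      hQA hQX hSQ hcomm ⟨u, hu, hu1, hfix⟩ hSmin hQmin hX.fpf (Ne.symm hsr) hrA (rhoK G V D)
      (rhoK_faithful G V D) hfixA hfix0

end Cfsg.Agent.Helper29.Pq
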