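import Mathlib
import Cfsg.Agent.Helper25.PqE
import Cfsg.Agent.Helper29.PqAsmD
import Cfsg.Agent.Helper29.S3fMinV

set_option autoImplicit false

namespace Cfsg.Agent.Helper29.Pq

open scoped commutatorElement
open Cfsg.Agent.Helper29.S3f

universe u v

/-- The inductive step. -/
theorem stepPQ {Γ : Type u} [Group Γ] [Finite Γ] {A : Type v} [Group A] [Finite A]
    {f η : A} {ℓ h : ℕ} (hA : FrobPQ A f η ℓ h) (hAcard : Nat.card A = ℓ * h)
    (j : A →* Γ) (hj : Function.Injective j)
    (G : Subgroup Γ) [hGn : G.Normal] (hGA : ∀ γ : Γ, ∃ g ∈ G, ∃ a : A, γ = g * j a)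
    (hG : HypPQ j G)
    (IH : ∀ (Γ' : Type u) [Group Γ'] [Finite Γ'] (j' : A →* Γ') (G' : Subgroup Γ'),
      HypPQ j' G' → Nat.card G' < Nat.card G → Concl j' G') :
    Concl j G := by
  by_cases hGb : G = ⊥
  · refine ⟨⊥, bot_le, ?_, ?_, inferInstance, 0, ?_⟩
    · intro a x hx
      rw [Subgroup.mem_bot] at hx ⊢
      rw [hx]; group
    · intro g _ n hn
      rw [Subgroup.mem_bot] at hn ⊢
      rw [hn]; group
    · rw [Subgroup.lowerCentralSeries_zero, hGb]
  obtain ⟨V, hVn, hVG, hVne, hmin⟩ := exists_minimal_normal G hGb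
  have hVsolv : Group.IsSolvable ↥V := by
    have := hG.solv
    exact Group.isSolvable_of_isSolvable_injective (f := Subgroup.inclusion hVG)
      (Subgroup.inclusion_injective hVG)
  obtain ⟨hVab, r, hr, hrV, hVexp⟩ := minimal_normal_elementary V hVsolv hVne hmin
  have _hrf : Fact r.Prime := ⟨hr⟩
  obtain ⟨V₀, _i1, _i2, ⟨D⟩⟩ := exists_repData V hVab hVexp
  have hnil := quot_nilpotent hA hAcard j hj G hGA hG V hVG hVne hmin hVab hrV hVexp D IH
  exact Cfsg.Agent.Helper25.PqE.step1 j G hG V hVG hVne hVab hnil IH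

section Transport

variable {Γ : Type u} [Group Γ] {A : Type v} [Group A]

/-- The action of `A` on an invariant subgroup, as a homomorphism into `MulAut`. -/
def conjRestrict (j : A →* Γ) (G : Subgroup Γ) (h : GInv j G) : A →* MulAut ↥G where
  toFun a :=
    { toFun := fun g => ⟨j a * g * (j a)⁻¹, h a g g.2⟩
      invFun := fun g => ⟨(j a)⁻¹ * g * j a, h.inv_conj a g.2⟩
      left_inv := fun g => Subtype.ext (by simp only []; group)
      right_inv := fun g => Subtype.ext (by simp only []; group)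
      map_mul' := fun x y => Subtype.ext (by simp only [Subgroup.coe_mul]; group) }
  map_one' := by
    ext g
    simp
  map_mul' := by
    intro a b
    ext g
    simp only [map_mul, MulEquiv.coe_mk, Equiv.coe_fn_mk, MulAut.mul_apply]
    group

@[simp] theorem coe_conjRestrict_apply (j : A →* Γ) (G : Subgroup Γ) (h : GInv j G) (a : A)
    (g : ↥G) : ((conjRestrict j G h a g : ↥G) : Γ) = j a * g * (j a)⁻¹ := rfl

open SemidirectProduct

theorem std_cover (H : Type u) [Group H] (φ : A →* MulAut H) (γ : H ⋊[φ] A) :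
    ∃ g ∈ (inl : H →* H ⋊[φ] A).range, ∃ a : A, γ = g * (inr : A →* H ⋊[φ] A) a :=
  ⟨inl γ.left, ⟨γ.left, rfl⟩, γ.right, (inl_left_mul_inr_right γ).symm⟩

/-- Transport of the conclusion from the standard configuration back to `(j, G)`. -/
theorem concl_of_std (j : A →* Γ) (G : Subgroup Γ) (hinv : GInv j G)
    (h : Concl (inr : A →* ↥G ⋊[conjRestrict j G hinv] A)
      (inl : ↥G →* ↥G ⋊[conjRestrict j G hinv] A).range) : Concl j G := by
  obtain ⟨N', hN'le, hN'A, hN'G, hN'nil, k, hk⟩ := h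
  have hiinj : Function.Injective (inl : ↥G →* ↥G ⋊[conjRestrict j G hinv] A) := inl_injective
  refine ⟨(N'.comap (inl : ↥G →* ↥G ⋊[conjRestrict j G hinv] A)).map G.subtype,
    ?_, ?_, ?_, ?_, k, ?_⟩
  · rintro _ ⟨g, -, rfl⟩
    exact g.2
  · rintro a _ ⟨g, hg, rfl⟩
    refine ⟨conjRestrict j G hinv a g, ?_, ?_⟩
    · have hg' : (inl g : ↥G ⋊[conjRestrict j G hinv] A) ∈ N' := hg
      show (inl (conjRestrict j G hinv a g) : ↥G ⋊[conjRestrict j G hinv] A) ∈ N'
      have := hN'A a _ hg'
      rwa [Pq.std_conj] at this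
    · rfl
  · rintro x hx _ ⟨g, hg, rfl⟩
    refine ⟨⟨x, hx⟩ * g * (⟨x, hx⟩ : ↥G)⁻¹, ?_, ?_⟩
    · have hg' : (inl g : ↥G ⋊[conjRestrict j G hinv] A) ∈ N' := hg
      show (inl (⟨x, hx⟩ * g * (⟨x, hx⟩ : ↥G)⁻¹) : ↥G ⋊[conjRestrict j G hinv] A) ∈ N'
      rw [map_mul, map_mul, map_inv]
      exact hN'G _ ⟨_, rfl⟩ _ hg'
    · simp
  · have e1 : ↥((N'.comap (inl : ↥G →* ↥G ⋊[conjRestrict j G hinv] A)).map G.subtype) ≃*
        ↥(N'.comap (inl : ↥G →* ↥G ⋊[conjRestrict j G hinv] A)) :=
      (Subgroup.equivMapOfInjective _ G.subtype G.subtype_injective).symm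
    have e2 : ↥(N'.comap (inl : ↥G →* ↥G ⋊[conjRestrict j G hinv] A)) ≃*
        ↥((N'.comap (inl : ↥G →* ↥G ⋊[conjRestrict j G hinv] A)).map inl) :=
      Subgroup.equivMapOfInjective _ _ hiinj
    have e3 : (N'.comap (inl : ↥G →* ↥G ⋊[conjRestrict j G hinv] A)).map inl = N' := by
      rw [Subgroup.map_comap_eq, inf_eq_right]
      exact hN'le
    rw [e3] at e2
    exact Group.nilpotent_of_mulEquiv (e1.trans e2).symm
  · rw [← Subgroup.top_subtype_lowerCentralSeries]
    apply Subgroup.map_mono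
    rw [← Subgroup.map_le_iff_le_comap, Subgroup.map_lowerCentralSeries]
    have : (⊤ : Subgroup ↥G).map (inl : ↥G →* ↥G ⋊[conjRestrict j G hinv] A) =
        (inl : ↥G →* ↥G ⋊[conjRestrict j G hinv] A).range := (MonoidHom.range_eq_map _).symm
    rw [this]
    exact hk

end Transport

/-- The main theorem, internal form. -/
theorem mainPQ {A : Type v} [Group A] [Finite A] {f η : A} {ℓ h : ℕ} (hA : FrobPQ A f η ℓ h)
    (hAcard : Nat.card A = ℓ * h) :
    ∀ (n : ℕ) (Γ : Type (max u v)) [Group Γ] [Finite Γ] (j : A →* Γ) (G : Subgroup Γ),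
    HypPQ j G → Nat.card G = n → Concl j G := by
  intro n
  induction n using Nat.strong_induction_on with
  | _ n ih =>
    intro Γ _ _ j G hG hn
    let φ := conjRestrict j G hG.inv
    have hstd : HypPQ (SemidirectProduct.inr : A →* ↥G ⋊[φ] A)
        (SemidirectProduct.inl : ↥G →* ↥G ⋊[φ] A).range := by
      apply std_hypPQ ↥G φ hG.solv hG.cop
      intro g hg
      apply Subtype.ext
      apply hG.fpf g g.2
      intro a
      have := congrArg Subtype.val (hg a)
      rw [coe_conjRestrict_apply] at this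
      exact this
    have hcard : Nat.card ↥(SemidirectProduct.inl : ↥G →* ↥G ⋊[φ] A).range = n := by
      rw [std_card, hn]
    have h1 := stepPQ (Γ := ↥G ⋊[φ] A) hA hAcard SemidirectProduct.inr
      SemidirectProduct.inr_injective
      (SemidirectProduct.inl : ↥G →* ↥G ⋊[φ] A).range (std_cover ↥G φ) hstd
      (fun Γ' _ _ j' G' h' hlt => ih (Nat.card G') (by rw [hcard] at hlt; exact hlt) Γ' j' G' h' rfl)
    exact concl_of_std j G hG.inv h1

/-- From the internal conclusion for the standard configuration to the statement's form. -/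
theorem std_concl {A : Type v} [Group A] (H : Type u) [Group H] (φ : A →* MulAut H)
    (h : Concl (SemidirectProduct.inr : A →* H ⋊[φ] A)
      (SemidirectProduct.inl : H →* H ⋊[φ] A).range) :
    ∃ F : Subgroup H, ∃ _ : F.Normal, Group.IsNilpotent ↥F ∧ Group.IsNilpotent (H ⧸ F) := by
  obtain ⟨N, hNle, -, hNG, hNnil, k, hk⟩ := h
  set i : H →* H ⋊[φ] A := SemidirectProduct.inl with hi
  have hiinj : Function.Injective i := SemidirectProduct.inl_injective
  have hn : (N.comap i).Normal := by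
    constructor
    intro x hx g
    rw [Subgroup.mem_comap] at hx ⊢
    rw [map_mul, map_mul, map_inv]
    exact hNG _ ⟨g, rfl⟩ _ hx
  refine ⟨N.comap i, hn, ?_, ?_⟩
  · have e2 : ↥(N.comap i) ≃* ↥((N.comap i).map i) := Subgroup.equivMapOfInjective _ i hiinj
    have e3 : (N.comap i).map i = N := by
      rw [Subgroup.map_comap_eq, inf_eq_right]
      exact hNle
    rw [e3] at e2
    exact Group.nilpotent_of_mulEquiv e2.symm
  · rw [Subgroup.nilpotent_iff_lowerCentralSeries]
    refine ⟨k, ?_⟩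
    have h1 : ((⊤ : Subgroup H).lowerCentralSeries k).map i ≤ N := by
      rw [Subgroup.map_lowerCentralSeries]
      have : (⊤ : Subgroup H).map i = i.range := (MonoidHom.range_eq_map i).symm
      rw [this]
      exact hk
    have h2 : (⊤ : Subgroup H).lowerCentralSeries k ≤ N.comap i :=
      Subgroup.map_le_iff_le_comap.mp h1
    have h3 : (⊤ : Subgroup (H ⧸ N.comap i)).lowerCentralSeries k =
        ((⊤ : Subgroup H).lowerCentralSeries k).map (QuotientGroup.mk' (N.comap i)) := by
      rw [Subgroup.map_lowerCentralSeries,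
        Subgroup.map_top_of_surjective _ (QuotientGroup.mk'_surjective _)]
    rw [h3, eq_bot_iff]
    rintro _ ⟨x, hx, rfl⟩
    rw [Subgroup.mem_bot]
    exact (QuotientGroup.eq_one_iff x).mpr (h2 hx)

end Cfsg.Agent.Helper29.Pq
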