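import Mathlib
import Cfsg.Prelude.Def_Characters
import Cfsg.Prelude.Def_Blocks
import Cfsg.Prelude.Def_Transfer
import Cfsg.Agent.Helper24.Abelian
import Cfsg.Agent.Helper24.Codegree
import Cfsg.Agent.Helper24.SmallDegree
import Cfsg.Agent.Helper24.Expansion
import Cfsg.Agent.Helper24.GagolaCentral
import Cfsg.Agent.Helper5.BlockSupport
import Cfsg.Agent.Helper5.BlockDegSq
import Cfsg.Agent.Helper5.LinChar
import Cfsg.Agent.Helper8.CharComp
import Cfsg.Agent.Helper9.TateGeneral
import Cfsg.Agent.Helper9.NPC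
import Cfsg.Agent.Helper18.FocalFusion
import Cfsg.Agent.Helper23.PrincipalBlock
import Cfsg.Agent.Helper29.UniqueSingular
import Cfsg.Agent.S0939

/-!
# Isaacs–Smith: equal height-zero degrees in the principal block iff normal `p`-complement
-/

set_option autoImplicit false
set_option linter.style.haveILetI false
set_option linter.unusedSectionVars false
set_option linter.unusedVariables false

namespace Cfsg.Agent.Helper29.PrincipalDegrees

open Cfsg Cfsg.Agent.Helper24 Cfsg.Agent.Helper5 Cfsg.Agent.Helper5.Loc Cfsg.Agent.Helper5.CC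
open scoped commutatorElement

universe u

section Linear

variable {P : Type u} [Group P] [Finite P]

/-- An element killed by all linear characters lies in the commutator subgroup. -/
theorem mem_commutator_of_forall_linear (x : P)
    (h : ∀ μ : IrrCharacter P, (μ : P → ℂ) 1 = 1 → (μ : P → ℂ) x = 1) : x ∈ commutator P := by
  by_contra hx
  have hne : Abelianization.of x ≠ 1 := fun h1 => hx ((QuotientGroup.eq_one_iff x).mp h1)
  haveI : NeZero ((Monoid.exponent (Abelianization P) : ℕ) : ℂ) :=
    ⟨by exact_mod_cast Monoid.exponent_ne_zero_of_finite⟩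
  obtain ⟨φ, hφ⟩ := CommGroup.exists_apply_ne_one_of_hasEnoughRootsOfUnity (Abelianization P) ℂ hne
  apply hφ
  have h1 := h (linOfAb φ : IrrCharacter P) (linOfAb φ).2
  rw [linOfAb_apply] at h1
  exact Units.ext h1

end Linear

section Main

variable {G : Type u} [Group G] [Finite G] {p : ℕ} [hp : Fact p.Prime] {M : Ideal AlgInt}

omit hp in
theorem charDegree_trivIrr : charDegree ((trivIrr G : IrrCharacter G) : G → ℂ) = 1 := by
  unfold charDegree
  simp

/-- the defect of the principal block is the full exponent -/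
theorem blockDefect_principal (hM : IsPModular p M) :
    blockDefect p (principalBlock M G) = (Nat.card G).factorization p := by
  have hMp := isPrime_of_isPModular hM
  have htriv : trivIrr G ∈ principalBlock M G := mem_blockOf_self hMp (trivIrr G)
  unfold blockDefect
  have h0 : sInf ((fun χ : IrrCharacter G => (charDegree (χ : G → ℂ)).factorization p) ''
      (principalBlock M G)) = 0 := by
    rw [Nat.sInf_eq_zero]
    left
    refine ⟨trivIrr G, htriv, ?_⟩
    simp only
    rw [charDegree_trivIrr]
    simp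
  rw [h0, Nat.sub_zero]

/-- the minimal exponent in the principal block is zero -/
theorem blockHeight_principal (hM : IsPModular p M) (χ : IrrCharacter G) :
    blockHeight p (principalBlock M G) (χ : G → ℂ) = (charDegree (χ : G → ℂ)).factorization p := by
  have hMp := isPrime_of_isPModular hM
  have htriv : trivIrr G ∈ principalBlock M G := mem_blockOf_self hMp (trivIrr G)
  unfold blockHeight
  have h0 : sInf ((fun χ : IrrCharacter G => (charDegree (χ : G → ℂ)).factorization p) ''
      (principalBlock M G)) = 0 := by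
    rw [Nat.sInf_eq_zero]
    left
    refine ⟨trivIrr G, htriv, ?_⟩
    simp only
    rw [charDegree_trivIrr]
    simp
  rw [h0, Nat.sub_zero]

/-- Every linear character of a Sylow `p`-subgroup extends to `G`, provided all characters of
`p'`-degree in the principal block are linear. -/
theorem exists_linear_extension (hM : IsPModular p M) (Q : Subgroup G) (hQp : IsPGroup p Q)
    (hQc : Nat.card Q = p ^ (Nat.card G).factorization p)
    (hlin : ∀ χ : IrrCharacter G, χ ∈ principalBlock M G → ¬ p ∣ charDegree (χ : G → ℂ) →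
      charDegree (χ : G → ℂ) = 1)
    (μ : IrrCharacter Q) (hμ : (μ : Q → ℂ) 1 = 1) :
    ∃ χ : IrrCharacter G, (χ : G → ℂ) 1 = 1 ∧
      ∀ x : Q, (χ : G → ℂ) x = (μ : Q → ℂ) x := by
  classical
  haveI : Fintype G := Fintype.ofFinite G
  haveI : Fintype (IrrCharacter G) := Fintype.ofFinite _
  haveI : Fintype Q := Fintype.ofFinite _
  haveI : Fintype (IrrCharacter Q) := Fintype.ofFinite _
  have hMp := isPrime_of_isPModular hM
  set B := principalBlock M G with hBdef
  have hB : IsPBlock M B := ⟨trivIrr G, rfl⟩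
  have htriv : trivIrr G ∈ B := mem_blockOf_self hMp (trivIrr G)
  by_contra hex
  push Not at hex
  -- multiplicities
  have hn : ∀ χ : IrrCharacter G, ∃ n : ℕ,
      classInner (fun x : Q => (χ : G → ℂ) x) (μ : Q → ℂ) = n :=
    fun χ => IsCharacter.classInner_irr_nat
      (Cfsg.Agent.Helper8.isCharacter_restrict Q (IsIrrCharacter.isCharacter χ.2)) μ
  choose n hn using hn
  -- the block idempotent coefficients vanish on `P \ 1`
  set F : Q → ℂ := fun x => ∑ χ : IrrCharacter G,
    (if χ ∈ B then (1 : ℂ) else 0) * ((χ : G → ℂ) 1 * (starRingEnd ℂ) ((χ : G → ℂ) x)) with hF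
  have hF0 : ∀ x : Q, x ≠ 1 → F x = 0 := by
    intro x hx
    have hxp : p ∣ orderOf (x : G) := by
      obtain ⟨k, hk⟩ := (IsPGroup.iff_orderOf.mp hQp) x
      rw [Subgroup.orderOf_coe, hk]
      rcases k with _ | k
      · rw [pow_zero, orderOf_eq_one_iff] at hk
        exact absurd hk hx
      · exact dvd_pow_self p (Nat.succ_ne_zero k)
    have h0 := blockCoeff_eq_zero_of_singular hM hB (x : G) hxp
    rw [blockCoeff_eq] at h0
    have hG : (Nat.card G : ℂ)⁻¹ ≠ 0 := inv_ne_zero (by exact_mod_cast Nat.card_pos.ne')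
    exact (mul_eq_zero.mp h0).resolve_left hG
  have hF1 : F 1 = ∑ χ : IrrCharacter G, (if χ ∈ B then ((irrDeg χ ^ 2 : ℕ) : ℂ) else 0) := by
    rw [hF]
    refine Finset.sum_congr rfl fun χ _ => ?_
    simp only [OneMemClass.coe_one]
    rw [irrDeg_spec]
    split_ifs
    · rw [one_mul, Complex.conj_natCast]; push_cast; ring
    · rw [zero_mul]
  have hsum1 : ∑ x : Q, F x * (μ : Q → ℂ) x = F 1 := by
    rw [Finset.sum_eq_single (1 : Q)]
    · rw [hμ, mul_one]
    · intro x _ hx
      rw [hF0 x hx, zero_mul]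
    · intro h
      exact absurd (Finset.mem_univ _) h
  have hsum2 : ∑ x : Q, F x * (μ : Q → ℂ) x =
      (Nat.card Q : ℂ) *
        ∑ χ : IrrCharacter G, (if χ ∈ B then ((irrDeg χ * n χ : ℕ) : ℂ) else 0) := by
    have hPc : (Nat.card Q : ℂ) ≠ 0 := by exact_mod_cast Nat.card_pos.ne'
    have hinner : ∀ χ : IrrCharacter G,
        ∑ x : Q, (starRingEnd ℂ) ((χ : G → ℂ) x) * (μ : Q → ℂ) x
          = (Nat.card Q : ℂ) * (n χ : ℂ) := by
      intro χ
      have h1 := hn χ
      unfold classInner at h1
      have h2 : ∑ x : Q, (χ : G → ℂ) x *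
          (starRingEnd ℂ) ((μ : Q → ℂ) x)
          = (Nat.card Q : ℂ) * (n χ : ℂ) := by
        rw [← h1, ← mul_assoc, mul_inv_cancel₀ hPc, one_mul]
      have h3 := congrArg (starRingEnd ℂ) h2
      rw [map_sum, map_mul, Complex.conj_natCast, Complex.conj_natCast] at h3
      rw [← h3]
      refine Finset.sum_congr rfl fun x _ => ?_
      rw [map_mul, Complex.conj_conj]
    rw [hF]
    simp only [Finset.sum_mul]
    rw [Finset.sum_comm, Finset.mul_sum]
    refine Finset.sum_congr rfl fun χ _ => ?_
    split_ifs with hχ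
    · simp only [one_mul]
      have : ∀ x : Q, (χ : G → ℂ) 1 * (starRingEnd ℂ) ((χ : G → ℂ) x) *
          (μ : Q → ℂ) x = (χ : G → ℂ) 1 *
            ((starRingEnd ℂ) ((χ : G → ℂ) x) * (μ : Q → ℂ) x) := fun x => by ring
      rw [Finset.sum_congr rfl (fun x _ => this x), ← Finset.mul_sum, hinner χ, irrDeg_spec]
      push_cast
      ring
    · simp
  -- in ℕ
  have hnat : ∑ χ : IrrCharacter G, (if χ ∈ B then irrDeg χ ^ 2 else 0) =
      Nat.card Q * ∑ χ : IrrCharacter G, (if χ ∈ B then irrDeg χ * n χ else 0) := by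
    have h1 := hsum1.symm.trans hsum2
    rw [hF1] at h1
    have h2 : ((∑ χ : IrrCharacter G, (if χ ∈ B then irrDeg χ ^ 2 else 0) : ℕ) : ℂ) =
        ((Nat.card Q *
          ∑ χ : IrrCharacter G, (if χ ∈ B then irrDeg χ * n χ else 0) : ℕ) : ℂ) := by
      push_cast at h1 ⊢
      exact h1
    exact_mod_cast h2
  -- p divides the second factor
  have hdvd : p ∣ ∑ χ : IrrCharacter G, (if χ ∈ B then irrDeg χ * n χ else 0) := by
    apply Finset.dvd_sum
    intro χ _
    split_ifs with hχ
    · by_cases hpd : p ∣ irrDeg χ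
      · exact Dvd.dvd.mul_right hpd _
      · have hd1 : irrDeg χ = 1 := by
          rw [← charDegree_irr] at hpd ⊢
          exact hlin χ hχ hpd
        have hχ1 : (χ : G → ℂ) 1 = 1 := (irrDeg_eq_one_iff χ).mp hd1
        -- the restriction is an irreducible character of `P`
        set φ : G →* ℂ := linCharHom (IsIrrCharacter.isCharacter χ.2) hχ1 with hφ
        have hres : IsIrrCharacter Q (fun x : Q => (χ : G → ℂ) x) :=
          isIrrCharacter_of_monoidHom (φ.comp Q.subtype)
        have hne : (⟨_, hres⟩ : IrrCharacter Q) ≠ μ := by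
          intro h
          obtain ⟨x, hx⟩ := hex χ hχ1
          exact hx (congrFun (congrArg Subtype.val h) x)
        have h0 : (n χ : ℂ) = 0 := by
          rw [← hn χ]
          have := classInner_irr_ne (χ := (⟨_, hres⟩ : IrrCharacter Q)) (ψ := μ) hne
          exact this
        have h0' : n χ = 0 := by exact_mod_cast h0
        rw [h0', mul_zero]
        exact dvd_zero p
    · exact dvd_zero p
  -- contradiction with the `p`-part of the sum of squares
  have hfac := Cfsg.Agent.Helper5.BDS.factorization_sum_degree_sq hM hB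
  have hdef : blockDefect p B = (Nat.card G).factorization p := blockDefect_principal hM
  rw [hdef] at hfac
  have hS : ∑ᶠ χ ∈ B, charDegree (χ : G → ℂ) ^ 2 =
      ∑ χ : IrrCharacter G, (if χ ∈ B then irrDeg χ ^ 2 else 0) := by
    rw [Cfsg.Agent.Helper5.CC.finsum_mem_eq_sum_ite']
    refine Finset.sum_congr rfl fun χ _ => ?_
    rw [charDegree_irr]
  rw [hS, hnat] at hfac
  have hPcard : Nat.card Q = p ^ (Nat.card G).factorization p := hQc
  set a := (Nat.card G).factorization p with ha
  have ha2 : 2 * a - a = a := by omega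
  rw [ha2, hPcard] at hfac
  obtain ⟨w, hw⟩ := hdvd
  rw [hw] at hfac
  have hS0 : ∑ χ : IrrCharacter G, (if χ ∈ B then irrDeg χ ^ 2 else 0) ≠ 0 := by
    intro h0
    have := Finset.sum_eq_zero_iff.mp h0 (trivIrr G) (Finset.mem_univ _)
    rw [if_pos htriv] at this
    have hpos := irrDeg_pos (trivIrr G)
    have : 0 < irrDeg (trivIrr G) ^ 2 := by positivity
    omega
  rw [hnat, hPcard, hw] at hS0
  have hw0 : w ≠ 0 := by
    intro h
    rw [h, mul_zero, mul_zero] at hS0
    exact hS0 rfl
  have hp' := hp.out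
  rw [← mul_assoc, ← pow_succ, Nat.factorization_mul (pow_ne_zero _ hp'.ne_zero) hw0,
    Nat.Prime.factorization_pow hp', Finsupp.add_apply, Finsupp.single_eq_same] at hfac
  omega

/-- Isaacs–Smith, forward direction. -/
theorem hasNormalPComplement_of_linear (hM : IsPModular p M)
    (hlin : ∀ χ : IrrCharacter G, χ ∈ principalBlock M G → ¬ p ∣ charDegree (χ : G → ℂ) →
      charDegree (χ : G → ℂ) = 1) : HasNormalPComplement p G := by
  let P : Sylow p G := default
  rw [Cfsg.Agent.Helper9.hasNormalPComplement_iff_inf_pResidual P]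
  have hfoc : commutator G ⊓ (P : Subgroup G) ≤ ⁅(P : Subgroup G), (P : Subgroup G)⁆ := by
    rintro x ⟨hxc, hxP⟩
    have hx' : (⟨x, hxP⟩ : (P : Subgroup G)) ∈ commutator (P : Subgroup G) := by
      apply mem_commutator_of_forall_linear
      intro μ hμ
      obtain ⟨χ, hχ1, hχ⟩ := exists_linear_extension hM (P : Subgroup G) P.2
        P.card_eq_multiplicity hlin μ hμ
      rw [← hχ ⟨x, hxP⟩]
      exact Cfsg.Agent.Helper29.UniqueSingular.linear_apply_of_mem_commutator χ hχ1 hxc
    rw [← Subgroup.map_subtype_commutator]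
    exact ⟨⟨x, hxP⟩, hx', rfl⟩
  have h := Cfsg.Agent.Helper9.tate_general P (P : Subgroup G) le_rfl hfoc
  have hbot : Cfsg.pResidual p (P : Subgroup G) = ⊥ := by
    have := Cfsg.Agent.Helper18.pResidual_le_ker p P.2 (MonoidHom.id (P : Subgroup G))
    rwa [MonoidHom.ker_id, le_bot_iff] at this
  rw [hbot, Subgroup.map_bot] at h
  exact le_bot_iff.mp h

/-- Isaacs–Smith, backward direction. -/
theorem linear_of_hasNormalPComplement (hM : IsPModular p M) (h : HasNormalPComplement p G)
    (χ : IrrCharacter G) (hχ : χ ∈ principalBlock M G) (hpd : ¬ p ∣ charDegree (χ : G → ℂ)) :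
    charDegree (χ : G → ℂ) = 1 := by
  obtain ⟨P, N, hNn, hc⟩ := h
  have hp' := hp.out
  have hNcard : Nat.card N = (P : Subgroup G).index := hc.index_eq_card.symm
  have hNcop : (Nat.card N).Coprime p := by
    rw [hNcard]
    exact (Nat.Coprime.symm ((Nat.Prime.coprime_iff_not_dvd hp').mpr P.not_dvd_index))
  have hNO : N ≤ pPrimeCore p G := Cfsg.Agent.Helper7.le_pPrimeCore hNn hNcop
  obtain ⟨a, ha⟩ := IsPGroup.iff_card.mp P.2
  have hNidx : N.index = p ^ a := by rw [hc.symm.index_eq_card, ha]
  have hOdvd : (pPrimeCore p G).index ∣ p ^ a := by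
    rw [← hNidx]; exact Subgroup.index_dvd_of_le hNO
  obtain ⟨k, _, hk⟩ := (Nat.dvd_prime_pow hp').mp hOdvd
  have hB := Cfsg.Agent.S0939.result p M hM ⟨k, hk⟩
  rw [hB] at hχ
  haveI hOn : (pPrimeCore p G).Normal := inferInstance
  obtain ⟨ψ, hψ⟩ := Cfsg.Agent.Helper23.PB.exists_irr_quotient (pPrimeCore p G) χ hχ
  have hdeg : irrDeg ψ = irrDeg χ := by
    have h1 := irrDeg_spec ψ
    have h2 := irrDeg_spec χ
    have h3 := hψ 1
    rw [map_one] at h3
    rw [h3, h2] at h1
    exact_mod_cast h1.symm
  have hdvd : irrDeg ψ ∣ p ^ k := by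
    rw [← hk, Subgroup.index_eq_card]
    exact irrDeg_dvd_card ψ
  obtain ⟨j, _, hj⟩ := (Nat.dvd_prime_pow hp').mp hdvd
  rw [charDegree_irr] at hpd ⊢
  rw [← hdeg, hj] at hpd ⊢
  rcases j with _ | j
  · rfl
  · exact absurd (dvd_pow_self p (Nat.succ_ne_zero j)) hpd

/-- **S4888** -/
theorem equal_degrees_iff (hM : IsPModular p M) :
    (∃ d : ℕ, ∀ χ : IrrCharacter G, χ ∈ principalBlock M G →
      blockHeight p (principalBlock M G) (χ : G → ℂ) = 0 → charDegree (χ : G → ℂ) = d) ↔
      HasNormalPComplement p G := by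
  have hMp := isPrime_of_isPModular hM
  have htriv : trivIrr G ∈ principalBlock M G := mem_blockOf_self hMp (trivIrr G)
  constructor
  · rintro ⟨d, hd⟩
    have hd1 : d = 1 := by
      have := hd (trivIrr G) htriv (by
        rw [blockHeight_principal hM, charDegree_trivIrr]; simp)
      rw [charDegree_trivIrr] at this
      exact this.symm
    subst hd1
    apply hasNormalPComplement_of_linear hM
    intro χ hχ hpd
    apply hd χ hχ
    rw [blockHeight_principal hM]
    exact Nat.factorization_eq_zero_of_not_dvd hpd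
  · intro h
    refine ⟨1, ?_⟩
    intro χ hχ hht
    apply linear_of_hasNormalPComplement hM h χ hχ
    rw [blockHeight_principal hM, Nat.factorization_eq_zero_iff] at hht
    rcases hht with h1 | h1 | h1
    · exact absurd hp.out h1
    · exact h1
    · exfalso
      rw [charDegree_irr] at h1
      exact (irrDeg_pos χ).ne' h1

end Main

end Cfsg.Agent.Helper29.PrincipalDegrees
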