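import Mathlib
import Cfsg.Agent.Helper29.PsfDefs

set_option autoImplicit false

/-! S5876 piece CONJ: a semilinear automorphism maps torsion onto torsion. -/

namespace Cfsg.Agent.S5876P

open Module

/-- CONJ: a `σ`-semilinear automorphism maps the `𝔪`-torsion onto the `σ(𝔪)`-torsion. -/
theorem map_torsion {F R V : Type*} [Field F] [CommRing R] [Algebra F R]
    [AddCommGroup V] [Module F V] [Module R V] [IsScalarTower F R V]
    (σ : R ≃+* R) (φ : V ≃ₗ[F] V) (h : ∀ (r : R) (v : V), φ (r • v) = σ r • φ v)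
    (𝔪 : Ideal R) (h𝔪 : 𝔪.IsMaximal) :
    ∃ 𝔪' : Ideal R, 𝔪'.IsMaximal ∧
      ((Submodule.torsionBySet R V (𝔪 : Set R)).restrictScalars F).map (φ : V →ₗ[F] V) =
        (Submodule.torsionBySet R V (𝔪' : Set R)).restrictScalars F := by
  refine ⟨𝔪.comap (σ.symm : R →+* R), Ideal.comap_isMaximal_of_equiv σ.symm, ?_⟩
  ext w
  simp only [Submodule.mem_map, Submodule.restrictScalars_mem, Submodule.mem_torsionBySet_iff]
  constructor
  · rintro ⟨v, hv, rfl⟩ ⟨s, hs⟩
    have hs' : σ.symm s ∈ 𝔪 := hs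
    have := h (σ.symm s) v
    rw [RingEquiv.apply_symm_apply] at this
    show s • (φ v) = 0
    rw [← this]
    have h0 := hv ⟨σ.symm s, hs'⟩
    change σ.symm s • v = 0 at h0
    rw [h0, map_zero]
  · intro hw
    refine ⟨φ.symm w, ?_, by simp⟩
    rintro ⟨r, hr⟩
    show r • φ.symm w = 0
    apply φ.injective
    rw [h, map_zero, LinearEquiv.apply_symm_apply]
    have hs : σ r ∈ 𝔪.comap (σ.symm : R →+* R) := by
      show σ.symm (σ r) ∈ 𝔪
      rw [RingEquiv.symm_apply_apply]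
      exact hr
    exact hw ⟨σ r, hs⟩

end Cfsg.Agent.S5876P
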