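import Mathlib
import Cfsg.Agent.Helper29.PsfDefs
import Cfsg.Agent.Helper23.PsfIND
import Cfsg.Agent.Helper3.PsfORB
import Cfsg.Agent.Helper5.PsfASSOC
import Cfsg.Agent.Helper29.PsfCONJ
import Cfsg.Agent.Helper23.PsfSIGMA

set_option autoImplicit false

/-! S5876: the algebra spanned by an abelian normal subgroup of a primitive irreducible linear
group is a field; hence abelian normal subgroups act fixed-point-freely. -/

namespace Cfsg.Agent.S5876P

open Matrix Module
open scoped IsMulCommutative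

variable {n : ℕ} {F : Type*} [Field F]

/-- conjugation by an element normalising `A` preserves `alg A`. -/
theorem conj_mem_alg (A : Subgroup (GLn n F)) (x : GLn n F) (hx : ∀ a ∈ A, x * a * x⁻¹ ∈ A)
    (r : Module.End F (Fin n → F)) (hr : r ∈ alg A) : lin x * r * lin x⁻¹ ∈ alg A := by
  induction hr using Algebra.adjoin_induction with
  | mem r hr =>
    obtain ⟨a, ha, rfl⟩ := hr
    rw [← lin_mul, ← lin_mul]
    exact lin_mem_alg (hx a ha)
  | algebraMap c =>
    have : lin x * (algebraMap F (Module.End F (Fin n → F)) c) * lin x⁻¹ =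
        algebraMap F (Module.End F (Fin n → F)) c := by
      rw [← Algebra.commutes c (lin x), mul_assoc, ← lin_mul, mul_inv_cancel, lin_one, mul_one]
    rw [this]
    exact Subalgebra.algebraMap_mem _ c
  | add r s _ _ hr hs =>
    rw [mul_add, add_mul]
    exact Subalgebra.add_mem _ hr hs
  | mul r s _ _ hr hs =>
    have : lin x * (r * s) * lin x⁻¹ = (lin x * r * lin x⁻¹) * (lin x * s * lin x⁻¹) := by
      have h1 : lin x⁻¹ * lin x = (1 : Module.End F (Fin n → F)) := by
        rw [← lin_mul, inv_mul_cancel, lin_one]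
      calc lin x * (r * s) * lin x⁻¹ = lin x * r * 1 * s * lin x⁻¹ := by
            rw [mul_one]; simp only [mul_assoc]
        _ = (lin x * r * lin x⁻¹) * (lin x * s * lin x⁻¹) := by
            rw [← h1]; simp only [mul_assoc]
    rw [this]
    exact Subalgebra.mul_mem _ hr hs

theorem alg_isMulCommutative (A : Subgroup (GLn n F)) (hcomm : ∀ a ∈ A, ∀ b ∈ A, a * b = b * a) :
    IsMulCommutative (alg A) := by
  apply Algebra.isMulCommutative_adjoin
  rintro _ ⟨a, ha, rfl⟩ _ ⟨b, hb, rfl⟩
  rw [← lin_mul, ← lin_mul, hcomm a ha b hb]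

set_option synthInstance.maxHeartbeats 400000 in
set_option maxHeartbeats 1000000 in
/-- FLD: every nonzero element of `alg A` is injective. -/
theorem ker_eq_bot_of_mem_alg [Fintype F] (hn : 0 < n) (G : Subgroup (GLn n F))
    (hirr : Cfsg.Geo.ActsIrreducibly (Cfsg.Geo.matrixSet G))
    (hprim : ∀ (m t : ℕ) (D : Fin t → Submodule F (Fin n → F)), 2 ≤ t →
      Cfsg.Geo.IsMDecomposition m D → ¬ G ≤ Cfsg.Geo.decompositionStabilizer D)
    (A : Subgroup (GLn n F)) (hnorm : ∀ x ∈ G, ∀ a ∈ A, x * a * x⁻¹ ∈ A)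
    (hcomm : ∀ a ∈ A, ∀ b ∈ A, a * b = b * a)
    (r : Module.End F (Fin n → F)) (hr : r ∈ alg A) (hr0 : r ≠ 0) : LinearMap.ker r = ⊥ := by
  haveI : IsMulCommutative (alg A) := alg_isMulCommutative A hcomm
  haveI : Nonempty (Fin n) := ⟨⟨0, hn⟩⟩
  haveI : Nontrivial (Fin n → F) := inferInstance
  obtain ⟨𝔪, h𝔪, hW⟩ := exists_maximal_torsion (F := F) (R := alg A) (V := Fin n → F)
  have hW' : (Submodule.torsionBySet (alg A) (Fin n → F) (𝔪 : Set (alg A))).restrictScalars F
      ≠ ⊥ := by
    intro h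
    apply hW
    rw [eq_bot_iff] at h ⊢
    intro v hv
    exact h hv
  have hind : sSupIndep {U : Submodule F (Fin n → F) | ∃ x ∈ G, U =
      ((Submodule.torsionBySet (alg A) (Fin n → F) (𝔪 : Set (alg A))).restrictScalars F).map
        (lin x)} := by
    apply (sSupIndep_torsion (F := F) (R := alg A) (V := Fin n → F)).mono
    rintro U ⟨x, hx, rfl⟩
    have hxinv : ∀ a ∈ A, x⁻¹ * a * x⁻¹⁻¹ ∈ A := fun a ha => hnorm x⁻¹ (G.inv_mem hx) a ha
    obtain ⟨σ, hσ⟩ := exists_sigma (alg A) (linEquiv x)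
      (fun r hr => by
        have := conj_mem_alg A x (hnorm x hx) r hr
        exact this)
      (fun r hr => by
        have := conj_mem_alg A x⁻¹ hxinv r hr
        rw [inv_inv] at this
        exact this)
    obtain ⟨𝔪', h𝔪', heq⟩ := map_torsion (F := F) σ (linEquiv x) hσ 𝔪 h𝔪
    exact ⟨𝔪', h𝔪', heq⟩
  have htop := orbit_eq_top G hirr hprim _ hW' hind
  have h𝔪bot : 𝔪 = ⊥ := by
    rw [eq_bot_iff]
    intro s hs
    rw [Submodule.mem_bot]
    apply Subtype.ext
    apply LinearMap.ext
    intro v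
    have hv : v ∈ (Submodule.torsionBySet (alg A) (Fin n → F) (𝔪 : Set (alg A))).restrictScalars F := by
      rw [htop]; trivial
    rw [Submodule.restrictScalars_mem, Submodule.mem_torsionBySet_iff] at hv
    exact hv ⟨s, hs⟩
  rw [h𝔪bot] at h𝔪
  haveI : Nontrivial (alg A) := inferInstance
  replace h𝔪 : IsField (alg A) := Ring.isField_iff_maximal_bot.mpr h𝔪
  have hr0' : (⟨r, hr⟩ : alg A) ≠ 0 := by
    intro h
    apply hr0
    exact congrArg Subtype.val h
  obtain ⟨s, hs⟩ := h𝔪.mul_inv_cancel hr0'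
  have hs' : (s : Module.End F (Fin n → F)) * r = 1 := by
    rw [mul_comm] at hs
    exact congrArg Subtype.val hs
  rw [LinearMap.ker_eq_bot]
  intro v w hvw
  have h1 : ((s : Module.End F (Fin n → F)) * r) v = ((s : Module.End F (Fin n → F)) * r) w := by
    show (s : Module.End F (Fin n → F)) (r v) = (s : Module.End F (Fin n → F)) (r w)
    rw [hvw]
  rw [hs'] at h1
  exact h1

end Cfsg.Agent.S5876P
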