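import Mathlib
import Cfsg.Agent.Helper29.PsfDefs
import Cfsg.Agent.Helper20.PsfCENT
import Cfsg.Agent.Helper20.PsfGRP
import Cfsg.Agent.Helper5.PsfCLS2
import Cfsg.Agent.Helper29.PsfFLD

set_option autoImplicit false

/-! S5876: main assembly. -/

namespace Cfsg.Agent.S5876P

open Matrix Module

variable {n : ℕ} {F : Type*} [Field F]

/-- abelian subgroups normalised by `G` act fixed-point-freely. -/
theorem fix_eq_bot_of_abelian_normal [Fintype F] (hn : 0 < n) (G : Subgroup (GLn n F))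
    (hirr : Cfsg.Geo.ActsIrreducibly (Cfsg.Geo.matrixSet G))
    (hprim : ∀ (m t : ℕ) (D : Fin t → Submodule F (Fin n → F)), 2 ≤ t →
      Cfsg.Geo.IsMDecomposition m D → ¬ G ≤ Cfsg.Geo.decompositionStabilizer D)
    (A : Subgroup (GLn n F)) (hnorm : ∀ x ∈ G, ∀ a ∈ A, x * a * x⁻¹ ∈ A)
    (hcomm : ∀ a ∈ A, ∀ b ∈ A, a * b = b * a) (a : GLn n F) (ha : a ∈ A) (ha1 : a ≠ 1) :
    fix a = ⊥ := by
  have h1 : lin a - 1 ∈ alg A := Subalgebra.sub_mem _ (lin_mem_alg ha) (Subalgebra.one_mem _)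
  have h2 : lin a - 1 ≠ 0 := by
    intro h
    apply ha1
    apply lin_injective
    rw [lin_one]
    exact sub_eq_zero.mp h
  have h3 := ker_eq_bot_of_mem_alg hn G hirr hprim A hnorm hcomm _ h1 h2
  rw [eq_bot_iff]
  intro v hv
  rw [mem_fix] at hv
  have : v ∈ LinearMap.ker (lin a - 1) := by
    rw [LinearMap.mem_ker, LinearMap.sub_apply, hv]
    exact sub_self v
  rw [h3] at this
  exact this

/-- the same for normal abelian subgroups of `↥G`. -/
theorem fix_eq_bot_of_normal [Fintype F] (hn : 0 < n) (G : Subgroup (GLn n F))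
    (hirr : Cfsg.Geo.ActsIrreducibly (Cfsg.Geo.matrixSet G))
    (hprim : ∀ (m t : ℕ) (D : Fin t → Submodule F (Fin n → F)), 2 ≤ t →
      Cfsg.Geo.IsMDecomposition m D → ¬ G ≤ Cfsg.Geo.decompositionStabilizer D)
    (N : Subgroup G) (hN : N.Normal) (hcomm : ∀ a ∈ N, ∀ b ∈ N, a * b = b * a)
    (a : G) (ha : a ∈ N) (ha1 : a ≠ 1) : fix (a : GLn n F) = ⊥ := by
  apply fix_eq_bot_of_abelian_normal hn G hirr hprim (N.map G.subtype) ?_ ?_ a
    (Subgroup.mem_map_of_mem _ ha)
  · intro h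
    apply ha1
    exact Subtype.ext h
  · rintro x hx _ ⟨b, hb, rfl⟩
    rw [Subgroup.mem_map]
    have h1 := hN.conj_mem b hb ⟨x, hx⟩
    refine ⟨_, h1, ?_⟩
    simp only [Subgroup.coe_subtype, Subgroup.coe_mul, Subgroup.coe_inv]
  · rintro _ ⟨b, hb, rfl⟩ _ ⟨c, hc, rfl⟩
    have := hcomm b hb c hc
    simp only [Subgroup.coe_subtype, ← Subgroup.coe_mul, this]

theorem main [Fintype F] (G : Subgroup (GLn n F)) (hsol : IsSolvable G)
    (hirr : Cfsg.Geo.ActsIrreducibly (Cfsg.Geo.matrixSet G))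
    (hprim : ∀ (m t : ℕ) (D : Fin t → Submodule F (Fin n → F)), 2 ≤ t →
      Cfsg.Geo.IsMDecomposition m D → ¬ G ≤ Cfsg.Geo.decompositionStabilizer D)
    (g : GLn n F) (hg : g ∈ G) (hg1 : g ≠ 1) : 4 * d g ≤ 3 * n := by
  rcases Nat.eq_zero_or_pos n with hn0 | hn
  · have h1 := Submodule.finrank_le (fix g)
    rw [Module.finrank_fin_fun] at h1
    have : d g = finrank F (fix g) := rfl
    omega
  by_contra hcon
  push Not at hcon
  have : Group.IsSolvable G := hsol
  -- the family of normal subgroups of class at most two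
  have key : ∀ Y : Subgroup G, Y.Normal → ClassTwo Y → ∀ y ∈ Y, y * ⟨g, hg⟩ = ⟨g, hg⟩ * y := by
    intro Y hYn hYc y hy
    have hZn : (Y ⊓ Subgroup.centralizer (Y : Set G)).Normal := inferInstance
    have hY' : ∀ x ∈ Y.map G.subtype, x ≠ 1 → 2 * d x ≤ n := by
      apply two_d_le_of_classTwo (Y.map G.subtype)
      · rintro _ ⟨a, ha, rfl⟩ _ ⟨b, hb, rfl⟩ _ ⟨c, hc, rfl⟩
        have := hYc a ha b hb c hc
        simp only [Subgroup.coe_subtype, ← Subgroup.coe_mul, ← Subgroup.coe_inv, this]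
      · rintro _ ⟨z, hz, rfl⟩ hzc hz1
        apply fix_eq_bot_of_normal hn G hirr hprim _ hZn ?_ z ?_ ?_
        · intro a ha b hb
          rw [Subgroup.mem_inf, Subgroup.mem_centralizer_iff] at ha
          rw [Subgroup.mem_inf] at hb
          exact (ha.2 b hb.1).symm
        · rw [Subgroup.mem_inf, Subgroup.mem_centralizer_iff]
          refine ⟨hz, ?_⟩
          intro y hy
          have := hzc (y : GLn n F) ⟨y, hy, rfl⟩
          apply Subtype.ext
          rw [Subgroup.coe_mul, Subgroup.coe_mul]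
          exact this.symm
        · intro h
          apply hz1
          rw [h, map_one]
    have := commute_of_large_fix (Y.map G.subtype) hY' g ?_ hcon (y : GLn n F) ⟨y, hy, rfl⟩
    · apply Subtype.ext
      rw [Subgroup.coe_mul, Subgroup.coe_mul]
      exact this
    · rintro _ ⟨b, hb, rfl⟩
      rw [Subgroup.mem_map]
      have h1 := hYn.conj_mem b hb ⟨g, hg⟩
      refine ⟨_, h1, ?_⟩
      simp only [Subgroup.coe_subtype, Subgroup.coe_mul, Subgroup.coe_inv]
  have hDn : (sSup {Y : Subgroup G | Y.Normal ∧ ClassTwo Y}).Normal :=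
    Subgroup.sSup_normal _ (fun Y hY => hY.1)
  have hDle : ∀ Y : Subgroup G, Y.Normal → ClassTwo Y →
      Y ≤ sSup {Y : Subgroup G | Y.Normal ∧ ClassTwo Y} := fun Y h1 h2 => le_sSup ⟨h1, h2⟩
  have hcent := centralizer_le_of_solvable (sSup {Y : Subgroup G | Y.Normal ∧ ClassTwo Y}) hDle
  have hgC : (⟨g, hg⟩ : G) ∈ Subgroup.centralizer
      ((sSup {Y : Subgroup G | Y.Normal ∧ ClassTwo Y} : Subgroup G) : Set G) := by
    have : sSup {Y : Subgroup G | Y.Normal ∧ ClassTwo Y} ≤
        Subgroup.centralizer ({(⟨g, hg⟩ : G)} : Set G) := by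
      apply sSup_le
      rintro Y ⟨hYn, hYc⟩ y hy
      rw [Subgroup.mem_centralizer_iff]
      rintro _ rfl
      exact (key Y hYn hYc y hy).symm
    rw [Subgroup.mem_centralizer_iff]
    intro h hh
    have := this hh
    rw [Subgroup.mem_centralizer_iff] at this
    exact (this _ rfl).symm
  have hgD := hcent hgC
  have hZn : (sSup {Y : Subgroup G | Y.Normal ∧ ClassTwo Y} ⊓ Subgroup.centralizer
      ((sSup {Y : Subgroup G | Y.Normal ∧ ClassTwo Y} : Subgroup G) : Set G)).Normal :=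
    inferInstance
  have hfix := fix_eq_bot_of_normal hn G hirr hprim _ hZn ?_ ⟨g, hg⟩ ⟨hgD, hgC⟩ ?_
  · have : d g = 0 := by
      show finrank F (fix g) = 0
      rw [hfix]
      exact finrank_bot F _
    omega
  · intro a ha b hb
    rw [Subgroup.mem_inf, Subgroup.mem_centralizer_iff] at ha
    rw [Subgroup.mem_inf] at hb
    exact (ha.2 b hb.1).symm
  · intro h
    apply hg1
    exact congrArg Subtype.val h

end Cfsg.Agent.S5876P
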