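import Mathlib
import Cfsg.Agent.Helper25.QPDefs
import Cfsg.Agent.Helper8.QPUNIP
import Cfsg.Agent.Helper18.QP68Main

set_option autoImplicit false

/-! # S5074, Case 2, part 1: the Baer argument

If `n` is the nilpotent part of a quadratic element of the irreducible group `G` with its scalar
family in `G`, and `n * n^g * n = 0` for every conjugate `n^g`, `g ∈ G`, then `n = 0`:
any two conjugates of the one-parameter group `{1 + c n}` generate a unipotent group, so they
generate a normal unipotent subgroup (S5061), which is trivial (irreducibility). -/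

noncomputable section

namespace Cfsg.Agent.QP74

open Cfsg Cfsg.Agent.Helper25.QP Cfsg.Agent.Helper25.QuadPair Cfsg.Agent.QPP
  Cfsg.Agent.Helper25.Unip Cfsg.Agent.QP68 Cfsg.Agent.QP2

variable {k : Type*} [Field k] {M : Type*} [AddCommGroup M] [Module k M]

local notation "GLkM" => LinearMap.GeneralLinearGroup k M

/-- the one-parameter group `{1 + c n}` -/
def BAER_aux_fam (n : Module.End k M) (hn : n * n = 0) : Subgroup GLkM :=
  Subgroup.closure (Set.range (uu n hn))

theorem BAER_aux_fam_sup (a b : Module.End k M) (ha : a * a = 0) (hb : b * b = 0) :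
    BAER_aux_fam a ha ⊔ BAER_aux_fam b hb = Hgrp a b ha hb := by
  unfold BAER_aux_fam Hgrp
  rw [Subgroup.closure_union]

/-- a pair with `a b a = 0 = b a b` generates a unipotent group -/
theorem BAER_aux_unip {a b : Module.End k M} (haa : a * a = 0) (hbb : b * b = 0)
    (haba : a * b * a = 0) (hbab : b * a * b = 0) : IsUnipotentOn (Hgrp a b haa hbb) := by
  refine ⟨3, ?_⟩
  intro l hl hlen
  match l, hlen with
  | [g1, g2, g3], _ =>
    have m1 := UNIP_aux_mem haa hbb haba hbab g1 (hl g1 (by simp))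
    have m2 := UNIP_aux_mem haa hbb haba hbab g2 (hl g2 (by simp))
    have m3 := UNIP_aux_mem haa hbb haba hbab g3 (hl g3 (by simp))
    have := UNIP_aux_S_mul3 haa hbb haba hbab m1 m2 m3
    show ((g1 : Module.End k M) - 1) * (((g2 : Module.End k M) - 1) *
      (((g3 : Module.End k M) - 1) * 1)) = 0
    rw [mul_one, ← mul_assoc]
    exact this

theorem BAER_aux_conj_sq (g : GLkM) {n : Module.End k M} (hn : n * n = 0) :
    ((g : Module.End k M) * n * ((g⁻¹ : GLkM) : Module.End k M)) *
      ((g : Module.End k M) * n * ((g⁻¹ : GLkM) : Module.End k M)) = 0 := by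
  have h1 : ((g⁻¹ : GLkM) : Module.End k M) * (g : Module.End k M) = 1 := Units.inv_mul g
  calc (g : Module.End k M) * n * ((g⁻¹ : GLkM) : Module.End k M) *
        ((g : Module.End k M) * n * ((g⁻¹ : GLkM) : Module.End k M))
      = (g : Module.End k M) * n * (((g⁻¹ : GLkM) : Module.End k M) * (g : Module.End k M)) * n *
          ((g⁻¹ : GLkM) : Module.End k M) := by simp only [mul_assoc]
    _ = 0 := by rw [h1, mul_one, mul_assoc (g : Module.End k M) n n, hn]; simp

/-- conjugation of the one-parameter group -/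
theorem BAER_aux_conjBy (g : GLkM) {n : Module.End k M} (hn : n * n = 0) :
    conjBy (BAER_aux_fam n hn) g =
      BAER_aux_fam ((g : Module.End k M) * n * ((g⁻¹ : GLkM) : Module.End k M))
        (BAER_aux_conj_sq g hn) := by
  unfold BAER_aux_fam conjBy
  rw [MonoidHom.map_closure]
  congr 1
  ext x
  constructor
  · rintro ⟨_, ⟨c, rfl⟩, rfl⟩
    refine ⟨c, ?_⟩
    apply Units.ext
    show (1 : Module.End k M) + c • ((g : Module.End k M) * n * ((g⁻¹ : GLkM) : Module.End k M))
      = ((g * uu n hn c * g⁻¹ : GLkM) : Module.End k M)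
    rw [Units.val_mul, Units.val_mul, val_uu, mul_add, add_mul, mul_one, Units.mul_inv,
      mul_smul_comm, smul_mul_assoc]
  · rintro ⟨c, rfl⟩
    refine ⟨uu n hn c, ⟨c, rfl⟩, ?_⟩
    apply Units.ext
    show ((g * uu n hn c * g⁻¹ : GLkM) : Module.End k M)
      = (1 : Module.End k M) + c • ((g : Module.End k M) * n * ((g⁻¹ : GLkM) : Module.End k M))
    rw [Units.val_mul, Units.val_mul, val_uu, mul_add, add_mul, mul_one, Units.mul_inv,
      mul_smul_comm, smul_mul_assoc]

theorem BAER_aux_fam_le {G : Subgroup GLkM} {n : Module.End k M} (hn : QFam G n) :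
    BAER_aux_fam n hn.1 ≤ G := by
  unfold BAER_aux_fam
  rw [Subgroup.closure_le]
  rintro _ ⟨c, rfl⟩
  apply InG.mem
  rw [val_uu]
  exact hn.2 c

theorem BAER_aux_fam_ne_bot {n : Module.End k M} (hn : n * n = 0) (h0 : n ≠ 0) :
    BAER_aux_fam n hn ≠ ⊥ := by
  intro h
  have hm : uu n hn 1 ∈ BAER_aux_fam n hn := Subgroup.subset_closure ⟨1, rfl⟩
  rw [h, Subgroup.mem_bot] at hm
  have := congrArg (fun u : GLkM => (u : Module.End k M)) hm
  simp only [val_uu, one_smul, Units.val_one] at this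
  apply h0
  have h2 : (1 : Module.End k M) + n = 1 + 0 := by rw [this, add_zero]
  exact add_left_cancel h2

/-- **Baer argument.** -/
theorem BAER [FiniteDimensional k M] {G : Subgroup GLkM} (hG : IsIrreducibleFor G)
    {n : Module.End k M} (hn : QFam G n)
    (h3 : ∀ g ∈ G, n * ((g : Module.End k M) * n * ((g⁻¹ : GLkM) : Module.End k M)) * n = 0) :
    n = 0 := by
  by_contra h0
  set A : Subgroup GLkM := BAER_aux_fam n hn.1 with hA
  set S : Set (Subgroup GLkM) := {B | ∃ g ∈ G, B = conjBy A g} with hS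
  have hAG : A ≤ G := BAER_aux_fam_le hn
  have hSG : ∀ B ∈ S, B ≤ G := by
    rintro _ ⟨g, hg, rfl⟩
    intro x hx
    obtain ⟨u, hu, rfl⟩ := hx
    exact G.mul_mem (G.mul_mem hg (hAG hu)) (G.inv_mem hg)
  have hne : ∀ B ∈ S, B ≠ ⊥ := by
    rintro _ ⟨g, hg, rfl⟩ hb
    have : A = ⊥ := by
      unfold conjBy at hb
      exact (Subgroup.map_eq_bot_iff_of_injective A (MulAut.conj g).injective).1 hb
    exact BAER_aux_fam_ne_bot hn.1 h0 this
  have hSconj : ∀ B ∈ S, ∀ g ∈ G, conjBy B g ∈ S := by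
    rintro _ ⟨h, hh, rfl⟩ g hg
    exact ⟨g * h, G.mul_mem hg hh, Cfsg.Agent.Helper25.conjBy_conjBy A h g⟩
  have hAS : A ∈ S := ⟨1, G.one_mem, (Cfsg.Agent.Helper25.conjBy_one A).symm⟩
  obtain ⟨g, hg, hnu⟩ := OPPN hG hSG hne hSconj hAS
  apply hnu
  rw [hA, BAER_aux_conjBy g hn.1, BAER_aux_fam_sup]
  refine BAER_aux_unip _ _ (h3 g hg) ?_
  -- n' n n' = g (n (g⁻¹ n g) n) g⁻¹
  have h4 := h3 g⁻¹ (G.inv_mem hg)
  rw [inv_inv] at h4
  have h1 : ((g⁻¹ : GLkM) : Module.End k M) * (g : Module.End k M) = 1 := Units.inv_mul g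
  calc (g : Module.End k M) * n * ((g⁻¹ : GLkM) : Module.End k M) * n *
        ((g : Module.End k M) * n * ((g⁻¹ : GLkM) : Module.End k M))
      = (g : Module.End k M) * (n * (((g⁻¹ : GLkM) : Module.End k M) * n * (g : Module.End k M)) * n) *
          ((g⁻¹ : GLkM) : Module.End k M) := by simp only [mul_assoc]
    _ = 0 := by rw [h4]; simp

end Cfsg.Agent.QP74

end
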