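import Mathlib
import Cfsg.Agent.Helper29.QP74Baer

set_option autoImplicit false

/-! # S5074, Case 2, part 2: the subspace `𝔲 = {a | y a y = 0 for all root parts y}`. -/

noncomputable section

namespace Cfsg.Agent.QP74

open Cfsg Cfsg.Agent.Helper25.QP Cfsg.Agent.Helper25.QuadPair Cfsg.Agent.QPP

variable {k : Type*} [Field k] {M : Type*} [AddCommGroup M] [Module k M]

local notation "GLkM" => LinearMap.GeneralLinearGroup k M

/-- `a ∈ 𝔲`: `y a y = 0` for all nilpotent parts `y` of the root elements -/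
def Uu (G : Subgroup GLkM) (d : ℕ) (a : Module.End k M) : Prop :=
  ∀ y : Module.End k M, Qd G d y → y * a * y = 0

theorem Uu.add {G : Subgroup GLkM} {d : ℕ} {a b : Module.End k M} (ha : Uu G d a) (hb : Uu G d b) :
    Uu G d (a + b) := fun y hy => by rw [mul_add, add_mul, ha y hy, hb y hy, add_zero]

theorem Uu.smul {G : Subgroup GLkM} {d : ℕ} {a : Module.End k M} (ha : Uu G d a) (c : k) :
    Uu G d (c • a) := fun y hy => by rw [mul_smul_comm, smul_mul_assoc, ha y hy, smul_zero]

theorem Uu.neg {G : Subgroup GLkM} {d : ℕ} {a : Module.End k M} (ha : Uu G d a) :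
    Uu G d (-a) := by
  have := ha.smul (-1)
  simpa using this

theorem Uu.sub {G : Subgroup GLkM} {d : ℕ} {a b : Module.End k M} (ha : Uu G d a) (hb : Uu G d b) :
    Uu G d (a - b) := by
  rw [sub_eq_add_neg]
  exact ha.add hb.neg

/-- conjugates of root parts are root parts -/
theorem Qd_conj [FiniteDimensional k M] {G : Subgroup GLkM} {d : ℕ} {y h h' : Module.End k M}
    (hy : Qd G d y) (hh : InG G h) (h1 : h * h' = 1) (h2 : h' * h = 1) : Qd G d (h' * y * h) :=
  ⟨hy.1.conj hh h1 h2, (finrank_range_conj h1 h2).trans hy.2⟩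

/-- `𝔲` is invariant under conjugation by `G` -/
theorem Uu.conj [FiniteDimensional k M] {G : Subgroup GLkM} {d : ℕ} {a h h' : Module.End k M}
    (ha : Uu G d a) (hh : InG G h) (h1 : h * h' = 1) (h2 : h' * h = 1) : Uu G d (h' * a * h) := by
  intro y hy
  have hh' : InG G h' := hh.inv_of_mul_eq_one h1
  have hq : Qd G d (h * y * h') := Qd_conj hy hh' h2 h1
  have h0 := ha _ hq
  calc y * (h' * a * h) * y = (h' * h) * y * (h' * a * h) * y * (h' * h) := by
        rw [h2, one_mul, mul_one]
    _ = h' * ((h * y * h') * a * (h * y * h')) * h := by simp only [mul_assoc]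
    _ = 0 := by rw [h0, mul_zero, zero_mul]

/-- (L1) `𝔲` is stable under `ad y`, `y` a root part -/
theorem Uu.ad_root [FiniteDimensional k M] {G : Subgroup GLkM} {d : ℕ} {a y : Module.End k M}
    (ha : Uu G d a) (hy : Qd G d y) : Uu G d (y * a - a * y) := by
  have hin : InG G (1 - y) := by
    have := hy.1.2 (-1)
    simpa [sub_eq_add_neg] using this
  have h1 : (1 - y) * (1 + y) = 1 := by
    have : (1 - y) * (1 + y) = 1 - y * y := by noncomm_ring
    rw [this, hy.1.1, sub_zero]
  have h2 : (1 + y) * (1 - y) = 1 := by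
    have : (1 + y) * (1 - y) = 1 - y * y := by noncomm_ring
    rw [this, hy.1.1, sub_zero]
  have hc := ha.conj hin h1 h2
  have e : (1 + y) * a * (1 - y) = a + (y * a - a * y) - y * a * y := by noncomm_ring
  rw [e, ha y hy, sub_zero] at hc
  have := hc.sub ha
  rwa [add_sub_cancel_left] at this

/-- (L2) `𝔲` is stable under `ad a`, `a` the nilpotent part of a quadratic element -/
theorem Uu.ad_fam [FiniteDimensional k M] (h2 : (2 : k) ≠ 0) {G : Subgroup GLkM} {d : ℕ}
    {a u : Module.End k M} (ha : QFam G a) (hu : Uu G d u) : Uu G d (a * u - u * a) := by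
  have hin1 : InG G (1 - a) := by
    have := ha.2 (-1)
    simpa [sub_eq_add_neg] using this
  have hin2 : InG G (1 + a) := by
    have := ha.2 1
    simpa using this
  have h1 : (1 - a) * (1 + a) = 1 := by
    have : (1 - a) * (1 + a) = 1 - a * a := by noncomm_ring
    rw [this, ha.1, sub_zero]
  have h2' : (1 + a) * (1 - a) = 1 := by
    have : (1 + a) * (1 - a) = 1 - a * a := by noncomm_ring
    rw [this, ha.1, sub_zero]
  have hc1 := hu.conj hin1 h1 h2'
  have hc2 := hu.conj hin2 h2' h1
  have e : (1 + a) * u * (1 - a) - (1 - a) * u * (1 + a) = (2 : k) • (a * u - u * a) := by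
    rw [two_smul]; noncomm_ring
  have h3 := hc1.sub hc2
  rw [e] at h3
  have := h3.smul (2 : k)⁻¹
  rwa [smul_smul, inv_mul_cancel₀ h2, one_smul] at this

/-- (OPP) no root part lies in `𝔲` -/
theorem Uu.root_eq_zero [FiniteDimensional k M] {G : Subgroup GLkM} (hG : IsIrreducibleFor G)
    {d : ℕ} {y : Module.End k M} (hy : Qd G d y) (hu : Uu G d y) : y = 0 := by
  refine BAER hG hy.1 ?_
  intro g hg
  -- `𝔲` is conjugation invariant, so the conjugate of `y` lies in `𝔲`; apply it to the root part `y`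
  have hu'' : Uu G d ((g : Module.End k M) * y * ((g⁻¹ : GLkM) : Module.End k M)) :=
    hu.conj (InG.of_mem (G.inv_mem hg)) (Units.inv_mul g) (Units.mul_inv g)
  exact hu'' y hy

end Cfsg.Agent.QP74

end
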