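import Mathlib
import Cfsg.Agent.Helper29.QP74U

set_option autoImplicit false
set_option linter.unusedSimpArgs false

/-! # S5074, Case 2, part 3: `a ∈ 𝔲` quadratic with scalar family in `G`  ⇒  `a y a = 0` for every
root part `y`, and then `[a, y] = 0`. -/

noncomputable section

namespace Cfsg.Agent.QP74

open Cfsg Cfsg.Agent.Helper25.QP Cfsg.Agent.Helper25.QuadPair Cfsg.Agent.QPP

variable {k : Type*} [Field k] {M : Type*} [AddCommGroup M] [Module k M]

local notation "GLkM" => LinearMap.GeneralLinearGroup k M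

/-- the conjugate `(1 - c a) y (1 + c a) - y = -c [a,y] - c² a y a` is again a member when `y a y = 0` -/
theorem L3_aux_diff {G : Subgroup GLkM} {a y : Module.End k M} (ha : QFam G a) (hy : QFam G y)
    (hyay : y * a * y = 0) (c : k) :
    QFam G (-(c • (a * y - y * a)) - (c * c) • (a * y * a)) := by
  have hq := hy.conj_fam ha c
  have e : (1 - c • a) * y * (1 + c • a) = y + (-(c • (a * y - y * a)) - (c * c) • (a * y * a)) := by
    simp only [sub_mul, mul_add, add_mul, mul_sub, one_mul, mul_one, smul_mul_assoc, mul_smul_comm,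
      smul_smul, smul_sub]
    abel
  have hyy := hy.1
  have hyay' : y * (a * y) = 0 := by rw [← mul_assoc]; exact hyay
  have e2 : (-(c • (a * y - y * a)) - (c * c) • (a * y * a))
      = (1 - c • a) * y * (1 + c • a) - y := by rw [e]; abel
  rw [e2]
  refine hq.sub hy ?_ ?_
  · rw [e]
    simp only [add_mul, sub_mul, neg_mul, smul_mul_assoc, mul_assoc, hyy, hyay', mul_zero,
      smul_zero, sub_zero, neg_zero, add_zero, sub_self]
  · rw [e]
    simp only [mul_add, mul_sub, mul_neg, mul_smul_comm, ← mul_assoc, hyy, hyay, zero_mul,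
      smul_zero, sub_zero, neg_zero, add_zero, sub_self]

/-- all products among `[a,y]` and `a y a` vanish when `a² = y² = y a y = 0` -/
theorem L3_aux_prod {a y : Module.End k M} (haa : a * a = 0) (hyy : y * y = 0)
    (hyay : y * a * y = 0) (c1 c2 c3 c4 : k) :
    (c1 • (a * y - y * a) + c2 • (a * y * a)) * (c3 • (a * y - y * a) + c4 • (a * y * a)) = 0 := by
  have haa' : ∀ x : Module.End k M, a * (a * x) = 0 := fun x => by rw [← mul_assoc, haa, zero_mul]
  have hyy' : ∀ x : Module.End k M, y * (y * x) = 0 := fun x => by rw [← mul_assoc, hyy, zero_mul]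
  have hyay0 : y * (a * y) = 0 := by rw [← mul_assoc]; exact hyay
  have hyay' : ∀ x : Module.End k M, y * (a * (y * x)) = 0 := fun x => by
    rw [← mul_assoc, ← mul_assoc, hyay, zero_mul]
  have p11 : (a * y - y * a) * (a * y - y * a) = 0 := by
    simp only [mul_sub, sub_mul, mul_assoc, haa', hyy', hyay', hyay0, haa, hyy, mul_zero, sub_zero,
      sub_self]
  have p12 : (a * y - y * a) * (a * y * a) = 0 := by
    simp only [sub_mul, mul_assoc, haa', hyy', hyay', hyay0, haa, hyy, mul_zero, sub_zero]
  have p21 : (a * y * a) * (a * y - y * a) = 0 := by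
    simp only [mul_sub, mul_assoc, haa', hyy', hyay', hyay0, haa, hyy, mul_zero, sub_zero]
  have p22 : (a * y * a) * (a * y * a) = 0 := by
    simp only [mul_assoc, haa', hyy', hyay', hyay0, haa, hyy, mul_zero]
  simp only [add_mul, mul_add, smul_mul_assoc, mul_smul_comm, p11, p12, p21, p22, smul_zero,
    add_zero]

/-- `a y a` is again a member when `y a y = 0` -/
theorem L3_aux_aya (h2 : (2 : k) ≠ 0) {G : Subgroup GLkM} {a y : Module.End k M} (ha : QFam G a)
    (hy : QFam G y) (hyay : y * a * y = 0) : QFam G (a * y * a) := by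
  have hp := L3_aux_diff ha hy hyay 1
  have hm := L3_aux_diff ha hy hyay (-1)
  have e1 : (-((1 : k) • (a * y - y * a)) - ((1 : k) * 1) • (a * y * a))
      = (-1 : k) • (a * y - y * a) + (-1 : k) • (a * y * a) := by
    simp only [one_smul, mul_one, neg_smul]; abel
  have e2 : (-((-1 : k) • (a * y - y * a)) - ((-1 : k) * (-1)) • (a * y * a))
      = (1 : k) • (a * y - y * a) + (-1 : k) • (a * y * a) := by
    simp only [one_smul, neg_smul, neg_neg, mul_neg, mul_one]; abel
  rw [e1] at hp
  rw [e2] at hm
  have hs := hp.add hm (L3_aux_prod ha.1 hy.1 hyay _ _ _ _) (L3_aux_prod ha.1 hy.1 hyay _ _ _ _)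
  have e3 : ((-1 : k) • (a * y - y * a) + (-1 : k) • (a * y * a))
      + ((1 : k) • (a * y - y * a) + (-1 : k) • (a * y * a)) = (-2 : k) • (a * y * a) := by
    module
  rw [e3] at hs
  have h2' : (-2 : k) ≠ 0 := neg_ne_zero.mpr h2
  have := hs.smul (-2 : k)⁻¹
  rwa [smul_smul, inv_mul_cancel₀ h2', one_smul] at this

/-- (L3) -/
theorem L3 [FiniteDimensional k M] (h2 : (2 : k) ≠ 0) {G : Subgroup GLkM}
    (hG : IsIrreducibleFor G) {d : ℕ} (hmin : MinRank G d) {a y : Module.End k M}
    (ha : QFam G a) (hua : Uu G d a) (hy : Qd G d y) : a * y * a = 0 := by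
  have hyay := hua y hy
  have hq := L3_aux_aya h2 ha hy.1 hyay
  have hu1 : Uu G d (a * y - y * a) := by
    have := (hua.ad_root hy).neg
    rwa [neg_sub] at this
  have hu2 := Uu.ad_fam h2 ha hu1
  have e : a * (a * y - y * a) - (a * y - y * a) * a = (-2 : k) • (a * y * a) := by
    have haa := ha.1
    have haa' : ∀ x : Module.End k M, a * (a * x) = 0 := fun x => by rw [← mul_assoc, haa, zero_mul]
    simp only [mul_sub, sub_mul, mul_assoc, haa', haa, mul_zero]
    module
  rw [e] at hu2
  have h2' : (-2 : k) ≠ 0 := neg_ne_zero.mpr h2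
  have hu3 := hu2.smul (-2 : k)⁻¹
  rw [smul_smul, inv_mul_cancel₀ h2', one_smul] at hu3
  by_contra h0
  have hle : Module.finrank k (LinearMap.range (a * y * a)) ≤ d := by
    rw [← hy.2, mul_assoc]
    have h1 : LinearMap.range (a * (y * a)) = Submodule.map a (LinearMap.range (y * a)) :=
      LinearMap.range_comp (y * a) a
    rw [h1]
    refine (Submodule.finrank_map_le a _).trans (Submodule.finrank_mono ?_)
    exact LinearMap.range_comp_le_range a y
  have hqd : Qd G d (a * y * a) := ⟨hq, le_antisymm hle (hmin _ hq h0)⟩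
  exact h0 (Uu.root_eq_zero hG hqd hu3)

/-- **Case 2.** A member `a` of `𝔲` commutes with every root part. -/
theorem CASE2_of_Uu [FiniteDimensional k M] (h2 : (2 : k) ≠ 0) {G : Subgroup GLkM}
    (hG : IsIrreducibleFor G) {d : ℕ} (hmin : MinRank G d) {a : Module.End k M}
    (ha : QFam G a) (hua : Uu G d a) {y : Module.End k M} (hy : Qd G d y) : a * y = y * a := by
  have hyay := hua y hy
  have haya := L3 h2 hG hmin ha hua hy
  -- n = [a,y] is a member
  have hqn : QFam G (a * y - y * a) := by
    have := L3_aux_diff ha hy.1 hyay (-1)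
    rw [haya] at this
    simpa using this
  have hun : Uu G d (a * y - y * a) := by
    have := (hua.ad_root hy).neg
    rwa [neg_sub] at this
  -- n = y₊ - y with y₊ = (1 + a) y (1 - a) a root part
  have hin1 : InG G (1 - a) := by
    have := ha.2 (-1)
    simpa [sub_eq_add_neg] using this
  have h1 : (1 - a) * (1 + a) = 1 := by
    have : (1 - a) * (1 + a) = 1 - a * a := by noncomm_ring
    rw [this, ha.1, sub_zero]
  have h2' : (1 + a) * (1 - a) = 1 := by
    have : (1 + a) * (1 - a) = 1 - a * a := by noncomm_ring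
    rw [this, ha.1, sub_zero]
  have hyp : Qd G d ((1 + a) * y * (1 - a)) := Qd_conj hy hin1 h1 h2'
  have en : a * y - y * a = (1 + a) * y * (1 - a) - y := by
    have : (1 + a) * y * (1 - a) = y + (a * y - y * a) - a * y * a := by noncomm_ring
    rw [this, haya]; abel
  have hn0 : a * y - y * a = 0 := by
    refine BAER hG hqn ?_
    intro g hg
    have hgi : InG G ((g⁻¹ : GLkM) : Module.End k M) := InG.of_mem (G.inv_mem hg)
    have hq1 : Qd G d ((g : Module.End k M) * ((1 + a) * y * (1 - a)) * ((g⁻¹ : GLkM) : Module.End k M)) :=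
      Qd_conj hyp hgi (Units.inv_mul g) (Units.mul_inv g)
    have hq2 : Qd G d ((g : Module.End k M) * y * ((g⁻¹ : GLkM) : Module.End k M)) :=
      Qd_conj hy hgi (Units.inv_mul g) (Units.mul_inv g)
    have z1 := L3 h2 hG hmin hqn hun hq1
    have z2 := L3 h2 hG hmin hqn hun hq2
    have e : (g : Module.End k M) * (a * y - y * a) * ((g⁻¹ : GLkM) : Module.End k M)
        = (g : Module.End k M) * ((1 + a) * y * (1 - a)) * ((g⁻¹ : GLkM) : Module.End k M)
          - (g : Module.End k M) * y * ((g⁻¹ : GLkM) : Module.End k M) := by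
      rw [en, mul_sub, sub_mul]
    have hd : ∀ N P Q : Module.End k M, N * (P - Q) * N = N * P * N - N * Q * N := by
      intro N P Q; noncomm_ring
    rw [e, hd, z1, z2, sub_zero]
  exact sub_eq_zero.mp hn0

end Cfsg.Agent.QP74

end
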