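import Mathlib
import Cfsg.Agent.Helper29.QP74L3

set_option autoImplicit false
set_option linter.unusedSimpArgs false

/-! # S5074, Case 2, part 4: `a y` nilpotent ⇒ `y a y = 0` (`a` the nilpotent part of a quadratic
element with scalar family in `G`, `y` a root part), and the final statement of Case 2. -/

noncomputable section

namespace Cfsg.Agent.QP74

open Cfsg Cfsg.Agent.Helper25.QP Cfsg.Agent.Helper25.QuadPair Cfsg.Agent.QPP

variable {k : Type*} [Field k] {M : Type*} [AddCommGroup M] [Module k M]

local notation "GLkM" => LinearMap.GeneralLinearGroup k M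

theorem L0_aux_nil {R : Type*} [Ring R] {a y : R} (h : IsNilpotent (a * y)) : IsNilpotent (y * a) := by
  obtain ⟨n, hn⟩ := h
  refine ⟨n + 1, ?_⟩
  rw [mul_pow_succ_shift, hn, mul_zero, zero_mul]

/-- the pair `(y, (1 - a) y (1 + a))` is unipotent when `y a` is nilpotent -/
theorem L0_aux_pow {R : Type*} [Ring R] {a y : R} (hyy : y * y = 0)
    {n : ℕ} (hn : (y * a) ^ n = 0) : (y * ((1 - a) * y * (1 + a))) ^ (n + 1) = 0 := by
  have hyy' : ∀ x : R, y * (y * x) = 0 := fun x => by rw [← mul_assoc, hyy, zero_mul]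
  have e : y * ((1 - a) * y * (1 + a)) = (y * a) * (-(y * (1 + a))) := by
    simp only [sub_mul, mul_add, mul_sub, one_mul, mul_one, mul_assoc, hyy', hyy, mul_neg,
      zero_sub, sub_zero, zero_add]
    abel
  have hQP : (-(y * (1 + a))) * (y * a) = -((y * a) ^ 2) := by
    simp only [mul_add, mul_one, neg_mul, add_mul, mul_assoc, hyy', zero_add, pow_two]
  rw [e, mul_pow_succ_shift, hQP, neg_pow, ← pow_mul]
  have : (y * a) ^ (2 * n) = 0 := by
    rw [mul_comm, pow_mul, hn, zero_pow (by norm_num)]
  rw [this, mul_zero, mul_zero, zero_mul]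

/-- all products among `y a y` and `a y a y - y a y a` vanish when `y² = a² = (y a)² y = 0` -/
theorem L0_aux_prod {a y : Module.End k M} (haa : a * a = 0) (hyy : y * y = 0)
    (h5 : y * a * y * a * y = 0) (c1 c2 c3 c4 : k) :
    (c1 • (y * a * y) + c2 • (a * y * a * y - y * a * y * a)) *
      (c3 • (y * a * y) + c4 • (a * y * a * y - y * a * y * a)) = 0 := by
  have haa' : ∀ x : Module.End k M, a * (a * x) = 0 := fun x => by rw [← mul_assoc, haa, zero_mul]
  have hyy' : ∀ x : Module.End k M, y * (y * x) = 0 := fun x => by rw [← mul_assoc, hyy, zero_mul]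
  have h50 : y * (a * (y * (a * y))) = 0 := by simpa only [mul_assoc] using h5
  have h5' : ∀ x : Module.End k M, y * (a * (y * (a * (y * x)))) = 0 := fun x => by
    have : y * (a * (y * (a * (y * x)))) = (y * (a * (y * (a * y)))) * x := by simp only [mul_assoc]
    rw [this, h50, zero_mul]
  have p11 : (y * a * y) * (y * a * y) = 0 := by
    simp only [mul_assoc, hyy', mul_zero]
  have p12 : (y * a * y) * (a * y * a * y - y * a * y * a) = 0 := by
    simp only [mul_sub, mul_assoc, hyy', h5', h50, mul_zero, sub_zero]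
  have p21 : (a * y * a * y - y * a * y * a) * (y * a * y) = 0 := by
    simp only [sub_mul, mul_assoc, hyy', h5', h50, mul_zero, sub_zero]
  have p22 : (a * y * a * y - y * a * y * a) * (a * y * a * y - y * a * y * a) = 0 := by
    simp only [sub_mul, mul_sub, mul_assoc, hyy', haa', h5', h50, mul_zero, sub_zero]
  simp only [add_mul, mul_add, smul_mul_assoc, mul_smul_comm, p11, p12, p21, p22, smul_zero,
    add_zero]

/-- the commutator of `y` with its conjugate by `1 + a` -/
theorem L0_aux_comm [FiniteDimensional k M] (h2 : (2 : k) ≠ 0) {G : Subgroup GLkM} {d : ℕ}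
    (hmin : MinRank G d) {a y : Module.End k M} (ha : QFam G a) (hy : Qd G d y)
    {n : ℕ} (hn : (y * a) ^ n = 0) :
    y * a * y * a * y = 0 ∧
      QFam G ((-2 : k) • (y * a * y) + (1 : k) • (a * y * a * y - y * a * y * a)) := by
  have hin2 : InG G (1 + a) := by
    have := ha.2 1
    simpa using this
  have h1 : (1 - a) * (1 + a) = 1 := by
    have : (1 - a) * (1 + a) = 1 - a * a := by noncomm_ring
    rw [this, ha.1, sub_zero]
  have h2' : (1 + a) * (1 - a) = 1 := by
    have : (1 + a) * (1 - a) = 1 - a * a := by noncomm_ring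
    rw [this, ha.1, sub_zero]
  have hy1 : Qd G d ((1 - a) * y * (1 + a)) := Qd_conj hy hin2 h2' h1
  obtain ⟨s1, s2⟩ := star h2 hmin (n + 1) hy.1 hy1.1 hy.2 hy1.2 (L0_aux_pow hy.1.1 hn)
  have hyy := hy.1.1
  have haa := ha.1
  have hyy' : ∀ x : Module.End k M, y * (y * x) = 0 := fun x => by rw [← mul_assoc, hyy, zero_mul]
  have h5 : y * a * y * a * y = 0 := by
    have e : y * ((1 - a) * y * (1 + a)) * y = -(y * a * y * a * y) := by
      have e0 : (1 - a) * y * (1 + a) = y + y * a - a * y - a * y * a := by noncomm_ring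
      rw [e0]
      simp only [sub_mul, mul_add, mul_sub, add_mul, mul_assoc, hyy', hyy, neg_mul, mul_neg,
        mul_zero, zero_sub, sub_zero, zero_add, add_zero, sub_self, neg_zero]
    rw [e, neg_eq_zero] at s1
    exact s1
  refine ⟨h5, ?_⟩
  have hq := QFam_comm hy.1 hy1.1 s1 s2
  have e : y * ((1 - a) * y * (1 + a)) - (1 - a) * y * (1 + a) * y
      = (-2 : k) • (y * a * y) + (1 : k) • (a * y * a * y - y * a * y * a) := by
    simp only [sub_mul, mul_add, mul_sub, add_mul, one_mul, mul_one, mul_assoc, hyy', hyy,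
      mul_zero, zero_sub, sub_zero, zero_add, add_zero, one_smul]
    module
  rwa [e] at hq

/-- (L0) -/
theorem L0 [FiniteDimensional k M] (h2 : (2 : k) ≠ 0) {G : Subgroup GLkM} {d : ℕ}
    (hmin : MinRank G d) {a y : Module.End k M} (ha : QFam G a) (hy : Qd G d y)
    (hnil : IsNilpotent (a * y)) : y * a * y = 0 := by
  obtain ⟨n, hn⟩ := L0_aux_nil hnil
  obtain ⟨h5, hq1⟩ := L0_aux_comm h2 hmin ha hy hn
  have hn' : (y * (-a)) ^ n = 0 := by
    rw [mul_neg, neg_pow, hn, mul_zero]
  obtain ⟨_, hq2⟩ := L0_aux_comm h2 hmin ha.neg hy hn'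
  have e2 : ((-2 : k) • (y * (-a) * y) + (1 : k) • ((-a) * y * (-a) * y - y * (-a) * y * (-a)))
      = (2 : k) • (y * a * y) + (1 : k) • (a * y * a * y - y * a * y * a) := by
    simp only [mul_neg, neg_mul, neg_neg, smul_neg, neg_smul]
  rw [e2] at hq2
  have hq4 := hq2.sub hq1 (L0_aux_prod ha.1 hy.1.1 h5 _ _ _ _) (L0_aux_prod ha.1 hy.1.1 h5 _ _ _ _)
  have e4 : ((2 : k) • (y * a * y) + (1 : k) • (a * y * a * y - y * a * y * a))
      - ((-2 : k) • (y * a * y) + (1 : k) • (a * y * a * y - y * a * y * a))
      = (4 : k) • (y * a * y) := by module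
  rw [e4] at hq4
  have h40 : (4 : k) ≠ 0 := by
    have : (4 : k) = 2 * 2 := by norm_num
    rw [this]; exact mul_ne_zero h2 h2
  have hqt : QFam G (y * a * y) := by
    have := hq4.smul (4 : k)⁻¹
    rwa [smul_smul, inv_mul_cancel₀ h40, one_smul] at this
  by_contra ht0
  have hle : LinearMap.range (y * a * y) ≤ LinearMap.range y := by
    rw [mul_assoc]
    exact LinearMap.range_comp_le_range _ _
  have hd := hmin _ hqt ht0
  have heq : LinearMap.range (y * a * y) = LinearMap.range y :=
    Submodule.eq_of_le_of_finrank_le hle (by rw [hy.2]; exact hd)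
  have hmap : Submodule.map (y * a) (LinearMap.range y) = LinearMap.range y := by
    have := range_mul (y * a) y
    rw [← this, heq]
  have hall : ∀ j : ℕ, Submodule.map ((y * a) ^ j) (LinearMap.range y) = LinearMap.range y := by
    intro j
    induction j with
    | zero => rw [pow_zero]; exact Submodule.map_id _
    | succ j ih =>
      rw [pow_succ]
      have : Submodule.map ((y * a) ^ j * (y * a)) (LinearMap.range y)
          = Submodule.map ((y * a) ^ j) (Submodule.map (y * a) (LinearMap.range y)) :=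
        Submodule.map_comp (y * a) ((y * a) ^ j) _
      rw [this, hmap, ih]
  have hbot := hall n
  rw [hn] at hbot
  have hy0 : LinearMap.range y = ⊥ := by
    rw [← hbot]
    exact Submodule.map_zero _
  apply ht0
  have : y = 0 := LinearMap.range_eq_bot.mp hy0
  rw [this]; simp

/-- **Case 2 of S5074**: a quadratic element (scalar family in `G`) whose nilpotent part `a` has
`a y` nilpotent for every root part `y` commutes with every root part. -/
theorem CASE2 [FiniteDimensional k M] (h2 : (2 : k) ≠ 0) {G : Subgroup GLkM}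
    (hG : IsIrreducibleFor G) {d : ℕ} (hmin : MinRank G d) {a : Module.End k M} (ha : QFam G a)
    (hnil : ∀ y : Module.End k M, Qd G d y → IsNilpotent (a * y)) :
    ∀ y : Module.End k M, Qd G d y → a * y = y * a := fun _ hy =>
  CASE2_of_Uu h2 hG hmin ha (fun y' hy' => L0 h2 hmin ha hy' (hnil y' hy')) hy

end Cfsg.Agent.QP74

end
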