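import Mathlib
import Cfsg.Prelude.Def_Blocks
import Cfsg.Agent.Helper5.QuotP
import Cfsg.Agent.Helper23.NormalSupport
import Cfsg.Agent.Lead.CoprimeFrattini
import Cfsg.Agent.Helper21.FrattiniLib

/-!
# Blocks of `G` and of `G ⧸ D'` for a normal `p`-subgroup `D`

Inflation induces a bijection between the `p`-blocks of `G ⧸ ⁅D, D⁆` and those of `G`.
The block idempotents are supported on the `p`-regular elements of `C_G(D)`; for such an element
`g` the central characters of an inflated character at `g` and of the original character at the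
image of `g` agree; and a `p`-regular element acting trivially on `D ⧸ D'` centralizes `D`.
-/

set_option autoImplicit false

namespace Cfsg.Agent.Helper29.QuotDerived

open Cfsg Cfsg.Agent.Helper24 Cfsg.Agent.Helper5 Cfsg.Agent.Helper5.Loc Cfsg.Agent.Helper5.CC

section Local

variable {G : Type*} [Group G] [Fintype G] {M : Ideal AlgInt} {p : ℕ} [hp : Fact p.Prime]

variable (P : Subgroup G) [hPn : P.Normal]

/-- The class indicator of a `p`-regular element centralizing the normal `p`-subgroup `P` pushes
forward to the class indicator of its image. -/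
theorem push_classIndicator_of_mem (hP : IsPGroup p P) (g : G) (hg : ¬ p ∣ orderOf g)
    (hgC : g ∈ Subgroup.centralizer (P : Set G)) :
    push P (classIndicator g) = classIndicator (g : G ⧸ P) := by
  classical
  have hCn : (Subgroup.centralizer (P : Set G)).Normal := Subgroup.normal_centralizer
  have hsing : ∀ z, p ∣ orderOf z → classIndicator g z = 0 := by
    intro z hz
    apply classIndicator_of_not_isConj
    intro hc
    obtain ⟨c, hc⟩ := isConj_iff.mp hc
    apply hg
    have : orderOf (c * g * c⁻¹) = orderOf g :=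
      orderOf_injective (MulAut.conj c).toMonoidHom (MulAut.conj c).injective g
    rw [← this, hc]
    exact hz
  funext q
  by_cases hq : IsConj (g : G ⧸ P) q
  · rw [classIndicator_of_isConj hq]
    obtain ⟨x, hx⟩ := isConj_iff.mp hq
    obtain ⟨y, rfl⟩ := QuotientGroup.mk_surjective x
    have hg' : ¬ p ∣ orderOf (y * g * y⁻¹) := by
      have : orderOf (y * g * y⁻¹) = orderOf g :=
        orderOf_injective (MulAut.conj y).toMonoidHom (MulAut.conj y).injective g
      rw [this]; exact hg
    have hq' : q = ((y * g * y⁻¹ : G) : G ⧸ P) := by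
      rw [← hx, QuotientGroup.mk_mul, QuotientGroup.mk_mul, QuotientGroup.mk_inv]
    rw [hq', push_eq_of_regular P hP hsing _ hg' (hCn.conj_mem g hgC y)]
    exact classIndicator_of_isConj (isConj_iff.mpr ⟨y, rfl⟩)
  · rw [classIndicator_of_not_isConj hq, push_apply]
    apply Finset.sum_eq_zero
    intro t _
    by_cases htq : (t : G ⧸ P) = q
    · rw [if_pos htq]
      apply classIndicator_of_not_isConj
      intro hc
      apply hq
      obtain ⟨c, hc⟩ := isConj_iff.mp hc
      rw [← htq, ← hc]
      exact isConj_iff.mpr ⟨(c : G ⧸ P), by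
        rw [QuotientGroup.mk_mul, QuotientGroup.mk_mul, QuotientGroup.mk_inv]⟩
    · rw [if_neg htq]

/-- Central characters of an inflated character at a `p`-regular element centralizing `P`. -/
theorem centralChar_infl_of_mem [Fintype (G ⧸ P)] (hP : IsPGroup p P)
    (χ : IrrCharacter (G ⧸ P)) (g : G) (hg : ¬ p ∣ orderOf g)
    (hgC : g ∈ Subgroup.centralizer (P : Set G)) :
    centralChar (infl P χ : G → ℂ) g = centralChar (χ : G ⧸ P → ℂ) (g : G ⧸ P) := by
  rw [← act_classIndicator, ← act_classIndicator, ← push_classIndicator_of_mem P hP g hg hgC,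
    act_push]

/-- **Blocks are determined by the central characters on the `p`-regular elements of the
centralizer of a normal `p`-subgroup.** -/
theorem sameBlock_of_support [Fintype (IrrCharacter G)]
    (hM : IsPModular p M) (hP : IsPGroup p P) (χ ψ : IrrCharacter G)
    (h : ∀ g : G, ¬ p ∣ orderOf g → g ∈ Subgroup.centralizer (P : Set G) →
      MemLocalIdeal M (centralChar (χ : G → ℂ) g - centralChar (ψ : G → ℂ) g)) :
    SameBlock M (χ : G → ℂ) (ψ : G → ℂ) := by
  classical
  have hMp := isPrime_of_isPModular hM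
  set B := blockOf M (χ : G → ℂ) with hBdef
  have hB : IsPBlock M B := isPBlock_blockOf χ
  have h1 := act_sub_act_li_of_support hMp (isClassFunction_blockCoeff B)
    (fun t => osima hMp B hB t) (χ := χ) (ψ := ψ) (by
      intro g hg
      apply h g
      · intro hdvd
        exact hg (blockCoeff_eq_zero_of_singular hM hB g hdvd)
      · by_contra hgC
        exact hg (Cfsg.Agent.Helper23.NS.blockCoeff_eq_zero_of_not_mem_centralizer hM P hP B hB g
          hgC))
  rw [act_blockCoeff, act_blockCoeff, if_pos (mem_blockOf_self hMp χ)] at h1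
  by_contra hcon
  have hψ : ψ ∉ B := hcon
  rw [if_neg hψ, sub_zero] at h1
  exact not_memLocalIdeal_one hMp h1

end Local

section Burnside

variable {G : Type*} [Group G] [Finite G] {p : ℕ} [hp : Fact p.Prime]

/-- The derived subgroup of a `p`-subgroup lies in (the image of) its Frattini subgroup. -/
theorem commutator_le_map_frattini (D : Subgroup G) (hD : IsPGroup p D) :
    ⁅D, D⁆ ≤ (frattini D).map D.subtype := by
  have : Group.IsNilpotent D := hD.isNilpotent
  have h := Cfsg.Agent.Helper21.FrattiniLib.commutator_le_frattini_of_nilpotent (G := D)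
  rw [← Subgroup.map_subtype_commutator]
  exact Subgroup.map_mono h

/-- **Burnside.** A `p`-regular element acting trivially on `D ⧸ D'`, `D` a normal `p`-subgroup,
centralizes `D`. -/
theorem mem_centralizer_of_regular (D : Subgroup G) [hDn : D.Normal] (hD : IsPGroup p D) (g : G)
    (hg : ¬ p ∣ orderOf g)
    (hq : (g : G ⧸ ⁅D, D⁆) ∈
      Subgroup.centralizer ((D.map (QuotientGroup.mk' ⁅D, D⁆) : Subgroup (G ⧸ ⁅D, D⁆)) : Set _)) :
    g ∈ Subgroup.centralizer (D : Set G) := by
  have hle := Cfsg.Agent.Lead.centralizes_of_trivial_on_frattini_quotient (Subgroup.zpowers g) D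
    (by rw [Subgroup.normalizer_eq_top]; exact le_top)
    (by
      rw [Nat.card_zpowers]
      obtain ⟨n, hn⟩ := IsPGroup.iff_card.mp (hD.to_subgroup (frattini D))
      rw [hn]
      exact Nat.Coprime.pow_right n ((Nat.Prime.coprime_iff_not_dvd hp.out).mpr hg).symm)
    (by
      intro a ha k hk
      apply commutator_le_map_frattini D hD
      have haq : (a : G ⧸ ⁅D, D⁆) ∈ Subgroup.centralizer
          ((D.map (QuotientGroup.mk' ⁅D, D⁆) : Subgroup (G ⧸ ⁅D, D⁆)) : Set _) := by
        obtain ⟨i, rfl⟩ := Subgroup.mem_zpowers_iff.mp ha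
        rw [QuotientGroup.mk_zpow]
        exact Subgroup.zpow_mem _ hq i
      have hkq : (k : G ⧸ ⁅D, D⁆) ∈
          ((D.map (QuotientGroup.mk' ⁅D, D⁆) : Subgroup (G ⧸ ⁅D, D⁆)) : Set _) :=
        Subgroup.mem_map_of_mem _ hk
      have hcomm := (Subgroup.mem_centralizer_iff.mp haq) _ hkq
      rw [← QuotientGroup.eq_one_iff, QuotientGroup.mk_mul, QuotientGroup.mk_mul,
        QuotientGroup.mk_mul, QuotientGroup.mk_inv, QuotientGroup.mk_inv, ← hcomm]
      group)
  exact hle (Subgroup.mem_zpowers g)

end Burnside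


section Main

/-- **Blocks of `G` and of `G ⧸ D'`.** -/
theorem blocks_quot_derived {G : Type*} [Group G] [Finite G] (p : ℕ) [Fact p.Prime]
    (M : Ideal Cfsg.AlgInt) (hM : Cfsg.IsPModular p M) (D : Subgroup G) [D.Normal]
    (hD : IsPGroup p D) :
    (∀ χ ψ : Cfsg.IrrCharacter (G ⧸ ⁅D, D⁆),
      Cfsg.SameBlock M (χ : G ⧸ ⁅D, D⁆ → ℂ) (ψ : G ⧸ ⁅D, D⁆ → ℂ) ↔
        Cfsg.SameBlock M ((χ : G ⧸ ⁅D, D⁆ → ℂ) ∘ QuotientGroup.mk)
          ((ψ : G ⧸ ⁅D, D⁆ → ℂ) ∘ QuotientGroup.mk)) ∧
      ∀ B : Set (Cfsg.IrrCharacter G), Cfsg.IsPBlock M B →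
        ∃ χ : Cfsg.IrrCharacter (G ⧸ ⁅D, D⁆), ∃ θ ∈ B,
          (θ : G → ℂ) = (χ : G ⧸ ⁅D, D⁆ → ℂ) ∘ QuotientGroup.mk := by
  classical
  have : Fintype G := Fintype.ofFinite G
  have : Fintype (G ⧸ ⁅D, D⁆) := Fintype.ofFinite _
  have : Fintype (IrrCharacter G) := Fintype.ofFinite _
  have : Fintype (IrrCharacter (G ⧸ ⁅D, D⁆)) := Fintype.ofFinite _
  have hMp := isPrime_of_isPModular hM
  set Q : Subgroup G := ⁅D, D⁆ with hQdef
  have hQD : Q ≤ D := Subgroup.commutator_le_right D D
  have hQ : IsPGroup p Q := hD.to_le hQD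
  have hcent : Subgroup.centralizer (D : Set G) ≤ Subgroup.centralizer (Q : Set G) :=
    Subgroup.centralizer_le hQD
  -- the image of D in the quotient
  set Dbar : Subgroup (G ⧸ Q) := D.map (QuotientGroup.mk' Q) with hDbar
  have hDbarN : Dbar.Normal :=
    Subgroup.Normal.map inferInstance _ (QuotientGroup.mk'_surjective Q)
  have hDbarP : IsPGroup p Dbar := hD.map _
  constructor
  · intro χ ψ
    show SameBlock M (χ : G ⧸ Q → ℂ) (ψ : G ⧸ Q → ℂ) ↔
      SameBlock M (infl Q χ : G → ℂ) (infl Q ψ : G → ℂ)
    constructor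
    · intro h
      apply sameBlock_of_support D hM hD
      intro g hg hgD
      rw [centralChar_infl_of_mem Q hQ χ g hg (hcent hgD),
        centralChar_infl_of_mem Q hQ ψ g hg (hcent hgD)]
      exact h _
    · intro h
      apply sameBlock_of_support Dbar hM hDbarP
      intro q hq hqD
      obtain ⟨g, hg, rfl⟩ := exists_regular_lift Q q hq
      have hgD : g ∈ Subgroup.centralizer (D : Set G) :=
        mem_centralizer_of_regular D hD g hg hqD
      rw [← centralChar_infl_of_mem Q hQ χ g hg (hcent hgD),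
        ← centralChar_infl_of_mem Q hQ ψ g hg (hcent hgD)]
      exact h g
  · intro B hB
    obtain ⟨χ₀, hχ₀⟩ := IsPBlock.nonempty hMp hB
    have hact : act (blockCoeff B) χ₀ = 1 := by
      rw [act_blockCoeff, if_pos hχ₀]
    obtain ⟨g, hg⟩ : ∃ g : G, blockCoeff B g ≠ 0 := by
      by_contra hcon
      push Not at hcon
      have : act (blockCoeff B) χ₀ = 0 := by
        unfold act
        rw [Finset.sum_eq_zero (fun t _ => by rw [hcon t, zero_mul]), zero_div]
      rw [this] at hact
      exact zero_ne_one hact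
    have hgreg : ¬ p ∣ orderOf g := fun hdvd => hg (blockCoeff_eq_zero_of_singular hM hB g hdvd)
    have hgD : g ∈ Subgroup.centralizer (D : Set G) := by
      by_contra hgC
      exact hg (Cfsg.Agent.Helper23.NS.blockCoeff_eq_zero_of_not_mem_centralizer hM D hD B hB g hgC)
    have hpush : push Q (blockCoeff B) (g : G ⧸ Q) = blockCoeff B g :=
      push_eq_of_regular Q hQ (fun z hz => blockCoeff_eq_zero_of_singular hM hB z hz) g hgreg
        (hcent hgD)
    obtain ⟨χ, hχ⟩ : ∃ χ : IrrCharacter (G ⧸ Q), act (push Q (blockCoeff B)) χ ≠ 0 := by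
      by_contra hcon
      push Not at hcon
      have h1 := coeff_act (isClassFunction_push Q (isClassFunction_blockCoeff B)) (g : G ⧸ Q)
      rw [Finset.sum_eq_zero (fun χ _ => by rw [hcon χ, zero_mul]), mul_zero] at h1
      rw [hpush] at h1
      exact hg h1.symm
    rw [act_push, act_blockCoeff] at hχ
    have hmem : infl Q χ ∈ B := by
      by_contra hne
      rw [if_neg hne] at hχ
      exact hχ rfl
    exact ⟨χ, infl Q χ, hmem, rfl⟩

end Main

end Cfsg.Agent.Helper29.QuotDerived
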