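import Mathlib
import Cfsg.Agent.Helper24.OddIndexReal
import Cfsg.Agent.Helper24.GlaubP
import Cfsg.Agent.Helper24.GlaubRestrict

/-!
# Real characters and the Sylow normalizer, character bijection (part A):
real characters over a normal subgroup of odd index, in ambient form
-/

set_option autoImplicit false
set_option linter.style.haveILetI false

namespace Cfsg.Agent.Helper29.RealBij

open Cfsg Cfsg.Agent.Helper24

universe u

section TypeLevel

variable {G : Type u} [Group G] [Fintype G] (N : Subgroup G) [hN : N.Normal] [Fintype N]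

/-- A real irreducible character of `G` contains a real irreducible character of a normal
subgroup of odd index with multiplicity one. -/
theorem classInner_eq_one_of_real (hodd : Odd N.index) (φ : IrrCharacter N)
    (χ : IrrCharacter G) (hχ : ∀ g : G, ((χ : G → ℂ) g).im = 0)
    (hc : classInner (fun n : N => (χ : G → ℂ) n) (φ : N → ℂ) ≠ 0) :
    classInner (fun n : N => (χ : G → ℂ) n) (φ : N → ℂ) = 1 := by
  classical
  haveI : Fintype (IrrCharacter G) := Fintype.ofFinite _
  haveI : Fintype (IrrCharacter N) := Fintype.ofFinite _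
  have hφ : ∀ k : N, ((φ : N → ℂ) k).im = 0 := real_of_constituent_of_real N hodd χ hχ φ hc
  have hsum := fsInd_indFun_eq_sum N hodd φ
  rw [Finset.sum_eq_single χ] at hsum
  rotate_left
  · intro χ' _ hne
    by_cases h3 : fsInd (χ' : G → ℂ) = 0
    · rw [h3, mul_zero]
    · by_cases h4 : classInner (fun n : N => (χ' : G → ℂ) n) (φ : N → ℂ) = 0
      · rw [h4, map_zero, zero_mul]
      · exact absurd (unique_real_over_real N hodd φ χ' χ ((fsInd_irr χ').2 h3) hχ h4 hc) hne
  · intro h
    exact absurd (Finset.mem_univ _) h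
  have hres : IsCharacter N (fun n : N => (χ : G → ℂ) n) :=
    Helper8.isCharacter_restrict N (IsIrrCharacter.isCharacter χ.2)
  obtain ⟨n, hn⟩ := IsCharacter.classInner_irr_nat hres φ
  rw [hn] at hc ⊢
  rw [hn, Complex.conj_natCast] at hsum
  have hn0 : n ≠ 0 := by
    intro h0
    apply hc
    rw [h0, Nat.cast_zero]
  have h1 := fsInd_ne_zero_of_real φ hφ
  have h2 := fsInd_ne_zero_of_real χ hχ
  have key : ∀ a b : ℤ, (a = 1 ∨ a = -1) → (b = 1 ∨ b = -1) → a = (n : ℤ) * b → n = 1 := by
    intro a b ha hb hab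
    rcases ha with rfl | rfl <;> rcases hb with rfl | rfl <;> omega
  have hn1 : n = 1 := by
    rcases (fsInd_irr φ).1 with h | h | h
    · exact absurd h h1
    · rcases (fsInd_irr χ).1 with h' | h' | h'
      · exact absurd h' h2
      · rw [h, h'] at hsum
        apply key 1 1 (Or.inl rfl) (Or.inl rfl)
        have : ((1 : ℤ) : ℂ) = (((n : ℤ) * 1 : ℤ) : ℂ) := by push_cast; exact hsum
        exact_mod_cast this
      · rw [h, h'] at hsum
        apply key 1 (-1) (Or.inl rfl) (Or.inr rfl)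
        have : ((1 : ℤ) : ℂ) = (((n : ℤ) * (-1) : ℤ) : ℂ) := by push_cast; exact hsum
        exact_mod_cast this
    · rcases (fsInd_irr χ).1 with h' | h' | h'
      · exact absurd h' h2
      · rw [h, h'] at hsum
        apply key (-1) 1 (Or.inr rfl) (Or.inl rfl)
        have : ((-1 : ℤ) : ℂ) = (((n : ℤ) * 1 : ℤ) : ℂ) := by push_cast; exact hsum
        exact_mod_cast this
      · rw [h, h'] at hsum
        apply key (-1) (-1) (Or.inr rfl) (Or.inr rfl)
        have : ((-1 : ℤ) : ℂ) = (((n : ℤ) * (-1) : ℤ) : ℂ) := by push_cast; exact hsum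
        exact_mod_cast this
  rw [hn1, Nat.cast_one]

end TypeLevel

section Ambient

variable {Γ : Type u} [Group Γ] [Finite Γ]

variable (A B : Subgroup Γ) (hAB : A ≤ B) (hBA : B ≤ Subgroup.normalizer (A : Set Γ))
  (hodd : Odd (A.relIndex B))

include hBA hodd in
/-- The odd-index real correspondence in ambient form. -/
theorem real_pair_amb :
    (∀ (χ : IrrCharacter B) (θ : IrrCharacter A), (∀ b : B, ((χ : B → ℂ) b).im = 0) →
      mult (Subgroup.inclusion hAB) χ θ ≠ 0 →
      (∀ a : A, ((θ : A → ℂ) a).im = 0) ∧ mult (Subgroup.inclusion hAB) χ θ = 1) ∧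
    (∀ θ : IrrCharacter A, (∀ a : A, ((θ : A → ℂ) a).im = 0) →
      ∃ χ : IrrCharacter B, (∀ b : B, ((χ : B → ℂ) b).im = 0) ∧
        mult (Subgroup.inclusion hAB) χ θ ≠ 0) ∧
    (∀ (χ₁ χ₂ : IrrCharacter B) (θ : IrrCharacter A), (∀ b : B, ((χ₁ : B → ℂ) b).im = 0) →
      (∀ b : B, ((χ₂ : B → ℂ) b).im = 0) → mult (Subgroup.inclusion hAB) χ₁ θ ≠ 0 →
      mult (Subgroup.inclusion hAB) χ₂ θ ≠ 0 → χ₁ = χ₂) := by
  classical
  haveI : Fintype B := Fintype.ofFinite _
  haveI : Fintype A := Fintype.ofFinite _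
  haveI hn : (A.subgroupOf B).Normal := (Subgroup.normal_subgroupOf_iff_le_normalizer hAB).mpr hBA
  haveI : Fintype (A.subgroupOf B) := Fintype.ofFinite _
  have hodd' : Odd (A.subgroupOf B).index := hodd
  obtain ⟨eA, heA⟩ : ∃ eA : ↥(A.subgroupOf B) ≃* ↥A, eA = Subgroup.subgroupOfEquivOfLe hAB :=
    ⟨_, rfl⟩
  have hχ : ∀ χ : IrrCharacter B, pullIrr (MulEquiv.refl B) χ = χ := fun χ => Subtype.ext rfl
  have key : ∀ (χ : IrrCharacter B) (η : IrrCharacter A),
      classInner (fun n : A.subgroupOf B => (χ : B → ℂ) n)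
        (pullIrr eA η : A.subgroupOf B → ℂ) = (mult (Subgroup.inclusion hAB) χ η : ℂ) := by
    intro χ η
    have h1 := mult_spec (A.subgroupOf B).subtype χ (pullIrr eA η)
    simp only [Subgroup.subtype_apply] at h1
    rw [h1]
    have h2 := mult_pullIrr eA (MulEquiv.refl B) (A.subgroupOf B).subtype
      (Subgroup.inclusion hAB) (fun c => by rw [heA]; rfl) χ η
    rw [hχ] at h2
    rw [h2]
  have hne : ∀ (χ : IrrCharacter B) (η : IrrCharacter A),
      mult (Subgroup.inclusion hAB) χ η ≠ 0 →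
      classInner (fun n : A.subgroupOf B => (χ : B → ℂ) n)
        (pullIrr eA η : A.subgroupOf B → ℂ) ≠ 0 := by
    intro χ η h
    rw [key]
    exact_mod_cast h
  have hreal : ∀ η : IrrCharacter A, (∀ k : A.subgroupOf B,
      ((pullIrr eA η : A.subgroupOf B → ℂ) k).im = 0) ↔ (∀ a : A, ((η : A → ℂ) a).im = 0) := by
    intro η
    constructor
    · intro h a
      have := h (eA.symm a)
      rwa [pullIrr_apply, MulEquiv.apply_symm_apply] at this
    · intro h k
      rw [pullIrr_apply]
      exact h _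
  refine ⟨?_, ?_, ?_⟩
  · intro χ θ hχr hm
    have h1 := real_of_constituent_of_real (A.subgroupOf B) hodd' χ hχr (pullIrr eA θ) (hne χ θ hm)
    refine ⟨(hreal θ).mp h1, ?_⟩
    have h2 := classInner_eq_one_of_real (A.subgroupOf B) hodd' (pullIrr eA θ) χ hχr (hne χ θ hm)
    rw [key] at h2
    exact_mod_cast h2
  · intro θ hθ
    obtain ⟨χ, h1, h2⟩ := exists_real_over_real (A.subgroupOf B) hodd' (pullIrr eA θ)
      ((hreal θ).mpr hθ)
    refine ⟨χ, (fsInd_irr χ).2 h1, ?_⟩
    rw [key] at h2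
    exact_mod_cast h2
  · intro χ₁ χ₂ θ h1 h2 hm1 hm2
    exact unique_real_over_real (A.subgroupOf B) hodd' (pullIrr eA θ) χ₁ χ₂ h1 h2 (hne χ₁ θ hm1)
      (hne χ₂ θ hm2)

end Ambient

end Cfsg.Agent.Helper29.RealBij
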