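import Mathlib
import Cfsg.Agent.Helper24.RealGlauberman
import Cfsg.Agent.Helper24.RealOrbits
import Cfsg.Agent.Helper24.OddIndexReal
import Cfsg.Agent.Helper29.PPrimeKerA
import Cfsg.Agent.Helper1.SylowBasic

/-!
# Real classes and the Sylow normalizer (Isaacs–Navarro, Theorem B): counting lemmas, part A

* Burnside fusion for a Sylow subgroup acting on an orbit;
* orbits of `G` on the real irreducible characters of a normal subgroup `K` of odd index versus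
  orbits of `N_G(P)` on the `P`-invariant ones;
* equivariance of the Glauberman correspondence under `N_G(P)`.
-/

set_option autoImplicit false
set_option linter.style.haveILetI false

namespace Cfsg.Agent.Helper29.RealNorm

open Cfsg Cfsg.Agent.Helper24

universe u

section Fusion

variable {Γ : Type u} [Group Γ] [Finite Γ] {p : ℕ} [hp : Fact p.Prime]

/-- Burnside-type fusion: two points of an orbit fixed by a Sylow subgroup `P` are conjugate
under the normalizer of `P`. -/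
theorem exists_normalizer_smul {Ω : Type*} [MulAction Γ Ω] (P : Sylow p Γ) (ω : Ω) (g : Γ)
    (h1 : ∀ x ∈ P, x • ω = ω) (h2 : ∀ x ∈ P, x • (g • ω) = g • ω) :
    ∃ m ∈ Subgroup.normalizer ((P : Subgroup Γ) : Set Γ), m • ω = g • ω := by
  have hP : (P : Subgroup Γ) ≤ MulAction.stabilizer Γ ω := fun x hx => h1 x hx
  have hQ : ((g⁻¹ • P : Sylow p Γ) : Subgroup Γ) ≤ MulAction.stabilizer Γ ω := by
    intro x hx
    have hx' : g⁻¹⁻¹ * x * g⁻¹ ∈ P := (Helper1.mem_sylow_smul_iff P g⁻¹ x).mp hx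
    rw [inv_inv] at hx'
    have h3 := h2 _ hx'
    rw [MulAction.mem_stabilizer_iff]
    have h4 : g⁻¹ • ((g * x * g⁻¹) • g • ω) = g⁻¹ • g • ω := by rw [h3]
    rw [inv_smul_smul, ← mul_smul, ← mul_smul] at h4
    have h5 : g⁻¹ * (g * x * g⁻¹) * g = x := by group
    rw [h5] at h4
    exact h4
  obtain ⟨c, hc, hcP⟩ := Helper1.sylow_conj_in_subgroup P (g⁻¹ • P) _ hP hQ
  refine ⟨g * c, ?_, ?_⟩
  · have h3 : (g * c) • P = P := by rw [mul_smul, hcP, smul_inv_smul]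
    exact Sylow.smul_eq_iff_mem_normalizer.mp h3
  · rw [mul_smul]
    congr 1

end Fusion

section E2

variable {Γ : Type u} [Group Γ] [Finite Γ] {p : ℕ} [hp : Fact p.Prime]
variable (K : Subgroup Γ) [hK : K.Normal]

omit [Finite Γ] in
theorem smul_eq_of_rel (θ η : IrrCharacter K) (g : Γ)
    (h : ∀ k k' : K, (k' : Γ) = g * (k : Γ) * g⁻¹ → (η : K → ℂ) k' = (θ : K → ℂ) k) :
    (irrConjAction K).smul g θ = η := by
  apply Subtype.ext
  funext k'
  show (θ : K → ℂ) (MulAut.conjNormal g⁻¹ k') = (η : K → ℂ) k'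
  refine (h (MulAut.conjNormal g⁻¹ k') k' ?_).symm
  rw [MulAut.conjNormal_apply]
  group

omit [Finite Γ] in
theorem rel_of_smul_eq (θ η : IrrCharacter K) (g : Γ) (h : (irrConjAction K).smul g θ = η) :
    ∀ k k' : K, (k' : Γ) = g * (k : Γ) * g⁻¹ → (η : K → ℂ) k' = (θ : K → ℂ) k := by
  intro k k' hk
  rw [← h]
  show (θ : K → ℂ) (MulAut.conjNormal g⁻¹ k') = (θ : K → ℂ) k
  have hkk : MulAut.conjNormal g⁻¹ k' = k := by
    apply Subtype.ext
    rw [MulAut.conjNormal_apply, hk]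
    group
  rw [hkk]

omit [Finite Γ] in
theorem invAt_iff_smul (θ : IrrCharacter K) (x : Γ) :
    InvAt K (θ : K → ℂ) x ↔ (irrConjAction K).smul x θ = θ := by
  constructor
  · intro h
    exact smul_eq_of_rel K θ θ x h
  · intro h
    exact rel_of_smul_eq K θ θ x h

/-- `G`-orbits on the real irreducible characters of `K`, all of size prime to `p`, correspond
to `N_G(P)`-orbits on the `P`-invariant ones. -/
theorem card_orbits_eq_card_normalizer_orbits (hodd : Odd K.index) (P : Sylow p Γ)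
    (hreal : ∀ χ : IrrCharacter Γ, (∀ g : Γ, ((χ : Γ → ℂ) g).im = 0) → ¬ p ∣ irrDeg χ) :
    Nat.card (Quot (fun θ η : {θ : IrrCharacter K // ∀ k : K, ((θ : K → ℂ) k).im = 0} =>
      ∃ g : Γ, ∀ k k' : K, (k' : Γ) = g * (k : Γ) * g⁻¹ →
        (η.1 : K → ℂ) k' = (θ.1 : K → ℂ) k)) =
    Nat.card (Quot (fun θ η : {θ : IrrCharacter K // (∀ k : K, ((θ : K → ℂ) k).im = 0) ∧
        ∀ x ∈ (P : Subgroup Γ), InvAt K (θ : K → ℂ) x} =>
      ∃ g ∈ Subgroup.normalizer ((P : Subgroup Γ) : Set Γ),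
        ∀ k k' : K, (k' : Γ) = g * (k : Γ) * g⁻¹ → (η.1 : K → ℂ) k' = (θ.1 : K → ℂ) k)) := by
  classical
  haveI : Fintype Γ := Fintype.ofFinite Γ
  haveI : Fintype K := Fintype.ofFinite K
  letI A := irrConjAction (G := Γ) K
  symm
  -- extraction of the relation from equality in the quotient
  have hextract : ∀ θ η : {θ : IrrCharacter K // ∀ k : K, ((θ : K → ℂ) k).im = 0},
      Quot.mk (fun θ η : {θ : IrrCharacter K // ∀ k : K, ((θ : K → ℂ) k).im = 0} =>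
      ∃ g : Γ, ∀ k k' : K, (k' : Γ) = g * (k : Γ) * g⁻¹ →
        (η.1 : K → ℂ) k' = (θ.1 : K → ℂ) k) θ = Quot.mk _ η → ∃ g : Γ, g • θ.1 = η.1 := by
    intro θ η h
    rw [Quot.eq] at h
    induction h with
    | rel a b hab =>
      obtain ⟨g, hg⟩ := hab
      exact ⟨g, smul_eq_of_rel K a.1 b.1 g hg⟩
    | refl a => exact ⟨1, one_smul _ _⟩
    | symm a b _ ih =>
      obtain ⟨g, hg⟩ := ih
      exact ⟨g⁻¹, by rw [← hg, inv_smul_smul]⟩
    | trans a b c _ _ ih1 ih2 =>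
      obtain ⟨g, hg⟩ := ih1
      obtain ⟨g', hg'⟩ := ih2
      exact ⟨g' * g, by rw [mul_smul, hg, hg']⟩
  let F : Quot (fun θ η : {θ : IrrCharacter K // (∀ k : K, ((θ : K → ℂ) k).im = 0) ∧
        ∀ x ∈ (P : Subgroup Γ), InvAt K (θ : K → ℂ) x} =>
      ∃ g ∈ Subgroup.normalizer ((P : Subgroup Γ) : Set Γ),
        ∀ k k' : K, (k' : Γ) = g * (k : Γ) * g⁻¹ → (η.1 : K → ℂ) k' = (θ.1 : K → ℂ) k) →
      Quot (fun θ η : {θ : IrrCharacter K // ∀ k : K, ((θ : K → ℂ) k).im = 0} =>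
      ∃ g : Γ, ∀ k k' : K, (k' : Γ) = g * (k : Γ) * g⁻¹ →
        (η.1 : K → ℂ) k' = (θ.1 : K → ℂ) k) :=
    Quot.map (fun θ => ⟨θ.1, θ.2.1⟩) (by
      rintro θ η ⟨g, -, hg⟩
      exact ⟨g, hg⟩)
  refine Nat.card_congr (Equiv.ofBijective F ⟨?_, ?_⟩)
  · rintro ⟨θ⟩ ⟨η⟩ h
    obtain ⟨g, hg⟩ := hextract _ _ h
    have hg' : g • θ.1 = η.1 := hg
    have h1 : ∀ x ∈ P, x • θ.1 = θ.1 := fun x hx => (invAt_iff_smul K θ.1 x).mp (θ.2.2 x hx)
    have h2 : ∀ x ∈ P, x • (g • θ.1) = g • θ.1 := by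
      intro x hx
      rw [hg']
      exact (invAt_iff_smul K η.1 x).mp (η.2.2 x hx)
    obtain ⟨m, hm, hmθ⟩ := exists_normalizer_smul P θ.1 g h1 h2
    apply Quot.sound
    refine ⟨m, hm, rel_of_smul_eq K θ.1 η.1 m ?_⟩
    show m • θ.1 = η.1
    rw [hmθ, hg']
  · rintro ⟨θ⟩
    obtain ⟨χ, hχ1, hχ2⟩ := exists_real_over_real K hodd θ.1 θ.2
    have hχreal := (fsInd_irr χ).2 hχ1
    have hχp := hreal χ hχreal
    obtain ⟨η, hη, hinv⟩ := PPK.exists_invariant_constituent (P : Subgroup Γ) P.2 K χ hχp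
    obtain ⟨g, hg⟩ := exists_smul_eq_of_constituents K χ θ.1 η hχ2 hη
    have hηreal : ∀ k : K, ((η : K → ℂ) k).im = 0 := by
      intro k
      rw [← hg]
      exact θ.2 _
    refine ⟨Quot.mk _ ⟨η, hηreal, hinv⟩, ?_⟩
    symm
    apply Quot.sound
    exact ⟨g, rel_of_smul_eq K θ.1 η g hg⟩

end E2

section E3

variable {Γ : Type u} [Group Γ] [Finite Γ] {p : ℕ} [hp : Fact p.Prime]

omit [Finite Γ] hp in
theorem rel_iff_pullIrr (H : Subgroup Γ) (g : Γ) (hg : g ∈ Subgroup.normalizer (H : Set Γ))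
    (θ η : IrrCharacter H) :
    (∀ k k' : H, (k' : Γ) = g * (k : Γ) * g⁻¹ → (η : H → ℂ) k' = (θ : H → ℂ) k) ↔
      pullIrr (conjE H g hg) η = θ := by
  constructor
  · intro h
    apply Subtype.ext
    funext k
    rw [pullIrr_apply]
    exact h k _ rfl
  · intro h k k' hk
    rw [← h, pullIrr_apply]
    have e : k' = conjE H g hg k := by
      apply Subtype.ext
      rw [hk]
      rfl
    rw [e]

omit [Finite Γ] hp in
theorem normalizer_le_normalizer_inf_centralizer (K P : Subgroup Γ) [hK : K.Normal] :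
    Subgroup.normalizer (P : Set Γ) ≤
      Subgroup.normalizer ((K ⊓ Subgroup.centralizer (P : Set Γ) : Subgroup Γ) : Set Γ) := by
  intro g hg
  have key : ∀ g : Γ, g ∈ Subgroup.normalizer (P : Set Γ) → ∀ c : Γ,
      c ∈ K ⊓ Subgroup.centralizer (P : Set Γ) →
      g * c * g⁻¹ ∈ K ⊓ Subgroup.centralizer (P : Set Γ) := by
    intro g hg c hc
    refine ⟨hK.conj_mem c hc.1 g, ?_⟩
    show g * c * g⁻¹ ∈ Subgroup.centralizer (P : Set Γ)
    have hc2 : c ∈ Subgroup.centralizer (P : Set Γ) := hc.2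
    rw [Subgroup.mem_centralizer_iff] at hc2 ⊢
    intro x hx
    have hx' : g⁻¹ * x * g ∈ P := by
      have := (Subgroup.mem_normalizer_iff.mp (Subgroup.inv_mem _ hg) x).mp hx
      simpa using this
    have h1 := hc2 _ hx'
    calc x * (g * c * g⁻¹) = g * ((g⁻¹ * x * g) * c) * g⁻¹ := by group
      _ = g * (c * (g⁻¹ * x * g)) * g⁻¹ := by rw [h1]
      _ = g * c * g⁻¹ * x := by group
  rw [Subgroup.mem_normalizer_iff]
  intro c
  constructor
  · exact key g hg c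
  · intro h
    have := key g⁻¹ (Subgroup.inv_mem _ hg) _ h
    have e : g⁻¹ * (g * c * g⁻¹) * g⁻¹⁻¹ = c := by group
    rw [e] at this
    exact this

omit [Finite Γ] hp in
theorem invAt_pullIrr_conjE (K P : Subgroup Γ) (g : Γ)
    (hgK : g ∈ Subgroup.normalizer (K : Set Γ)) (hgP : g ∈ Subgroup.normalizer (P : Set Γ))
    (η : IrrCharacter K) (hη : ∀ x ∈ P, InvAt K (η : K → ℂ) x) :
    ∀ x ∈ P, InvAt K (pullIrr (conjE K g hgK) η : K → ℂ) x := by
  intro x hx k k' hk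
  rw [pullIrr_apply, pullIrr_apply]
  have hx' : g * x * g⁻¹ ∈ P := (Subgroup.mem_normalizer_iff.mp hgP x).mp hx
  refine hη _ hx' _ _ ?_
  rw [conjE_apply, conjE_apply, hk]
  group

/-- The Glauberman correspondence induces a bijection between the `N_G(P)`-orbits of real
`P`-invariant irreducible characters of `K` and the `N_G(P)`-orbits of real irreducible
characters of `C_K(P)`. -/
theorem card_normalizer_orbits_eq (K : Subgroup Γ) [hK : K.Normal] (P : Subgroup Γ)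
    (hP : IsPGroup p P) (hKp : ¬ p ∣ Nat.card K) :
    Nat.card (Quot (fun θ η : {θ : IrrCharacter K // (∀ k : K, ((θ : K → ℂ) k).im = 0) ∧
        ∀ x ∈ P, InvAt K (θ : K → ℂ) x} =>
      ∃ g ∈ Subgroup.normalizer (P : Set Γ),
        ∀ k k' : K, (k' : Γ) = g * (k : Γ) * g⁻¹ → (η.1 : K → ℂ) k' = (θ.1 : K → ℂ) k)) =
    Nat.card (Quot (fun β γ : {β : IrrCharacter ↥(K ⊓ Subgroup.centralizer (P : Set Γ)) //
        ∀ c, ((β : ↥(K ⊓ Subgroup.centralizer (P : Set Γ)) → ℂ) c).im = 0} =>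
      ∃ g ∈ Subgroup.normalizer (P : Set Γ),
        ∀ c c' : ↥(K ⊓ Subgroup.centralizer (P : Set Γ)), (c' : Γ) = g * (c : Γ) * g⁻¹ →
          (γ.1 : ↥(K ⊓ Subgroup.centralizer (P : Set Γ)) → ℂ) c' =
            (β.1 : ↥(K ⊓ Subgroup.centralizer (P : Set Γ)) → ℂ) c)) := by
  classical
  have hp' := hp.out
  have hPK : P ≤ Subgroup.normalizer (K : Set Γ) := by
    rw [Subgroup.normalizer_eq_top]; exact le_top
  have hcop : (Nat.card K).Coprime (Nat.card P) := by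
    obtain ⟨a, ha⟩ := IsPGroup.iff_card.mp hP
    rw [ha]
    exact Nat.Coprime.pow_right a ((Nat.Prime.coprime_iff_not_dvd hp').mpr hKp).symm
  have hCK : K ⊓ Subgroup.centralizer (P : Set Γ) ≤ K := inf_le_left
  have PC := pcorr_pgroup p hp' _ K P (K ⊓ Subgroup.centralizer (P : Set Γ)) rfl hPK hP hcop rfl hCK
  have hex : ∀ θ : {θ : IrrCharacter K // (∀ k : K, ((θ : K → ℂ) k).im = 0) ∧
      ∀ x ∈ P, InvAt K (θ : K → ℂ) x}, ∃ β : IrrCharacter ↥(K ⊓ Subgroup.centralizer (P : Set Γ)),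
      ¬ p ∣ mult (Subgroup.inclusion hCK) θ.1 β ∧
        ∀ β', ¬ p ∣ mult (Subgroup.inclusion hCK) θ.1 β' → β' = β :=
    fun θ => PC.exU θ.1 θ.2.2
  choose F hF hFuniq using hex
  have hFreal : ∀ θ, ∀ c, ((F θ : ↥(K ⊓ Subgroup.centralizer (P : Set Γ)) → ℂ) c).im = 0 := by
    intro θ
    rw [← conjIrr_eq_iff_real]
    apply hFuniq θ
    have h1 := mult_conjIrr (Subgroup.inclusion hCK) θ.1 (F θ)
    rw [(conjIrr_eq_iff_real θ.1).mpr θ.2.1] at h1
    rw [h1]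
    exact hF θ
  have hbij : Function.Bijective (fun θ : {θ : IrrCharacter K //
      (∀ k : K, ((θ : K → ℂ) k).im = 0) ∧ ∀ x ∈ P, InvAt K (θ : K → ℂ) x} =>
      (⟨F θ, hFreal θ⟩ : {β : IrrCharacter ↥(K ⊓ Subgroup.centralizer (P : Set Γ)) //
        ∀ c, ((β : ↥(K ⊓ Subgroup.centralizer (P : Set Γ)) → ℂ) c).im = 0})) := by
    refine ⟨?_, ?_⟩
    · intro θ θ' h
      have h1 : F θ = F θ' := congrArg Subtype.val h
      apply Subtype.ext
      exact PC.inj θ.1 θ.2.2 θ'.1 θ'.2.2 (F θ) (hF θ) (h1 ▸ hF θ')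
    · rintro ⟨β, hβ⟩
      obtain ⟨χ, hχinv, hχβ⟩ := PC.surj β
      have hχreal : ∀ k : K, ((χ : K → ℂ) k).im = 0 := by
        rw [← conjIrr_eq_iff_real]
        have h1 := mult_conjIrr (Subgroup.inclusion hCK) χ β
        rw [(conjIrr_eq_iff_real β).mpr hβ] at h1
        exact PC.inj (conjIrr χ) (fun x hx => invAt_conjIrr χ x (hχinv x hx)) χ hχinv β
          (by rw [h1]; exact hχβ) hχβ
      refine ⟨⟨χ, hχreal, hχinv⟩, ?_⟩
      apply Subtype.ext
      exact (hFuniq ⟨χ, hχreal, hχinv⟩ β hχβ).symm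
  refine Nat.card_congr (Quot.congr (Equiv.ofBijective _ hbij) ?_)
  intro θ η
  have hNK : ∀ g : Γ, g ∈ Subgroup.normalizer (K : Set Γ) := by
    intro g
    rw [Subgroup.normalizer_eq_top]; exact Subgroup.mem_top g
  have hmult : ∀ (g : Γ) (hg : g ∈ Subgroup.normalizer (P : Set Γ)) (χ : IrrCharacter K)
      (β : IrrCharacter ↥(K ⊓ Subgroup.centralizer (P : Set Γ))),
      mult (Subgroup.inclusion hCK) (pullIrr (conjE K g (hNK g)) χ)
        (pullIrr (conjE _ g (normalizer_le_normalizer_inf_centralizer K P hg)) β) =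
      mult (Subgroup.inclusion hCK) χ β := by
    intro g hg χ β
    exact mult_pullIrr _ _ _ _ (fun c => rfl) χ β
  show (∃ g ∈ Subgroup.normalizer (P : Set Γ),
        ∀ k k' : K, (k' : Γ) = g * (k : Γ) * g⁻¹ → (η.1 : K → ℂ) k' = (θ.1 : K → ℂ) k) ↔
      (∃ g ∈ Subgroup.normalizer (P : Set Γ),
        ∀ c c' : ↥(K ⊓ Subgroup.centralizer (P : Set Γ)), (c' : Γ) = g * (c : Γ) * g⁻¹ →
          (F η : ↥(K ⊓ Subgroup.centralizer (P : Set Γ)) → ℂ) c' =
            (F θ : ↥(K ⊓ Subgroup.centralizer (P : Set Γ)) → ℂ) c)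
  constructor
  · rintro ⟨g, hg, h⟩
    refine ⟨g, hg, ?_⟩
    rw [rel_iff_pullIrr K g (hNK g)] at h
    rw [rel_iff_pullIrr _ g (normalizer_le_normalizer_inf_centralizer K P hg)]
    apply hFuniq θ
    rw [← h, hmult g hg]
    exact hF η
  · rintro ⟨g, hg, h⟩
    refine ⟨g, hg, ?_⟩
    rw [rel_iff_pullIrr _ g (normalizer_le_normalizer_inf_centralizer K P hg)] at h
    rw [rel_iff_pullIrr K g (hNK g)]
    refine PC.inj _ (invAt_pullIrr_conjE K P g (hNK g) hg η.1 η.2.2) θ.1 θ.2.2 (F θ) ?_ (hF θ)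
    rw [← h, hmult g hg]
    exact hF η

end E3

end Cfsg.Agent.Helper29.RealNorm
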