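import Mathlib
import Cfsg.Agent.S1489
import Cfsg.Agent.Helper24.CliffordSurj
import Cfsg.Agent.Helper24.Orthogonality
import Cfsg.Agent.Helper29.RelGlaubA

/-!
# Relative Glauberman correspondence, part C: the Clifford correspondence in terms of
restriction multiplicities
-/

set_option autoImplicit false
set_option linter.style.haveILetI false

namespace Cfsg.Agent.Helper29.RelGlaub

open Cfsg Cfsg.Agent.Helper24

universe u

section TypeLevel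

variable {G : Type u} [Group G] [Fintype G] (H : Subgroup G) [hN : H.Normal] [Fintype H]

/-- Clifford correspondence (type level), phrased with inner products of restrictions. -/
theorem clifford_corr_type (ϑ : IrrCharacter H) (T : Subgroup G) [Fintype T]
    (hT : ∀ g : G, g ∈ T ↔ ∀ n : H, (ϑ : H → ℂ) ⟨g * n * g⁻¹, hN.conj_mem (n : G) n.2 g⟩ =
      (ϑ : H → ℂ) n)
    (hHT : H ≤ T) :
    (∀ χ : IrrCharacter G, classInner (fun n : H => (χ : G → ℂ) n) (ϑ : H → ℂ) ≠ 0 →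
      ∃ ψ : IrrCharacter T,
        classInner (fun n : H => (ψ : T → ℂ) ⟨(n : G), hHT n.2⟩) (ϑ : H → ℂ) ≠ 0 ∧
        classInner (fun t : T => (χ : G → ℂ) t) (ψ : T → ℂ) = 1 ∧
        ∀ ψ' : IrrCharacter T,
          classInner (fun n : H => (ψ' : T → ℂ) ⟨(n : G), hHT n.2⟩) (ϑ : H → ℂ) ≠ 0 →
          classInner (fun t : T => (χ : G → ℂ) t) (ψ' : T → ℂ) ≠ 0 → ψ' = ψ) ∧
    (∀ ψ : IrrCharacter T,
      classInner (fun n : H => (ψ : T → ℂ) ⟨(n : G), hHT n.2⟩) (ϑ : H → ℂ) ≠ 0 →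
      ∃ χ : IrrCharacter G, classInner (fun t : T => (χ : G → ℂ) t) (ψ : T → ℂ) ≠ 0) ∧
    (∀ (χ χ' : IrrCharacter G) (ψ : IrrCharacter T),
      classInner (fun n : H => (ψ : T → ℂ) ⟨(n : G), hHT n.2⟩) (ϑ : H → ℂ) ≠ 0 →
      classInner (fun t : T => (χ : G → ℂ) t) (ψ : T → ℂ) ≠ 0 →
      classInner (fun t : T => (χ' : G → ℂ) t) (ψ : T → ℂ) ≠ 0 → χ = χ') := by
  classical
  haveI : Fintype (H.subgroupOf T) := Fintype.ofFinite _
  -- the hypothesis of S1489 from `ψ over ϑ`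
  have hover : ∀ ψ : IrrCharacter T,
      classInner (fun n : H => (ψ : T → ℂ) ⟨(n : G), hHT n.2⟩) (ϑ : H → ℂ) ≠ 0 →
      classInner (indFun (H.subgroupOf T)
        (fun x : H.subgroupOf T => (ϑ : H → ℂ) ⟨(x : T), Subgroup.mem_subgroupOf.mp x.2⟩))
        (ψ : T → ℂ) ≠ 0 := by
    intro ψ hψ
    rw [Helper8.frobenius_reciprocity (H.subgroupOf T) _ _ (isClassFunction_irr ψ)]
    have h1 := classInner_comp_mulEquiv (Subgroup.subgroupOfEquivOfLe hHT) (ϑ : H → ℂ)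
      (fun n : H => (ψ : T → ℂ) ⟨(n : G), hHT n.2⟩)
    have h2 : (fun a : H.subgroupOf T => (ϑ : H → ℂ) (Subgroup.subgroupOfEquivOfLe hHT a)) =
        fun x : H.subgroupOf T => (ϑ : H → ℂ) ⟨(x : T), Subgroup.mem_subgroupOf.mp x.2⟩ := rfl
    have h3 : (fun a : H.subgroupOf T => (fun n : H => (ψ : T → ℂ) ⟨(n : G), hHT n.2⟩)
        (Subgroup.subgroupOfEquivOfLe hHT a)) = fun h : H.subgroupOf T => (ψ : T → ℂ) h := rfl
    rw [h2, h3] at h1
    rw [h1, ← classInner_conj_symm]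
    exact (map_ne_zero _).mpr hψ
  have key : ∀ ψ : IrrCharacter T,
      classInner (fun n : H => (ψ : T → ℂ) ⟨(n : G), hHT n.2⟩) (ϑ : H → ℂ) ≠ 0 →
      IsIrrCharacter G (indFun T (ψ : T → ℂ)) := by
    intro ψ hψ
    exact (Cfsg.Agent.S1489.result H T (ϑ : H → ℂ) ϑ.2 hT hHT (ψ : T → ℂ) (ψ : T → ℂ) ψ.2 ψ.2
      (hover ψ hψ) (hover ψ hψ)).1
  have keyinj : ∀ ψ ψ' : IrrCharacter T,
      classInner (fun n : H => (ψ : T → ℂ) ⟨(n : G), hHT n.2⟩) (ϑ : H → ℂ) ≠ 0 →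
      classInner (fun n : H => (ψ' : T → ℂ) ⟨(n : G), hHT n.2⟩) (ϑ : H → ℂ) ≠ 0 →
      indFun T (ψ : T → ℂ) = indFun T (ψ' : T → ℂ) → ψ = ψ' := by
    intro ψ ψ' hψ hψ' h
    apply Subtype.ext
    exact (Cfsg.Agent.S1489.result H T (ϑ : H → ℂ) ϑ.2 hT hHT (ψ : T → ℂ) (ψ' : T → ℂ) ψ.2 ψ'.2
      (hover ψ hψ) (hover ψ' hψ')).2 h
  have hval : ∀ (χ : IrrCharacter G) (ψ : IrrCharacter T)
      (hψ : classInner (fun n : H => (ψ : T → ℂ) ⟨(n : G), hHT n.2⟩) (ϑ : H → ℂ) ≠ 0),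
      classInner (fun t : T => (χ : G → ℂ) t) (ψ : T → ℂ) =
        if (⟨indFun T (ψ : T → ℂ), key ψ hψ⟩ : IrrCharacter G) = χ then 1 else 0 := by
    intro χ ψ hψ
    rw [← classInner_conj_symm, ← Helper8.frobenius_reciprocity T _ _ (isClassFunction_irr χ)]
    have h1 := classInner_irr (⟨indFun T (ψ : T → ℂ), key ψ hψ⟩ : IrrCharacter G) χ
    rw [h1]
    split_ifs <;> simp
  refine ⟨?_, ?_, ?_⟩
  · intro χ hχ
    obtain ⟨ψ, hψirr, hind, hover'⟩ := clifford_correspondence_surj H (ϑ : H → ℂ) ϑ.2 T hT hHT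
      (χ : G → ℂ) χ.2 hχ
    have hψo : classInner (fun n : H => ((⟨ψ, hψirr⟩ : IrrCharacter T) : T → ℂ)
        ⟨(n : G), hHT n.2⟩) (ϑ : H → ℂ) ≠ 0 := by
      rw [hover']; exact hχ
    refine ⟨⟨ψ, hψirr⟩, hψo, ?_, ?_⟩
    · rw [hval χ ⟨ψ, hψirr⟩ hψo, if_pos (Subtype.ext hind)]
    · intro ψ' hψ' hne
      rw [hval χ ψ' hψ'] at hne
      have h2 : (⟨indFun T (ψ' : T → ℂ), key ψ' hψ'⟩ : IrrCharacter G) = χ := by
        by_contra h
        rw [if_neg h] at hne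
        exact hne rfl
      apply keyinj ψ' ⟨ψ, hψirr⟩ hψ' hψo
      rw [hind]
      exact congrArg Subtype.val h2
  · intro ψ hψ
    refine ⟨⟨indFun T (ψ : T → ℂ), key ψ hψ⟩, ?_⟩
    rw [hval _ ψ hψ, if_pos rfl]
    exact one_ne_zero
  · intro χ χ' ψ hψ h1 h2
    rw [hval χ ψ hψ] at h1
    rw [hval χ' ψ hψ] at h2
    have e1 : (⟨indFun T (ψ : T → ℂ), key ψ hψ⟩ : IrrCharacter G) = χ := by
      by_contra h
      rw [if_neg h] at h1
      exact h1 rfl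
    have e2 : (⟨indFun T (ψ : T → ℂ), key ψ hψ⟩ : IrrCharacter G) = χ' := by
      by_contra h
      rw [if_neg h] at h2
      exact h2 rfl
    rw [← e1, ← e2]

end TypeLevel

end Cfsg.Agent.Helper29.RelGlaub
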