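import Mathlib
import Cfsg.Agent.Helper29.RelGlaubC1

set_option autoImplicit false
set_option linter.style.haveILetI false

namespace Cfsg.Agent.Helper29.RelGlaub

open Cfsg Cfsg.Agent.Helper24

universe u

section Ambient

variable {Γ : Type u} [Group Γ] [Finite Γ]

/-- **Clifford correspondence** for subgroups `Q ≤ S ≤ L` of an ambient group, `L` normalizing
`Q` and `S` the stabilizer in `L` of `θ ∈ Irr(Q)`, in terms of restriction multiplicities. -/
theorem clifford_corr_amb (Q S L : Subgroup Γ) (hQS : Q ≤ S) (hSL : S ≤ L)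
    (hLQ : L ≤ Subgroup.normalizer (Q : Set Γ)) (θ : IrrCharacter Q)
    (hS : ∀ g ∈ L, g ∈ S ↔ InvAt Q (θ : Q → ℂ) g) :
    (∀ χ : IrrCharacter L, mult (Subgroup.inclusion (hQS.trans hSL)) χ θ ≠ 0 →
      ∃ ψ : IrrCharacter S, mult (Subgroup.inclusion hQS) ψ θ ≠ 0 ∧
        mult (Subgroup.inclusion hSL) χ ψ = 1 ∧
        ∀ ψ' : IrrCharacter S, mult (Subgroup.inclusion hQS) ψ' θ ≠ 0 →
          mult (Subgroup.inclusion hSL) χ ψ' ≠ 0 → ψ' = ψ) ∧
    (∀ ψ : IrrCharacter S, mult (Subgroup.inclusion hQS) ψ θ ≠ 0 →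
      ∃ χ : IrrCharacter L, mult (Subgroup.inclusion hSL) χ ψ ≠ 0) ∧
    (∀ (χ χ' : IrrCharacter L) (ψ : IrrCharacter S), mult (Subgroup.inclusion hQS) ψ θ ≠ 0 →
      mult (Subgroup.inclusion hSL) χ ψ ≠ 0 → mult (Subgroup.inclusion hSL) χ' ψ ≠ 0 →
      χ = χ') := by
  classical
  haveI : Fintype L := Fintype.ofFinite _
  haveI : Fintype S := Fintype.ofFinite _
  haveI : Fintype Q := Fintype.ofFinite _
  haveI : Fintype (Q.subgroupOf L) := Fintype.ofFinite _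
  haveI : Fintype (S.subgroupOf L) := Fintype.ofFinite _
  have hQL : Q ≤ L := hQS.trans hSL
  haveI hn : (Q.subgroupOf L).Normal := (Subgroup.normal_subgroupOf_iff_le_normalizer hQL).mpr hLQ
  obtain ⟨eQ, heQ⟩ : ∃ eQ : ↥(Q.subgroupOf L) ≃* ↥Q, eQ = Subgroup.subgroupOfEquivOfLe hQL :=
    ⟨_, rfl⟩
  obtain ⟨eS, heS⟩ : ∃ eS : ↥(S.subgroupOf L) ≃* ↥S, eS = Subgroup.subgroupOfEquivOfLe hSL :=
    ⟨_, rfl⟩
  have heQv : ∀ h : ↥(Q.subgroupOf L), ((eQ h : Q) : Γ) = ((h : L) : Γ) := by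
    intro h; rw [heQ]; rfl
  have heSv : ∀ t : ↥(S.subgroupOf L), ((eS t : S) : Γ) = ((t : L) : Γ) := by
    intro t; rw [heS]; rfl
  have hHT : Q.subgroupOf L ≤ S.subgroupOf L := by
    intro x hx
    exact Subgroup.mem_subgroupOf.mpr (hQS (Subgroup.mem_subgroupOf.mp hx))
  have hT : ∀ g : L, g ∈ S.subgroupOf L ↔ ∀ n : ↥(Q.subgroupOf L),
      (pullIrr eQ θ : ↥(Q.subgroupOf L) → ℂ) ⟨g * n * g⁻¹, hn.conj_mem (n : L) n.2 g⟩ =
        (pullIrr eQ θ : ↥(Q.subgroupOf L) → ℂ) n := by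
    intro g
    rw [Subgroup.mem_subgroupOf, hS (g : Γ) g.2]
    constructor
    · intro h n
      rw [pullIrr_apply, pullIrr_apply]
      refine h _ _ ?_
      rw [heQv, heQv]
      rfl
    · intro h q q' hqq'
      have hqL : (q : Γ) ∈ L := hQL q.2
      have h1 := h ⟨⟨(q : Γ), hqL⟩, Subgroup.mem_subgroupOf.mpr q.2⟩
      rw [pullIrr_apply, pullIrr_apply] at h1
      have e1 : eQ ⟨⟨(q : Γ), hqL⟩, Subgroup.mem_subgroupOf.mpr q.2⟩ = q := by
        apply Subtype.ext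
        rw [heQv]
      have e2 : eQ ⟨g * ⟨(q : Γ), hqL⟩ * g⁻¹,
          hn.conj_mem _ (Subgroup.mem_subgroupOf.mpr q.2) g⟩ = q' := by
        apply Subtype.ext
        rw [heQv, hqq']
        rfl
      rw [e1, e2] at h1
      exact h1
  -- translations
  have t1 : ∀ χ : IrrCharacter L,
      classInner (fun n : ↥(Q.subgroupOf L) => (χ : L → ℂ) n)
        (pullIrr eQ θ : ↥(Q.subgroupOf L) → ℂ) = (mult (Subgroup.inclusion hQL) χ θ : ℂ) := by
    intro χ
    rw [← mult_spec]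
    have h1 := classInner_comp_mulEquiv eQ (fun q : Q => (χ : L → ℂ) (Subgroup.inclusion hQL q))
      (θ : Q → ℂ)
    rw [← h1]
    congr 1
    funext n
    have e : Subgroup.inclusion hQL (eQ n) = (n : L) := by
      apply Subtype.ext
      show ((eQ n : Q) : Γ) = ((n : L) : Γ)
      rw [heQv]
    rw [e]
  have t2 : ∀ ψ : IrrCharacter S,
      classInner (fun n : ↥(Q.subgroupOf L) =>
        (pullIrr eS ψ : ↥(S.subgroupOf L) → ℂ) ⟨(n : L), hHT n.2⟩)
        (pullIrr eQ θ : ↥(Q.subgroupOf L) → ℂ) = (mult (Subgroup.inclusion hQS) ψ θ : ℂ) := by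
    intro ψ
    rw [← mult_spec]
    have h1 := classInner_comp_mulEquiv eQ (fun q : Q => (ψ : S → ℂ) (Subgroup.inclusion hQS q))
      (θ : Q → ℂ)
    rw [← h1]
    congr 1
    funext n
    rw [pullIrr_apply]
    have e : Subgroup.inclusion hQS (eQ n) = eS ⟨(n : L), hHT n.2⟩ := by
      apply Subtype.ext
      rw [heSv]
      show ((eQ n : Q) : Γ) = ((n : L) : Γ)
      rw [heQv]
    rw [e]
  have t3 : ∀ (χ : IrrCharacter L) (ψ : IrrCharacter S),
      classInner (fun t : ↥(S.subgroupOf L) => (χ : L → ℂ) t)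
        (pullIrr eS ψ : ↥(S.subgroupOf L) → ℂ) = (mult (Subgroup.inclusion hSL) χ ψ : ℂ) := by
    intro χ ψ
    rw [← mult_spec]
    have h1 := classInner_comp_mulEquiv eS (fun s : S => (χ : L → ℂ) (Subgroup.inclusion hSL s))
      (ψ : S → ℂ)
    rw [← h1]
    congr 1
    funext t
    have e : Subgroup.inclusion hSL (eS t) = (t : L) := by
      apply Subtype.ext
      show ((eS t : S) : Γ) = ((t : L) : Γ)
      rw [heSv]
    rw [e]
  obtain ⟨A1, A2, A3⟩ := clifford_corr_type (Q.subgroupOf L) (pullIrr eQ θ) (S.subgroupOf L) hT hHT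
  have hcast : ∀ m : ℕ, (m : ℂ) ≠ 0 ↔ m ≠ 0 := fun m => Nat.cast_ne_zero
  refine ⟨?_, ?_, ?_⟩
  · intro χ hχ
    obtain ⟨ψT, h1, h2, h3⟩ := A1 χ (by rw [t1]; exact (hcast _).mpr hχ)
    have hψT : pullIrr eS (pullIrr eS.symm ψT) = ψT := pullIrr_symm eS ψT
    refine ⟨pullIrr eS.symm ψT, ?_, ?_, ?_⟩
    · rw [← hψT, t2] at h1
      exact (hcast _).mp h1
    · rw [← hψT, t3] at h2
      exact_mod_cast h2
    · intro ψ' hψ' hne
      have := h3 (pullIrr eS ψ') (by rw [t2]; exact (hcast _).mpr hψ')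
        (by rw [t3]; exact (hcast _).mpr hne)
      rw [← this, pullIrr_symm']
  · intro ψ hψ
    obtain ⟨χ, hχ⟩ := A2 (pullIrr eS ψ) (by rw [t2]; exact (hcast _).mpr hψ)
    refine ⟨χ, ?_⟩
    rw [t3] at hχ
    exact (hcast _).mp hχ
  · intro χ χ' ψ hψ h1 h2
    exact A3 χ χ' (pullIrr eS ψ) (by rw [t2]; exact (hcast _).mpr hψ)
      (by rw [t3]; exact (hcast _).mpr h1) (by rw [t3]; exact (hcast _).mpr h2)

end Ambient

end Cfsg.Agent.Helper29.RelGlaub
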