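import Mathlib
import Cfsg.Agent.Helper29.RelGlaubA

/-!
# Relative Glauberman correspondence, part B: the Glauberman correspondence modulo a normal
subgroup `Q`
-/

set_option autoImplicit false
set_option linter.style.haveILetI false

namespace Cfsg.Agent.Helper29.RelGlaub

open Cfsg Cfsg.Agent.Helper24

universe u

/-- A correspondence of Glauberman type between two sets of irreducible characters. -/
structure GenCorr (p : ℕ) {A B : Type u} [Group A] [Group B] [Finite A] (ι : A →* B)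
    (𝓘 : Set (IrrCharacter B)) (𝓙 : Set (IrrCharacter A)) : Prop where
  exU : ∀ χ ∈ 𝓘, ∃ β ∈ 𝓙, ¬ p ∣ mult ι χ β ∧ ∀ β' ∈ 𝓙, ¬ p ∣ mult ι χ β' → β' = β
  pm : ∀ χ ∈ 𝓘, ∀ β ∈ 𝓙, ¬ p ∣ mult ι χ β →
    ((mult ι χ β : ℤ) ≡ 1 [ZMOD p] ∨ (mult ι χ β : ℤ) ≡ -1 [ZMOD p])
  inj : ∀ χ ∈ 𝓘, ∀ χ' ∈ 𝓘, ∀ β ∈ 𝓙, ¬ p ∣ mult ι χ β → ¬ p ∣ mult ι χ' β → χ = χ'
  surj : ∀ β ∈ 𝓙, ∃ χ ∈ 𝓘, ¬ p ∣ mult ι χ β

section Lifted

variable {Γ : Type u} [Group Γ] [Finite Γ]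

/-- A function on a subgroup `L` that is constant on the cosets of `Q`. -/
def QConst (Q L : Subgroup Γ) (β : L → ℂ) : Prop :=
  ∀ l l' : L, (l : Γ)⁻¹ * (l' : Γ) ∈ Q → β l' = β l

variable {p : ℕ} [hp : Fact p.Prime]

omit [Finite Γ] hp in
theorem qConst_inflIrr (Q : Subgroup Γ) [hQ : Q.Normal] (L : Subgroup Γ)
    (β : IrrCharacter ↥(L.map (QuotientGroup.mk' Q))) :
    QConst Q L (inflIrr ((QuotientGroup.mk' Q).subgroupMap L)
      (MonoidHom.subgroupMap_surjective _ L) β : L → ℂ) := by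
  intro l l' h
  rw [inflIrr_apply, inflIrr_apply]
  have e : (QuotientGroup.mk' Q).subgroupMap L l' = (QuotientGroup.mk' Q).subgroupMap L l := by
    apply Subtype.ext
    show QuotientGroup.mk' Q (l' : Γ) = QuotientGroup.mk' Q (l : Γ)
    symm
    exact QuotientGroup.eq.mpr h
  rw [e]

theorem exists_inflIrr_of_qConst (Q : Subgroup Γ) [hQ : Q.Normal] (L : Subgroup Γ)
    (β : IrrCharacter L) (hβ : QConst Q L (β : L → ℂ)) :
    ∃ β' : IrrCharacter ↥(L.map (QuotientGroup.mk' Q)),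
      inflIrr ((QuotientGroup.mk' Q).subgroupMap L) (MonoidHom.subgroupMap_surjective _ L) β' =
        β := by
  apply exists_inflIrr_eq
  intro a ha
  have h1 : QuotientGroup.mk' Q (a : Γ) = 1 := congrArg Subtype.val ha
  have h2 : (a : Γ) ∈ Q := (QuotientGroup.eq_one_iff (a : Γ)).mp h1
  refine hβ 1 a ?_
  simpa using h2

/-- **Glauberman correspondence modulo `Q`.** Let `Q ⊴ Γ`, `Q ≤ S` with `S/Q` a `p'`-group, `P`
a `p`-group normalizing `S`, and `D/Q = C_{S/Q}(P)`. Then the `P`-invariant irreducible characters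
of `S/Q` correspond to the irreducible characters of `D/Q`. -/
theorem lifted_pcorr (Q : Subgroup Γ) [hQ : Q.Normal] (S P D : Subgroup Γ) (hQS : Q ≤ S)
    (hPS : P ≤ Subgroup.normalizer (S : Set Γ)) (hP : IsPGroup p P)
    (hSp : ¬ p ∣ Q.relIndex S) (hDS : D ≤ S)
    (hD : ∀ s : Γ, s ∈ D ↔ (s ∈ S ∧ ∀ x ∈ P, x * s * x⁻¹ * s⁻¹ ∈ Q)) :
    GenCorr p (Subgroup.inclusion hDS)
      {β : IrrCharacter S | QConst Q S (β : S → ℂ) ∧ ∀ x ∈ P, InvAt S (β : S → ℂ) x}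
      {γ : IrrCharacter D | QConst Q D (γ : D → ℂ)} := by
  classical
  have hp' := hp.out
  obtain ⟨π, hπ⟩ : ∃ π : Γ →* Γ ⧸ Q, π = QuotientGroup.mk' Q := ⟨_, rfl⟩
  have hπker : ∀ g : Γ, π g = 1 ↔ g ∈ Q := by
    intro g
    rw [hπ]
    exact QuotientGroup.eq_one_iff g
  -- the image groups
  have hPS' : P.map π ≤ Subgroup.normalizer ((S.map π : Subgroup (Γ ⧸ Q)) : Set (Γ ⧸ Q)) :=
    (Subgroup.map_mono hPS).trans (Subgroup.le_normalizer_map π)
  have hP' : IsPGroup p (P.map π) := hP.map π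
  have hcardS : Nat.card (S.map π) = Q.relIndex S := by
    rw [← Subgroup.relIndex_bot_left, ← Subgroup.relIndex_comap, MonoidHom.comap_bot, hπ,
      QuotientGroup.ker_mk']
  have hcop : (Nat.card (S.map π)).Coprime (Nat.card (P.map π)) := by
    obtain ⟨a, ha⟩ := IsPGroup.iff_card.mp hP'
    rw [ha, hcardS]
    exact Nat.Coprime.pow_right a ((Nat.Prime.coprime_iff_not_dvd hp').mpr hSp).symm
  have hCK : S.map π ⊓ Subgroup.centralizer ((P.map π : Subgroup (Γ ⧸ Q)) : Set (Γ ⧸ Q)) ≤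
      S.map π := inf_le_left
  have PC := pcorr_pgroup p hp' _ (S.map π) (P.map π)
    (S.map π ⊓ Subgroup.centralizer ((P.map π : Subgroup (Γ ⧸ Q)) : Set (Γ ⧸ Q))) rfl hPS' hP'
    hcop rfl hCK
  -- the surjections
  obtain ⟨πS, hπS⟩ : ∃ πS : S →* ↥(S.map π), πS = π.subgroupMap S := ⟨_, rfl⟩
  have hπSsurj : Function.Surjective πS := by
    rw [hπS]; exact MonoidHom.subgroupMap_surjective π S
  have hπSval : ∀ s : S, ((πS s : ↥(S.map π)) : Γ ⧸ Q) = π (s : Γ) := by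
    intro s; rw [hπS]; rfl
  have hmemD : ∀ d : D, π (d : Γ) ∈
      S.map π ⊓ Subgroup.centralizer ((P.map π : Subgroup (Γ ⧸ Q)) : Set (Γ ⧸ Q)) := by
    intro d
    refine ⟨Subgroup.mem_map_of_mem π (hDS d.2), ?_⟩
    show π (d : Γ) ∈ Subgroup.centralizer ((P.map π : Subgroup (Γ ⧸ Q)) : Set (Γ ⧸ Q))
    rw [Subgroup.mem_centralizer_iff]
    rintro _ ⟨x, hx, rfl⟩
    have h1 := ((hD (d : Γ)).mp d.2).2 x hx
    have h2 : π (x * (d : Γ) * x⁻¹ * (d : Γ)⁻¹) = 1 := (hπker _).mpr h1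
    rw [map_mul, map_mul, map_mul, map_inv, map_inv] at h2
    calc π x * π (d : Γ) = (π x * π (d : Γ) * (π x)⁻¹ * (π (d : Γ))⁻¹) * (π (d : Γ) * π x) := by
          group
      _ = π (d : Γ) * π x := by rw [h2, one_mul]
  obtain ⟨πD, hπD⟩ : ∃ πD : D →* ↥(S.map π ⊓
      Subgroup.centralizer ((P.map π : Subgroup (Γ ⧸ Q)) : Set (Γ ⧸ Q))),
      ∀ d : D, ((πD d : ↥(S.map π ⊓
        Subgroup.centralizer ((P.map π : Subgroup (Γ ⧸ Q)) : Set (Γ ⧸ Q)))) : Γ ⧸ Q) =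
        π (d : Γ) :=
    ⟨MonoidHom.codRestrict (π.comp D.subtype) _ hmemD, fun d => rfl⟩
  have hπDsurj : Function.Surjective πD := by
    rintro ⟨y, hyS, hyC⟩
    obtain ⟨s, hs, rfl⟩ := hyS
    have hyC' : π s ∈ Subgroup.centralizer ((P.map π : Subgroup (Γ ⧸ Q)) : Set (Γ ⧸ Q)) := hyC
    rw [Subgroup.mem_centralizer_iff] at hyC'
    have hsD : s ∈ D := by
      rw [hD]
      refine ⟨hs, fun x hx => ?_⟩
      rw [← hπker]
      have h1 := hyC' (π x) (Subgroup.mem_map_of_mem π hx)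
      rw [map_mul, map_mul, map_mul, map_inv, map_inv, h1]
      group
    refine ⟨⟨s, hsD⟩, ?_⟩
    apply Subtype.ext
    rw [hπD]
  have hcomm : ∀ d : D, πS (Subgroup.inclusion hDS d) = Subgroup.inclusion hCK (πD d) := by
    intro d
    apply Subtype.ext
    rw [hπSval]
    show π (d : Γ) = ((πD d : ↥(S.map π ⊓
        Subgroup.centralizer ((P.map π : Subgroup (Γ ⧸ Q)) : Set (Γ ⧸ Q)))) : Γ ⧸ Q)
    rw [hπD]
  have hmult : ∀ (β' : IrrCharacter ↥(S.map π)) (γ' : IrrCharacter ↥(S.map π ⊓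
      Subgroup.centralizer ((P.map π : Subgroup (Γ ⧸ Q)) : Set (Γ ⧸ Q)))),
      mult (Subgroup.inclusion hDS) (inflIrr πS hπSsurj β') (inflIrr πD hπDsurj γ') =
        mult (Subgroup.inclusion hCK) β' γ' :=
    fun β' γ' => mult_inflIrr πD hπDsurj πS hπSsurj _ _ hcomm β' γ'
  -- descent of characters
  have hdescS : ∀ β : IrrCharacter S, QConst Q S (β : S → ℂ) →
      ∃ β' : IrrCharacter ↥(S.map π), inflIrr πS hπSsurj β' = β := by
    intro β hβ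
    apply exists_inflIrr_eq
    intro a ha
    have h1 : π (a : Γ) = 1 := by rw [← hπSval, ha]; rfl
    refine hβ 1 a ?_
    simpa using (hπker _).mp h1
  have hdescD : ∀ γ : IrrCharacter D, QConst Q D (γ : D → ℂ) →
      ∃ γ' : IrrCharacter ↥(S.map π ⊓
        Subgroup.centralizer ((P.map π : Subgroup (Γ ⧸ Q)) : Set (Γ ⧸ Q))),
        inflIrr πD hπDsurj γ' = γ := by
    intro γ hγ
    apply exists_inflIrr_eq
    intro a ha
    have h1 : π (a : Γ) = 1 := by rw [← hπD, ha]; rfl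
    refine hγ 1 a ?_
    simpa using (hπker _).mp h1
  have hconstS : ∀ β' : IrrCharacter ↥(S.map π),
      QConst Q S (inflIrr πS hπSsurj β' : S → ℂ) := by
    intro β' l l' h
    rw [inflIrr_apply, inflIrr_apply]
    have e : πS l' = πS l := by
      apply Subtype.ext
      rw [hπSval, hπSval]
      have h1 : π ((l : Γ)⁻¹ * (l' : Γ)) = 1 := (hπker _).mpr h
      rw [map_mul, map_inv, inv_mul_eq_one] at h1
      exact h1.symm
    rw [e]
  have hconstD : ∀ γ' : IrrCharacter ↥(S.map π ⊓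
      Subgroup.centralizer ((P.map π : Subgroup (Γ ⧸ Q)) : Set (Γ ⧸ Q))),
      QConst Q D (inflIrr πD hπDsurj γ' : D → ℂ) := by
    intro γ' l l' h
    rw [inflIrr_apply, inflIrr_apply]
    have e : πD l' = πD l := by
      apply Subtype.ext
      rw [hπD, hπD]
      have h1 : π ((l : Γ)⁻¹ * (l' : Γ)) = 1 := (hπker _).mpr h
      rw [map_mul, map_inv, inv_mul_eq_one] at h1
      exact h1.symm
    rw [e]
  -- invariance
  have hinv : ∀ β' : IrrCharacter ↥(S.map π),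
      (∀ x ∈ P, InvAt S (inflIrr πS hπSsurj β' : S → ℂ) x) ↔
      (∀ y ∈ P.map π, InvAt (S.map π) (β' : ↥(S.map π) → ℂ) y) := by
    intro β'
    constructor
    · rintro h _ ⟨x, hx, rfl⟩ g g' hgg'
      obtain ⟨s, rfl⟩ := hπSsurj g
      have hs' : x * (s : Γ) * x⁻¹ ∈ S := (Subgroup.mem_normalizer_iff.mp (hPS hx) _).mp s.2
      have h1 := h x hx s ⟨x * (s : Γ) * x⁻¹, hs'⟩ rfl
      rw [inflIrr_apply, inflIrr_apply] at h1
      rw [← h1]
      have e : g' = πS ⟨x * (s : Γ) * x⁻¹, hs'⟩ := by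
        apply Subtype.ext
        rw [hgg', hπSval, hπSval]
        simp
      rw [e]
    · intro h x hx g g' hgg'
      rw [inflIrr_apply, inflIrr_apply]
      refine h (π x) (Subgroup.mem_map_of_mem π hx) _ _ ?_
      rw [hπSval, hπSval, hgg']
      simp
  refine ⟨?_, ?_, ?_, ?_⟩
  · rintro β ⟨hβc, hβi⟩
    obtain ⟨β', rfl⟩ := hdescS β hβc
    obtain ⟨γ', hγ', huniq⟩ := PC.exU β' ((hinv β').mp hβi)
    refine ⟨inflIrr πD hπDsurj γ', hconstD γ', ?_, ?_⟩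
    · rw [hmult]; exact hγ'
    · intro γ hγc hγ
      obtain ⟨γ'', rfl⟩ := hdescD γ hγc
      rw [hmult] at hγ
      rw [huniq γ'' hγ]
  · rintro β ⟨hβc, hβi⟩ γ hγc hγ
    obtain ⟨β', rfl⟩ := hdescS β hβc
    obtain ⟨γ', rfl⟩ := hdescD γ hγc
    rw [hmult] at hγ ⊢
    exact PC.pm β' ((hinv β').mp hβi) γ' hγ
  · rintro β ⟨hβc, hβi⟩ β₂ ⟨hβ₂c, hβ₂i⟩ γ hγc h1 h2
    obtain ⟨β', rfl⟩ := hdescS β hβc
    obtain ⟨β₂', rfl⟩ := hdescS β₂ hβ₂c
    obtain ⟨γ', rfl⟩ := hdescD γ hγc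
    rw [hmult] at h1 h2
    rw [PC.inj β' ((hinv β').mp hβi) β₂' ((hinv β₂').mp hβ₂i) γ' h1 h2]
  · intro γ hγc
    obtain ⟨γ', rfl⟩ := hdescD γ hγc
    obtain ⟨β', hβ'i, hβ'⟩ := PC.surj γ'
    refine ⟨inflIrr πS hπSsurj β', ⟨hconstS β', (hinv β').mpr hβ'i⟩, ?_⟩
    rw [hmult]; exact hβ'

end Lifted

end Cfsg.Agent.Helper29.RelGlaub
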