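import Mathlib
import Cfsg.Agent.Helper24.Gallagher
import Cfsg.Agent.Helper24.CosetAverage
import Cfsg.Agent.Helper24.MinNormalLinear
import Cfsg.Agent.Helper29.RelGlaubB

/-!
# Relative Glauberman correspondence, part D: Gallagher's theorem in kernel form
-/

set_option autoImplicit false
set_option linter.style.haveILetI false

namespace Cfsg.Agent.Helper29.RelGlaub

open Cfsg Cfsg.Agent.Helper24

universe u

section Over

variable {Γ : Type u} [Group Γ] [Finite Γ]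

/-- A constituent of a constituent is a constituent. -/
theorem over_of_mult {Q A B : Subgroup Γ} (hQA : Q ≤ A) (hAB : A ≤ B) (χ : IrrCharacter B)
    (δ : IrrCharacter A) (θ : IrrCharacter Q) (h1 : mult (Subgroup.inclusion hAB) χ δ ≠ 0)
    (h2 : mult (Subgroup.inclusion hQA) δ θ ≠ 0) :
    mult (Subgroup.inclusion (hQA.trans hAB)) χ θ ≠ 0 := by
  classical
  haveI : Fintype (IrrCharacter A) := Fintype.ofFinite _
  have h3 := mult_trans (Subgroup.inclusion hQA) (Subgroup.inclusion hAB) χ θ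
  have h4 : (Subgroup.inclusion hAB).comp (Subgroup.inclusion hQA) =
      Subgroup.inclusion (hQA.trans hAB) := rfl
  rw [h4] at h3
  rw [h3]
  intro h0
  have h5 := Finset.sum_eq_zero_iff.mp h0 δ (Finset.mem_univ _)
  rcases Nat.mul_eq_zero.mp h5 with h | h
  · exact h1 h
  · exact h2 h

end Over

section Gallagher

variable {Γ : Type u} [Group Γ] [Finite Γ]

/-- **Gallagher's theorem, kernel form.** If `θ̃ ∈ Irr(S)` restricts irreducibly to `Q ⊴ S`, the
irreducible characters of `S` over `θ̃_Q` are the products `θ̃ β` with `β ∈ Irr(S)` constant on the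
cosets of `Q`, and `β` is determined by `θ̃ β`. -/
theorem gallagher_kernel (Q S : Subgroup Γ) (hQS : Q ≤ S)
    (hSQ : S ≤ Subgroup.normalizer (Q : Set Γ)) (θt : IrrCharacter S) (θ : IrrCharacter Q)
    (hθ : ∀ q : Q, (θ : Q → ℂ) q = (θt : S → ℂ) (Subgroup.inclusion hQS q)) :
    (∀ β : IrrCharacter S, QConst Q S (β : S → ℂ) →
      ∃ ψ : IrrCharacter S, ∀ s, (ψ : S → ℂ) s = (θt : S → ℂ) s * (β : S → ℂ) s) ∧
    (∀ ψ : IrrCharacter S, mult (Subgroup.inclusion hQS) ψ θ ≠ 0 →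
      ∃ β : IrrCharacter S, QConst Q S (β : S → ℂ) ∧
        ∀ s, (ψ : S → ℂ) s = (θt : S → ℂ) s * (β : S → ℂ) s) ∧
    (∀ β β' : IrrCharacter S, QConst Q S (β : S → ℂ) → QConst Q S (β' : S → ℂ) →
      (∀ s, (θt : S → ℂ) s * (β : S → ℂ) s = (θt : S → ℂ) s * (β' : S → ℂ) s) → β = β') := by
  classical
  haveI : Fintype S := Fintype.ofFinite _
  haveI : Fintype Q := Fintype.ofFinite _
  haveI : Fintype (Q.subgroupOf S) := Fintype.ofFinite _
  haveI hn : (Q.subgroupOf S).Normal := (Subgroup.normal_subgroupOf_iff_le_normalizer hQS).mpr hSQ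
  obtain ⟨eQ, heQ⟩ : ∃ eQ : ↥(Q.subgroupOf S) ≃* ↥Q, eQ = Subgroup.subgroupOfEquivOfLe hQS :=
    ⟨_, rfl⟩
  have heQv : ∀ h : ↥(Q.subgroupOf S), ((eQ h : Q) : Γ) = ((h : S) : Γ) := by
    intro h; rw [heQ]; rfl
  have hres : (fun n : ↥(Q.subgroupOf S) => (θt : S → ℂ) n) =
      fun n => (θ : Q → ℂ) (eQ n) := by
    funext n
    rw [hθ]
    have e : Subgroup.inclusion hQS (eQ n) = (n : S) := by
      apply Subtype.ext
      show ((eQ n : Q) : Γ) = ((n : S) : Γ)
      rw [heQv]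
    rw [e]
  have hχN : IsIrrCharacter ↥(Q.subgroupOf S) (fun n : ↥(Q.subgroupOf S) => (θt : S → ℂ) n) := by
    rw [hres]
    exact (pullIrr eQ θ).2
  obtain ⟨mk, hmk⟩ : ∃ mk : S →* S ⧸ Q.subgroupOf S, mk = QuotientGroup.mk' (Q.subgroupOf S) :=
    ⟨_, rfl⟩
  have hmksurj : Function.Surjective mk := by
    rw [hmk]; exact QuotientGroup.mk'_surjective _
  have hdesc : ∀ β : IrrCharacter S, QConst Q S (β : S → ℂ) →
      ∃ β' : IrrCharacter (S ⧸ Q.subgroupOf S), inflIrr mk hmksurj β' = β := by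
    intro β hβ
    apply exists_inflIrr_eq
    intro a ha
    rw [hmk] at ha
    have h2 : a ∈ Q.subgroupOf S := (QuotientGroup.eq_one_iff a).mp ha
    refine hβ 1 a ?_
    simpa using Subgroup.mem_subgroupOf.mp h2
  have hconst : ∀ β' : IrrCharacter (S ⧸ Q.subgroupOf S),
      QConst Q S (inflIrr mk hmksurj β' : S → ℂ) := by
    intro β' l l' h
    rw [inflIrr_apply, inflIrr_apply]
    have e : mk l' = mk l := by
      rw [hmk]
      symm
      apply QuotientGroup.eq.mpr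
      exact Subgroup.mem_subgroupOf.mpr h
    rw [e]
  have htw : ∀ (β' : IrrCharacter (S ⧸ Q.subgroupOf S)) (s : S),
      gallagherTwist (Q.subgroupOf S) θt β' s =
        (θt : S → ℂ) s * (inflIrr mk hmksurj β' : S → ℂ) s := by
    intro β' s
    unfold gallagherTwist
    rw [inflIrr_apply, hmk, mul_comm]
    rfl
  refine ⟨?_, ?_, ?_⟩
  · intro β hβ
    obtain ⟨β', rfl⟩ := hdesc β hβ
    exact ⟨⟨gallagherTwist (Q.subgroupOf S) θt β',
      isIrrCharacter_gallagherTwist (Q.subgroupOf S) θt hχN β'⟩, htw β'⟩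
  · intro ψ hψ
    have h1 : classInner (fun n : ↥(Q.subgroupOf S) => (ψ : S → ℂ) n)
        (fun n : ↥(Q.subgroupOf S) => (θt : S → ℂ) n) ≠ 0 := by
      rw [hres]
      have h2 : classInner (fun a : ↥(Q.subgroupOf S) =>
          (ψ : S → ℂ) (Subgroup.inclusion hQS (eQ a))) (fun a => (θ : Q → ℂ) (eQ a)) =
          classInner (fun q : Q => (ψ : S → ℂ) (Subgroup.inclusion hQS q)) (θ : Q → ℂ) :=
        classInner_comp_surjective eQ.toMonoidHom eQ.surjective
          (fun q : Q => (ψ : S → ℂ) (Subgroup.inclusion hQS q)) (θ : Q → ℂ)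
      have h3 : (fun n : ↥(Q.subgroupOf S) => (ψ : S → ℂ) n) =
          fun a => (ψ : S → ℂ) (Subgroup.inclusion hQS (eQ a)) := by
        funext n
        have e : Subgroup.inclusion hQS (eQ n) = (n : S) := by
          apply Subtype.ext
          show ((eQ n : Q) : Γ) = ((n : S) : Γ)
          rw [heQv]
        rw [e]
      rw [h3, h2, mult_spec]
      exact_mod_cast hψ
    obtain ⟨β', hβ'⟩ := exists_gallagherTwist_eq (Q.subgroupOf S) θt hχN ψ h1
    refine ⟨inflIrr mk hmksurj β', hconst β', ?_⟩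
    intro s
    rw [hβ', htw]
  · intro β β₂ hβ hβ₂ h
    obtain ⟨β', rfl⟩ := hdesc β hβ
    obtain ⟨β₂', rfl⟩ := hdesc β₂ hβ₂
    have h1 : gallagherTwist (Q.subgroupOf S) θt β' = gallagherTwist (Q.subgroupOf S) θt β₂' := by
      funext s
      rw [htw, htw, h s]
    rw [gallagherTwist_injective (Q.subgroupOf S) θt hχN β' β₂' h1]

end Gallagher

section CosetSum

variable {Γ : Type u} [Group Γ] [Finite Γ]

/-- If `θ̃ ∈ Irr(S)` restricts irreducibly to `Q ⊴ S`, then `∑_{q ∈ Q} |θ̃(q s)|² = |Q|`. -/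
theorem sum_coset_normSq (Q S : Subgroup Γ) [Fintype Q] (hQS : Q ≤ S)
    (hSQ : S ≤ Subgroup.normalizer (Q : Set Γ)) (θt : IrrCharacter S) (θ : IrrCharacter Q)
    (hθ : ∀ q : Q, (θ : Q → ℂ) q = (θt : S → ℂ) (Subgroup.inclusion hQS q)) (s : S) :
    ∑ q : Q, (θt : S → ℂ) (Subgroup.inclusion hQS q * s) *
      (starRingEnd ℂ) ((θt : S → ℂ) (Subgroup.inclusion hQS q * s)) = (Nat.card Q : ℂ) := by
  classical
  haveI : Fintype S := Fintype.ofFinite _
  haveI : Fintype (Q.subgroupOf S) := Fintype.ofFinite _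
  haveI hn : (Q.subgroupOf S).Normal := (Subgroup.normal_subgroupOf_iff_le_normalizer hQS).mpr hSQ
  obtain ⟨eQ, heQ⟩ : ∃ eQ : ↥(Q.subgroupOf S) ≃* ↥Q, eQ = Subgroup.subgroupOfEquivOfLe hQS :=
    ⟨_, rfl⟩
  have heQv : ∀ h : ↥(Q.subgroupOf S), ((eQ h : Q) : Γ) = ((h : S) : Γ) := by
    intro h; rw [heQ]; rfl
  have hincl : ∀ n : ↥(Q.subgroupOf S), Subgroup.inclusion hQS (eQ n) = (n : S) := by
    intro n
    apply Subtype.ext
    show ((eQ n : Q) : Γ) = ((n : S) : Γ)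
    rw [heQv]
  have hres : (fun n : ↥(Q.subgroupOf S) => (θt : S → ℂ) n) =
      fun n => (θ : Q → ℂ) (eQ n) := by
    funext n
    rw [hθ, hincl]
  have hχN : IsIrrCharacter ↥(Q.subgroupOf S) (fun n : ↥(Q.subgroupOf S) => (θt : S → ℂ) n) := by
    rw [hres]
    exact (pullIrr eQ θ).2
  have h1 := (coset_average_theorem (Q.subgroupOf S) (θt : S → ℂ) θt.2 hχN (θt : S → ℂ) θt.2
    _ rfl).2.2 rfl
  have h2 := congrFun h1 s
  have hcard : Nat.card ↥(Q.subgroupOf S) = Nat.card Q := Nat.card_congr eQ.toEquiv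
  have hQc : (Nat.card Q : ℂ) ≠ 0 := by exact_mod_cast Nat.card_pos.ne'
  rw [hcard] at h2
  have h3 : ∑ n : ↥(Q.subgroupOf S), (θt : S → ℂ) ((n : S) * s) *
      (starRingEnd ℂ) ((θt : S → ℂ) ((n : S) * s)) = (Nat.card Q : ℂ) := by
    field_simp at h2
    exact h2
  rw [← h3]
  symm
  refine Fintype.sum_equiv eQ.toEquiv _ _ ?_
  intro n
  show _ = (θt : S → ℂ) (Subgroup.inclusion hQS (eQ n) * s) *
      (starRingEnd ℂ) ((θt : S → ℂ) (Subgroup.inclusion hQS (eQ n) * s))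
  rw [hincl]

/-- Weighted sums against `|θ̃|²` of functions constant on `Q`-cosets. -/
theorem sum_normSq_mul (Q D S : Subgroup Γ) [Fintype D] (hQD : Q ≤ D) (hDS : D ≤ S)
    (hSQ : S ≤ Subgroup.normalizer (Q : Set Γ)) (θt : IrrCharacter S) (θ : IrrCharacter Q)
    (hθ : ∀ q : Q, (θ : Q → ℂ) q = (θt : S → ℂ) (Subgroup.inclusion (hQD.trans hDS) q))
    (f : D → ℂ) (hf : ∀ (q : Q) (d d' : D), (d' : Γ) = (q : Γ) * (d : Γ) → f d' = f d) :
    ∑ d : D, (θt : S → ℂ) (Subgroup.inclusion hDS d) *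
      (starRingEnd ℂ) ((θt : S → ℂ) (Subgroup.inclusion hDS d)) * f d = ∑ d : D, f d := by
  classical
  haveI : Fintype Q := Fintype.ofFinite _
  obtain ⟨F, hF⟩ : ∃ F : D → ℂ, F = fun d => (θt : S → ℂ) (Subgroup.inclusion hDS d) *
      (starRingEnd ℂ) ((θt : S → ℂ) (Subgroup.inclusion hDS d)) * f d := ⟨_, rfl⟩
  have hshift : ∀ q : Q, ∑ d : D, F d = ∑ d : D, F (Subgroup.inclusion hQD q * d) := by
    intro q
    symm
    exact Fintype.sum_equiv (Equiv.mulLeft (Subgroup.inclusion hQD q)) _ _ (fun d => rfl)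
  have h1 : (Nat.card Q : ℂ) * ∑ d : D, F d = ∑ q : Q, ∑ d : D, F (Subgroup.inclusion hQD q * d) := by
    rw [Finset.sum_congr rfl (fun q _ => (hshift q).symm), Finset.sum_const, Finset.card_univ,
      nsmul_eq_mul, Nat.card_eq_fintype_card]
  have h2 : ∀ d : D, ∑ q : Q, F (Subgroup.inclusion hQD q * d) = (Nat.card Q : ℂ) * f d := by
    intro d
    have h3 := sum_coset_normSq Q S (hQD.trans hDS) hSQ θt θ hθ (Subgroup.inclusion hDS d)
    rw [← h3, Finset.sum_mul]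
    refine Finset.sum_congr rfl ?_
    intro q _
    rw [hF]
    simp only
    have e : Subgroup.inclusion hDS (Subgroup.inclusion hQD q * d) =
        Subgroup.inclusion (hQD.trans hDS) q * Subgroup.inclusion hDS d := by
      apply Subtype.ext
      rfl
    rw [e, hf q d (Subgroup.inclusion hQD q * d) rfl]
  rw [Finset.sum_comm, Finset.sum_congr rfl (fun d _ => h2 d), ← Finset.mul_sum] at h1
  have hQc : (Nat.card Q : ℂ) ≠ 0 := by exact_mod_cast Nat.card_pos.ne'
  have h4 := mul_left_cancel₀ hQc h1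
  rw [hF] at h4
  exact h4

/-- The restriction to an intermediate subgroup `Q ≤ D ≤ S` of a character of `S` restricting
irreducibly to `Q` is irreducible. -/
theorem exists_restrict_irr (Q D S : Subgroup Γ) (hQD : Q ≤ D) (hDS : D ≤ S)
    (θt : IrrCharacter S) (θ : IrrCharacter Q)
    (hθ : ∀ q : Q, (θ : Q → ℂ) q = (θt : S → ℂ) (Subgroup.inclusion (hQD.trans hDS) q)) :
    ∃ θd : IrrCharacter D, ∀ d : D, (θd : D → ℂ) d = (θt : S → ℂ) (Subgroup.inclusion hDS d) := by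
  classical
  haveI : Fintype D := Fintype.ofFinite _
  haveI : Fintype Q := Fintype.ofFinite _
  have hch : IsCharacter D (fun d : D => (θt : S → ℂ) (Subgroup.inclusion hDS d)) :=
    Helper8.isCharacter_comp (Subgroup.inclusion hDS) (IsIrrCharacter.isCharacter θt.2)
  have hirr : IsIrrCharacter Q (fun q : Q => (fun d : D => (θt : S → ℂ) (Subgroup.inclusion hDS d))
      (Subgroup.inclusion hQD q)) := by
    have : (fun q : Q => (fun d : D => (θt : S → ℂ) (Subgroup.inclusion hDS d))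
        (Subgroup.inclusion hQD q)) = (θ : Q → ℂ) := by
      funext q
      rw [hθ]
      rfl
    rw [this]
    exact θ.2
  exact ⟨⟨_, isIrrCharacter_of_comp_irr (Subgroup.inclusion hQD) hch hirr⟩, fun d => rfl⟩

/-- **Gallagher multiplicities**: `[(θ̃ β)_D, θ̃_D γ] = [β_D, γ]` for `β`, `γ` constant on the
cosets of `Q`. -/
theorem mult_twist_eq (Q D S : Subgroup Γ) (hQD : Q ≤ D) (hDS : D ≤ S)
    (hSQ : S ≤ Subgroup.normalizer (Q : Set Γ)) (θt : IrrCharacter S) (θ : IrrCharacter Q)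
    (hθ : ∀ q : Q, (θ : Q → ℂ) q = (θt : S → ℂ) (Subgroup.inclusion (hQD.trans hDS) q))
    (β ψ : IrrCharacter S) (γ ξ : IrrCharacter D) (hβ : QConst Q S (β : S → ℂ))
    (hγ : QConst Q D (γ : D → ℂ))
    (hψ : ∀ s, (ψ : S → ℂ) s = (θt : S → ℂ) s * (β : S → ℂ) s)
    (hξ : ∀ d, (ξ : D → ℂ) d = (θt : S → ℂ) (Subgroup.inclusion hDS d) * (γ : D → ℂ) d) :
    mult (Subgroup.inclusion hDS) ψ ξ = mult (Subgroup.inclusion hDS) β γ := by
  classical
  haveI : Fintype D := Fintype.ofFinite _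
  apply mult_eq_of
  rw [← mult_spec (Subgroup.inclusion hDS) β γ]
  unfold classInner
  congr 1
  have h1 := sum_normSq_mul Q D S hQD hDS hSQ θt θ hθ
    (fun d => (β : S → ℂ) (Subgroup.inclusion hDS d) * (starRingEnd ℂ) ((γ : D → ℂ) d)) ?_
  · rw [← h1]
    refine Finset.sum_congr rfl ?_
    intro d _
    show (ψ : S → ℂ) (Subgroup.inclusion hDS d) * (starRingEnd ℂ) ((ξ : D → ℂ) d) = _
    rw [hψ, hξ, map_mul]
    ring
  · intro q d d' hd
    have hdN : (d : Γ) ∈ Subgroup.normalizer (Q : Set Γ) := hSQ (hDS d.2)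
    have hmem : (d : Γ)⁻¹ * (d' : Γ) ∈ Q := by
      rw [hd]
      have h2 : (d : Γ)⁻¹ * (q : Γ) * (d : Γ)⁻¹⁻¹ ∈ Q :=
        (Subgroup.mem_normalizer_iff.mp (Subgroup.inv_mem _ hdN) (q : Γ)).mp q.2
      rw [inv_inv] at h2
      rw [← mul_assoc]
      exact h2
    have e1 : (β : S → ℂ) (Subgroup.inclusion hDS d') = (β : S → ℂ) (Subgroup.inclusion hDS d) :=
      hβ (Subgroup.inclusion hDS d) (Subgroup.inclusion hDS d') hmem
    have e2 : (γ : D → ℂ) d' = (γ : D → ℂ) d := hγ d d' hmem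
    show (β : S → ℂ) (Subgroup.inclusion hDS d') * (starRingEnd ℂ) ((γ : D → ℂ) d') =
      (β : S → ℂ) (Subgroup.inclusion hDS d) * (starRingEnd ℂ) ((γ : D → ℂ) d)
    rw [e1, e2]

end CosetSum

end Cfsg.Agent.Helper29.RelGlaub
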