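import Mathlib
import Cfsg.Agent.Helper24.GallagherDet
import Cfsg.Agent.Helper24.GlaubCyc
import Cfsg.Agent.Helper24.SmallDegree
import Cfsg.Agent.Helper24.GlaubOver
import Cfsg.Agent.Helper29.RelGlaubC2
import Cfsg.Agent.Helper29.RelGlaubD

/-!
# Relative Glauberman correspondence, part E: invariant canonical extensions
-/

set_option autoImplicit false
set_option linter.style.haveILetI false

namespace Cfsg.Agent.Helper29.RelGlaub

open Cfsg Cfsg.Agent.Helper24

universe u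

section DetOrder

variable {H H' : Type u} [Group H] [Group H'] [Finite H] [Finite H']

/-- The determinantal order is invariant under group isomorphisms. -/
theorem detOrder_comp_mulEquiv (e : H ≃* H') {χ : H' → ℂ} (hχ : IsIrrCharacter H' χ) :
    detOrder (fun h => χ (e h)) = detOrder χ := by
  have hirr : IsIrrCharacter H (fun h => χ (e.toMonoidHom h)) :=
    Helper8.isIrrCharacter_comp_surjective e.toMonoidHom e.surjective hχ
  have h1 : detChar (fun h => χ (e h)) = fun h => detChar χ (e h) := by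
    funext h
    exact detChar_comp e.toMonoidHom hχ hirr h
  unfold detOrder
  rw [h1]
  let Φ : (H' → ℂ) →* (H → ℂ) :=
    { toFun := fun F h => F (e h), map_one' := rfl, map_mul' := fun _ _ => rfl }
  have hΦ : Function.Injective Φ := by
    intro F F' hFF
    funext h'
    have := congrFun hFF (e.symm h')
    simpa [Φ] using this
  exact orderOf_injective Φ hΦ (detChar χ)

end DetOrder

section CanExt

variable {Γ : Type u} [Group Γ] [Finite Γ]

/-- **Invariant extension.** A `T`-invariant `θ ∈ Irr(Q)`, `Q ⊴ T` with `(|T : Q|, |Q|) = 1`, has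
an extension to `T` that is invariant under every element normalizing `T` and `Q` and fixing
`θ`. -/
theorem exists_invariant_extension (Q T : Subgroup Γ) (hQT : Q ≤ T)
    (hTQ : T ≤ Subgroup.normalizer (Q : Set Γ))
    (hcop : (Q.relIndex T).Coprime (Nat.card Q)) (θ : IrrCharacter Q)
    (hinv : ∀ t ∈ T, InvAt Q (θ : Q → ℂ) t) :
    ∃ θt : IrrCharacter T, (∀ q : Q, (θ : Q → ℂ) q = (θt : T → ℂ) (Subgroup.inclusion hQT q)) ∧
      ∀ x : Γ, x ∈ Subgroup.normalizer (T : Set Γ) → x ∈ Subgroup.normalizer (Q : Set Γ) →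
        InvAt Q (θ : Q → ℂ) x → InvAt T (θt : T → ℂ) x := by
  classical
  haveI : Fintype T := Fintype.ofFinite _
  haveI : Fintype Q := Fintype.ofFinite _
  haveI hn : (Q.subgroupOf T).Normal := (Subgroup.normal_subgroupOf_iff_le_normalizer hQT).mpr hTQ
  obtain ⟨eQ, heQ⟩ : ∃ eQ : ↥(Q.subgroupOf T) ≃* ↥Q, eQ = Subgroup.subgroupOfEquivOfLe hQT :=
    ⟨_, rfl⟩
  have heQv : ∀ h : ↥(Q.subgroupOf T), ((eQ h : Q) : Γ) = ((h : T) : Γ) := by
    intro h; rw [heQ]; rfl
  obtain ⟨ϑ, hϑ⟩ : ∃ ϑ : ↥(Q.subgroupOf T) → ℂ, ϑ = fun n => (θ : Q → ℂ) (eQ n) := ⟨_, rfl⟩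
  have hϑirr : IsIrrCharacter ↥(Q.subgroupOf T) ϑ := by
    rw [hϑ]; exact (pullIrr eQ θ).2
  have hinvN : ∀ (g : T) (n : ↥(Q.subgroupOf T)),
      ϑ ⟨g * n * g⁻¹, hn.conj_mem (n : T) n.2 g⟩ = ϑ n := by
    intro g n
    rw [hϑ]
    refine hinv (g : Γ) g.2 (eQ n) (eQ ⟨g * n * g⁻¹, hn.conj_mem (n : T) n.2 g⟩) ?_
    rw [heQv, heQv]
    rfl
  have hd : ϑ 1 = (irrDeg θ : ℂ) := by
    rw [hϑ]
    simp only [map_one]
    exact irrDeg_spec θ
  have hcardN : Nat.card ↥(Q.subgroupOf T) = Nat.card Q := Nat.card_congr eQ.toEquiv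
  have hidx : (Q.subgroupOf T).index = Q.relIndex T := rfl
  have hdetdvd : detOrder ϑ ∣ Nat.card Q := by
    rw [← hcardN]; exact detOrder_dvd_card hϑirr
  have hc : Nat.Coprime (Q.subgroupOf T).index (detOrder ϑ * irrDeg θ) := by
    rw [hidx]
    apply Nat.Coprime.mul_right
    · exact Nat.Coprime.coprime_dvd_right hdetdvd hcop
    · exact Nat.Coprime.coprime_dvd_right (irrDeg_dvd_card θ) hcop
  obtain ⟨χ₀, ⟨hχ₀, hχ₀N, hχ₀det⟩, huniq⟩ :=
    coprime_unique_extension (Q.subgroupOf T) ϑ hϑirr hinvN (irrDeg θ) hd hc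
  refine ⟨⟨χ₀, hχ₀⟩, ?_, ?_⟩
  · intro q
    have h1 := hχ₀N ⟨Subgroup.inclusion hQT q, Subgroup.mem_subgroupOf.mpr q.2⟩
    rw [hϑ] at h1
    simp only at h1
    have e : eQ ⟨Subgroup.inclusion hQT q, Subgroup.mem_subgroupOf.mpr q.2⟩ = q := by
      apply Subtype.ext
      rw [heQv]
      rfl
    rw [e] at h1
    exact h1.symm
  · intro x hxT hxQ hxθ
    rw [invAt_iff_pullIrr T x hxT ⟨χ₀, hχ₀⟩]
    apply Subtype.ext
    show (pullIrr (conjE T x hxT) ⟨χ₀, hχ₀⟩ : T → ℂ) = χ₀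
    apply huniq
    · exact (pullIrr (conjE T x hxT) ⟨χ₀, hχ₀⟩).2
    · intro n
      rw [pullIrr_apply]
      show χ₀ (conjE T x hxT (n : T)) = ϑ n
      -- the conjugate lies in `Q`
      have hnQ : ((n : T) : Γ) ∈ Q := Subgroup.mem_subgroupOf.mp n.2
      have hmemQ : (x * ((n : T) : Γ) * x⁻¹) ∈ Q :=
        (Subgroup.mem_normalizer_iff.mp hxQ _).mp hnQ
      have hmemN : conjE T x hxT (n : T) ∈ Q.subgroupOf T := by
        rw [Subgroup.mem_subgroupOf, conjE_apply]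
        exact hmemQ
      have h1 := hχ₀N ⟨conjE T x hxT (n : T), hmemN⟩
      have h2 : χ₀ (conjE T x hxT (n : T)) = ϑ ⟨conjE T x hxT (n : T), hmemN⟩ := h1
      rw [h2, hϑ]
      refine hxθ (eQ n) (eQ ⟨conjE T x hxT (n : T), hmemN⟩) ?_
      rw [heQv, heQv]
      rfl
    · have h1 : detOrder (pullIrr (conjE T x hxT) ⟨χ₀, hχ₀⟩ : T → ℂ) = detOrder χ₀ :=
        detOrder_comp_mulEquiv (conjE T x hxT) hχ₀
      rw [h1, hχ₀det, hidx]
      exact Nat.Coprime.coprime_dvd_right hdetdvd hcop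

end CanExt

end Cfsg.Agent.Helper29.RelGlaub
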