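import Mathlib
import Cfsg.Agent.Helper29.RelGlaubE

/-!
# Relative Glauberman correspondence, part F: Gallagher parameters of the characters over `θ`
-/

set_option autoImplicit false
set_option linter.style.haveILetI false

namespace Cfsg.Agent.Helper29.RelGlaub

open Cfsg Cfsg.Agent.Helper24

universe u

section GRel

variable {Γ : Type u} [Group Γ] [Finite Γ]

/-- `β ∈ Irr(S/Q)` is the Gallagher parameter of `χ ∈ Irr(L)`: `θ̃ β` is a constituent of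
`χ_S`. -/
def GRel (Q : Subgroup Γ) {S L : Subgroup Γ} (hSL : S ≤ L) (θt : IrrCharacter S)
    (χ : IrrCharacter L) (β : IrrCharacter S) : Prop :=
  QConst Q S (β : S → ℂ) ∧ ∃ ψ : IrrCharacter S,
    (∀ s, (ψ : S → ℂ) s = (θt : S → ℂ) s * (β : S → ℂ) s) ∧
      mult (Subgroup.inclusion hSL) χ ψ ≠ 0

/-- `θ̃ β` lies over `θ`. -/
theorem twist_over (Q S : Subgroup Γ) (hQS : Q ≤ S) (θ : IrrCharacter Q) (θt : IrrCharacter S)
    (hθt : ∀ q : Q, (θ : Q → ℂ) q = (θt : S → ℂ) (Subgroup.inclusion hQS q))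
    (β ψ : IrrCharacter S) (hβ : QConst Q S (β : S → ℂ))
    (hψ : ∀ s, (ψ : S → ℂ) s = (θt : S → ℂ) s * (β : S → ℂ) s) :
    mult (Subgroup.inclusion hQS) ψ θ ≠ 0 := by
  classical
  haveI : Fintype Q := Fintype.ofFinite _
  have h1 : (fun q : Q => (ψ : S → ℂ) (Subgroup.inclusion hQS q)) =
      (irrDeg β : ℂ) • (θ : Q → ℂ) := by
    funext q
    rw [hψ, ← hθt, Pi.smul_apply, smul_eq_mul, mul_comm]
    congr 1
    rw [← irrDeg_spec β]
    refine hβ 1 (Subgroup.inclusion hQS q) ?_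
    simp
  have h2 : mult (Subgroup.inclusion hQS) ψ θ = irrDeg β := by
    apply mult_eq_of
    rw [h1, classInner_smul_left, classInner_irr, if_pos rfl, mul_one]
  rw [h2]
  exact (irrDeg_pos β).ne'

variable (Q S L : Subgroup Γ) (hQS : Q ≤ S) (hSL : S ≤ L)
  (hLQ : L ≤ Subgroup.normalizer (Q : Set Γ)) (θ : IrrCharacter Q)
  (hS : ∀ g ∈ L, g ∈ S ↔ InvAt Q (θ : Q → ℂ) g) (θt : IrrCharacter S)
  (hθt : ∀ q : Q, (θ : Q → ℂ) q = (θt : S → ℂ) (Subgroup.inclusion hQS q))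

include hLQ hS hθt in
theorem grel_exists (χ : IrrCharacter L)
    (hχ : mult (Subgroup.inclusion (hQS.trans hSL)) χ θ ≠ 0) :
    ∃ β : IrrCharacter S, GRel Q hSL θt χ β := by
  obtain ⟨ψ, hψθ, hψ1, -⟩ := (clifford_corr_amb Q S L hQS hSL hLQ θ hS).1 χ hχ
  obtain ⟨β, hβ, hψβ⟩ := (gallagher_kernel Q S hQS (hSL.trans hLQ) θt θ hθt).2.1 ψ hψθ
  exact ⟨β, hβ, ψ, hψβ, by rw [hψ1]; exact one_ne_zero⟩

include hQS hθt in
omit [Finite Γ] in
theorem grel_over [Finite Γ] (χ : IrrCharacter L) (β : IrrCharacter S) (h : GRel Q hSL θt χ β) :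
    mult (Subgroup.inclusion (hQS.trans hSL)) χ θ ≠ 0 := by
  obtain ⟨hβ, ψ, hψ, hχψ⟩ := h
  exact over_of_mult hQS hSL χ ψ θ hχψ (twist_over Q S hQS θ θt hθt β ψ hβ hψ)

include hLQ hS hθt in
theorem grel_mult (χ : IrrCharacter L) (β ψ : IrrCharacter S) (hβ : QConst Q S (β : S → ℂ))
    (hψ : ∀ s, (ψ : S → ℂ) s = (θt : S → ℂ) s * (β : S → ℂ) s)
    (hχψ : mult (Subgroup.inclusion hSL) χ ψ ≠ 0) :
    mult (Subgroup.inclusion hSL) χ ψ = 1 := by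
  have hψθ := twist_over Q S hQS θ θt hθt β ψ hβ hψ
  have hχθ := over_of_mult hQS hSL χ ψ θ hχψ hψθ
  obtain ⟨ψ₀, -, hψ1, huniq⟩ := (clifford_corr_amb Q S L hQS hSL hLQ θ hS).1 χ hχθ
  rw [huniq ψ hψθ hχψ]
  exact hψ1

include hLQ hS hθt in
theorem grel_unique_right (χ : IrrCharacter L) (β β' : IrrCharacter S)
    (h : GRel Q hSL θt χ β) (h' : GRel Q hSL θt χ β') : β = β' := by
  have hχθ := grel_over Q S L hQS hSL θ θt hθt χ β h
  obtain ⟨hβ, ψ, hψ, hχψ⟩ := h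
  obtain ⟨hβ', ψ', hψ', hχψ'⟩ := h'
  obtain ⟨ψ₀, -, -, huniq⟩ := (clifford_corr_amb Q S L hQS hSL hLQ θ hS).1 χ hχθ
  have e1 := huniq ψ (twist_over Q S hQS θ θt hθt β ψ hβ hψ) hχψ
  have e2 := huniq ψ' (twist_over Q S hQS θ θt hθt β' ψ' hβ' hψ') hχψ'
  apply (gallagher_kernel Q S hQS (hSL.trans hLQ) θt θ hθt).2.2 β β' hβ hβ'
  intro s
  rw [← hψ, ← hψ', e1, e2]

include hLQ hS hθt in
theorem grel_exists_left (β : IrrCharacter S) (hβ : QConst Q S (β : S → ℂ)) :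
    ∃ χ : IrrCharacter L, GRel Q hSL θt χ β := by
  obtain ⟨ψ, hψ⟩ := (gallagher_kernel Q S hQS (hSL.trans hLQ) θt θ hθt).1 β hβ
  have hψθ := twist_over Q S hQS θ θt hθt β ψ hβ hψ
  obtain ⟨χ, hχ⟩ := (clifford_corr_amb Q S L hQS hSL hLQ θ hS).2.1 ψ hψθ
  exact ⟨χ, hβ, ψ, hψ, hχ⟩

include hLQ hS hθt in
theorem grel_unique_left (χ χ' : IrrCharacter L) (β : IrrCharacter S)
    (h : GRel Q hSL θt χ β) (h' : GRel Q hSL θt χ' β) : χ = χ' := by
  obtain ⟨hβ, ψ, hψ, hχψ⟩ := h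
  obtain ⟨-, ψ', hψ', hχψ'⟩ := h'
  have e : ψ' = ψ := by
    apply Subtype.ext
    funext s
    rw [hψ, hψ']
  rw [e] at hχψ'
  exact (clifford_corr_amb Q S L hQS hSL hLQ θ hS).2.2 χ χ' ψ
    (twist_over Q S hQS θ θt hθt β ψ hβ hψ) hχψ hχψ'

omit [Finite Γ] in
/-- Conjugating a `Q`-constant function by an element normalizing `Q`. -/
theorem qConst_pullIrr_conjE (x : Γ) (hxS : x ∈ Subgroup.normalizer (S : Set Γ))
    (hxQ : x ∈ Subgroup.normalizer (Q : Set Γ)) (β : IrrCharacter S)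
    (hβ : QConst Q S (β : S → ℂ)) : QConst Q S (pullIrr (conjE S x hxS) β : S → ℂ) := by
  intro l l' h
  rw [pullIrr_apply, pullIrr_apply]
  refine hβ _ _ ?_
  rw [conjE_apply, conjE_apply]
  have h1 : (x * (l : Γ) * x⁻¹)⁻¹ * (x * (l' : Γ) * x⁻¹) = x * ((l : Γ)⁻¹ * (l' : Γ)) * x⁻¹ := by
    group
  rw [h1]
  exact (Subgroup.mem_normalizer_iff.mp hxQ _).mp h

omit hQS in
/-- Conjugation transports Gallagher parameters. -/
theorem grel_conj (x : Γ) (hxS : x ∈ Subgroup.normalizer (S : Set Γ))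
    (hxL : x ∈ Subgroup.normalizer (L : Set Γ)) (hxQ : x ∈ Subgroup.normalizer (Q : Set Γ))
    (hxθt : InvAt S (θt : S → ℂ) x) (χ : IrrCharacter L) (β : IrrCharacter S)
    (h : GRel Q hSL θt χ β) :
    GRel Q hSL θt (pullIrr (conjE L x hxL) χ) (pullIrr (conjE S x hxS) β) := by
  obtain ⟨hβ, ψ, hψ, hχψ⟩ := h
  refine ⟨qConst_pullIrr_conjE Q S x hxS hxQ β hβ, pullIrr (conjE S x hxS) ψ, ?_, ?_⟩
  · intro s
    rw [pullIrr_apply, pullIrr_apply, hψ]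
    congr 1
    exact hxθt s (conjE S x hxS s) rfl
  · rw [mult_conj_invariant hSL x hxS hxL χ ψ]
    exact hχψ

include hLQ hS hθt in
/-- Invariance of `χ` and of its Gallagher parameter are equivalent. -/
theorem grel_invAt_iff (x : Γ) (hxS : x ∈ Subgroup.normalizer (S : Set Γ))
    (hxL : x ∈ Subgroup.normalizer (L : Set Γ)) (hxQ : x ∈ Subgroup.normalizer (Q : Set Γ))
    (hxθt : InvAt S (θt : S → ℂ) x) (χ : IrrCharacter L) (β : IrrCharacter S)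
    (h : GRel Q hSL θt χ β) :
    InvAt L (χ : L → ℂ) x ↔ InvAt S (β : S → ℂ) x := by
  have hc := grel_conj Q S L hSL θt x hxS hxL hxQ hxθt χ β h
  rw [invAt_iff_pullIrr L x hxL χ, invAt_iff_pullIrr S x hxS β]
  constructor
  · intro hχ
    rw [hχ] at hc
    exact grel_unique_right Q S L hQS hSL hLQ θ hS θt hθt χ _ _ hc h
  · intro hβ
    rw [hβ] at hc
    exact grel_unique_left Q S L hQS hSL hLQ θ hS θt hθt _ _ β hc h

end GRel

section FormulaM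

variable {Γ : Type u} [Group Γ] [Finite Γ]

variable (Q D T C K : Subgroup Γ) (hQD : Q ≤ D) (hDT : D ≤ T) (hDC : D ≤ C) (hTK : T ≤ K)
  (hCK : C ≤ K) (hKQ : K ≤ Subgroup.normalizer (Q : Set Γ)) (θ : IrrCharacter Q)
  (hT : ∀ g ∈ K, g ∈ T ↔ InvAt Q (θ : Q → ℂ) g) (hD : ∀ g ∈ C, g ∈ D ↔ InvAt Q (θ : Q → ℂ) g)
  (θt : IrrCharacter T)
  (hθt : ∀ q : Q, (θ : Q → ℂ) q = (θt : T → ℂ) (Subgroup.inclusion (hQD.trans hDT) q))
  (θd : IrrCharacter D)
  (hθd : ∀ d : D, (θd : D → ℂ) d = (θt : T → ℂ) (Subgroup.inclusion hDT d))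

include hKQ hT hD hθt hθd in
/-- **The multiplicity formula**: the multiplicity of `ξ ∈ Irr(C | θ)` in `χ ∈ Irr(K | θ)` equals
that of the Gallagher parameters. -/
theorem mult_eq_mult_param (χ : IrrCharacter K) (β : IrrCharacter T) (ξ : IrrCharacter C)
    (γ : IrrCharacter D) (h1 : GRel Q hTK θt χ β) (h2 : GRel Q hDC θd ξ γ) :
    mult (Subgroup.inclusion hCK) χ ξ = mult (Subgroup.inclusion hDT) β γ := by
  classical
  haveI : Fintype (IrrCharacter T) := Fintype.ofFinite _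
  haveI : Fintype (IrrCharacter C) := Fintype.ofFinite _
  have hθd' : ∀ q : Q, (θ : Q → ℂ) q = (θd : D → ℂ) (Subgroup.inclusion hQD q) := by
    intro q
    rw [hθd, hθt]
    rfl
  have hχθ := grel_over Q T K (hQD.trans hDT) hTK θ θt hθt χ β h1
  obtain ⟨hβ, ψ, hψ, hχψ⟩ := h1
  obtain ⟨hγ, ξ₀, hξ₀, hξξ₀⟩ := h2
  have hξ₀' : ∀ d, (ξ₀ : D → ℂ) d =
      (θt : T → ℂ) (Subgroup.inclusion hDT d) * (γ : D → ℂ) d := by
    intro d; rw [hξ₀, hθd]
  have GK4 : mult (Subgroup.inclusion hDT) ψ ξ₀ = mult (Subgroup.inclusion hDT) β γ :=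
    mult_twist_eq Q D T hQD hDT (hTK.trans hKQ) θt θ hθt β ψ γ ξ₀ hβ hγ hψ hξ₀'
  have hχψ1 : mult (Subgroup.inclusion hTK) χ ψ = 1 :=
    grel_mult Q T K (hQD.trans hDT) hTK hKQ θ hT θt hθt χ β ψ hβ hψ hχψ
  have hξξ₀1 : mult (Subgroup.inclusion hDC) ξ ξ₀ = 1 :=
    grel_mult Q D C hQD hDC (hCK.trans hKQ) θ hD θd hθd' ξ γ ξ₀ hγ hξ₀ hξξ₀
  have hξ₀θ : mult (Subgroup.inclusion hQD) ξ₀ θ ≠ 0 :=
    twist_over Q D hQD θ θd hθd' γ ξ₀ hγ hξ₀
  have hψθ : mult (Subgroup.inclusion (hQD.trans hDT)) ψ θ ≠ 0 :=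
    twist_over Q T (hQD.trans hDT) θ θt hθt β ψ hβ hψ
  -- first expansion, through `T`
  have E1 : mult (Subgroup.inclusion (hDT.trans hTK)) χ ξ₀ =
      mult (Subgroup.inclusion hTK) χ ψ * mult (Subgroup.inclusion hDT) ψ ξ₀ := by
    have h3 := mult_trans (Subgroup.inclusion hDT) (Subgroup.inclusion hTK) χ ξ₀
    have h4 : (Subgroup.inclusion hTK).comp (Subgroup.inclusion hDT) =
        Subgroup.inclusion (hDT.trans hTK) := rfl
    rw [h4] at h3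
    rw [h3]
    apply Finset.sum_eq_single ψ
    · intro ψ' _ hne
      by_contra hcon
      have hA : mult (Subgroup.inclusion hTK) χ ψ' ≠ 0 := fun h0 => hcon (by rw [h0, zero_mul])
      have hB : mult (Subgroup.inclusion hDT) ψ' ξ₀ ≠ 0 := fun h0 => hcon (by rw [h0, mul_zero])
      have hψ'θ := over_of_mult hQD hDT ψ' ξ₀ θ hB hξ₀θ
      obtain ⟨ψ₀, -, -, huniq⟩ :=
        (clifford_corr_amb Q T K (hQD.trans hDT) hTK hKQ θ hT).1 χ hχθ
      exact hne ((huniq ψ' hψ'θ hA).trans (huniq ψ hψθ hχψ).symm)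
    · intro h; exact absurd (Finset.mem_univ _) h
  -- second expansion, through `C`
  have E2 : mult (Subgroup.inclusion (hDC.trans hCK)) χ ξ₀ =
      mult (Subgroup.inclusion hCK) χ ξ * mult (Subgroup.inclusion hDC) ξ ξ₀ := by
    have h3 := mult_trans (Subgroup.inclusion hDC) (Subgroup.inclusion hCK) χ ξ₀
    have h4 : (Subgroup.inclusion hCK).comp (Subgroup.inclusion hDC) =
        Subgroup.inclusion (hDC.trans hCK) := rfl
    rw [h4] at h3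
    rw [h3]
    apply Finset.sum_eq_single ξ
    · intro ξ' _ hne
      by_contra hcon
      have hB : mult (Subgroup.inclusion hDC) ξ' ξ₀ ≠ 0 := fun h0 => hcon (by rw [h0, mul_zero])
      exact hne ((clifford_corr_amb Q D C hQD hDC (hCK.trans hKQ) θ hD).2.2 ξ' ξ ξ₀ hξ₀θ hB
        hξξ₀)
    · intro h; exact absurd (Finset.mem_univ _) h
  have E3 : mult (Subgroup.inclusion hTK) χ ψ * mult (Subgroup.inclusion hDT) ψ ξ₀ =
      mult (Subgroup.inclusion hCK) χ ξ * mult (Subgroup.inclusion hDC) ξ ξ₀ := E1.symm.trans E2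
  rw [hχψ1, hξξ₀1, one_mul, mul_one, GK4] at E3
  exact E3.symm

end FormulaM

end Cfsg.Agent.Helper29.RelGlaub
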