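import Mathlib
import Cfsg.Agent.Lead.GlaubermanRel
import Cfsg.Agent.Helper24.RealOrbits
import Cfsg.Agent.Helper24.GlaubRestrict
import Cfsg.Agent.Helper24.OrbitSum
import Cfsg.Agent.Helper29.RealNormA
import Cfsg.Agent.Helper29.RelGlaubF

/-!
# Relative Glauberman correspondence, part G: transitivity on invariant constituents and
the degree congruence
-/

set_option autoImplicit false
set_option linter.style.haveILetI false

namespace Cfsg.Agent.Helper29.RelGlaub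

open Cfsg Cfsg.Agent.Helper24

universe u

section Trans

variable {Γ : Type u} [Group Γ] [Finite Γ] {p : ℕ} [hp : Fact p.Prime]

/-- **Glauberman's lemma for constituents.** `C` acts transitively on the `P`-invariant
constituents of `χ_Q`. -/
theorem exists_conj_invariant_constituents (Q : Subgroup Γ) [hQ : Q.Normal] (P K C : Subgroup Γ)
    (hP : IsPGroup p P) (hPK : P ≤ Subgroup.normalizer (K : Set Γ)) (hQK : Q ≤ K)
    (hQsyl : ¬ p ∣ Q.relIndex K)
    (hC : ∀ k : Γ, k ∈ C ↔ (k ∈ K ∧ ∀ x ∈ P, x * k * x⁻¹ * k⁻¹ ∈ Q))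
    (χ : IrrCharacter K) (hχ : ∀ x ∈ P, InvAt K (χ : K → ℂ) x) (θ θ' : IrrCharacter Q)
    (hθ : mult (Subgroup.inclusion hQK) χ θ ≠ 0) (hθ' : mult (Subgroup.inclusion hQK) χ θ' ≠ 0)
    (hθP : ∀ x ∈ P, InvAt Q (θ : Q → ℂ) x) (hθ'P : ∀ x ∈ P, InvAt Q (θ' : Q → ℂ) x) :
    ∃ c ∈ C, ∀ q q' : Q, (q' : Γ) = c * (q : Γ) * c⁻¹ → (θ' : Q → ℂ) q' = (θ : Q → ℂ) q := by
  classical
  have hp' := hp.out
  have hNQ : ∀ g : Γ, g ∈ Subgroup.normalizer (Q : Set Γ) := by
    intro g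
    rw [Subgroup.normalizer_eq_top]
    exact Subgroup.mem_top g
  letI act0 : MulAction Γ (IrrCharacter Q) := irrConjAction Q
  obtain ⟨φ, hφ⟩ : ∃ φ : Γ →* Equiv.Perm (IrrCharacter Q),
      φ = MulAction.toPermHom Γ (IrrCharacter Q) := ⟨_, rfl⟩
  have hφapp : ∀ (g : Γ) (η : IrrCharacter Q), φ g η = (irrConjAction Q).smul g η := by
    intro g η; rw [hφ]; rfl
  have hker : Q ≤ φ.ker := by
    intro k hk
    rw [MonoidHom.mem_ker]
    apply Equiv.ext
    intro η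
    rw [hφapp, Equiv.Perm.one_apply]
    exact irr_smul_of_mem Q k hk η
  obtain ⟨π, hπ⟩ : ∃ π : Γ →* Γ ⧸ Q, π = QuotientGroup.mk' Q := ⟨_, rfl⟩
  have hπker : ∀ g : Γ, π g = 1 ↔ g ∈ Q := by
    intro g; rw [hπ]; exact QuotientGroup.eq_one_iff g
  obtain ⟨φb, hφb⟩ : ∃ φb : Γ ⧸ Q →* Equiv.Perm (IrrCharacter Q), ∀ g, φb (π g) = φ g := by
    refine ⟨QuotientGroup.lift Q φ hker, ?_⟩
    intro g; rw [hπ]; rfl
  letI act : MulAction (Γ ⧸ Q) (IrrCharacter Q) := MulAction.compHom (IrrCharacter Q) φb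
  have hact : ∀ (g : Γ) (η : IrrCharacter Q), (π g) • η = (irrConjAction Q).smul g η := by
    intro g η
    show φb (π g) η = _
    rw [hφb, hφapp]
  -- hypotheses of Glauberman's lemma
  have hA : P.map π ≤ Subgroup.normalizer ((K.map π : Subgroup (Γ ⧸ Q)) : Set (Γ ⧸ Q)) :=
    (Subgroup.map_mono hPK).trans (Subgroup.le_normalizer_map π)
  have hP' : IsPGroup p (P.map π) := hP.map π
  have hcardK : Nat.card (K.map π) = Q.relIndex K := by
    rw [← Subgroup.relIndex_bot_left, ← Subgroup.relIndex_comap, MonoidHom.comap_bot, hπ,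
      QuotientGroup.ker_mk']
  have hcop : (Nat.card (P.map π)).Coprime (Nat.card (K.map π)) := by
    obtain ⟨a, ha⟩ := IsPGroup.iff_card.mp hP'
    rw [ha, hcardK]
    exact Nat.Coprime.pow_left a ((Nat.Prime.coprime_iff_not_dvd hp').mpr hQsyl)
  have hsolv : Group.IsSolvable (P.map π) ∨ Group.IsSolvable (K.map π) :=
    Or.inl (PPK.isSolvable_of_isPGroup (P.map π) hP')
  obtain ⟨Ω, hΩ⟩ : ∃ Ω : Set (IrrCharacter Q),
      Ω = {η | mult (Subgroup.inclusion hQK) χ η ≠ 0} := ⟨_, rfl⟩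
  have hΩinv : ∀ g ∈ K.map π ⊔ P.map π, ∀ η ∈ Ω, g • η ∈ Ω := by
    intro g hg η hη
    rw [← Subgroup.map_sup] at hg
    obtain ⟨g, hg, rfl⟩ := hg
    have hgs := sup_le_invStab hPK χ hχ hg
    obtain ⟨hgK, hgχ⟩ := mem_invStab.mp hgs
    rw [hΩ] at hη ⊢
    show mult (Subgroup.inclusion hQK) χ ((π g) • η) ≠ 0
    rw [hact]
    have h1 := mult_conj_invariant hQK g (hNQ g) hgK χ ((irrConjAction Q).smul g η)
    rw [(invAt_iff_pullIrr K g hgK χ).mp hgχ] at h1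
    have h2 : pullIrr (conjE Q g (hNQ g)) ((irrConjAction Q).smul g η) = η :=
      (RealNorm.rel_iff_pullIrr Q g (hNQ g) η _).mp (RealNorm.rel_of_smul_eq Q η _ g rfl)
    rw [h2] at h1
    rw [← h1]
    exact hη
  have htrans : ∀ η ∈ Ω, ∀ η' ∈ Ω, ∃ k ∈ K.map π, k • η = η' := by
    intro η hη η' hη'
    rw [hΩ] at hη hη'
    have hKQ : K ≤ Subgroup.normalizer (Q : Set Γ) := fun g _ => hNQ g
    obtain ⟨g, hg, hgη⟩ := clifford_conj_amb hQK hKQ χ η η' hη hη'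
    refine ⟨π g, Subgroup.mem_map_of_mem π hg, ?_⟩
    rw [hact]
    apply RealNorm.smul_eq_of_rel
    intro k k' hk
    rw [← hgη, pullIrr_apply]
    have e : conjE Q g⁻¹ (Subgroup.inv_mem _ (hKQ hg)) k' = k := by
      apply Subtype.ext
      rw [conjE_apply, hk]
      group
    rw [e]
  have hfix : ∀ η : IrrCharacter Q, (∀ x ∈ P, InvAt Q (η : Q → ℂ) x) →
      ∀ a ∈ P.map π, a • η = η := by
    intro η hη a ha
    obtain ⟨x, hx, rfl⟩ := ha
    rw [hact]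
    exact RealNorm.smul_eq_of_rel Q η η x (hη x hx)
  obtain ⟨c, hc, hcθ⟩ := (Lead.glauberman_rel (K.map π) (P.map π) hA hcop hsolv Ω hΩinv htrans).2
    θ (by rw [hΩ]; exact hθ) θ' (by rw [hΩ]; exact hθ') (hfix θ hθP) (hfix θ' hθ'P)
  obtain ⟨hcK, hcP⟩ := hc
  obtain ⟨k, hk, rfl⟩ := hcK
  refine ⟨k, ?_, ?_⟩
  · rw [hC]
    refine ⟨hk, ?_⟩
    intro x hx
    have hcP' : π k ∈ Subgroup.centralizer ((P.map π : Subgroup (Γ ⧸ Q)) : Set (Γ ⧸ Q)) := hcP
    rw [Subgroup.mem_centralizer_iff] at hcP'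
    have h1 := hcP' (π x) (Subgroup.mem_map_of_mem π hx)
    rw [← hπker]
    rw [map_mul, map_mul, map_mul, map_inv, map_inv, h1]
    group
  · rw [hact] at hcθ
    exact RealNorm.rel_of_smul_eq Q θ θ' k hcθ

end Trans

section Degree

variable {Γ : Type u} [Group Γ] [Finite Γ] {p : ℕ} [hp : Fact p.Prime]

omit hp in
/-- The degree of `χ` is the sum of the degrees of the constituents of a restriction. -/
theorem irrDeg_eq_sum_mult {A B : Subgroup Γ} (hAB : A ≤ B) (χ : IrrCharacter B)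
    [Fintype (IrrCharacter A)] :
    irrDeg χ = ∑ ξ : IrrCharacter A, mult (Subgroup.inclusion hAB) χ ξ * irrDeg ξ := by
  classical
  haveI : Fintype A := Fintype.ofFinite _
  have h1 : (fun a : A => (χ : B → ℂ) (Subgroup.inclusion hAB a)) =
      ∑ ξ : IrrCharacter A, (mult (Subgroup.inclusion hAB) χ ξ : ℂ) • (ξ : A → ℂ) := by
    have h2 := IsCharacter.eq_sum_classInner
      (Helper8.isCharacter_comp (Subgroup.inclusion hAB) (IsIrrCharacter.isCharacter χ.2))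
    refine h2.trans ?_
    refine Finset.sum_congr rfl ?_
    intro ξ _
    rw [mult_spec]
  have h3 := congrFun h1 1
  simp only [map_one, Finset.sum_apply, Pi.smul_apply, smul_eq_mul] at h3
  rw [irrDeg_spec] at h3
  have h4 : (irrDeg χ : ℂ) =
      ((∑ ξ : IrrCharacter A, mult (Subgroup.inclusion hAB) χ ξ * irrDeg ξ : ℕ) : ℂ) := by
    rw [h3]
    push_cast
    refine Finset.sum_congr rfl ?_
    intro ξ _
    rw [irrDeg_spec]
  exact_mod_cast h4

omit hp in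
theorem irrDeg_pullIrr {H H' : Type u} [Group H] [Group H'] [Finite H] [Finite H'] (e : H ≃* H')
    (ξ : IrrCharacter H') : irrDeg (pullIrr e ξ) = irrDeg ξ := by
  have h1 := irrDeg_spec (pullIrr e ξ)
  rw [pullIrr_apply, map_one, irrDeg_spec] at h1
  exact_mod_cast h1.symm

/-- **Degree congruence**: if `ξ` is the only `P`-invariant constituent of `χ_A` whose
multiplicity is prime to `p`, then `χ(1) ≡ [χ_A, ξ] ξ(1)` modulo `p`. -/
theorem irrDeg_modEq_of_unique (A B P : Subgroup Γ) (hAB : A ≤ B) (hP : IsPGroup p P)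
    (hPA : P ≤ Subgroup.normalizer (A : Set Γ)) (hPB : P ≤ Subgroup.normalizer (B : Set Γ))
    (χ : IrrCharacter B) (hχ : ∀ x ∈ P, InvAt B (χ : B → ℂ) x) (ξ : IrrCharacter A)
    (hξ : ∀ x ∈ P, InvAt A (ξ : A → ℂ) x)
    (huniq : ∀ ξ' : IrrCharacter A, (∀ x ∈ P, InvAt A (ξ' : A → ℂ) x) → ξ' ≠ ξ →
      p ∣ mult (Subgroup.inclusion hAB) χ ξ') :
    (irrDeg χ : ℤ) ≡ (mult (Subgroup.inclusion hAB) χ ξ : ℤ) * (irrDeg ξ : ℤ) [ZMOD p] := by
  classical
  haveI : Fintype (IrrCharacter A) := Fintype.ofFinite _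
  have h1 := irrDeg_eq_sum_mult hAB χ
  letI : MulAction P (IrrCharacter A) := irrConjAct A P hPA
  obtain ⟨f, hf⟩ : ∃ f : IrrCharacter A → ℤ,
      f = fun ξ' => (mult (Subgroup.inclusion hAB) χ ξ' : ℤ) * (irrDeg ξ' : ℤ) := ⟨_, rfl⟩
  have hfinv : ∀ (x : P) (ξ' : IrrCharacter A), f (x • ξ') = f ξ' := by
    intro x ξ'
    have hxA := Subgroup.inv_mem _ (hPA x.2)
    have hxB := Subgroup.inv_mem _ (hPB x.2)
    show f (pullIrr (conjE A (x : Γ)⁻¹ hxA) ξ') = f ξ'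
    rw [hf]
    simp only
    have h2 := mult_conj_invariant hAB (x : Γ)⁻¹ hxA hxB χ ξ'
    rw [(invAt_iff_pullIrr B _ hxB χ).mp (hχ _ (Subgroup.inv_mem _ x.2))] at h2
    rw [h2, irrDeg_pullIrr]
  have h2 := sum_modEq_sum_fixed hP f hfinv
  have hfixiff : ∀ η : IrrCharacter A, (∀ x : P, x • η = η) → ∀ s ∈ P, InvAt A (η : A → ℂ) s := by
    intro η h s hs
    have h3 : pullIrr (conjE A ((s⁻¹)⁻¹) (Subgroup.inv_mem _ (hPA (Subgroup.inv_mem _ hs)))) η = η :=
      h ⟨s⁻¹, Subgroup.inv_mem _ hs⟩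
    have h4 := (invAt_iff_pullIrr A ((s⁻¹)⁻¹) _ η).mpr h3
    rwa [inv_inv] at h4
  have hξfix : ∀ x : P, x • ξ = ξ := by
    intro x
    show pullIrr (conjE A ((x : P) : Γ)⁻¹ _) ξ = ξ
    exact (invAt_iff_pullIrr A _ _ ξ).mp (hξ _ (Subgroup.inv_mem _ x.2))
  have h3 : ∑ η ∈ Finset.univ.filter (fun η : IrrCharacter A => ∀ x : P, x • η = η), f η ≡
      f ξ [ZMOD p] := by
    have hmem : ξ ∈ Finset.univ.filter (fun η : IrrCharacter A => ∀ x : P, x • η = η) :=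
      Finset.mem_filter.mpr ⟨Finset.mem_univ _, hξfix⟩
    rw [← Finset.add_sum_erase _ _ hmem]
    have hrest : (p : ℤ) ∣ ∑ η ∈ (Finset.univ.filter
        (fun η : IrrCharacter A => ∀ x : P, x • η = η)).erase ξ, f η := by
      apply Finset.dvd_sum
      intro η hη
      have hne : η ≠ ξ := (Finset.mem_erase.mp hη).1
      have hfx := (Finset.mem_filter.mp (Finset.mem_erase.mp hη).2).2
      have hd := huniq η (hfixiff η hfx) hne
      rw [hf]
      simp only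
      apply Dvd.dvd.mul_right
      exact_mod_cast hd
    rw [Int.modEq_iff_dvd]
    simpa using (dvd_neg.mpr hrest)
  have h4 : (irrDeg χ : ℤ) = ∑ η : IrrCharacter A, f η := by
    rw [hf, h1]
    push_cast
    rfl
  rw [h4]
  have h5 := h2.trans h3
  rw [hf] at h5 ⊢
  exact h5

end Degree

end Cfsg.Agent.Helper29.RelGlaub
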