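import Mathlib
import Cfsg.Agent.Helper29.RelGlaubG

/-!
# Relative Glauberman correspondence, part H: the correspondence over a fixed invariant `θ`
-/

set_option autoImplicit false
set_option linter.style.haveILetI false

namespace Cfsg.Agent.Helper29.RelGlaub

open Cfsg Cfsg.Agent.Helper24

universe u

section Local

variable {Γ : Type u} [Group Γ] [Finite Γ] {p : ℕ} [hp : Fact p.Prime]

omit [Finite Γ] hp in
/-- `P` normalizes `C`. -/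
theorem le_normalizer_relCent (Q : Subgroup Γ) [hQ : Q.Normal] (P K C : Subgroup Γ)
    (hPK : P ≤ Subgroup.normalizer (K : Set Γ)) (hQC : Q ≤ C)
    (hC : ∀ k : Γ, k ∈ C ↔ (k ∈ K ∧ ∀ x ∈ P, x * k * x⁻¹ * k⁻¹ ∈ Q)) :
    P ≤ Subgroup.normalizer (C : Set Γ) := by
  apply le_normalizer_of_conj_mem
  intro x hx k hk
  have h1 := ((hC k).mp hk).2 x hx
  have h2 : x * k * x⁻¹ = (x * k * x⁻¹ * k⁻¹) * k := by group
  rw [h2]
  exact C.mul_mem (hQC h1) hk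

omit [Finite Γ] hp in
theorem le_relCent (Q : Subgroup Γ) [hQ : Q.Normal] (P K C : Subgroup Γ) (hQK : Q ≤ K)
    (hC : ∀ k : Γ, k ∈ C ↔ (k ∈ K ∧ ∀ x ∈ P, x * k * x⁻¹ * k⁻¹ ∈ Q)) : Q ≤ C := by
  intro q hq
  rw [hC]
  refine ⟨hQK hq, fun x _ => ?_⟩
  exact Q.mul_mem (hQ.conj_mem q hq x) (Q.inv_mem hq)

omit [Finite Γ] hp in
theorem le_normalizer_inf {A B X : Subgroup Γ} (hA : X ≤ Subgroup.normalizer (A : Set Γ))
    (hB : X ≤ Subgroup.normalizer (B : Set Γ)) :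
    X ≤ Subgroup.normalizer ((A ⊓ B : Subgroup Γ) : Set Γ) := by
  apply le_normalizer_of_conj_mem
  intro x hx k hk
  exact ⟨(Subgroup.mem_normalizer_iff.mp (hA hx) k).mp hk.1,
    (Subgroup.mem_normalizer_iff.mp (hB hx) k).mp hk.2⟩

/-- **The correspondence over a `P`-invariant `θ ∈ Irr(Q)`.** -/
theorem local_corr (Q : Subgroup Γ) [hQ : Q.Normal] (P K C : Subgroup Γ) (hP : IsPGroup p P)
    (hPK : P ≤ Subgroup.normalizer (K : Set Γ)) (hQK : Q ≤ K) (hQC : Q ≤ C)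
    (hQp : IsPGroup p Q) (hQsyl : ¬ p ∣ Q.relIndex K) (hCK : C ≤ K)
    (hC : ∀ k : Γ, k ∈ C ↔ (k ∈ K ∧ ∀ x ∈ P, x * k * x⁻¹ * k⁻¹ ∈ Q))
    (θ : IrrCharacter Q) (hθP : ∀ x ∈ P, InvAt Q (θ : Q → ℂ) x) :
    GenCorr p (Subgroup.inclusion hCK)
      {χ : IrrCharacter K | (∀ x ∈ P, InvAt K (χ : K → ℂ) x) ∧
        mult (Subgroup.inclusion hQK) χ θ ≠ 0}
      {ξ : IrrCharacter C | mult (Subgroup.inclusion hQC) ξ θ ≠ 0} ∧
    ∀ ξ : IrrCharacter C, mult (Subgroup.inclusion hQC) ξ θ ≠ 0 →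
      ∀ x ∈ P, InvAt C (ξ : C → ℂ) x := by
  classical
  have hp' := hp.out
  have hNQ : ∀ g : Γ, g ∈ Subgroup.normalizer (Q : Set Γ) := by
    intro g
    rw [Subgroup.normalizer_eq_top]
    exact Subgroup.mem_top g
  have hKQ : K ≤ Subgroup.normalizer (Q : Set Γ) := fun g _ => hNQ g
  have hPQ : P ≤ Subgroup.normalizer (Q : Set Γ) := fun g _ => hNQ g
  have hPC : P ≤ Subgroup.normalizer (C : Set Γ) := le_normalizer_relCent Q P K C hPK hQC hC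
  -- the stabilizer of `θ`
  obtain ⟨I, hI⟩ : ∃ I : Subgroup Γ, I = invStab Q (θ : Q → ℂ) := ⟨_, rfl⟩
  have hmemI : ∀ g : Γ, g ∈ I ↔ InvAt Q (θ : Q → ℂ) g := by
    intro g
    rw [hI, mem_invStab]
    exact ⟨fun h => h.2, fun h => ⟨hNQ g, h⟩⟩
  have hQPI : Q ⊔ P ≤ I := hI ▸ sup_le_invStab hPQ θ hθP
  have hQI : Q ≤ I := le_sup_left.trans hQPI
  have hPI : P ≤ I := le_sup_right.trans hQPI
  obtain ⟨T, hT⟩ : ∃ T : Subgroup Γ, T = K ⊓ I := ⟨_, rfl⟩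
  obtain ⟨D, hD⟩ : ∃ D : Subgroup Γ, D = C ⊓ I := ⟨_, rfl⟩
  have hTK : T ≤ K := hT ▸ inf_le_left
  have hDC : D ≤ C := hD ▸ inf_le_left
  have hDT : D ≤ T := by rw [hT, hD]; exact inf_le_inf_right I hCK
  have hQT : Q ≤ T := by rw [hT]; exact le_inf hQK hQI
  have hQD : Q ≤ D := by rw [hD]; exact le_inf hQC hQI
  have hTmem : ∀ g ∈ K, g ∈ T ↔ InvAt Q (θ : Q → ℂ) g := by
    intro g hg
    rw [hT, Subgroup.mem_inf, hmemI]
    exact ⟨fun h => h.2, fun h => ⟨hg, h⟩⟩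
  have hDmem : ∀ g ∈ C, g ∈ D ↔ InvAt Q (θ : Q → ℂ) g := by
    intro g hg
    rw [hD, Subgroup.mem_inf, hmemI]
    exact ⟨fun h => h.2, fun h => ⟨hg, h⟩⟩
  have hPIn : P ≤ Subgroup.normalizer (I : Set Γ) := hPI.trans Subgroup.le_normalizer
  have hPT : P ≤ Subgroup.normalizer (T : Set Γ) := by
    rw [hT]; exact le_normalizer_inf hPK hPIn
  have hPD : P ≤ Subgroup.normalizer (D : Set Γ) := by
    rw [hD]; exact le_normalizer_inf hPC hPIn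
  have hD' : ∀ s : Γ, s ∈ D ↔ (s ∈ T ∧ ∀ x ∈ P, x * s * x⁻¹ * s⁻¹ ∈ Q) := by
    intro s
    rw [hD, hT, Subgroup.mem_inf, Subgroup.mem_inf, hC]
    tauto
  have hdvd : Q.relIndex T ∣ Q.relIndex K := by
    rw [← Subgroup.relIndex_mul_relIndex Q T K hQT hTK]
    exact Dvd.intro _ rfl
  have hTp : ¬ p ∣ Q.relIndex T := fun h => hQsyl (h.trans hdvd)
  have hcopT : (Q.relIndex T).Coprime (Nat.card Q) := by
    obtain ⟨a, ha⟩ := IsPGroup.iff_card.mp hQp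
    rw [ha]
    exact Nat.Coprime.pow_right a ((Nat.Prime.coprime_iff_not_dvd hp').mpr hTp).symm
  have hinvT : ∀ t ∈ T, InvAt Q (θ : Q → ℂ) t := fun t ht => (hTmem t (hTK ht)).mp ht
  obtain ⟨θt, hθt, hθtinv⟩ := exists_invariant_extension Q T hQT (hTK.trans hKQ) hcopT θ hinvT
  have hθtP : ∀ x ∈ P, InvAt T (θt : T → ℂ) x :=
    fun x hx => hθtinv x (hPT hx) (hNQ x) (hθP x hx)
  have hθt' : ∀ q : Q, (θ : Q → ℂ) q =
      (θt : T → ℂ) (Subgroup.inclusion (hQD.trans hDT) q) := hθt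
  obtain ⟨θd, hθd⟩ := exists_restrict_irr Q D T hQD hDT θt θ hθt'
  have hθdP : ∀ x ∈ P, InvAt D (θd : D → ℂ) x := by
    intro x hx d d' hd
    rw [hθd, hθd]
    exact hθtP x hx (Subgroup.inclusion hDT d) (Subgroup.inclusion hDT d') hd
  have hθd' : ∀ q : Q, (θ : Q → ℂ) q = (θd : D → ℂ) (Subgroup.inclusion hQD q) := by
    intro q
    rw [hθd, hθt]
    rfl
  have GC := lifted_pcorr (p := p) Q T P D hQT hPT hP hTp hDT hD'
  -- `Q`-constant characters of `D` are `P`-invariant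
  have hγinv : ∀ γ : IrrCharacter D, QConst Q D (γ : D → ℂ) →
      ∀ x ∈ P, InvAt D (γ : D → ℂ) x := by
    intro γ hγ x hx d d' hd
    refine hγ d d' ?_
    rw [hd]
    have h1 := ((hD' (d : Γ)).mp d.2).2 x hx
    have h2 := hQ.conj_mem _ h1 (d : Γ)⁻¹
    have h3 : (d : Γ)⁻¹ * (x * (d : Γ) * x⁻¹ * (d : Γ)⁻¹) * (d : Γ)⁻¹⁻¹ =
        (d : Γ)⁻¹ * (x * (d : Γ) * x⁻¹) := by group
    rw [h3] at h2
    exact h2
  have keyM : ∀ (χ : IrrCharacter K) (β : IrrCharacter T) (ξ : IrrCharacter C)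
      (γ : IrrCharacter D), GRel Q hTK θt χ β → GRel Q hDC θd ξ γ →
      mult (Subgroup.inclusion hCK) χ ξ = mult (Subgroup.inclusion hDT) β γ :=
    mult_eq_mult_param Q D T C K hQD hDT hDC hTK hCK hKQ θ hTmem hDmem θt hθt' θd hθd
  have exK : ∀ χ : IrrCharacter K, mult (Subgroup.inclusion hQK) χ θ ≠ 0 →
      ∃ β : IrrCharacter T, GRel Q hTK θt χ β :=
    fun χ hχ => grel_exists Q T K hQT hTK hKQ θ hTmem θt hθt χ hχ
  have exC : ∀ ξ : IrrCharacter C, mult (Subgroup.inclusion hQC) ξ θ ≠ 0 →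
      ∃ γ : IrrCharacter D, GRel Q hDC θd ξ γ :=
    fun ξ hξ => grel_exists Q D C hQD hDC (hCK.trans hKQ) θ hDmem θd hθd' ξ hξ
  have invK : ∀ (χ : IrrCharacter K) (β : IrrCharacter T), GRel Q hTK θt χ β →
      ((∀ x ∈ P, InvAt K (χ : K → ℂ) x) ↔ (∀ x ∈ P, InvAt T (β : T → ℂ) x)) := by
    intro χ β h
    constructor
    · intro h1 x hx
      exact (grel_invAt_iff Q T K hQT hTK hKQ θ hTmem θt hθt x (hPT hx) (hPK hx) (hNQ x)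
        (hθtP x hx) χ β h).mp (h1 x hx)
    · intro h1 x hx
      exact (grel_invAt_iff Q T K hQT hTK hKQ θ hTmem θt hθt x (hPT hx) (hPK hx) (hNQ x)
        (hθtP x hx) χ β h).mpr (h1 x hx)
  have invC : ∀ (ξ : IrrCharacter C) (γ : IrrCharacter D), GRel Q hDC θd ξ γ →
      ∀ x ∈ P, InvAt C (ξ : C → ℂ) x := by
    intro ξ γ h x hx
    exact (grel_invAt_iff Q D C hQD hDC (hCK.trans hKQ) θ hDmem θd hθd' x (hPD hx) (hPC hx)
      (hNQ x) (hθdP x hx) ξ γ h).mpr (hγinv γ h.1 x hx)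
  refine ⟨⟨?_, ?_, ?_, ?_⟩, ?_⟩
  · -- exU
    rintro χ ⟨hχP, hχθ⟩
    obtain ⟨β, hβ⟩ := exK χ hχθ
    have hβP := (invK χ β hβ).mp hχP
    obtain ⟨γ, hγ, hγp, hγu⟩ := GC.exU β ⟨hβ.1, hβP⟩
    obtain ⟨ξ, hξ⟩ := grel_exists_left Q D C hQD hDC (hCK.trans hKQ) θ hDmem θd hθd' γ hγ
    have hξθ := grel_over Q D C hQD hDC θ θd hθd' ξ γ hξ
    refine ⟨ξ, hξθ, ?_, ?_⟩
    · rw [keyM χ β ξ γ hβ hξ]; exact hγp
    · intro ξ' hξ'θ hξ'p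
      obtain ⟨γ', hγ'⟩ := exC ξ' hξ'θ
      rw [keyM χ β ξ' γ' hβ hγ'] at hξ'p
      have e := hγu γ' hγ'.1 hξ'p
      rw [e] at hγ'
      exact grel_unique_left Q D C hQD hDC (hCK.trans hKQ) θ hDmem θd hθd' ξ' ξ γ hγ' hξ
  · -- pm
    rintro χ ⟨hχP, hχθ⟩ ξ hξθ hm
    obtain ⟨β, hβ⟩ := exK χ hχθ
    have hβP := (invK χ β hβ).mp hχP
    obtain ⟨γ, hγ⟩ := exC ξ hξθ
    rw [keyM χ β ξ γ hβ hγ] at hm ⊢
    exact GC.pm β ⟨hβ.1, hβP⟩ γ hγ.1 hm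
  · -- inj
    rintro χ ⟨hχP, hχθ⟩ χ' ⟨hχ'P, hχ'θ⟩ ξ hξθ hm hm'
    obtain ⟨β, hβ⟩ := exK χ hχθ
    obtain ⟨β', hβ'⟩ := exK χ' hχ'θ
    have hβP := (invK χ β hβ).mp hχP
    have hβ'P := (invK χ' β' hβ').mp hχ'P
    obtain ⟨γ, hγ⟩ := exC ξ hξθ
    rw [keyM χ β ξ γ hβ hγ] at hm
    rw [keyM χ' β' ξ γ hβ' hγ] at hm'
    have e := GC.inj β ⟨hβ.1, hβP⟩ β' ⟨hβ'.1, hβ'P⟩ γ hγ.1 hm hm'
    rw [← e] at hβ'
    exact grel_unique_left Q T K hQT hTK hKQ θ hTmem θt hθt χ χ' β hβ hβ'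
  · -- surj
    intro ξ hξθ
    obtain ⟨γ, hγ⟩ := exC ξ hξθ
    obtain ⟨β, ⟨hβc, hβP⟩, hm⟩ := GC.surj γ hγ.1
    obtain ⟨χ, hχ⟩ := grel_exists_left Q T K hQT hTK hKQ θ hTmem θt hθt β hβc
    have hχθ := grel_over Q T K hQT hTK θ θt hθt χ β hχ
    refine ⟨χ, ⟨(invK χ β hχ).mpr hβP, hχθ⟩, ?_⟩
    rw [keyM χ β ξ γ hχ hγ]
    exact hm
  · intro ξ hξθ
    obtain ⟨γ, hγ⟩ := exC ξ hξθ
    exact invC ξ γ hγ

end Local

section Global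

variable {Γ : Type u} [Group Γ] [Finite Γ] {p : ℕ} [hp : Fact p.Prime]

omit [Finite Γ] in
theorem pullIrr_conjE_of_mem [Finite Γ] (C : Subgroup Γ) (c : Γ) (hc : c ∈ C)
    (hcN : c ∈ Subgroup.normalizer (C : Set Γ)) (ξ : IrrCharacter C) :
    pullIrr (conjE C c hcN) ξ = ξ := by
  rw [← invAt_iff_pullIrr C c hcN ξ]
  intro a a' haa'
  have : a' = (⟨c, hc⟩ : C) * a * (⟨c, hc⟩ : C)⁻¹ := Subtype.ext haa'
  rw [this]
  exact isClassFunction_irr ξ a ⟨c, hc⟩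

/-- **Relative Glauberman correspondence**, for `Q` normal in the ambient group. -/
theorem global_corr (Q : Subgroup Γ) [hQ : Q.Normal] (P K C : Subgroup Γ) (hP : IsPGroup p P)
    (hPK : P ≤ Subgroup.normalizer (K : Set Γ)) (hQK : Q ≤ K)
    (hQp : IsPGroup p Q) (hQsyl : ¬ p ∣ Q.relIndex K) (hCK : C ≤ K)
    (hC : ∀ k : Γ, k ∈ C ↔ (k ∈ K ∧ ∀ x ∈ P, x * k * x⁻¹ * k⁻¹ ∈ Q)) :
    GenCorr p (Subgroup.inclusion hCK)
      {χ : IrrCharacter K | ∀ x ∈ P, InvAt K (χ : K → ℂ) x}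
      {ξ : IrrCharacter C | ∀ x ∈ P, InvAt C (ξ : C → ℂ) x} := by
  classical
  have hp' := hp.out
  have hNQ : ∀ g : Γ, g ∈ Subgroup.normalizer (Q : Set Γ) := by
    intro g
    rw [Subgroup.normalizer_eq_top]
    exact Subgroup.mem_top g
  have hPQ : P ≤ Subgroup.normalizer (Q : Set Γ) := fun g _ => hNQ g
  have hQC : Q ≤ C := le_relCent Q P K C hQK hC
  have hPC : P ≤ Subgroup.normalizer (C : Set Γ) := le_normalizer_relCent Q P K C hPK hQC hC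
  have hsolv : Group.IsSolvable P := PPK.isSolvable_of_isPGroup P hP
  obtain ⟨a, ha⟩ := IsPGroup.iff_card.mp hP
  have hcopK : (Q.relIndex K).Coprime (Nat.card P) := by
    rw [ha]
    exact Nat.Coprime.pow_right a ((Nat.Prime.coprime_iff_not_dvd hp').mpr hQsyl).symm
  have hdvd : Q.relIndex C ∣ Q.relIndex K := by
    rw [← Subgroup.relIndex_mul_relIndex Q C K hQC hCK]
    exact Dvd.intro _ rfl
  have hcopC : (Q.relIndex C).Coprime (Nat.card P) := Nat.Coprime.coprime_dvd_left hdvd hcopK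
  have exθK : ∀ χ : IrrCharacter K, (∀ x ∈ P, InvAt K (χ : K → ℂ) x) →
      ∃ θ : IrrCharacter Q, mult (Subgroup.inclusion hQK) χ θ ≠ 0 ∧
        ∀ x ∈ P, InvAt Q (θ : Q → ℂ) x :=
    fun χ hχ => exists_invariant_constituent K P Q hPK hPQ hQK hcopK (Or.inl hsolv) χ hχ
  have exθC : ∀ ξ : IrrCharacter C, (∀ x ∈ P, InvAt C (ξ : C → ℂ) x) →
      ∃ θ : IrrCharacter Q, mult (Subgroup.inclusion hQC) ξ θ ≠ 0 ∧
        ∀ x ∈ P, InvAt Q (θ : Q → ℂ) x :=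
    fun ξ hξ => exists_invariant_constituent C P Q hPC hPQ hQC hcopC (Or.inl hsolv) ξ hξ
  have L := fun (θ : IrrCharacter Q) (hθP : ∀ x ∈ P, InvAt Q (θ : Q → ℂ) x) =>
    local_corr (p := p) Q P K C hP hPK hQK hQC hQp hQsyl hCK hC θ hθP
  have hne : ∀ (χ : IrrCharacter K) (ξ : IrrCharacter C),
      ¬ p ∣ mult (Subgroup.inclusion hCK) χ ξ → mult (Subgroup.inclusion hCK) χ ξ ≠ 0 := by
    intro χ ξ h h0
    exact h (by rw [h0]; exact dvd_zero p)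
  refine ⟨?_, ?_, ?_, ?_⟩
  · -- exU
    intro χ hχ
    obtain ⟨θ, hχθ, hθP⟩ := exθK χ hχ
    obtain ⟨ξ, hξθ, hm, huniq⟩ := (L θ hθP).1.exU χ ⟨hχ, hχθ⟩
    refine ⟨ξ, (L θ hθP).2 ξ hξθ, hm, ?_⟩
    intro ξ' hξ' hm'
    obtain ⟨θ', hξ'θ', hθ'P⟩ := exθC ξ' hξ'
    have hχθ' : mult (Subgroup.inclusion hQK) χ θ' ≠ 0 :=
      over_of_mult hQC hCK χ ξ' θ' (hne χ ξ' hm') hξ'θ'
    obtain ⟨c, hc, hcθ⟩ := exists_conj_invariant_constituents (p := p) Q P K C hP hPK hQK hQsyl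
      hC χ hχ θ θ' hχθ hχθ' hθP hθ'P
    have hcN : c ∈ Subgroup.normalizer (C : Set Γ) := Subgroup.le_normalizer hc
    have h1 := mult_conj_invariant hQC c (hNQ c) hcN ξ' θ'
    rw [pullIrr_conjE_of_mem C c hc hcN ξ',
      (RealNorm.rel_iff_pullIrr Q c (hNQ c) θ θ').mp hcθ] at h1
    apply huniq ξ' _ hm'
    show mult (Subgroup.inclusion hQC) ξ' θ ≠ 0
    rw [h1]
    exact hξ'θ'
  · -- pm
    intro χ hχ ξ hξ hm
    obtain ⟨θ, hξθ, hθP⟩ := exθC ξ hξ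
    have hχθ : mult (Subgroup.inclusion hQK) χ θ ≠ 0 :=
      over_of_mult hQC hCK χ ξ θ (hne χ ξ hm) hξθ
    exact (L θ hθP).1.pm χ ⟨hχ, hχθ⟩ ξ hξθ hm
  · -- inj
    intro χ hχ χ' hχ' ξ hξ hm hm'
    obtain ⟨θ, hξθ, hθP⟩ := exθC ξ hξ
    have hχθ : mult (Subgroup.inclusion hQK) χ θ ≠ 0 :=
      over_of_mult hQC hCK χ ξ θ (hne χ ξ hm) hξθ
    have hχ'θ : mult (Subgroup.inclusion hQK) χ' θ ≠ 0 :=
      over_of_mult hQC hCK χ' ξ θ (hne χ' ξ hm') hξθ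
    exact (L θ hθP).1.inj χ ⟨hχ, hχθ⟩ χ' ⟨hχ', hχ'θ⟩ ξ hξθ hm hm'
  · -- surj
    intro ξ hξ
    obtain ⟨θ, hξθ, hθP⟩ := exθC ξ hξ
    obtain ⟨χ, ⟨hχP, -⟩, hm⟩ := (L θ hθP).1.surj ξ hξθ
    exact ⟨χ, hχP, hm⟩

/-- The degree congruence of the relative Glauberman correspondence. -/
theorem global_degree (Q : Subgroup Γ) [hQ : Q.Normal] (P K C : Subgroup Γ) (hP : IsPGroup p P)
    (hPK : P ≤ Subgroup.normalizer (K : Set Γ)) (hQK : Q ≤ K)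
    (hQp : IsPGroup p Q) (hQsyl : ¬ p ∣ Q.relIndex K) (hCK : C ≤ K)
    (hC : ∀ k : Γ, k ∈ C ↔ (k ∈ K ∧ ∀ x ∈ P, x * k * x⁻¹ * k⁻¹ ∈ Q))
    (χ : IrrCharacter K) (hχ : ∀ x ∈ P, InvAt K (χ : K → ℂ) x) (ξ : IrrCharacter C)
    (hξ : ∀ x ∈ P, InvAt C (ξ : C → ℂ) x) (hm : ¬ p ∣ mult (Subgroup.inclusion hCK) χ ξ) :
    (irrDeg χ : ℤ) ≡ (irrDeg ξ : ℤ) [ZMOD p] ∨ (irrDeg χ : ℤ) ≡ -(irrDeg ξ : ℤ) [ZMOD p] := by
  have GC := global_corr (p := p) Q P K C hP hPK hQK hQp hQsyl hCK hC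
  have hQC : Q ≤ C := le_relCent Q P K C hQK hC
  have hPC : P ≤ Subgroup.normalizer (C : Set Γ) := le_normalizer_relCent Q P K C hPK hQC hC
  obtain ⟨ξ₀, -, -, huniq⟩ := GC.exU χ hχ
  have e := huniq ξ hξ hm
  have h1 := irrDeg_modEq_of_unique C K P hCK hP hPC hPK χ hχ ξ hξ (by
    intro ξ' hξ' hne
    by_contra hnd
    exact hne ((huniq ξ' hξ' hnd).trans e.symm))
  rcases GC.pm χ hχ ξ hξ hm with h | h
  · left
    have h2 := h.mul_right (irrDeg ξ : ℤ)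
    rw [one_mul] at h2
    exact h1.trans h2
  · right
    have h2 := h.mul_right (irrDeg ξ : ℤ)
    rw [neg_one_mul] at h2
    exact h1.trans h2

end Global

end Cfsg.Agent.Helper29.RelGlaub
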