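import Mathlib
import Cfsg.Agent.Helper29.RelGlaubH

/-!
# Relative Glauberman correspondence, part I: transport to an arbitrary ambient group
-/

set_option autoImplicit false
set_option linter.style.haveILetI false

namespace Cfsg.Agent.Helper29.RelGlaub

open Cfsg Cfsg.Agent.Helper24

universe u

section Transport

variable {A₁ A₀ B₁ B₀ : Type u} [Group A₁] [Group A₀] [Group B₁] [Group B₀] [Finite A₁]
  [Finite A₀]

theorem GenCorr.transport (eA : A₁ ≃* A₀) (eB : B₁ ≃* B₀) (ι₁ : A₁ →* B₁) (ι₀ : A₀ →* B₀)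
    (hcomm : ∀ c, eB (ι₁ c) = ι₀ (eA c)) (p : ℕ) (𝓘₁ : Set (IrrCharacter B₁))
    (𝓘₀ : Set (IrrCharacter B₀)) (𝓙₁ : Set (IrrCharacter A₁)) (𝓙₀ : Set (IrrCharacter A₀))
    (h𝓘 : ∀ χ : IrrCharacter B₀, χ ∈ 𝓘₀ ↔ pullIrr eB χ ∈ 𝓘₁)
    (h𝓙 : ∀ ξ : IrrCharacter A₀, ξ ∈ 𝓙₀ ↔ pullIrr eA ξ ∈ 𝓙₁)
    (h : GenCorr p ι₁ 𝓘₁ 𝓙₁) : GenCorr p ι₀ 𝓘₀ 𝓙₀ := by
  have hm := mult_pullIrr eA eB ι₁ ι₀ hcomm
  refine ⟨?_, ?_, ?_, ?_⟩
  · intro χ hχ
    obtain ⟨β₁, hβ₁𝓙, hβ₁, huniq⟩ := h.exU _ ((h𝓘 χ).mp hχ)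
    refine ⟨pullIrr eA.symm β₁, ?_, ?_, ?_⟩
    · rw [h𝓙, pullIrr_symm]; exact hβ₁𝓙
    · rw [← hm, pullIrr_symm]; exact hβ₁
    · intro β' hβ'𝓙 hβ'
      rw [← hm] at hβ'
      have := huniq _ ((h𝓙 β').mp hβ'𝓙) hβ'
      rw [← this, pullIrr_symm']
  · intro χ hχ β hβ𝓙 hβ
    rw [← hm] at hβ ⊢
    exact h.pm _ ((h𝓘 χ).mp hχ) _ ((h𝓙 β).mp hβ𝓙) hβ
  · intro χ hχ χ' hχ' β hβ𝓙 h1 h2
    rw [← hm] at h1 h2
    exact pullIrr_injective eB
      (h.inj _ ((h𝓘 χ).mp hχ) _ ((h𝓘 χ').mp hχ') _ ((h𝓙 β).mp hβ𝓙) h1 h2)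
  · intro β hβ𝓙
    obtain ⟨χ₁, hχ₁, hχ₁β⟩ := h.surj (pullIrr eA β) ((h𝓙 β).mp hβ𝓙)
    refine ⟨pullIrr eB.symm χ₁, ?_, ?_⟩
    · rw [h𝓘, pullIrr_symm]; exact hχ₁
    · rw [← hm, pullIrr_symm]; exact hχ₁β

end Transport

section Ambient

variable {G : Type u} [Group G] [Finite G]

omit [Finite G] in
/-- Invariance in a subgroup `U` of the ambient group. -/
theorem invAt_subgroupOf_iff [Finite G] (U K : Subgroup G) (hKU : K ≤ U) (χ : IrrCharacter K)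
    (x : U) :
    InvAt (K.subgroupOf U) (pullIrr (Subgroup.subgroupOfEquivOfLe hKU) χ : K.subgroupOf U → ℂ) x ↔
      InvAt K (χ : K → ℂ) (x : G) := by
  obtain ⟨e, he⟩ : ∃ e : ↥(K.subgroupOf U) ≃* ↥K, e = Subgroup.subgroupOfEquivOfLe hKU :=
    ⟨_, rfl⟩
  have hev : ∀ h : ↥(K.subgroupOf U), ((e h : K) : G) = ((h : U) : G) := by
    intro h; rw [he]; rfl
  rw [← he]
  constructor
  · intro h g g' hgg'
    have h1 := h (e.symm g) (e.symm g') (by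
      apply Subtype.ext
      rw [Subgroup.coe_mul, Subgroup.coe_mul, Subgroup.coe_inv, ← hev, ← hev,
        MulEquiv.apply_symm_apply, MulEquiv.apply_symm_apply]
      exact hgg')
    rw [pullIrr_apply, pullIrr_apply, MulEquiv.apply_symm_apply, MulEquiv.apply_symm_apply] at h1
    exact h1
  · intro h g g' hgg'
    rw [pullIrr_apply, pullIrr_apply]
    refine h (e g) (e g') ?_
    rw [hev, hev, hgg']
    rfl

variable {p : ℕ} [hp : Fact p.Prime]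

/-- A `p`-element of `K` lies in the normal Sylow `p`-subgroup `Q`. -/
theorem mem_of_pow_eq_one (K Q : Subgroup G) (hQK : Q ≤ K)
    (hKQ : K ≤ Subgroup.normalizer (Q : Set G)) (hQsyl : ¬ p ∣ Q.relIndex K) (y : G) (hy : y ∈ K)
    (a : ℕ) (hya : y ^ (p ^ a) = 1) : y ∈ Q := by
  have hp' := hp.out
  haveI hn : (Q.subgroupOf K).Normal := (Subgroup.normal_subgroupOf_iff_le_normalizer hQK).mpr hKQ
  obtain ⟨yb, hyb⟩ : ∃ yb : ↥K ⧸ Q.subgroupOf K, yb = QuotientGroup.mk' _ (⟨y, hy⟩ : K) := ⟨_, rfl⟩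
  have h1 : yb ^ (p ^ a) = 1 := by
    rw [hyb, ← map_pow]
    have : (⟨y, hy⟩ : K) ^ (p ^ a) = 1 := by
      apply Subtype.ext
      rw [Subgroup.coe_pow]
      exact hya
    rw [this, map_one]
  have h2 : orderOf yb ∣ p ^ a := orderOf_dvd_of_pow_eq_one h1
  have h3 : orderOf yb ∣ Q.relIndex K := by
    have : Nat.card (↥K ⧸ Q.subgroupOf K) = Q.relIndex K := rfl
    rw [← this]
    exact orderOf_dvd_natCard yb
  have hcop : (p ^ a).Coprime (Q.relIndex K) :=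
    Nat.Coprime.pow_left a ((Nat.Prime.coprime_iff_not_dvd hp').mpr hQsyl)
  have h4 : orderOf yb = 1 := Nat.eq_one_of_dvd_coprimes hcop h2 h3
  rw [orderOf_eq_one_iff, hyb] at h4
  have h5 : (⟨y, hy⟩ : K) ∈ Q.subgroupOf K := (QuotientGroup.eq_one_iff _).mp h4
  exact Subgroup.mem_subgroupOf.mp h5

end Ambient

section Main

variable {G : Type u} [Group G] [Finite G] {p : ℕ} [hp : Fact p.Prime]

/-- **Relative Glauberman correspondence** (a `p`-group `P` acting on `K` with a normal Sylow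
`p`-subgroup `Q`, `C / Q = C_{K / Q}(P)`), in an arbitrary ambient group. -/
theorem rel_glauberman (P K Q C : Subgroup G) (hP : IsPGroup p P)
    (hPK : P ≤ Subgroup.normalizer (K : Set G)) (hQK : Q ≤ K)
    (hQn : ∀ k ∈ K, ∀ q ∈ Q, k * q * k⁻¹ ∈ Q) (hQp : ∃ a : ℕ, Nat.card Q = p ^ a)
    (hQsyl : ¬ p ∣ Q.relIndex K) (hCK : C ≤ K)
    (hC : ∀ k : G, k ∈ C ↔ (k ∈ K ∧ ∀ x ∈ P, x * k * x⁻¹ * k⁻¹ ∈ Q)) :
    GenCorr p (Subgroup.inclusion hCK)
      {χ : IrrCharacter K | ∀ x ∈ P, InvAt K (χ : K → ℂ) x}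
      {ξ : IrrCharacter C | ∀ x ∈ P, InvAt C (ξ : C → ℂ) x} ∧
    ∀ (χ : IrrCharacter K) (ξ : IrrCharacter C), (∀ x ∈ P, InvAt K (χ : K → ℂ) x) →
      (∀ x ∈ P, InvAt C (ξ : C → ℂ) x) → ¬ p ∣ mult (Subgroup.inclusion hCK) χ ξ →
      ((irrDeg χ : ℤ) ≡ (irrDeg ξ : ℤ) [ZMOD p] ∨ (irrDeg χ : ℤ) ≡ -(irrDeg ξ : ℤ) [ZMOD p]) := by
  classical
  have hp' := hp.out
  obtain ⟨a, ha⟩ := hQp
  have hKQ : K ≤ Subgroup.normalizer (Q : Set G) := le_normalizer_of_conj_mem hQn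
  have hPQ : P ≤ Subgroup.normalizer (Q : Set G) := by
    apply le_normalizer_of_conj_mem
    intro x hx q hq
    have hy : x * q * x⁻¹ ∈ K := (Subgroup.mem_normalizer_iff.mp (hPK hx) q).mp (hQK hq)
    refine mem_of_pow_eq_one (p := p) K Q hQK hKQ hQsyl _ hy a ?_
    have h1 : (x * q * x⁻¹) ^ (p ^ a) = x * q ^ (p ^ a) * x⁻¹ := conj_pow
    rw [h1]
    have h2 : (⟨q, hq⟩ : Q) ^ (p ^ a) = 1 := by
      rw [← ha]; exact pow_card_eq_one'
    have h3 : q ^ (p ^ a) = 1 := by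
      have := congrArg Subtype.val h2
      simpa using this
    rw [h3]
    group
  obtain ⟨U, hU⟩ : ∃ U : Subgroup G, U = Subgroup.normalizer (Q : Set G) := ⟨_, rfl⟩
  have hQU : Q ≤ U := hU ▸ Subgroup.le_normalizer
  have hKU : K ≤ U := hU ▸ hKQ
  have hPU : P ≤ U := hU ▸ hPQ
  have hCU : C ≤ U := hCK.trans hKU
  haveI hn : (Q.subgroupOf U).Normal :=
    (Subgroup.normal_subgroupOf_iff_le_normalizer hQU).mpr (le_of_eq hU)
  have hP' : IsPGroup p (P.subgroupOf U) :=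
    hP.of_injective (Subgroup.subgroupOfEquivOfLe hPU).toMonoidHom
      (Subgroup.subgroupOfEquivOfLe hPU).injective
  have hQpg : IsPGroup p Q := IsPGroup.of_card ha
  have hQ' : IsPGroup p (Q.subgroupOf U) :=
    hQpg.of_injective (Subgroup.subgroupOfEquivOfLe hQU).toMonoidHom
      (Subgroup.subgroupOfEquivOfLe hQU).injective
  have hPK' : P.subgroupOf U ≤ Subgroup.normalizer ((K.subgroupOf U : Subgroup U) : Set U) := by
    apply le_normalizer_of_conj_mem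
    intro x hx k hk
    rw [Subgroup.mem_subgroupOf] at hx hk ⊢
    exact (Subgroup.mem_normalizer_iff.mp (hPK hx) _).mp hk
  have hQK' : Q.subgroupOf U ≤ K.subgroupOf U := by
    intro x hx
    exact Subgroup.mem_subgroupOf.mpr (hQK (Subgroup.mem_subgroupOf.mp hx))
  have hCK' : C.subgroupOf U ≤ K.subgroupOf U := by
    intro x hx
    exact Subgroup.mem_subgroupOf.mpr (hCK (Subgroup.mem_subgroupOf.mp hx))
  have hQsyl' : ¬ p ∣ (Q.subgroupOf U).relIndex (K.subgroupOf U) := by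
    rw [Subgroup.relIndex_subgroupOf hKU]
    exact hQsyl
  have hC' : ∀ k : U, k ∈ C.subgroupOf U ↔ (k ∈ K.subgroupOf U ∧
      ∀ x ∈ P.subgroupOf U, x * k * x⁻¹ * k⁻¹ ∈ Q.subgroupOf U) := by
    intro k
    rw [Subgroup.mem_subgroupOf, Subgroup.mem_subgroupOf, hC]
    constructor
    · rintro ⟨h1, h2⟩
      refine ⟨h1, fun x hx => ?_⟩
      rw [Subgroup.mem_subgroupOf] at hx ⊢
      exact h2 _ hx
    · rintro ⟨h1, h2⟩
      refine ⟨h1, fun x hx => ?_⟩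
      have := h2 ⟨x, hPU hx⟩ (Subgroup.mem_subgroupOf.mpr hx)
      exact Subgroup.mem_subgroupOf.mp this
  have GC' := global_corr (p := p) (Q.subgroupOf U) (P.subgroupOf U) (K.subgroupOf U)
    (C.subgroupOf U) hP' hPK' hQK' hQ' hQsyl' hCK' hC'
  have hinvK : ∀ χ : IrrCharacter K, (∀ x ∈ P, InvAt K (χ : K → ℂ) x) ↔
      (∀ x ∈ P.subgroupOf U, InvAt (K.subgroupOf U)
        (pullIrr (Subgroup.subgroupOfEquivOfLe hKU) χ : K.subgroupOf U → ℂ) x) := by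
    intro χ
    constructor
    · intro h x hx
      exact (invAt_subgroupOf_iff U K hKU χ x).mpr (h _ (Subgroup.mem_subgroupOf.mp hx))
    · intro h x hx
      exact (invAt_subgroupOf_iff U K hKU χ ⟨x, hPU hx⟩).mp
        (h ⟨x, hPU hx⟩ (Subgroup.mem_subgroupOf.mpr hx))
  have hinvC : ∀ ξ : IrrCharacter C, (∀ x ∈ P, InvAt C (ξ : C → ℂ) x) ↔
      (∀ x ∈ P.subgroupOf U, InvAt (C.subgroupOf U)
        (pullIrr (Subgroup.subgroupOfEquivOfLe hCU) ξ : C.subgroupOf U → ℂ) x) := by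
    intro ξ
    constructor
    · intro h x hx
      exact (invAt_subgroupOf_iff U C hCU ξ x).mpr (h _ (Subgroup.mem_subgroupOf.mp hx))
    · intro h x hx
      exact (invAt_subgroupOf_iff U C hCU ξ ⟨x, hPU hx⟩).mp
        (h ⟨x, hPU hx⟩ (Subgroup.mem_subgroupOf.mpr hx))
  have hcomm : ∀ c : ↥(C.subgroupOf U), Subgroup.subgroupOfEquivOfLe hKU
      (Subgroup.inclusion hCK' c) = Subgroup.inclusion hCK (Subgroup.subgroupOfEquivOfLe hCU c) :=
    fun c => Subtype.ext rfl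
  refine ⟨?_, ?_⟩
  · exact GenCorr.transport (Subgroup.subgroupOfEquivOfLe hCU) (Subgroup.subgroupOfEquivOfLe hKU)
      (Subgroup.inclusion hCK') (Subgroup.inclusion hCK) hcomm p
      {χ : IrrCharacter ↥(K.subgroupOf U) | ∀ x ∈ P.subgroupOf U,
        InvAt (K.subgroupOf U) (χ : K.subgroupOf U → ℂ) x}
      {χ : IrrCharacter K | ∀ x ∈ P, InvAt K (χ : K → ℂ) x}
      {ξ : IrrCharacter ↥(C.subgroupOf U) | ∀ x ∈ P.subgroupOf U,
        InvAt (C.subgroupOf U) (ξ : C.subgroupOf U → ℂ) x}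
      {ξ : IrrCharacter C | ∀ x ∈ P, InvAt C (ξ : C → ℂ) x} hinvK hinvC GC'
  · intro χ ξ hχ hξ hm
    have hm' : ¬ p ∣ mult (Subgroup.inclusion hCK')
        (pullIrr (Subgroup.subgroupOfEquivOfLe hKU) χ)
        (pullIrr (Subgroup.subgroupOfEquivOfLe hCU) ξ) := by
      rw [mult_pullIrr (Subgroup.subgroupOfEquivOfLe hCU) (Subgroup.subgroupOfEquivOfLe hKU)
        (Subgroup.inclusion hCK') (Subgroup.inclusion hCK) hcomm χ ξ]
      exact hm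
    have h1 := global_degree (p := p) (Q.subgroupOf U) (P.subgroupOf U) (K.subgroupOf U)
      (C.subgroupOf U) hP' hPK' hQK' hQ' hQsyl' hCK' hC' _ ((hinvK χ).mp hχ) _
      ((hinvC ξ).mp hξ) hm'
    rw [irrDeg_pullIrr, irrDeg_pullIrr] at h1
    exact h1

end Main

end Cfsg.Agent.Helper29.RelGlaub
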