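import Mathlib
import Cfsg.Agent.Helper29.RealBijA
import Cfsg.Agent.Helper29.RelGlaubI

/-!
# Real characters and the Sylow normalizer, character bijection (part B):
degrees modulo `p` and invariant constituents
-/

set_option autoImplicit false
set_option linter.style.haveILetI false

namespace Cfsg.Agent.Helper29.RealBij

open Cfsg Cfsg.Agent.Helper24 Cfsg.Agent.Helper29.RelGlaub

universe u

section Fixed

variable {Γ : Type u} [Group Γ] [Finite Γ] {p : ℕ} [hp : Fact p.Prime]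

/-- The degree of a `P`-invariant character is congruent modulo `p` to the contribution of the
`P`-invariant constituents of its restriction. -/
theorem irrDeg_modEq_sum_invariant (A B P : Subgroup Γ) (hAB : A ≤ B) (hP : IsPGroup p P)
    (hPA : P ≤ Subgroup.normalizer (A : Set Γ)) (hPB : P ≤ Subgroup.normalizer (B : Set Γ))
    (χ : IrrCharacter B) (hχ : ∀ x ∈ P, InvAt B (χ : B → ℂ) x) [Fintype (IrrCharacter A)]
    [DecidablePred (fun θ : IrrCharacter A => ∀ x ∈ P, InvAt A (θ : A → ℂ) x)] :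
    (irrDeg χ : ℤ) ≡ ∑ θ ∈ Finset.univ.filter
      (fun θ : IrrCharacter A => ∀ x ∈ P, InvAt A (θ : A → ℂ) x),
      (mult (Subgroup.inclusion hAB) χ θ : ℤ) * (irrDeg θ : ℤ) [ZMOD p] := by
  classical
  have h1 := irrDeg_eq_sum_mult hAB χ
  letI : MulAction P (IrrCharacter A) := irrConjAct A P hPA
  obtain ⟨f, hf⟩ : ∃ f : IrrCharacter A → ℤ,
      f = fun ξ' => (mult (Subgroup.inclusion hAB) χ ξ' : ℤ) * (irrDeg ξ' : ℤ) := ⟨_, rfl⟩
  have hfinv : ∀ (x : P) (ξ' : IrrCharacter A), f (x • ξ') = f ξ' := by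
    intro x ξ'
    have hxA := Subgroup.inv_mem _ (hPA x.2)
    have hxB := Subgroup.inv_mem _ (hPB x.2)
    show f (pullIrr (conjE A (x : Γ)⁻¹ hxA) ξ') = f ξ'
    rw [hf]
    simp only
    have h2 := mult_conj_invariant hAB (x : Γ)⁻¹ hxA hxB χ ξ'
    rw [(invAt_iff_pullIrr B _ hxB χ).mp (hχ _ (Subgroup.inv_mem _ x.2))] at h2
    rw [h2, irrDeg_pullIrr]
  have h2 := sum_modEq_sum_fixed hP f hfinv
  have hfixiff : ∀ η : IrrCharacter A, (∀ x : P, x • η = η) ↔ ∀ s ∈ P, InvAt A (η : A → ℂ) s := by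
    intro η
    constructor
    · intro h s hs
      have h3 : pullIrr (conjE A ((s⁻¹)⁻¹)
          (Subgroup.inv_mem _ (hPA (Subgroup.inv_mem _ hs)))) η = η :=
        h ⟨s⁻¹, Subgroup.inv_mem _ hs⟩
      have h4 := (invAt_iff_pullIrr A ((s⁻¹)⁻¹) _ η).mpr h3
      rwa [inv_inv] at h4
    · intro h x
      show pullIrr (conjE A ((x : P) : Γ)⁻¹ _) η = η
      exact (invAt_iff_pullIrr A _ _ η).mp (h _ (Subgroup.inv_mem _ x.2))
  have h4 : (irrDeg χ : ℤ) = ∑ η : IrrCharacter A, f η := by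
    rw [hf, h1]
    push_cast
    rfl
  have h5 : Finset.univ.filter (fun η : IrrCharacter A => ∀ x : P, x • η = η) =
      Finset.univ.filter (fun θ : IrrCharacter A => ∀ x ∈ P, InvAt A (θ : A → ℂ) x) := by
    ext η
    simp only [Finset.mem_filter, Finset.mem_univ, true_and]
    exact hfixiff η
  rw [h4]
  rw [h5, hf] at h2
  rw [hf]
  exact h2

/-- A `P`-invariant character of degree prime to `p` has a `P`-invariant constituent. -/
theorem exists_invariant_constituent_pprime (A B P : Subgroup Γ) (hAB : A ≤ B)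
    (hP : IsPGroup p P) (hPA : P ≤ Subgroup.normalizer (A : Set Γ))
    (hPB : P ≤ Subgroup.normalizer (B : Set Γ)) (χ : IrrCharacter B)
    (hχ : ∀ x ∈ P, InvAt B (χ : B → ℂ) x) (hdeg : ¬ p ∣ irrDeg χ) :
    ∃ θ : IrrCharacter A, (∀ x ∈ P, InvAt A (θ : A → ℂ) x) ∧
      mult (Subgroup.inclusion hAB) χ θ ≠ 0 := by
  classical
  haveI : Fintype (IrrCharacter A) := Fintype.ofFinite _
  have h1 := irrDeg_modEq_sum_invariant A B P hAB hP hPA hPB χ hχ
  by_contra hcon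
  push Not at hcon
  apply hdeg
  have h2 : ∑ θ ∈ Finset.univ.filter
      (fun θ : IrrCharacter A => ∀ x ∈ P, InvAt A (θ : A → ℂ) x),
      (mult (Subgroup.inclusion hAB) χ θ : ℤ) * (irrDeg θ : ℤ) = 0 := by
    apply Finset.sum_eq_zero
    intro θ hθ
    rw [hcon θ (Finset.mem_filter.mp hθ).2, Nat.cast_zero, zero_mul]
  rw [h2] at h1
  have h3 : (p : ℤ) ∣ (irrDeg χ : ℤ) := Int.modEq_zero_iff_dvd.mp h1
  exact_mod_cast h3

end Fixed

section ConjRel

variable {Γ : Type u} [Group Γ] [Finite Γ]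

omit [Finite Γ] in
/-- The conjugate `n • θ`, and its defining relation. -/
theorem rel_pullIrr_conjE_inv [Finite Γ] (A : Subgroup Γ) (n : Γ)
    (hn : n ∈ Subgroup.normalizer (A : Set Γ)) (θ : IrrCharacter A) :
    ∀ k k' : A, (k' : Γ) = n * (k : Γ) * n⁻¹ →
      (pullIrr (conjE A n⁻¹ (Subgroup.inv_mem _ hn)) θ : A → ℂ) k' = (θ : A → ℂ) k := by
  intro k k' hk
  rw [pullIrr_apply]
  have e : conjE A n⁻¹ (Subgroup.inv_mem _ hn) k' = k := by
    apply Subtype.ext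
    rw [conjE_apply, hk]
    group
  rw [e]

omit [Finite Γ] in
/-- Multiplicities are invariant under simultaneous conjugation, relation form. -/
theorem mult_eq_of_rel [Finite Γ] {A B : Subgroup Γ} (hAB : A ≤ B) (n : Γ)
    (hnA : n ∈ Subgroup.normalizer (A : Set Γ)) (hnB : n ∈ Subgroup.normalizer (B : Set Γ))
    (χ χ' : IrrCharacter B) (θ θ' : IrrCharacter A)
    (hχ : ∀ k k' : B, (k' : Γ) = n * (k : Γ) * n⁻¹ → (χ' : B → ℂ) k' = (χ : B → ℂ) k)
    (hθ : ∀ k k' : A, (k' : Γ) = n * (k : Γ) * n⁻¹ → (θ' : A → ℂ) k' = (θ : A → ℂ) k) :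
    mult (Subgroup.inclusion hAB) χ' θ' = mult (Subgroup.inclusion hAB) χ θ := by
  have h1 := mult_conj_invariant hAB n hnA hnB χ' θ'
  rw [(RealNorm.rel_iff_pullIrr B n hnB χ χ').mp hχ,
    (RealNorm.rel_iff_pullIrr A n hnA θ θ').mp hθ] at h1
  exact h1.symm

omit [Finite Γ] in
theorem irrDeg_eq_of_rel [Finite Γ] {A : Subgroup Γ} (n : Γ) (θ θ' : IrrCharacter A)
    (hθ : ∀ k k' : A, (k' : Γ) = n * (k : Γ) * n⁻¹ → (θ' : A → ℂ) k' = (θ : A → ℂ) k) :
    irrDeg θ' = irrDeg θ := by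
  have h1 := hθ 1 1 (by simp)
  rw [irrDeg_spec, irrDeg_spec] at h1
  exact_mod_cast h1

omit [Finite Γ] in
/-- Invariance under the elements of a subgroup, relation form. -/
theorem rel_self_of_mem [Finite Γ] (B : Subgroup Γ) (b : Γ) (hb : b ∈ B) (χ : IrrCharacter B) :
    ∀ k k' : B, (k' : Γ) = b * (k : Γ) * b⁻¹ → (χ : B → ℂ) k' = (χ : B → ℂ) k := by
  intro a a' haa'
  have : a' = (⟨b, hb⟩ : B) * a * (⟨b, hb⟩ : B)⁻¹ := Subtype.ext haa'
  rw [this]
  exact isClassFunction_irr χ a ⟨b, hb⟩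

omit [Finite Γ] in
/-- Conjugating a `P`-invariant character by an element normalizing `P`. -/
theorem invAt_of_rel [Finite Γ] (A P : Subgroup Γ) (n : Γ)
    (hnA : n ∈ Subgroup.normalizer (A : Set Γ))
    (hnP : n ∈ Subgroup.normalizer (P : Set Γ)) (hPA : P ≤ Subgroup.normalizer (A : Set Γ))
    (θ θ' : IrrCharacter A)
    (hθ : ∀ k k' : A, (k' : Γ) = n * (k : Γ) * n⁻¹ → (θ' : A → ℂ) k' = (θ : A → ℂ) k)
    (hinv : ∀ x ∈ P, InvAt A (θ : A → ℂ) x) : ∀ x ∈ P, InvAt A (θ' : A → ℂ) x := by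
  intro x hx k k' hk
  have hx' : n⁻¹ * x * n⁻¹⁻¹ ∈ P :=
    (Subgroup.mem_normalizer_iff.mp (Subgroup.inv_mem _ hnP) x).mp hx
  rw [inv_inv] at hx'
  have hmemA : ∀ a : A, n⁻¹ * (a : Γ) * n ∈ A := by
    intro a
    have := (Subgroup.mem_normalizer_iff.mp (Subgroup.inv_mem _ hnA) (a : Γ)).mp a.2
    rwa [inv_inv] at this
  have e1 := hθ ⟨n⁻¹ * (k : Γ) * n, hmemA k⟩ k (by simp only; group)
  have e2 := hθ ⟨n⁻¹ * (k' : Γ) * n, hmemA k'⟩ k' (by simp only; group)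
  rw [e1, e2]
  refine hinv _ hx' _ _ ?_
  simp only
  rw [hk]
  group

end ConjRel

end Cfsg.Agent.Helper29.RealBij
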