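import Mathlib
import Cfsg.Agent.Helper24.RealGlauberman
import Cfsg.Agent.Helper29.RealBijB

/-!
# Real characters and the Sylow normalizer, character bijection (part C): the core argument
-/

set_option autoImplicit false
set_option linter.style.haveILetI false

namespace Cfsg.Agent.Helper29.RealBij

open Cfsg Cfsg.Agent.Helper24 Cfsg.Agent.Helper29.RelGlaub

universe u

section Core

variable {Γ : Type u} [Group Γ] [Finite Γ] {p : ℕ} [hp : Fact p.Prime]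

set_option maxHeartbeats 1000000 in
/-- The core of the Isaacs–Navarro bijection, with the group-theoretic input abstracted. -/
theorem real_bijection_core (Gt K C N P : Subgroup Γ)
    (hK : K ≤ Gt) (hGK : Gt ≤ Subgroup.normalizer (K : Set Γ)) (hoddK : Odd (K.relIndex Gt))
    (hCN : C ≤ N) (hNC : N ≤ Subgroup.normalizer (C : Set Γ)) (hoddC : Odd (C.relIndex N))
    (hCK : C ≤ K) (hNG : N ≤ Gt)
    (hP : IsPGroup p P) (hPN : P ≤ N) (hNP : N ≤ Subgroup.normalizer (P : Set Γ))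
    (GC : GenCorr p (Subgroup.inclusion hCK)
      {θ : IrrCharacter K | ∀ x ∈ P, InvAt K (θ : K → ℂ) x}
      {η : IrrCharacter C | ∀ x ∈ P, InvAt C (η : C → ℂ) x})
    (hdegGC : ∀ (θ : IrrCharacter K) (η : IrrCharacter C), (∀ x ∈ P, InvAt K (θ : K → ℂ) x) →
      (∀ x ∈ P, InvAt C (η : C → ℂ) x) → ¬ p ∣ mult (Subgroup.inclusion hCK) θ η →
      ((irrDeg θ : ℤ) ≡ (irrDeg η : ℤ) [ZMOD p] ∨ (irrDeg θ : ℤ) ≡ -(irrDeg η : ℤ) [ZMOD p]))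
    (hfus : ∀ (χ : IrrCharacter Gt) (θ θ' : IrrCharacter K),
      mult (Subgroup.inclusion hK) χ θ ≠ 0 → mult (Subgroup.inclusion hK) χ θ' ≠ 0 →
      (∀ x ∈ P, InvAt K (θ : K → ℂ) x) → (∀ x ∈ P, InvAt K (θ' : K → ℂ) x) →
      ∃ n ∈ N, ∀ k k' : K, (k' : Γ) = n * (k : Γ) * n⁻¹ → (θ' : K → ℂ) k' = (θ : K → ℂ) k)
    (hrealdeg : ∀ χ : IrrCharacter Gt, (∀ g : Gt, ((χ : Gt → ℂ) g).im = 0) → ¬ p ∣ irrDeg χ) :
    ∃ f : {χ : IrrCharacter Gt // ∀ g : Gt, ((χ : Gt → ℂ) g).im = 0} →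
      {ξ : IrrCharacter N // (∀ n : N, ((ξ : N → ℂ) n).im = 0) ∧ ¬ p ∣ irrDeg ξ},
      Function.Bijective f ∧ ∀ χ, ((irrDeg (f χ).1 : ℤ) ≡ (irrDeg χ.1 : ℤ) [ZMOD p] ∨
        (irrDeg (f χ).1 : ℤ) ≡ -(irrDeg χ.1 : ℤ) [ZMOD p]) := by
  classical
  haveI : Fintype (IrrCharacter K) := Fintype.ofFinite _
  haveI : Fintype (IrrCharacter C) := Fintype.ofFinite _
  have hp' := hp.out
  obtain ⟨RP1a, RP1b, RP1c⟩ := real_pair_amb K Gt hK hGK hoddK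
  obtain ⟨RP2a, RP2b, RP2c⟩ := real_pair_amb C N hCN hNC hoddC
  -- normalizers
  have hNK : N ≤ Subgroup.normalizer (K : Set Γ) := hNG.trans hGK
  have hPK : P ≤ Subgroup.normalizer (K : Set Γ) := hPN.trans hNK
  have hPC : P ≤ Subgroup.normalizer (C : Set Γ) := hPN.trans hNC
  have hPGt : P ≤ Subgroup.normalizer (Gt : Set Γ) := (hPN.trans hNG).trans Subgroup.le_normalizer
  have hPNn : P ≤ Subgroup.normalizer (N : Set Γ) := hPN.trans Subgroup.le_normalizer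
  have hinvGt : ∀ χ : IrrCharacter Gt, ∀ x ∈ P, InvAt Gt (χ : Gt → ℂ) x :=
    fun χ x hx => rel_self_of_mem Gt x (hNG (hPN hx)) χ
  have hinvN : ∀ ξ : IrrCharacter N, ∀ x ∈ P, InvAt N (ξ : N → ℂ) x :=
    fun ξ x hx => rel_self_of_mem N x (hPN hx) ξ
  -- transport of the correspondence by `n ∈ N`
  have T : ∀ (n : Γ), n ∈ N → ∀ (θ θ' : IrrCharacter K) (η η' : IrrCharacter C),
      (∀ k k' : K, (k' : Γ) = n * (k : Γ) * n⁻¹ → (θ' : K → ℂ) k' = (θ : K → ℂ) k) →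
      (∀ k k' : C, (k' : Γ) = n * (k : Γ) * n⁻¹ → (η' : C → ℂ) k' = (η : C → ℂ) k) →
      mult (Subgroup.inclusion hCK) θ' η' = mult (Subgroup.inclusion hCK) θ η :=
    fun n hn θ θ' η η' h1 h2 => mult_eq_of_rel hCK n (hNC hn) (hNK hn) θ θ' η η' h1 h2
  -- the two sets of constituents
  obtain ⟨𝒜, h𝒜⟩ : ∃ 𝒜 : IrrCharacter Gt → IrrCharacter K → Prop,
      𝒜 = fun (χ : IrrCharacter Gt) (θ : IrrCharacter K) =>
      (∀ x ∈ P, InvAt K (θ : K → ℂ) x) ∧ mult (Subgroup.inclusion hK) χ θ ≠ 0 := ⟨_, rfl⟩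
  obtain ⟨ℬ, hℬ⟩ : ∃ ℬ : IrrCharacter N → IrrCharacter C → Prop,
      ℬ = fun (ξ : IrrCharacter N) (η : IrrCharacter C) =>
      (∀ x ∈ P, InvAt C (η : C → ℂ) x) ∧ mult (Subgroup.inclusion hCN) ξ η ≠ 0 := ⟨_, rfl⟩
  have h𝒜iff : ∀ χ θ, 𝒜 χ θ ↔ ((∀ x ∈ P, InvAt K (θ : K → ℂ) x) ∧
      mult (Subgroup.inclusion hK) χ θ ≠ 0) := by intro χ θ; rw [h𝒜]
  have hℬiff : ∀ ξ η, ℬ ξ η ↔ ((∀ x ∈ P, InvAt C (η : C → ℂ) x) ∧
      mult (Subgroup.inclusion hCN) ξ η ≠ 0) := by intro ξ η; rw [hℬ]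
  -- L1
  have L1 : ∀ (χ : IrrCharacter Gt) (ξ : IrrCharacter N) (θ : IrrCharacter K)
      (η : IrrCharacter C), 𝒜 χ θ → ℬ ξ η → ¬ p ∣ mult (Subgroup.inclusion hCK) θ η →
      ∀ θ', 𝒜 χ θ' → ∃ η', ℬ ξ η' ∧ ¬ p ∣ mult (Subgroup.inclusion hCK) θ' η' := by
    intro χ ξ θ η hθ hη hm θ' hθ'
    rw [h𝒜iff] at hθ hθ'
    rw [hℬiff] at hη
    obtain ⟨n, hn, hrel⟩ := hfus χ θ θ' hθ.2 hθ'.2 hθ.1 hθ'.1
    have hrelη := rel_pullIrr_conjE_inv C n (hNC hn) η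
    refine ⟨pullIrr (conjE C n⁻¹ (Subgroup.inv_mem _ (hNC hn))) η, ?_, ?_⟩
    · rw [hℬiff]
      refine ⟨invAt_of_rel C P n (hNC hn) (hNP hn) hPC η _ hrelη hη.1, ?_⟩
      rw [mult_eq_of_rel hCN n (hNC hn) (Subgroup.le_normalizer hn) ξ ξ η _
        (rel_self_of_mem N n hn ξ) hrelη]
      exact hη.2
    · rw [T n hn θ θ' η _ hrel hrelη]
      exact hm
  -- L2
  have L2 : ∀ (χ : IrrCharacter Gt) (ξ : IrrCharacter N) (θ : IrrCharacter K)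
      (η : IrrCharacter C), 𝒜 χ θ → ℬ ξ η → ¬ p ∣ mult (Subgroup.inclusion hCK) θ η →
      ∀ η', ℬ ξ η' → ∃ θ', 𝒜 χ θ' ∧ ¬ p ∣ mult (Subgroup.inclusion hCK) θ' η' := by
    intro χ ξ θ η hθ hη hm η' hη'
    rw [h𝒜iff] at hθ
    rw [hℬiff] at hη hη'
    obtain ⟨n, hn, hnη⟩ := clifford_conj_amb hCN hNC ξ η η' hη.2 hη'.2
    have hrelη := rel_pullIrr_conjE_inv C n (hNC hn) η
    rw [hnη] at hrelη
    have hrelθ := rel_pullIrr_conjE_inv K n (hNK hn) θ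
    refine ⟨pullIrr (conjE K n⁻¹ (Subgroup.inv_mem _ (hNK hn))) θ, ?_, ?_⟩
    · rw [h𝒜iff]
      refine ⟨invAt_of_rel K P n (hNK hn) (hNP hn) hPK θ _ hrelθ hθ.1, ?_⟩
      rw [mult_eq_of_rel hK n (hNK hn) (Subgroup.le_normalizer (hNG hn)) χ χ θ _
        (rel_self_of_mem Gt n (hNG hn) χ) hrelθ]
      exact hθ.2
    · rw [T n hn θ _ η η' hrelθ hrelη]
      exact hm
  -- the relation
  obtain ⟨Rel, hRel⟩ : ∃ Rel : IrrCharacter Gt → IrrCharacter N → Prop,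
      Rel = fun (χ : IrrCharacter Gt) (ξ : IrrCharacter N) =>
      ∃ θ η, 𝒜 χ θ ∧ ℬ ξ η ∧ ¬ p ∣ mult (Subgroup.inclusion hCK) θ η := ⟨_, rfl⟩
  -- L3
  have L3 : ∀ χ : IrrCharacter Gt, (∀ g : Gt, ((χ : Gt → ℂ) g).im = 0) →
      ∃ ξ : IrrCharacter N, (∀ n : N, ((ξ : N → ℂ) n).im = 0) ∧ Rel χ ξ := by
    intro χ hχ
    obtain ⟨θ, hθP, hθm⟩ := exists_invariant_constituent_pprime K Gt P hK hP hPK hPGt χ
      (hinvGt χ) (hrealdeg χ hχ)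
    have hθr := (RP1a χ θ hχ hθm).1
    obtain ⟨η, hηP, hm, huniq⟩ := GC.exU θ hθP
    have hηr : ∀ c : C, ((η : C → ℂ) c).im = 0 := by
      rw [← conjIrr_eq_iff_real]
      apply huniq (conjIrr η) (fun x hx => invAt_conjIrr η x (hηP x hx))
      have h1 := mult_conjIrr (Subgroup.inclusion hCK) θ η
      rw [(conjIrr_eq_iff_real θ).mpr hθr] at h1
      rw [h1]
      exact hm
    obtain ⟨ξ, hξr, hξm⟩ := RP2b η hηr
    refine ⟨ξ, hξr, ?_⟩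
    rw [hRel]
    exact ⟨θ, η, (h𝒜iff χ θ).mpr ⟨hθP, hθm⟩, (hℬiff ξ η).mpr ⟨hηP, hξm⟩, hm⟩
  -- L4
  have L4 : ∀ ξ : IrrCharacter N, (∀ n : N, ((ξ : N → ℂ) n).im = 0) → ¬ p ∣ irrDeg ξ →
      ∃ χ : IrrCharacter Gt, (∀ g : Gt, ((χ : Gt → ℂ) g).im = 0) ∧ Rel χ ξ := by
    intro ξ hξ hξd
    obtain ⟨η, hηP, hηm⟩ := exists_invariant_constituent_pprime C N P hCN hP hPC hPNn ξ
      (hinvN ξ) hξd
    have hηr := (RP2a ξ η hξ hηm).1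
    obtain ⟨θ, hθP, hm⟩ := GC.surj η hηP
    have hθr : ∀ k : K, ((θ : K → ℂ) k).im = 0 := by
      rw [← conjIrr_eq_iff_real]
      symm
      apply GC.inj θ hθP (conjIrr θ) (fun x hx => invAt_conjIrr θ x (hθP x hx)) η hηP hm
      have h1 := mult_conjIrr (Subgroup.inclusion hCK) θ η
      rw [(conjIrr_eq_iff_real η).mpr hηr] at h1
      rw [h1]
      exact hm
    obtain ⟨χ, hχr, hχm⟩ := RP1b θ hθr
    refine ⟨χ, hχr, ?_⟩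
    rw [hRel]
    exact ⟨θ, η, (h𝒜iff χ θ).mpr ⟨hθP, hχm⟩, (hℬiff ξ η).mpr ⟨hηP, hηm⟩, hm⟩
  -- L5
  have L5 : ∀ (χ : IrrCharacter Gt) (ξ ξ' : IrrCharacter N),
      (∀ n : N, ((ξ : N → ℂ) n).im = 0) → (∀ n : N, ((ξ' : N → ℂ) n).im = 0) →
      Rel χ ξ → Rel χ ξ' → ξ = ξ' := by
    intro χ ξ ξ' hξ hξ' h1 h2
    rw [hRel] at h1 h2
    obtain ⟨θ, η, hθ, hη, hm⟩ := h1
    obtain ⟨θ₂, η₂, hθ₂, hη₂, hm₂⟩ := h2
    obtain ⟨η', hη', hm'⟩ := L1 χ ξ' θ₂ η₂ hθ₂ hη₂ hm₂ θ hθ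
    have hθP := ((h𝒜iff χ θ).mp hθ).1
    obtain ⟨η₀, -, -, huniq⟩ := GC.exU θ hθP
    have e1 := huniq η ((hℬiff ξ η).mp hη).1 hm
    have e2 := huniq η' ((hℬiff ξ' η').mp hη').1 hm'
    rw [e2, ← e1] at hη'
    exact RP2c ξ ξ' η hξ hξ' ((hℬiff ξ η).mp hη).2 ((hℬiff ξ' η).mp hη').2
  -- L6
  have L6 : ∀ (χ χ' : IrrCharacter Gt) (ξ : IrrCharacter N),
      (∀ g : Gt, ((χ : Gt → ℂ) g).im = 0) → (∀ g : Gt, ((χ' : Gt → ℂ) g).im = 0) →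
      Rel χ ξ → Rel χ' ξ → χ = χ' := by
    intro χ χ' ξ hχ hχ' h1 h2
    rw [hRel] at h1 h2
    obtain ⟨θ, η, hθ, hη, hm⟩ := h1
    obtain ⟨θ₂, η₂, hθ₂, hη₂, hm₂⟩ := h2
    obtain ⟨θ', hθ', hm'⟩ := L2 χ' ξ θ₂ η₂ hθ₂ hη₂ hm₂ η hη
    have e := GC.inj θ ((h𝒜iff χ θ).mp hθ).1 θ' ((h𝒜iff χ' θ').mp hθ').1 η
      ((hℬiff ξ η).mp hη).1 hm hm'
    rw [← e] at hθ'
    exact RP1c χ χ' θ hχ hχ' ((h𝒜iff χ θ).mp hθ).2 ((h𝒜iff χ' θ).mp hθ').2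
  -- L7: degrees
  have L7 : ∀ (χ : IrrCharacter Gt) (ξ : IrrCharacter N),
      (∀ g : Gt, ((χ : Gt → ℂ) g).im = 0) → (∀ n : N, ((ξ : N → ℂ) n).im = 0) → Rel χ ξ →
      ((irrDeg ξ : ℤ) ≡ (irrDeg χ : ℤ) [ZMOD p] ∨ (irrDeg ξ : ℤ) ≡ -(irrDeg χ : ℤ) [ZMOD p]) := by
    intro χ ξ hχ hξ hrel
    have hrel' := hrel
    rw [hRel] at hrel'
    obtain ⟨θ, η, hθ, hη, hm⟩ := hrel'
    have hθ' := (h𝒜iff χ θ).mp hθ
    have hη' := (hℬiff ξ η).mp hη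
    obtain ⟨𝒜f, h𝒜f⟩ : ∃ 𝒜f : Finset (IrrCharacter K), 𝒜f = (Finset.univ.filter
        (fun θ' : IrrCharacter K => ∀ x ∈ P, InvAt K (θ' : K → ℂ) x)).filter
        (fun θ' => mult (Subgroup.inclusion hK) χ θ' ≠ 0) := ⟨_, rfl⟩
    obtain ⟨ℬf, hℬf⟩ : ∃ ℬf : Finset (IrrCharacter C), ℬf = (Finset.univ.filter
        (fun η' : IrrCharacter C => ∀ x ∈ P, InvAt C (η' : C → ℂ) x)).filter
        (fun η' => mult (Subgroup.inclusion hCN) ξ η' ≠ 0) := ⟨_, rfl⟩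
    have hmem𝒜 : ∀ θ', θ' ∈ 𝒜f ↔ 𝒜 χ θ' := by
      intro θ'
      rw [h𝒜f, h𝒜iff]
      simp only [Finset.mem_filter, Finset.mem_univ, true_and]
    have hmemℬ : ∀ η', η' ∈ ℬf ↔ ℬ ξ η' := by
      intro η'
      rw [hℬf, hℬiff]
      simp only [Finset.mem_filter, Finset.mem_univ, true_and]
    -- the degree of `χ`
    have h1 := irrDeg_modEq_sum_invariant K Gt P hK hP hPK hPGt χ (hinvGt χ)
    have h2 : ∑ θ' ∈ Finset.univ.filter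
        (fun θ' : IrrCharacter K => ∀ x ∈ P, InvAt K (θ' : K → ℂ) x),
        (mult (Subgroup.inclusion hK) χ θ' : ℤ) * (irrDeg θ' : ℤ) =
        (𝒜f.card : ℤ) * (irrDeg θ : ℤ) := by
      rw [h𝒜f, Finset.card_filter, Nat.cast_sum, Finset.sum_mul]
      refine Finset.sum_congr rfl ?_
      intro θ' hθ'mem
      have hθ'P := (Finset.mem_filter.mp hθ'mem).2
      by_cases h0 : mult (Subgroup.inclusion hK) χ θ' = 0
      · simp [h0]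
      · rw [if_pos h0, (RP1a χ θ' hχ h0).2]
        obtain ⟨n, -, hn⟩ := hfus χ θ θ' hθ'.2 h0 hθ'.1 hθ'P
        rw [irrDeg_eq_of_rel n θ θ' hn]
    have h3 := irrDeg_modEq_sum_invariant C N P hCN hP hPC hPNn ξ (hinvN ξ)
    have h4 : ∑ η' ∈ Finset.univ.filter
        (fun η' : IrrCharacter C => ∀ x ∈ P, InvAt C (η' : C → ℂ) x),
        (mult (Subgroup.inclusion hCN) ξ η' : ℤ) * (irrDeg η' : ℤ) =
        (ℬf.card : ℤ) * (irrDeg η : ℤ) := by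
      rw [hℬf, Finset.card_filter, Nat.cast_sum, Finset.sum_mul]
      refine Finset.sum_congr rfl ?_
      intro η' _
      by_cases h0 : mult (Subgroup.inclusion hCN) ξ η' = 0
      · simp [h0]
      · rw [if_pos h0, (RP2a ξ η' hξ h0).2]
        obtain ⟨n, hn, hnη⟩ := clifford_conj_amb hCN hNC ξ η η' hη'.2 h0
        have hrelη := rel_pullIrr_conjE_inv C n (hNC hn) η
        rw [hnη] at hrelη
        rw [irrDeg_eq_of_rel n η η' hrelη]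
    -- the bijection between the two sets of constituents
    have hch : ∀ θ', θ' ∈ 𝒜f → ∃ η', ℬ ξ η' ∧ ¬ p ∣ mult (Subgroup.inclusion hCK) θ' η' :=
      fun θ' hθ'mem => L1 χ ξ θ η hθ hη hm θ' ((hmem𝒜 θ').mp hθ'mem)
    have hcard : 𝒜f.card = ℬf.card := by
      refine Finset.card_bij (fun θ' hθ'mem => (hch θ' hθ'mem).choose) ?_ ?_ ?_
      · intro θ' hθ'mem
        exact (hmemℬ _).mpr (hch θ' hθ'mem).choose_spec.1
      · intro θ₁ h₁ θ₂ h₂ heq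
        have s1 := (hch θ₁ h₁).choose_spec
        have s2 := (hch θ₂ h₂).choose_spec
        rw [← heq] at s2
        exact GC.inj θ₁ ((h𝒜iff χ θ₁).mp ((hmem𝒜 θ₁).mp h₁)).1 θ₂
          ((h𝒜iff χ θ₂).mp ((hmem𝒜 θ₂).mp h₂)).1 _ ((hℬiff ξ _).mp s1.1).1 s1.2 s2.2
      · intro η' hη'mem
        obtain ⟨θ', hθ'𝒜, hm'⟩ := L2 χ ξ θ η hθ hη hm η' ((hmemℬ η').mp hη'mem)
        refine ⟨θ', (hmem𝒜 θ').mpr hθ'𝒜, ?_⟩
        have s1 := (hch θ' ((hmem𝒜 θ').mpr hθ'𝒜)).choose_spec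
        obtain ⟨η₀, -, -, huniq⟩ := GC.exU θ' ((h𝒜iff χ θ').mp hθ'𝒜).1
        have e1 := huniq _ ((hℬiff ξ _).mp s1.1).1 s1.2
        have e2 := huniq η' ((hℬiff ξ η').mp ((hmemℬ η').mp hη'mem)).1 hm'
        exact e1.trans e2.symm
    rw [h2] at h1
    rw [h4, ← hcard] at h3
    rcases hdegGC θ η hθ'.1 hη'.1 hm with h | h
    · left
      have h5 := h.mul_left (𝒜f.card : ℤ)
      exact h3.trans (h5.symm.trans h1.symm)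
    · right
      have h5 := h.mul_left (𝒜f.card : ℤ)
      have h6 : (𝒜f.card : ℤ) * (irrDeg η : ℤ) ≡ -((𝒜f.card : ℤ) * (irrDeg θ : ℤ)) [ZMOD p] := by
        have h7 := h5.neg
        rw [mul_neg, neg_neg] at h7
        exact h7.symm
      exact h3.trans (h6.trans h1.symm.neg)
  -- assembly
  have hex : ∀ χ : {χ : IrrCharacter Gt // ∀ g : Gt, ((χ : Gt → ℂ) g).im = 0},
      ∃ ξ : {ξ : IrrCharacter N // (∀ n : N, ((ξ : N → ℂ) n).im = 0) ∧ ¬ p ∣ irrDeg ξ},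
        Rel χ.1 ξ.1 := by
    intro χ
    obtain ⟨ξ, hξr, hξrel⟩ := L3 χ.1 χ.2
    have hd := L7 χ.1 ξ χ.2 hξr hξrel
    have hχd := hrealdeg χ.1 χ.2
    have hξd : ¬ p ∣ irrDeg ξ := by
      intro hdiv
      apply hχd
      have h1 : (irrDeg ξ : ℤ) ≡ 0 [ZMOD p] :=
        Int.modEq_zero_iff_dvd.mpr (by exact_mod_cast hdiv)
      rcases hd with h | h
      · have h2 := h.symm.trans h1
        have h3 : (p : ℤ) ∣ (irrDeg χ.1 : ℤ) := Int.modEq_zero_iff_dvd.mp h2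
        exact_mod_cast h3
      · have h2 := h.symm.trans h1
        have h3 : (p : ℤ) ∣ -(irrDeg χ.1 : ℤ) := Int.modEq_zero_iff_dvd.mp h2
        rw [dvd_neg] at h3
        exact_mod_cast h3
    exact ⟨⟨ξ, hξr, hξd⟩, hξrel⟩
  choose f hf using hex
  refine ⟨f, ⟨?_, ?_⟩, ?_⟩
  · intro χ χ' hχχ'
    apply Subtype.ext
    have h1 := hf χ
    have h2 := hf χ'
    rw [← hχχ'] at h2
    exact L6 χ.1 χ'.1 (f χ).1 χ.2 χ'.2 h1 h2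
  · intro ξ
    obtain ⟨χ, hχr, hχrel⟩ := L4 ξ.1 ξ.2.1 ξ.2.2
    refine ⟨⟨χ, hχr⟩, ?_⟩
    apply Subtype.ext
    exact L5 χ (f ⟨χ, hχr⟩).1 ξ.1 (f ⟨χ, hχr⟩).2.1 ξ.2.1 (hf ⟨χ, hχr⟩) hχrel
  · intro χ
    exact L7 χ.1 (f χ).1 χ.2 (f χ).2.1 (hf χ)

end Core

end Cfsg.Agent.Helper29.RealBij
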