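import Mathlib
import Cfsg.Agent.Helper29.RealNormA

/-!
# Real classes and the Sylow normalizer (Isaacs–Navarro, Theorem B): the coprime case

`exists_conj_mem_centralizer`: if `K` is a normal `p'`-subgroup of odd index and all real
irreducible characters have `p'`-degree, every real class meets `C_K(P)`.
-/

set_option autoImplicit false
set_option linter.style.haveILetI false

namespace Cfsg.Agent.Helper29.RealNorm

open Cfsg Cfsg.Agent.Helper24

universe u

section Transport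

variable {Γ : Type u} [Group Γ] [Finite Γ]

omit [Finite Γ] in
/-- Orbits of `M` on the real irreducible characters of `H ≤ M`, computed in `Γ` or in `M`. -/
theorem card_quot_transport (H M : Subgroup Γ) (hHM : H ≤ M) :
    Nat.card (Quot (fun β γ : {β : IrrCharacter H // ∀ c, ((β : H → ℂ) c).im = 0} =>
      ∃ g ∈ M, ∀ c c' : H, (c' : Γ) = g * (c : Γ) * g⁻¹ →
          (γ.1 : H → ℂ) c' = (β.1 : H → ℂ) c)) =
    Nat.card (Quot (fun θ η : {θ : IrrCharacter ↥(H.subgroupOf M) //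
        ∀ k, ((θ : ↥(H.subgroupOf M) → ℂ) k).im = 0} =>
      ∃ g : M, ∀ k k' : ↥(H.subgroupOf M), (k' : M) = g * (k : M) * g⁻¹ →
        (η.1 : ↥(H.subgroupOf M) → ℂ) k' = (θ.1 : ↥(H.subgroupOf M) → ℂ) k)) := by
  let e : ↥(H.subgroupOf M) ≃* ↥H := Subgroup.subgroupOfEquivOfLe hHM
  have he : ∀ k : ↥(H.subgroupOf M), ((e k : H) : Γ) = ((k : M) : Γ) := fun k => rfl
  let E : {β : IrrCharacter H // ∀ c, ((β : H → ℂ) c).im = 0} ≃
      {θ : IrrCharacter ↥(H.subgroupOf M) // ∀ k, ((θ : ↥(H.subgroupOf M) → ℂ) k).im = 0} :=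
    { toFun := fun β => ⟨pullIrr e β.1, fun k => β.2 (e k)⟩
      invFun := fun θ => ⟨pullIrr e.symm θ.1, fun c => θ.2 (e.symm c)⟩
      left_inv := fun β => Subtype.ext (pullIrr_symm' e β.1)
      right_inv := fun θ => Subtype.ext (pullIrr_symm e θ.1) }
  refine Nat.card_congr (Quot.congr E ?_)
  intro β γ
  show (∃ g ∈ M, ∀ c c' : H, (c' : Γ) = g * (c : Γ) * g⁻¹ →
          (γ.1 : H → ℂ) c' = (β.1 : H → ℂ) c) ↔
    (∃ g : M, ∀ k k' : ↥(H.subgroupOf M), (k' : M) = g * (k : M) * g⁻¹ →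
        (pullIrr e γ.1 : ↥(H.subgroupOf M) → ℂ) k' = (pullIrr e β.1 : ↥(H.subgroupOf M) → ℂ) k)
  constructor
  · rintro ⟨g, hg, h⟩
    refine ⟨⟨g, hg⟩, ?_⟩
    intro k k' hk
    rw [pullIrr_apply, pullIrr_apply]
    refine h (e k) (e k') ?_
    rw [he, he, hk]
    rfl
  · rintro ⟨g, h⟩
    refine ⟨g, g.2, ?_⟩
    intro c c' hc
    have h1 := h (e.symm c) (e.symm c') (by
      apply Subtype.ext
      have h2 : (((e.symm c' : ↥(H.subgroupOf M)) : M) : Γ) = (c' : Γ) := by
        rw [← he, MulEquiv.apply_symm_apply]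
      have h3 : (((e.symm c : ↥(H.subgroupOf M)) : M) : Γ) = (c : Γ) := by
        rw [← he, MulEquiv.apply_symm_apply]
      rw [h2, hc]
      simp only [Subgroup.coe_mul, Subgroup.coe_inv]
      rw [h3])
    rw [pullIrr_apply, pullIrr_apply, MulEquiv.apply_symm_apply, MulEquiv.apply_symm_apply] at h1
    exact h1

end Transport

section Main

variable {Γ : Type u} [Group Γ] [Finite Γ] {p : ℕ} [hp : Fact p.Prime]
variable (K : Subgroup Γ) [hK : K.Normal]

omit [Finite Γ] hp in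
theorem inf_normalizer_le_centralizer (P : Subgroup Γ)
    (hcop : (Nat.card K).Coprime (Nat.card P)) :
    K ⊓ Subgroup.normalizer (P : Set Γ) ≤ Subgroup.centralizer (P : Set Γ) := by
  rintro k ⟨hkK, hkN⟩
  rw [Subgroup.mem_centralizer_iff]
  intro x hx
  have hbot : K ⊓ P = ⊥ := (Subgroup.disjoint_of_coprime_natCard hcop).eq_bot
  have hc : k * x * k⁻¹ * x⁻¹ ∈ K ⊓ P := by
    refine ⟨?_, ?_⟩
    · have h1 : k * x * k⁻¹ * x⁻¹ = k * (x * k⁻¹ * x⁻¹) := by group
      rw [h1]
      exact K.mul_mem hkK (hK.conj_mem _ (K.inv_mem hkK) x)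
    · exact P.mul_mem ((Subgroup.mem_normalizer_iff.mp hkN x).mp hx) (P.inv_mem hx)
  rw [hbot, Subgroup.mem_bot] at hc
  calc x * k = (k * x * k⁻¹ * x⁻¹)⁻¹ * (k * x) := by group
    _ = k * x := by rw [hc, inv_one, one_mul]

/-- **Isaacs–Navarro, Theorem B (coprime case).** Let `K` be a normal `p'`-subgroup of odd index
in `Γ` and assume that all real irreducible characters of `Γ` have degree prime to `p`. Then
every real element of `Γ` is conjugate to an element of `C_K(P)`, `P` a Sylow `p`-subgroup. -/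
theorem exists_conj_mem_centralizer (hodd : Odd K.index) (hKp : ¬ p ∣ Nat.card K)
    (P : Sylow p Γ)
    (hreal : ∀ χ : IrrCharacter Γ, (∀ g : Γ, ((χ : Γ → ℂ) g).im = 0) → ¬ p ∣ irrDeg χ)
    (x : Γ) (hx : IsConj x x⁻¹) :
    ∃ y ∈ K ⊓ Subgroup.centralizer ((P : Subgroup Γ) : Set Γ), IsConj x y := by
  classical
  have hp' := hp.out
  have hcop : (Nat.card K).Coprime (Nat.card (P : Subgroup Γ)) := by
    obtain ⟨a, ha⟩ := IsPGroup.iff_card.mp P.2
    rw [ha]
    exact Nat.Coprime.pow_right a ((Nat.Prime.coprime_iff_not_dvd hp').mpr hKp).symm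
  have hCM : K ⊓ Subgroup.centralizer ((P : Subgroup Γ) : Set Γ) ≤
      Subgroup.normalizer ((P : Subgroup Γ) : Set Γ) :=
    inf_le_right.trans (Subgroup.centralizer_le_normalizer _)
  have heq : (K ⊓ Subgroup.centralizer ((P : Subgroup Γ) : Set Γ)).subgroupOf
      (Subgroup.normalizer ((P : Subgroup Γ) : Set Γ)) =
      K.subgroupOf (Subgroup.normalizer ((P : Subgroup Γ) : Set Γ)) := by
    ext m
    rw [Subgroup.mem_subgroupOf, Subgroup.mem_subgroupOf]
    constructor
    · exact fun h => h.1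
    · intro h
      exact ⟨h, inf_normalizer_le_centralizer K (P : Subgroup Γ) hcop ⟨h, m.2⟩⟩
  haveI hN : ((K ⊓ Subgroup.centralizer ((P : Subgroup Γ) : Set Γ)).subgroupOf
      (Subgroup.normalizer ((P : Subgroup Γ) : Set Γ))).Normal := by
    rw [heq]; infer_instance
  have hodd' : Odd ((K ⊓ Subgroup.centralizer ((P : Subgroup Γ) : Set Γ)).subgroupOf
      (Subgroup.normalizer ((P : Subgroup Γ) : Set Γ))).index := by
    rw [heq]
    have h1 : (K.subgroupOf (Subgroup.normalizer ((P : Subgroup Γ) : Set Γ))).index ∣ K.index :=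
      Subgroup.relIndex_dvd_index_of_normal K _
    exact Odd.of_dvd_nat hodd h1
  have c1 := card_real_classes_eq_card_quot K hodd
  have c2 := card_orbits_real_irr_eq_card_orbits_real_classes K hodd
  have c3 := card_orbits_eq_card_normalizer_orbits K hodd P hreal
  have c4 := card_normalizer_orbits_eq K (P : Subgroup Γ) P.2 hKp
  have c5 := card_quot_transport (K ⊓ Subgroup.centralizer ((P : Subgroup Γ) : Set Γ))
    (Subgroup.normalizer ((P : Subgroup Γ) : Set Γ)) hCM
  have c6 := card_orbits_real_irr_eq_card_orbits_real_classes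
    ((K ⊓ Subgroup.centralizer ((P : Subgroup Γ) : Set Γ)).subgroupOf
      (Subgroup.normalizer ((P : Subgroup Γ) : Set Γ))) hodd'
  have ctotal := c1.trans (c2.symm.trans (c3.trans (c4.trans (c5.trans c6))))
  -- the map from `M`-classes of real elements of `C` to real classes of `Γ`
  let F : Quot (fun x y : {x : ↥((K ⊓ Subgroup.centralizer ((P : Subgroup Γ) : Set Γ)).subgroupOf
      (Subgroup.normalizer ((P : Subgroup Γ) : Set Γ))) // IsConj x x⁻¹} =>
      ∃ g : ↥(Subgroup.normalizer ((P : Subgroup Γ) : Set Γ)),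
        (y.1 : ↥(Subgroup.normalizer ((P : Subgroup Γ) : Set Γ))) = g * x.1 * g⁻¹) →
      {C : ConjClasses Γ // conjClassesInv C = C} :=
    Quot.lift (fun x => ⟨ConjClasses.mk ((x.1 : ↥(Subgroup.normalizer
        ((P : Subgroup Γ) : Set Γ))) : Γ), by
      rw [conjClassesInv_mk, ConjClasses.mk_eq_mk_iff_isConj]
      obtain ⟨c, hc⟩ := isConj_iff.mp x.2
      rw [isConj_comm, isConj_iff]
      refine ⟨((c : ↥(Subgroup.normalizer ((P : Subgroup Γ) : Set Γ))) : Γ), ?_⟩
      have := congrArg (fun z : ↥((K ⊓ Subgroup.centralizer ((P : Subgroup Γ) : Set Γ)).subgroupOf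
        (Subgroup.normalizer ((P : Subgroup Γ) : Set Γ))) =>
        ((z : ↥(Subgroup.normalizer ((P : Subgroup Γ) : Set Γ))) : Γ)) hc
      simpa using this⟩) (by
      rintro x y ⟨g, hg⟩
      apply Subtype.ext
      show ConjClasses.mk _ = ConjClasses.mk _
      rw [ConjClasses.mk_eq_mk_iff_isConj, isConj_iff]
      refine ⟨(g : Γ), ?_⟩
      rw [hg]
      simp)
  have hFinj : Function.Injective F := by
    rintro ⟨a⟩ ⟨b⟩ h
    have h1 : ConjClasses.mk ((a.1 : ↥(Subgroup.normalizer ((P : Subgroup Γ) : Set Γ))) : Γ) =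
        ConjClasses.mk ((b.1 : ↥(Subgroup.normalizer ((P : Subgroup Γ) : Set Γ))) : Γ) :=
      congrArg Subtype.val h
    rw [ConjClasses.mk_eq_mk_iff_isConj, isConj_iff] at h1
    obtain ⟨g, hg⟩ := h1
    -- fusion
    letI A : MulAction Γ Γ := MulAction.compHom Γ (MulAut.conj : Γ →* MulAut Γ)
    have hsm : ∀ u v : Γ, A.smul u v = u * v * u⁻¹ := fun u v => rfl
    have hfix : ∀ z : ↥((K ⊓ Subgroup.centralizer ((P : Subgroup Γ) : Set Γ)).subgroupOf
        (Subgroup.normalizer ((P : Subgroup Γ) : Set Γ))), ∀ u ∈ P,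
        u * ((z : ↥(Subgroup.normalizer ((P : Subgroup Γ) : Set Γ))) : Γ) * u⁻¹ =
          ((z : ↥(Subgroup.normalizer ((P : Subgroup Γ) : Set Γ))) : Γ) := by
      intro z u hu
      have hz : ((z : ↥(Subgroup.normalizer ((P : Subgroup Γ) : Set Γ))) : Γ) ∈
          K ⊓ Subgroup.centralizer ((P : Subgroup Γ) : Set Γ) := Subgroup.mem_subgroupOf.mp z.2
      have hz2 : ((z : ↥(Subgroup.normalizer ((P : Subgroup Γ) : Set Γ))) : Γ) ∈
          Subgroup.centralizer ((P : Subgroup Γ) : Set Γ) := hz.2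
      rw [Subgroup.mem_centralizer_iff] at hz2
      rw [hz2 u hu, mul_inv_cancel_right]
    obtain ⟨m, hm, hmx⟩ := @exists_normalizer_smul Γ _ _ p hp Γ A P
      ((a.1 : ↥(Subgroup.normalizer ((P : Subgroup Γ) : Set Γ))) : Γ) g
      (fun u hu => hfix a.1 u hu) (fun u hu => by
        show u * (g * _ * g⁻¹) * u⁻¹ = g * _ * g⁻¹
        rw [hg]
        exact hfix b.1 u hu)
    apply Quot.sound
    refine ⟨⟨m, hm⟩, ?_⟩
    apply Subtype.ext
    have hmx' : m * ((a.1 : ↥(Subgroup.normalizer ((P : Subgroup Γ) : Set Γ))) : Γ) * m⁻¹ =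
        g * ((a.1 : ↥(Subgroup.normalizer ((P : Subgroup Γ) : Set Γ))) : Γ) * g⁻¹ := hmx
    rw [← hg, ← hmx']
    simp
  have hFbij := hFinj.bijective_of_nat_card_le (le_of_eq ctotal)
  obtain ⟨q, hq⟩ := hFbij.2 ⟨ConjClasses.mk x, by
    rw [conjClassesInv_mk, ConjClasses.mk_eq_mk_iff_isConj]
    exact hx.symm⟩
  induction q using Quot.inductionOn with
  | _ a =>
    have h1 : ConjClasses.mk ((a.1 : ↥(Subgroup.normalizer ((P : Subgroup Γ) : Set Γ))) : Γ) =
        ConjClasses.mk x := congrArg Subtype.val hq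
    rw [ConjClasses.mk_eq_mk_iff_isConj] at h1
    exact ⟨_, Subgroup.mem_subgroupOf.mp a.1.2, h1.symm⟩

end Main

end Cfsg.Agent.Helper29.RealNorm
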