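import Mathlib
import Cfsg.Agent.Helper24.OddIndexReal
import Cfsg.Agent.Helper29.SchurPE
import Cfsg.Agent.Helper8.CharComp

/-!
# Real classes and real characters modulo a normal subgroup of odd order

* `exists_real_lift`: a real element of `G ⧸ M`, `|M|` odd, lifts to a real element of `G`;
* `eq_one_of_real_of_le_real_kernels`: if every real irreducible character of `G` is trivial on
  the normal subgroup `M` of odd order, then `M` contains no nontrivial real element of `G`;
* `le_centralizer_of_no_real`: then every `2`-element centralizes `M`.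
-/

set_option autoImplicit false
set_option linter.style.haveILetI false

namespace Cfsg.Agent.Helper29.RealPP

open Cfsg Cfsg.Agent.Helper24

universe u

section Lift

variable {G : Type*} [Group G]

theorem conj_pow_odd {a g : G} (h : a * g * a⁻¹ = g⁻¹) (b : ℕ) (hb : Odd b) :
    a ^ b * g * (a ^ b)⁻¹ = g⁻¹ := by
  obtain ⟨j, rfl⟩ := hb
  have h2 : a ^ 2 * g * (a ^ 2)⁻¹ = g := by
    have : a ^ 2 * g * (a ^ 2)⁻¹ = a * (a * g * a⁻¹) * a⁻¹ := by rw [pow_two]; group
    rw [this, h]
    have : a * g⁻¹ * a⁻¹ = (a * g * a⁻¹)⁻¹ := by group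
    rw [this, h, inv_inv]
  have hc : Commute (a ^ 2) g := by
    have : a ^ 2 * g = g * a ^ 2 := by
      calc a ^ 2 * g = (a ^ 2 * g * (a ^ 2)⁻¹) * a ^ 2 := by group
        _ = g * a ^ 2 := by rw [h2]
    exact this
  have hc' : Commute ((a ^ 2) ^ j) g⁻¹ := (hc.pow_left j).inv_right
  have e : a ^ (2 * j + 1) * g * (a ^ (2 * j + 1))⁻¹ =
      (a ^ 2) ^ j * (a * g * a⁻¹) * ((a ^ 2) ^ j)⁻¹ := by
    rw [pow_succ, pow_mul]; group
  rw [e, h, hc'.eq]
  group

/-- A real element of `G ⧸ M` with `|M|` odd lifts to a real element of `G`. -/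
theorem exists_real_lift [Finite G] (M : Subgroup G) [hM : M.Normal] (hodd : Odd (Nat.card M))
    (g x : G)
    (hx : QuotientGroup.mk' M x * QuotientGroup.mk' M g * (QuotientGroup.mk' M x)⁻¹ =
      (QuotientGroup.mk' M g)⁻¹) :
    ∃ y z : G, QuotientGroup.mk' M y = QuotientGroup.mk' M g ∧ z * y * z⁻¹ = y⁻¹ := by
  classical
  -- replace `x` by a `2`-element
  obtain ⟨a, b, hb, hab⟩ := Nat.exists_eq_two_pow_mul_odd (orderOf_pos x).ne'
  obtain ⟨z, hz⟩ : ∃ z : G, z = x ^ b := ⟨_, rfl⟩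
  have hz1 : z ^ 2 ^ a = 1 := by
    rw [hz, ← pow_mul, mul_comm, ← hab, pow_orderOf_eq_one]
  have hzg : QuotientGroup.mk' M z * QuotientGroup.mk' M g * (QuotientGroup.mk' M z)⁻¹ =
      (QuotientGroup.mk' M g)⁻¹ := by
    rw [hz, map_pow]
    exact conj_pow_odd hx b hb
  haveI : Fintype G := Fintype.ofFinite G
  -- the coset `gM`
  obtain ⟨S, hS⟩ : ∃ S : Set G, S = {y : G | QuotientGroup.mk' M y = QuotientGroup.mk' M g} :=
    ⟨_, rfl⟩
  have hmemS : ∀ y, y ∈ S ↔ QuotientGroup.mk' M y = QuotientGroup.mk' M g := by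
    intro y; rw [hS]; rfl
  have hfS : ∀ y : S, z * (y : G)⁻¹ * z⁻¹ ∈ S := by
    intro y
    have hy := (hmemS y).mp y.2
    rw [hmemS, map_mul, map_mul, map_inv, map_inv, hy]
    have : QuotientGroup.mk' M z * (QuotientGroup.mk' M g)⁻¹ * (QuotientGroup.mk' M z)⁻¹ =
        (QuotientGroup.mk' M z * QuotientGroup.mk' M g * (QuotientGroup.mk' M z)⁻¹)⁻¹ := by group
    rw [this, hzg, inv_inv]
  obtain ⟨f, hf⟩ : ∃ f : Function.End S, ∀ y : S, ((f y : S) : G) = z * (y : G)⁻¹ * z⁻¹ :=
    ⟨fun y => ⟨z * (y : G)⁻¹ * z⁻¹, hfS y⟩, fun y => rfl⟩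
  have hmul : ∀ (u v : Function.End S) (y : S), (u * v) y = u (v y) := fun _ _ _ => rfl
  have hone : ∀ y : S, (1 : Function.End S) y = y := fun _ => rfl
  have hf2 : ∀ (k : ℕ) (y : S), (((f ^ 2) ^ k) y : G) = z ^ (2 * k) * (y : G) * (z ^ (2 * k))⁻¹ := by
    intro k
    induction k with
    | zero =>
      intro y
      rw [pow_zero, hone]
      simp
    | succ k ih =>
      intro y
      rw [pow_succ, hmul, ih, pow_two, hmul, hf, hf]
      have : 2 * (k + 1) = 2 * k + 2 := by ring
      rw [this, pow_add]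
      group
  have hfpow : f ^ 2 ^ (a + 1) = 1 := by
    have : f ^ 2 ^ (a + 1) = (f ^ 2) ^ 2 ^ a := by rw [← pow_mul, pow_succ, mul_comm]
    rw [this]
    funext y
    apply Subtype.ext
    rw [hf2, hone]
    have : z ^ (2 * 2 ^ a) = 1 := by rw [mul_comm, pow_mul, hz1, one_pow]
    rw [this]
    simp
  haveI : Fintype S := Fintype.ofFinite S
  have hcardS : Fintype.card S = Nat.card M := by
    rw [← Nat.card_eq_fintype_card]
    symm
    refine Nat.card_congr (Equiv.ofBijective (fun m : M => (⟨g * m, ?_⟩ : S)) ⟨?_, ?_⟩)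
    · rw [hmemS, map_mul]
      have : QuotientGroup.mk' M (m : G) = 1 := (QuotientGroup.eq_one_iff _).mpr m.2
      rw [this, mul_one]
    · intro m₁ m₂ h
      have := congrArg Subtype.val h
      simp only at this
      exact Subtype.ext (mul_left_cancel this)
    · intro y
      have hy := (hmemS y).mp y.2
      have : g⁻¹ * (y : G) ∈ M := by
        rw [← QuotientGroup.eq_one_iff, ← QuotientGroup.mk'_apply, map_mul, map_inv, hy,
          inv_mul_cancel]
      refine ⟨⟨g⁻¹ * y, this⟩, ?_⟩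
      apply Subtype.ext
      simp
  haveI : Fact (Nat.Prime 2) := ⟨Nat.prime_two⟩
  have hmod := Equiv.Perm.card_fixedPoints_modEq (p := 2) (n := a + 1) hfpow
  rw [hcardS] at hmod
  have key : ∀ (T : Set S) (inst : Fintype T), Nat.card M ≡ @Fintype.card T inst [MOD 2] →
      T.Nonempty := by
    intro T inst h
    by_contra hne
    rw [Set.not_nonempty_iff_eq_empty] at hne
    subst hne
    have h0 : @Fintype.card (∅ : Set S) inst = 0 := by
      rw [Fintype.card_eq_zero_iff]; infer_instance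
    rw [h0] at h
    have h1 := Nat.odd_iff.mp hodd
    have h2 : Nat.card M % 2 = 0 % 2 := h
    omega
  obtain ⟨y, hy⟩ := key _ _ hmod
  refine ⟨y, z, (hmemS y).mp y.2, ?_⟩
  have h1 : ((f y : S) : G) = y := congrArg Subtype.val hy
  rw [hf] at h1
  calc z * (y : G) * z⁻¹ = (z * (y : G)⁻¹ * z⁻¹)⁻¹ := by group
    _ = (y : G)⁻¹ := by rw [h1]

end Lift

section Central

variable {G : Type*} [Group G]

/-- If the normal subgroup `M` contains no nontrivial real element of `G`, then every `2`-element of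
`G` centralizes `M`. -/
theorem closure_two_le_centralizer (M : Subgroup G) [hM : M.Normal]
    (hreal : ∀ m ∈ M, IsConj m m⁻¹ → m = 1) :
    Subgroup.closure {g : G | ∃ k : ℕ, orderOf g = 2 ^ k} ≤ Subgroup.centralizer (M : Set G) := by
  have key : ∀ k : ℕ, ∀ x : G, x ^ 2 ^ k = 1 → x ∈ Subgroup.centralizer (M : Set G) := by
    intro k
    induction k with
    | zero =>
      intro x hx
      rw [pow_zero, pow_one] at hx
      rw [hx]
      exact Subgroup.one_mem _
    | succ k ih =>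
      intro x hx
      have hx2 : (x ^ 2) ^ 2 ^ k = 1 := by rw [← pow_mul, ← pow_succ']; exact hx
      have h2 := ih _ hx2
      rw [Subgroup.mem_centralizer_iff] at h2 ⊢
      intro m hm
      have hm' : x * m * x⁻¹ ∈ M := hM.conj_mem m hm x
      have hw : m⁻¹ * (x * m * x⁻¹) ∈ M := M.mul_mem (M.inv_mem hm) hm'
      have hconj : x * (m⁻¹ * (x * m * x⁻¹)) * x⁻¹ = (m⁻¹ * (x * m * x⁻¹))⁻¹ := by
        have e1 : x * (m⁻¹ * (x * m * x⁻¹)) * x⁻¹ =
            (x * m * x⁻¹)⁻¹ * (x ^ 2 * m * (x ^ 2)⁻¹) := by rw [pow_two]; group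
        have e2 : x ^ 2 * m * (x ^ 2)⁻¹ = m := by
          rw [← h2 m hm]; group
        rw [e1, e2]
        group
      have h1 := hreal _ hw (isConj_iff.mpr ⟨x, hconj⟩)
      have : x * m * x⁻¹ = m := by
        have := congrArg (fun t => m * t) h1
        simpa using this
      calc m * x = (x * m * x⁻¹) * x := by rw [this]
        _ = x * m := by group
  rw [Subgroup.closure_le]
  rintro x ⟨k, hk⟩
  apply key k
  rw [← hk, pow_orderOf_eq_one]

end Central

section Count

variable {G : Type u} [Group G] [Finite G]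

/-- If every real irreducible character of `G` is trivial on the normal subgroup `M` of odd order,
then the only real element of `G` in `M` is the identity. -/
theorem eq_one_of_real_of_le_real_kernels (M : Subgroup G) [hM : M.Normal]
    (hodd : Odd (Nat.card M))
    (hker : ∀ χ : IrrCharacter G, (∀ g : G, ((χ : G → ℂ) g).im = 0) →
      ∀ m ∈ M, (χ : G → ℂ) m = (χ : G → ℂ) 1)
    (m : G) (hm : m ∈ M) (hreal : IsConj m m⁻¹) : m = 1 := by
  classical
  -- real characters of `G` inject into real characters of `G ⧸ M`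
  have hexq : ∀ χ : {χ : IrrCharacter G // ∀ g : G, ((χ : G → ℂ) g).im = 0},
      ∃ ψ : IrrCharacter (G ⧸ M), ∀ g : G,
        (ψ : G ⧸ M → ℂ) (QuotientGroup.mk' M g) = (χ.1 : G → ℂ) g :=
    fun χ => Cfsg.Agent.Helper29.SchurP.exists_irr_quot M χ.1 (hker χ.1 χ.2)
  choose Ψ hΨ using hexq
  have hΨreal : ∀ χ, ∀ q : G ⧸ M, ((Ψ χ : G ⧸ M → ℂ) q).im = 0 := by
    intro χ q
    obtain ⟨g, rfl⟩ := QuotientGroup.mk'_surjective M q
    rw [hΨ]
    exact χ.2 g
  have hinj : Function.Injective (fun χ : {χ : IrrCharacter G // ∀ g : G, ((χ : G → ℂ) g).im = 0} =>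
      (⟨Ψ χ, hΨreal χ⟩ : {ψ : IrrCharacter (G ⧸ M) // ∀ q : G ⧸ M, ((ψ : G ⧸ M → ℂ) q).im = 0})) := by
    intro χ₁ χ₂ h
    have h1 : Ψ χ₁ = Ψ χ₂ := congrArg Subtype.val h
    apply Subtype.ext
    apply Subtype.ext
    funext g
    rw [← hΨ χ₁ g, ← hΨ χ₂ g, h1]
  have hle1 := Nat.card_le_card_of_injective _ hinj
  rw [card_real_irr_eq_card_conjClassesInv_fixed, card_real_irr_eq_card_conjClassesInv_fixed] at hle1
  -- real classes of `G` map onto real classes of `G ⧸ M`
  have hmapinv : ∀ C : ConjClasses G, conjClassesInv (ConjClasses.map (QuotientGroup.mk' M) C) =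
      ConjClasses.map (QuotientGroup.mk' M) (conjClassesInv C) := by
    intro C
    obtain ⟨g, rfl⟩ := ConjClasses.mk_surjective C
    rw [conjClassesInv_mk]
    show conjClassesInv (ConjClasses.mk (QuotientGroup.mk' M g)) =
      ConjClasses.mk (QuotientGroup.mk' M g⁻¹)
    rw [conjClassesInv_mk, map_inv]
  obtain ⟨F, hF⟩ : ∃ F : {C : ConjClasses G // conjClassesInv C = C} →
      {C : ConjClasses (G ⧸ M) // conjClassesInv C = C},
      ∀ C, (F C).1 = ConjClasses.map (QuotientGroup.mk' M) C.1 :=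
    ⟨fun C => ⟨ConjClasses.map (QuotientGroup.mk' M) C.1, by rw [hmapinv, C.2]⟩, fun C => rfl⟩
  have hsurj : Function.Surjective F := by
    rintro ⟨C, hC⟩
    obtain ⟨q, rfl⟩ := ConjClasses.mk_surjective C
    obtain ⟨g, rfl⟩ := QuotientGroup.mk'_surjective M q
    rw [conjClassesInv_mk, ConjClasses.mk_eq_mk_iff_isConj, isConj_comm, isConj_iff] at hC
    obtain ⟨c, hc⟩ := hC
    obtain ⟨x, rfl⟩ := QuotientGroup.mk'_surjective M c
    obtain ⟨y, z, hy, hz⟩ := exists_real_lift M hodd g x hc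
    refine ⟨⟨ConjClasses.mk y, ?_⟩, ?_⟩
    · rw [conjClassesInv_mk, ConjClasses.mk_eq_mk_iff_isConj, isConj_comm, isConj_iff]
      exact ⟨z, hz⟩
    · apply Subtype.ext
      rw [hF]
      show ConjClasses.mk (QuotientGroup.mk' M y) = ConjClasses.mk (QuotientGroup.mk' M g)
      rw [hy]
  have hbij := hsurj.bijective_of_nat_card_le hle1
  have h1 : conjClassesInv (ConjClasses.mk m) = ConjClasses.mk m := by
    rw [conjClassesInv_mk, ConjClasses.mk_eq_mk_iff_isConj, isConj_comm]
    exact hreal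
  have h2 : conjClassesInv (ConjClasses.mk (1 : G)) = ConjClasses.mk (1 : G) := by
    rw [conjClassesInv_mk, inv_one]
  have h3 : F ⟨ConjClasses.mk m, h1⟩ = F ⟨ConjClasses.mk 1, h2⟩ := by
    apply Subtype.ext
    rw [hF, hF]
    show ConjClasses.mk (QuotientGroup.mk' M m) = ConjClasses.mk (QuotientGroup.mk' M 1)
    have : QuotientGroup.mk' M m = 1 := (QuotientGroup.eq_one_iff m).mpr hm
    rw [this, map_one]
  have h4 := congrArg Subtype.val (hbij.1 h3)
  simp only at h4
  rw [ConjClasses.mk_eq_mk_iff_isConj] at h4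
  exact isConj_one_left.mp h4

end Count

end Cfsg.Agent.Helper29.RealPP
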