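import Mathlib
import Cfsg.Agent.Helper29.RealPPrimeA
import Cfsg.Agent.Helper29.PPrimeKerA
import Cfsg.Agent.Helper24.Codegree
import Cfsg.Agent.Helper1.MinNormal

/-!
# Groups whose real irreducible characters have degree prime to `p` (Isaacs–Navarro)

If the subgroup generated by the `p`-elements of `G` is solvable and every real irreducible
character of `G` has degree prime to `p`, then `O^{2'}(G)` has a normal Sylow `p`-subgroup.
-/

set_option autoImplicit false
set_option linter.style.haveILetI false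

namespace Cfsg.Agent.Helper29.RealPP

open Cfsg Cfsg.Agent.Helper24

universe u

section Constituent

variable {G : Type u} [Group G] [Fintype G]

/-- The degree of a constituent of `χ_N`, `N ⊴ G`, divides `χ(1)`. -/
theorem irrDeg_dvd_of_constituent (N : Subgroup G) [hN : N.Normal] [Fintype N] (χ : IrrCharacter G)
    (θ : IrrCharacter N)
    (hcon : classInner (fun n : N => (χ : G → ℂ) n) (θ : N → ℂ) ≠ 0) :
    irrDeg θ ∣ irrDeg χ := by
  classical
  haveI : Finite G := Finite.of_fintype G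
  haveI : Fintype (IrrCharacter N) := Fintype.ofFinite _
  have hcl := clifford_finset N χ.2 θ.2 hcon
  obtain ⟨e, he⟩ := IsCharacter.classInner_irr_nat
    (Helper8.isCharacter_restrict N (IsIrrCharacter.isCharacter χ.2)) θ
  rw [he] at hcl
  have h1 := congrFun hcl 1
  simp only [OneMemClass.coe_one, Pi.smul_apply, Finset.sum_apply, smul_eq_mul] at h1
  have hval : ∀ ψ ∈ Finset.univ.image (Helper24.conjFun N (θ : N → ℂ)), ψ 1 = (irrDeg θ : ℂ) := by
    intro ψ hψ
    obtain ⟨g, -, rfl⟩ := Finset.mem_image.mp hψ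
    rw [conjFun_apply, ← irrDeg_spec]
    have e1 : (⟨g * ((1 : N) : G) * g⁻¹, hN.conj_mem _ (1 : N).2 g⟩ : N) = 1 := by
      apply Subtype.ext
      simp
    rw [e1]
  rw [Finset.sum_congr rfl hval, Finset.sum_const, nsmul_eq_mul, irrDeg_spec] at h1
  have h2 : irrDeg χ = e *
      ((Finset.univ.image (Helper24.conjFun N (θ : N → ℂ))).card * irrDeg θ) := by
    exact_mod_cast h1
  rw [h2]
  exact ⟨e * (Finset.univ.image (Helper24.conjFun N (θ : N → ℂ))).card, by ring⟩

end Constituent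

section Count

variable {G : Type u} [Group G] [Finite G]

/-- General form of `eq_one_of_real_of_le_real_kernels`: the lifting of real elements is a
hypothesis. -/
theorem eq_one_of_real_of_lift (M : Subgroup G) [hM : M.Normal]
    (hlift : ∀ g x : G, QuotientGroup.mk' M x * QuotientGroup.mk' M g * (QuotientGroup.mk' M x)⁻¹ =
      (QuotientGroup.mk' M g)⁻¹ →
      ∃ y z : G, QuotientGroup.mk' M y = QuotientGroup.mk' M g ∧ z * y * z⁻¹ = y⁻¹)
    (hker : ∀ χ : IrrCharacter G, (∀ g : G, ((χ : G → ℂ) g).im = 0) →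
      ∀ m ∈ M, (χ : G → ℂ) m = (χ : G → ℂ) 1)
    (m : G) (hm : m ∈ M) (hreal : IsConj m m⁻¹) : m = 1 := by
  classical
  have hexq : ∀ χ : {χ : IrrCharacter G // ∀ g : G, ((χ : G → ℂ) g).im = 0},
      ∃ ψ : IrrCharacter (G ⧸ M), ∀ g : G,
        (ψ : G ⧸ M → ℂ) (QuotientGroup.mk' M g) = (χ.1 : G → ℂ) g :=
    fun χ => Cfsg.Agent.Helper29.SchurP.exists_irr_quot M χ.1 (hker χ.1 χ.2)
  choose Ψ hΨ using hexq
  have hΨreal : ∀ χ, ∀ q : G ⧸ M, ((Ψ χ : G ⧸ M → ℂ) q).im = 0 := by
    intro χ q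
    obtain ⟨g, rfl⟩ := QuotientGroup.mk'_surjective M q
    rw [hΨ]
    exact χ.2 g
  have hinj : Function.Injective (fun χ : {χ : IrrCharacter G // ∀ g : G, ((χ : G → ℂ) g).im = 0} =>
      (⟨Ψ χ, hΨreal χ⟩ : {ψ : IrrCharacter (G ⧸ M) // ∀ q : G ⧸ M, ((ψ : G ⧸ M → ℂ) q).im = 0})) := by
    intro χ₁ χ₂ h
    have h1 : Ψ χ₁ = Ψ χ₂ := congrArg Subtype.val h
    apply Subtype.ext
    apply Subtype.ext
    funext g
    rw [← hΨ χ₁ g, ← hΨ χ₂ g, h1]
  have hle1 := Nat.card_le_card_of_injective _ hinj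
  rw [card_real_irr_eq_card_conjClassesInv_fixed, card_real_irr_eq_card_conjClassesInv_fixed] at hle1
  have hmapinv : ∀ C : ConjClasses G, conjClassesInv (ConjClasses.map (QuotientGroup.mk' M) C) =
      ConjClasses.map (QuotientGroup.mk' M) (conjClassesInv C) := by
    intro C
    obtain ⟨g, rfl⟩ := ConjClasses.mk_surjective C
    rw [conjClassesInv_mk]
    show conjClassesInv (ConjClasses.mk (QuotientGroup.mk' M g)) =
      ConjClasses.mk (QuotientGroup.mk' M g⁻¹)
    rw [conjClassesInv_mk, map_inv]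
  obtain ⟨F, hF⟩ : ∃ F : {C : ConjClasses G // conjClassesInv C = C} →
      {C : ConjClasses (G ⧸ M) // conjClassesInv C = C},
      ∀ C, (F C).1 = ConjClasses.map (QuotientGroup.mk' M) C.1 :=
    ⟨fun C => ⟨ConjClasses.map (QuotientGroup.mk' M) C.1, by rw [hmapinv, C.2]⟩, fun C => rfl⟩
  have hsurj : Function.Surjective F := by
    rintro ⟨C, hC⟩
    obtain ⟨q, rfl⟩ := ConjClasses.mk_surjective C
    obtain ⟨g, rfl⟩ := QuotientGroup.mk'_surjective M q
    rw [conjClassesInv_mk, ConjClasses.mk_eq_mk_iff_isConj, isConj_comm, isConj_iff] at hC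
    obtain ⟨c, hc⟩ := hC
    obtain ⟨x, rfl⟩ := QuotientGroup.mk'_surjective M c
    obtain ⟨y, z, hy, hz⟩ := hlift g x hc
    refine ⟨⟨ConjClasses.mk y, ?_⟩, ?_⟩
    · rw [conjClassesInv_mk, ConjClasses.mk_eq_mk_iff_isConj, isConj_comm, isConj_iff]
      exact ⟨z, hz⟩
    · apply Subtype.ext
      rw [hF]
      show ConjClasses.mk (QuotientGroup.mk' M y) = ConjClasses.mk (QuotientGroup.mk' M g)
      rw [hy]
  have hbij := hsurj.bijective_of_nat_card_le hle1
  have h1 : conjClassesInv (ConjClasses.mk m) = ConjClasses.mk m := by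
    rw [conjClassesInv_mk, ConjClasses.mk_eq_mk_iff_isConj, isConj_comm]
    exact hreal
  have h2 : conjClassesInv (ConjClasses.mk (1 : G)) = ConjClasses.mk (1 : G) := by
    rw [conjClassesInv_mk, inv_one]
  have h3 : F ⟨ConjClasses.mk m, h1⟩ = F ⟨ConjClasses.mk 1, h2⟩ := by
    apply Subtype.ext
    rw [hF, hF]
    show ConjClasses.mk (QuotientGroup.mk' M m) = ConjClasses.mk (QuotientGroup.mk' M 1)
    have : QuotientGroup.mk' M m = 1 := (QuotientGroup.eq_one_iff m).mpr hm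
    rw [this, map_one]
  have h4 := congrArg Subtype.val (hbij.1 h3)
  simp only at h4
  rw [ConjClasses.mk_eq_mk_iff_isConj] at h4
  exact isConj_one_left.mp h4

/-- Lifting real elements through a complement. -/
theorem lift_of_complement (M H : Subgroup G) [hM : M.Normal] (hsup : H ⊔ M = ⊤)
    (hinf : M ⊓ H = ⊥) (g x : G)
    (hx : QuotientGroup.mk' M x * QuotientGroup.mk' M g * (QuotientGroup.mk' M x)⁻¹ =
      (QuotientGroup.mk' M g)⁻¹) :
    ∃ y z : G, QuotientGroup.mk' M y = QuotientGroup.mk' M g ∧ z * y * z⁻¹ = y⁻¹ := by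
  have hdec : ∀ a : G, ∃ h ∈ H, QuotientGroup.mk' M h = QuotientGroup.mk' M a := by
    intro a
    have ha : a ∈ ((H ⊔ M : Subgroup G) : Set G) := by rw [hsup]; trivial
    rw [Subgroup.mul_normal, Set.mem_mul] at ha
    obtain ⟨h, hh, n, hn, rfl⟩ := ha
    refine ⟨h, hh, ?_⟩
    rw [map_mul]
    have : QuotientGroup.mk' M n = 1 := (QuotientGroup.eq_one_iff n).mpr hn
    rw [this, mul_one]
  obtain ⟨h, hh, hhg⟩ := hdec g
  obtain ⟨h', hh', hhx⟩ := hdec x
  refine ⟨h, h', hhg, ?_⟩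
  rw [← hhg, ← hhx] at hx
  have h1 : h' * h * h'⁻¹ * h ∈ M := by
    rw [← QuotientGroup.eq_one_iff, ← QuotientGroup.mk'_apply, map_mul, map_mul, map_mul, map_inv,
      hx, inv_mul_cancel]
  have h2 : h' * h * h'⁻¹ * h ∈ H :=
    H.mul_mem (H.mul_mem (H.mul_mem hh' hh) (H.inv_mem hh')) hh
  have h3 : h' * h * h'⁻¹ * h ∈ M ⊓ H := ⟨h1, h2⟩
  rw [hinf, Subgroup.mem_bot] at h3
  exact eq_inv_of_mul_eq_one_left h3

end Count

end Cfsg.Agent.Helper29.RealPP
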