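import Mathlib

/-!
# Subgroups generated by `p`-elements: normality, index, quotients
-/

set_option autoImplicit false
set_option linter.style.haveILetI false

namespace Cfsg.Agent.Helper29.RealPP

section Basic

variable {X : Type*} [Group X]

/-- The subgroup generated by the elements of `p`-power order. -/
def powCl (p : ℕ) (X : Type*) [Group X] : Subgroup X :=
  Subgroup.closure {g : X | ∃ k : ℕ, orderOf g = p ^ k}

theorem closure_normal_of_conj (S : Set X) (hS : ∀ s ∈ S, ∀ g : X, g * s * g⁻¹ ∈ S) :
    (Subgroup.closure S).Normal := by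
  constructor
  intro n hn g
  induction hn using Subgroup.closure_induction with
  | mem s hs => exact Subgroup.subset_closure (hS s hs g)
  | one => simp
  | mul a b _ _ iha ihb =>
    have : g * (a * b) * g⁻¹ = (g * a * g⁻¹) * (g * b * g⁻¹) := by group
    rw [this]
    exact Subgroup.mul_mem _ iha ihb
  | inv a _ iha =>
    have : g * a⁻¹ * g⁻¹ = (g * a * g⁻¹)⁻¹ := by group
    rw [this]
    exact Subgroup.inv_mem _ iha

theorem orderOf_conj' (g s : X) : orderOf (g * s * g⁻¹) = orderOf s :=
  orderOf_injective (MulAut.conj g).toMonoidHom (MulEquiv.injective _) s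

instance powCl_normal (p : ℕ) : (powCl p X).Normal := by
  apply closure_normal_of_conj
  rintro s ⟨k, hk⟩ g
  exact ⟨k, by rw [orderOf_conj', hk]⟩

theorem mem_powCl {p : ℕ} {g : X} {k : ℕ} (h : orderOf g = p ^ k) : g ∈ powCl p X :=
  Subgroup.subset_closure ⟨k, h⟩

variable {p : ℕ} [hp : Fact p.Prime]

theorem le_powCl_of_isPGroup (Q : Subgroup X) (hQ : IsPGroup p Q) : Q ≤ powCl p X := by
  intro g hg
  obtain ⟨k, hk⟩ := IsPGroup.iff_orderOf.mp hQ ⟨g, hg⟩
  rw [Subgroup.orderOf_mk] at hk
  exact mem_powCl hk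

theorem not_dvd_index_powCl [Finite X] : ¬ p ∣ (powCl p X).index := by
  obtain ⟨Q⟩ : Nonempty (Sylow p X) := inferInstance
  intro h
  exact Q.not_dvd_index (h.trans (Subgroup.index_dvd_of_le
    (le_powCl_of_isPGroup (p := p) (Q : Subgroup X) Q.2)))

/-- A normal subgroup of index prime to `p` contains every `p`-element. -/
theorem mem_of_orderOf_eq_pow [Finite X] (H : Subgroup X) [hH : H.Normal] (hi : ¬ p ∣ H.index)
    (g : X) (k : ℕ) (hg : orderOf g = p ^ k) : g ∈ H := by
  rw [← QuotientGroup.eq_one_iff, ← orderOf_eq_one_iff]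
  have h1 : orderOf (g : X ⧸ H) ∣ p ^ k := by
    rw [← hg]
    exact orderOf_map_dvd (QuotientGroup.mk' H) g
  have h2 : orderOf (g : X ⧸ H) ∣ H.index := by
    rw [Subgroup.index_eq_card]
    exact orderOf_dvd_natCard _
  obtain ⟨j, -, hj⟩ := (Nat.dvd_prime_pow hp.out).mp h1
  rcases Nat.eq_zero_or_pos j with h0 | hpos
  · rw [hj, h0, pow_zero]
  · exfalso
    apply hi
    rw [hj] at h2
    exact (dvd_pow_self p hpos.ne').trans h2

/-- `powCl` of a quotient lies in the image of `powCl`. -/
theorem powCl_quotient_le [Finite X] (N : Subgroup X) [hN : N.Normal] :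
    powCl p (X ⧸ N) ≤ (powCl p X).map (QuotientGroup.mk' N) := by
  haveI : ((powCl p X).map (QuotientGroup.mk' N)).Normal :=
    Subgroup.Normal.map inferInstance _ (QuotientGroup.mk'_surjective N)
  have hi : ¬ p ∣ ((powCl p X).map (QuotientGroup.mk' N)).index := by
    intro h
    exact not_dvd_index_powCl (X := X) (p := p)
      (h.trans (Subgroup.index_map_dvd _ (QuotientGroup.mk'_surjective N)))
  unfold powCl
  rw [Subgroup.closure_le]
  rintro q ⟨k, hk⟩
  exact mem_of_orderOf_eq_pow _ hi q k hk

theorem powCl_quotient_isSolvable [Finite X] (N : Subgroup X) [hN : N.Normal]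
    (hs : Group.IsSolvable (powCl p X)) : Group.IsSolvable (powCl p (X ⧸ N)) := by
  haveI := hs
  haveI : Group.IsSolvable ((powCl p X).map (QuotientGroup.mk' N)) :=
    Group.isSolvable_of_surjective
      (MonoidHom.subgroupMap_surjective (QuotientGroup.mk' N) (powCl p X))
  exact Group.isSolvable_of_isSolvable_injective
    (Subgroup.inclusion_injective (powCl_quotient_le N))

omit hp in
/-- The image of a group generated by `p`-elements is generated by `p`-elements. -/
theorem powCl_eq_top_of_surjective (hp' : p.Prime) {Y : Type*} [Group Y] (f : X →* Y)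
    (hf : Function.Surjective f) (h : powCl p X = ⊤) : powCl p Y = ⊤ := by
  rw [eq_top_iff, ← (Subgroup.map_top_of_surjective f hf), ← h]
  unfold powCl
  rw [MonoidHom.map_closure, Subgroup.closure_le]
  rintro _ ⟨g, ⟨k, hk⟩, rfl⟩
  have h1 : orderOf (f g) ∣ p ^ k := by
    rw [← hk]; exact orderOf_map_dvd f g
  obtain ⟨j, -, hj⟩ := (Nat.dvd_prime_pow hp').mp h1
  exact Subgroup.subset_closure ⟨j, hj⟩

end Basic

end Cfsg.Agent.Helper29.RealPP
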