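import Mathlib
import Cfsg.Agent.Helper29.RealPPrimeB
import Cfsg.Agent.Helper29.RealPPrimeC

/-!
# Isaacs–Navarro: real characters of `p'`-degree, main induction
-/

set_option autoImplicit false
set_option linter.style.haveILetI false

namespace Cfsg.Agent.Helper29.RealPP

open Cfsg Cfsg.Agent.Helper24

universe u

section Inherit

variable {p : ℕ}

/-- The hypothesis on real characters passes to quotients. -/
theorem real_hyp_quotient {X : Type u} [Group X] [Finite X] (N : Subgroup X) [hN : N.Normal]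
    (hreal : ∀ χ : IrrCharacter X, (∀ g : X, ((χ : X → ℂ) g).im = 0) → ¬ p ∣ irrDeg χ)
    (ψ : IrrCharacter (X ⧸ N)) (hψ : ∀ q : X ⧸ N, ((ψ : X ⧸ N → ℂ) q).im = 0) :
    ¬ p ∣ irrDeg ψ := by
  obtain ⟨χ, hχ⟩ : ∃ χ : IrrCharacter X, ∀ g : X, (χ : X → ℂ) g =
      (ψ : X ⧸ N → ℂ) (QuotientGroup.mk' N g) :=
    ⟨⟨fun g => (ψ : X ⧸ N → ℂ) (QuotientGroup.mk' N g),
      Cfsg.Agent.Helper8.isIrrCharacter_comp_surjective (QuotientGroup.mk' N)
        (QuotientGroup.mk'_surjective N) ψ.2⟩, fun g => rfl⟩
  have hdeg : irrDeg χ = irrDeg ψ := by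
    have h1 := irrDeg_spec χ
    rw [hχ, map_one, irrDeg_spec ψ] at h1
    exact_mod_cast h1.symm
  rw [← hdeg]
  refine hreal χ ?_
  intro g
  rw [hχ]
  exact hψ _

/-- The hypothesis on real characters passes to normal subgroups of odd index. -/
theorem real_hyp_subgroup {G : Type u} [Group G] [Finite G] (K : Subgroup G) [hK : K.Normal]
    (hodd : Odd K.index)
    (hreal : ∀ χ : IrrCharacter G, (∀ g : G, ((χ : G → ℂ) g).im = 0) → ¬ p ∣ irrDeg χ)
    (θ : IrrCharacter K) (hθ : ∀ k : K, ((θ : K → ℂ) k).im = 0) :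
    ¬ p ∣ irrDeg θ := by
  classical
  haveI : Fintype G := Fintype.ofFinite G
  haveI : Fintype K := Fintype.ofFinite K
  obtain ⟨χ, hχ1, hχ2⟩ := exists_real_over_real K hodd θ hθ
  have hχreal := (fsInd_irr χ).2 hχ1
  intro hdvd
  exact hreal χ hχreal (hdvd.trans (irrDeg_dvd_of_constituent K χ θ hχ2))

end Inherit

section Main

variable {p : ℕ} [hp : Fact p.Prime]

/-- Main induction: a group generated by `2`-elements, with `O^{p'}` solvable and all real
irreducible characters of `p'`-degree, has a normal Sylow `p`-subgroup. -/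
theorem sylow_normal_aux : ∀ (n : ℕ) (X : Type u) [Group X] [Finite X], Nat.card X = n →
    Group.IsSolvable (powCl p X) →
    (∀ χ : IrrCharacter X, (∀ g : X, ((χ : X → ℂ) g).im = 0) → ¬ p ∣ irrDeg χ) →
    powCl 2 X = ⊤ → ∀ Q : Sylow p X, (Q : Subgroup X).Normal := by
  intro n
  induction n using Nat.strong_induction_on with
  | _ n ih =>
  intro X _ _ hcard hsolv hreal hgen Q
  classical
  haveI : Fintype X := Fintype.ofFinite X
  by_cases hLbot : powCl p X = ⊥
  · have : (Q : Subgroup X) = ⊥ := by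
      rw [eq_bot_iff, ← hLbot]; exact le_powCl_of_isPGroup _ Q.2
    rw [this]; infer_instance
  -- a minimal normal subgroup inside `O^{p'}(X)`
  obtain ⟨N, ⟨hNn, hNne, hNL⟩, hNmin⟩ := wellFounded_lt.has_min
    {N : Subgroup X | N.Normal ∧ N ≠ ⊥ ∧ N ≤ powCl p X} ⟨powCl p X, inferInstance, hLbot, le_rfl⟩
  haveI := hNn
  have hmin : ∀ M : Subgroup X, M.Normal → M ≤ N → M = ⊥ ∨ M = N := by
    intro M hMn hMN
    by_cases hM : M = ⊥
    · exact Or.inl hM
    · right
      by_contra hne
      exact hNmin M ⟨hMn, hM, hMN.trans hNL⟩ (lt_of_le_of_ne hMN hne)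
  haveI := hsolv
  have hNs : Group.IsSolvable N :=
    Group.isSolvable_of_isSolvable_injective (Subgroup.inclusion_injective hNL)
  obtain ⟨hNc, q, hq, hexp⟩ := Cfsg.Agent.Helper1.minNormal_elementary N hNne hNs hmin
  haveI : Fact q.Prime := ⟨hq⟩
  have hNq : IsPGroup q N := fun x => ⟨1, by rw [pow_one]; exact Subtype.ext (hexp x x.2)⟩
  -- the quotient
  have hcardlt : Nat.card (X ⧸ N) < n := by
    rw [← hcard, Subgroup.card_eq_card_quotient_mul_card_subgroup N]
    have h1 : 1 < Nat.card N := N.one_lt_card_iff_ne_bot.mpr hNne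
    have h2 : 0 < Nat.card (X ⧸ N) := Nat.card_pos
    nlinarith
  have hquot := ih _ hcardlt (X ⧸ N) rfl (powCl_quotient_isSolvable N hsolv)
    (real_hyp_quotient N hreal)
    (powCl_eq_top_of_surjective Nat.prime_two (QuotientGroup.mk' N)
      (QuotientGroup.mk'_surjective N) hgen)
  have hQN : ((Q : Subgroup X) ⊔ N).Normal := by
    have h1 := hquot (Q.mapSurjective (QuotientGroup.mk'_surjective N))
    rw [Sylow.coe_mapSurjective] at h1
    have h2 : (((Q : Subgroup X).map (QuotientGroup.mk' N)).comap (QuotientGroup.mk' N)).Normal :=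
      h1.comap _
    rwa [Subgroup.comap_map_eq, QuotientGroup.ker_mk'] at h2
  by_cases hqp : q = p
  · subst hqp
    have hNQ : N ≤ (Q : Subgroup X) := hNq.le_sylow_of_normal Q
    rwa [sup_eq_left.mpr hNQ] at hQN
  · haveI := hQN
    have hfr : Subgroup.normalizer ((Q : Subgroup X) : Set X) ⊔ ((Q : Subgroup X) ⊔ N) = ⊤ :=
      Sylow.normalizer_sup_eq_top' Q le_sup_left
    have hHN : Subgroup.normalizer ((Q : Subgroup X) : Set X) ⊔ N = ⊤ := by
      rw [← hfr, ← sup_assoc, sup_eq_left.mpr Subgroup.le_normalizer]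
    have hNQ : N ⊓ (Q : Subgroup X) = ⊥ :=
      (IsPGroup.disjoint_of_ne q p hqp N Q hNq Q.2).eq_bot
    have hNH : N ⊓ Subgroup.normalizer ((Q : Subgroup X) : Set X) ≤
        Subgroup.centralizer ((Q : Subgroup X) : Set X) := by
      rintro m ⟨hmN, hmH⟩
      rw [Subgroup.mem_centralizer_iff]
      intro x hx
      have h1 : m * x * m⁻¹ * x⁻¹ ∈ N ⊓ (Q : Subgroup X) := by
        refine ⟨?_, ?_⟩
        · have : m * x * m⁻¹ * x⁻¹ = m * (x * m⁻¹ * x⁻¹) := by group
          rw [this]
          exact N.mul_mem hmN (hNn.conj_mem _ (N.inv_mem hmN) x)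
        · exact Subgroup.mul_mem _ ((Subgroup.mem_normalizer_iff.mp hmH x).mp hx)
            (Subgroup.inv_mem _ hx)
      rw [hNQ, Subgroup.mem_bot] at h1
      calc x * m = (m * x * m⁻¹ * x⁻¹)⁻¹ * (m * x) := by group
        _ = m * x := by rw [h1, inv_one, one_mul]
    obtain ⟨C, hC⟩ : ∃ C : Subgroup X, C = N ⊓ Subgroup.centralizer ((Q : Subgroup X) : Set X) :=
      ⟨_, rfl⟩
    have hCN : C ≤ N := by rw [hC]; exact inf_le_left
    have hCn : C.Normal := by
      constructor
      intro c hc g
      have hg : g ∈ ((Subgroup.normalizer ((Q : Subgroup X) : Set X) ⊔ N : Subgroup X) : Set X) := by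
        rw [hHN]; trivial
      rw [Subgroup.mul_normal, Set.mem_mul] at hg
      obtain ⟨h, hh, m, hm, rfl⟩ := hg
      have hcN : c ∈ N := hCN hc
      have hmc : m * c * m⁻¹ = c := by
        have := mul_comm' (⟨m, hm⟩ : N) ⟨c, hcN⟩
        have h1 : m * c = c * m := congrArg Subtype.val this
        rw [h1]; group
      have e : h * m * c * (h * m)⁻¹ = h * (m * c * m⁻¹) * h⁻¹ := by group
      rw [e, hmc, hC]
      refine ⟨hNn.conj_mem c hcN h, ?_⟩
      show h * c * h⁻¹ ∈ Subgroup.centralizer ((Q : Subgroup X) : Set X)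
      rw [Subgroup.mem_centralizer_iff]
      intro x hx
      have hx' : h⁻¹ * x * h ∈ (Q : Subgroup X) := by
        have := (Subgroup.mem_normalizer_iff.mp (Subgroup.inv_mem _ hh) x).mp hx
        simpa using this
      have hc' : c ∈ Subgroup.centralizer ((Q : Subgroup X) : Set X) := by
        rw [hC] at hc; exact hc.2
      have h1 := (Subgroup.mem_centralizer_iff.mp hc') _ hx'
      calc x * (h * c * h⁻¹) = h * ((h⁻¹ * x * h) * c) * h⁻¹ := by group
        _ = h * (c * (h⁻¹ * x * h)) * h⁻¹ := by rw [h1]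
        _ = h * c * h⁻¹ * x := by group
    rcases hmin C hCn hCN with h | h
    · exfalso
      have hinfC : N ⊓ Subgroup.centralizer ((Q : Subgroup X) : Set X) = ⊥ := by rw [← hC, h]
      have hker : ∀ χ : IrrCharacter X, (∀ g : X, ((χ : X → ℂ) g).im = 0) →
          ∀ m ∈ N, (χ : X → ℂ) m = (χ : X → ℂ) 1 := fun χ hχ m hm =>
        Cfsg.Agent.Helper29.PPK.apply_eq_of_inf_centralizer (Q : Subgroup X) Q.2 N hinfC χ
          (hreal χ hχ) m hm
      have hinf : N ⊓ Subgroup.normalizer ((Q : Subgroup X) : Set X) = ⊥ := by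
        rw [eq_bot_iff, ← hinfC]
        exact fun x hx => ⟨hx.1, hNH hx⟩
      have hnoreal : ∀ m ∈ N, IsConj m m⁻¹ → m = 1 := fun m hm hr =>
        eq_one_of_real_of_lift N (lift_of_complement N _ hHN hinf) hker m hm hr
      by_cases hq2 : q = 2
      · apply hNne
        rw [eq_bot_iff]
        intro m hm
        rw [Subgroup.mem_bot]
        apply hnoreal m hm
        have h2 : m ^ 2 = 1 := by rw [← hq2]; exact hexp m hm
        have h3 : m⁻¹ = m := by
          rw [inv_eq_iff_mul_eq_one, ← pow_two]; exact h2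
        rw [h3]
      · have hcent := closure_two_le_centralizer N hnoreal
        have hle : N ≤ Subgroup.centralizer ((Q : Subgroup X) : Set X) := by
          intro m hm
          rw [Subgroup.mem_centralizer_iff]
          intro x _
          have hx : x ∈ Subgroup.centralizer (N : Set X) := by
            apply hcent
            have : x ∈ powCl 2 X := by rw [hgen]; trivial
            exact this
          exact ((Subgroup.mem_centralizer_iff.mp hx) m hm).symm
        apply hNne
        rw [← inf_eq_left.mpr hle]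
        exact hinfC
    · have hNle : N ≤ Subgroup.normalizer ((Q : Subgroup X) : Set X) := by
        rw [← h, hC]
        exact inf_le_right.trans (Subgroup.centralizer_le_normalizer _)
      have : Subgroup.normalizer ((Q : Subgroup X) : Set X) = ⊤ := by
        rw [← hHN]; exact (sup_eq_left.mpr hNle).symm
      exact Subgroup.normalizer_eq_top_iff.mp this

omit hp in
/-- `powCl` of a subgroup maps into `powCl` of the group. -/
theorem map_powCl_subgroup_le {G : Type u} [Group G] (K : Subgroup G) (r : ℕ) :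
    (powCl r K).map K.subtype ≤ powCl r G := by
  unfold powCl
  rw [MonoidHom.map_closure, Subgroup.closure_le]
  rintro _ ⟨k, ⟨j, hj⟩, rfl⟩
  refine Subgroup.subset_closure ⟨j, ?_⟩
  rw [← hj]
  exact Subgroup.orderOf_coe k

omit hp in
theorem powCl_powCl_eq_top {G : Type u} [Group G] (r : ℕ) :
    powCl r (powCl r G) = ⊤ := by
  apply Subgroup.map_injective (powCl r G).subtype_injective
  apply le_antisymm
  · exact Subgroup.map_mono le_top
  · rw [← MonoidHom.range_eq_map, Subgroup.range_subtype]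
    have h1 : powCl r G ≤ Subgroup.closure
        ((powCl r G).subtype '' {k : powCl r G | ∃ j : ℕ, orderOf k = r ^ j}) := by
      unfold powCl
      rw [Subgroup.closure_le]
      rintro g ⟨j, hj⟩
      refine Subgroup.subset_closure ⟨⟨g, Subgroup.subset_closure ⟨j, hj⟩⟩, ⟨j, ?_⟩, rfl⟩
      rw [← hj]
      exact (Subgroup.orderOf_mk g _).symm ▸ rfl
    refine h1.trans ?_
    rw [← MonoidHom.map_closure]
    rfl

/-- **Isaacs–Navarro**: if `O^{p'}(G)` is solvable and all real irreducible characters of `G` have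
degree prime to `p`, then `O^{2'}(G)` has a normal Sylow `p`-subgroup. -/
theorem sylow_normal_of_real_pprime {G : Type u} [Group G] [Finite G]
    (hsolv : Group.IsSolvable (powCl p G))
    (hreal : ∀ χ : IrrCharacter G, (∀ g : G, ((χ : G → ℂ) g).im = 0) → ¬ p ∣ irrDeg χ)
    (Q : Sylow p (powCl 2 G)) : (Q : Subgroup (powCl 2 G)).Normal := by
  haveI : Fact (Nat.Prime 2) := ⟨Nat.prime_two⟩
  have hodd : Odd (powCl 2 G).index := by
    rw [← Nat.not_even_iff_odd, even_iff_two_dvd]
    exact not_dvd_index_powCl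
  haveI := hsolv
  have hsolvK : Group.IsSolvable (powCl p (powCl 2 G)) := by
    have hinj : Function.Injective ((Subgroup.inclusion (map_powCl_subgroup_le (powCl 2 G) p)).comp
        ((powCl p (powCl 2 G)).equivMapOfInjective (powCl 2 G).subtype
          (powCl 2 G).subtype_injective).toMonoidHom) :=
      (Subgroup.inclusion_injective (map_powCl_subgroup_le (powCl 2 G) p)).comp
        (MulEquiv.injective _)
    exact Group.isSolvable_of_isSolvable_injective hinj
  exact sylow_normal_aux (Nat.card (powCl 2 G)) (powCl 2 G) rfl hsolvK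
    (real_hyp_subgroup (powCl 2 G) hodd hreal) (powCl_powCl_eq_top 2) Q

end Main

end Cfsg.Agent.Helper29.RealPP
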