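import Mathlib
import Cfsg.Agent.Helper29.RealNormB
import Cfsg.Agent.Helper29.RealPPrimeD

/-!
# Real classes and the Sylow normalizer (Isaacs–Navarro, Theorem B): the general case

Reduction to the coprime case by factoring out the normal Sylow `p`-subgroup of `O^{2'}(G)`.
-/

set_option autoImplicit false
set_option linter.style.haveILetI false

namespace Cfsg.Agent.Helper29.RealNorm

open Cfsg Cfsg.Agent.Helper24 Cfsg.Agent.Helper29.RealPP

universe u

variable {G : Type u} [Group G] [Finite G] {p : ℕ} [hp : Fact p.Prime]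

/-- **Isaacs–Navarro, Theorem B (real classes).** If `O^{p'}(G)` is solvable and all real
irreducible characters of `G` have `p'`-degree, the normalizer of a Sylow `p`-subgroup meets
every real class. -/
theorem exists_conj_mem_normalizer (hsolv : Group.IsSolvable (powCl p G))
    (hreal : ∀ χ : IrrCharacter G, (∀ g : G, ((χ : G → ℂ) g).im = 0) → ¬ p ∣ irrDeg χ)
    (P : Sylow p G) (x : G) (hx : IsConj x x⁻¹) :
    ∃ y ∈ Subgroup.normalizer ((P : Subgroup G) : Set G), IsConj x y := by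
  classical
  haveI : Fact (Nat.Prime 2) := ⟨Nat.prime_two⟩
  have hodd : Odd (powCl 2 G).index := by
    rw [← Nat.not_even_iff_odd, even_iff_two_dvd]
    exact not_dvd_index_powCl
  obtain ⟨Q⟩ : Nonempty (Sylow p (powCl 2 G)) := inferInstance
  have hQn : (Q : Subgroup (powCl 2 G)).Normal := sylow_normal_of_real_pprime hsolv hreal Q
  haveI hQc : (Q : Subgroup (powCl 2 G)).Characteristic := Sylow.characteristic_of_normal Q hQn
  haveI hQ₀ : ((Q : Subgroup (powCl 2 G)).map (powCl 2 G).subtype).Normal :=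
    ConjAct.normal_of_characteristic_of_normal
  obtain ⟨Q₀, hQ₀def⟩ : ∃ Q₀ : Subgroup G, Q₀ = (Q : Subgroup (powCl 2 G)).map (powCl 2 G).subtype :=
    ⟨_, rfl⟩
  haveI hQ₀n : Q₀.Normal := by rw [hQ₀def]; exact hQ₀
  have hQ₀p : IsPGroup p Q₀ := by rw [hQ₀def]; exact Q.2.map _
  have hQ₀P : Q₀ ≤ (P : Subgroup G) := hQ₀p.le_sylow_of_normal P
  have hπ : Function.Surjective (QuotientGroup.mk' Q₀) := QuotientGroup.mk'_surjective Q₀
  have hker : (QuotientGroup.mk' Q₀).ker = Q₀ := QuotientGroup.ker_mk' Q₀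
  -- the image of `O^{2'}(G)`
  haveI hKn : ((powCl 2 G).map (QuotientGroup.mk' Q₀)).Normal :=
    Subgroup.Normal.map inferInstance _ hπ
  have hKodd : Odd ((powCl 2 G).map (QuotientGroup.mk' Q₀)).index :=
    Odd.of_dvd_nat hodd (Subgroup.index_map_dvd _ hπ)
  have hKcard : Nat.card ((powCl 2 G).map (QuotientGroup.mk' Q₀)) =
      (Q : Subgroup (powCl 2 G)).index := by
    rw [← Subgroup.relIndex_bot_left, ← Subgroup.relIndex_comap, MonoidHom.comap_bot, hker,
      hQ₀def]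
    unfold Subgroup.relIndex Subgroup.subgroupOf
    rw [Subgroup.comap_map_eq_self_of_injective (Subgroup.subtype_injective _)]
  have hKp : ¬ p ∣ Nat.card ((powCl 2 G).map (QuotientGroup.mk' Q₀)) := by
    rw [hKcard]
    exact Q.not_dvd_index
  have hreal' : ∀ ψ : IrrCharacter (G ⧸ Q₀), (∀ q : G ⧸ Q₀, ((ψ : G ⧸ Q₀ → ℂ) q).im = 0) →
      ¬ p ∣ irrDeg ψ := real_hyp_quotient Q₀ hreal
  have hx' : IsConj (QuotientGroup.mk' Q₀ x) (QuotientGroup.mk' Q₀ x)⁻¹ := by
    obtain ⟨d, hd⟩ := isConj_iff.mp hx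
    rw [isConj_iff]
    refine ⟨QuotientGroup.mk' Q₀ d, ?_⟩
    rw [← map_inv, ← map_mul, ← map_mul, hd, map_inv]
  obtain ⟨y', hy', hxy'⟩ := exists_conj_mem_centralizer ((powCl 2 G).map (QuotientGroup.mk' Q₀))
    hKodd hKp (P.mapSurjective hπ) hreal' _ hx'
  obtain ⟨c', hc'⟩ := isConj_iff.mp hxy'
  obtain ⟨c, rfl⟩ := hπ c'
  refine ⟨c * x * c⁻¹, ?_, isConj_iff.mpr ⟨c, rfl⟩⟩
  have hy2 : y' ∈ Subgroup.centralizer ((P.mapSurjective hπ : Subgroup (G ⧸ Q₀)) : Set (G ⧸ Q₀)) :=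
    hy'.2
  rw [Subgroup.mem_centralizer_iff] at hy2
  apply Subgroup.mem_normalizer_fintype
  intro n hn
  have hn' : QuotientGroup.mk' Q₀ n ∈ (P.mapSurjective hπ : Subgroup (G ⧸ Q₀)) := by
    rw [Sylow.coe_mapSurjective]
    exact Subgroup.mem_map_of_mem _ hn
  have h1 := hy2 _ hn'
  have h2 : QuotientGroup.mk' Q₀ (c * x * c⁻¹ * n * (c * x * c⁻¹)⁻¹ * n⁻¹) = 1 := by
    have e1 : QuotientGroup.mk' Q₀ (c * x * c⁻¹) = y' := by
      rw [← hc']
      simp
    rw [map_mul, map_mul, map_mul, map_inv, map_inv, e1, ← h1]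
    group
  have h3 : c * x * c⁻¹ * n * (c * x * c⁻¹)⁻¹ * n⁻¹ ∈ Q₀ := by
    rw [← hker]
    exact h2
  have h4 : c * x * c⁻¹ * n * (c * x * c⁻¹)⁻¹ =
      (c * x * c⁻¹ * n * (c * x * c⁻¹)⁻¹ * n⁻¹) * n := by group
  rw [h4]
  exact (P : Subgroup G).mul_mem (hQ₀P h3) hn

end Cfsg.Agent.Helper29.RealNorm
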