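import Mathlib
import Cfsg.Agent.Helper29.RealBijC
import Cfsg.Agent.Helper29.RealNormC

/-!
# Real characters and the Sylow normalizer, character bijection (part D): the theorem
-/

set_option autoImplicit false
set_option linter.style.haveILetI false

namespace Cfsg.Agent.Helper29.RealBij

open Cfsg Cfsg.Agent.Helper24 Cfsg.Agent.Helper29.RelGlaub Cfsg.Agent.Helper29.RealPP

universe u

section Main

variable {G : Type u} [Group G] [Finite G] {p : ℕ} [hp : Fact p.Prime]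

set_option maxHeartbeats 1000000 in
/-- **Isaacs–Navarro, Theorem B (characters), ambient form.** -/
theorem real_bijection_top (hsolv : Group.IsSolvable (powCl p G))
    (hreal : ∀ χ : IrrCharacter G, (∀ g : G, ((χ : G → ℂ) g).im = 0) → ¬ p ∣ irrDeg χ)
    (P : Sylow p G) :
    ∃ f : {χ : IrrCharacter (⊤ : Subgroup G) //
        ∀ g : (⊤ : Subgroup G), ((χ : (⊤ : Subgroup G) → ℂ) g).im = 0} →
      {ξ : IrrCharacter (Subgroup.normalizer ((P : Subgroup G) : Set G)) //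
        (∀ n, ((ξ : Subgroup.normalizer ((P : Subgroup G) : Set G) → ℂ) n).im = 0) ∧
          ¬ p ∣ irrDeg ξ},
      Function.Bijective f ∧ ∀ χ, ((irrDeg (f χ).1 : ℤ) ≡ (irrDeg χ.1 : ℤ) [ZMOD p] ∨
        (irrDeg (f χ).1 : ℤ) ≡ -(irrDeg χ.1 : ℤ) [ZMOD p]) := by
  classical
  have hp' := hp.out
  haveI : Fact (Nat.Prime 2) := ⟨Nat.prime_two⟩
  obtain ⟨K, hKdef⟩ : ∃ K : Subgroup G, K = powCl 2 G := ⟨_, rfl⟩
  haveI hKn : K.Normal := by rw [hKdef]; infer_instance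
  have hodd : Odd K.index := by
    rw [hKdef, ← Nat.not_even_iff_odd, even_iff_two_dvd]
    exact not_dvd_index_powCl
  -- the normal Sylow `p`-subgroup of `K`
  obtain ⟨Q⟩ : Nonempty (Sylow p (powCl 2 G)) := inferInstance
  have hQn : (Q : Subgroup (powCl 2 G)).Normal := sylow_normal_of_real_pprime hsolv hreal Q
  haveI hQc : (Q : Subgroup (powCl 2 G)).Characteristic := Sylow.characteristic_of_normal Q hQn
  haveI hQ₀ : ((Q : Subgroup (powCl 2 G)).map (powCl 2 G).subtype).Normal :=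
    ConjAct.normal_of_characteristic_of_normal
  obtain ⟨Q₀, hQ₀def⟩ : ∃ Q₀ : Subgroup G, Q₀ = (Q : Subgroup (powCl 2 G)).map (powCl 2 G).subtype :=
    ⟨_, rfl⟩
  haveI hQ₀n : Q₀.Normal := by rw [hQ₀def]; exact hQ₀
  have hQ₀p : IsPGroup p Q₀ := by rw [hQ₀def]; exact Q.2.map _
  have hQ₀P : Q₀ ≤ (P : Subgroup G) := hQ₀p.le_sylow_of_normal P
  have hQK : Q₀ ≤ K := by
    rw [hQ₀def, hKdef]
    exact Subgroup.map_subtype_le _
  have hQsyl : ¬ p ∣ Q₀.relIndex K := by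
    have h1 : Q₀.relIndex K = (Q : Subgroup (powCl 2 G)).index := by
      rw [hQ₀def, hKdef]
      unfold Subgroup.relIndex Subgroup.subgroupOf
      rw [Subgroup.comap_map_eq_self_of_injective (Subgroup.subtype_injective _)]
    rw [h1]
    exact Q.not_dvd_index
  have hQn' : ∀ k ∈ K, ∀ q ∈ Q₀, k * q * k⁻¹ ∈ Q₀ := fun k _ q hq => hQ₀n.conj_mem q hq k
  have hKQ : K ≤ Subgroup.normalizer (Q₀ : Set G) := le_normalizer_of_conj_mem hQn'
  obtain ⟨a, ha⟩ := IsPGroup.iff_card.mp hQ₀p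
  obtain ⟨b, hb⟩ := IsPGroup.iff_card.mp P.2
  -- the groups
  obtain ⟨N, hNdef⟩ : ∃ N : Subgroup G, N = Subgroup.normalizer ((P : Subgroup G) : Set G) :=
    ⟨_, rfl⟩
  obtain ⟨C, hCdef⟩ : ∃ C : Subgroup G, C = K ⊓ N := ⟨_, rfl⟩
  have hCK : C ≤ K := hCdef ▸ inf_le_left
  have hCN : C ≤ N := hCdef ▸ inf_le_right
  have hPN : (P : Subgroup G) ≤ N := hNdef ▸ Subgroup.le_normalizer
  have hNP : N ≤ Subgroup.normalizer ((P : Subgroup G) : Set G) := le_of_eq hNdef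
  have hKtop : Subgroup.normalizer (K : Set G) = ⊤ := Subgroup.normalizer_eq_top K
  have hGK : (⊤ : Subgroup G) ≤ Subgroup.normalizer (K : Set G) := le_of_eq hKtop.symm
  have hPK : (P : Subgroup G) ≤ Subgroup.normalizer (K : Set G) := le_top.trans hGK
  have hNC : N ≤ Subgroup.normalizer (C : Set G) := by
    rw [hCdef]
    exact le_normalizer_inf (le_top.trans hGK) Subgroup.le_normalizer
  have hoddK : Odd (K.relIndex ⊤) := by rw [Subgroup.relIndex_top_right]; exact hodd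
  have hoddC : Odd (C.relIndex N) := by
    rw [hCdef, Subgroup.inf_relIndex_right]
    exact Odd.of_dvd_nat hodd (Subgroup.relIndex_dvd_index_of_normal K N)
  have hC : ∀ k : G, k ∈ C ↔ (k ∈ K ∧ ∀ x ∈ (P : Subgroup G), x * k * x⁻¹ * k⁻¹ ∈ Q₀) := by
    intro k
    rw [hCdef, Subgroup.mem_inf]
    constructor
    · rintro ⟨hkK, hkN⟩
      refine ⟨hkK, fun x hx => ?_⟩
      rw [hNdef] at hkN
      have h1 : k * x⁻¹ * k⁻¹ ∈ (P : Subgroup G) :=
        (Subgroup.mem_normalizer_iff.mp hkN x⁻¹).mp (Subgroup.inv_mem _ hx)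
      have hyP : x * k * x⁻¹ * k⁻¹ ∈ (P : Subgroup G) := by
        have e : x * k * x⁻¹ * k⁻¹ = x * (k * x⁻¹ * k⁻¹) := by group
        rw [e]
        exact Subgroup.mul_mem _ hx h1
      have hyK : x * k * x⁻¹ * k⁻¹ ∈ K :=
        K.mul_mem (hKn.conj_mem k hkK x) (K.inv_mem hkK)
      refine mem_of_pow_eq_one (p := p) K Q₀ hQK hKQ hQsyl _ hyK b ?_
      have h2 : (⟨x * k * x⁻¹ * k⁻¹, hyP⟩ : (P : Subgroup G)) ^ (p ^ b) = 1 := by
        rw [← hb]; exact pow_card_eq_one'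
      have := congrArg Subtype.val h2
      simpa using this
    · rintro ⟨hkK, hcomm⟩
      refine ⟨hkK, ?_⟩
      rw [hNdef]
      apply Subgroup.mem_normalizer_fintype
      intro x hx
      have h1 := hcomm x⁻¹ (Subgroup.inv_mem _ hx)
      have e : k * x * k⁻¹ = x * (x⁻¹ * k * x⁻¹⁻¹ * k⁻¹) := by group
      rw [e]
      exact Subgroup.mul_mem _ hx (hQ₀P h1)
  obtain ⟨GC, hdegGC⟩ := rel_glauberman (p := p) (P : Subgroup G) K Q₀ C P.2 hPK hQK hQn'
    ⟨a, ha⟩ hQsyl hCK hC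
  -- fusion
  have hfus : ∀ (χ : IrrCharacter (⊤ : Subgroup G)) (θ θ' : IrrCharacter K),
      mult (Subgroup.inclusion (le_top : K ≤ ⊤)) χ θ ≠ 0 →
      mult (Subgroup.inclusion (le_top : K ≤ ⊤)) χ θ' ≠ 0 →
      (∀ x ∈ (P : Subgroup G), InvAt K (θ : K → ℂ) x) →
      (∀ x ∈ (P : Subgroup G), InvAt K (θ' : K → ℂ) x) →
      ∃ n ∈ N, ∀ k k' : K, (k' : G) = n * (k : G) * n⁻¹ → (θ' : K → ℂ) k' = (θ : K → ℂ) k := by
    intro χ θ θ' h h' hθP hθ'P
    obtain ⟨g, hg, hgθ⟩ := clifford_conj_amb (le_top : K ≤ ⊤) hGK χ θ θ' h h'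
    have hrel := rel_pullIrr_conjE_inv K g (hGK hg) θ
    rw [hgθ] at hrel
    letI act : MulAction G (IrrCharacter K) := irrConjAction K
    have hgs : g • θ = θ' := RealNorm.smul_eq_of_rel K θ θ' g hrel
    have h1 : ∀ x ∈ (P : Subgroup G), x • θ = θ :=
      fun x hx => RealNorm.smul_eq_of_rel K θ θ x (hθP x hx)
    have h2 : ∀ x ∈ (P : Subgroup G), x • (g • θ) = g • θ := by
      intro x hx
      rw [hgs]
      exact RealNorm.smul_eq_of_rel K θ' θ' x (hθ'P x hx)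
    obtain ⟨m, hm, hmθ⟩ := RealNorm.exists_normalizer_smul P θ g h1 h2
    refine ⟨m, hNdef ▸ hm, ?_⟩
    rw [hgs] at hmθ
    exact RealNorm.rel_of_smul_eq K θ θ' m hmθ
  -- the hypothesis on real characters, for `⊤`
  have hrealdeg : ∀ χ : IrrCharacter (⊤ : Subgroup G),
      (∀ g : (⊤ : Subgroup G), ((χ : (⊤ : Subgroup G) → ℂ) g).im = 0) → ¬ p ∣ irrDeg χ := by
    intro χ hχ
    have h1 := hreal (pullIrr (Subgroup.topEquiv (G := G)).symm χ) (by
      intro g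
      rw [pullIrr_apply]
      exact hχ _)
    rw [irrDeg_pullIrr] at h1
    exact h1
  have key := real_bijection_core (p := p) (⊤ : Subgroup G) K C N (P : Subgroup G) le_top hGK
    hoddK hCN hNC hoddC hCK le_top P.2 hPN hNP GC hdegGC hfus hrealdeg
  rw [hNdef] at key
  exact key

end Main

end Cfsg.Agent.Helper29.RealBij
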