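import Mathlib
import Cfsg.Agent.Helper29.RealPPrimeD

/-!
# Isaacs–Navarro: generalized induction (`G / O^{2'}(G)` a `p`-group)
-/

set_option autoImplicit false
set_option linter.style.haveILetI false

namespace Cfsg.Agent.Helper29.RealPP

open Cfsg Cfsg.Agent.Helper24

universe u

section Main2

variable {p : ℕ} [hp : Fact p.Prime]

/-- Generalized induction: `X / O^{2'}(X)` a `p`-group, `O^{p'}(X)` solvable and all real
irreducible characters of `p'`-degree: `X` has a normal Sylow `p`-subgroup. -/
theorem sylow_normal_aux' : ∀ (n : ℕ) (X : Type u) [Group X] [Finite X], Nat.card X = n →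
    Group.IsSolvable (powCl p X) →
    (∀ χ : IrrCharacter X, (∀ g : X, ((χ : X → ℂ) g).im = 0) → ¬ p ∣ irrDeg χ) →
    (∃ a : ℕ, (powCl 2 X).index = p ^ a) → ∀ Q : Sylow p X, (Q : Subgroup X).Normal := by
  intro n
  induction n using Nat.strong_induction_on with
  | _ n ih =>
  intro X _ _ hcard hsolv hreal hgen Q
  classical
  haveI : Fintype X := Fintype.ofFinite X
  by_cases hLbot : powCl p X = ⊥
  · have : (Q : Subgroup X) = ⊥ := by
      rw [eq_bot_iff, ← hLbot]; exact le_powCl_of_isPGroup _ Q.2
    rw [this]; infer_instance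
  -- a minimal normal subgroup inside `O^{p'}(X)`
  obtain ⟨N, ⟨hNn, hNne, hNL⟩, hNmin⟩ := wellFounded_lt.has_min
    {N : Subgroup X | N.Normal ∧ N ≠ ⊥ ∧ N ≤ powCl p X} ⟨powCl p X, inferInstance, hLbot, le_rfl⟩
  haveI := hNn
  have hmin : ∀ M : Subgroup X, M.Normal → M ≤ N → M = ⊥ ∨ M = N := by
    intro M hMn hMN
    by_cases hM : M = ⊥
    · exact Or.inl hM
    · right
      by_contra hne
      exact hNmin M ⟨hMn, hM, hMN.trans hNL⟩ (lt_of_le_of_ne hMN hne)
  haveI := hsolv
  have hNs : Group.IsSolvable N :=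
    Group.isSolvable_of_isSolvable_injective (Subgroup.inclusion_injective hNL)
  obtain ⟨hNc, q, hq, hexp⟩ := Cfsg.Agent.Helper1.minNormal_elementary N hNne hNs hmin
  haveI : Fact q.Prime := ⟨hq⟩
  have hNq : IsPGroup q N := fun x => ⟨1, by rw [pow_one]; exact Subtype.ext (hexp x x.2)⟩
  -- the quotient
  have hcardlt : Nat.card (X ⧸ N) < n := by
    rw [← hcard, Subgroup.card_eq_card_quotient_mul_card_subgroup N]
    have h1 : 1 < Nat.card N := N.one_lt_card_iff_ne_bot.mpr hNne
    have h2 : 0 < Nat.card (X ⧸ N) := Nat.card_pos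
    nlinarith
  have hquot := ih _ hcardlt (X ⧸ N) rfl (powCl_quotient_isSolvable N hsolv)
    (real_hyp_quotient N hreal)
    (by
      obtain ⟨a, ha⟩ := hgen
      have h1 : (powCl 2 X).map (QuotientGroup.mk' N) ≤ powCl 2 (X ⧸ N) := by
        unfold powCl
        rw [MonoidHom.map_closure, Subgroup.closure_le]
        rintro _ ⟨g, ⟨k, hk⟩, rfl⟩
        have h1 : orderOf (QuotientGroup.mk' N g) ∣ 2 ^ k := by
          rw [← hk]; exact orderOf_map_dvd _ g
        obtain ⟨j, -, hj⟩ := (Nat.dvd_prime_pow Nat.prime_two).mp h1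
        exact Subgroup.subset_closure ⟨j, hj⟩
      have h2 : (powCl 2 (X ⧸ N)).index ∣ p ^ a := by
        rw [← ha]
        exact (Subgroup.index_dvd_of_le h1).trans
          (Subgroup.index_map_dvd _ (QuotientGroup.mk'_surjective N))
      obtain ⟨b, -, hb⟩ := (Nat.dvd_prime_pow hp.out).mp h2
      exact ⟨b, hb⟩)
  have hQN : ((Q : Subgroup X) ⊔ N).Normal := by
    have h1 := hquot (Q.mapSurjective (QuotientGroup.mk'_surjective N))
    rw [Sylow.coe_mapSurjective] at h1
    have h2 : (((Q : Subgroup X).map (QuotientGroup.mk' N)).comap (QuotientGroup.mk' N)).Normal :=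
      h1.comap _
    rwa [Subgroup.comap_map_eq, QuotientGroup.ker_mk'] at h2
  by_cases hqp : q = p
  · subst hqp
    have hNQ : N ≤ (Q : Subgroup X) := hNq.le_sylow_of_normal Q
    rwa [sup_eq_left.mpr hNQ] at hQN
  · haveI := hQN
    have hfr : Subgroup.normalizer ((Q : Subgroup X) : Set X) ⊔ ((Q : Subgroup X) ⊔ N) = ⊤ :=
      Sylow.normalizer_sup_eq_top' Q le_sup_left
    have hHN : Subgroup.normalizer ((Q : Subgroup X) : Set X) ⊔ N = ⊤ := by
      rw [← hfr, ← sup_assoc, sup_eq_left.mpr Subgroup.le_normalizer]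
    have hNQ : N ⊓ (Q : Subgroup X) = ⊥ :=
      (IsPGroup.disjoint_of_ne q p hqp N Q hNq Q.2).eq_bot
    have hNH : N ⊓ Subgroup.normalizer ((Q : Subgroup X) : Set X) ≤
        Subgroup.centralizer ((Q : Subgroup X) : Set X) := by
      rintro m ⟨hmN, hmH⟩
      rw [Subgroup.mem_centralizer_iff]
      intro x hx
      have h1 : m * x * m⁻¹ * x⁻¹ ∈ N ⊓ (Q : Subgroup X) := by
        refine ⟨?_, ?_⟩
        · have : m * x * m⁻¹ * x⁻¹ = m * (x * m⁻¹ * x⁻¹) := by group
          rw [this]
          exact N.mul_mem hmN (hNn.conj_mem _ (N.inv_mem hmN) x)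
        · exact Subgroup.mul_mem _ ((Subgroup.mem_normalizer_iff.mp hmH x).mp hx)
            (Subgroup.inv_mem _ hx)
      rw [hNQ, Subgroup.mem_bot] at h1
      calc x * m = (m * x * m⁻¹ * x⁻¹)⁻¹ * (m * x) := by group
        _ = m * x := by rw [h1, inv_one, one_mul]
    obtain ⟨C, hC⟩ : ∃ C : Subgroup X, C = N ⊓ Subgroup.centralizer ((Q : Subgroup X) : Set X) :=
      ⟨_, rfl⟩
    have hCN : C ≤ N := by rw [hC]; exact inf_le_left
    have hCn : C.Normal := by
      constructor
      intro c hc g
      have hg : g ∈ ((Subgroup.normalizer ((Q : Subgroup X) : Set X) ⊔ N : Subgroup X) : Set X) := by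
        rw [hHN]; trivial
      rw [Subgroup.mul_normal, Set.mem_mul] at hg
      obtain ⟨h, hh, m, hm, rfl⟩ := hg
      have hcN : c ∈ N := hCN hc
      have hmc : m * c * m⁻¹ = c := by
        have := mul_comm' (⟨m, hm⟩ : N) ⟨c, hcN⟩
        have h1 : m * c = c * m := congrArg Subtype.val this
        rw [h1]; group
      have e : h * m * c * (h * m)⁻¹ = h * (m * c * m⁻¹) * h⁻¹ := by group
      rw [e, hmc, hC]
      refine ⟨hNn.conj_mem c hcN h, ?_⟩
      show h * c * h⁻¹ ∈ Subgroup.centralizer ((Q : Subgroup X) : Set X)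
      rw [Subgroup.mem_centralizer_iff]
      intro x hx
      have hx' : h⁻¹ * x * h ∈ (Q : Subgroup X) := by
        have := (Subgroup.mem_normalizer_iff.mp (Subgroup.inv_mem _ hh) x).mp hx
        simpa using this
      have hc' : c ∈ Subgroup.centralizer ((Q : Subgroup X) : Set X) := by
        rw [hC] at hc; exact hc.2
      have h1 := (Subgroup.mem_centralizer_iff.mp hc') _ hx'
      calc x * (h * c * h⁻¹) = h * ((h⁻¹ * x * h) * c) * h⁻¹ := by group
        _ = h * (c * (h⁻¹ * x * h)) * h⁻¹ := by rw [h1]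
        _ = h * c * h⁻¹ * x := by group
    rcases hmin C hCn hCN with h | h
    · exfalso
      have hinfC : N ⊓ Subgroup.centralizer ((Q : Subgroup X) : Set X) = ⊥ := by rw [← hC, h]
      have hker : ∀ χ : IrrCharacter X, (∀ g : X, ((χ : X → ℂ) g).im = 0) →
          ∀ m ∈ N, (χ : X → ℂ) m = (χ : X → ℂ) 1 := fun χ hχ m hm =>
        Cfsg.Agent.Helper29.PPK.apply_eq_of_inf_centralizer (Q : Subgroup X) Q.2 N hinfC χ
          (hreal χ hχ) m hm
      have hinf : N ⊓ Subgroup.normalizer ((Q : Subgroup X) : Set X) = ⊥ := by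
        rw [eq_bot_iff, ← hinfC]
        exact fun x hx => ⟨hx.1, hNH hx⟩
      have hnoreal : ∀ m ∈ N, IsConj m m⁻¹ → m = 1 := fun m hm hr =>
        eq_one_of_real_of_lift N (lift_of_complement N _ hHN hinf) hker m hm hr
      by_cases hq2 : q = 2
      · apply hNne
        rw [eq_bot_iff]
        intro m hm
        rw [Subgroup.mem_bot]
        apply hnoreal m hm
        have h2 : m ^ 2 = 1 := by rw [← hq2]; exact hexp m hm
        have h3 : m⁻¹ = m := by
          rw [inv_eq_iff_mul_eq_one, ← pow_two]; exact h2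
        rw [h3]
      · have hcent := closure_two_le_centralizer N hnoreal
        -- every `2`-element normalizes `Q`
        have hqodd : Odd q := hq.odd_of_ne_two hq2
        have hKH : powCl 2 X ≤ Subgroup.normalizer ((Q : Subgroup X) : Set X) := by
          unfold powCl
          rw [Subgroup.closure_le]
          rintro x ⟨k, hk⟩
          have hxc : x ∈ Subgroup.centralizer (N : Set X) := hcent (Subgroup.subset_closure ⟨k, hk⟩)
          have hx : x ∈ ((Subgroup.normalizer ((Q : Subgroup X) : Set X) ⊔ N : Subgroup X) : Set X) := by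
            rw [hHN]; trivial
          rw [Subgroup.mul_normal, Set.mem_mul] at hx
          obtain ⟨h', hh', m, hm, rfl⟩ := hx
          have hcomm : Commute h' m := by
            have h1 := (Subgroup.mem_centralizer_iff.mp hxc) m hm
            -- m * (h' * m) = (h' * m) * m
            have : m * h' = h' * m := by
              have h2 : m * h' * m = h' * m * m := by rw [mul_assoc, h1, mul_assoc]
              exact mul_right_cancel h2
            exact this.symm
          have hpow : (h' * m) ^ 2 ^ k = 1 := by rw [← hk]; exact pow_orderOf_eq_one _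
          rw [hcomm.mul_pow] at hpow
          have hmem : m ^ 2 ^ k ∈ N ⊓ Subgroup.normalizer ((Q : Subgroup X) : Set X) := by
            refine ⟨N.pow_mem hm _, ?_⟩
            have : m ^ 2 ^ k = (h' ^ 2 ^ k)⁻¹ := eq_inv_of_mul_eq_one_right hpow
            rw [this]
            exact Subgroup.inv_mem _ (Subgroup.pow_mem _ hh' _)
          rw [hinf, Subgroup.mem_bot] at hmem
          have hm1 : m = 1 := by
            have h1 : orderOf m ∣ 2 ^ k := orderOf_dvd_of_pow_eq_one hmem
            have h2 : orderOf m ∣ q := orderOf_dvd_of_pow_eq_one (hexp m hm)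
            have h3 : (orderOf m).Coprime (orderOf m) :=
              Nat.Coprime.coprime_dvd_left h1 (Nat.Coprime.coprime_dvd_right h2
                (Nat.Coprime.pow_left k
                  ((Nat.coprime_primes Nat.prime_two hq).mpr (Ne.symm hq2))))
            rw [Nat.coprime_self, orderOf_eq_one_iff] at h3
            exact h3
          rw [hm1, mul_one]
          exact hh'
        -- `X = K Q`
        obtain ⟨a, ha⟩ := hgen
        have htop : powCl 2 X ⊔ (Q : Subgroup X) = ⊤ := by
          rw [← Subgroup.index_eq_one]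
          have h1 : (powCl 2 X ⊔ (Q : Subgroup X)).index ∣ p ^ a := by
            rw [← ha]; exact Subgroup.index_dvd_of_le le_sup_left
          have h2 : (powCl 2 X ⊔ (Q : Subgroup X)).index ∣ (Q : Subgroup X).index :=
            Subgroup.index_dvd_of_le le_sup_right
          obtain ⟨b, -, hb⟩ := (Nat.dvd_prime_pow hp.out).mp h1
          rcases Nat.eq_zero_or_pos b with h0 | hpos
          · rw [hb, h0, pow_zero]
          · exfalso
            apply Q.not_dvd_index
            rw [hb] at h2
            exact (dvd_pow_self p hpos.ne').trans h2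
        have hHtop : Subgroup.normalizer ((Q : Subgroup X) : Set X) = ⊤ := by
          rw [eq_top_iff, ← htop]
          exact sup_le hKH Subgroup.le_normalizer
        apply hNne
        rw [eq_bot_iff, ← hinf, hHtop]
        exact le_inf le_rfl le_top
    · have hNle : N ≤ Subgroup.normalizer ((Q : Subgroup X) : Set X) := by
        rw [← h, hC]
        exact inf_le_right.trans (Subgroup.centralizer_le_normalizer _)
      have : Subgroup.normalizer ((Q : Subgroup X) : Set X) = ⊤ := by
        rw [← hHN]; exact (sup_eq_left.mpr hNle).symm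
      exact Subgroup.normalizer_eq_top_iff.mp this


omit hp in
theorem map_powCl_of_le {G : Type u} [Group G] (U : Subgroup G) (r : ℕ) (h : powCl r G ≤ U) :
    (powCl r U).map U.subtype = powCl r G := by
  apply le_antisymm (map_powCl_subgroup_le U r)
  have h1 : ∀ g : G, (∃ j : ℕ, orderOf g = r ^ j) → g ∈ (powCl r U).map U.subtype := by
    rintro g ⟨j, hj⟩
    have hgU : g ∈ U := h (Subgroup.subset_closure ⟨j, hj⟩)
    refine ⟨⟨g, hgU⟩, Subgroup.subset_closure ⟨j, ?_⟩, rfl⟩
    rw [← hj]
    exact Subgroup.orderOf_mk g hgU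
  unfold powCl at h1 ⊢
  rw [Subgroup.closure_le]
  exact fun g hg => h1 g hg

/-- If `U ⊴ G` contains `O^{2'}(G)` with `p`-power index, then `U` has a normal Sylow
`p`-subgroup (under the Isaacs–Navarro hypotheses). -/
theorem sylow_normal_of_pgroup_over {G : Type u} [Group G] [Finite G]
    (hsolv : Group.IsSolvable (powCl p G))
    (hreal : ∀ χ : IrrCharacter G, (∀ g : G, ((χ : G → ℂ) g).im = 0) → ¬ p ∣ irrDeg χ)
    (U : Subgroup G) [hU : U.Normal] (hKU : powCl 2 G ≤ U)
    (hUp : ∃ a : ℕ, (powCl 2 G).relIndex U = p ^ a)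
    (Q : Sylow p U) : (Q : Subgroup U).Normal := by
  haveI : Fact (Nat.Prime 2) := ⟨Nat.prime_two⟩
  have hodd : Odd U.index := by
    rw [← Nat.not_even_iff_odd, even_iff_two_dvd]
    intro h
    exact not_dvd_index_powCl (X := G) (p := 2) (h.trans (Subgroup.index_dvd_of_le hKU))
  haveI := hsolv
  have hsolvU : Group.IsSolvable (powCl p U) := by
    have hinj : Function.Injective ((Subgroup.inclusion (map_powCl_subgroup_le U p)).comp
        ((powCl p U).equivMapOfInjective U.subtype U.subtype_injective).toMonoidHom) :=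
      (Subgroup.inclusion_injective (map_powCl_subgroup_le U p)).comp (MulEquiv.injective _)
    exact Group.isSolvable_of_isSolvable_injective hinj
  have hidx : ∃ a : ℕ, (powCl 2 U).index = p ^ a := by
    obtain ⟨a, ha⟩ := hUp
    refine ⟨a, ?_⟩
    rw [← ha]
    have h1 : powCl 2 U = (powCl 2 G).subgroupOf U := by
      rw [← map_powCl_of_le U 2 hKU]
      exact (Subgroup.comap_map_eq_self_of_injective U.subtype_injective _).symm
    rw [h1]
    rfl
  exact sylow_normal_aux' (Nat.card U) U rfl hsolvU (real_hyp_subgroup U hodd hreal) hidx Q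

end Main2

end Cfsg.Agent.Helper29.RealPP
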