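import Mathlib

set_option autoImplicit false

namespace Cfsg.Agent.Helper29.RealRep

open Matrix Polynomial
open scoped ComplexConjugate

variable {n : ℕ}

/-- entrywise complex conjugate of a matrix -/
noncomputable abbrev cj (A : Matrix (Fin n) (Fin n) ℂ) : Matrix (Fin n) (Fin n) ℂ :=
  A.map (starRingEnd ℂ)

theorem cj_mul (A B : Matrix (Fin n) (Fin n) ℂ) : cj (A * B) = cj A * cj B :=
  Matrix.map_mul

theorem cj_cj (A : Matrix (Fin n) (Fin n) ℂ) : cj (cj A) = A := by
  ext i j; simp [cj]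

theorem cj_one : cj (1 : Matrix (Fin n) (Fin n) ℂ) = 1 := by
  ext i j
  simp only [cj, Matrix.map_apply, Matrix.one_apply]
  split_ifs <;> simp

theorem cj_add (A B : Matrix (Fin n) (Fin n) ℂ) : cj (A + B) = cj A + cj B := by
  ext i j; simp [cj]

theorem cj_sub (A B : Matrix (Fin n) (Fin n) ℂ) : cj (A - B) = cj A - cj B := by
  ext i j; simp [cj]

theorem cj_smul (c : ℂ) (A : Matrix (Fin n) (Fin n) ℂ) : cj (c • A) = conj c • cj A := by
  ext i j; simp [cj]

theorem cj_transpose (A : Matrix (Fin n) (Fin n) ℂ) : cj (Aᵀ) = (cj A)ᵀ := by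
  ext i j; simp [cj]

theorem conjTranspose_eq (A : Matrix (Fin n) (Fin n) ℂ) : Aᴴ = (cj A)ᵀ := by
  ext i j; simp [cj, Matrix.conjTranspose_apply]

theorem cj_injective : Function.Injective (cj (n := n)) := by
  intro A B h
  have := congrArg cj h
  rwa [cj_cj, cj_cj] at this

/-- Hilbert 90 for matrices: `C * conj C = 1` implies `C = T * (conj T)⁻¹`. -/
theorem hilbert90 (C : Matrix (Fin n) (Fin n) ℂ) (hC : C * cj C = 1) :
    ∃ T : Matrix (Fin n) (Fin n) ℂ, T.det ≠ 0 ∧ C * cj T = T := by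
  set T₁ : Matrix (Fin n) (Fin n) ℂ := 1 + C with hT₁
  set T₂ : Matrix (Fin n) (Fin n) ℂ := Complex.I • (C - 1) with hT₂
  have h1 : C * cj T₁ = T₁ := by
    rw [hT₁, cj_add, cj_one, Matrix.mul_add, hC, Matrix.mul_one, add_comm]
  have h2 : C * cj T₂ = T₂ := by
    rw [hT₂, cj_smul, cj_sub, cj_one, Complex.conj_I, Matrix.mul_smul, Matrix.mul_sub, hC,
      Matrix.mul_one, neg_smul, ← smul_neg, neg_sub]
  -- the polynomial det (T₁ + z T₂)
  set Mp : Matrix (Fin n) (Fin n) ℂ[X] := T₁.map Polynomial.C + (Polynomial.X : ℂ[X]) • T₂.map Polynomial.C with hMp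
  set q : ℂ[X] := Mp.det with hq
  have heval : ∀ z : ℂ, q.eval z = (T₁ + z • T₂).det := by
    intro z
    have := RingHom.map_det (Polynomial.evalRingHom z) Mp
    rw [Polynomial.coe_evalRingHom] at this
    rw [hq, this]
    congr 1
    ext i j
    simp only [hMp, RingHom.mapMatrix_apply, Matrix.map_apply, Matrix.add_apply, Matrix.smul_apply,
      Polynomial.coe_evalRingHom, Polynomial.eval_add, Polynomial.eval_C, smul_eq_mul,
      Polynomial.eval_mul, Polynomial.eval_X]
  have hq0 : q ≠ 0 := by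
    intro h0
    have := heval Complex.I
    rw [h0, Polynomial.eval_zero] at this
    have h3 : T₁ + Complex.I • T₂ = (2 : ℂ) • (1 : Matrix (Fin n) (Fin n) ℂ) := by
      rw [hT₁, hT₂, smul_smul, Complex.I_mul_I]
      rw [neg_one_smul, neg_sub, two_smul]
      abel
    rw [h3, Matrix.det_smul, Matrix.det_one, mul_one] at this
    have h4 : (2 : ℂ) ^ Fintype.card (Fin n) ≠ 0 := pow_ne_zero _ two_ne_zero
    exact h4 this.symm
  -- some real number is not a root
  obtain ⟨r, hr⟩ : ∃ r : ℝ, q.eval (r : ℂ) ≠ 0 := by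
    by_contra hcon
    push Not at hcon
    apply hq0
    apply Polynomial.eq_zero_of_infinite_isRoot
    have hsub : Set.range ((↑) : ℝ → ℂ) ⊆ {x | q.IsRoot x} := by
      rintro _ ⟨r, rfl⟩
      exact hcon r
    exact (Set.infinite_range_of_injective Complex.ofReal_injective).mono hsub
  refine ⟨T₁ + (r : ℂ) • T₂, ?_, ?_⟩
  · rw [← heval]; exact hr
  · rw [cj_add, cj_smul, Complex.conj_ofReal, Matrix.mul_add, Matrix.mul_smul, h1, h2]

/-- A matrix fixed by entrywise conjugation is the complexification of a real matrix. -/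
theorem exists_real_of_cj_eq (Y : Matrix (Fin n) (Fin n) ℂ) (hY : cj Y = Y) :
    (Y.map Complex.re).map ((↑) : ℝ → ℂ) = Y := by
  ext i j
  simp only [Matrix.map_apply]
  have := congrFun (congrFun hY i) j
  simp only [cj, Matrix.map_apply] at this
  exact Complex.conj_eq_iff_re.mp this

end Cfsg.Agent.Helper29.RealRep
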