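import Mathlib
import Cfsg.Agent.Helper29.RealRepA

set_option autoImplicit false

namespace Cfsg.Agent.Helper29.RealRep

open Matrix
open scoped ComplexConjugate ComplexOrder

variable {n : ℕ}

theorem det_cj (A : Matrix (Fin n) (Fin n) ℂ) : (cj A).det = conj A.det := by
  have := RingHom.map_det (starRingEnd ℂ) A
  rw [this]
  rfl

theorem cancel_left {A B C : Matrix (Fin n) (Fin n) ℂ} (hA : A.det ≠ 0) (h : A * B = A * C) :
    B = C := by
  have hu : IsUnit A.det := isUnit_iff_ne_zero.mpr hA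
  have := congrArg (fun Z => A⁻¹ * Z) h
  simpa [← Matrix.mul_assoc, Matrix.nonsing_inv_mul _ hu] using this

theorem exists_real_conj {G : Type*} [Group G] [Fintype G] (X : G → Matrix (Fin n) (Fin n) ℂ)
    (hmul : ∀ g h, X (g * h) = X g * X h) (hone : X 1 = 1)
    (hschur : ∀ S : Matrix (Fin n) (Fin n) ℂ, (∀ g, S * X g = X g * S) → ∃ c : ℂ, S = c • 1)
    (M : Matrix (Fin n) (Fin n) ℂ) (hMs : Mᵀ = M) (hMd : M.det ≠ 0)
    (hMinv : ∀ g, (X g)ᵀ * M * X g = M) :
    ∃ T : Matrix (Fin n) (Fin n) ℂ, T.det ≠ 0 ∧ ∀ g, cj (T⁻¹ * X g * T) = T⁻¹ * X g * T := by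
  classical
  rcases Nat.eq_zero_or_pos n with hn | hn
  · subst hn
    refine ⟨1, by simp, fun g => Subsingleton.elim _ _⟩
  have hinv1 : ∀ g, X g⁻¹ * X g = 1 := fun g => by rw [← hmul, inv_mul_cancel, hone]
  -- the invariant Hermitian form
  obtain ⟨P, hP⟩ : ∃ P : Matrix (Fin n) (Fin n) ℂ, P = ∑ g : G, (X g)ᴴ * X g := ⟨_, rfl⟩
  have hPpd : P.PosDef := by
    rw [hP]
    apply Matrix.posDef_sum Finset.univ_nonempty
    intro g _
    apply Matrix.PosDef.conjTranspose_mul_self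
    intro v w hvw
    have := congrArg (fun u => (X g⁻¹) *ᵥ u) hvw
    simpa [Matrix.mulVec_mulVec, hinv1] using this
  have hPinv : ∀ h, (X h)ᴴ * P * X h = P := by
    intro h
    rw [hP, Finset.mul_sum, Finset.sum_mul]
    rw [← Equiv.sum_comp (Equiv.mulRight h) (fun g => (X g)ᴴ * X g)]
    refine Finset.sum_congr rfl fun g _ => ?_
    simp only [Equiv.coe_mulRight, hmul, Matrix.conjTranspose_mul, Matrix.mul_assoc]
  have hPu : IsUnit P.det := (Matrix.isUnit_iff_isUnit_det P).mp hPpd.isUnit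
  have hPd : P.det ≠ 0 := hPu.ne_zero
  obtain ⟨C₀, hC₀⟩ : ∃ C₀ : Matrix (Fin n) (Fin n) ℂ, C₀ = P⁻¹ * cj M := ⟨_, rfl⟩
  have hPC : P * C₀ = cj M := by
    rw [hC₀, ← Matrix.mul_assoc, Matrix.mul_nonsing_inv _ hPu, Matrix.one_mul]
  -- equivariance
  have hequiv : ∀ g, X g * C₀ = C₀ * cj (X g) := by
    intro g
    have e1 : (X g⁻¹)ᴴ * P = P * X g := by
      have := hPinv g⁻¹
      calc (X g⁻¹)ᴴ * P = (X g⁻¹)ᴴ * P * (X g⁻¹ * X g) := by rw [hinv1, Matrix.mul_one]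
        _ = ((X g⁻¹)ᴴ * P * X g⁻¹) * X g := by simp only [Matrix.mul_assoc]
        _ = P * X g := by rw [this]
    have e2 : (X g⁻¹)ᴴ * cj M = cj M * cj (X g) := by
      have := congrArg cj (hMinv g⁻¹)
      rw [cj_mul, cj_mul, cj_transpose, ← conjTranspose_eq] at this
      calc (X g⁻¹)ᴴ * cj M = (X g⁻¹)ᴴ * cj M * (cj (X g⁻¹) * cj (X g)) := by
            rw [← cj_mul, hinv1, cj_one, Matrix.mul_one]
        _ = ((X g⁻¹)ᴴ * cj M * cj (X g⁻¹)) * cj (X g) := by simp only [Matrix.mul_assoc]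
        _ = cj M * cj (X g) := by rw [this]
    have e3 : P * (X g * C₀) = P * (C₀ * cj (X g)) := by
      rw [← Matrix.mul_assoc, ← e1, Matrix.mul_assoc, hPC, e2, ← Matrix.mul_assoc, hPC]
    exact cancel_left hPd e3
  -- Schur
  have hcomm : ∀ g, (C₀ * cj C₀) * X g = X g * (C₀ * cj C₀) := by
    intro g
    calc (C₀ * cj C₀) * X g = C₀ * cj (C₀ * cj (X g)) := by
          rw [cj_mul, cj_cj, Matrix.mul_assoc]
      _ = C₀ * cj (X g * C₀) := by rw [hequiv g]
      _ = (C₀ * cj (X g)) * cj C₀ := by rw [cj_mul, Matrix.mul_assoc]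
      _ = X g * (C₀ * cj C₀) := by rw [← hequiv g, Matrix.mul_assoc]
  obtain ⟨lam, hlam⟩ := hschur _ hcomm
  -- key identity
  have hcjM : (cj M)ᵀ = cj M := by rw [← cj_transpose, hMs]
  have hkey : lam • Pᵀ = C₀ᴴ * P * C₀ := by
    have h1 : lam • P = cj M * cj C₀ := by
      calc lam • P = P * (lam • (1 : Matrix (Fin n) (Fin n) ℂ)) := by
            rw [Matrix.mul_smul, Matrix.mul_one]
        _ = P * (C₀ * cj C₀) := by rw [hlam]
        _ = cj M * cj C₀ := by rw [← Matrix.mul_assoc, hPC]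
    have h2 := congrArg Matrix.transpose h1
    rw [Matrix.transpose_smul, Matrix.transpose_mul, hcjM, ← conjTranspose_eq] at h2
    rw [h2, Matrix.mul_assoc, hPC]
  have hC₀d : C₀.det ≠ 0 := by
    rw [hC₀, Matrix.det_mul, det_cj]
    apply mul_ne_zero
    · rw [Matrix.det_nonsing_inv]
      rw [Ring.inverse_eq_inv']
      exact inv_ne_zero hPd
    · simpa using hMd
  have hC₀inj : Function.Injective C₀.mulVec := by
    rw [Matrix.mulVec_injective_iff_isUnit, Matrix.isUnit_iff_isUnit_det]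
    exact isUnit_iff_ne_zero.mpr hC₀d
  have hpd1 : (C₀ᴴ * P * C₀).PosDef := hPpd.conjTranspose_mul_mul_same hC₀inj
  have hpd2 : Pᵀ.PosDef := hPpd.transpose
  -- lam is a positive real
  have hlampos : 0 < lam.re ∧ lam.im = 0 := by
    let x : Fin n → ℂ := fun _ => 1
    have hx : x ≠ 0 := by
      intro h
      have := congrFun h ⟨0, hn⟩
      simp [x] at this
    have ha := hpd2.dotProduct_mulVec_pos hx
    have hb := hpd1.dotProduct_mulVec_pos hx
    rw [← hkey, Matrix.smul_mulVec, dotProduct_smul, smul_eq_mul] at hb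
    set a := star x ⬝ᵥ (Pᵀ *ᵥ x) with ha_def
    rw [Complex.pos_iff] at ha hb
    obtain ⟨ha1, ha2⟩ := ha
    obtain ⟨hb1, hb2⟩ := hb
    rw [Complex.mul_re, ← ha2, mul_zero, sub_zero] at hb1
    rw [Complex.mul_im, ← ha2, mul_zero, zero_add] at hb2
    have him : lam.im = 0 := by
      rcases mul_eq_zero.mp hb2.symm with h | h
      · exact h
      · exact absurd h ha1.ne'
    refine ⟨?_, him⟩
    by_contra hcon
    push Not at hcon
    have : lam.re * a.re ≤ 0 := mul_nonpos_of_nonpos_of_nonneg hcon ha1.le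
    linarith
  obtain ⟨hl1, hl2⟩ := hlampos
  have hlam_eq : lam = ((lam.re : ℝ) : ℂ) := by
    apply Complex.ext
    · simp
    · simp [hl2]
  obtain ⟨r, hr⟩ : ∃ r : ℝ, r = (Real.sqrt lam.re)⁻¹ := ⟨_, rfl⟩
  have hr2 : r * r * lam.re = 1 := by
    have h1 : Real.sqrt lam.re * Real.sqrt lam.re = lam.re := Real.mul_self_sqrt hl1.le
    have h2 : Real.sqrt lam.re ≠ 0 := (Real.sqrt_pos.mpr hl1).ne'
    rw [hr]
    field_simp
    nlinarith [h1]
  obtain ⟨C, hCdef⟩ : ∃ C : Matrix (Fin n) (Fin n) ℂ, C = (r : ℂ) • C₀ := ⟨_, rfl⟩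
  have hCC : C * cj C = 1 := by
    rw [hCdef, cj_smul, Complex.conj_ofReal, Matrix.smul_mul, Matrix.mul_smul, smul_smul, hlam,
      smul_smul]
    have : (r : ℂ) * (r : ℂ) * lam = 1 := by
      rw [hlam_eq]
      exact_mod_cast hr2
    rw [this, one_smul]
  have hCequiv : ∀ g, X g * C = C * cj (X g) := by
    intro g
    rw [hCdef, Matrix.mul_smul, Matrix.smul_mul, hequiv g]
  obtain ⟨T, hTd, hT⟩ := hilbert90 C hCC
  have hcjCC : cj C * C = 1 := by
    have := congrArg cj hCC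
    rwa [cj_mul, cj_cj, cj_one] at this
  have hcjT : cj T = cj C * T := by
    conv_rhs => rw [← hT]
    rw [← Matrix.mul_assoc, hcjCC, Matrix.one_mul]
  have hTu : IsUnit T.det := isUnit_iff_ne_zero.mpr hTd
  have hcjTd : (cj T).det ≠ 0 := by
    rw [det_cj]
    simpa using hTd
  refine ⟨T, hTd, fun g => ?_⟩
  apply cancel_left hcjTd
  have hTY : T * (T⁻¹ * X g * T) = X g * T := by
    rw [← Matrix.mul_assoc, ← Matrix.mul_assoc, Matrix.mul_nonsing_inv _ hTu, Matrix.one_mul]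
  calc cj T * cj (T⁻¹ * X g * T) = cj (T * (T⁻¹ * X g * T)) := (cj_mul _ _).symm
    _ = cj (X g) * cj T := by rw [hTY, cj_mul]
    _ = cj (X g * C) * T := by rw [hcjT, ← Matrix.mul_assoc, ← cj_mul]
    _ = cj C * (X g * T) := by rw [hCequiv g, cj_mul, cj_cj, Matrix.mul_assoc]
    _ = cj C * (T * (T⁻¹ * X g * T)) := by rw [hTY]
    _ = cj T * (T⁻¹ * X g * T) := by rw [← Matrix.mul_assoc, ← hcjT]

end Cfsg.Agent.Helper29.RealRep
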