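import Mathlib
import Cfsg.Prelude.Def_Characters
import Cfsg.Agent.Helper29.RealRepB
import Cfsg.Agent.Helper5.FrobSchurIrr
import Cfsg.Agent.Helper24.Orthogonality

set_option autoImplicit false
set_option linter.unusedSectionVars false

namespace Cfsg.Agent.Helper29.RealRep

open Matrix Cfsg Cfsg.Agent.Helper5.FrobSchur
open scoped ComplexConjugate

variable {G : Type*} [Group G] [Fintype G] {n : ℕ}

/-- Schur's lemma in matrix form. -/
theorem schur_matrix (ρ : Representation ℂ G (Fin n → ℂ)) [ρ.IsIrreducible]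
    (S : Matrix (Fin n) (Fin n) ℂ) (hS : ∀ g, S * mat ρ g = mat ρ g * S) :
    ∃ c : ℂ, S = c • 1 := by
  have hf : ∀ g : G, (Matrix.toLin' S) ∘ₗ ρ g = ρ g ∘ₗ (Matrix.toLin' S) := by
    intro g
    have h1 : Matrix.toLin' (mat ρ g) = ρ g := Matrix.toLin'_toMatrix' (ρ g)
    rw [← h1, ← Matrix.toLin'_mul, ← Matrix.toLin'_mul, hS g]
  obtain ⟨c, hc⟩ :=
    (Representation.IsIrreducible.algebraMap_intertwiningMap_bijective_of_isAlgClosed (ρ := ρ)).2
      (⟨Matrix.toLin' S, hf⟩ : Representation.IntertwiningMap ρ ρ)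
  refine ⟨c, ?_⟩
  have h1 := congrArg Representation.IntertwiningMap.toLinearMap hc
  rw [Representation.IntertwiningMap.algebraMap_apply] at h1
  simp only [Representation.IntertwiningMap.toLinearMap_smul] at h1
  have h2 : Matrix.toLin' S = c • (LinearMap.id : (Fin n → ℂ) →ₗ[ℂ] (Fin n → ℂ)) := by
    rw [← h1]; rfl
  have h3 := congrArg LinearMap.toMatrix' h2
  rw [LinearMap.toMatrix'_toLin', map_smul, LinearMap.toMatrix'_id] at h3
  exact h3


theorem map_ofReal_injective :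
    Function.Injective (fun R : Matrix (Fin n) (Fin n) ℝ => R.map ((↑) : ℝ → ℂ)) := by
  intro A B h
  ext i j
  have := congrFun (congrFun h i) j
  simpa using this

theorem map_ofReal_mul (A B : Matrix (Fin n) (Fin n) ℝ) :
    (A * B).map ((↑) : ℝ → ℂ) = A.map ((↑) : ℝ → ℂ) * B.map ((↑) : ℝ → ℂ) :=
  Matrix.map_mul (f := Complex.ofRealHom)

theorem trace_map_ofReal (A : Matrix (Fin n) (Fin n) ℝ) :
    (A.map ((↑) : ℝ → ℂ)).trace = ((A.trace : ℝ) : ℂ) := by
  simp [Matrix.trace]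

/-- Forward direction: indicator one gives a real representation. -/
theorem exists_real_rep_of_indicator (ρ : Representation ℂ G (Fin n → ℂ)) [ρ.IsIrreducible]
    (hind : indicator ρ = 1) :
    ∃ σ : Representation ℝ G (Fin n → ℝ), ∀ g : G,
      ((LinearMap.trace ℝ (Fin n → ℝ) (σ g) : ℝ) : ℂ) = ρ.character g := by
  classical
  have htri := indicator_trichotomy ρ
  have hreal : ∀ g : G, (ρ.character g).im = 0 := by
    by_contra hcon
    push Not at hcon
    have := htri.2.mpr hcon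
    rw [hind] at this
    exact one_ne_zero this
  have hfr := (finrank_invariants_eq_one_iff ρ).mpr hreal
  obtain ⟨v, hv0, -⟩ := finrank_eq_one_iff'.mp hfr
  have hv0' : (v : Matrix (Fin n) (Fin n) ℂ) ≠ 0 := fun h => hv0 (Subtype.ext h)
  have hMs : (v : Matrix (Fin n) (Fin n) ℂ)ᵀ = v := by
    have := transpose_eq_indicator_smul ρ hfr.le v.2
    rw [hind, one_smul] at this
    exact this
  have hMd := det_ne_zero_of_mem_invariants ρ v.2 hv0'
  have hMinv := (mem_invariants_formRep ρ v.1).mp v.2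
  obtain ⟨T, hTd, hT⟩ := exists_real_conj (mat ρ) (mat_mul ρ) (mat_one ρ) (schur_matrix ρ)
    v.1 hMs hMd hMinv
  have hTu : IsUnit T.det := isUnit_iff_ne_zero.mpr hTd
  -- the real matrices
  let Y : G → Matrix (Fin n) (Fin n) ℂ := fun g => T⁻¹ * mat ρ g * T
  let R : G → Matrix (Fin n) (Fin n) ℝ := fun g => (Y g).map Complex.re
  have hRY : ∀ g, (R g).map ((↑) : ℝ → ℂ) = Y g := fun g => exists_real_of_cj_eq (Y g) (hT g)
  have hYmul : ∀ g h, Y (g * h) = Y g * Y h := by
    intro g h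
    show T⁻¹ * mat ρ (g * h) * T = (T⁻¹ * mat ρ g * T) * (T⁻¹ * mat ρ h * T)
    rw [mat_mul]
    calc T⁻¹ * (mat ρ g * mat ρ h) * T = T⁻¹ * mat ρ g * (1 : Matrix (Fin n) (Fin n) ℂ) * (mat ρ h * T) := by
          simp only [Matrix.mul_assoc, Matrix.one_mul]
      _ = T⁻¹ * mat ρ g * (T * T⁻¹) * (mat ρ h * T) := by rw [Matrix.mul_nonsing_inv _ hTu]
      _ = (T⁻¹ * mat ρ g * T) * (T⁻¹ * mat ρ h * T) := by simp only [Matrix.mul_assoc]
  have hYone : Y 1 = 1 := by
    show T⁻¹ * mat ρ 1 * T = 1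
    rw [mat_one, Matrix.mul_one, Matrix.nonsing_inv_mul _ hTu]
  have hRmul : ∀ g h, R (g * h) = R g * R h := by
    intro g h
    apply map_ofReal_injective
    show (R (g * h)).map ((↑) : ℝ → ℂ) = (R g * R h).map ((↑) : ℝ → ℂ)
    rw [map_ofReal_mul, hRY, hRY, hRY, hYmul]
  have hRone : R 1 = 1 := by
    apply map_ofReal_injective
    show (R 1).map ((↑) : ℝ → ℂ) = (1 : Matrix (Fin n) (Fin n) ℝ).map ((↑) : ℝ → ℂ)
    rw [hRY, hYone]
    ext i j
    simp [Matrix.one_apply]
    split_ifs <;> simp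
  let σ : Representation ℝ G (Fin n → ℝ) :=
    { toFun := fun g => Matrix.toLin' (R g)
      map_one' := by
        show Matrix.toLin' (R 1) = 1
        rw [hRone, Matrix.toLin'_one]; rfl
      map_mul' := fun g h => by
        show Matrix.toLin' (R (g * h)) = Matrix.toLin' (R g) * Matrix.toLin' (R h)
        rw [hRmul, Matrix.toLin'_mul]; rfl }
  refine ⟨σ, fun g => ?_⟩
  show ((LinearMap.trace ℝ (Fin n → ℝ) (Matrix.toLin' (R g)) : ℝ) : ℂ) = ρ.character g
  rw [Matrix.trace_toLin'_eq, ← trace_map_ofReal, hRY]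
  show (T⁻¹ * mat ρ g * T).trace = ρ.character g
  rw [Matrix.mul_assoc, Matrix.trace_mul_comm, Matrix.mul_assoc, Matrix.mul_nonsing_inv _ hTu,
    Matrix.mul_one, trace_mat]


/-- Backward direction: a real representation forces indicator one. -/
theorem indicator_of_real_rep (χ : IrrCharacter G) {m : ℕ}
    (σ : Representation ℝ G (Fin m → ℝ))
    (hσ : ∀ g : G, ((LinearMap.trace ℝ (Fin m → ℝ) (σ g) : ℝ) : ℂ) = (χ : G → ℂ) g) :
    (Nat.card G : ℂ)⁻¹ * ∑ s : G, (χ : G → ℂ) (s * s) = 1 := by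
  classical
  let R : G → Matrix (Fin m) (Fin m) ℝ := fun g => LinearMap.toMatrix' (σ g)
  have hRmul : ∀ g h, R (g * h) = R g * R h := by
    intro g h
    show LinearMap.toMatrix' (σ (g * h)) = LinearMap.toMatrix' (σ g) * LinearMap.toMatrix' (σ h)
    rw [map_mul, ← LinearMap.toMatrix'_mul]
  have hRone : R 1 = 1 := by
    show LinearMap.toMatrix' (σ 1) = 1
    rw [map_one]; exact LinearMap.toMatrix'_one
  let Xc : G → Matrix (Fin m) (Fin m) ℂ := fun g => (R g).map ((↑) : ℝ → ℂ)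
  have hXmul : ∀ g h, Xc (g * h) = Xc g * Xc h := by
    intro g h
    show (R (g * h)).map ((↑) : ℝ → ℂ) = _
    rw [hRmul, map_ofReal_mul]
  have hXone : Xc 1 = 1 := by
    show (R 1).map ((↑) : ℝ → ℂ) = 1
    rw [hRone]
    ext i j
    simp [Matrix.one_apply]
    split_ifs <;> simp
  let ρ' : Representation ℂ G (Fin m → ℂ) :=
    { toFun := fun g => Matrix.toLin' (Xc g)
      map_one' := by
        show Matrix.toLin' (Xc 1) = 1
        rw [hXone, Matrix.toLin'_one]; rfl
      map_mul' := fun g h => by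
        show Matrix.toLin' (Xc (g * h)) = Matrix.toLin' (Xc g) * Matrix.toLin' (Xc h)
        rw [hXmul, Matrix.toLin'_mul]; rfl }
  have hmat : ∀ g, mat ρ' g = Xc g := fun g => LinearMap.toMatrix'_toLin' (Xc g)
  have hchar : ∀ g, ρ'.character g = (χ : G → ℂ) g := by
    intro g
    rw [← trace_mat, hmat, ← hσ g]
    show ((R g).map ((↑) : ℝ → ℂ)).trace = _
    rw [trace_map_ofReal]
    congr 1
    show (LinearMap.toMatrix' (σ g)).trace = _
    rw [LinearMap.trace_eq_matrix_trace ℝ (Pi.basisFun ℝ (Fin m)) (σ g),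
      LinearMap.toMatrix_eq_toMatrix']
  have hind : indicator ρ' = (Nat.card G : ℂ)⁻¹ * ∑ s : G, (χ : G → ℂ) (s * s) := by
    rw [indicator]
    congr 1
    exact Finset.sum_congr rfl fun s _ => hchar (s * s)
  rw [← hind]
  -- m is positive
  have hm : 0 < m := by
    by_contra hcon
    have hm0 : m = 0 := by omega
    subst hm0
    have hz : ∀ g, (χ : G → ℂ) g = 0 := by
      intro g
      rw [← hσ g]
      have : σ g = 0 := Subsingleton.elim _ _
      rw [this, map_zero]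
      simp
    have h1 := Cfsg.Agent.Helper24.classInner_irr_self χ
    rw [classInner] at h1
    simp [hz] at h1
  -- the invariant symmetric form
  let Pr : Matrix (Fin m) (Fin m) ℝ := ∑ g : G, (R g)ᵀ * R g
  let Pc : Matrix (Fin m) (Fin m) ℂ := Pr.map ((↑) : ℝ → ℂ)
  have hPr_inv : ∀ h, (R h)ᵀ * Pr * R h = Pr := by
    intro h
    show (R h)ᵀ * (∑ g : G, (R g)ᵀ * R g) * R h = ∑ g : G, (R g)ᵀ * R g
    rw [Finset.mul_sum, Finset.sum_mul]
    rw [← Equiv.sum_comp (Equiv.mulRight h) (fun g => (R g)ᵀ * R g)]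
    refine Finset.sum_congr rfl fun g _ => ?_
    simp only [Equiv.coe_mulRight, hRmul, Matrix.transpose_mul, Matrix.mul_assoc]
  have hPr_symm : Prᵀ = Pr := by
    show (∑ g : G, (R g)ᵀ * R g)ᵀ = ∑ g : G, (R g)ᵀ * R g
    rw [Matrix.transpose_sum]
    refine Finset.sum_congr rfl fun g _ => ?_
    rw [Matrix.transpose_mul, Matrix.transpose_transpose]
  have hPc_symm : Pcᵀ = Pc := by
    show (Pr.map ((↑) : ℝ → ℂ))ᵀ = Pr.map ((↑) : ℝ → ℂ)
    rw [← Matrix.transpose_map, hPr_symm]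
  have hPc_mem : Pc ∈ Representation.invariants (formRep ρ') := by
    rw [mem_invariants_formRep]
    intro g
    rw [hmat]
    show ((R g).map ((↑) : ℝ → ℂ))ᵀ * Pr.map ((↑) : ℝ → ℂ) * (R g).map ((↑) : ℝ → ℂ) = Pr.map ((↑) : ℝ → ℂ)
    rw [← Matrix.transpose_map, ← map_ofReal_mul, ← map_ofReal_mul, hPr_inv]
  have hPc_ne : Pc ≠ 0 := by
    intro h0
    have h00 : Pr ⟨0, hm⟩ ⟨0, hm⟩ = 0 := by
      have := congrFun (congrFun h0 ⟨0, hm⟩) ⟨0, hm⟩
      simpa [Pc] using this
    have hpos : 0 < Pr ⟨0, hm⟩ ⟨0, hm⟩ := by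
      show 0 < (∑ g : G, (R g)ᵀ * R g) ⟨0, hm⟩ ⟨0, hm⟩
      rw [Matrix.sum_apply]
      have hnn : ∀ g ∈ (Finset.univ : Finset G), 0 ≤ ((R g)ᵀ * R g) ⟨0, hm⟩ ⟨0, hm⟩ := by
        intro g _
        rw [Matrix.mul_apply]
        apply Finset.sum_nonneg
        intro k _
        rw [Matrix.transpose_apply]
        exact mul_self_nonneg _
      have h1 : ((R 1)ᵀ * R 1) ⟨0, hm⟩ ⟨0, hm⟩ = 1 := by
        rw [hRone]; simp
      calc (0 : ℝ) < 1 := one_pos
        _ = ((R 1)ᵀ * R 1) ⟨0, hm⟩ ⟨0, hm⟩ := h1.symm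
        _ ≤ ∑ g : G, ((R g)ᵀ * R g) ⟨0, hm⟩ ⟨0, hm⟩ :=
            Finset.single_le_sum hnn (Finset.mem_univ 1)
    linarith
  -- the space of invariant forms is at most one-dimensional
  have hfr : Module.finrank ℂ (Representation.invariants (formRep ρ')) ≤ 1 := by
    have h1 := finrank_invariants_formRep ρ'
    have hcard : (0 : ℝ) < (Nat.card G : ℝ) := by
      have : 0 < Nat.card G := Nat.card_pos
      exact_mod_cast this
    have h2 : ‖∑ g : G, ρ'.character g * ρ'.character g‖ ≤ (Nat.card G : ℝ) := by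
      have h3 := Cfsg.Agent.Helper24.classInner_irr_self χ
      rw [classInner] at h3
      have h4 : ∑ g : G, (χ : G → ℂ) g * conj ((χ : G → ℂ) g) = (Nat.card G : ℂ) := by
        have hne : (Nat.card G : ℂ) ≠ 0 := by exact_mod_cast hcard.ne'
        field_simp at h3
        exact h3
      have h5 : ∑ g : G, ‖(χ : G → ℂ) g‖ ^ 2 = (Nat.card G : ℝ) := by
        have : ((∑ g : G, ‖(χ : G → ℂ) g‖ ^ 2 : ℝ) : ℂ) = (Nat.card G : ℂ) := by
          rw [← h4]
          push_cast
          refine Finset.sum_congr rfl fun g _ => ?_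
          rw [Complex.mul_conj, Complex.normSq_eq_norm_sq]
          push_cast; rfl
        exact_mod_cast this
      calc ‖∑ g : G, ρ'.character g * ρ'.character g‖
          ≤ ∑ g : G, ‖ρ'.character g * ρ'.character g‖ := norm_sum_le _ _
        _ = ∑ g : G, ‖(χ : G → ℂ) g‖ ^ 2 := by
            refine Finset.sum_congr rfl fun g _ => ?_
            rw [hchar, norm_mul, sq]
        _ = (Nat.card G : ℝ) := h5
    have h6 : ‖(Module.finrank ℂ (Representation.invariants (formRep ρ')) : ℂ)‖ ≤ 1 := by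
      rw [h1, norm_mul, norm_inv, Complex.norm_natCast]
      rw [inv_mul_le_iff₀ hcard, mul_one]
      exact h2
    rw [Complex.norm_natCast] at h6
    exact_mod_cast h6
  have hT := transpose_eq_indicator_smul ρ' hfr hPc_mem
  rw [hPc_symm] at hT
  have h7 : (1 - indicator ρ') • Pc = 0 := by
    rw [sub_smul, one_smul, ← hT, sub_self]
  rcases smul_eq_zero.mp h7 with h8 | h8
  · exact (sub_eq_zero.mp h8).symm
  · exact absurd h8 hPc_ne

end Cfsg.Agent.Helper29.RealRep
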