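import Mathlib

/-!
Piece (M2) for helper6's S2113: an alternating biadditive map on an elementary abelian group of
order 8, invariant under an element of order 7 acting non-trivially, vanishes.
-/

set_option autoImplicit false

namespace Cfsg.Agent.Helper29.ReeM2

/-- iterated conjugation -/
theorem iter_conj {G : Type*} [Group G] (c : G) (j : ℕ) (x : G) :
    (fun y => c * y * c⁻¹)^[j] x = c ^ j * x * (c ^ j)⁻¹ := by
  induction j with
  | zero => simp
  | succ j ih =>
    rw [Function.iterate_succ_apply', ih, pow_succ']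
    group

/-- the combinatorial core: a `7`-periodic symmetric sequence with `F m * F (m+1) = F (m+k)`. -/
theorem seven_cycle {A : Type*} [Group A] (F : ℕ → A) (h0 : F 0 = 1)
    (hper : ∀ j, F (j + 7) = F j) (h61 : F 6 = F 1) (h52 : F 5 = F 2) (h43 : F 4 = F 3) (k : ℕ)
    (hk2 : 2 ≤ k) (hk6 : k ≤ 6) (hrel : ∀ m, F m * F (m + 1) = F (m + k)) : ∀ j, F j = 1 := by
  have h7 : F 7 = 1 := by rw [← h0]; exact hper 0
  have h8 : F 8 = F 1 := hper 1
  have h9 : F 9 = F 2 := hper 2
  have h10 : F 10 = F 3 := hper 3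
  have h11 : F 11 = F 3 := by rw [← h43]; exact hper 4
  have h12 : F 12 = F 2 := by rw [← h52]; exact hper 5
  have h123 : F 1 = 1 ∧ F 2 = 1 ∧ F 3 = 1 := by
    have r0 := hrel 0
    have r1 := hrel 1
    have r2 := hrel 2
    have r3 := hrel 3
    have r6 := hrel 6
    interval_cases k
    · -- k = 2
      simp only [Nat.reduceAdd, h0, one_mul, h43] at r0 r1 r2
      have hb : F 2 = 1 := mul_eq_right.mp r2
      have ha : F 1 = 1 := by rw [r0, hb]
      refine ⟨ha, hb, ?_⟩
      rw [← r1, ha, hb, one_mul]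
    · -- k = 3
      simp only [Nat.reduceAdd, h0, one_mul, h43, h52] at r0 r1 r2
      have hc : F 3 = 1 := mul_eq_left.mp r2
      have ha : F 1 = 1 := by rw [r0, hc]
      refine ⟨ha, ?_, hc⟩
      rw [ha, one_mul] at r1
      rw [r1, hc]
    · -- k = 4
      simp only [Nat.reduceAdd, h0, one_mul, h43, h52, h61] at r0 r1 r2
      have ha : F 1 = 1 := mul_eq_right.mp r1
      have hc : F 3 = 1 := by rw [← r0, ha]
      refine ⟨ha, ?_, hc⟩
      rw [hc, mul_one] at r2
      rw [r2, ha]
    · -- k = 5
      simp only [Nat.reduceAdd, h0, one_mul, h52, h61, h7] at r0 r1 r2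
      have hb : F 2 = 1 := mul_eq_left.mp r1
      have ha : F 1 = 1 := by rw [r0, hb]
      refine ⟨ha, hb, ?_⟩
      rw [hb, one_mul] at r2
      exact r2
    · -- k = 6
      simp only [Nat.reduceAdd, h7, h8, h9, h12, h61, h43, mul_one] at r1 r2 r3 r6
      -- r1 : F 1 * F 2 = 1, r2 : F 2 * F 3 = F 1, r3 : F 3 * F 3 = F 2, r6 : F 1 = F 2
      rw [r6] at r2
      have hc : F 3 = 1 := mul_eq_left.mp r2
      have hb : F 2 = 1 := by rw [← r3, hc, one_mul]
      exact ⟨by rw [r6, hb], hb, hc⟩
  obtain ⟨h1, h2, h3⟩ := h123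
  have hmod : ∀ j, F j = F (j % 7) := by
    intro j
    induction j using Nat.strong_induction_on with
    | _ j ih =>
      by_cases hj : j < 7
      · rw [Nat.mod_eq_of_lt hj]
      · have hj' : j = (j - 7) + 7 := by omega
        rw [hj', hper, ih (j - 7) (by omega), Nat.add_mod_right]
  intro j
  rw [hmod j]
  have hlt : j % 7 < 7 := Nat.mod_lt _ (by norm_num)
  interval_cases (j % 7)
  · exact h0
  · exact h1
  · exact h2
  · exact h3
  · rw [h43]; exact h3
  · rw [h52]; exact h2
  · rw [h61]; exact h1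


/-- an alternating biadditive map on an elementary abelian group `S` of order 8, invariant under
conjugation by `c` (`c^7 = 1`, `c` normalises `S` and moves some element of `S`), vanishes on `S`. -/
theorem seven_vanish {G A : Type*} [Group G] [Group A] (S : Subgroup G) (hS : Nat.card S = 8)
    (hexp : ∀ x ∈ S, x * x = 1) (c : G) (hc : ∀ x ∈ S, c * x * c⁻¹ ∈ S) (hc7 : c ^ 7 = 1)
    (hmove : ∃ x ∈ S, c * x * c⁻¹ ≠ x)
    (β : G → G → A)
    (hcomm : ∀ x y x' y' : G, Commute (β x y) (β x' y'))
    (hl : ∀ x ∈ S, ∀ x' ∈ S, ∀ y ∈ S, β (x * x') y = β x y * β x' y)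
    (hr : ∀ x ∈ S, ∀ y ∈ S, ∀ y' ∈ S, β x (y * y') = β x y * β x y')
    (halt : ∀ x ∈ S, β x x = 1)
    (hinv : ∀ x ∈ S, ∀ y ∈ S, β (c * x * c⁻¹) (c * y * c⁻¹) = β x y) :
    ∀ x ∈ S, ∀ y ∈ S, β x y = 1 := by
  classical
  obtain ⟨e, heS, hmove⟩ := hmove
  obtain ⟨f, hf⟩ : ∃ f : G → G, f = fun y => c * y * c⁻¹ := ⟨_, rfl⟩
  have hfa : ∀ x, f x = c * x * c⁻¹ := fun x => by rw [hf]
  have hfit : ∀ j x, f^[j] x = c ^ j * x * (c ^ j)⁻¹ := by
    intro j x
    rw [hf]
    exact iter_conj c j x
  have hfS : ∀ j x, x ∈ S → f^[j] x ∈ S := by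
    intro j
    induction j with
    | zero => intro x hx; exact hx
    | succ j ih =>
      intro x hx
      rw [Function.iterate_succ_apply', hfa]
      exact hc _ (ih x hx)
  have hfmul : ∀ j x y, f^[j] (x * y) = f^[j] x * f^[j] y := by
    intro j x y
    rw [hfit, hfit, hfit]
    group
  have hf7 : ∀ x, f^[7] x = x := by
    intro x
    rw [hfit, hc7]
    group
  have hfone : ∀ j, f^[j] 1 = 1 := by
    intro j
    rw [hfit]
    group
  have hfinj : ∀ j, Function.Injective (f^[j]) := by
    intro j x y hxy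
    rw [hfit, hfit] at hxy
    exact mul_left_cancel (mul_right_cancel hxy)
  have hfβ : ∀ j, ∀ x ∈ S, ∀ y ∈ S, β (f^[j] x) (f^[j] y) = β x y := by
    intro j
    induction j with
    | zero => intro x _ y _; rfl
    | succ j ih =>
      intro x hx y hy
      rw [Function.iterate_succ_apply', Function.iterate_succ_apply', hfa, hfa,
        hinv _ (hfS j x hx) _ (hfS j y hy)]
      exact ih x hx y hy
  -- facts on `β`
  have h1S : (1 : G) ∈ S := S.one_mem
  have hβ1l : ∀ y ∈ S, β 1 y = 1 := by
    intro y hy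
    have := hl 1 h1S 1 h1S y hy
    rw [mul_one] at this
    exact (mul_eq_left.mp this.symm)
  have hβ1r : ∀ x ∈ S, β x 1 = 1 := by
    intro x hx
    have := hr x hx 1 h1S 1 h1S
    rw [mul_one] at this
    exact (mul_eq_left.mp this.symm)
  have hβsq : ∀ x ∈ S, ∀ y ∈ S, β x y * β x y = 1 := by
    intro x hx y hy
    rw [← hl x hx x hx y hy, hexp x hx, hβ1l y hy]
  have hβsymm : ∀ x ∈ S, ∀ y ∈ S, β y x = β x y := by
    intro x hx y hy
    have hxy : x * y ∈ S := S.mul_mem hx hy
    have h1 := halt (x * y) hxy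
    rw [hl x hx y hy (x * y) hxy, hr x hx x hx y hy, hr y hy x hx y hy, halt x hx, halt y hy,
      one_mul, mul_one] at h1
    -- h1 : β x y * β y x = 1
    have h2 := hβsq x hx y hy
    exact mul_left_cancel (h1.trans h2.symm)
  -- the orbit of `e`
  have hfe : f e ≠ e := by rw [hfa]; exact hmove
  have he1 : e ≠ 1 := by
    intro h
    apply hfe
    rw [h]
    exact hfone 1
  have hminper : Function.minimalPeriod f e = 7 := by
    have hdvd : Function.minimalPeriod f e ∣ 7 :=
      Function.IsPeriodicPt.minimalPeriod_dvd (hf7 e)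
    rcases (Nat.dvd_prime (by norm_num : Nat.Prime 7)).mp hdvd with h | h
    · exact absurd (Function.minimalPeriod_eq_one_iff_isFixedPt.mp h) hfe
    · exact h
  have hinj : ∀ i < 7, ∀ j < 7, f^[i] e = f^[j] e → i = j := by
    intro i hi j hj h
    exact (Function.iterate_eq_iterate_iff_of_lt_minimalPeriod (by rw [hminper]; exact hi)
      (by rw [hminper]; exact hj)).mp h
  haveI : Finite S := Nat.finite_of_card_ne_zero (by rw [hS]; norm_num)
  have horb : ∀ y ∈ S, y = 1 ∨ ∃ j < 7, y = f^[j] e := by
    obtain ⟨g, hg⟩ : ∃ g : Option (Fin 7) → S, g = fun o =>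
        match o with
        | none => 1
        | some j => ⟨f^[j.1] e, hfS j.1 e heS⟩ := ⟨_, rfl⟩
    have hginj : Function.Injective g := by
      intro a b hab
      rw [hg] at hab
      rcases a with _ | a <;> rcases b with _ | b
      · rfl
      · exfalso
        have h := congrArg Subtype.val hab
        simp only [Subgroup.coe_one] at h
        apply he1
        apply hfinj b.1
        rw [hfone]
        exact h.symm
      · exfalso
        have h := congrArg Subtype.val hab
        simp only [Subgroup.coe_one] at h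
        apply he1
        apply hfinj a.1
        rw [hfone]
        exact h
      · have h := congrArg Subtype.val hab
        simp only at h
        have := hinj a.1 a.2 b.1 b.2 h
        rw [Fin.ext this]
    have hgbij : Function.Bijective g := by
      apply hginj.bijective_of_nat_card_le
      rw [hS, Nat.card_eq_fintype_card, Fintype.card_option, Fintype.card_fin]
    intro y hy
    obtain ⟨o, ho⟩ := hgbij.2 ⟨y, hy⟩
    rw [hg] at ho
    rcases o with _ | j
    · left
      have h := congrArg Subtype.val ho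
      simpa using h.symm
    · right
      refine ⟨j.1, j.2, ?_⟩
      have h := congrArg Subtype.val ho
      simpa using h.symm
  -- the sequence `F j = β e (σ^j e)`
  obtain ⟨F, hF⟩ : ∃ F : ℕ → A, F = fun j => β e (f^[j] e) := ⟨_, rfl⟩
  have hFa : ∀ j, F j = β e (f^[j] e) := fun j => by rw [hF]
  have hF0 : F 0 = 1 := by rw [hFa]; exact halt e heS
  have hFper : ∀ j, F (j + 7) = F j := by
    intro j
    rw [hFa, hFa, Function.iterate_add_apply, hf7]
  have hFsym : ∀ i j, i + j = 7 → F i = F j := by
    intro i j hij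
    rw [hFa, hFa, ← hfβ j e heS _ (hfS i e heS), ← Function.iterate_add_apply, add_comm j i, hij,
      hf7]
    exact hβsymm _ heS _ (hfS j e heS)
  -- the relation
  have hefe : e * f e ∈ S := S.mul_mem heS (by rw [hfa]; exact hc e heS)
  have hefe1 : e * f e ≠ 1 := by
    intro h
    apply hfe
    have h2 := hexp e heS
    exact mul_left_cancel (h.trans h2.symm)
  obtain ⟨k, hk7, hk⟩ : ∃ k < 7, e * f e = f^[k] e := by
    rcases horb _ hefe with h | h
    · exact absurd h hefe1
    · exact h
  have hk0 : k ≠ 0 := by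
    intro h
    rw [h] at hk
    simp only [Function.iterate_zero, id_eq] at hk
    have : f e = 1 := mul_eq_left.mp hk
    apply he1
    apply hfinj 1
    rw [hfone]
    exact this
  have hk1 : k ≠ 1 := by
    intro h
    rw [h] at hk
    simp only [Function.iterate_one] at hk
    exact he1 (mul_eq_right.mp hk)
  have hFrel : ∀ m, F m * F (m + 1) = F (m + k) := by
    intro m
    rw [hFa, hFa, hFa, ← hr e heS _ (hfS m e heS) _ (hfS (m + 1) e heS),
      Function.iterate_add_apply f m k e, ← hk, hfmul, ← Function.iterate_succ_apply]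
  have hFall := seven_cycle F hF0 hFper (hFsym 6 1 rfl) (hFsym 5 2 rfl) (hFsym 4 3 rfl) k
    (by omega) (by omega) hFrel
  -- conclusion
  intro x hx y hy
  rcases horb x hx with rfl | ⟨i, _, rfl⟩
  · exact hβ1l y hy
  rcases horb y hy with rfl | ⟨j, _, rfl⟩
  · exact hβ1r _ hx
  rcases le_total i j with hij | hij
  · obtain ⟨d, rfl⟩ := Nat.exists_eq_add_of_le hij
    rw [Function.iterate_add_apply f i d e, hfβ i e heS _ (hfS d e heS), ← hFa]
    exact hFall d
  · obtain ⟨d, rfl⟩ := Nat.exists_eq_add_of_le hij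
    rw [Function.iterate_add_apply f j d e, hfβ j _ (hfS d e heS) e heS,
      hβsymm e heS _ (hfS d e heS), ← hFa]
    exact hFall d

end Cfsg.Agent.Helper29.ReeM2
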