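import Mathlib
import Cfsg.Prelude.Def_RootSubgroups
import Cfsg.Agent.Helper25.RootBasic
import Cfsg.Agent.S5029
import Cfsg.Agent.S5036
import Cfsg.Agent.S5038

set_option autoImplicit false

/-! # Conjugation-invariant preorders on a class of abstract root subgroups (Timmesfeld II (2.21))

Key lemma `lemmaK`: if `R` is a conjugation-invariant transitive relation on subgroups such that
`R X Y` excludes that `(X, Y)` is a rank one pair, `A`, `C` commute, `B` is a rank one partner of both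
and `R A C`, then `R C A`. -/

namespace Cfsg.Agent.Helper29.RootOrder

open Cfsg Cfsg.Agent.Helper25

variable {G : Type*} [Group G]

/-- a rank one pair does not commute elementwise -/
theorem rankOne_not_commute {A B : Subgroup G} (h : IsRankOnePair A B)
    (hcomm : ∀ x ∈ A, ∀ y ∈ B, x * y = y * x) : False :=
  rankOne_unipotent_not_commute h (rankOne_left_mem_unipotent A B)
    (rankOne_right_mem_unipotent h) h.ne hcomm

/-- elementwise commuting is invariant under conjugation -/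
theorem comm_conjBy {X Y : Subgroup G} (h : ∀ x ∈ X, ∀ y ∈ Y, x * y = y * x) (g : G) :
    ∀ x ∈ conjBy X g, ∀ y ∈ conjBy Y g, x * y = y * x := by
  intro x hx y hy
  rw [mem_conjBy_iff] at hx hy
  have h1 := h _ hx _ hy
  have e1 : x * y = g * ((g⁻¹ * x * g) * (g⁻¹ * y * g)) * g⁻¹ := by group
  have e2 : y * x = g * ((g⁻¹ * y * g) * (g⁻¹ * x * g)) * g⁻¹ := by group
  rw [e1, e2, h1]

theorem le_centralizer_iff_comm {X Y : Subgroup G} :
    X ≤ Subgroup.centralizer (Y : Set G) ↔ ∀ x ∈ X, ∀ y ∈ Y, x * y = y * x := by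
  constructor
  · intro h x hx y hy
    exact (Subgroup.mem_centralizer_iff.mp (h hx) y hy).symm
  · intro h x hx
    rw [Subgroup.mem_centralizer_iff]
    intro y hy
    exact (h x hx y hy).symm

theorem conjBy_inv_conjBy (X : Subgroup G) (g : G) : conjBy (conjBy X g) g⁻¹ = X := by
  rw [conjBy_conjBy]; simp [conjBy_one]

theorem conjBy_conjBy_inv (X : Subgroup G) (g : G) : conjBy (conjBy X g⁻¹) g = X := by
  rw [conjBy_conjBy]; simp [conjBy_one]

/-- **Lemma K.** -/
theorem lemmaK {S : Set (Subgroup G)} (hS : IsRootSubgroupSet S)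
    (R : Subgroup G → Subgroup G → Prop)
    (htrans : ∀ X Y Z : Subgroup G, R X Y → R Y Z → R X Z)
    (hconj : ∀ (X Y : Subgroup G) (g : G), R X Y → R (conjBy X g) (conjBy Y g))
    (hno : ∀ X ∈ S, ∀ Y ∈ S, R X Y → ¬ IsRankOnePair X Y)
    {A B C : Subgroup G} (hB : B ∈ S)
    (hcomm : ∀ x ∈ A, ∀ y ∈ C, x * y = y * x)
    (hAB : IsRankOnePair A B) (hCB : IsRankOnePair C B)
    (hAC : R A C) : R C A := by
  obtain ⟨a, ha, ha1⟩ := rankOne_exists_ne_one hAB
  have step : ∀ a ∈ A, a ≠ 1 → ∃ c ∈ C, c ≠ 1 ∧ ∃ b ∈ B, conjBy A b⁻¹ = conjBy B a⁻¹ ∧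
      conjBy B c⁻¹ = conjBy C b⁻¹ ∧ R B (conjBy B (a * c⁻¹)) := by
    intro a ha ha1
    obtain ⟨b, hb, hb1, hab⟩ := hAB.cond_left a ha ha1
    obtain ⟨c, hc, hc1, hbc⟩ := hCB.cond_right b hb hb1
    refine ⟨c, hc, hc1, b, hb, hab, hbc, ?_⟩
    have h1 := hconj _ _ b⁻¹ hAC
    rw [hab, ← hbc] at h1
    have h2 := hconj _ _ a h1
    rw [conjBy_conjBy_inv, conjBy_conjBy] at h2
    exact h2
  obtain ⟨c, hc, hc1, b, hb, hab, hbc, hR1⟩ := step a ha ha1
  have hainv1 : a⁻¹ ≠ 1 := inv_ne_one.mpr ha1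
  obtain ⟨c', hc', hc'1, b', hb', hab', hbc', hR2⟩ := step a⁻¹ (A.inv_mem ha) hainv1
  have hac : a * c⁻¹ = c⁻¹ * a := hcomm a ha c⁻¹ (C.inv_mem hc)
  have h3 := hconj _ _ (a * c⁻¹) hR2
  rw [conjBy_conjBy] at h3
  have h4 := htrans _ _ _ hR1 h3
  have hprod : a * c⁻¹ * (a⁻¹ * c'⁻¹) = c⁻¹ * c'⁻¹ := by
    rw [hac]; group
  rw [hprod] at h4
  by_cases hc0 : c⁻¹ * c'⁻¹ = 1
  · have hc'eq : c'⁻¹ = c := by
      have := eq_inv_of_mul_eq_one_right hc0
      simpa using this
    rw [hc'eq] at hR2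
    have h5 := hconj _ _ (a * c⁻¹) hR2
    rw [conjBy_conjBy] at h5
    have hprod2 : a * c⁻¹ * (a⁻¹ * c) = 1 := by
      rw [hac]; group
    rw [hprod2, conjBy_one] at h5
    have h6 := hconj _ _ a⁻¹ h5
    rw [conjBy_conjBy] at h6
    have e3 : a⁻¹ * (a * c⁻¹) = c⁻¹ := by group
    rw [e3, hbc, ← hab] at h6
    have h7 := hconj _ _ b h6
    rw [conjBy_conjBy_inv, conjBy_conjBy_inv] at h7
    exact h7
  · exfalso
    have hc₀C : c⁻¹ * c'⁻¹ ∈ C := C.mul_mem (C.inv_mem hc) (C.inv_mem hc')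
    have hc₀inv : (c⁻¹ * c'⁻¹)⁻¹ ∈ C := C.inv_mem hc₀C
    have hc₀inv1 : (c⁻¹ * c'⁻¹)⁻¹ ≠ 1 := inv_ne_one.mpr hc0
    obtain ⟨b₁, hb₁, hb₁1, h8⟩ := hCB.cond_left _ hc₀inv hc₀inv1
    rw [inv_inv] at h8
    have hpair : IsRankOnePair B (conjBy B (c⁻¹ * c'⁻¹)) := by
      rw [← h8]
      have := rankOnePair_conjBy (RankOnePair_symm hCB) b₁⁻¹
      rwa [conjBy_eq_self_of_mem (B.inv_mem hb₁)] at this
    exact hno B hB _ (hS.conj_mem B hB _) h4 hpair

/-! ### The two relations -/

section rel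

variable {S : Set (Subgroup G)}

theorem mem_centralizingMembers_iff {X F : Subgroup G} :
    F ∈ centralizingMembers S X ↔ F ∈ S ∧ ∀ x ∈ F, ∀ y ∈ X, x * y = y * x := by
  unfold centralizingMembers
  rw [Set.mem_ofPred_eq, le_centralizer_iff_comm]

theorem centralizing_conj (hS : IsRootSubgroupSet S) (X Y : Subgroup G) (g : G)
    (h : centralizingMembers S X ⊆ centralizingMembers S Y) :
    centralizingMembers S (conjBy X g) ⊆ centralizingMembers S (conjBy Y g) := by
  intro F hF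
  rw [mem_centralizingMembers_iff] at hF ⊢
  obtain ⟨hFS, hFc⟩ := hF
  refine ⟨hFS, ?_⟩
  have h1 : conjBy F g⁻¹ ∈ centralizingMembers S X := by
    rw [mem_centralizingMembers_iff]
    refine ⟨hS.conj_mem F hFS g⁻¹, ?_⟩
    have := comm_conjBy hFc g⁻¹
    rwa [conjBy_inv_conjBy] at this
  have h2 := h h1
  rw [mem_centralizingMembers_iff] at h2
  have h3 := comm_conjBy h2.2 g
  rwa [conjBy_conjBy_inv] at h3

theorem rankOne_conj (hS : IsRootSubgroupSet S) (X Y : Subgroup G) (g : G)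
    (h : rankOnePartners S X ⊆ rankOnePartners S Y) :
    rankOnePartners S (conjBy X g) ⊆ rankOnePartners S (conjBy Y g) := by
  intro F hF
  obtain ⟨hFS, hFp⟩ := hF
  have h1 : conjBy F g⁻¹ ∈ rankOnePartners S X := by
    refine ⟨hS.conj_mem F hFS g⁻¹, ?_⟩
    have := rankOnePair_conjBy hFp g⁻¹
    rwa [conjBy_inv_conjBy] at this
  have h2 := h h1
  refine ⟨hFS, ?_⟩
  have h3 := rankOnePair_conjBy h2.2 g
  rwa [conjBy_conjBy_inv] at h3

/-- every member has a rank one partner, in a class containing a rank one pair -/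
theorem exists_partner (hS : IsRootSubgroupClass S)
    (hR : ∃ A₀ ∈ S, ∃ B₀ ∈ S, IsRankOnePair A₀ B₀) {C : Subgroup G} (hC : C ∈ S) :
    ∃ B ∈ S, IsRankOnePair C B := by
  obtain ⟨A₀, hA₀, B₀, hB₀, hp⟩ := hR
  obtain ⟨g, rfl⟩ := hS.2.2 A₀ hA₀ C hC
  exact ⟨conjBy B₀ g, hS.1.conj_mem B₀ hB₀ g, rankOnePair_conjBy hp g⟩

theorem not_isolated (hS : IsRootSubgroupClass S)
    (hR : ∃ A₀ ∈ S, ∃ B₀ ∈ S, IsRankOnePair A₀ B₀) {C : Subgroup G} (hC : C ∈ S) :
    ¬ IsIsolatedIn (FAdj S) S C := by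
  obtain ⟨B, hB, hp⟩ := exists_partner hS hR hC
  intro hiso
  exact (hiso.2 B).1 ⟨hC, hB, hp⟩

/-- Part (1). -/
theorem part_one (hS : IsRootSubgroupClass S)
    (hdn : IsDegenerateRootSet S ∨ IsNondegenerateRootSet S)
    {A C : Subgroup G} (hA : A ∈ S) (hC : C ∈ S)
    (hsub : centralizingMembers S A ⊆ centralizingMembers S C) :
    centralizingMembers S A = centralizingMembers S C := by
  have hS' := hS.1
  apply Set.Subset.antisymm hsub
  -- `A` and `C` commute
  have hAA : A ∈ centralizingMembers S A := by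
    rw [mem_centralizingMembers_iff]
    exact ⟨hA, fun x hx y hy => root_comm_of_mem hS' hA hx hy⟩
  have hcomm : ∀ x ∈ A, ∀ y ∈ C, x * y = y * x := (mem_centralizingMembers_iff.mp (hsub hAA)).2
  by_cases hR : ∃ A₀ ∈ S, ∃ B₀ ∈ S, IsRankOnePair A₀ B₀
  · obtain ⟨B, hB, hCB⟩ := exists_partner hS hR hC
    have hAB : IsRankOnePair A B := by
      rcases hS'.pair A hA B hB with h0 | h1 | h2
      · exfalso
        have hBA : B ∈ centralizingMembers S A := by
          rw [mem_centralizingMembers_iff]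
          refine ⟨hB, fun x hx y hy => ?_⟩
          exact ((root_commutator_eq_bot_iff.mp h0) y hy x hx).symm
        have hBC := (mem_centralizingMembers_iff.mp (hsub hBA)).2
        exact rankOne_not_commute hCB (fun x hx y hy => (hBC y hy x hx).symm)
      · exact h1
      · exfalso
        -- commutator case
        have hN : ⁅A, B⁆ ∈ centralizingMembers S A := by
          rw [mem_centralizingMembers_iff]
          exact ⟨h2.1, fun x hx y hy => h2.2.1 x hx y (Subgroup.mem_sup_left hy)⟩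
        have hNC := (mem_centralizingMembers_iff.mp (hsub hN)).2
        obtain ⟨b, hb, hb1⟩ := rankOne_exists_ne_one (RankOnePair_symm hCB)
        -- `conjBy C b⁻¹` commutes with `A`
        have h3 : conjBy C b⁻¹ ∈ centralizingMembers S A := by
          rw [mem_centralizingMembers_iff]
          refine ⟨hS'.conj_mem C hC b⁻¹, ?_⟩
          intro x hx a ha
          rw [mem_conjBy_iff, inv_inv] at hx
          -- y := b x b⁻¹ ∈ C
          have hcomm1 : b * a * b⁻¹ * a⁻¹ ∈ ⁅A, B⁆ := by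
            rw [Subgroup.commutator_comm]
            exact Subgroup.commutator_mem_commutator hb ha
          have e1 := hNC _ hcomm1 _ hx
          have e2 := hcomm a ha _ hx
          -- (b x b⁻¹) commutes with (b a b⁻¹ a⁻¹) * a = b a b⁻¹
          have e3 : (b * x * b⁻¹) * ((b * a * b⁻¹ * a⁻¹) * a) =
              ((b * a * b⁻¹ * a⁻¹) * a) * (b * x * b⁻¹) := by
            generalize b * x * b⁻¹ = y at e1 e2 ⊢
            generalize b * a * b⁻¹ * a⁻¹ = n at e1 ⊢
            calc y * (n * a) = (y * n) * a := by rw [mul_assoc]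
              _ = (n * y) * a := by rw [e1]
              _ = n * (y * a) := by rw [mul_assoc]
              _ = n * (a * y) := by rw [e2]
              _ = (n * a) * y := by rw [mul_assoc]
          have e4 : x * a = b⁻¹ * ((b * x * b⁻¹) * ((b * a * b⁻¹ * a⁻¹) * a)) * b := by group
          have e5 : a * x = b⁻¹ * (((b * a * b⁻¹ * a⁻¹) * a) * (b * x * b⁻¹)) * b := by group
          rw [e4, e5, e3]
        have h4 := (mem_centralizingMembers_iff.mp (hsub h3)).2
        obtain ⟨c, hc, hc1, hbc⟩ := hCB.cond_right b hb hb1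
        have hpair : IsRankOnePair C (conjBy C b⁻¹) := by
          rw [← hbc]
          have := rankOnePair_conjBy hCB c⁻¹
          rwa [conjBy_eq_self_of_mem (C.inv_mem hc)] at this
        exact rankOne_not_commute hpair (fun x hx y hy => (h4 y hy x hx).symm)
    exact lemmaK hS' (fun X Y => centralizingMembers S X ⊆ centralizingMembers S Y)
      (fun X Y Z h1 h2 => h1.trans h2) (centralizing_conj hS')
      (fun X hX Y hY h hp => by
        have hXX : X ∈ centralizingMembers S X := by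
          rw [mem_centralizingMembers_iff]
          exact ⟨hX, fun x hx y hy => root_comm_of_mem hS' hX hx hy⟩
        exact rankOne_not_commute hp (mem_centralizingMembers_iff.mp (h hXX)).2)
      hB hcomm hAB hCB hsub
  · -- no rank one pairs at all
    rcases hdn with hdeg | hnd
    · intro F hF
      rw [mem_centralizingMembers_iff] at hF ⊢
      refine ⟨hF.1, ?_⟩
      rcases hS'.pair A hA F hF.1 with h0 | h1 | h2
      · exact fun x hx y hy => ((root_commutator_eq_bot_iff.mp h0) y hy x hx).symm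
      · exact absurd ⟨A, hA, F, hF.1, h1⟩ hR
      · exact absurd h2 (hdeg A hA F hF.1)
    · exact absurd hnd.2.1 hR

/-- Part (2). -/
theorem part_two (hS : IsRootSubgroupClass S)
    (hdn : IsDegenerateRootSet S ∨ IsNondegenerateRootSet S)
    {A C : Subgroup G} (hA : A ∈ S) (hC : C ∈ S)
    (hsub : rankOnePartners S A ⊆ rankOnePartners S C) :
    ⁅A, C⁆ = ⊥ ∧ rankOnePartners S A = rankOnePartners S C := by
  have hS' := hS.1
  have hbot : ⁅A, C⁆ = ⊥ := by
    rcases hS'.pair A hA C hC with h0 | h1 | h2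
    · exact h0
    · exfalso
      have : C ∈ rankOnePartners S C := hsub ⟨hC, h1⟩
      exact this.2.ne rfl
    · exfalso
      rcases hdn with hdeg | hnd
      · exact hdeg A hA C hC h2
      · have hR : ∃ A₀ ∈ S, ∃ B₀ ∈ S, IsRankOnePair A₀ B₀ := hnd.2.1
        have hF : ∀ E ∈ S, ¬ IsIsolatedIn (FAdj S) S E := fun E hE => not_isolated hS hR hE
        have hNeq : ⁅C, A⁆ = ⁅A, C⁆ := Subgroup.commutator_comm C A
        have hN : ⁅C, A⁆ ∈ S := by rw [hNeq]; exact h2.1
        have hline := (Cfsg.Agent.S5029.result hS' (hF C hC) hC hA hN).2.2.1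
        have hNC : ⁅C, A⁆ ≠ C := by
          intro he
          have hcommAC : ∀ x ∈ A, ∀ y ∈ C, x * y = y * x := by
            intro x hx y hy
            have hy' : y ∈ ⁅A, C⁆ := by rw [← hNeq, he]; exact hy
            exact (h2.2.1 y hy' x (Subgroup.mem_sup_left hx)).symm
          have := root_commutator_eq_bot_iff.mpr hcommAC
          exact hS'.ne_bot _ h2.1 this
        have hm1 : ⁅C, A⁆ ∈ membersIn S (⁅C, A⁆ ⊔ C) := ⟨hN, le_sup_left⟩
        have hm2 : C ∈ membersIn S (⁅C, A⁆ ⊔ C) := ⟨hC, le_sup_right⟩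
        obtain ⟨x, -, hx1, hx2⟩ := Cfsg.Agent.S5038.result hS' hF hN hline _ hm1 _ hm2 _ hm2 _ hm1
          hNC hNC.symm
        -- `D := conjBy A x`
        have hD : conjBy A x ∈ S := hS'.conj_mem A hA x
        have hDN : ⁅conjBy A x, ⁅C, A⁆⁆ = C := by
          have e1 : ⁅conjBy A x, conjBy C x⁆ = conjBy ⁅A, C⁆ x :=
            (Subgroup.map_commutator A C (MulAut.conj x).toMonoidHom).symm
          rw [← hx2, e1, ← hNeq, hx1]
        have hAD := (Cfsg.Agent.S5036.result hS' hC hA hN hD hDN).1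
        have hCD : IsRankOnePair C (conjBy A x) := (hsub ⟨hD, hAD⟩).2
        -- but `C = conjBy ⁅C,A⁆ x` commutes with `conjBy A x`
        have hcomm0 : ∀ n ∈ ⁅C, A⁆, ∀ a ∈ A, n * a = a * n := by
          intro n hn a ha
          rw [hNeq] at hn
          exact h2.2.1 n hn a (Subgroup.mem_sup_left ha)
        have hcomm1 := comm_conjBy hcomm0 x
        rw [hx1] at hcomm1
        exact rankOne_not_commute hCD hcomm1
  refine ⟨hbot, ?_⟩
  apply Set.Subset.antisymm hsub
  by_cases hne : ∃ B ∈ S, IsRankOnePair A B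
  · obtain ⟨B, hB, hAB⟩ := hne
    have hCB : IsRankOnePair C B := (hsub ⟨hB, hAB⟩).2
    exact lemmaK hS' (fun X Y => rankOnePartners S X ⊆ rankOnePartners S Y)
      (fun X Y Z h1 h2 => h1.trans h2) (rankOne_conj hS')
      (fun X hX Y hY h hp => by
        have : Y ∈ rankOnePartners S Y := h ⟨hY, hp⟩
        exact this.2.ne rfl)
      hB (root_commutator_eq_bot_iff.mp hbot) hAB hCB hsub
  · intro F hF
    exfalso
    apply hne
    obtain ⟨g, hg⟩ := hS.2.2 C hC A hA
    refine ⟨conjBy F g, hS'.conj_mem F hF.1 g, ?_⟩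
    rw [hg]
    exact rankOnePair_conjBy hF.2 g

end rel

end Cfsg.Agent.Helper29.RootOrder
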