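import Mathlib

set_option autoImplicit false
set_option linter.unusedSectionVars false
set_option linter.unusedVariables false
set_option linter.style.haveILetI false

/-! # S0679 step (1), parity: for `G ≤ A_11` (degree 11) the normaliser of a Sylow 11-subgroup of
order 11 has odd order.  (An involution normalising `⟨c⟩`, `c` an 11-cycle, is `x ↦ b - x` in the
coordinates `α ≃ ZMod 11` given by `c`: one fixed point, five transpositions, odd.) -/

namespace Cfsg.Agent.S0679P

open Equiv Equiv.Perm

variable {α : Type*} [Fintype α] [DecidableEq α]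

/-- A permutation of order `p` on `p` points is conjugate to the translation by one on `ZMod p`
(copy of helper4's `BurnsidePrime.exists_equiv_zmod`, Mathlib only). -/
theorem NODD.exists_equiv_zmod {p : ℕ} [Fact p.Prime] (hα : Fintype.card α = p) (τ : Equiv.Perm α)
    (hτ : orderOf τ = p) : ∃ e : α ≃ ZMod p, ∀ x, e (τ x) = e x + 1 := by
  have hp : p.Prime := Fact.out
  haveI : NeZero p := ⟨hp.ne_zero⟩
  have hcyc : τ.IsCycle := by
    apply Equiv.Perm.isCycle_of_prime_order'
    · rw [hτ]; exact hp
    · rw [hτ, hα]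
      have := hp.pos
      omega
  have hsupp : τ.support = Finset.univ := by
    apply Finset.eq_univ_of_card
    rw [← hcyc.orderOf, hτ, hα]
  have hmove : ∀ x, τ x ≠ x := by
    intro x
    rw [← Equiv.Perm.mem_support, hsupp]
    exact Finset.mem_univ x
  obtain ⟨a0⟩ : Nonempty α := by
    rw [← Fintype.card_pos_iff, hα]
    exact hp.pos
  let ι : ZMod p → α := fun j => (τ ^ j.val) a0
  have hpow : ∀ n : ℕ, τ ^ (n % p) = τ ^ n := by
    intro n
    rw [← hτ]
    exact pow_mod_orderOf τ n
  have hsurj : Function.Surjective ι := by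
    intro y
    obtain ⟨i, hi⟩ := hcyc.exists_pow_eq (hmove a0) (hmove y)
    refine ⟨(i : ZMod p), ?_⟩
    change (τ ^ ((i : ZMod p)).val) a0 = y
    rw [ZMod.val_natCast, hpow, hi]
  have hbij : Function.Bijective ι := by
    rw [Fintype.bijective_iff_surjective_and_card]
    exact ⟨hsurj, by rw [ZMod.card, hα]⟩
  have hstep : ∀ j : ZMod p, ι (j + 1) = τ (ι j) := by
    intro j
    change (τ ^ (j + 1).val) a0 = τ ((τ ^ j.val) a0)
    rw [ZMod.val_add, hpow, pow_add, Equiv.Perm.mul_apply]
    have h1 : (1 : ZMod p).val = 1 := by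
      haveI : Fact (1 < p) := ⟨hp.one_lt⟩
      exact ZMod.val_one p
    rw [h1, pow_one]
    have : ∀ m : ℕ, (τ ^ m) (τ a0) = τ ((τ ^ m) a0) := by
      intro m
      rw [← Equiv.Perm.mul_apply, ← Equiv.Perm.mul_apply, ← pow_succ, ← pow_succ']
    exact this _
  refine ⟨(Equiv.ofBijective ι hbij).symm, fun x => ?_⟩
  obtain ⟨j, rfl⟩ := hsurj x
  rw [← hstep]
  have h2 : ∀ k, (Equiv.ofBijective ι hbij).symm (ι k) = k := by
    intro k
    exact (Equiv.ofBijective ι hbij).symm_apply_apply k
  rw [h2, h2]

/-- The sign of an involution. -/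
theorem NODD.sign_of_orderOf_two {γ : Perm α} (h2 : orderOf γ = 2) :
    Perm.sign γ = (-1) ^ (γ.support.card / 2) := by
  haveI : Fact (Nat.Prime 2) := ⟨Nat.prime_two⟩
  obtain ⟨n, hn⟩ := Equiv.Perm.cycleType_prime_order (σ := γ) (by rw [h2]; exact Nat.prime_two)
  rw [h2] at hn
  have hs : γ.support.card = 2 * (n + 1) := by
    rw [← Equiv.Perm.sum_cycleType, hn, Multiset.sum_replicate, smul_eq_mul, mul_comm]
  rw [Equiv.Perm.sign_of_cycleType, hn, hs, Multiset.sum_replicate, Multiset.card_replicate]
  have : 2 * (n + 1) / 2 = n + 1 := by omega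
  rw [this, smul_eq_mul, add_comm, pow_add, mul_comm (n + 1) 2, pow_mul]
  norm_num

theorem NODD.six_two : (6 : ZMod 11) * 2 = 1 := by decide

theorem NODD.twelve : (12 : ZMod 11) = 1 := by decide

/-- The key computation on `ZMod 11`. -/
theorem NODD.key {γ τ : Perm α} (h11 : Fintype.card α = 11) (hτ : orderOf τ = 11)
    (hγ : orderOf γ = 2) {k : ℕ} (hk : γ * τ * γ⁻¹ = τ ^ k) : Perm.sign γ = -1 := by
  haveI : Fact (Nat.Prime 11) := ⟨by norm_num⟩
  obtain ⟨e, he⟩ := NODD.exists_equiv_zmod h11 τ hτ
  have hepow : ∀ (m : ℕ) (x : α), e ((τ ^ m) x) = e x + m := by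
    intro m
    induction m with
    | zero => intro x; simp
    | succ m ih =>
      intro x
      rw [pow_succ', Perm.mul_apply, he, ih]
      push_cast
      ring
  have hγ2 : ∀ x, γ (γ x) = x := by
    intro x
    have : γ ^ 2 = 1 := by rw [← hγ]; exact pow_orderOf_eq_one γ
    rw [← Perm.mul_apply, ← sq, this, Perm.one_apply]
  have hconj : ∀ x, γ (τ x) = (τ ^ k) (γ x) := by
    intro x
    have h1 : γ * τ = τ ^ k * γ := by
      rw [← hk]; group
    rw [← Perm.mul_apply, h1, Perm.mul_apply]
  -- f := e ∘ γ ∘ e.symm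
  set f : ZMod 11 → ZMod 11 := fun z => e (γ (e.symm z)) with hf
  have hfstep : ∀ z, f (z + 1) = f z + k := by
    intro z
    have h1 : e.symm (z + 1) = τ (e.symm z) := by
      apply e.injective
      rw [he]
      simp
    change e (γ (e.symm (z + 1))) = e (γ (e.symm z)) + k
    rw [h1, hconj, hepow]
  have hfn : ∀ n : ℕ, f (n : ZMod 11) = f 0 + (k : ZMod 11) * n := by
    intro n
    induction n with
    | zero => simp
    | succ n ih =>
      push_cast
      rw [hfstep, ih]
      ring
  have hfz : ∀ z : ZMod 11, f z = f 0 + (k : ZMod 11) * z := by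
    intro z
    have := hfn z.val
    rwa [ZMod.natCast_zmod_val] at this
  have hff : ∀ z, f (f z) = z := by
    intro z
    change e (γ (e.symm (e (γ (e.symm z))))) = z
    rw [Equiv.symm_apply_apply, hγ2, Equiv.apply_symm_apply]
  -- k² = 1
  have hk2 : (k : ZMod 11) * k = 1 := by
    have h0 := hff 0
    have h1 := hff 1
    rw [hfz (f 0)] at h0
    rw [hfz (f 1), hfz 1] at h1
    linear_combination h1 - h0
  have hk1 : (k : ZMod 11) = 1 ∨ (k : ZMod 11) = -1 := by
    have : ((k : ZMod 11) - 1) * ((k : ZMod 11) + 1) = 0 := by linear_combination hk2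
    rcases mul_eq_zero.mp this with h | h
    · left; linear_combination h
    · right; linear_combination h
  have hγne : γ ≠ 1 := by
    rintro rfl
    simp at hγ
  rcases hk1 with hk1 | hk1
  · -- translation of order 2: trivial
    exfalso
    have h0 := hff 0
    rw [hfz (f 0), hk1] at h0
    have hb : f 0 = 0 := by
      have h2 : (2 : ZMod 11) * f 0 = 0 := by linear_combination h0
      have h6 : (6 : ZMod 11) * 2 = 1 := NODD.six_two
      calc f 0 = (6 * 2) * f 0 := by rw [h6, one_mul]
        _ = 6 * (2 * f 0) := by ring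
        _ = 0 := by rw [h2, mul_zero]
    apply hγne
    ext x
    have := hfz (e x)
    rw [hb, hk1] at this
    change e (γ (e.symm (e x))) = _ at this
    rw [Equiv.symm_apply_apply] at this
    apply e.injective
    rw [this]
    simp
  · -- reflection: exactly one fixed point
    have hfix : ∀ x, γ x = x ↔ e x = 6 * f 0 := by
      intro x
      have := hfz (e x)
      rw [hk1] at this
      change e (γ (e.symm (e x))) = _ at this
      rw [Equiv.symm_apply_apply] at this
      constructor
      · intro h
        rw [h] at this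
        have h6 : (6 : ZMod 11) * 2 = 1 := NODD.six_two
        calc e x = (6 * 2) * e x := by rw [h6, one_mul]
          _ = 6 * (f 0) := by linear_combination (6 : ZMod 11) * this
      · intro h
        apply e.injective
        rw [this, h]
        have h12 : (12 : ZMod 11) = 1 := NODD.twelve
        linear_combination (- f 0) * h12
    have hsupp : γ.support.card = 10 := by
      have h1 : γ.supportᶜ = {e.symm (6 * f 0)} := by
        ext x
        rw [Finset.mem_compl, Perm.mem_support, not_not, hfix, Finset.mem_singleton]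
        constructor
        · intro h; rw [← h, Equiv.symm_apply_apply]
        · intro h; rw [h, Equiv.apply_symm_apply]
      have h2 := Finset.card_compl γ.support
      rw [h1, Finset.card_singleton, h11] at h2
      have h3 := Finset.card_le_univ γ.support
      rw [h11] at h3
      omega
    rw [NODD.sign_of_orderOf_two hγ, hsupp]
    norm_num

/-- **1-NODD**: for `G ≤ A_11` of degree 11 the normaliser of a Sylow 11-subgroup (of order 11) has
odd order. -/
theorem NODD (h11 : Fintype.card α = 11) (G : Subgroup (Perm α))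
    (heven : G ≤ alternatingGroup α) (P : Sylow 11 G) (hP : Nat.card P = 11) :
    ¬ 2 ∣ Nat.card (Subgroup.normalizer ((P : Subgroup G) : Set G)) := by
  intro h2
  haveI : Fact (Nat.Prime 2) := ⟨Nat.prime_two⟩
  haveI : Fact (Nat.Prime 11) := ⟨by norm_num⟩
  obtain ⟨g, hg⟩ := exists_prime_orderOf_dvd_card' 2 h2
  haveI : IsCyclic (P : Subgroup G) := isCyclic_of_prime_card hP
  obtain ⟨c, hc⟩ := IsCyclic.exists_ofOrder_eq_natCard (α := (P : Subgroup G))
  rw [hP] at hc
  have hc1 : c ≠ 1 := by
    rintro rfl
    simp at hc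
  have hmem : (g : G) * (c : G) * (g : G)⁻¹ ∈ (P : Subgroup G) :=
    (Subgroup.mem_normalizer_iff.mp g.2 (c : G)).mp c.2
  have hz : (⟨(g : G) * (c : G) * (g : G)⁻¹, hmem⟩ : (P : Subgroup G)) ∈ Subgroup.zpowers c :=
    mem_zpowers_of_prime_card hP hc1
  rw [← mem_powers_iff_mem_zpowers] at hz
  obtain ⟨k, hk⟩ := hz
  have hk' : (((g : G) : Perm α)) * ((c : G) : Perm α) * (((g : G) : Perm α))⁻¹
      = ((c : G) : Perm α) ^ k := by
    have := congrArg (fun z : (P : Subgroup G) => ((z : G) : Perm α)) hk
    simp only [SubmonoidClass.coe_pow, Subgroup.coe_mul, Subgroup.coe_inv] at this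
    rw [← this]
  have hτ : orderOf (((c : G) : Perm α)) = 11 := by
    rw [Subgroup.orderOf_coe, Subgroup.orderOf_coe, hc]
  have hγ : orderOf (((g : G) : Perm α)) = 2 := by
    rw [Subgroup.orderOf_coe, Subgroup.orderOf_coe, hg]
  have hs := NODD.key h11 hτ hγ hk'
  have hs1 : Perm.sign (((g : G) : Perm α)) = 1 :=
    Equiv.Perm.mem_alternatingGroup.mp (heven (g : G).2)
  rw [hs1] at hs
  exact absurd hs (by decide)

end Cfsg.Agent.S0679P
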