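import Mathlib
import Cfsg.Agent.Helper4.S0679N11
import Cfsg.Agent.Helper29.S0679D1
import Cfsg.Agent.Helper29.S0679NODD

set_option autoImplicit false
set_option linter.unusedSectionVars false
set_option linter.unusedVariables false
set_option linter.style.haveILetI false

/-! # S0679: pieces `ONE.INVODD` and `ONE.D1` in the shape of helper4's stubs
(`departures/helper4_s0679_stubs1.lean.txt`), from `NODD` and `D1'`. -/

namespace Cfsg.Agent.S0679P

open Equiv MulAction

variable {α : Type*} [Fintype α] [DecidableEq α] {G : Subgroup (Equiv.Perm α)}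

/-- 1-INVODD: if the Sylow-11 normaliser has even order then `G` contains an odd permutation. -/
theorem ONE.INVODD (h11 : Fintype.card α = 11) [IsPretransitive G α] [Fact (Nat.Prime 11)]
    (P : Sylow 11 G)
    (heven : Even (Nat.card (Subgroup.normalizer ((P : Subgroup G) : Set G)))) :
    ¬ G ≤ alternatingGroup α := by
  intro hle
  exact NODD h11 G hle P (N11.card_sylow h11 P) (even_iff_two_dvd.mp heven)

/-- 1-D1: Sylow-11 normaliser of order 11 ⟹ solvable (Burnside transfer). -/
theorem ONE.D1 (h11 : Fintype.card α = 11) [IsPretransitive G α] [Fact (Nat.Prime 11)]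
    (P : Sylow 11 G)
    (hN : Nat.card (Subgroup.normalizer ((P : Subgroup G) : Set G)) = 11) : Group.IsSolvable G := by
  have hP : Nat.card (P : Subgroup G) = 11 := N11.card_sylow h11 P
  have hle : (P : Subgroup G) ≤ Subgroup.normalizer ((P : Subgroup G) : Set G) :=
    Subgroup.le_normalizer
  have heq : Subgroup.normalizer ((P : Subgroup G) : Set G) = (P : Subgroup G) := by
    symm
    apply Subgroup.eq_of_le_of_card_ge hle
    rw [hN, hP]
  haveI : IsCyclic (P : Subgroup G) := isCyclic_of_prime_card hP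
  apply D1' h11 G P heq
  intro a ha b hb
  obtain ⟨c, hc⟩ := IsCyclic.exists_generator (α := (P : Subgroup G))
  obtain ⟨i, hi⟩ := Subgroup.mem_zpowers_iff.mp (hc ⟨a, ha⟩)
  obtain ⟨j, hj⟩ := Subgroup.mem_zpowers_iff.mp (hc ⟨b, hb⟩)
  have : (⟨a, ha⟩ : (P : Subgroup G)) * ⟨b, hb⟩ = ⟨b, hb⟩ * ⟨a, ha⟩ := by
    rw [← hi, ← hj, ← zpow_add, ← zpow_add, add_comm]
  exact congrArg Subtype.val this

end Cfsg.Agent.S0679P
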