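import Mathlib
import Cfsg.Agent.Helper29.S2221Defs

/-! S2221 pieces ABSSURJ and LIFTCOMM (helper29). -/

set_option autoImplicit false

namespace Cfsg.Agent.S2221P

open scoped commutatorElement

section family

variable {ι : Type*} [Fintype ι] [DecidableEq ι] (G : ι → Type*) [∀ i, Group (G i)]

variable (s : (i : ι) → G i →* ℤˣ) (S : ((i : ι) → G i) →* ℤˣ)

namespace LIFT

theorem S_mulSingle (hS : ∀ w, S w = ∏ i, s i (w i)) (i : ι) (g : G i) :
    S (Pi.mulSingle i g) = s i g := by
  rw [hS, Finset.prod_eq_single i]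
  · rw [Pi.mulSingle_eq_same]
  · intro l _ hl
    rw [Pi.mulSingle_eq_of_ne hl, map_one]
  · intro h
    exact absurd (Finset.mem_univ i) h

/-- the correction term -/
noncomputable def u (i j : ι) (t : G j) (g : G i) : G j :=
  haveI := Classical.dec (s i g = 1)
  if s i g = 1 then 1 else t

theorem u_cases (i j : ι) (t : G j) (g : G i) : u G s i j t g = 1 ∨ u G s i j t g = t := by
  unfold u
  split_ifs
  · exact Or.inl rfl
  · exact Or.inr rfl

theorem s_u (i j : ι) (t : G j) (ht : s j t = -1) (g : G i) :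
    s j (u G s i j t g) = s i g := by
  unfold u
  split_ifs with h
  · rw [map_one, h]
  · rw [ht]
    rcases Int.units_eq_one_or (s i g) with h' | h'
    · exact absurd h' h
    · exact h'.symm

theorem lift_mem (hS : ∀ w, S w = ∏ i, s i (w i)) (i j : ι) (t : G j)
    (ht : s j t = -1) (g : G i) :
    Pi.mulSingle i g * Pi.mulSingle j (u G s i j t g) ∈ S.ker := by
  rw [MonoidHom.mem_ker, map_mul, S_mulSingle G s S hS, S_mulSingle G s S hS, s_u G s i j t ht]
  rcases Int.units_eq_one_or (s i g) with h | h <;> rw [h] <;> rfl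

/-- the lift of `g : G i` to the kernel -/
noncomputable def lift (hS : ∀ w, S w = ∏ i, s i (w i)) (i j : ι) (t : G j)
    (ht : s j t = -1) (g : G i) : ↥S.ker :=
  ⟨_, lift_mem G s S hS i j t ht g⟩

theorem lift_apply_same (hS : ∀ w, S w = ∏ i, s i (w i)) (i j : ι) (hij : j ≠ i) (t : G j)
    (ht : s j t = -1) (g : G i) : (lift G s S hS i j t ht g : (i : ι) → G i) i = g := by
  show (Pi.mulSingle i g * Pi.mulSingle j (u G s i j t g) : (i : ι) → G i) i = g
  rw [Pi.mul_apply, Pi.mulSingle_eq_same, Pi.mulSingle_eq_of_ne hij.symm, mul_one]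

theorem lift_apply_j (hS : ∀ w, S w = ∏ i, s i (w i)) (i j : ι) (hij : j ≠ i) (t : G j)
    (ht : s j t = -1) (g : G i) :
    (lift G s S hS i j t ht g : (i : ι) → G i) j = u G s i j t g := by
  show (Pi.mulSingle i g * Pi.mulSingle j (u G s i j t g) : (i : ι) → G i) j = _
  rw [Pi.mul_apply, Pi.mulSingle_eq_same, Pi.mulSingle_eq_of_ne hij, one_mul]

theorem lift_apply_ne (hS : ∀ w, S w = ∏ i, s i (w i)) (i j : ι) (t : G j)
    (ht : s j t = -1) (g : G i) (l : ι) (hli : l ≠ i) (hlj : l ≠ j) :
    (lift G s S hS i j t ht g : (i : ι) → G i) l = 1 := by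
  show (Pi.mulSingle i g * Pi.mulSingle j (u G s i j t g) : (i : ι) → G i) l = 1
  rw [Pi.mul_apply, Pi.mulSingle_eq_of_ne hli, Pi.mulSingle_eq_of_ne hlj, mul_one]

end LIFT

open LIFT

/-- ABSSURJ. -/
theorem proj_surjective (hS : ∀ w, S w = ∏ i, s i (w i)) (i j : ι) (hij : j ≠ i) (t : G j)
    (ht : s j t = -1) : Function.Surjective (proj G S i) := by
  intro g
  exact ⟨lift G s S hS i j t ht g, lift_apply_same G s S hS i j hij t ht g⟩

/-- LIFTCOMM. -/
theorem mulSingle_mem_commutator (hS : ∀ w, S w = ∏ i, s i (w i)) (i j : ι) (hij : j ≠ i)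
    (t : G j) (ht : s j t = -1) (g : G i) (hg : g ∈ commutator (G i)) :
    ∃ q : ↥S.ker, q ∈ commutator ↥S.ker ∧ (q : (i : ι) → G i) = Pi.mulSingle i g := by
  rw [commutator_eq_closure] at hg
  induction hg using Subgroup.closure_induction with
  | mem g hg =>
    obtain ⟨x, y, rfl⟩ := hg
    refine ⟨⁅lift G s S hS i j t ht x, lift G s S hS i j t ht y⁆, ?_, ?_⟩
    · rw [commutator_def]
      exact Subgroup.commutator_mem_commutator (Subgroup.mem_top _) (Subgroup.mem_top _)
    · have hval : ((⁅lift G s S hS i j t ht x, lift G s S hS i j t ht y⁆ : ↥S.ker) :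
          (i : ι) → G i)
          = ⁅(lift G s S hS i j t ht x : (i : ι) → G i),
              (lift G s S hS i j t ht y : (i : ι) → G i)⁆ :=
        map_commutatorElement S.ker.subtype _ _
      rw [hval]
      funext l
      have hl : (⁅(lift G s S hS i j t ht x : (i : ι) → G i),
          (lift G s S hS i j t ht y : (i : ι) → G i)⁆ : (i : ι) → G i) l
          = ⁅(lift G s S hS i j t ht x : (i : ι) → G i) l,
              (lift G s S hS i j t ht y : (i : ι) → G i) l⁆ := by
        simp only [commutatorElement_def, Pi.mul_apply, Pi.inv_apply]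
      rw [hl]
      by_cases hli : l = i
      · subst hli
        rw [lift_apply_same G s S hS l j hij, lift_apply_same G s S hS l j hij,
          Pi.mulSingle_eq_same]
      · rw [Pi.mulSingle_eq_of_ne hli]
        by_cases hlj : l = j
        · subst hlj
          rw [lift_apply_j G s S hS i l hij, lift_apply_j G s S hS i l hij]
          rcases u_cases G s i l t x with h1 | h1 <;> rcases u_cases G s i l t y with h2 | h2 <;>
            rw [h1, h2] <;> simp [commutatorElement_def]
        · rw [lift_apply_ne G s S hS i j t ht x l hli hlj,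
            lift_apply_ne G s S hS i j t ht y l hli hlj]
          simp [commutatorElement_def]
  | one =>
    exact ⟨1, Subgroup.one_mem _, by rw [Pi.mulSingle_one]; rfl⟩
  | mul x y _ _ hx hy =>
    obtain ⟨q, hq, hq'⟩ := hx
    obtain ⟨r, hr, hr'⟩ := hy
    refine ⟨q * r, Subgroup.mul_mem _ hq hr, ?_⟩
    rw [Pi.mulSingle_mul, ← hq', ← hr']
    rfl
  | inv x _ hx =>
    obtain ⟨q, hq, hq'⟩ := hx
    refine ⟨q⁻¹, Subgroup.inv_mem _ hq, ?_⟩
    rw [Pi.mulSingle_inv, ← hq']
    rfl

end family

end Cfsg.Agent.S2221P
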