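import Mathlib
import Cfsg.Agent.Helper25.S2221PRODEQ
import Cfsg.Agent.Helper29.S2221LIFT

/-! S2221 piece ABSCEN (helper29): a direct factor of the kernel all of whose projections are
central is trivial. -/

set_option autoImplicit false

namespace Cfsg.Agent.S2221P

section family

variable {ι : Type*} [Fintype ι] [DecidableEq ι] (G : ι → Type*) [∀ i, Group (G i)]

variable (s : (i : ι) → G i →* ℤˣ) (S : ((i : ι) → G i) →* ℤˣ)

theorem eq_bot_of_central (hS : ∀ w, S w = ∏ i, s i (w i))
    (hgood : ∀ i, Subsingleton (G i) ∨ GoodFactor (G i) (s i))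
    (h2 : ∃ i j, i ≠ j ∧ GoodFactor (G i) (s i) ∧ GoodFactor (G j) (s j))
    (A B : Subgroup ↥S.ker) (hc : ∀ a ∈ A, ∀ b ∈ B, a * b = b * a) (hi : A ⊓ B = ⊥)
    (hs : A ⊔ B = ⊤) (hB : ∀ i, B.map (proj G S i) ≤ Subgroup.center (G i)) : B = ⊥ := by
  obtain ⟨i₀, j₀, hij₀, hgi₀, hgj₀⟩ := h2
  obtain ⟨e, he⟩ := exists_equiv_prod A B hc hi hs
  -- the projection onto `B`
  let π : ↥S.ker →* ↥B := (MonoidHom.snd ↥A ↥B).comp e.symm.toMonoidHom
  have hπ : ∀ b : ↥B, π (b : ↥S.ker) = b := by
    intro b
    have h1 : e (1, b) = (b : ↥S.ker) := by rw [he]; simp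
    have h2 : e.symm (b : ↥S.ker) = (1, b) := by rw [← h1, MulEquiv.symm_apply_apply]
    show (e.symm (b : ↥S.ker)).2 = b
    rw [h2]
  -- components of elements of `B` are central
  have hcen : ∀ b ∈ B, ∀ l, (b : (i : ι) → G i) l ∈ Subgroup.center (G l) :=
    fun b hb l => hB l ⟨b, hb, rfl⟩
  -- `B` is abelian
  have hBab : ∀ x y : ↥B, x * y = y * x := by
    intro x y
    apply Subtype.ext
    apply Subtype.ext
    funext l
    show (x.1 : (i : ι) → G i) l * (y.1 : (i : ι) → G i) l
      = (y.1 : (i : ι) → G i) l * (x.1 : (i : ι) → G i) l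
    exact (Subgroup.mem_center_iff.1 (hcen x.1 x.2 l) _).symm
  -- so `π` kills the commutator subgroup
  have hker : commutator ↥S.ker ≤ π.ker := by
    rw [commutator_def, Subgroup.commutator_le]
    intro x _ y _
    rw [MonoidHom.mem_ker, map_commutatorElement, commutatorElement_eq_one_iff_commute]
    exact hBab _ _
  rw [eq_bot_iff]
  intro b hb
  rw [Subgroup.mem_bot]
  -- `b` lies in the commutator subgroup
  have hbcomm : b ∈ commutator ↥S.ker := by
    have hmem : ∀ l, Pi.mulSingle l ((b : (i : ι) → G i) l)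
        ∈ (commutator ↥S.ker).map S.ker.subtype := by
      intro l
      rcases hgood l with hl | hl
      · have : (b : (i : ι) → G i) l = 1 := Subsingleton.elim _ _
        rw [this, Pi.mulSingle_one]
        exact Subgroup.one_mem _
      · obtain ⟨z, hz, hzc⟩ := hl.cen
        rcases hzc _ (fun g => (Subgroup.mem_center_iff.1 (hcen b hb l) g).symm) with h | h
        · rw [h, Pi.mulSingle_one]
          exact Subgroup.one_mem _
        · obtain ⟨j, hjl, t, ht⟩ : ∃ j, j ≠ l ∧ ∃ t : G j, s j t = -1 := by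
            by_cases h' : i₀ = l
            · exact ⟨j₀, fun h'' => hij₀ (h'.trans h''.symm), hgj₀.odd⟩
            · exact ⟨i₀, h', hgi₀.odd⟩
          obtain ⟨q, hq, hq'⟩ := mulSingle_mem_commutator G s S hS l j hjl t ht z hz
          rw [h]
          exact ⟨q, hq, hq'⟩
    have hprod := Subgroup.noncommProd_mem ((commutator ↥S.ker).map S.ker.subtype)
      (t := Finset.univ) (f := fun l => Pi.mulSingle l ((b : (i : ι) → G i) l))
      (fun l _ j _ _ => Pi.mulSingle_apply_commute (b : (i : ι) → G i) l j)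
      (fun l _ => hmem l)
    rw [Finset.noncommProd_mulSingle] at hprod
    obtain ⟨q, hq, hq'⟩ := hprod
    have : q = b := Subtype.ext hq'
    rwa [this] at hq
  have h1 : π b = 1 := hker hbcomm
  have h2 := hπ ⟨b, hb⟩
  rw [h1] at h2
  have := congrArg Subtype.val h2
  exact this.symm

end family

end Cfsg.Agent.S2221P
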