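import Mathlib
import Cfsg.Agent.Helper29.S2221Defs

/-! S2221 piece ABSMIX (helper29): the mixed case of the abstract indecomposability theorem. -/

set_option autoImplicit false

namespace Cfsg.Agent.S2221P

namespace ABSMIX

/-- a sign character kills central elements of a good factor -/
theorem s_of_central {G : Type*} [Group G] {s : G →* ℤˣ} (hg : GoodFactor G s) {c : G}
    (hc : c ∈ Subgroup.center G) : s c = 1 := by
  obtain ⟨z, hz, hcen⟩ := hg.cen
  have hsz : s z = 1 := by
    have := Abelianization.commutator_subset_ker s hz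
    exact this
  rcases hcen c (fun g => (Subgroup.mem_center_iff.1 hc g).symm) with h | h
  · rw [h, map_one]
  · rw [h, hsz]

/-- elements of the join of two commuting subgroups are products -/
theorem exists_mul_of_mem_sup {H : Type*} [Group H] (A B : Subgroup H)
    (hc : ∀ a ∈ A, ∀ b ∈ B, a * b = b * a) {x : H} (hx : x ∈ A ⊔ B) :
    ∃ a ∈ A, ∃ b ∈ B, x = a * b := by
  rw [Subgroup.sup_eq_closure] at hx
  induction hx using Subgroup.closure_induction with
  | mem x hx =>
    rcases hx with h | h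
    · exact ⟨x, h, 1, B.one_mem, (mul_one x).symm⟩
    · exact ⟨1, A.one_mem, x, h, (one_mul x).symm⟩
  | one => exact ⟨1, A.one_mem, 1, B.one_mem, (mul_one 1).symm⟩
  | mul x y _ _ hx hy =>
    obtain ⟨a, ha, b, hb, rfl⟩ := hx
    obtain ⟨a', ha', b', hb', rfl⟩ := hy
    refine ⟨a * a', A.mul_mem ha ha', b * b', B.mul_mem hb hb', ?_⟩
    calc a * b * (a' * b') = a * (b * a') * b' := by group
      _ = a * (a' * b) * b' := by rw [hc a' ha' b hb]
      _ = a * a' * (b * b') := by group
  | inv x _ hx =>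
    obtain ⟨a, ha, b, hb, rfl⟩ := hx
    refine ⟨a⁻¹, A.inv_mem ha, b⁻¹, B.inv_mem hb, ?_⟩
    rw [mul_inv_rev]
    have := hc a⁻¹ (A.inv_mem ha) b⁻¹ (B.inv_mem hb)
    exact this.symm

end ABSMIX

section family

variable {ι : Type*} [Fintype ι] [DecidableEq ι] (G : ι → Type*) [∀ i, Group (G i)]

variable (s : (i : ι) → G i →* ℤˣ) (S : ((i : ι) → G i) →* ℤˣ)

namespace ABSMIX

theorem S_mulSingle (hS : ∀ w, S w = ∏ i, s i (w i)) (i : ι) (g : G i) :
    S (Pi.mulSingle i g) = s i g := by
  rw [hS, Finset.prod_eq_single i]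
  · rw [Pi.mulSingle_eq_same]
  · intro l _ hl
    rw [Pi.mulSingle_eq_of_ne hl, map_one]
  · intro h
    exact absurd (Finset.mem_univ i) h

end ABSMIX

open ABSMIX in
theorem false_of_mixed (hS : ∀ w, S w = ∏ i, s i (w i))
    (hgood : ∀ i, Subsingleton (G i) ∨ GoodFactor (G i) (s i))
    (A B : Subgroup ↥S.ker) (hc : ∀ a ∈ A, ∀ b ∈ B, a * b = b * a) (hs : A ⊔ B = ⊤)
    (hAB : ∀ l, A.map (proj G S l) ≤ Subgroup.center (G l) ∨
      B.map (proj G S l) ≤ Subgroup.center (G l))
    (i j : ι) (hi : GoodFactor (G i) (s i)) (hj : GoodFactor (G j) (s j))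
    (hAi : A.map (proj G S i) ≤ Subgroup.center (G i))
    (hBi : ¬ B.map (proj G S i) ≤ Subgroup.center (G i))
    (hBj : B.map (proj G S j) ≤ Subgroup.center (G j))
    (hAj : ¬ A.map (proj G S j) ≤ Subgroup.center (G j)) : False := by
  have hij : i ≠ j := by
    rintro rfl
    exact hAj hAi
  obtain ⟨ti, hti⟩ := hi.odd
  obtain ⟨tj, htj⟩ := hj.odd
  -- the element `t_i t_j` of the kernel
  have hq : Pi.mulSingle i ti * Pi.mulSingle j tj ∈ S.ker := by
    rw [MonoidHom.mem_ker, map_mul, S_mulSingle G s S hS, S_mulSingle G s S hS, hti, htj]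
    rfl
  obtain ⟨a, ha, b, hb, hab⟩ := exists_mul_of_mem_sup A B hc
    (show (⟨_, hq⟩ : ↥S.ker) ∈ A ⊔ B by rw [hs]; exact Subgroup.mem_top _)
  have hcomp : ∀ l, (a : (i : ι) → G i) l * (b : (i : ι) → G i) l
      = (Pi.mulSingle i ti * Pi.mulSingle j tj : (i : ι) → G i) l := by
    intro l
    have := congrArg (fun q : ↥S.ker => (q : (i : ι) → G i) l) hab
    exact this.symm
  have hcenA : ∀ l, A.map (proj G S l) ≤ Subgroup.center (G l) →
      (a : (i : ι) → G i) l ∈ Subgroup.center (G l) :=
    fun l h => h ⟨a, ha, rfl⟩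
  have hcenB : ∀ l, B.map (proj G S l) ≤ Subgroup.center (G l) →
      (b : (i : ι) → G i) l ∈ Subgroup.center (G l) :=
    fun l h => h ⟨b, hb, rfl⟩
  -- the signs of the components of `b`
  have hsb : ∀ l, s l ((b : (i : ι) → G i) l) = if l = i then -1 else 1 := by
    intro l
    have h1 := congrArg (s l) (hcomp l)
    rw [map_mul] at h1
    by_cases hli : l = i
    · subst hli
      rw [if_pos rfl]
      rw [Pi.mul_apply, Pi.mulSingle_eq_same, Pi.mulSingle_eq_of_ne hij, mul_one, hti,
        s_of_central hi (hcenA l hAi), one_mul] at h1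
      exact h1
    · rw [if_neg hli]
      by_cases hlj : l = j
      · subst hlj
        exact s_of_central hj (hcenB l hBj)
      · rw [Pi.mul_apply, Pi.mulSingle_eq_of_ne hli, Pi.mulSingle_eq_of_ne hlj, mul_one,
          map_one] at h1
        rcases hgood l with hl | hl
        · have : (b : (i : ι) → G i) l = 1 := Subsingleton.elim _ _
          rw [this, map_one]
        · rcases hAB l with h | h
          · rw [s_of_central hl (hcenA l h), one_mul] at h1
            exact h1
          · exact s_of_central hl (hcenB l h)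
  have hSb : S (b : (i : ι) → G i) = -1 := by
    rw [hS, Finset.prod_eq_single i]
    · rw [hsb, if_pos rfl]
    · intro l _ hl
      rw [hsb, if_neg hl]
    · intro h
      exact absurd (Finset.mem_univ i) h
  have hb1 : S (b : (i : ι) → G i) = 1 := b.2
  rw [hb1] at hSb
  exact absurd hSb (by decide)

end family

end Cfsg.Agent.S2221P
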