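import Mathlib
import Cfsg.Agent.Helper29.S2221LIFT
import Cfsg.Agent.Helper29.S2221ABSCEN
import Cfsg.Agent.Helper29.S2221ABSMIX

/-! S2221 piece ABS (helper29): the abstract indecomposability theorem. -/

set_option autoImplicit false

namespace Cfsg.Agent.S2221P

section family

variable {ι : Type*} [Fintype ι] [DecidableEq ι] (G : ι → Type*) [∀ i, Group (G i)]

variable (s : (i : ι) → G i →* ℤˣ) (S : ((i : ι) → G i) →* ℤˣ)

theorem not_decomp_ker (hS : ∀ w, S w = ∏ i, s i (w i))
    (hgood : ∀ i, Subsingleton (G i) ∨ GoodFactor (G i) (s i))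
    (h2 : ∃ i j, i ≠ j ∧ GoodFactor (G i) (s i) ∧ GoodFactor (G j) (s j)) :
    ¬ Decomp ↥S.ker := by
  rintro ⟨A, B, hA, hB, hc, hi, hs⟩
  obtain ⟨i₀, j₀, hij₀, hgi₀, hgj₀⟩ := h2
  -- for every index, one of the two projections is central
  have hAB : ∀ l, A.map (proj G S l) ≤ Subgroup.center (G l) ∨
      B.map (proj G S l) ≤ Subgroup.center (G l) := by
    intro l
    rcases hgood l with hl | hl
    · left
      intro x _
      rw [Subgroup.mem_center_iff]
      intro g
      exact Subsingleton.elim _ _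
    · -- a second good factor with an odd element
      obtain ⟨j, hjl, t, ht⟩ : ∃ j, j ≠ l ∧ ∃ t : G j, s j t = -1 := by
        by_cases h : i₀ = l
        · exact ⟨j₀, fun h' => hij₀ (h.trans h'.symm), hgj₀.odd⟩
        · exact ⟨i₀, h, hgi₀.odd⟩
      have hsurj := proj_surjective G s S hS l j hjl t ht
      apply hl.claimC
      · rintro x ⟨a, ha, rfl⟩ y ⟨b, hb, rfl⟩
        rw [← map_mul, ← map_mul, hc a ha b hb]
      · rw [← Subgroup.map_sup, hs, ← MonoidHom.range_eq_map]
        exact MonoidHom.range_eq_top.2 hsurj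
  by_cases hBall : ∀ l, B.map (proj G S l) ≤ Subgroup.center (G l)
  · exact hB (eq_bot_of_central G s S hS hgood ⟨i₀, j₀, hij₀, hgi₀, hgj₀⟩ A B hc hi hs hBall)
  by_cases hAall : ∀ l, A.map (proj G S l) ≤ Subgroup.center (G l)
  · refine hA (eq_bot_of_central G s S hS hgood ⟨i₀, j₀, hij₀, hgi₀, hgj₀⟩ B A ?_ ?_ ?_ hAall)
    · intro b hb a ha
      exact (hc a ha b hb).symm
    · rw [inf_comm]; exact hi
    · rw [sup_comm]; exact hs
  push Not at hBall hAall
  obtain ⟨i, hBi⟩ := hBall
  obtain ⟨j, hAj⟩ := hAall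
  have hAi : A.map (proj G S i) ≤ Subgroup.center (G i) := (hAB i).resolve_right hBi
  have hBj : B.map (proj G S j) ≤ Subgroup.center (G j) := (hAB j).resolve_left hAj
  have hgi : GoodFactor (G i) (s i) := by
    rcases hgood i with h | h
    · exfalso
      apply hBi
      intro x _
      rw [Subgroup.mem_center_iff]
      intro g
      exact Subsingleton.elim _ _
    · exact h
  have hgj : GoodFactor (G j) (s j) := by
    rcases hgood j with h | h
    · exfalso
      apply hAj
      intro x _
      rw [Subgroup.mem_center_iff]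
      intro g
      exact Subsingleton.elim _ _
    · exact h
  exact false_of_mixed G s S hS hgood A B hc hs hAB i j hgi hgj hAi hBi hBj hAj

end family

end Cfsg.Agent.S2221P
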