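import Mathlib
import Cfsg.Agent.Helper29.S2221Defs

/-! S2221 piece SIGNRHO (helper29): the sign of `rho n w` is the product of the signs. -/

set_option autoImplicit false

namespace Cfsg.Agent.S2221P

open Equiv

namespace SIGNRHO

theorem rho_apply (n : ℕ) (w : PW n) (k : Idx n) (x : Om k.1) :
    rho n w ⟨k, x⟩ = ⟨k, (w k : Perm (Om k.1)) x⟩ := rfl

theorem sgn_mulSingle (n : ℕ) (k : Idx n) (g : ↥(W k.1)) :
    sgn n (Pi.mulSingle k g) = sW k.1 g := by
  show Perm.sign (rho n (Pi.mulSingle k g)) = Perm.sign (g : Perm (Om k.1))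
  symm
  refine Perm.sign_bij (fun x _ => (⟨k, x⟩ : Pts n)) ?_ ?_ ?_
  · intro x _ _
    rw [rho_apply, Pi.mulSingle_eq_same]
  · intro x y _ _ h
    have := congrArg (fun p : Pts n => p) h
    simpa using h
  · rintro ⟨k', x'⟩ hy
    by_cases hk : k' = k
    · subst hk
      refine ⟨x', ?_, rfl⟩
      intro hx
      apply hy
      rw [rho_apply, Pi.mulSingle_eq_same, hx]
    · exfalso
      apply hy
      rw [rho_apply, Pi.mulSingle_eq_of_ne hk]
      rfl

end SIGNRHO

open SIGNRHO in
theorem sgn_apply (n : ℕ) (w : PW n) : sgn n w = ∏ k, sW k.1 (w k) := by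
  have key : sgn n = ∏ k : Idx n, (sW k.1).comp (Pi.evalMonoidHom (fun k : Idx n => ↥(W k.1)) k) := by
    apply MonoidHom.pi_ext
    intro k x
    rw [sgn_mulSingle, MonoidHom.finset_prod_apply, Finset.prod_eq_single k]
    · simp
    · intro l _ hl
      simp [Pi.mulSingle_eq_of_ne hl]
    · intro h
      exact absurd (Finset.mem_univ k) h
  rw [key, MonoidHom.finset_prod_apply]
  rfl

end Cfsg.Agent.S2221P
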