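import Mathlib
import Cfsg.Agent.Helper18.S2221CARDPW
import Cfsg.Agent.Helper6.S2221SGNSURJ
import Cfsg.Agent.Helper6.S2221RHOINJ
import Cfsg.Agent.Helper6.S2221CARDPTS
import Cfsg.Agent.Helper24.S2221LEGENDRE

/-! S2221 piece MODEL (helper29): the kernel of the sign on `PW n` embeds in `A_n` as a Sylow
2-subgroup. -/

set_option autoImplicit false

namespace Cfsg.Agent.S2221P

open Equiv

namespace MODEL

/-- the action on `Fin n` -/
noncomputable def psi (n : ℕ) : PW n →* Perm (Fin n) :=
  (permCongrHom (Fintype.equivFinOfCardEq (card_pts n))).toMonoidHom.comp (rho n)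

theorem sign_psi (n : ℕ) (w : PW n) : Perm.sign (psi n w) = sgn n w := by
  show Perm.sign ((Fintype.equivFinOfCardEq (card_pts n)).permCongr (rho n w)) = _
  rw [Perm.sign_permCongr]
  rfl

theorem psi_injective (n : ℕ) : Function.Injective (psi n) := by
  intro a b h
  apply rho_injective n
  exact (permCongrHom (Fintype.equivFinOfCardEq (card_pts n))).injective h

theorem card_ker (n : ℕ) (hn : 2 ≤ n) :
    Nat.card ↥(sgn n).ker * 2 = 2 ^ (n - (bitsF n).card) := by
  rw [← card_PW n, ← Subgroup.card_mul_index (sgn n).ker, Subgroup.index_ker]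
  congr 1
  have hsurj : (sgn n).range = ⊤ := by
    rw [eq_top_iff]
    intro u _
    obtain ⟨w, hw⟩ := exists_sgn_neg n hn
    rcases Int.units_eq_one_or u with h | h
    · rw [h]; exact Subgroup.one_mem _
    · rw [h, ← hw]; exact ⟨w, rfl⟩
  rw [hsurj, Subgroup.card_top, Nat.card_eq_fintype_card]
  rfl

end MODEL

open MODEL in
theorem exists_model (n : ℕ) (hn : 2 ≤ n) :
    ∃ φ : ↥(sgn n).ker →* ↥(alternatingGroup (Fin n)), Function.Injective φ ∧
      Nat.card ↥(sgn n).ker = 2 ^ (Nat.card ↥(alternatingGroup (Fin n))).factorization 2 := by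
  refine ⟨((psi n).comp (sgn n).ker.subtype).codRestrict (alternatingGroup (Fin n)) ?_, ?_, ?_⟩
  · intro q
    rw [Perm.mem_alternatingGroup]
    show Perm.sign (psi n (q : PW n)) = 1
    rw [sign_psi]
    exact q.2
  · intro a b h
    have h' := congrArg Subtype.val h
    exact Subtype.ext (psi_injective n h')
  · have h1 := card_ker n hn
    have h2 := factorization_card_alt n hn
    have h3 : n - (bitsF n).card
        = (Nat.card ↥(alternatingGroup (Fin n))).factorization 2 + 1 := by omega
    rw [h3, pow_succ] at h1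
    exact Nat.eq_of_mul_eq_mul_right (by norm_num) h1

end Cfsg.Agent.S2221P
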