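import Mathlib
import Cfsg.Prelude.Def_TwoFusion
import Cfsg.Agent.Helper29.S2221Defs
import Cfsg.Agent.Helper3.S2221SYLTRANS
import Cfsg.Agent.Helper3.S2221DECCONG
import Cfsg.Agent.Helper3.S2221KERDROP
import Cfsg.Agent.Helper3.S2221PIUNIQ
import Cfsg.Agent.Helper25.S2221IND2
import Cfsg.Agent.Helper25.S2221PIDEC
import Cfsg.Agent.Helper18.S2221CARDWR
import Cfsg.Agent.Helper23.S2221ZC
import Cfsg.Agent.Helper23.S2221CENTERW
import Cfsg.Agent.Helper23.S2221ODDT
import Cfsg.Agent.Helper23.S2221W01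
import Cfsg.Agent.Helper20.S2221E2DEC
import Cfsg.Agent.Helper24.S2221BITS1
import Cfsg.Agent.Helper24.S2221BITS45
import Cfsg.Agent.Helper24.S2221BITSGE
import Cfsg.Agent.Helper24.S2221BITSPOW
import Cfsg.Agent.Helper29.S2221SIGNRHO
import Cfsg.Agent.Helper29.S2221ABS
import Cfsg.Agent.Helper29.S2221MODEL
import Cfsg.Agent.Helper20.S2221GOODW
import Cfsg.Agent.Helper20.S2221CENTERE

/-! S2221 final assembly (helper29). -/

set_option autoImplicit false

namespace Cfsg.Agent.S2221P

open Equiv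

namespace MAIN

/-- indices `k ∈ bitsF n` other than the unique one `≥ 2` have trivial `W k` (when `1` is excluded) -/
theorem subsingleton_of_lt_two (k : ℕ) (hk : k < 2) (h1 : k ≠ 1) : Subsingleton ↥(W k) := by
  have : k = 0 := by omega
  subst this
  exact subsingleton_W0

theorem not_decomp_W (k : ℕ) (hk : 1 ≤ k) : ¬ Decomp ↥(W k) :=
  not_decomp_of_center (isPGroup_W k) ⟨zc k, zc_mem k⟩ (by
    intro c hc
    have := center_W k hk c.2 (by
      intro ρ hρ
      have := congrArg Subtype.val (hc ⟨ρ, hρ⟩)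
      exact this)
    rcases this with h | h
    · exact Or.inl (Subtype.ext h)
    · exact Or.inr (Subtype.ext h))

theorem not_decomp_E (k : ℕ) (hk : 3 ≤ k) : ¬ Decomp ↥(sW k).ker := by
  have hp : IsPGroup 2 ↥(sW k).ker := (isPGroup_W k).to_subgroup _
  by_cases hz : ∃ c₀ : ↥(sW k).ker, ((c₀ : ↥(W k)) : Perm (Om k)) = zc k
  · obtain ⟨c₀, hc₀⟩ := hz
    refine not_decomp_of_center hp c₀ ?_
    intro c hc
    rcases center_E k hk c hc with h | h
    · exact Or.inl h
    · exact Or.inr (Subtype.ext (Subtype.ext (h.trans hc₀.symm)))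
  · refine not_decomp_of_center hp 1 ?_
    intro c hc
    rcases center_E k hk c hc with h | h
    · exact Or.inl h
    · exact absurd ⟨c, h⟩ hz

end MAIN

open MAIN

theorem main (n : ℕ) (hn : 4 ≤ n) (P : Sylow 2 (alternatingGroup (Fin n))) :
    (∃ S₁ S₂ : Subgroup (alternatingGroup (Fin n)), S₁ ≠ ⊥ ∧ S₂ ≠ ⊥ ∧
        Cfsg.IsInternalDirectProduct S₁ S₂ (P : Subgroup (alternatingGroup (Fin n)))) ↔
      (n = 4 ∨ n = 5 ∨ ((n % 4 = 2 ∨ n % 4 = 3) ∧ ∀ r : ℕ, 4 * (n / 4) ≠ 2 ^ r)) := by
  obtain ⟨φ, hφ, hcard⟩ := exists_model n (by omega)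
  rw [sylow_decomp_iff φ hφ hcard P]
  have hS := sgn_apply n
  obtain ⟨k₁, hk₁, hk₁2⟩ := exists_mem_bitsF_ge_two n hn
  have hpow := pow_iff_bitsF n hn
  have h45 := four_five_iff_bitsF n hn
  have hone := one_mem_bitsF_iff n
  by_cases h1 : 1 ∈ bitsF n
  · -- `n ≡ 2, 3 mod 4`
    have hmod := hone.1 h1
    obtain ⟨e⟩ := ker_equiv_pi_ne (fun k : Idx n => ↥(W k.1)) (fun k => sW k.1) (sgn n) hS
      ⟨1, h1⟩ ⟨tc 1, tc_mem 1⟩ (sign_tc 1 le_rfl) W1_cases
    rw [decomp_congr e]
    have hrhs : (n = 4 ∨ n = 5 ∨ ((n % 4 = 2 ∨ n % 4 = 3) ∧ ∀ r : ℕ, 4 * (n / 4) ≠ 2 ^ r)) ↔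
        ¬ ∃ r : ℕ, 4 * (n / 4) = 2 ^ r := by
      constructor
      · rintro (h | h | ⟨-, h⟩)
        · omega
        · omega
        · rintro ⟨r, hr⟩; exact h r hr
      · intro h
        exact Or.inr (Or.inr ⟨hmod, fun r hr => h ⟨r, hr⟩⟩)
    rw [hrhs, hpow]
    constructor
    · intro hdec huniq
      -- only one nontrivial factor
      have hne : (⟨k₁, hk₁⟩ : Idx n) ≠ ⟨1, h1⟩ := by
        intro h
        have := congrArg Subtype.val h
        simp only at this
        omega
      obtain ⟨e'⟩ := pi_equiv_of_unique (fun i : {i : Idx n // i ≠ ⟨1, h1⟩} => ↥(W i.1.1))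
        ⟨⟨k₁, hk₁⟩, hne⟩ (by
          intro i hi
          apply subsingleton_of_lt_two
          · by_contra hlt
            apply hi
            have := huniq i.1.1 i.1.2 k₁ hk₁ (by omega) hk₁2
            exact Subtype.ext (Subtype.ext this)
          · intro h
            exact i.2 (Subtype.ext h))
      rw [decomp_congr e'] at hdec
      exact not_decomp_W k₁ (by omega) hdec
    · intro h
      push Not at h
      obtain ⟨k, hk, l, hl, hk2, hl2, hkl⟩ := h
      have hk' : (⟨k, hk⟩ : Idx n) ≠ ⟨1, h1⟩ := by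
        intro h
        have := congrArg Subtype.val h
        simp only at this
        omega
      have hl' : (⟨l, hl⟩ : Idx n) ≠ ⟨1, h1⟩ := by
        intro h
        have := congrArg Subtype.val h
        simp only at this
        omega
      refine decomp_pi_of_two (fun i : {i : Idx n // i ≠ ⟨1, h1⟩} => ↥(W i.1.1))
        ⟨⟨k, hk⟩, hk'⟩ ⟨⟨l, hl⟩, hl'⟩ ?_ (nontrivial_W k (by omega)) (nontrivial_W l (by omega))
      intro h
      apply hkl
      have := congrArg (fun i : {i : Idx n // i ≠ ⟨1, h1⟩} => i.1.1) h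
      exact this
  · -- `n ≡ 0, 1 mod 4`
    have hmod : ¬ (n % 4 = 2 ∨ n % 4 = 3) := fun h => h1 (hone.2 h)
    have hrhs : (n = 4 ∨ n = 5 ∨ ((n % 4 = 2 ∨ n % 4 = 3) ∧ ∀ r : ℕ, 4 * (n / 4) ≠ 2 ^ r)) ↔
        ∀ k ∈ bitsF n, 2 ≤ k → k = 2 := by
      constructor
      · rintro (h | h | ⟨h, -⟩)
        · exact (h45.1 (Or.inl h)).2
        · exact (h45.1 (Or.inr h)).2
        · exact absurd h hmod
      · intro h
        rcases h45.2 ⟨h1, h⟩ with h | h
        · exact Or.inl h
        · exact Or.inr (Or.inl h)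
    rw [hrhs]
    by_cases huniq : ∀ k ∈ bitsF n, ∀ l ∈ bitsF n, 2 ≤ k → 2 ≤ l → k = l
    · obtain ⟨e⟩ := ker_equiv_of_unique (fun k : Idx n => ↥(W k.1)) (fun k => sW k.1) (sgn n) hS
        ⟨k₁, hk₁⟩ (by
          intro i hi
          apply subsingleton_of_lt_two
          · by_contra hlt
            apply hi
            have := huniq i.1 i.2 k₁ hk₁ (by omega) hk₁2
            exact Subtype.ext this
          · intro h
            exact h1 (h ▸ i.2))
      rw [decomp_congr e]
      by_cases hk2 : k₁ = 2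
      · subst hk2
        constructor
        · intro _ k hk hk2
          exact huniq k hk 2 hk₁ hk2 le_rfl
        · intro _
          exact decomp_E2
      · constructor
        · intro hdec
          exact absurd hdec (not_decomp_E k₁ (by omega))
        · intro h
          exact absurd (h k₁ hk₁ hk₁2) hk2
    · push Not at huniq
      obtain ⟨k, hk, l, hl, hk2, hl2, hkl⟩ := huniq
      constructor
      · intro hdec
        exfalso
        refine not_decomp_ker (fun k : Idx n => ↥(W k.1)) (fun k => sW k.1) (sgn n) hS ?_ ?_ hdec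
        · intro i
          by_cases hi : 2 ≤ i.1
          · exact Or.inr (goodFactor_W i.1 hi)
          · left
            apply subsingleton_of_lt_two _ (by omega)
            intro h
            exact h1 (h ▸ i.2)
        · refine ⟨⟨k, hk⟩, ⟨l, hl⟩, ?_, goodFactor_W k hk2, goodFactor_W l hl2⟩
          intro h
          exact hkl (congrArg Subtype.val h)
      · intro h
        exact absurd ((h k hk hk2).trans (h l hl hl2).symm) hkl

end Cfsg.Agent.S2221P
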