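import Mathlib
import Cfsg.Prelude.Def_LieClassical
import Cfsg.Agent.Helper29.S2263Defs
import Cfsg.Agent.Helper26.S2263FROBLIFT
import Cfsg.Agent.Helper26.S2263FACA
import Cfsg.Agent.Helper26.S2263FACB

/-! S2263 piece FACEXP (helper29). -/

set_option autoImplicit false

namespace Cfsg.Agent.S2263P

open Polynomial
open Cfsg.Agent.S2264P

variable {F : Type*} [Field F] [Fintype F] {p f q : ℕ} [Fact p.Prime]

namespace FACEXP

omit [Fintype F] in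
/-- from `φ ∣ X^w - C c`, `c^(q+1) = 1` to `φ^m ∣ X^((q+1) * Up p m * w) - 1` -/
theorem aux [CharP F p] {φ : F[X]} {w : ℕ} {c : F} (hc : c ^ (q + 1) = 1)
    (h : φ ∣ X ^ w - C c) (m : ℕ) : φ ^ m ∣ X ^ ((q + 1) * Up p m * w) - 1 := by
  have hp : p.Prime := Fact.out
  have hm : m ≤ p ^ Nat.clog p m := Nat.le_pow_clog hp.one_lt m
  have h1 := pow_dvd_sub_C (p := p) h hm
  have h2 : (X : F[X]) ^ (w * p ^ Nat.clog p m) - C (c ^ p ^ Nat.clog p m)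
      ∣ (X ^ (w * p ^ Nat.clog p m)) ^ (q + 1) - (C (c ^ p ^ Nat.clog p m)) ^ (q + 1) :=
    sub_dvd_pow_sub_pow _ _ _
  have h3 : (C (c ^ p ^ Nat.clog p m) : F[X]) ^ (q + 1) = 1 := by
    rw [← C_pow, ← pow_mul, mul_comm, pow_mul, hc, one_pow, C_1]
  rw [h3, ← pow_mul] at h2
  have h4 : (q + 1) * Up p m * w = w * p ^ Nat.clog p m * (q + 1) := by
    unfold Up
    ring
  rw [h4]
  exact h1.trans h2

end FACEXP

/-- FACEXP -/
theorem fac_pow_dvd (hq : q = p ^ f) (hf : 1 ≤ f) (hF : Fintype.card F = q ^ 2) (σ : F ≃+* F)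
    (hσ : ∀ x, σ x = x ^ q) {φ : F[X]} (hirr : Irreducible φ) (hm : φ.Monic)
    (h0 : φ.coeff 0 ≠ 0) (m : ℕ) :
    φ ^ m ∣ X ^ ((q + 1) * Up p m * wq q (sdeg σ φ)) - 1 := by
  have : CharP F p := charP_of_card hq hf hF
  unfold sdeg
  split_ifs with hr
  · obtain ⟨-, c, hc, hdvd⟩ := fac_selfdual hF σ hσ hirr hm hr
    exact FACEXP.aux hc hdvd m
  · obtain ⟨c, hc, hdvd, -⟩ := fac_pair hF σ hσ hirr hm h0
    exact FACEXP.aux hc hdvd m

end Cfsg.Agent.S2263P
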