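import Mathlib
import Cfsg.Prelude.Def_LieClassical
import Cfsg.Agent.Helper29.S2263Defs
import Cfsg.Agent.Helper7.S2264FACS
import Cfsg.Agent.Helper29.S2263FACEXP

/-! S2263 piece GENERAL (helper29). -/

set_option autoImplicit false

namespace Cfsg.Agent.S2263P

open Polynomial
open Cfsg.Agent.S2264P

variable {F : Type*} [Field F] [Fintype F] {p f q : ℕ} [Fact p.Prime]

namespace GENERAL

omit [Fintype F] in
theorem X_pow_sub_one_dvd {a b : ℕ} (h : a ∣ b) : (X : F[X]) ^ a - 1 ∣ X ^ b - 1 := by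
  obtain ⟨c, rfl⟩ := h
  rw [pow_mul]
  have := sub_dvd_pow_sub_pow ((X : F[X]) ^ a) 1 c
  rwa [one_pow] at this

omit [Fintype F] in
theorem mult_le_Emax {μ φ : F[X]} (hφ : φ ∈ facs μ) : mult μ φ ≤ Emax μ :=
  Finset.le_sup (f := mult μ) hφ

end GENERAL

/-- GENERAL -/
theorem general_exponent (hq : q = p ^ f) (hf : 1 ≤ f) (hF : Fintype.card F = q ^ 2)
    (σ : F ≃+* F) (hσ : ∀ x, σ x = x ^ q) {μ : F[X]} (hμ : UGood σ μ) :
    μ ∣ X ^ (Kexp p q σ μ) - 1 := by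
  have hμ0 : μ ≠ 0 := hμ.monic.ne_zero
  have key : ∀ φ ∈ facs μ, φ ^ mult μ φ ∣ X ^ (Kexp p q σ μ) - 1 := by
    intro φ hφ
    obtain ⟨hirr, hm, hdvd⟩ := (mem_facs hμ0).1 hφ
    have h0 := coeff_zero_ne_zero_of_mem_facs hμ.coeff0 hφ
    have h1 := fac_pow_dvd hq hf hF σ hσ hirr hm h0 (Emax μ)
    have h2 : φ ^ mult μ φ ∣ φ ^ Emax μ := pow_dvd_pow _ (GENERAL.mult_le_Emax hφ)
    have h3 : (q + 1) * Up p (Emax μ) * wq q (sdeg σ φ) ∣ Kexp p q σ μ := by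
      unfold Kexp
      apply mul_dvd_mul_left
      apply Finset.dvd_prod_of_mem
      unfold Dset
      exact Finset.mem_image_of_mem _ hφ
    exact (h2.trans h1).trans (GENERAL.X_pow_sub_one_dvd h3)
  have hprod : ∏ φ ∈ facs μ, φ ^ mult μ φ ∣ X ^ (Kexp p q σ μ) - 1 := by
    apply Finset.prod_dvd_of_coprime
    · intro a ha b hb hab
      exact (facs_coprime ha hb hab).pow
    · exact key
  rwa [prod_facs hμ.monic] at hprod

end Cfsg.Agent.S2263P
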