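import Mathlib
import Cfsg.Agent.Helper29.S2264Defs
import Cfsg.Agent.Helper29.S2264POLY
import Cfsg.Agent.Helper21.S2264MINREV

/-! S2264 + S2265: the matrix theorem (helper29). -/

set_option autoImplicit false

namespace Cfsg.Agent.S2264P

open Polynomial
open scoped Classical

noncomputable section

variable {F : Type*} [Field F] [Fintype F]

/-- A matrix preserving a nondegenerate bilinear form on a space of dimension `2m` (`m ≥ 2`) or
`2m+1` (`m ≥ 3`, odd characteristic) has a power `A ^ N = ± 1` with `(q - 1) N ≤ q ^ (m + 1)`. -/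
theorem exists_pow_eq {ι : Type*} [Fintype ι] [DecidableEq ι] (A P : Matrix ι ι F)
    (hP : IsUnit P.det) (h : A.transpose * P * A = P) (m : ℕ) (hm : 2 ≤ m)
    (hcard : Fintype.card ι = 2 * m ∨ (Fintype.card ι = 2 * m + 1 ∧ 3 ≤ m ∧ (2 : F) ≠ 0)) :
    ∃ N, 0 < N ∧ (A ^ N = 1 ∨ A ^ N = -1) ∧
      (Fintype.card F - 1) * N ≤ Fintype.card F ^ (m + 1) := by
  obtain ⟨p, hchar⟩ := CharP.exists F
  have := hchar
  have : Fact p.Prime := ⟨CharP.char_is_prime F p⟩
  have hne : Nonempty ι := by
    rw [← Fintype.card_pos_iff]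
    rcases hcard with hc | ⟨hc, -, -⟩ <;> omega
  have hgood := good_minpoly A P hP h
  have hint : IsIntegral F A := Matrix.isIntegral A
  have hd1 : 1 ≤ (minpoly F A).natDegree := minpoly.natDegree_pos hint
  have hdle : (minpoly F A).natDegree ≤ Fintype.card ι := by
    have h1 := Matrix.minpoly_dvd_charpoly A
    have h2 := Polynomial.natDegree_le_of_dvd h1 (Matrix.charpoly_monic A).ne_zero
    rwa [Matrix.charpoly_natDegree_eq_dim] at h2
  have hdeg : (minpoly F A).natDegree ≤ 2 * m ∨
      ((minpoly F A).natDegree ≤ 2 * m + 1 ∧ 3 ≤ m ∧ p ≠ 2) := by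
    rcases hcard with hc | ⟨hc, h3, h2⟩
    · left; omega
    · right
      refine ⟨by omega, h3, ?_⟩
      intro hp2
      apply h2
      have : CharP F 2 := hp2 ▸ (inferInstance : CharP F p)
      exact_mod_cast CharP.cast_eq_zero F 2
  rcases exists_exponent p hgood m hm hd1 hdeg with ⟨N, hN, hdvd, hb⟩ | ⟨h3, h2, hμ⟩
  · refine ⟨N, hN, Or.inl ?_, hb⟩
    have := (minpoly.dvd_iff (A := F) (x := A)).1 hdvd
    simpa [sub_eq_zero] using this
  · refine ⟨9, by norm_num, Or.inr ?_, ?_⟩
    · have hp3 : p = 3 := by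
        obtain ⟨n, hp, hq⟩ := FiniteField.card F p
        rw [h3] at hq
        have : p ∣ 3 := by
          rw [hq]
          exact dvd_pow_self p n.ne_zero
        exact (Nat.prime_dvd_prime_iff_eq hp Nat.prime_three).1 this
      subst hp3
      have h9 : (X + 1 : F[X]) ^ 9 = X ^ 9 + 1 := by
        have := add_pow_char_pow (R := F[X]) (p := 3) (n := 2) X 1
        norm_num at this
        exact this
      have hdvd : minpoly F A ∣ X ^ 9 + 1 := by
        rw [hμ, ← h9]
        exact pow_dvd_pow _ (by norm_num)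
      have := (minpoly.dvd_iff (A := F) (x := A)).1 hdvd
      simp only [map_add, map_pow, aeval_X, map_one] at this
      exact eq_neg_of_add_eq_zero_left this
    · rw [h3, h2]
      norm_num

end

end Cfsg.Agent.S2264P
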