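import Mathlib
import Cfsg.Prelude.Def_Classical
import Cfsg.Agent.Helper29.S2264MAT
import Cfsg.Agent.Helper7.S2264GRAMISO
import Cfsg.Agent.Helper7.OrthUni3

/-! S2265: the order bound in `PΩ(Q)` for a nondegenerate quadratic form (helper29). -/

set_option autoImplicit false

namespace Cfsg.Agent.S2264P

noncomputable section

variable {F : Type*} [Field F] [Fintype F]

theorem pomega_bound {I : Type} [Fintype I] [DecidableEq I] (Q : QuadraticForm F (I → F))
    (hQ : (QuadraticMap.polarBilin Q).Nondegenerate) (m : ℕ) (hm : 2 ≤ m)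
    (hcard : Fintype.card I = 2 * m ∨ (Fintype.card I = 2 * m + 1 ∧ 3 ≤ m ∧ (2 : F) ≠ 0))
    (g : Cfsg.POmega F ⇑Q) :
    (Fintype.card F - 1) * orderOf g ≤ Fintype.card F ^ (m + 1) := by
  classical
  obtain ⟨ω, rfl⟩ := QuotientGroup.mk_surjective g
  have hiso : ∀ v, Q (Matrix.mulVec ((ω : Cfsg.isometryGroup F ⇑Q) : Matrix.GeneralLinearGroup I F).val v)
      = Q v := by
    intro v
    exact (ω : Cfsg.isometryGroup F ⇑Q).2 v v
  have hgram := gram_of_isometry Q _ hiso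
  have hdet : IsUnit (Cfsg.Agent.Helper7.OrthUni.gram Q).det :=
    isUnit_iff_ne_zero.2 ((Cfsg.Agent.Helper7.OrthUni.nondeg_iff_det Q).1 hQ)
  obtain ⟨N, hN, hpow, hb⟩ := exists_pow_eq _ _ hdet hgram m hm hcard
  have hval : (((ω ^ N : Cfsg.Omega F ⇑Q) : Cfsg.isometryGroup F ⇑Q) :
      Matrix.GeneralLinearGroup I F).val =
      (((ω : Cfsg.isometryGroup F ⇑Q) : Matrix.GeneralLinearGroup I F).val) ^ N := by
    rw [Subgroup.coe_pow, Subgroup.coe_pow, Units.val_pow_eq_pow_val]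
  have hcen : ω ^ N ∈ Subgroup.center (Cfsg.Omega F ⇑Q) := by
    rw [Subgroup.mem_center_iff]
    intro B
    apply Subtype.ext
    apply Subtype.ext
    apply Units.ext
    show ((B : Cfsg.isometryGroup F ⇑Q) : Matrix.GeneralLinearGroup I F).val *
      (((ω ^ N : Cfsg.Omega F ⇑Q) : Cfsg.isometryGroup F ⇑Q) : Matrix.GeneralLinearGroup I F).val =
      (((ω ^ N : Cfsg.Omega F ⇑Q) : Cfsg.isometryGroup F ⇑Q) : Matrix.GeneralLinearGroup I F).val *
      ((B : Cfsg.isometryGroup F ⇑Q) : Matrix.GeneralLinearGroup I F).val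
    rw [hval]
    rcases hpow with h | h <;> rw [h] <;> simp
  have hone : (QuotientGroup.mk ω : Cfsg.POmega F ⇑Q) ^ N = 1 := by
    rw [← QuotientGroup.mk_pow, QuotientGroup.eq_one_iff]
    exact hcen
  have hle : orderOf (QuotientGroup.mk ω : Cfsg.POmega F ⇑Q) ≤ N :=
    Nat.le_of_dvd hN (orderOf_dvd_of_pow_eq_one hone)
  calc (Fintype.card F - 1) * orderOf (QuotientGroup.mk ω : Cfsg.POmega F ⇑Q)
      ≤ (Fintype.card F - 1) * N := Nat.mul_le_mul_left _ hle
    _ ≤ Fintype.card F ^ (m + 1) := hb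

end

end Cfsg.Agent.S2264P
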