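import Mathlib
import Cfsg.Agent.Helper29.S2482CDefs
import Cfsg.Agent.Helper29.S2482WEVGF

/-! S2482 chapter (C), piece NUM: `5 * ASp q r n ≤ 54 * q^n` for odd `q ≥ 3`.

Induction on `r` in `ℚ` (helper20's technique for `AU`): `ASp q r n ≤ C_r q^n`, `C_1 = 1`,
`C_{r+1} = C_r * godd q r` (`r + 1` odd) resp. `C_r * gev q r` (`r + 1` even), and the invariant
`C_{2i} ≤ K (1 - 3 / q^i)`, `K = 54/5`. -/

set_option autoImplicit false
set_option linter.unusedVariables false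

namespace Cfsg.Agent.S2482P

namespace NUM

theorem ASp_zero (q n : ℕ) : ASp q 0 n = if n = 0 then 1 else 0 := by
  rw [ASp]

theorem ASp_succ_even (q r n : ℕ) (h : Even (r + 1)) : ASp q (r + 1) n =
    ∑ b ∈ Finset.range (n / ((r + 1) / 2) + 1), Wev q b * ASp q r (n - (r + 1) / 2 * b) := by
  rw [ASp, if_pos h]

theorem ASp_succ_odd (q r n : ℕ) (h : ¬ Even (r + 1)) : ASp q (r + 1) n =
    ∑ a ∈ Finset.range (n / (r + 1) + 1), q ^ a * ASp q r (n - (r + 1) * a) := by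
  rw [ASp, if_neg h]

theorem ASp_zero_le (q n : ℕ) : ASp q 0 n ≤ 1 := by
  rw [ASp_zero]
  split_ifs <;> omega

theorem ASp_one (q n : ℕ) : ASp q 1 n = q ^ n := by
  have h := ASp_succ_odd q 0 n (by decide)
  rw [zero_add] at h
  rw [h, Finset.sum_eq_single n]
  · rw [one_mul, Nat.sub_self, ASp_zero, if_pos rfl, mul_one]
  · intro a ha hne
    rw [Finset.mem_range, Nat.div_one] at ha
    have : n - 1 * a ≠ 0 := by omega
    rw [ASp_zero, if_neg this, mul_zero]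
  · intro h
    exfalso
    apply h
    rw [Finset.mem_range, Nat.div_one]
    omega

/-- the geometric series -/
theorem geom_le (x : ℚ) (hx0 : 0 ≤ x) (hx1 : x < 1) (M : ℕ) :
    ∑ a ∈ Finset.range M, x ^ a ≤ 1 / (1 - x) := by
  have h := geom_sum_mul_neg x M
  have hpos : 0 < 1 - x := by linarith
  rw [le_div_iff₀ hpos, h]
  have : 0 ≤ x ^ M := pow_nonneg hx0 M
  linarith

/-- multiplier of an odd step `r → r + 1` -/
noncomputable def godd (q r : ℕ) : ℚ := 1 / (1 - (1 / (q : ℚ)) ^ r)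

/-- multiplier of an even step `r → r + 1` -/
noncomputable def gev (q r : ℕ) : ℚ :=
  (1 + (1 / (q : ℚ)) ^ ((r + 1) / 2)) ^ 4 / (1 - q * ((1 / (q : ℚ)) ^ ((r + 1) / 2)) ^ 2)

theorem x_pow_lt_one (q r : ℕ) (hq : 2 ≤ q) (hr : 1 ≤ r) : (1 / (q : ℚ)) ^ r < 1 := by
  have hq1 : (2 : ℚ) ≤ q := by exact_mod_cast hq
  have h0 : (0 : ℚ) ≤ 1 / (q : ℚ) := by positivity
  have h1 : (1 / (q : ℚ)) < 1 := by
    rw [div_lt_one (by linarith)]
    linarith
  exact pow_lt_one₀ h0 h1 (by omega)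

theorem godd_nonneg (q r : ℕ) (hq : 2 ≤ q) (hr : 1 ≤ r) : 0 ≤ godd q r := by
  unfold godd
  have := x_pow_lt_one q r hq hr
  apply div_nonneg zero_le_one
  linarith

theorem qy2 (q i : ℕ) (hq : 2 ≤ q) (hi : 1 ≤ i) :
    (q : ℚ) * ((1 / (q : ℚ)) ^ i) ^ 2 = (1 / (q : ℚ)) ^ (2 * i - 1) := by
  have hq1 : (2 : ℚ) ≤ q := by exact_mod_cast hq
  have hq0 : (q : ℚ) ≠ 0 := by linarith
  obtain ⟨j, rfl⟩ : ∃ j, i = j + 1 := ⟨i - 1, by omega⟩
  have e : 2 * (j + 1) - 1 = 2 * j + 1 := by omega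
  rw [e, ← pow_mul, show (j + 1) * 2 = (2 * j + 1) + 1 by ring, pow_succ (1 / (q : ℚ)) (2 * j + 1)]
  field_simp

theorem qy2_lt_one (q i : ℕ) (hq : 2 ≤ q) (hi : 1 ≤ i) :
    (q : ℚ) * ((1 / (q : ℚ)) ^ i) ^ 2 < 1 := by
  rw [qy2 q i hq hi]
  exact x_pow_lt_one q _ hq (by omega)

theorem gev_nonneg (q r : ℕ) (hq : 2 ≤ q) (hr : 1 ≤ r) : 0 ≤ gev q r := by
  unfold gev
  have := qy2_lt_one q ((r + 1) / 2) hq (by omega)
  apply div_nonneg
  · positivity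
  · linarith

/-- the odd step -/
theorem step_odd (q r : ℕ) (hq : 2 ≤ q) (hr : 1 ≤ r) (hodd : ¬ Even (r + 1)) (C : ℚ) (hC : 0 ≤ C)
    (h : ∀ m, (ASp q r m : ℚ) ≤ C * (q : ℚ) ^ m) (n : ℕ) :
    (ASp q (r + 1) n : ℚ) ≤ C * godd q r * (q : ℚ) ^ n := by
  have hq1 : (2 : ℚ) ≤ q := by exact_mod_cast hq
  have hq0 : (q : ℚ) ≠ 0 := by linarith
  set x : ℚ := (1 / (q : ℚ)) ^ r with hx
  have hx0 : 0 ≤ x := by rw [hx]; positivity
  have hx1 : x < 1 := x_pow_lt_one q r hq hr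
  rw [ASp_succ_odd q r n hodd]
  push_cast
  have h1 : ∑ a ∈ Finset.range (n / (r + 1) + 1), (q : ℚ) ^ a * (ASp q r (n - (r + 1) * a) : ℚ) ≤
      ∑ a ∈ Finset.range (n / (r + 1) + 1), C * (q : ℚ) ^ n * x ^ a := by
    apply Finset.sum_le_sum
    intro a ha
    rw [Finset.mem_range] at ha
    have ha' : (r + 1) * a ≤ n := by
      have : a ≤ n / (r + 1) := by omega
      have := (Nat.le_div_iff_mul_le (Nat.succ_pos r)).mp this
      rw [mul_comm]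
      exact this
    obtain ⟨e, rfl⟩ : ∃ e, n = e + (r + 1) * a := ⟨n - (r + 1) * a, by omega⟩
    rw [Nat.add_sub_cancel]
    calc (q : ℚ) ^ a * (ASp q r e : ℚ) ≤ (q : ℚ) ^ a * (C * (q : ℚ) ^ e) :=
          mul_le_mul_of_nonneg_left (h e) (by positivity)
      _ = C * (q : ℚ) ^ (e + (r + 1) * a) * x ^ a := by
          rw [hx, ← pow_mul, one_div_pow, pow_add, show (r + 1) * a = r * a + a by ring, pow_add]
          field_simp
  refine h1.trans ?_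
  rw [← Finset.mul_sum]
  have h3 := geom_le x hx0 hx1 (n / (r + 1) + 1)
  have hcoef : 0 ≤ C * (q : ℚ) ^ n := by positivity
  calc C * (q : ℚ) ^ n * ∑ a ∈ Finset.range (n / (r + 1) + 1), x ^ a
      ≤ C * (q : ℚ) ^ n * (1 / (1 - x)) := mul_le_mul_of_nonneg_left h3 hcoef
    _ = C * godd q r * (q : ℚ) ^ n := by
        unfold godd
        ring

/-- the even step -/
theorem step_even (q r : ℕ) (hq : 2 ≤ q) (hr : 1 ≤ r) (heven : Even (r + 1)) (C : ℚ) (hC : 0 ≤ C)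
    (h : ∀ m, (ASp q r m : ℚ) ≤ C * (q : ℚ) ^ m) (n : ℕ) :
    (ASp q (r + 1) n : ℚ) ≤ C * gev q r * (q : ℚ) ^ n := by
  have hq1 : (2 : ℚ) ≤ q := by exact_mod_cast hq
  have hq0 : (q : ℚ) ≠ 0 := by linarith
  set i := (r + 1) / 2 with hi
  have hi1 : 1 ≤ i := by omega
  set y : ℚ := (1 / (q : ℚ)) ^ i with hy
  have hy0 : 0 ≤ y := by rw [hy]; positivity
  have hy1 : (q : ℚ) * y ^ 2 < 1 := qy2_lt_one q i hq hi1
  rw [ASp_succ_even q r n heven]
  push_cast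
  have h1 : ∑ b ∈ Finset.range (n / i + 1), (Wev q b : ℚ) * (ASp q r (n - i * b) : ℚ) ≤
      ∑ b ∈ Finset.range (n / i + 1), C * (q : ℚ) ^ n * ((Wev q b : ℚ) * y ^ b) := by
    apply Finset.sum_le_sum
    intro b hb
    rw [Finset.mem_range] at hb
    have hb' : i * b ≤ n := by
      have : b ≤ n / i := by omega
      have := (Nat.le_div_iff_mul_le (by omega : 0 < i)).mp this
      rw [mul_comm]
      exact this
    obtain ⟨e, he⟩ : ∃ e, n = e + i * b := ⟨n - i * b, by omega⟩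
    rw [he, Nat.add_sub_cancel]
    calc (Wev q b : ℚ) * (ASp q r e : ℚ) ≤ (Wev q b : ℚ) * (C * (q : ℚ) ^ e) :=
          mul_le_mul_of_nonneg_left (h e) (by positivity)
      _ = C * (q : ℚ) ^ (e + i * b) * ((Wev q b : ℚ) * y ^ b) := by
          rw [hy, ← pow_mul, one_div_pow, pow_add]
          field_simp
  refine h1.trans ?_
  rw [← Finset.mul_sum]
  have h3 := WEVGF.wev_gf q y hy0 hy1 (n / i + 1)
  have hcoef : 0 ≤ C * (q : ℚ) ^ n := by positivity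
  calc C * (q : ℚ) ^ n * ∑ b ∈ Finset.range (n / i + 1), (Wev q b : ℚ) * y ^ b
      ≤ C * (q : ℚ) ^ n * ((1 + y) ^ 4 / (1 - q * y ^ 2)) := mul_le_mul_of_nonneg_left h3 hcoef
    _ = C * gev q r * (q : ℚ) ^ n := by
        unfold gev
        ring

/-- the polynomial inequality behind the invariant -/
theorem poly_ineq (x y : ℚ) (hx0 : 0 < x) (hx : x ≤ 1 / 3) (hy0 : 0 < y) (hy : y ≤ x) :
    (1 - 3 * y) * (1 + x * y) ^ 4 ≤ (1 - 3 * (x * y)) * (1 - y ^ 2) * (1 - x * y ^ 2) := by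
  set z := x * y with hz
  have hz0 : 0 < z := mul_pos hx0 hy0
  have hz1 : z ≤ 1 / 9 := by
    have : x * y ≤ (1 / 3) * (1 / 3) := mul_le_mul hx (hy.trans hx) hy0.le (by norm_num)
    linarith
  have h1 : (1 + z) ^ 4 ≤ 1 + 4 * z + 7 * z ^ 2 := by
    have : (1 + z) ^ 4 = 1 + 4 * z + 6 * z ^ 2 + z ^ 2 * (4 * z + z ^ 2) := by ring
    rw [this]
    have h2 : 4 * z + z ^ 2 ≤ 1 := by nlinarith
    have h3 : z ^ 2 * (4 * z + z ^ 2) ≤ z ^ 2 * 1 := mul_le_mul_of_nonneg_left h2 (by positivity)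
    linarith
  have h3y : 0 ≤ 1 - 3 * y := by linarith [hy.trans hx]
  have hL : (1 - 3 * y) * (1 + z) ^ 4 ≤ (1 - 3 * y) * (1 + 4 * z + 7 * z ^ 2) :=
    mul_le_mul_of_nonneg_left h1 h3y
  refine hL.trans ?_
  -- the right hand side
  have hw0 : 0 ≤ y ^ 2 + x * y ^ 2 := by positivity
  have hR : 1 - 3 * z - (y ^ 2 + x * y ^ 2) ≤ (1 - 3 * z) * (1 - y ^ 2) * (1 - x * y ^ 2) := by
    have e : (1 - 3 * z) * (1 - y ^ 2) * (1 - x * y ^ 2) =
        1 - 3 * z - (y ^ 2 + x * y ^ 2) + (3 * z * (y ^ 2 + x * y ^ 2) + (1 - 3 * z) * (x * y ^ 4)) := by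
      ring
    rw [e]
    have : 0 ≤ 3 * z * (y ^ 2 + x * y ^ 2) + (1 - 3 * z) * (x * y ^ 4) := by
      have : 0 ≤ 1 - 3 * z := by linarith
      positivity
    linarith
  refine le_trans ?_ hR
  -- `y * (3 - 7x - y + 11 x y - 7 x^2 y + 21 x^2 y^2) ≥ 0`
  have e : 1 - 3 * z - (y ^ 2 + x * y ^ 2) - (1 - 3 * y) * (1 + 4 * z + 7 * z ^ 2) =
      y * ((3 - 7 * x - y) + x * y * (11 - 7 * x) + 21 * x ^ 2 * y ^ 2) := by
    rw [hz]
    ring
  have hpos : 0 ≤ y * ((3 - 7 * x - y) + x * y * (11 - 7 * x) + 21 * x ^ 2 * y ^ 2) := by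
    apply mul_nonneg hy0.le
    have a1 : 0 ≤ 3 - 7 * x - y := by linarith
    have a2 : 0 ≤ x * y * (11 - 7 * x) := by
      have : 0 ≤ 11 - 7 * x := by linarith
      positivity
    have a3 : 0 ≤ 21 * x ^ 2 * y ^ 2 := by positivity
    linarith
  linarith

/-- the invariant is preserved by an odd step followed by an even step -/
theorem inv_step (q i : ℕ) (hq : 3 ≤ q) (hi : 1 ≤ i) (K C : ℚ) (hK : 0 ≤ K) (hC0 : 0 ≤ C)
    (hC : C ≤ K * (1 - 3 * (1 / (q : ℚ)) ^ i)) :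
    C * godd q (2 * i) * gev q (2 * i + 1) ≤ K * (1 - 3 * (1 / (q : ℚ)) ^ (i + 1)) := by
  have hq1 : (3 : ℚ) ≤ q := by exact_mod_cast hq
  have hq0 : (q : ℚ) ≠ 0 := by linarith
  set x : ℚ := 1 / (q : ℚ) with hx
  have hx0 : 0 < x := by rw [hx]; positivity
  have hx3 : x ≤ 1 / 3 := by
    rw [hx]
    apply one_div_le_one_div_of_le (by norm_num) hq1
  set y : ℚ := x ^ i with hy
  have hy0 : 0 < y := by rw [hy]; positivity
  have hyx : y ≤ x := by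
    rw [hy]
    calc x ^ i ≤ x ^ 1 := pow_le_pow_of_le_one hx0.le (by linarith) hi
      _ = x := pow_one x
  have e1 : godd q (2 * i) = 1 / (1 - y ^ 2) := by
    unfold godd
    rw [hy, ← pow_mul, mul_comm i 2]
  have hidx : (2 * i + 1 + 1) / 2 = i + 1 := by omega
  have e3 : x ^ (i + 1) = x * y := by rw [pow_succ, mul_comm]
  have e4 : (q : ℚ) * (x * y) ^ 2 = x * y ^ 2 := by
    have : (q : ℚ) * x = 1 := by rw [hx]; field_simp
    calc (q : ℚ) * (x * y) ^ 2 = ((q : ℚ) * x) * (x * y ^ 2) := by ring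
      _ = x * y ^ 2 := by rw [this, one_mul]
  have e2 : gev q (2 * i + 1) = (1 + x * y) ^ 4 / (1 - x * y ^ 2) := by
    unfold gev
    rw [hidx, e3, e4]
  rw [e1, e2, e3]
  have hy2 : 0 < 1 - y ^ 2 := by nlinarith
  have hxy2 : 0 < 1 - x * y ^ 2 := by nlinarith
  have hg : 0 ≤ 1 / (1 - y ^ 2) * ((1 + x * y) ^ 4 / (1 - x * y ^ 2)) := by positivity
  calc C * (1 / (1 - y ^ 2)) * ((1 + x * y) ^ 4 / (1 - x * y ^ 2))
      = C * (1 / (1 - y ^ 2) * ((1 + x * y) ^ 4 / (1 - x * y ^ 2))) := by ring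
    _ ≤ K * (1 - 3 * y) * (1 / (1 - y ^ 2) * ((1 + x * y) ^ 4 / (1 - x * y ^ 2))) :=
        mul_le_mul_of_nonneg_right hC hg
    _ = K * (((1 - 3 * y) * (1 + x * y) ^ 4) / ((1 - y ^ 2) * (1 - x * y ^ 2))) := by
        field_simp
    _ ≤ K * (1 - 3 * (x * y)) := by
        apply mul_le_mul_of_nonneg_left _ hK
        rw [div_le_iff₀ (mul_pos hy2 hxy2)]
        have := poly_ineq x y hx0 hx3 hy0 hyx
        linarith

/-- the constant -/
def K : ℚ := 54 / 5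

/-- the invariant `P i`: after the steps `m ≤ 2 i` -/
def P (q i : ℕ) : Prop :=
  ∃ C : ℚ, 0 ≤ C ∧ C ≤ K * (1 - 3 * (1 / (q : ℚ)) ^ i) ∧ ∀ n, (ASp q (2 * i) n : ℚ) ≤ C * (q : ℚ) ^ n

theorem P_succ (q i : ℕ) (hq : 3 ≤ q) (hi : 1 ≤ i) (h : P q i) : P q (i + 1) := by
  obtain ⟨C, hC0, hC, hb⟩ := h
  have hodd : ¬ Even (2 * i + 1) := by
    intro h
    rcases h with ⟨k, hk⟩
    omega
  have heven : Even (2 * i + 1 + 1) := ⟨i + 1, by ring⟩
  have h1 := step_odd q (2 * i) (by omega) (by omega) hodd C hC0 hb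
  have hg1 : 0 ≤ C * godd q (2 * i) := mul_nonneg hC0 (godd_nonneg q _ (by omega) (by omega))
  have h2 := step_even q (2 * i + 1) (by omega) (by omega) heven _ hg1 h1
  refine ⟨C * godd q (2 * i) * gev q (2 * i + 1),
    mul_nonneg hg1 (gev_nonneg q _ (by omega) (by omega)), ?_, ?_⟩
  · exact inv_step q i hq hi K C (by norm_num [K]) hC0 hC
  · intro n
    have := h2 n
    rw [show 2 * (i + 1) = 2 * i + 1 + 1 by ring]
    exact this

theorem P_of_le (q i0 : ℕ) (hq : 3 ≤ q) (hi0 : 1 ≤ i0) (h0 : P q i0) (i : ℕ) (hi : i0 ≤ i) : P q i := by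
  induction i, hi using Nat.le_induction with
  | base => exact h0
  | succ i hi ih => exact P_succ q i hq (by omega) ih

/-- the bound for even `r = 2 i` from the invariant -/
theorem bound_even (q i : ℕ) (hq : 3 ≤ q) (h : P q i) (n : ℕ) :
    (ASp q (2 * i) n : ℚ) ≤ K * (q : ℚ) ^ n := by
  obtain ⟨C, hC0, hC, hb⟩ := h
  refine (hb n).trans ?_
  have hq1 : (3 : ℚ) ≤ q := by exact_mod_cast hq
  have hpos : (0 : ℚ) ≤ (q : ℚ) ^ n := by positivity
  apply mul_le_mul_of_nonneg_right _ hpos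
  have hx : (0 : ℚ) ≤ 3 * (1 / (q : ℚ)) ^ i := by positivity
  have hK : (0 : ℚ) ≤ K := by norm_num [K]
  nlinarith

/-- the bound for odd `r = 2 i + 1` from the invariant -/
theorem bound_odd (q i : ℕ) (hq : 3 ≤ q) (hi : 1 ≤ i) (h : P q i) (n : ℕ) :
    (ASp q (2 * i + 1) n : ℚ) ≤ K * (q : ℚ) ^ n := by
  obtain ⟨C, hC0, hC, hb⟩ := h
  have hodd : ¬ Even (2 * i + 1) := by
    intro h
    rcases h with ⟨k, hk⟩
    omega
  have h1 := step_odd q (2 * i) (by omega) (by omega) hodd C hC0 hb n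
  refine h1.trans ?_
  have hq1 : (3 : ℚ) ≤ q := by exact_mod_cast hq
  have hpos : (0 : ℚ) ≤ (q : ℚ) ^ n := by positivity
  apply mul_le_mul_of_nonneg_right _ hpos
  -- `C / (1 - y^2) ≤ K (1 - 3 y) / (1 - y^2) ≤ K`
  have hx0 : (0 : ℚ) < 1 / (q : ℚ) := by positivity
  have hx3 : 1 / (q : ℚ) ≤ 1 / 3 := one_div_le_one_div_of_le (by norm_num) hq1
  have hy0 : 0 < (1 / (q : ℚ)) ^ i := by positivity
  have hy1 : (1 / (q : ℚ)) ^ i ≤ 1 / 3 := by
    calc (1 / (q : ℚ)) ^ i ≤ (1 / (q : ℚ)) ^ 1 := pow_le_pow_of_le_one hx0.le (by linarith) hi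
      _ = 1 / (q : ℚ) := pow_one _
      _ ≤ 1 / 3 := hx3
  have e1 : godd q (2 * i) = 1 / (1 - ((1 / (q : ℚ)) ^ i) ^ 2) := by
    unfold godd
    rw [← pow_mul, mul_comm i 2]
  rw [e1]
  generalize (1 / (q : ℚ)) ^ i = y at *
  have hy2 : 0 < 1 - y ^ 2 := by nlinarith
  rw [mul_one_div, div_le_iff₀ hy2]
  have hK : (0 : ℚ) ≤ K := by norm_num [K]
  nlinarith

/-- `q ≥ 5`: the invariant holds from `i = 1` on -/
theorem P_one (q : ℕ) (hq : 5 ≤ q) : P q 1 := by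
  have hq1 : (5 : ℚ) ≤ q := by exact_mod_cast hq
  have hq0 : (q : ℚ) ≠ 0 := by linarith
  have h1 : ∀ m, (ASp q 1 m : ℚ) ≤ 1 * (q : ℚ) ^ m := by
    intro m
    rw [ASp_one, one_mul]
    push_cast
    exact le_rfl
  have h2 := step_even q 1 (by omega) le_rfl (by decide) 1 zero_le_one h1
  refine ⟨1 * gev q 1, by rw [one_mul]; exact gev_nonneg q 1 (by omega) le_rfl, ?_, ?_⟩
  · rw [one_mul, pow_one]
    unfold gev K
    norm_num
    have hx0 : (0 : ℚ) < (q : ℚ)⁻¹ := by positivity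
    have hx5 : (q : ℚ)⁻¹ ≤ 1 / 5 := by
      rw [inv_eq_one_div]
      exact one_div_le_one_div_of_le (by norm_num) hq1
    have e : (q : ℚ) * ((q : ℚ) ^ 2)⁻¹ = (q : ℚ)⁻¹ := by field_simp
    rw [e]
    generalize (q : ℚ)⁻¹ = x at *
    have hden : 0 < 1 - x := by linarith
    rw [div_le_iff₀ hden]
    -- `(1+x)^4 ≤ (6/5)^4` and `(1 - 3x)(1 - x) ≥ 8/25`
    have a1 : (1 + x) ^ 4 ≤ (6 / 5) ^ 4 := pow_le_pow_left₀ (by linarith) (by linarith) 4
    have a2 : (8 : ℚ) / 25 ≤ (1 - 3 * x) * (1 - x) := by nlinarith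
    nlinarith
  · intro n
    exact h2 n

theorem ge5_all (q : ℕ) (hq : 5 ≤ q) (r n : ℕ) : (ASp q r n : ℚ) ≤ K * (q : ℚ) ^ n := by
  have hq1 : (5 : ℚ) ≤ q := by exact_mod_cast hq
  have hpow : (1 : ℚ) ≤ (q : ℚ) ^ n := one_le_pow₀ (by linarith)
  have hK : (1 : ℚ) ≤ K := by norm_num [K]
  rcases Nat.even_or_odd' r with ⟨i, rfl | rfl⟩
  · rcases Nat.eq_zero_or_pos i with rfl | hi
    · have : (ASp q (2 * 0) n : ℚ) ≤ 1 := by exact_mod_cast ASp_zero_le q n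
      nlinarith
    · exact bound_even q i (by omega) (P_of_le q 1 (by omega) le_rfl (P_one q hq) i hi) n
  · rcases Nat.eq_zero_or_pos i with rfl | hi
    · rw [show 2 * 0 + 1 = 1 from rfl, ASp_one]
      push_cast
      nlinarith
    · exact bound_odd q i (by omega) hi (P_of_le q 1 (by omega) le_rfl (P_one q hq) i hi) n

/-- `q = 3`: the explicit chain up to `r = 10` -/
theorem three_chain :
    (∀ n, (ASp 3 1 n : ℚ) ≤ 1 * ((3 : ℕ) : ℚ) ^ n) ∧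
    (∀ n, (ASp 3 2 n : ℚ) ≤ 1 * gev 3 1 * ((3 : ℕ) : ℚ) ^ n) ∧
    (∀ n, (ASp 3 3 n : ℚ) ≤ 1 * gev 3 1 * godd 3 2 * ((3 : ℕ) : ℚ) ^ n) ∧
    (∀ n, (ASp 3 4 n : ℚ) ≤ 1 * gev 3 1 * godd 3 2 * gev 3 3 * ((3 : ℕ) : ℚ) ^ n) ∧
    (∀ n, (ASp 3 5 n : ℚ) ≤ 1 * gev 3 1 * godd 3 2 * gev 3 3 * godd 3 4 * ((3 : ℕ) : ℚ) ^ n) ∧
    (∀ n, (ASp 3 6 n : ℚ) ≤
      1 * gev 3 1 * godd 3 2 * gev 3 3 * godd 3 4 * gev 3 5 * ((3 : ℕ) : ℚ) ^ n) ∧
    (∀ n, (ASp 3 7 n : ℚ) ≤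
      1 * gev 3 1 * godd 3 2 * gev 3 3 * godd 3 4 * gev 3 5 * godd 3 6 * ((3 : ℕ) : ℚ) ^ n) ∧
    (∀ n, (ASp 3 8 n : ℚ) ≤
      1 * gev 3 1 * godd 3 2 * gev 3 3 * godd 3 4 * gev 3 5 * godd 3 6 * gev 3 7 *
        ((3 : ℕ) : ℚ) ^ n) ∧
    (∀ n, (ASp 3 9 n : ℚ) ≤
      1 * gev 3 1 * godd 3 2 * gev 3 3 * godd 3 4 * gev 3 5 * godd 3 6 * gev 3 7 * godd 3 8 *
        ((3 : ℕ) : ℚ) ^ n) ∧
    (∀ n, (ASp 3 10 n : ℚ) ≤
      1 * gev 3 1 * godd 3 2 * gev 3 3 * godd 3 4 * gev 3 5 * godd 3 6 * gev 3 7 * godd 3 8 *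
        gev 3 9 * ((3 : ℕ) : ℚ) ^ n) := by
  have h1 : ∀ m, (ASp 3 1 m : ℚ) ≤ 1 * ((3 : ℕ) : ℚ) ^ m := by
    intro m
    rw [ASp_one, one_mul]
    push_cast
    exact le_rfl
  have h2 := step_even 3 1 (by norm_num) le_rfl (by decide) 1 zero_le_one h1
  have h3 := step_odd 3 2 (by norm_num) (by norm_num) (by decide) _ (by norm_num [gev]) h2
  have h4 := step_even 3 3 (by norm_num) (by norm_num) (by decide) _ (by norm_num [gev, godd]) h3
  have h5 := step_odd 3 4 (by norm_num) (by norm_num) (by decide) _ (by norm_num [gev, godd]) h4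
  have h6 := step_even 3 5 (by norm_num) (by norm_num) (by decide) _ (by norm_num [gev, godd]) h5
  have h7 := step_odd 3 6 (by norm_num) (by norm_num) (by decide) _ (by norm_num [gev, godd]) h6
  have h8 := step_even 3 7 (by norm_num) (by norm_num) (by decide) _ (by norm_num [gev, godd]) h7
  have h9 := step_odd 3 8 (by norm_num) (by norm_num) (by decide) _ (by norm_num [gev, godd]) h8
  have h10 := step_even 3 9 (by norm_num) (by norm_num) (by decide) _ (by norm_num [gev, godd]) h9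
  exact ⟨h1, h2, h3, h4, h5, h6, h7, h8, h9, h10⟩

theorem P_three_five : P 3 5 := by
  obtain ⟨-, -, -, -, -, -, -, -, -, h10⟩ := three_chain
  refine ⟨_, ?_, ?_, h10⟩
  · norm_num [gev, godd]
  · norm_num [gev, godd, K]

theorem three_all (r n : ℕ) : (ASp 3 r n : ℚ) ≤ K * ((3 : ℕ) : ℚ) ^ n := by
  have hpow : (1 : ℚ) ≤ ((3 : ℕ) : ℚ) ^ n := one_le_pow₀ (by norm_num)
  have hpos : (0 : ℚ) ≤ ((3 : ℕ) : ℚ) ^ n := by positivity
  rcases Nat.lt_or_ge r 10 with hr | hr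
  · obtain ⟨h1, h2, h3, h4, h5, h6, h7, h8, h9, -⟩ := three_chain
    interval_cases r
    · have : (ASp 3 0 n : ℚ) ≤ 1 := by exact_mod_cast ASp_zero_le 3 n
      have hK : (1 : ℚ) ≤ K := by norm_num [K]
      nlinarith
    · exact (h1 n).trans (mul_le_mul_of_nonneg_right (by norm_num [K]) hpos)
    · exact (h2 n).trans (mul_le_mul_of_nonneg_right (by norm_num [K, gev, godd]) hpos)
    · exact (h3 n).trans (mul_le_mul_of_nonneg_right (by norm_num [K, gev, godd]) hpos)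
    · exact (h4 n).trans (mul_le_mul_of_nonneg_right (by norm_num [K, gev, godd]) hpos)
    · exact (h5 n).trans (mul_le_mul_of_nonneg_right (by norm_num [K, gev, godd]) hpos)
    · exact (h6 n).trans (mul_le_mul_of_nonneg_right (by norm_num [K, gev, godd]) hpos)
    · exact (h7 n).trans (mul_le_mul_of_nonneg_right (by norm_num [K, gev, godd]) hpos)
    · exact (h8 n).trans (mul_le_mul_of_nonneg_right (by norm_num [K, gev, godd]) hpos)
    · exact (h9 n).trans (mul_le_mul_of_nonneg_right (by norm_num [K, gev, godd]) hpos)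
  · rcases Nat.even_or_odd' r with ⟨i, rfl | rfl⟩
    · exact bound_even 3 i le_rfl (P_of_le 3 5 le_rfl (by norm_num) P_three_five i (by omega)) n
    · exact bound_odd 3 i le_rfl (by omega)
        (P_of_le 3 5 le_rfl (by norm_num) P_three_five i (by omega)) n

end NUM

open NUM in
theorem NUM.ASp_bound (q : ℕ) (hq : 3 ≤ q) (hodd : Odd q) (r n : ℕ) :
    5 * ASp q r n ≤ 54 * q ^ n := by
  have hmain : (ASp q r n : ℚ) ≤ K * (q : ℚ) ^ n := by
    rcases Nat.lt_or_ge q 5 with h5 | h5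
    · have hq3 : q = 3 := by
        rcases hodd with ⟨k, hk⟩
        omega
      subst hq3
      exact three_all r n
    · exact ge5_all q h5 r n
  have h2 : ((5 * ASp q r n : ℕ) : ℚ) ≤ ((54 * q ^ n : ℕ) : ℚ) := by
    push_cast
    unfold K at hmain
    linarith
  exact_mod_cast h2

end Cfsg.Agent.S2482P
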