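import Mathlib
import Cfsg.Agent.Helper29.S2482CDefs
import Cfsg.Agent.Helper29.S2482NUM
import Cfsg.Agent.Helper29.S2482COUNTSSP

/-! S2482 chapter (C) COUNT, deliverable: `5 * #SSp F r n ≤ 54 * q^n` (`q` odd). -/

set_option autoImplicit false

namespace Cfsg.Agent.S2482P

universe u

theorem card_SSp_le {F : Type u} [Field F] [Fintype F] (hodd : Odd (Fintype.card F)) (r n : ℕ) :
    (SSp F r n).Finite ∧ 5 * Nat.card (SSp F r n) ≤ 54 * Fintype.card F ^ n := by
  have h := COUNTSSP.card_SSp hodd r n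
  refine ⟨h.1, ?_⟩
  rw [h.2]
  have hq : 3 ≤ Fintype.card F := by
    have h1 : 1 < Fintype.card F := Fintype.one_lt_card
    rcases hodd with ⟨k, hk⟩
    omega
  exact NUM.ASp_bound _ hq hodd r n

end Cfsg.Agent.S2482P
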