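import Mathlib
import Cfsg.Agent.Helper4.S2560FIBRE
import Cfsg.Agent.Helper4.S2560NEGSYM

/-! S2560: the abstract assembly of chapter (W) (helper29). `H ⊴ G`, `H ≤ K`, `K = H ∪ z⁻¹ H` of index `≤ 2`, `z ∈ K \ H`
central; a relation `Rel g x` (`x` = the data of `g`) which is total and determines the class; for the elements with
`C_G(g) ≤ K` the part `π x` of the data determines the data. Then
`8 k(H) ≤ 4 #{data of the elements of K} + 4 #{π-parts of the data of the elements with C_G(g) ≤ K}`. -/

set_option autoImplicit false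

namespace Cfsg.Agent.S2560P

namespace ABS

variable {G : Type*} [Group G]

theorem mk_mul_central (z : G) (hz : z ∈ Subgroup.center G) (x y : G)
    (h : ConjClasses.mk y = ConjClasses.mk (z * x)) :
    ∃ x', ConjClasses.mk x' = ConjClasses.mk x ∧ y = z * x' := by
  rw [ConjClasses.mk_eq_mk_iff_isConj, isConj_iff] at h
  obtain ⟨c, hc⟩ := h
  rw [Subgroup.mem_center_iff] at hz
  refine ⟨c⁻¹ * x * c, ?_, ?_⟩
  · rw [ConjClasses.mk_eq_mk_iff_isConj, isConj_iff]
    exact ⟨c, by group⟩
  · have h1 : y = c⁻¹ * (z * x) * c := by rw [← hc]; group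
    rw [h1]
    have : c⁻¹ * (z * x) * c = (c⁻¹ * z) * x * c := by group
    rw [this, hz c⁻¹]
    group

theorem centralizer_mul_central (z : G) (hz : z ∈ Subgroup.center G) (x : G) :
    Subgroup.centralizer {z * x} = Subgroup.centralizer {x} := by
  rw [Subgroup.mem_center_iff] at hz
  ext g
  simp only [Subgroup.mem_centralizer_iff, Set.mem_singleton_iff, forall_eq]
  constructor
  · intro h
    have h1 : z * (x * g) = z * (g * x) := by
      calc z * (x * g) = z * x * g := by group
        _ = g * (z * x) := h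
        _ = (g * z) * x := by group
        _ = (z * g) * x := by rw [hz g]
        _ = z * (g * x) := by group
    exact mul_left_cancel h1
  · intro h
    calc z * x * g = z * (x * g) := by group
      _ = z * (g * x) := by rw [h]
      _ = (z * g) * x := by group
      _ = (g * z) * x := by rw [hz g]
      _ = g * (z * x) := by group

end ABS

open ABS in
theorem ABS.eight_card_le {G : Type*} [Group G] [Finite G] (H K : Subgroup G) [H.Normal] (z : G)
    (hz : z ∈ Subgroup.center G) (hzH : z ∉ H) (hHK : H ≤ K) (hzK : z ∈ K)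
    (hK : ∀ g ∈ K, g ∈ H ∨ z * g ∈ H) (hidx : ∀ g₁ g₂ : G, g₁ ∉ K → g₂ ∉ K → g₁ * g₂ ∈ K)
    {D T : Type*} (Rel : G → D → Prop) (π : D → T)
    (hex : ∀ g, ∃ x, Rel g x)
    (hinj : ∀ g g' x, Rel g x → Rel g' x → IsConj g g')
    (hsplit : ∀ g g' x x', Subgroup.centralizer {g} ≤ K → Subgroup.centralizer {g'} ≤ K →
      Rel g x → Rel g' x' → π x = π x' → x = x')
    (hfK : {x : D | ∃ g ∈ K, Rel g x}.Finite)
    (hfS : {t : T | ∃ g x, Subgroup.centralizer {g} ≤ K ∧ Rel g x ∧ π x = t}.Finite) :
    8 * Nat.card (ConjClasses H) ≤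
      4 * Nat.card {x : D | ∃ g ∈ K, Rel g x} +
      4 * Nat.card {t : T | ∃ g x, Subgroup.centralizer {g} ≤ K ∧ Rel g x ∧ π x = t} := by
  classical
  have hfib := FIBRE.card_conjClasses_le H K z hz hK hidx
  -- first translation symmetry
  have hn1 := NEGSYM.two_mul_card_le H z hz hzH (fun c => ∀ x : G, ConjClasses.mk x = c → x ∈ K)
    (by
      intro x hx y hy
      obtain ⟨x', hx', rfl⟩ := mk_mul_central z hz x y hy
      exact K.mul_mem hzK (hx x' hx'))
  -- second translation symmetry
  have hn2 := NEGSYM.two_mul_card_le H z hz hzH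
    (fun c => ∀ x : G, ConjClasses.mk x = c → Subgroup.centralizer {x} ≤ K)
    (by
      intro x hx y hy
      obtain ⟨x', hx', rfl⟩ := mk_mul_central z hz x y hy
      rw [centralizer_mul_central z hz]
      exact hx x' hx')
  have e1 : Nat.card {c : ConjClasses G // (∀ x : G, ConjClasses.mk x = c → x ∈ H) ∧
      ∀ x : G, ConjClasses.mk x = c → x ∈ K} =
      Nat.card {c : ConjClasses G // ∀ x : G, ConjClasses.mk x = c → x ∈ H} := by
    apply Nat.card_congr
    exact Equiv.subtypeEquivRight (fun c => ⟨fun h => h.1, fun h => ⟨h, fun x hx => hHK (h x hx)⟩⟩)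
  rw [e1] at hn1
  have hout : ∀ c : ConjClasses G, ConjClasses.mk (Quotient.out c) = c := fun c => Quotient.out_eq c
  choose f hf using hex
  -- classes inside `K` inject into the data
  have hcK : Nat.card {c : ConjClasses G // ∀ x : G, ConjClasses.mk x = c → x ∈ K} ≤
      Nat.card {x : D | ∃ g ∈ K, Rel g x} := by
    have : Finite {x : D | ∃ g ∈ K, Rel g x} := hfK
    refine Nat.card_le_card_of_injective
      (fun c => (⟨f (Quotient.out c.1), Quotient.out c.1, c.2 _ (hout c.1), hf _⟩ :
        {x : D | ∃ g ∈ K, Rel g x})) ?_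
    intro c c' hcc
    have h1 : f (Quotient.out c.1) = f (Quotient.out c'.1) := congrArg Subtype.val hcc
    have h3 : IsConj (Quotient.out c.1) (Quotient.out c'.1) :=
      hinj _ _ (f (Quotient.out c.1)) (hf _) (h1 ▸ hf _)
    have h4 := ConjClasses.mk_eq_mk_iff_isConj.2 h3
    rw [hout, hout] at h4
    exact Subtype.ext h4
  -- classes with centralizer inside `K` inject into the `π`-parts
  have hcS : Nat.card {c : ConjClasses G // ∀ x : G, ConjClasses.mk x = c →
      Subgroup.centralizer {x} ≤ K} ≤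
      Nat.card {t : T | ∃ g x, Subgroup.centralizer {g} ≤ K ∧ Rel g x ∧ π x = t} := by
    have : Finite {t : T | ∃ g x, Subgroup.centralizer {g} ≤ K ∧ Rel g x ∧ π x = t} := hfS
    refine Nat.card_le_card_of_injective
      (fun c => (⟨π (f (Quotient.out c.1)), Quotient.out c.1, f (Quotient.out c.1),
        c.2 _ (hout c.1), hf _, rfl⟩ :
        {t : T | ∃ g x, Subgroup.centralizer {g} ≤ K ∧ Rel g x ∧ π x = t})) ?_
    intro c c' hcc
    have h1 : π (f (Quotient.out c.1)) = π (f (Quotient.out c'.1)) := congrArg Subtype.val hcc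
    have h2 : f (Quotient.out c.1) = f (Quotient.out c'.1) :=
      hsplit _ _ _ _ (c.2 _ (hout c.1)) (c'.2 _ (hout c'.1)) (hf _) (hf _) h1
    have h3 : IsConj (Quotient.out c.1) (Quotient.out c'.1) :=
      hinj _ _ (f (Quotient.out c.1)) (hf _) (h2 ▸ hf _)
    have h4 := ConjClasses.mk_eq_mk_iff_isConj.2 h3
    rw [hout, hout] at h4
    exact Subtype.ext h4
  omega

end Cfsg.Agent.S2560P
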