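import Cfsg.Agent.S2855P.Defs

/-!
S2855 piece NOTLE: no member of `𝒦` lies in a maximal subgroup containing a Sylow `p`-subgroup.
-/

set_option autoImplicit false

namespace Cfsg.Agent.S2855P

open Cfsg
open scoped commutatorElement

section Minimal

variable {H : Type*} [Group H] [Finite H] {p : ℕ} [Fact p.Prime]

/-- piece NOTLE: no member of `𝒦` lies in a maximal subgroup containing a Sylow `p`-subgroup. -/
theorem not_le_coatom (𝒦 : Set (Subgroup H))
    (htr : ∀ E ∈ 𝒦, ∀ K ∈ 𝒦, ∃ h : H, K = E.map (MulAut.conj h).toMonoidHom)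
    (hinv : ∀ h : H, ∀ E ∈ 𝒦, E.map (MulAut.conj h).toMonoidHom ∈ 𝒦)
    (hres : pResidual p H ≤ sSup 𝒦)
    (hnorm : ∀ E ∈ 𝒦, sSup 𝒦 ⊔ pCore p H ≤
      Subgroup.normalizer ((E ⊔ pCore p H : Subgroup H) : Set H))
    (T : Sylow p H) (L : Subgroup H) (hL : IsCoatom L) (hTL : (T : Subgroup H) ≤ L) :
    ∀ E ∈ 𝒦, ¬ E ≤ L := by
  intro E hE hEL
  apply hL.1
  have hQT : pCore p H ≤ (T : Subgroup H) := Helper14.pCore_le_sylow p T
  have hEQL : E ⊔ pCore p H ≤ L := sup_le hEL (hQT.trans hTL)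
  have htop : pResidual p H ⊔ (T : Subgroup H) = ⊤ := Helper14.pResidual_sup_sylow T
  have hKL : ∀ K ∈ 𝒦, K ≤ L := by
    intro K hK
    obtain ⟨h, rfl⟩ := htr E hE K hK
    have hh : h ∈ pResidual p H ⊔ (T : Subgroup H) := by rw [htop]; trivial
    -- write h = t * r with t in T, r in the residual
    have hh' : h ∈ (T : Subgroup H) ⊔ pResidual p H := by rwa [sup_comm]
    obtain ⟨t, ht, r, hr, rfl⟩ := (Subgroup.mem_sup_of_normal_right).1 hh'
    have hrN : r ∈ Subgroup.normalizer ((E ⊔ pCore p H : Subgroup H) : Set H) :=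
      hnorm E hE ((le_sup_left : sSup 𝒦 ≤ sSup 𝒦 ⊔ pCore p H) (hres hr))
    rintro _ ⟨e, he, rfl⟩
    have he' : e ∈ E ⊔ pCore p H := (le_sup_left : E ≤ E ⊔ pCore p H) he
    have h1 : r * e * r⁻¹ ∈ E ⊔ pCore p H := (Subgroup.mem_normalizer_iff.1 hrN e).1 he'
    have h2 : r * e * r⁻¹ ∈ L := hEQL h1
    have htL : t ∈ L := hTL ht
    have : (MulAut.conj (t * r)).toMonoidHom e = t * (r * e * r⁻¹) * t⁻¹ := by
      simp [MulAut.conj_apply, mul_assoc]
    rw [this]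
    exact L.mul_mem (L.mul_mem htL h2) (L.inv_mem htL)
  have hS : sSup 𝒦 ≤ L := sSup_le hKL
  rw [eq_top_iff, ← htop]
  exact sup_le (hres.trans hS) hTL

end Minimal

end Cfsg.Agent.S2855P
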