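import Cfsg.Agent.S2855P.Defs

/-!
S2855 piece SYLINT: `T ∩ E` is a Sylow `p`-subgroup of `E` when `EQ ⊴ RQ ⊴ H`.
-/

set_option autoImplicit false

namespace Cfsg.Agent.S2855P

open Cfsg
open scoped commutatorElement

section Minimal

variable {H : Type*} [Group H] [Finite H] {p : ℕ} [Fact p.Prime]

/-- piece SYLINT: `T ∩ E` is a Sylow `p`-subgroup of `E` when `EQ ⊴ RQ ⊴ H`. -/
theorem sylow_inf_isSylowIn_of_chain (T : Sylow p H) (Q RQ E : Subgroup H) [Q.Normal] [RQ.Normal]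
    (hQ : IsPGroup p ↥Q) (hE : E ⊔ Q ≤ RQ)
    (hn : RQ ≤ Subgroup.normalizer ((E ⊔ Q : Subgroup H) : Set H)) :
    Helper14.IsSylowIn p ((T : Subgroup H) ⊓ E) E := by
  have h1 : Helper14.IsSylowIn p ((T : Subgroup H) ⊓ RQ) RQ :=
    Helper14.sylow_inf_normal_isSylowIn T RQ
  have h2 : Helper14.IsSylowIn p (((T : Subgroup H) ⊓ RQ) ⊓ (E ⊔ Q)) (E ⊔ Q) :=
    Helper14.sylow_inf_isSylowIn h1 hE hn
  have hQT : Q ≤ (T : Subgroup H) := hQ.le_sylow_of_normal T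
  -- Dedekind
  have hded : ((T : Subgroup H) ⊓ RQ) ⊓ (E ⊔ Q) = ((T : Subgroup H) ⊓ E) ⊔ Q := by
    apply le_antisymm
    · intro x hx
      obtain ⟨⟨hxT, _⟩, hxEQ⟩ := hx
      obtain ⟨e, he, q, hq, rfl⟩ := (Subgroup.mem_sup_of_normal_right).1 hxEQ
      have heT : e ∈ (T : Subgroup H) := by
        have : e = (e * q) * q⁻¹ := by group
        rw [this]
        exact (T : Subgroup H).mul_mem hxT ((T : Subgroup H).inv_mem (hQT hq))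
      exact Subgroup.mul_mem_sup (show e ∈ (T : Subgroup H) ⊓ E from ⟨heT, he⟩) hq
    · apply sup_le
      · intro x hx
        exact ⟨⟨hx.1, hE ((le_sup_left : E ≤ E ⊔ Q) hx.2)⟩, (le_sup_left : E ≤ E ⊔ Q) hx.2⟩
      · intro x hx
        exact ⟨⟨hQT hx, hE ((le_sup_right : Q ≤ E ⊔ Q) hx)⟩, (le_sup_right : Q ≤ E ⊔ Q) hx⟩
  rw [hded] at h2
  refine ⟨inf_le_right, T.isPGroup'.to_le inf_le_left, ?_⟩
  intro P hPE hPp hle
  have hPQ : IsPGroup p ↥(P ⊔ Q) := hPp.to_sup_of_normal_right hQ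
  have h3 : P ⊔ Q = ((T : Subgroup H) ⊓ E) ⊔ Q :=
    h2.2.2 (P ⊔ Q) (sup_le_sup_right hPE Q) hPQ (sup_le_sup_right hle Q)
  apply le_antisymm _ hle
  intro x hx
  refine ⟨?_, hPE hx⟩
  have hx' : x ∈ ((T : Subgroup H) ⊓ E) ⊔ Q := h3 ▸ (le_sup_left : P ≤ P ⊔ Q) hx
  exact (sup_le inf_le_left hQT : ((T : Subgroup H) ⊓ E) ⊔ Q ≤ (T : Subgroup H)) hx'

end Minimal

end Cfsg.Agent.S2855P
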