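import Mathlib
import Cfsg.Agent.Helper29.TV2Q2Defs
import Cfsg.Agent.Helper20.S2981Q2_TVD
import Cfsg.Agent.Helper14.S2981Q2CTE

/-! Board `s2981pieces`, row Q2_TVD: every transvection of `P` lies in the class `D`: `Cfsg.Agent.TV2.TVD` is in
`Cfsg.Agent.Helper20.S2981Q2_TVD` (landed at the same moment); this module re-imports it and keeps one auxiliary lemma. -/

set_option autoImplicit false

namespace Cfsg.Agent.TV2

variable {P : Type*} [Group P] [Finite P] {W : Type*} [AddCommGroup W] [Module (ZMod 2) W] [Finite W] [DistribMulAction P W]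

/-- an involution is conjugate into the Sylow 2-subgroup `T`. -/
theorem TVD_aux_conj_T (C : Ctx P W) {d : P} (hdd : d * d = 1) : ∃ g : P, g * d * g⁻¹ ∈ (C.T : Subgroup P) := by
  have : Fact (Nat.Prime 2) := ⟨Nat.prime_two⟩
  have hp : IsPGroup 2 (Subgroup.zpowers d) := by
    rintro ⟨x, hx⟩
    refine ⟨1, ?_⟩
    apply Subtype.ext
    rw [Subgroup.coe_pow]
    obtain ⟨k, rfl⟩ := Subgroup.mem_zpowers_iff.1 hx
    show (d ^ k) ^ 2 ^ 1 = 1
    rw [pow_one, ← zpow_natCast, ← zpow_mul, mul_comm, zpow_mul, zpow_natCast, pow_two, hdd, one_zpow]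
  obtain ⟨Q, hQ⟩ := hp.exists_le_sylow
  obtain ⟨h, hh⟩ := MulAction.exists_smul_eq P Q C.T
  have hgQ : d ∈ (Q : Subgroup P) := hQ (Subgroup.mem_zpowers d)
  refine ⟨h, ?_⟩
  rw [← hh, Sylow.coe_subgroup_smul]
  rw [Subgroup.mem_pointwise_smul_iff_inv_smul_mem]
  have e : (MulAut.conj h)⁻¹ • (h * d * h⁻¹) = d := by
    rw [MulAut.smul_def, MulAut.conj_inv_apply]; group
  rw [e]; exact hgQ

end Cfsg.Agent.TV2
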