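import Mathlib
import Cfsg.Agent.Helper12.S3222Defs
import Cfsg.Agent.S0497
import Cfsg.Agent.Helper27.S3222IDX
import Cfsg.Agent.Helper16.S3222A6N
import Cfsg.Agent.Helper11.S3222A6T
import Cfsg.Agent.Helper1.S3222A6A
import Cfsg.Agent.Helper8.S3222A6I
import Cfsg.Agent.Helper20.S3222A6F

set_option autoImplicit false

/-! # S3222 piece A6C: the case `M` simple of order 360. -/

namespace Cfsg.Agent.S3222P

theorem A6C_aux_fact720 : (720 : ℕ).factorization 5 = 1 := by
  have h1 : (720 : ℕ) = 5 * 144 := by norm_num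
  rw [h1, Nat.factorization_mul (by norm_num) (by norm_num)]
  simp [Nat.Prime.factorization_self (show Nat.Prime 5 by norm_num),
    Nat.factorization_eq_zero_of_not_dvd (show ¬ 5 ∣ 144 by norm_num)]

theorem A6C_aux_fact10 : (10 : ℕ).factorization 5 = 1 := by
  have h1 : (10 : ℕ) = 5 * 2 := by norm_num
  rw [h1, Nat.factorization_mul (by norm_num) (by norm_num)]
  simp [Nat.Prime.factorization_self (show Nat.Prime 5 by norm_num),
    Nat.factorization_eq_zero_of_not_dvd (show ¬ 5 ∣ 2 by norm_num)]

/-- a 5-subgroup lies in every subgroup of index 2 -/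
theorem A6C_aux_five_le {G : Type*} [Group G] (M : Subgroup G) (hM : M.index = 2)
    (P : Subgroup G) (hP : IsPGroup 5 P) : P ≤ M := by
  intro x hx
  obtain ⟨k, hk⟩ := hP ⟨x, hx⟩
  have hk' : x ^ (5 ^ k) = 1 := by
    have := congrArg Subtype.val hk
    simpa using this
  have hodd : Odd (5 ^ k) := Odd.pow (by decide)
  obtain ⟨j, hj⟩ := hodd
  have h1 : x = (x ^ 2) ^ (j + 1) := by
    rw [← pow_mul]
    have : 2 * (j + 1) = 5 ^ k + 1 := by omega
    rw [this, pow_succ, hk', one_mul]
  rw [h1]
  exact pow_mem (Subgroup.sq_mem_of_index_two hM x) _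

/-- a group of order 10 normalized by `t` has a `t`-invariant subgroup of order 5 -/
theorem A6C_aux_ten {G : Type*} [Group G] [Finite G] (D : Subgroup G) (hD : Nat.card D = 10)
    (t : G) (ht : ∀ x ∈ D, t * x * t⁻¹ ∈ D) :
    ∃ P : Subgroup G, Nat.card P = 5 ∧ ∀ x ∈ P, t * x * t⁻¹ ∈ P := by
  haveI : Fact (Nat.Prime 5) := ⟨by norm_num⟩
  let S : Sylow 5 ↥D := default
  have hScard : Nat.card (S : Subgroup ↥D) = 5 := by
    rw [Sylow.card_eq_multiplicity, hD, A6C_aux_fact10]; norm_num
  have hSidx : (S : Subgroup ↥D).index = 2 := by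
    have := Subgroup.card_mul_index (S : Subgroup ↥D)
    rw [hScard, hD] at this
    omega
  have huniq : Nat.card (Sylow 5 ↥D) = 1 := by
    have h1 := card_sylow_modEq_one 5 ↥D
    have h2 := Sylow.card_dvd_index S
    rw [hSidx] at h2
    have h3 : Nat.card (Sylow 5 ↥D) ≤ 2 := Nat.le_of_dvd (by norm_num) h2
    have h4 : 0 < Nat.card (Sylow 5 ↥D) := Nat.card_pos
    interval_cases h : Nat.card (Sylow 5 ↥D)
    · rfl
    · exfalso; revert h1; decide
  haveI : Subsingleton (Sylow 5 ↥D) := (Nat.card_eq_one_iff_unique.mp huniq).1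
  let ψ : ↥D →* ↥D :=
    { toFun := fun d => ⟨t * d * t⁻¹, ht d d.2⟩
      map_one' := by apply Subtype.ext; simp
      map_mul' := fun a b => by apply Subtype.ext; simp }
  have hS' : IsPGroup 5 ((S : Subgroup ↥D).map ψ) := S.2.map ψ
  obtain ⟨Q, hQ⟩ := hS'.exists_le_sylow
  have hQS : Q = S := Subsingleton.elim _ _
  refine ⟨(S : Subgroup ↥D).map D.subtype, ?_, ?_⟩
  · rw [Subgroup.card_map_of_injective D.subtype_injective, hScard]
  · rintro _ ⟨s, hs, rfl⟩
    refine ⟨ψ s, ?_, rfl⟩
    rw [← hQS]; exact hQ ⟨s, hs, rfl⟩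

theorem A6C {G : Type*} [Group G] [Finite G] (t : G) (T : Sylow 2 G)
    (L : Local t T) (M : Subgroup G) [M.Normal] (hM : M.index = 2) (htM : t ∉ M)
    (zM : ↥M) (hzM : orderOf zM = 2)
    (e : ↥(Subgroup.centralizer ({zM} : Set ↥M)) ≃* DihedralGroup 4)
    (hs : IsSimpleGroup ↥M) (hc : Nat.card ↥M = 360) :
    Nonempty (G ≃* Equiv.Perm (Fin 6)) := by
  haveI : Fact (Nat.Prime 5) := ⟨by norm_num⟩
  haveI := hs
  have hG : Nat.card G = 720 := by
    have := Subgroup.card_mul_index M
    rw [hc, hM] at this; omega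
  have htt : t * t = 1 := by
    have := pow_orderOf_eq_one t
    rw [L.ht, pow_two] at this; exact this
  rcases A6N M hM hs hc with h6 | h36
  · -- six Sylow 5-subgroups: act on them
    apply A6F t T L M hM htM zM hzM e hs hc (X := Sylow 5 G) h6
    by_contra hcon
    push Not at hcon
    let P : Sylow 5 G := default
    have hPM : (P : Subgroup G) ≤ M := A6C_aux_five_le M hM P P.2
    have hMN : M ≤ Subgroup.normalizer ((P : Subgroup G) : Set G) := fun m hm =>
      Sylow.smul_eq_iff_mem_normalizer.mp (hcon m hm P)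
    have hnorm : ((P : Subgroup G).subgroupOf M).Normal :=
      (Subgroup.normal_subgroupOf_iff_le_normalizer hPM).mpr hMN
    have hcardP : Nat.card ((P : Subgroup G).subgroupOf M) = 5 := by
      rw [Nat.card_congr (Subgroup.subgroupOfEquivOfLe hPM).toEquiv, Sylow.card_eq_multiplicity,
        hG, A6C_aux_fact720]; norm_num
    rcases hnorm.eq_bot_or_eq_top with hb | ht
    · rw [hb, Subgroup.card_bot] at hcardP; omega
    · rw [ht, Subgroup.card_top, hc] at hcardP; omega
  · -- 36 Sylow 5-subgroups
    obtain ⟨f⟩ := Cfsg.Agent.S0497.result hc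
    obtain ⟨A, hAidx, hAs⟩ := A6A f
    set φ : ↥M ≃* ↥M := MulAut.conjNormal t with hφ
    have hφφ : ∀ x : ↥M, φ (φ x) = x := by
      intro x
      apply Subtype.ext
      rw [hφ, MulAut.conjNormal_apply, MulAut.conjNormal_apply]
      have : t * (t * (x : G) * t⁻¹) * t⁻¹ = (t * t) * x * (t * t)⁻¹ := by group
      rw [this, htt]; simp
    set B : Subgroup ↥M := A.map φ.toMonoidHom with hB
    have hBidx : B.index = 6 := by
      rw [hB]; exact (Subgroup.index_map_equiv A φ).trans hAidx
    have hBA : B.map φ.toMonoidHom = A := by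
      ext x
      constructor
      · rintro ⟨b, ⟨a, ha, rfl⟩, rfl⟩
        have : φ.toMonoidHom (φ.toMonoidHom a) = a := hφφ a
        rw [this]; exact ha
      · intro hx
        exact ⟨φ x, ⟨x, hx, rfl⟩, hφφ x⟩
    by_cases hAB : ∀ m : ↥M, B.map (MulAut.conj m).toMonoidHom ≠ A
    · -- not conjugate: `A ⊓ B` of order 10
      have h10 := A6I hc A B hAidx hBidx hAs hAB
      set DG : Subgroup G := (A ⊓ B).map M.subtype with hDG
      have hDGcard : Nat.card DG = 10 := by
        rw [hDG, Subgroup.card_map_of_injective M.subtype_injective, h10]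
      have htDG : ∀ x ∈ DG, t * x * t⁻¹ ∈ DG := by
        rintro _ ⟨d, ⟨hdA, hdB⟩, rfl⟩
        refine ⟨φ d, ⟨?_, ?_⟩, ?_⟩
        · rw [← hBA]; exact ⟨d, hdB, rfl⟩
        · exact ⟨d, hdA, rfl⟩
        · rw [hφ]; simp [MulAut.conjNormal_apply]
      obtain ⟨P, hPcard, hPt⟩ := A6C_aux_ten DG hDGcard t htDG
      have hPcard' : Nat.card P = 5 ^ (Nat.card G).factorization 5 := by
        rw [hG, A6C_aux_fact720, hPcard]; norm_num
      exfalso
      apply A6T t T L hG h36 (Sylow.ofCard P hPcard')
      rw [Sylow.coe_ofCard, Subgroup.mem_normalizer_iff]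
      intro x
      constructor
      · exact hPt x
      · intro hx
        have h1 := hPt _ hx
        have h2 : t * (t * x * t⁻¹) * t⁻¹ = (t * t) * x * (t * t)⁻¹ := by group
        rw [h2, htt] at h1
        simpa using h1
    · -- conjugate: `N_G(A)` has index 6
      push Not at hAB
      obtain ⟨m, hm⟩ := hAB
      set g : G := (m : G) * t with hg
      have hgM : g ∉ M := by
        intro h
        apply htM
        have := M.mul_mem (M.inv_mem m.2) h
        rw [hg] at this
        simpa using this
      set AG : Subgroup G := A.map M.subtype with hAG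
      have hAGcard : Nat.card AG = 60 := by
        rw [hAG, Subgroup.card_map_of_injective M.subtype_injective]
        have := Subgroup.card_mul_index A
        rw [hAidx, hc] at this; omega
      have hAGM : AG ≤ M := by
        rintro _ ⟨a, _, rfl⟩; exact a.2
      have hgconj : ∀ x ∈ AG, g * x * g⁻¹ ∈ AG := by
        rintro _ ⟨a, ha, rfl⟩
        refine ⟨(MulAut.conj m) (φ a), ?_, ?_⟩
        · rw [← hm]; exact ⟨φ a, ⟨a, ha, rfl⟩, rfl⟩
        · rw [hφ, hg]; simp [MulAut.conjNormal_apply, mul_assoc]
      have hgN : g ∈ Subgroup.normalizer (AG : Set G) := by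
        rw [Subgroup.mem_normalizer_iff_map_conj_eq]
        apply Subgroup.eq_of_le_of_card_ge
        · rintro _ ⟨x, hx, rfl⟩; exact hgconj x hx
        · exact (Subgroup.card_map_of_injective (K := AG)
            (f := ((MulAut.conj g : G ≃* G) : G →* G)) (MulAut.conj g).injective).ge
      set N := Subgroup.normalizer (AG : Set G) with hN
      have hK : Subgroup.normalizer (A : Set ↥M) ≤ A := by
        set K := Subgroup.normalizer (A : Set ↥M) with hKdef
        have hAK : A ≤ K := Subgroup.le_normalizer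
        have hKtop : K ≠ ⊤ := by
          intro htop
          have hAn : A.Normal := Subgroup.normalizer_eq_top_iff.mp htop
          rcases hAn.eq_bot_or_eq_top with hb | ht
          · rw [hb, Subgroup.index_bot, hc] at hAidx; omega
          · rw [ht, Subgroup.index_top] at hAidx; omega
        have hdiv := IDX K hKtop
        rw [hc] at hdiv
        have hKidx : K.index ∣ 6 := hAidx ▸ Subgroup.index_dvd_of_le hAK
        have hKidx6 : K.index = 6 := by
          have hle : K.index ≤ 6 := Nat.le_of_dvd (by norm_num) hKidx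
          interval_cases h : K.index
          all_goals first | rfl | (exfalso; revert hdiv hKidx; decide)
        have h1 := Subgroup.relIndex_mul_index hAK
        rw [hKidx6, hAidx] at h1
        have h2 : A.relIndex K = 1 := by omega
        exact Subgroup.relIndex_eq_one.mp h2
      have hNM : N ⊓ M ≤ AG := by
        rintro x ⟨hxN, hxM⟩
        have e1 : ∀ y : ↥M, (y : G) ∈ AG ↔ y ∈ A := fun y => by
          constructor
          · rintro ⟨a, ha, hay⟩
            have : a = y := Subtype.ext hay
            rwa [← this]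
          · intro hy; exact ⟨y, hy, rfl⟩
        have hmem : (⟨x, hxM⟩ : ↥M) ∈ Subgroup.normalizer (A : Set ↥M) := by
          rw [Subgroup.mem_normalizer_iff]
          intro h
          have h1 := (Subgroup.mem_normalizer_iff.mp hxN) (h : G)
          rw [← e1 h, ← e1 (⟨x, hxM⟩ * h * ⟨x, hxM⟩⁻¹)]
          simpa using h1
        exact ⟨⟨x, hxM⟩, hK hmem, rfl⟩
      have hNMeq : N ⊓ M = AG := le_antisymm hNM (le_inf Subgroup.le_normalizer hAGM)
      have hNMidx : (N ⊓ M).index = 12 := by
        rw [hNMeq]
        have := Subgroup.card_mul_index AG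
        rw [hAGcard, hG] at this; omega
      have hrel : M.relIndex N = 2 := by
        have h1 : M.relIndex N ∣ 2 := hM ▸ Subgroup.relIndex_dvd_index_of_normal M N
        have h2 : M.relIndex N ≠ 1 := fun h => hgM (Subgroup.relIndex_eq_one.mp h hgN)
        have h3 : M.relIndex N ≤ 2 := Nat.le_of_dvd (by norm_num) h1
        have h4 : M.relIndex N ≠ 0 := fun h => by rw [h] at h1; norm_num at h1
        omega
      have hNidx : N.index = 6 := by
        have h1 := Subgroup.relIndex_mul_index (inf_le_left : N ⊓ M ≤ N)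
        rw [Subgroup.inf_relIndex_left, hrel, hNMidx] at h1; omega
      apply A6F t T L M hM htM zM hzM e hs hc (X := G ⧸ N) hNidx
      by_contra hcon
      push Not at hcon
      have hMN : M ≤ N := by
        intro x hx
        have h1 := hcon x hx ((1 : G) : G ⧸ N)
        rw [MulAction.Quotient.smul_mk, QuotientGroup.eq] at h1
        have h2 : x⁻¹ ∈ N := by simpa using h1
        simpa using N.inv_mem h2
      have hle : M ≤ AG := by
        rw [← hNMeq]; exact le_inf hMN le_rfl
      have := Subgroup.card_le_of_le hle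
      rw [hc, hAGcard] at this
      omega

end Cfsg.Agent.S3222P
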