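import Mathlib
import Cfsg.Agent.Helper3.PiSimple4
import Cfsg.Agent.Helper29.S3501DER

set_option autoImplicit false
set_option linter.unusedSectionVars false
set_option linter.unusedVariables false
set_option linter.style.haveILetI false

/-! # S3501 / S3556: the O'Nan–Scott core (S0723) for an abstract faithful primitive action,
and Jordan's lemma on conjugates of a proper subgroup. -/

namespace Cfsg.Agent.S3501P

open MulAction

/-- Jordan: a finite group is not the union of the conjugates of a proper subgroup. -/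
theorem JORDAN {T : Type*} [Group T] [Finite T] (K : Subgroup T) (hK : K ≠ ⊤) :
    ∃ t : T, ∀ g : T, g⁻¹ * t * g ∉ K := by
  classical
  haveI : Fintype (T ⧸ K) := Fintype.ofFinite _
  have h2 : 2 ≤ Fintype.card (T ⧸ K) := by
    have h1 : K.index ≠ 1 := fun h => hK (Subgroup.index_eq_one.mp h)
    have h0 : K.index ≠ 0 := Subgroup.index_ne_zero_of_finite
    have : Fintype.card (T ⧸ K) = K.index := by
      rw [Subgroup.index_eq_card, Nat.card_eq_fintype_card]
    omega
  obtain ⟨t, ht⟩ := DER.exists (G := T) (Ω := T ⧸ K) h2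
  refine ⟨t, fun g hg => ?_⟩
  apply ht (g : T ⧸ K)
  rw [MulAction.Quotient.smul_mk, QuotientGroup.eq, smul_eq_mul]
  have : (t * g)⁻¹ * g = (g⁻¹ * t * g)⁻¹ := by group
  rw [this]
  exact K.inv_mem hg

/-- The O'Nan–Scott core for an abstract faithful primitive action (no uniqueness hypothesis). -/
theorem BRIDGE.core {G Ω : Type*} [Group G] [Finite Ω] [MulAction G Ω] [FaithfulSMul G Ω]
    [MulAction.IsPreprimitive G Ω] (N : Subgroup G) [N.Normal] (hN : N ≠ ⊥)
    (hmin : ∀ M : Subgroup G, M.Normal → M ≤ N → M = ⊥ ∨ M = N)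
    (hnab : ¬ IsMulCommutative N) (a : Ω) :
    ∃ (T : Type) (_ : Group T) (m : ℕ) (e : N ≃* (Fin m → T)), IsSimpleGroup T ∧
      ¬ IsMulCommutative T ∧ 0 < m ∧
      ((∃ K : Fin m → Subgroup T, (∀ i, K i ≠ ⊤) ∧
          ∀ n : N, (n : G) ∈ MulAction.stabilizer G a ↔ ∀ i, e n i ∈ K i) ∨
        (∃ (k : ℕ) (c : Fin m → Fin m), 2 ≤ k ∧
          (∀ j : Fin m, Nat.card {i : Fin m // c i = j} = k ∨
            Nat.card {i : Fin m // c i = j} = 0) ∧
          ∀ n : N, (n : G) ∈ MulAction.stabilizer G a ↔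
            ∀ i j : Fin m, c i = c j → e n i = e n j)) := by
  classical
  -- the permutation representation
  let φ : G →* Equiv.Perm Ω := MulAction.toPermHom G Ω
  have hφ : Function.Injective φ := MulAction.toPerm_injective
  let H : Subgroup (Equiv.Perm Ω) := φ.range
  let ψ : G ≃* H := MonoidHom.ofInjective hφ
  have hψ : ∀ (g : G) (ω : Ω), (ψ g) • ω = g • ω := fun g ω => rfl
  -- primitivity of `H`
  haveI : MulAction.IsPreprimitive H Ω := by
    let f : Ω →ₑ[ψ] Ω :=
      { toFun := id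
        map_smul' := fun g ω => (hψ g ω).symm }
    exact MulAction.IsPreprimitive.of_surjective (f := f) Function.surjective_id
  -- transport of `N`
  let N' : Subgroup H := N.map ψ.toMonoidHom
  haveI : N'.Normal := Subgroup.Normal.map inferInstance _ ψ.surjective
  let ε : N ≃* N' := N.equivMapOfInjective ψ.toMonoidHom ψ.injective
  have hε : ∀ n : N, ((ε n : N') : H) = ψ (n : G) := fun n => rfl
  have hN' : N' ≠ ⊥ := by
    intro h
    apply hN
    rw [Subgroup.eq_bot_iff_forall]
    intro x hx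
    have : ψ x ∈ N' := Subgroup.mem_map_of_mem _ hx
    rw [h, Subgroup.mem_bot] at this
    exact ψ.injective (this.trans (map_one ψ).symm)
  have hmin' : ∀ M : Subgroup H, M.Normal → M ≤ N' → M = ⊥ ∨ M = N' := by
    intro M hMn hMN
    have hc : (M.comap ψ.toMonoidHom).Normal := hMn.comap _
    have hle : M.comap ψ.toMonoidHom ≤ N := by
      intro x hx
      have h1 : ψ x ∈ N' := hMN hx
      obtain ⟨y, hy, hxy⟩ := h1
      have : y = x := ψ.injective hxy
      rw [← this]; exact hy
    have hmap : (M.comap ψ.toMonoidHom).map ψ.toMonoidHom = M :=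
      Subgroup.map_comap_eq_self_of_surjective ψ.surjective M
    rcases hmin _ hc hle with h | h
    · left
      rw [← hmap, h, Subgroup.map_bot]
    · right
      rw [← hmap, h]
  have hnab' : ¬ IsMulCommutative N' := by
    intro hc
    apply hnab
    refine ⟨⟨fun x y => ?_⟩⟩
    apply ε.injective
    rw [map_mul, map_mul]
    exact hc.is_comm.comm _ _
  obtain ⟨T, instT, m, e', hT, hTnc, hm, hcase⟩ :=
    Cfsg.Agent.Helper3.PiSimple.onan_scott_core H N' hN' hmin' hnab' a
  letI : Group T := instT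
  have hstab : ∀ n : N, (n : G) ∈ MulAction.stabilizer G a ↔
      ((ε n : N') : H) ∈ MulAction.stabilizer H a := by
    intro n
    rw [MulAction.mem_stabilizer_iff, MulAction.mem_stabilizer_iff, hε, hψ]
  refine ⟨T, instT, m, ε.trans e', hT, hTnc, hm, ?_⟩
  rcases hcase with ⟨K, hK, hKs⟩ | ⟨k, c, hk, hc, hcs⟩
  · left
    refine ⟨K, hK, fun n => ?_⟩
    rw [hstab n, hKs (ε n)]
    rfl
  · right
    refine ⟨k, c, hk, hc, fun n => ?_⟩
    rw [hstab n, hcs (ε n)]
    rfl

/-- The same with the uniqueness hypothesis of S0723 (it is not needed). -/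
theorem BRIDGE {G Ω : Type*} [Group G] [Finite Ω] [MulAction G Ω] [FaithfulSMul G Ω]
    [MulAction.IsPreprimitive G Ω] (N : Subgroup G) [N.Normal] (hN : N ≠ ⊥)
    (hmin : ∀ M : Subgroup G, M.Normal → M ≤ N → M = ⊥ ∨ M = N)
    (huniq : ∀ L : Subgroup G, L.Normal → L ≠ ⊥ →
      (∀ M : Subgroup G, M.Normal → M ≤ L → M = ⊥ ∨ M = L) → L = N)
    (hnab : ¬ IsMulCommutative N) (a : Ω) :
    ∃ (T : Type) (_ : Group T) (m : ℕ) (e : N ≃* (Fin m → T)), IsSimpleGroup T ∧
      ¬ IsMulCommutative T ∧ 0 < m ∧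
      ((∃ K : Fin m → Subgroup T, (∀ i, K i ≠ ⊤) ∧
          ∀ n : N, (n : G) ∈ MulAction.stabilizer G a ↔ ∀ i, e n i ∈ K i) ∨
        (∃ (k : ℕ) (c : Fin m → Fin m), 2 ≤ k ∧
          (∀ j : Fin m, Nat.card {i : Fin m // c i = j} = k ∨
            Nat.card {i : Fin m // c i = j} = 0) ∧
          ∀ n : N, (n : G) ∈ MulAction.stabilizer G a ↔
            ∀ i j : Fin m, c i = c j → e n i = e n j)) :=
  BRIDGE.core N hN hmin hnab a

end Cfsg.Agent.S3501P
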