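import Mathlib
import Cfsg.Agent.Helper29.S3501BRIDGE
import Cfsg.Agent.Helper29.S3501CRIT

set_option autoImplicit false
set_option linter.unusedSectionVars false
set_option linter.unusedVariables false
set_option linter.style.haveILetI false

/-! # S3501: in the non-abelian case with `m ≥ 2` there are two derangements in `N ≅ T^m` whose
centralisers in `N` have different orders (so they are not conjugate in `G`). -/

namespace Cfsg.Agent.S3501P

open MulAction

/-- The centre of a non-abelian simple group is trivial. -/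
theorem NONAB.center_eq_bot {T : Type*} [Group T] [IsSimpleGroup T] (hT : ¬ IsMulCommutative T) :
    Subgroup.center T = ⊥ := by
  rcases IsSimpleGroup.eq_bot_or_eq_top_of_normal (Subgroup.center T) inferInstance with h | h
  · exact h
  · exfalso
    apply hT
    refine ⟨⟨fun x y => ?_⟩⟩
    have hx : x ∈ Subgroup.center T := by rw [h]; exact Subgroup.mem_top x
    exact ((Subgroup.mem_center_iff.mp hx) y).symm

/-- A non-identity element of a finite group with trivial centre has a proper centraliser. -/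
theorem NONAB.card_centralizer_lt {T : Type*} [Group T] [Finite T]
    (hZ : Subgroup.center T = ⊥) {s : T} (hs : s ≠ 1) :
    Nat.card (Subgroup.centralizer ({s} : Set T)) < Nat.card T := by
  have hne : Subgroup.centralizer ({s} : Set T) ≠ ⊤ := by
    intro h
    apply hs
    have : s ∈ Subgroup.center T := by
      rw [Subgroup.mem_center_iff]
      intro g
      have hg : g ∈ Subgroup.centralizer ({s} : Set T) := by rw [h]; exact Subgroup.mem_top g
      rw [Subgroup.mem_centralizer_singleton_iff] at hg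
      exact hg
    rw [hZ, Subgroup.mem_bot] at this
    exact this
  have hle := Subgroup.card_le_card_group (Subgroup.centralizer ({s} : Set T))
  rcases Nat.lt_or_ge (Nat.card (Subgroup.centralizer ({s} : Set T))) (Nat.card T) with h | h
  · exact h
  · exact absurd (Subgroup.card_eq_iff_eq_top _ |>.mp (le_antisymm hle h)) hne

/-- In a finite non-abelian simple group there are two non-identity elements that are not
conjugate. -/
theorem NONAB.exists_not_conj {T : Type*} [Group T] [Finite T] [IsSimpleGroup T]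
    (hT : ¬ IsMulCommutative T) :
    ∃ s s' : T, s ≠ 1 ∧ s' ≠ 1 ∧ ∀ g h : T, g⁻¹ * s * g ≠ h⁻¹ * s' * h := by
  classical
  by_contra hcon
  push Not at hcon
  haveI : Nontrivial T := IsSimpleGroup.toNontrivial
  have hcard : Nat.card T ≠ 1 := by
    intro h
    have := (Nat.card_eq_one_iff_unique.mp h).1
    exact not_subsingleton T this
  obtain ⟨p, hp, hpd⟩ := Nat.exists_prime_and_dvd hcard
  haveI : Fact p.Prime := ⟨hp⟩
  obtain ⟨s, hs⟩ := exists_prime_orderOf_dvd_card' p hpd
  have hs1 : s ≠ 1 := by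
    rintro rfl
    rw [orderOf_one] at hs
    exact hp.one_lt.ne hs
  have hpow : ∀ x : T, x ^ p = 1 := by
    intro x
    by_cases hx : x = 1
    · rw [hx, one_pow]
    · obtain ⟨g, h, hgh⟩ := hcon s x hs1 hx
      have hx' : x = h * (g⁻¹ * s * g) * h⁻¹ := by rw [hgh]; group
      have hsp : s ^ p = 1 := by rw [← hs]; exact pow_orderOf_eq_one s
      have e1 : (g⁻¹ * s * g) ^ p = 1 := by
        have : g⁻¹ * s * g = g⁻¹ * s * g⁻¹⁻¹ := by rw [inv_inv]
        rw [this, conj_pow, hsp]; group
      rw [hx', conj_pow, e1]; group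
  have hPG : IsPGroup p T := fun x => ⟨1, by rw [pow_one]; exact hpow x⟩
  have hcen : Nontrivial (Subgroup.center T) := hPG.center_nontrivial
  have hZ := NONAB.center_eq_bot hT
  rw [hZ] at hcen
  exact not_nontrivial _ hcen

variable {G Ω : Type*} [Group G] [MulAction G Ω] (N : Subgroup G)

/-- Two products over `Fin m` that differ in exactly one (positive) factor are different. -/
theorem NONAB.prod_ne {m : ℕ} (f f' : Fin m → ℕ) (j : Fin m) (hpos : ∀ l, 0 < f' l)
    (hrest : ∀ l, l ≠ j → f l = f' l) (hj : f j ≠ f' j) : ∏ l, f l ≠ ∏ l, f' l := by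
  rw [← Finset.mul_prod_erase Finset.univ f (Finset.mem_univ j),
    ← Finset.mul_prod_erase Finset.univ f' (Finset.mem_univ j)]
  have hr : ∏ l ∈ Finset.univ.erase j, f l = ∏ l ∈ Finset.univ.erase j, f' l :=
    Finset.prod_congr rfl (fun l hl => hrest l (Finset.ne_of_mem_erase hl))
  rw [hr]
  have hp : 0 < ∏ l ∈ Finset.univ.erase j, f' l := Finset.prod_pos (fun l _ => hpos l)
  intro heq
  exact hj (Nat.eq_of_mul_eq_mul_right hp heq)

/-- Centraliser orders of `single i t` and `single i t * single j s` differ. -/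
theorem NONAB.card_ne {T : Type*} [Group T] [Finite T] (hZ : Subgroup.center T = ⊥) {m : ℕ}
    (e : N ≃* (Fin m → T)) {i j : Fin m} (hij : i ≠ j) (t : T) {s : T} (hs : s ≠ 1) :
    Nat.card (Subgroup.centralizer ({e.symm (Pi.mulSingle i t)} : Set N)) ≠
      Nat.card (Subgroup.centralizer ({e.symm (Pi.mulSingle i t * Pi.mulSingle j s)} : Set N)) := by
  rw [CRIT.card_centralizer_pi N e, CRIT.card_centralizer_pi N e, MulEquiv.apply_symm_apply,
    MulEquiv.apply_symm_apply]
  have h1 : (Pi.mulSingle i t : Fin m → T) j = 1 := by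
    rw [Pi.mulSingle_apply]; exact if_neg (Ne.symm hij)
  have h2 : (Pi.mulSingle i t * Pi.mulSingle j s : Fin m → T) j = s := by
    rw [Pi.mul_apply, h1, one_mul, Pi.mulSingle_eq_same]
  have htop : Nat.card (Subgroup.centralizer ({(1 : T)} : Set T)) = Nat.card T := by
    have : Subgroup.centralizer ({(1 : T)} : Set T) = ⊤ := by
      ext g
      simp [Subgroup.mem_centralizer_singleton_iff]
    rw [this, Subgroup.card_top]
  have hrest : ∀ l : Fin m, l ≠ j →
      Nat.card (Subgroup.centralizer ({(Pi.mulSingle i t : Fin m → T) l} : Set T)) =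
      Nat.card (Subgroup.centralizer
        ({(Pi.mulSingle i t * Pi.mulSingle j s : Fin m → T) l} : Set T)) := by
    intro l hlj
    have : (Pi.mulSingle i t * Pi.mulSingle j s : Fin m → T) l = (Pi.mulSingle i t : Fin m → T) l := by
      rw [Pi.mul_apply, Pi.mulSingle_apply j s l, if_neg hlj, mul_one]
    rw [this]
  have hjne : Nat.card (Subgroup.centralizer ({(Pi.mulSingle i t : Fin m → T) j} : Set T)) ≠
      Nat.card (Subgroup.centralizer
        ({(Pi.mulSingle i t * Pi.mulSingle j s : Fin m → T) j} : Set T)) := by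
    rw [h1, h2, htop]
    have hlt := NONAB.card_centralizer_lt hZ hs
    omega
  have hpos : ∀ l : Fin m, 0 < Nat.card (Subgroup.centralizer
      ({(Pi.mulSingle i t * Pi.mulSingle j s : Fin m → T) l} : Set T)) := fun l => Nat.card_pos
  have := NONAB.prod_ne _ _ j hpos hrest hjne
  exact this

variable [IsPretransitive N Ω] (a : Ω)

/-- **Two non-conjugate derangements** in the non-abelian case `m ≥ 2`. -/
theorem NONAB.two_classes {T : Type*} [Group T] [Finite T] [IsSimpleGroup T]
    (hT : ¬ IsMulCommutative T) {m : ℕ} (hm : 2 ≤ m) (e : N ≃* (Fin m → T))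
    (hcase : (∃ K : Fin m → Subgroup T, (∀ i, K i ≠ ⊤) ∧
          ∀ n : N, (n : G) ∈ MulAction.stabilizer G a ↔ ∀ i, e n i ∈ K i) ∨
        (∃ (k : ℕ) (c : Fin m → Fin m), 2 ≤ k ∧
          (∀ j : Fin m, Nat.card {i : Fin m // c i = j} = k ∨
            Nat.card {i : Fin m // c i = j} = 0) ∧
          ∀ n : N, (n : G) ∈ MulAction.stabilizer G a ↔
            ∀ i j : Fin m, c i = c j → e n i = e n j)) :
    ∃ x y : N, (∀ ω : Ω, (x : G) • ω ≠ ω) ∧ (∀ ω : Ω, (y : G) • ω ≠ ω) ∧
      Nat.card (Subgroup.centralizer ({x} : Set N)) ≠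
        Nat.card (Subgroup.centralizer ({y} : Set N)) := by
  have hZ := NONAB.center_eq_bot hT
  obtain ⟨s, s', hs, hs', hnc⟩ := NONAB.exists_not_conj hT
  rcases hcase with ⟨K, hK, hKs⟩ | ⟨k, c, hk, hc, hcs⟩
  · -- product case
    obtain ⟨i0, i1, h01⟩ : ∃ i0 i1 : Fin m, i0 ≠ i1 :=
      ⟨⟨0, by omega⟩, ⟨1, by omega⟩, fun h => by simpa using congrArg Fin.val h⟩
    obtain ⟨t, ht⟩ := JORDAN (K i0) (hK i0)
    have hx : ∀ ω : Ω, ((e.symm (Pi.mulSingle i0 t) : N) : G) • ω ≠ ω := by
      rw [CRIT.prod N a e K hKs]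
      refine ⟨i0, fun g => ?_⟩
      rw [MulEquiv.apply_symm_apply, Pi.mulSingle_eq_same]
      exact ht g
    have hy : ∀ ω : Ω, ((e.symm (Pi.mulSingle i0 t * Pi.mulSingle i1 s) : N) : G) • ω ≠ ω := by
      rw [CRIT.prod N a e K hKs]
      refine ⟨i0, fun g => ?_⟩
      rw [MulEquiv.apply_symm_apply, Pi.mul_apply, Pi.mulSingle_eq_same,
        Pi.mulSingle_eq_of_ne h01, mul_one]
      exact ht g
    exact ⟨_, _, hx, hy, NONAB.card_ne N hZ e h01 t hs⟩
  · -- diagonal case
    obtain ⟨i0⟩ : Nonempty (Fin m) := ⟨⟨0, by omega⟩⟩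
    -- another index in the block of `i0`
    obtain ⟨j, hj0, hcj⟩ : ∃ j : Fin m, j ≠ i0 ∧ c j = c i0 := by
      have hfib : Nat.card {i : Fin m // c i = c i0} = k := by
        rcases hc (c i0) with h | h
        · exact h
        · exfalso
          have : Nonempty {i : Fin m // c i = c i0} := ⟨⟨i0, rfl⟩⟩
          have hpos : 0 < Nat.card {i : Fin m // c i = c i0} := Nat.card_pos
          omega
      by_contra hcon
      push Not at hcon
      have hsub : Subsingleton {i : Fin m // c i = c i0} := by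
        refine ⟨fun u v => ?_⟩
        apply Subtype.ext
        have hu : (u : Fin m) = i0 := by
          by_contra h; exact hcon u h u.2
        have hv : (v : Fin m) = i0 := by
          by_contra h; exact hcon v h v.2
        rw [hu, hv]
      have : Nat.card {i : Fin m // c i = c i0} ≤ 1 := by
        rw [Nat.card_eq_fintype_card]
        exact Fintype.card_le_one_iff_subsingleton.mpr hsub
      omega
    have h0j : i0 ≠ j := Ne.symm hj0
    have hx : ∀ ω : Ω, ((e.symm (Pi.mulSingle i0 s) : N) : G) • ω ≠ ω := by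
      apply CRIT.diag_of_not_conj N a e c hcs _ hcj.symm
      intro g h
      rw [MulEquiv.apply_symm_apply, Pi.mulSingle_eq_same, Pi.mulSingle_eq_of_ne hj0]
      intro heq
      apply hs
      have h1 : g⁻¹ * s * g = 1 := by rw [heq]; group
      have h2 : s = g * (g⁻¹ * s * g) * g⁻¹ := by group
      rw [h2, h1]; group
    have hy : ∀ ω : Ω, ((e.symm (Pi.mulSingle i0 s * Pi.mulSingle j s') : N) : G) • ω ≠ ω := by
      apply CRIT.diag_of_not_conj N a e c hcs _ hcj.symm
      intro g h
      rw [MulEquiv.apply_symm_apply, Pi.mul_apply, Pi.mul_apply, Pi.mulSingle_eq_same,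
        Pi.mulSingle_eq_of_ne h0j, Pi.mulSingle_eq_of_ne hj0, Pi.mulSingle_eq_same, mul_one, one_mul]
      exact hnc g h
    exact ⟨_, _, hx, hy, NONAB.card_ne N hZ e h0j s hs'⟩

end Cfsg.Agent.S3501P
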