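import Mathlib
import Cfsg.Agent.Helper11.S3753Defs
import Cfsg.Agent.Helper14.PCore

/-! # S3753 piece PTWO: the case `p = 2`
If all Sylow 2-subgroups of `M` are abelian and `C_M(O₂(M)) ≤ O₂(M)` then `O₂(M)` is the Sylow 2-subgroup of `M`.
So `O₂(M₂) ≤ M₁` lies in `O₂(M₁)` and conversely: `O₂(M₁) = O₂(M₂)` is normal in both, and primitivity gives
`M₁ = M₂`. -/

set_option autoImplicit false

namespace Cfsg.Agent.S3753P

open Cfsg

variable {G : Type*} [Group G]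

/-- abelian Sylow + self-centralising core: the core is the Sylow subgroup -/
theorem PTWO_aux_sylow_le {H : Type*} [Group H] {p : ℕ}
    (hc : Subgroup.centralizer (pCore p H : Set H) ≤ pCore p H)
    (S : Sylow p H) (hS : IsMulCommutative (S : Subgroup H)) : (S : Subgroup H) ≤ pCore p H := by
  refine le_trans ?_ hc
  intro s hs
  rw [Subgroup.mem_centralizer_iff]
  intro q hq
  have hqS : q ∈ (S : Subgroup H) := Cfsg.Agent.Helper14.pCore_le_sylow p S hq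
  have := hS.is_comm.comm (⟨q, hqS⟩ : (S : Subgroup H)) ⟨s, hs⟩
  exact congrArg Subtype.val this

/-- every `p`-subgroup of `M` lies in `O_p(M)` -/
theorem PTWO_aux_le_core [Finite G] {p : ℕ} [Fact p.Prime] (M : Subgroup G)
    (hc : Subgroup.centralizer (pCore p ↥M : Set ↥M) ≤ pCore p ↥M)
    (hab : ∀ S : Sylow p ↥M, IsMulCommutative (S : Subgroup ↥M))
    (R : Subgroup G) (hRM : R ≤ M) (hR : IsPGroup p ↥R) : R ≤ pCoreOf p M := by
  have hR' : IsPGroup p ↥(R.subgroupOf M) := hR.comap_subtype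
  obtain ⟨S, hS⟩ := hR'.exists_le_sylow
  have h1 : R.subgroupOf M ≤ pCore p ↥M := hS.trans (PTWO_aux_sylow_le hc S (hab S))
  intro x hx
  exact ⟨⟨x, hRM hx⟩, h1 (by simpa [Subgroup.mem_subgroupOf] using hx), rfl⟩

/-- `O_p(M) = 1` and `C_M(O_p(M)) ≤ O_p(M)` force `M = 1` -/
theorem PTWO_aux_bot {p : ℕ} (M : Subgroup G)
    (hc : Subgroup.centralizer (pCore p ↥M : Set ↥M) ≤ pCore p ↥M)
    (h : pCoreOf p M = ⊥) : M = ⊥ := by
  have h1 : pCore p ↥M = ⊥ := by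
    unfold pCoreOf at h
    exact (Subgroup.map_eq_bot_iff_of_injective _ M.subtype_injective).1 h
  rw [eq_bot_iff]
  intro x hx
  have : (⟨x, hx⟩ : ↥M) ∈ pCore p ↥M := by
    apply hc
    rw [Subgroup.mem_centralizer_iff]
    intro q hq
    rw [h1] at hq
    have : q = 1 := hq
    rw [this, one_mul, mul_one]
  rw [h1] at this
  have h2 : (⟨x, hx⟩ : ↥M) = 1 := this
  exact congrArg Subtype.val h2

/-- piece PTWO: the case `p = 2` -/
theorem PTWO [Finite G] (M₁ M₂ : Subgroup G) (hne : M₁ ≠ M₂) (hP : Prim M₁ M₂)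
    (hc₁ : Subgroup.centralizer (pCore 2 ↥M₁ : Set ↥M₁) ≤ pCore 2 ↥M₁)
    (hc₂ : Subgroup.centralizer (pCore 2 ↥M₂ : Set ↥M₂) ≤ pCore 2 ↥M₂)
    (hO : pCoreOf 2 M₁ ⊔ pCoreOf 2 M₂ ≤ M₁ ⊓ M₂) :
    (∃ S : Sylow 2 ↥M₁, ¬ IsMulCommutative (S : Subgroup ↥M₁)) ∨
      (∃ S : Sylow 2 ↥M₂, ¬ IsMulCommutative (S : Subgroup ↥M₂)) := by
  have : Fact (Nat.Prime 2) := ⟨Nat.prime_two⟩
  by_contra hcon
  rw [not_or] at hcon
  have hab₁ : ∀ T : Sylow 2 ↥M₁, IsMulCommutative (T : Subgroup ↥M₁) := by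
    intro T
    by_contra h
    exact hcon.1 ⟨T, h⟩
  have hab₂ : ∀ T : Sylow 2 ↥M₂, IsMulCommutative (T : Subgroup ↥M₂) := by
    intro T
    by_contra h
    exact hcon.2 ⟨T, h⟩
  have hQ₁D : pCoreOf 2 M₁ ≤ M₁ ⊓ M₂ := le_sup_left.trans hO
  have hQ₂D : pCoreOf 2 M₂ ≤ M₁ ⊓ M₂ := le_sup_right.trans hO
  have h21 : pCoreOf 2 M₂ ≤ pCoreOf 2 M₁ :=
    PTWO_aux_le_core M₁ hc₁ hab₁ _ (hQ₂D.trans inf_le_left) (Cfsg.Agent.Helper14.pCoreOf_isPGroup 2 M₂)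
  have h12 : pCoreOf 2 M₁ ≤ pCoreOf 2 M₂ :=
    PTWO_aux_le_core M₂ hc₂ hab₂ _ (hQ₁D.trans inf_le_right) (Cfsg.Agent.Helper14.pCoreOf_isPGroup 2 M₁)
  have heq : pCoreOf 2 M₁ = pCoreOf 2 M₂ := le_antisymm h12 h21
  by_cases hbot : pCoreOf 2 M₁ = ⊥
  · have e1 := PTWO_aux_bot M₁ hc₁ hbot
    have e2 := PTWO_aux_bot M₂ hc₂ (heq ▸ hbot)
    exact hne (e1.trans e2.symm)
  · have hn₁ : M₁ ≤ Subgroup.normalizer (pCoreOf 2 M₁ : Set G) :=
      Cfsg.Agent.Helper14.le_normalizer_pCoreOf 2 M₁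
    have hn₂ : M₂ ≤ Subgroup.normalizer (pCoreOf 2 M₁ : Set G) := by
      rw [heq]
      exact Cfsg.Agent.Helper14.le_normalizer_pCoreOf 2 M₂
    obtain ⟨p1, p2⟩ := hP (pCoreOf 2 M₁) hbot hQ₁D
    have f1 := p1 hn₁
    have f2 := p2 hn₂
    rw [inf_eq_left.2 hn₂] at f1
    rw [inf_eq_left.2 hn₁] at f2
    have g1 : M₂ ≤ M₁ := by
      rw [f1]
      exact inf_le_left
    have g2 : M₁ ≤ M₂ := by
      rw [f2]
      exact inf_le_right
    exact hne (le_antisymm g2 g1)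

end Cfsg.Agent.S3753P
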