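import Mathlib
import Cfsg.Agent.Helper29.S3fAsmC
import Cfsg.Agent.Helper25.S3fCaseA
import Cfsg.Agent.Helper27.S3fStruct
import Cfsg.Agent.Helper27.S3fP6
import Cfsg.Agent.Lead.S3fP7
import Cfsg.Agent.Helper1.S3fCaseB

set_option autoImplicit false
set_option maxHeartbeats 800000

namespace Cfsg.Agent.Helper29.S3f

open scoped commutatorElement
open Module TensorProduct Cfsg.Agent.Helper5.FrobMod

universe u

theorem five_le_of_prime_coprime_six {p : ℕ} (hp : p.Prime) (h : p.Coprime 6) : 5 ≤ p := by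
  by_contra hlt
  push Not at hlt
  have h2 := hp.two_le
  interval_cases p
  · norm_num at h
  · norm_num at h
  · norm_num at hp

/-- The quotient `X = G / C_G(V)` is abelian. -/
theorem quot_abelian {Γ : Type u} [Group Γ] [Finite Γ] (j : A0 →* Γ) (hj : Function.Injective j)
    (G : Subgroup Γ) [hGn : G.Normal] (hGA : ∀ γ : Γ, ∃ g ∈ G, ∃ a : A0, γ = g * j a)
    (hG : HypInt j G) (V : Subgroup Γ) [hVn : V.Normal] (hVG : V ≤ G) (hVne : V ≠ ⊥)
    (hmin : ∀ W : Subgroup Γ, W.Normal → W ≤ V → W ≠ ⊥ → W = V)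
    (hVab : ∀ a ∈ V, ∀ b ∈ V, a * b = b * a) {r : ℕ} [hr : Fact r.Prime]
    (hrV : r ∣ Nat.card V) (hVexp : ∀ v ∈ V, v ^ r = 1)
    {V₀ : Type u} [AddCommGroup V₀] [Module (ZMod r) V₀] (D : RepData V r V₀)
    (IH : ∀ (Γ' : Type u) [Group Γ'] [Finite Γ'] (j' : A0 →* Γ') (G' : Subgroup Γ'),
      HypInt j' G' → Nat.card G' < Nat.card G → Group.IsNilpotent ↥⁅G', G'⁆) :
    ∀ a ∈ G.map (QuotientGroup.mk' (cen G V)), ∀ b ∈ G.map (QuotientGroup.mk' (cen G V)),
      a * b = b * a := by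
  classical
  by_contra hnab
  have hrp : r.Prime := Fact.out
  have hr5 : 5 ≤ r := by
    apply five_le_of_prime_coprime_six hrp
    have h1 : r ∣ Nat.card G := hrV.trans (Subgroup.card_dvd_of_le hVG)
    exact Nat.Coprime.coprime_dvd_left h1 hG.cop
  have hVC : V ≤ cen G V := le_cen G V hVG hVab
  have hCne : cen G V ≠ ⊥ := fun h => hVne (by rw [eq_bot_iff, ← h]; exact hVC)
  have hX : HypInt ((QuotientGroup.mk' (cen G V)).comp j) (G.map (QuotientGroup.mk' (cen G V))) :=
    hG.quot (cen G V) (cen_le G V)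
  have hXn : (G.map (QuotientGroup.mk' (cen G V))).Normal := quot_normal (cen G V)
  have hcov := quot_cover hGA (cen G V)
  have hj₁ := quot_injective j hj hG.cop (cen G V) (cen_le G V)
  have hlt := quot_card_lt (cen G V) (cen_le G V) hCne
  have hnil := IH _ _ _ hX hlt
  have hVp : IsPGroup r V := by
    intro v
    refine ⟨1, ?_⟩
    rw [pow_one]
    exact Subtype.ext (by simpa using hVexp v v.2)
  have hr' : ¬ r ∣ Nat.card ↥⁅G.map (QuotientGroup.mk' (cen G V)),
      G.map (QuotientGroup.mk' (cen G V))⁆ :=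
    not_dvd_card_of_nilpotent G V D hmin hrV _ (Subgroup.commutator_le_left _ _) hnil
  have hdag := fun H hH hne hHA =>
    Cfsg.Agent.Helper27.S3fP6.dagger j G hG V hVG hVp (cen G V) rfl hVC hr' IH H hH hne hHA
  set j₁ := (QuotientGroup.mk' (cen G V)).comp j with hj₁def
  set X₁ := G.map (QuotientGroup.mk' (cen G V)) with hX₁def
  -- the commutator subgroup is nontrivial
  have hcomm_ne : ⁅X₁, X₁⁆ ≠ ⊥ := by
    intro h
    apply hnab
    intro a ha b hb
    have : ⁅a, b⁆ ∈ ⁅X₁, X₁⁆ := Subgroup.commutator_mem_commutator ha hb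
    rw [h, Subgroup.mem_bot] at this
    exact commutatorElement_eq_one_iff_mul_comm.mp this
  have _hfinV₀ : Finite V₀ := D.finite
  have _hcharK : CharP (AlgebraicClosure (ZMod r)) r :=
    charP_of_injective_algebraMap (algebraMap (ZMod r) (AlgebraicClosure (ZMod r))).injective r
  have h6 := six_ne_zero_K (r := r) hr5
  have hfixA := rhoK_fixA j G V D hr5 hG hVG
  rcases Cfsg.Agent.Helper27.S3fStruct.structure_thm j₁ X₁ hcov hX.cop hX.fpf hdag hnil hnab with
    ⟨s, hs, hXs⟩ | ⟨s, q, S, Q, hs, hq, hsq, hSle, hSn, hSne, hSab, hSexp, hQle, hQab, hQp, hQA,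
      hCSQ, hSirr, hQmin⟩
  · -- case (a)
    have _hsf : Fact s.Prime := ⟨hs⟩
    have hcomm_p : IsPGroup s ↥⁅X₁, X₁⁆ := hXs.to_le (Subgroup.commutator_le_left _ _)
    have hrs : r ≠ s := by
      rintro rfl
      apply hr'
      obtain ⟨k, hk⟩ := IsPGroup.iff_card.mp hcomm_p
      rw [hk]
      have hk0 : k ≠ 0 := by
        rintro rfl
        rw [pow_zero] at hk
        exact hcomm_ne (Subgroup.card_eq_one.mp hk)
      exact dvd_pow_self _ hk0
    have hs5 : 5 ≤ s := by
      apply five_le_of_prime_coprime_six hs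
      obtain ⟨k, hk⟩ := IsPGroup.iff_card.mp hXs
      have hk0 : k ≠ 0 := by
        rintro rfl
        rw [pow_zero] at hk
        have : X₁ = ⊥ := Subgroup.card_eq_one.mp hk
        apply hcomm_ne
        rw [eq_bot_iff, ← this]
        exact Subgroup.commutator_le_left _ _
      have h1 : s ∣ Nat.card X₁ := by rw [hk]; exact dvd_pow_self _ hk0
      exact Nat.Coprime.coprime_dvd_left h1 hX.cop
    have hfix0 : ∀ B0 : Subgroup (Γ ⧸ cen G V), B0 ≤ X₁ → (∀ x ∈ X₁, ∀ b ∈ B0, x * b * x⁻¹ ∈ B0) →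
        AInv j₁ B0 → B0 ≠ ⊥ → ∀ m : AlgebraicClosure (ZMod r) ⊗[ZMod r] V₀,
        (∀ b ∈ B0, rhoK G V D b m = m) → m = 0 := by
      intro B0 hB0 hBX hBA hne m hm
      have hn : B0.Normal := normal_of_cover j₁ X₁ hcov B0 hBX hBA
      have hcop : (Nat.card B0).Coprime r := by
        obtain ⟨k, hk⟩ := IsPGroup.iff_card.mp (hXs.to_le hB0)
        rw [hk]
        exact Nat.Coprime.pow_left k ((Nat.coprime_primes hs hrp).mpr (Ne.symm hrs))
      exact rhoK_fix0 G V D hmin B0 hB0 hne hcop m hm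
    have h8 : (∀ m : AlgebraicClosure (ZMod r) ⊗[ZMod r] V₀, rhoK G V D (j₁ f0) m = m → m = 0) →
        ∀ x ∈ X₁, j₁ f0 * x * (j₁ f0)⁻¹ = x := by
      intro h
      have hCVf := rhoK_fix_f j G V D hVG h
      exact Cfsg.Agent.Lead.S3fP7.h8_of_S3769 j hj G hG hr5 V hVG hVab hVexp (cen G V) rfl
        (Ne.symm hrs) hXs hCVf
    exact hnab (Cfsg.Agent.Helper25.S3fCaseA.caseA j₁ hj₁ X₁ hs5 hXs hX.fpf hdag hr5 hrs
      (rhoK G V D) (rhoK_faithful G V D) hfixA hfix0 h8)
  · -- case (b)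
    have _hsf : Fact s.Prime := ⟨hs⟩
    have _hqf : Fact q.Prime := ⟨hq⟩
    have hSX : S ≤ X₁ := hSle.trans (Subgroup.commutator_le_left _ _)
    have hSp : IsPGroup s ↥S := by
      intro v
      refine ⟨1, ?_⟩
      rw [pow_one]
      exact Subtype.ext (by simpa using hSexp v v.2)
    obtain ⟨k, hk⟩ := IsPGroup.iff_card.mp hSp
    have hk0 : k ≠ 0 := by
      rintro rfl
      rw [pow_zero] at hk
      exact hSne (Subgroup.card_eq_one.mp hk)
    have hsS : s ∣ Nat.card S := by rw [hk]; exact dvd_pow_self _ hk0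
    have hs5 : 5 ≤ s := by
      apply five_le_of_prime_coprime_six hs
      exact Nat.Coprime.coprime_dvd_left (hsS.trans (Subgroup.card_dvd_of_le hSX)) hX.cop
    have hsr : s ≠ r := by
      rintro rfl
      exact hr' (hsS.trans (Subgroup.card_dvd_of_le hSle))
    have hQne : Q ≠ ⊥ := by
      intro h
      apply hSne
      rw [eq_bot_iff]
      intro u hu
      rw [Subgroup.mem_bot]
      apply hCSQ u hu
      intro x hx
      rw [h, Subgroup.mem_bot] at hx
      rw [hx]; group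
    have hq5 : 5 ≤ q := by
      apply five_le_of_prime_coprime_six hq
      obtain ⟨k', hk'⟩ := IsPGroup.iff_card.mp hQp
      have hk'0 : k' ≠ 0 := by
        rintro rfl
        rw [pow_zero] at hk'
        exact hQne (Subgroup.card_eq_one.mp hk')
      have h1 : q ∣ Nat.card Q := by rw [hk']; exact dvd_pow_self _ hk'0
      exact Nat.Coprime.coprime_dvd_left (h1.trans (Subgroup.card_dvd_of_le hQle)) hX.cop
    have hScop : (Nat.card S).Coprime r := by
      rw [hk]
      exact Nat.Coprime.pow_left k ((Nat.coprime_primes hs hrp).mpr hsr)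
    -- the set of weights
    let Λ : Set (↥S →* (AlgebraicClosure (ZMod r))ˣ) := {χ | wtSpace (rhoK G V D) S χ ≠ ⊥}
    have hMne : (⊤ : Submodule (AlgebraicClosure (ZMod r))
        (AlgebraicClosure (ZMod r) ⊗[ZMod r] V₀)) ≠ ⊥ := by
      intro h
      -- a nonzero vector of `V₀`
      obtain ⟨v, hv1⟩ := (Subgroup.ne_bot_iff_exists_ne_one).mp hVne
      have hw : D.e v ≠ 0 := fun h0 => hv1 ((D.e_eq_zero_iff v).mp h0)
      have hmem : ((1 : AlgebraicClosure (ZMod r)) ⊗ₜ[ZMod r] D.e v) ∈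
          (⊤ : Submodule (AlgebraicClosure (ZMod r)) (AlgebraicClosure (ZMod r) ⊗[ZMod r] V₀)) :=
        trivial
      rw [h] at hmem
      have h0 := (Submodule.mem_bot _).mp hmem
      have hinj := Module.Flat.tensorProduct_mk_injective (ZMod r) V₀ (AlgebraicClosure (ZMod r))
      apply hw
      apply hinj
      rw [map_zero]
      exact h0
    obtain ⟨χ0, m0, -, hm0, hm0χ⟩ := exists_weight (rhoK G V D) S hSab ⊤ hMne
      (fun _ _ _ _ => trivial)
    have hΛne : Λ.Nonempty := by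
      refine ⟨χ0, ?_⟩
      intro h
      apply hm0
      have : m0 ∈ wtSpace (rhoK G V D) S χ0 := hm0χ
      rw [h] at this
      exact (Submodule.mem_bot _).mp this
    have hΛ1 : ∀ χ ∈ Λ, χ ≠ 1 := by
      intro χ hχ h1
      obtain ⟨m, hm, hm0'⟩ := (Submodule.ne_bot_iff _).mp hχ
      apply hm0'
      apply rhoK_fix0 G V D hmin S hSX hSne hScop m
      intro b hb
      have := hm ⟨b, hb⟩
      rw [h1] at this
      simpa using this
    have hconj : ∀ χ ∈ Λ, ∀ g : Γ ⧸ cen G V, conjChar g χ ∈ Λ := by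
      intro χ hχ g
      obtain ⟨m, hm, hm0'⟩ := (Submodule.ne_bot_iff _).mp hχ
      show wtSpace (rhoK G V D) S (conjChar g χ) ≠ ⊥
      intro h
      have h1 := rho_mem_wtSpace_conjChar (rhoK G V D) S g hm
      rw [h] at h1
      have h2 := (Submodule.mem_bot _).mp h1
      apply hm0'
      apply rho_injective (rhoK G V D) g
      rw [h2, map_zero]
    have hnorm : ∀ χ ∈ Λ, ∃ a : A0, a ≠ 1 ∧ conjChar (j₁ a) χ = χ := fun χ hχ =>
      exists_stab_ne_one (rhoK G V D) S hSab j₁ h6 hfixA hχ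
    exact Cfsg.Agent.Helper1.S3fCaseB.caseB j₁ hj₁ S Q hs5 hq5 hsq hSab hSexp hSne hQab hQp hQA
      hCSQ hSirr hQmin (fun u hu => hX.fpf u (hSX hu)) (fun x hx => hX.fpf x (hQle hx)) Λ hΛne hΛ1
      (fun χ hχ x _ => hconj χ hχ x) (fun χ hχ a => hconj χ hχ (j₁ a)) hnorm

end Cfsg.Agent.Helper29.S3f
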