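import Mathlib
import Cfsg.Agent.Helper29.S3fAsmD
import Cfsg.Agent.Helper29.S3fMinV
import Cfsg.Agent.Helper27.S3fP8

set_option autoImplicit false

namespace Cfsg.Agent.Helper29.S3f

open scoped commutatorElement

universe u

/-- The inductive step. -/
theorem stepInt {Γ : Type u} [Group Γ] [Finite Γ] (j : A0 →* Γ) (hj : Function.Injective j)
    (G : Subgroup Γ) [hGn : G.Normal] (hGA : ∀ γ : Γ, ∃ g ∈ G, ∃ a : A0, γ = g * j a)
    (hG : HypInt j G)
    (IH : ∀ (Γ' : Type u) [Group Γ'] [Finite Γ'] (j' : A0 →* Γ') (G' : Subgroup Γ'),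
      HypInt j' G' → Nat.card G' < Nat.card G → Group.IsNilpotent ↥⁅G', G'⁆) :
    Group.IsNilpotent ↥⁅G, G⁆ := by
  by_cases hGb : G = ⊥
  · have hb : ⁅G, G⁆ = ⊥ := by
      rw [eq_bot_iff]
      exact (Subgroup.commutator_le_left G G).trans (le_of_eq hGb)
    rw [hb]
    infer_instance
  obtain ⟨V, hVn, hVG, hVne, hmin⟩ := exists_minimal_normal G hGb
  have hVsolv : Group.IsSolvable ↥V := by
    have := hG.solv
    exact Group.isSolvable_of_isSolvable_injective (f := Subgroup.inclusion hVG)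
      (Subgroup.inclusion_injective hVG)
  obtain ⟨hVab, r, hr, hrV, hVexp⟩ := minimal_normal_elementary V hVsolv hVne hmin
  have _hrf : Fact r.Prime := ⟨hr⟩
  obtain ⟨V₀, _i1, _i2, ⟨D⟩⟩ := exists_repData V hVab hVexp
  have hab := quot_abelian j hj G hGA hG V hVG hVne hmin hVab hrV hVexp D IH
  have hcomm : ⁅G, G⁆ ≤ Subgroup.centralizer (V : Set Γ) := by
    rw [Subgroup.commutator_le]
    intro a ha b hb
    have h1 := hab _ (Subgroup.mem_map_of_mem _ ha) _ (Subgroup.mem_map_of_mem _ hb)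
    have h2 : (QuotientGroup.mk' (cen G V)) ⁅a, b⁆ = 1 := by
      rw [map_commutatorElement]
      exact commutatorElement_eq_one_iff_mul_comm.mpr h1
    have h3 : ⁅a, b⁆ ∈ cen G V := (QuotientGroup.eq_one_iff _).mp h2
    exact (Subgroup.mem_inf.mp h3).2
  exact Cfsg.Agent.Helper27.S3fP8.case1a j G hG V hVG hVne hcomm IH

/-- The main theorem, internal form. -/
theorem mainInt : ∀ (n : ℕ) (Γ : Type u) [Group Γ] [Finite Γ] (j : A0 →* Γ) (G : Subgroup Γ),
    HypInt j G → Nat.card G = n → Group.IsNilpotent ↥⁅G, G⁆ := by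
  intro n
  induction n using Nat.strong_induction_on with
  | _ n ih =>
    intro Γ _ _ j G hG hn
    let φ := conjRestrict j G hG.inv
    have hstd : HypInt (SemidirectProduct.inr : A0 →* ↥G ⋊[φ] A0)
        (SemidirectProduct.inl : ↥G →* ↥G ⋊[φ] A0).range := by
      apply std_hypInt ↥G φ hG.solv hG.cop
      intro g hg
      apply Subtype.ext
      apply hG.fpf g g.2
      intro a
      have := congrArg Subtype.val (hg a)
      rw [coe_conjRestrict_apply] at this
      exact this
    have hcard : Nat.card ↥(SemidirectProduct.inl : ↥G →* ↥G ⋊[φ] A0).range = n := by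
      rw [std_card, hn]
    have h1 := stepInt (Γ := ↥G ⋊[φ] A0) SemidirectProduct.inr SemidirectProduct.inr_injective
      (SemidirectProduct.inl : ↥G →* ↥G ⋊[φ] A0).range (std_cover ↥G φ) hstd
      (fun Γ' _ _ j' G' h' hlt => ih (Nat.card G') (by rw [hcard] at hlt; exact hlt) Γ' j' G' h' rfl)
    exact nilpotent_comm_of_subtype G (std_nilpotent ↥G φ h1)

end Cfsg.Agent.Helper29.S3f
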