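import Mathlib
import Cfsg.Agent.Helper10.S4017Defs
import Cfsg.Agent.Helper14.PCore
import Cfsg.Agent.S0144
import Cfsg.Agent.S0009
import Cfsg.Agent.S0044

set_option autoImplicit false

/-! # S4017 piece MMAX: `N_G(Q)` is a maximal subgroup. -/

namespace Cfsg.Agent.S4017P

open Subgroup

/-- a divisor of `2 ^ a * p ^ b` is `2 ^ i * p ^ j` -/
theorem MMAX_aux_dvd {p a b n : ℕ} (hp : p.Prime) (h : n ∣ 2 ^ a * p ^ b) :
    ∃ i j : ℕ, n = 2 ^ i * p ^ j := by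
  obtain ⟨k₁, k₂, h1, h2, rfl⟩ := (Nat.dvd_mul).mp h
  obtain ⟨i, -, rfl⟩ := (Nat.dvd_prime_pow Nat.prime_two).mp h1
  obtain ⟨j, -, rfl⟩ := (Nat.dvd_prime_pow hp).mp h2
  exact ⟨i, j, rfl⟩

/-- an `r`-group whose order divides `2 ^ i * p ^ j`, `r ∉ {2, p}`, is trivial -/
theorem MMAX_aux_triv {X : Type*} [Group X] [Finite X] {p r i j : ℕ} (hp : p.Prime) (hr : r.Prime)
    (hr2 : r ≠ 2) (hrp : r ≠ p) (N : Subgroup X) (hN : IsPGroup r ↥N)
    (hcard : Nat.card X = 2 ^ i * p ^ j) : N = ⊥ := by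
  haveI := Fact.mk hr
  obtain ⟨k, hk⟩ := (IsPGroup.iff_card).mp hN
  rw [← Subgroup.card_eq_one]
  by_contra hne
  have hk0 : k ≠ 0 := by
    rintro rfl
    exact hne (by simpa using hk)
  have h1 : r ∣ Nat.card ↥N := by
    rw [hk]; exact dvd_pow_self r hk0
  have h2 : r ∣ 2 ^ i * p ^ j := by
    rw [← hcard]; exact h1.trans (Subgroup.card_subgroup_dvd_card N)
  rcases (Nat.Prime.dvd_mul hr).mp h2 with h3 | h3
  · exact hr2 ((Nat.prime_dvd_prime_iff_eq hr Nat.prime_two).mp (hr.dvd_of_dvd_pow h3))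
  · exact hrp ((Nat.prime_dvd_prime_iff_eq hr hp).mp (hr.dvd_of_dvd_pow h3))

theorem MMAX {G : Type*} [Group G] [Finite G] {p a : ℕ} {Q : Subgroup G} {z : G}
    (h : Cfg G p a Q z) (f : Facts G p a Q z) :
    ∀ L : Subgroup G, Subgroup.normalizer (Q : Set G) ≤ L → L ≠ ⊤ →
      L ≤ Subgroup.normalizer (Q : Set G) := by
  intro L hNL hLtop
  have hp := h.hp
  haveI : Fact p.Prime := ⟨hp⟩
  haveI : Fact (2 : ℕ).Prime := ⟨Nat.prime_two⟩
  have hQL : Q ≤ L := Subgroup.le_normalizer.trans hNL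
  have hzL : z ∈ L := hNL h.hzN
  have ha0 : a ≠ 0 := by
    rintro rfl
    have := h.ha
    have hp2 := hp.two_le
    omega
  have hG0 : Nat.card G ≠ 0 := Nat.card_pos.ne'
  -- `|L|` is even
  have hQdvd : Nat.card ↥Q ∣ Nat.card ↥L := Subgroup.card_dvd_of_le hQL
  have h2L : 2 ∣ Nat.card ↥L := by
    refine dvd_trans ?_ hQdvd
    rw [h.hQ]; exact dvd_pow_self 2 ha0
  obtain ⟨i, j, hcard⟩ := MMAX_aux_dvd hp (f.maxord L hLtop h2L)
  haveI hsolv : Group.IsSolvable ↥L := Cfsg.Agent.S0144.result 2 p i j Nat.prime_two hp hcard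
  -- the 2-core of `L`
  set O2 : Subgroup ↥L := Cfsg.pCore 2 ↥L with hO2def
  have hO2p : IsPGroup 2 ↥O2 := Cfsg.Agent.Helper14.pCore_isPGroup 2
  haveI hO2n : O2.Normal := Cfsg.Agent.Helper14.pCore_normal 2
  set QL : Subgroup ↥L := Q.subgroupOf L with hQLdef
  have hQLcard : Nat.card ↥QL = 2 ^ a := by
    rw [hQLdef, Nat.card_congr (Subgroup.subgroupOfEquivOfLe hQL).toEquiv, h.hQ]
  have hQLp : IsPGroup 2 ↥QL := IsPGroup.of_card hQLcard
  -- `O2 ≤ QL`
  have hO2Q : O2 ≤ QL := by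
    have hsup : IsPGroup 2 ↥(O2 ⊔ QL) := IsPGroup.to_sup_of_normal_left hO2p hQLp
    obtain ⟨k, hk⟩ := (IsPGroup.iff_card).mp hsup
    have hdvd : 2 ^ k ∣ Nat.card G := by
      rw [← hk]
      exact (Subgroup.card_subgroup_dvd_card _).trans (Subgroup.card_subgroup_dvd_card L)
    have hka : k ≤ a := by
      have := (Nat.Prime.pow_dvd_iff_le_factorization Nat.prime_two hG0).mp hdvd
      rwa [h.hG2] at this
    have hle : Nat.card ↥(O2 ⊔ QL) ≤ Nat.card ↥QL := by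
      rw [hk, hQLcard]; exact Nat.pow_le_pow_right (by norm_num) hka
    have heq : QL = O2 ⊔ QL := Subgroup.eq_of_le_of_card_ge le_sup_right hle
    rw [heq]; exact le_sup_left
  by_cases hbot : O2 = ⊥
  · -- `F(L) = O_p(L)`, `z ∈ O_p(L)`: contradiction
    exfalso
    set P : Subgroup ↥L := Cfsg.pCore p ↥L with hPdef
    have hPp : IsPGroup p ↥P := Cfsg.Agent.Helper14.pCore_isPGroup p
    haveI hPn : P.Normal := Cfsg.Agent.Helper14.pCore_normal p
    have hfit : Cfsg.fittingSubgroup ↥L = P := by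
      rw [Cfsg.Agent.S0009.result]
      apply le_antisymm
      · apply iSup_le
        intro r
        by_cases hr2 : (r : ℕ) = 2
        · rw [hr2, ← hO2def, hbot]; exact bot_le
        · by_cases hrp : (r : ℕ) = p
          · rw [hrp]
          · rw [MMAX_aux_triv hp r.2 hr2 hrp _ (Cfsg.Agent.Helper14.pCore_isPGroup (r : ℕ)) hcard]
            exact bot_le
      · exact le_iSup (fun r : Nat.Primes => Cfsg.pCore (r : ℕ) ↥L) ⟨p, hp⟩
    set zL : ↥L := ⟨z, hzL⟩ with hzLdef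
    obtain ⟨kz, hkz⟩ := h.hzp
    have hzLp : IsPGroup p ↥(Subgroup.zpowers zL) := by
      apply IsPGroup.of_card (n := kz)
      rw [Nat.card_zpowers, ← hkz, hzLdef]
      exact (Subgroup.orderOf_mk z hzL)
    have hsup : IsPGroup p ↥(P ⊔ Subgroup.zpowers zL) := IsPGroup.to_sup_of_normal_left hPp hzLp
    have hsupG : IsPGroup p ↥((P ⊔ Subgroup.zpowers zL).map L.subtype) := hsup.map _
    have hzcent : zL ∈ Subgroup.centralizer (Cfsg.fittingSubgroup ↥L : Set ↥L) := by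
      rw [hfit, Subgroup.mem_centralizer_iff]
      intro x hx
      have h1 : (x : G) ∈ (P ⊔ Subgroup.zpowers zL).map L.subtype :=
        ⟨x, (le_sup_left : P ≤ _) hx, rfl⟩
      have h2 : z ∈ (P ⊔ Subgroup.zpowers zL).map L.subtype :=
        ⟨zL, (le_sup_right : Subgroup.zpowers zL ≤ _) (Subgroup.mem_zpowers zL), rfl⟩
      have h3 := h.hab _ hsupG _ h1 _ h2
      apply Subtype.ext
      simpa using h3
    have hzP : zL ∈ P := by
      have := Cfsg.Agent.S0044.result (G := ↥L) hzcent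
      rwa [hfit] at this
    set PG : Subgroup G := P.map L.subtype with hPGdef
    have hPGp : IsPGroup p ↥PG := hPp.map _
    have hPGnorm : ∀ v ∈ Q, ∀ x ∈ PG, v * x * v⁻¹ ∈ PG := by
      rintro v hv _ ⟨x, hx, rfl⟩
      refine ⟨⟨v, hQL hv⟩ * x * ⟨v, hQL hv⟩⁻¹, hPn.conj_mem x hx _, ?_⟩
      simp
    have hzPG : z ∈ PG ⊔ Q := (le_sup_left : PG ≤ _) ⟨zL, hzP, rfl⟩
    have hcomm := f.zout PG hPGp hPGnorm z h.hzN h.hzp hzPG
    obtain ⟨v, hv, hne⟩ := f.znc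
    exact hne (hcomm v hv)
  · -- `O2 = QL`, so `Q ⊴ L`
    have hQLO2 : QL ≤ O2 := by
      obtain ⟨x, hx, hx1⟩ := (Subgroup.ne_bot_iff_exists_ne_one (H := O2)).mp hbot |>.imp
        (fun x hx => hx) |> fun ⟨x, hx⟩ => (⟨(x : ↥L), x.2, fun h1 => hx (Subtype.ext h1)⟩ :
          ∃ x : ↥L, x ∈ O2 ∧ x ≠ 1)
      have hxQ : (x : G) ∈ Q := by
        have := hO2Q hx
        rwa [hQLdef, Subgroup.mem_subgroupOf] at this
      have hx1' : (x : G) ≠ 1 := fun h1 => hx1 (Subtype.ext h1)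
      intro y hy
      have hyQ : (y : G) ∈ Q := by rwa [hQLdef, Subgroup.mem_subgroupOf] at hy
      by_cases hy1 : y = 1
      · rw [hy1]; exact one_mem _
      · have hy1' : (y : G) ≠ 1 := fun h1 => hy1 (Subtype.ext h1)
        obtain ⟨n, hn⟩ := h.htrans _ hxQ hx1' _ hyQ hy1'
        have hconj : (⟨z, hzL⟩ : ↥L) ^ n * x * ((⟨z, hzL⟩ : ↥L) ^ n)⁻¹ ∈ O2 :=
          hO2n.conj_mem x hx _
        have heq : (⟨z, hzL⟩ : ↥L) ^ n * x * ((⟨z, hzL⟩ : ↥L) ^ n)⁻¹ = y := by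
          apply Subtype.ext
          simpa using hn
        rwa [heq] at hconj
    have hQLeq : QL = O2 := le_antisymm hQLO2 hO2Q
    have hQLn : QL.Normal := by rw [hQLeq]; exact hO2n
    exact (Subgroup.normal_subgroupOf_iff_le_normalizer hQL).mp hQLn

end Cfsg.Agent.S4017P
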