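import Mathlib

/-! Board `s4130pieces`, row PKN2 (Knoche): a finite group of class at most 2 all of whose class
sizes divide `p` has `|P'| ∣ p`. -/

set_option autoImplicit false

namespace Cfsg.Agent.S4130P

open Subgroup
open scoped commutatorElement

/-- commutators are central in a group of class at most 2 -/
theorem PKN2_aux_central {P : Type*} [Group P] (hc2 : commutator P ≤ center P) (x y : P) (g : P) :
    g * ⁅x, y⁆ = ⁅x, y⁆ * g := by
  have hc : ⁅x, y⁆ ∈ center P :=
    hc2 (Subgroup.commutator_mem_commutator (mem_top x) (mem_top y))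
  exact Subgroup.mem_center_iff.mp hc g

/-- linearity in the second argument -/
theorem PKN2_aux_mul_right {P : Type*} [Group P] (hc2 : commutator P ≤ center P) (x y z : P) :
    ⁅x, y * z⁆ = ⁅x, y⁆ * ⁅x, z⁆ := by
  have h1 : ⁅x, y * z⁆ = x * y * x⁻¹ * (⁅x, z⁆ * y⁻¹) := by
    simp only [commutatorElement_def]; group
  rw [h1, ← PKN2_aux_central hc2 x z y⁻¹]
  simp only [commutatorElement_def]; group

/-- linearity in the first argument -/
theorem PKN2_aux_mul_left {P : Type*} [Group P] (hc2 : commutator P ≤ center P) (x x' y : P) :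
    ⁅x * x', y⁆ = ⁅x, y⁆ * ⁅x', y⁆ := by
  have h1 : ⁅x * x', y⁆ = x * (⁅x', y⁆ * x⁻¹) * ⁅x, y⁆ * 1 := by
    simp only [commutatorElement_def]; group
  rw [h1, ← PKN2_aux_central hc2 x' y x⁻¹, mul_one, PKN2_aux_central hc2 x y]
  simp only [commutatorElement_def]; group

/-- the commutator map `y ↦ ⁅x, y⁆` of a group of class at most 2 -/
def PKN2_aux_hom {P : Type*} [Group P] (hc2 : commutator P ≤ center P) (x : P) : P →* P :=
  MonoidHom.mk' (fun y => ⁅x, y⁆) (fun y z => PKN2_aux_mul_right hc2 x y z)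

theorem PKN2_aux_hom_apply {P : Type*} [Group P] (hc2 : commutator P ≤ center P) (x y : P) :
    PKN2_aux_hom hc2 x y = ⁅x, y⁆ := rfl

theorem PKN2_aux_ker {P : Type*} [Group P] (hc2 : commutator P ≤ center P) (x : P) :
    (PKN2_aux_hom hc2 x).ker = centralizer ({x} : Set P) := by
  ext y
  rw [MonoidHom.mem_ker, PKN2_aux_hom_apply, commutatorElement_eq_one_iff_mul_comm,
    Subgroup.mem_centralizer_iff]
  constructor
  · intro h z hz
    rw [Set.mem_singleton_iff] at hz
    rw [hz]; exact h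
  · intro h
    exact h x rfl

/-- the order of `[x, P]` divides `p` -/
theorem PKN2_aux_card {P : Type*} [Group P] [Finite P] (p : ℕ)
    (hc2 : commutator P ≤ center P)
    (hcl : ∀ x : P, (centralizer ({x} : Set P)).index ∣ p) (x : P) :
    Nat.card (PKN2_aux_hom hc2 x).range ∣ p := by
  rw [← Subgroup.index_ker, PKN2_aux_ker]
  exact hcl x

/-- two subgroups of order dividing `p` with a common nontrivial element are equal -/
theorem PKN2_aux_eq {P : Type*} [Group P] [Finite P] (p : ℕ) [Fact p.Prime] (A B : Subgroup P)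
    (hA : Nat.card A ∣ p) (hB : Nat.card B ∣ p) (c : P) (hcA : c ∈ A) (hcB : c ∈ B)
    (hc1 : c ≠ 1) : A = B := by
  have hp : p.Prime := Fact.out
  have key : ∀ A B : Subgroup P, Nat.card A ∣ p → c ∈ A → c ∈ B → A ≤ B := by
    intro A B hA hcA hcB
    have hAB : Nat.card (A ⊓ B : Subgroup P) ∣ Nat.card A := Subgroup.card_dvd_of_le inf_le_left
    have hne : Nat.card (A ⊓ B : Subgroup P) ≠ 1 := by
      intro h1
      rw [Subgroup.card_eq_one] at h1
      have : c ∈ (A ⊓ B : Subgroup P) := ⟨hcA, hcB⟩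
      rw [h1, Subgroup.mem_bot] at this
      exact hc1 this
    have hAp : Nat.card A = p := by
      rcases (Nat.dvd_prime hp).mp hA with h | h
      · exfalso; apply hne
        rw [h] at hAB; exact Nat.dvd_one.mp hAB
      · exact h
    have hABp : Nat.card (A ⊓ B : Subgroup P) = p := by
      rcases (Nat.dvd_prime hp).mp (hAp ▸ hAB) with h | h
      · exact absurd h hne
      · exact h
    have : (A ⊓ B : Subgroup P) = A :=
      Subgroup.eq_of_le_of_card_ge inf_le_left (by rw [hABp, hAp])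
    rw [← this]; exact inf_le_right
  exact le_antisymm (key A B hA hcA hcB) (key B A hB hcB hcA)

/-- `[x, P] = [g, P]` for non-commuting `x`, `g` -/
theorem PKN2_aux_edge {P : Type*} [Group P] [Finite P] (p : ℕ) [Fact p.Prime]
    (hc2 : commutator P ≤ center P)
    (hcl : ∀ x : P, (centralizer ({x} : Set P)).index ∣ p) (x g : P) (h : ⁅x, g⁆ ≠ 1) :
    (PKN2_aux_hom hc2 x).range = (PKN2_aux_hom hc2 g).range := by
  refine PKN2_aux_eq p _ _ (PKN2_aux_card p hc2 hcl x) (PKN2_aux_card p hc2 hcl g) ⁅x, g⁆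
    ⟨g, rfl⟩ ?_ h
  refine ⟨x⁻¹, ?_⟩
  rw [PKN2_aux_hom_apply]
  -- ⁅g, x⁻¹⁆ = ⁅x, g⁆
  have h1 := PKN2_aux_mul_right hc2 g x x⁻¹
  rw [mul_inv_cancel, commutatorElement_one_right] at h1
  have h2 : ⁅g, x⁻¹⁆ = ⁅g, x⁆⁻¹ := by
    rw [eq_inv_iff_mul_eq_one, PKN2_aux_central hc2 g x, ← h1]
  rw [h2, commutatorElement_inv]

/-- (PKN2) a finite group of class at most 2 all of whose class sizes divide `p` has `|P'| ∣ p`. -/
theorem PKN2 {P : Type*} [Group P] [Finite P] (p : ℕ) [Fact p.Prime]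
    (hc2 : commutator P ≤ center P)
    (hcl : ∀ x : P, (centralizer ({x} : Set P)).index ∣ p) : Nat.card (commutator P) ∣ p := by
  by_cases hab : ∀ x y : P, ⁅x, y⁆ = 1
  · have hbot : commutator P = ⊥ := by
      rw [commutator_eq_closure, Subgroup.closure_eq_bot_iff]
      rintro c ⟨x, y, rfl⟩
      exact hab x y
    rw [hbot, Subgroup.card_bot]
    exact one_dvd p
  · push Not at hab
    obtain ⟨x₀, g₀, h0⟩ := hab
    have hD : Nat.card (PKN2_aux_hom hc2 x₀).range ∣ p := PKN2_aux_card p hc2 hcl x₀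
    have edge := PKN2_aux_edge p hc2 hcl
    have key : ∀ x y : P, ⁅x, y⁆ ≠ 1 →
        (PKN2_aux_hom hc2 x).range = (PKN2_aux_hom hc2 x₀).range := by
      intro x y hxy
      have hxy' := edge x y hxy
      have h00 := edge x₀ g₀ h0
      by_cases h1 : ⁅x, x₀⁆ = 1
      swap
      · exact edge x x₀ h1
      by_cases h2 : ⁅y, x₀⁆ = 1
      swap
      · rw [hxy']; exact edge y x₀ h2
      by_cases h3 : ⁅x, g₀⁆ = 1
      swap
      · rw [edge x g₀ h3]; exact h00.symm
      by_cases h4 : ⁅y, g₀⁆ = 1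
      swap
      · rw [hxy', edge y g₀ h4]; exact h00.symm
      have h2' : ⁅x₀, y⁆ = 1 := by rw [← commutatorElement_inv, h2, inv_one]
      have h5 : ⁅x * x₀, g₀⁆ = ⁅x₀, g₀⁆ := by rw [PKN2_aux_mul_left hc2, h3, one_mul]
      have h6 : ⁅x * x₀, y⁆ = ⁅x, y⁆ := by rw [PKN2_aux_mul_left hc2, h2', mul_one]
      have e1 := edge (x * x₀) g₀ (by rw [h5]; exact h0)
      have e2 := edge (x * x₀) y (by rw [h6]; exact hxy)
      rw [hxy', ← e2, e1]; exact h00.symm
    have hle : commutator P ≤ (PKN2_aux_hom hc2 x₀).range := by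
      rw [commutator_eq_closure, Subgroup.closure_le]
      rintro c ⟨x, y, rfl⟩
      by_cases h1 : ⁅x, y⁆ = 1
      · rw [h1]; exact one_mem _
      · rw [SetLike.mem_coe, ← key x y h1]; exact ⟨y, rfl⟩
    exact (Subgroup.card_dvd_of_le hle).trans hD

end Cfsg.Agent.S4130P
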