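import Mathlib
import Cfsg.Prelude.Def_GeometricClasses
import Cfsg.Agent.Helper29.S5655.Defs
import Cfsg.Agent.Helper12.S5655BGSPLIT
import Cfsg.Agent.Helper18.S5655BLINE
import Cfsg.Agent.Helper23.S5655BSSB

/-! S5655 (half k ≥ 2), piece PBA. -/

set_option autoImplicit false

namespace Cfsg.Agent.S5655P

open Matrix Module
open Cfsg.Agent.S2644 Cfsg.Agent.Helper2.SUGen Cfsg.Agent.Helper28.SimMax Cfsg.Agent.S5658P

variable {K : Type*} [Field K] {q n t k : ℕ}

local notation "h" => Cfsg.hermForm n K q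
local notation "T" => Cfsg.unitaryTransvection n q

/-- piece PBA -/
theorem PBA.allA_of_allB [Fintype K] (D : Frob K q) (hK : Fintype.card K = q ^ 2)
    {B : Fin t → Submodule K (Fin n → K)} (hB : UD q k B)
    {M : Subgroup (Matrix.GeneralLinearGroup (Fin n) K)} (hM : Over q B M) (hk : 3 ≤ k)
    {a b : Fin t} (hab : a ≠ b) (hBB : AllB D B M a b) : AllA D B M a b := by
  intro x hx y hy hxx hyy
  by_cases hx0 : x = 0
  · rw [hx0, zero_add]; exact SSB.pure D hB hM hy hyy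
  by_cases hy0 : y = 0
  · rw [hy0, add_zero]; exact SSB.pure D hB hM hx hxx
  obtain ⟨x₁, hx₁, x₂, hx₂, y₁, hy₁, y₂, hy₂, hxs, hys, hn1, hs1, hn2, hs2, hne⟩ :=
    GSPLIT.exists D hK (hB.nd a) (hB.nd b) (by rw [hB.finrank_eq]; exact hk)
      (by rw [hB.finrank_eq]; exact hB.two_le_k) (fun u hu v hv => hB.orth a b hab u hu v hv)
      hx hy hxx hyy hx0 hy0
  have h1 := hBB x₁ hx₁ y₁ hy₁ hs1 hn1
  have h2 := hBB x₂ hx₂ y₂ hy₂ hs2 hn2
  have hcomb : (1 : K) • (x₁ + y₁) + (1 : K) • (x₂ + y₂) = x + y := by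
    rw [one_smul, one_smul, ← hxs, ← hys]; abel
  rw [← hcomb]
  apply LINE.mem D hM h1 h2 hne
  rw [hcomb, h_add_left, h_add_right D, h_add_right D, hxx, hyy, hB.orth a b hab x hx y hy,
    hB.orth b a (Ne.symm hab) y hy x hx]
  ring

end Cfsg.Agent.S5655P
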