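import Mathlib
import Cfsg.Prelude.Def_GeometricClasses
import Cfsg.Agent.Helper29.S5655.Defs
import Cfsg.Agent.Helper29.S5655BGEO1
import Cfsg.Agent.Helper29.S5655BTRB
import Cfsg.Agent.Helper16.S5655BHMEM
import Cfsg.Agent.Helper16.S5655BHSUM
import Cfsg.Agent.Helper18.S5655BLINE
import Cfsg.Agent.Helper23.S5655BSSB
import Cfsg.Agent.Helper16.S5655BTRA3

/-! S5655 (half k ≥ 2), piece REDUCE2. -/

set_option autoImplicit false

namespace Cfsg.Agent.S5655P

open Matrix Module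
open Cfsg.Agent.S2644 Cfsg.Agent.Helper2.SUGen Cfsg.Agent.Helper28.SimMax Cfsg.Agent.S5658P

variable {K : Type*} [Field K] {q n t k : ℕ}

local notation "h" => Cfsg.hermForm n K q
local notation "T" => Cfsg.unitaryTransvection n q

/-- the field with four elements: characteristic two -/
theorem REDUCE2.two_eq_zero [Fintype K] (hK : Fintype.card K = q ^ 2) (hq : q = 2) : (2 : K) = 0 := by
  have h4 : ((Fintype.card K : ℕ) : K) = 0 := Nat.cast_card_eq_zero K
  rw [hK, hq] at h4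
  have h4' : (2 : K) * 2 = 0 := by
    have : ((2 ^ 2 : ℕ) : K) = 2 * 2 := by norm_num
    rw [← this]; exact h4
  rcases mul_eq_zero.mp h4' with h0 | h0 <;> exact h0

/-- an element of norm one and trace one -/
theorem REDUCE2.exists_omega [Fintype K] (D : Frob K q) (hK : Fintype.card K = q ^ 2) (hq : q = 2) :
    ∃ e : K, e * D.σ e = 1 ∧ e + D.σ e = 1 := by
  have h2 := REDUCE2.two_eq_zero hK hq
  obtain ⟨ζ, hζ1, hζ⟩ := exists_norm_one_ne D
  have hσ : D.σ ζ = ζ ^ 2 := by rw [D.pow, hq]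
  refine ⟨ζ, hζ, ?_⟩
  rw [hσ] at hζ ⊢
  have h3 : (ζ - 1) * (ζ ^ 2 + ζ + 1) = 0 := by linear_combination hζ
  rcases mul_eq_zero.mp h3 with h0 | h0
  · exact absurd (sub_eq_zero.mp h0) hζ1
  · linear_combination h0 - h2

/-- the only nonzero fixed element is one -/
theorem REDUCE2.fix_eq_one (D : Frob K q) (hq : q = 2) {ν : K} (hν : D.σ ν = ν) (h0 : ν ≠ 0) :
    ν = 1 := by
  rw [D.pow, hq] at hν
  have : ν * (ν - 1) = 0 := by linear_combination hν
  rcases mul_eq_zero.mp this with h1 | h1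
  · exact absurd h1 h0
  · exact sub_eq_zero.mp h1

/-- the local move: an element of `H` acting on the block `i` only with prescribed `h c (A c) - h c c` -/
theorem REDUCE2.local_move [Fintype K] (D : Frob K q) (hK : Fintype.card K = q ^ 2)
    {B : Fin t → Submodule K (Fin n → K)} (hB : UD q k B) (hq : q = 2) (hk : 3 ≤ k) {i : Fin t}
    {c : Fin n → K} (hc : c ∈ B i) (hc0 : c ≠ 0) {e : K} (he1 : e * D.σ e = 1)
    (he2 : e + D.σ e = 1) :
    ∃ A ∈ HH q B, (∀ j, j ≠ i → ∀ y ∈ B j, A *ᵥ y = y) ∧ A *ᵥ c ∈ B i ∧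
      h c (A *ᵥ c) - h c c = e := by
  have h2 := REDUCE2.two_eq_zero hK hq
  have hd2 : 2 ≤ finrank K (B i) := by rw [hB.finrank_eq i]; omega
  by_cases hcc : h c c = 0
  · obtain ⟨c', hc', hcc', h1, h1'⟩ := GEO1.exists_partner D hK (hB.nd i) hd2 hc hcc hc0
    have he0 : D.σ e ≠ 0 := by
      intro h0
      rw [h0, mul_zero] at he1
      exact zero_ne_one he1
    have hne : D.σ e • c' ≠ 0 := by
      intro h0
      have : h c (D.σ e • c') = 0 := by rw [h0, h_zero_right D]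
      rw [h_smul_right D, D.invol, h1, mul_one] at this
      rw [this, zero_mul] at he1
      exact zero_ne_one he1
    obtain ⟨A, hA, hAc, hAfix⟩ := TRA3.iso D hK hB hk hc ((B i).smul_mem (D.σ e) hc') hcc
      (by rw [h_smul_left, h_smul_right D, hcc', mul_zero, mul_zero]) hc0 hne
    refine ⟨A, hA, hAfix, ?_, ?_⟩
    · rw [hAc]; exact (B i).smul_mem _ hc'
    · rw [hAc, h_smul_right D, D.invol, h1, hcc, mul_one, sub_zero]
  · have hν : h c c = 1 := REDUCE2.fix_eq_one D hq (h_self_fix D c) hcc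
    obtain ⟨A, hA, hAc, hAfix⟩ := TRB.aniso D hK hB hc ((B i).smul_mem e hc)
      (by rw [h_smul_left, h_smul_right D, ← mul_assoc, he1, one_mul]) hcc
    refine ⟨A, hA, hAfix, ?_, ?_⟩
    · rw [hAc]; exact (B i).smul_mem _ hc
    · rw [hAc, h_smul_right D, hν]
      linear_combination he2 - e * h2

/-- the action on a sum over the blocks of a matrix fixing all blocks but one pointwise -/
theorem REDUCE2.act {B : Fin t → Submodule K (Fin n → K)} {A : Matrix (Fin n) (Fin n) K}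
    {i : Fin t} (hfix : ∀ j, j ≠ i → ∀ y ∈ B j, A *ᵥ y = y) {c : Fin t → (Fin n → K)}
    (hc : ∀ j, c j ∈ B j) : A *ᵥ (∑ j, c j) = (∑ j, c j) + (A *ᵥ c i - c i) := by
  have h1 : A *ᵥ (∑ j, c j) = ∑ j, A *ᵥ c j := by
    rw [Matrix.mulVec_sum]
  have h2 : ∀ j, A *ᵥ c j = c j + (if j = i then A *ᵥ c i - c i else 0) := by
    intro j
    by_cases hj : j = i
    · subst hj
      rw [if_pos rfl]
      abel
    · rw [if_neg hj, add_zero, hfix j hj (c j) (hc j)]
  rw [h1, Finset.sum_congr rfl (fun j _ => h2 j), Finset.sum_add_distrib,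
    Finset.sum_ite_eq' Finset.univ i, if_pos (Finset.mem_univ i)]

/-- two nonzero components of a mixed vector -/
theorem REDUCE2.two_comp {B : Fin t → Submodule K (Fin n → K)} (ht : 2 ≤ t)
    {c : Fin t → (Fin n → K)} (hc : ∀ j, c j ∈ B j) (hmix : ∀ j, (∑ i, c i) ∉ B j) :
    ∃ a b : Fin t, a ≠ b ∧ c a ≠ 0 ∧ c b ≠ 0 := by
  by_contra hcon
  push Not at hcon
  by_cases hall : ∀ j, c j = 0
  · apply hmix ⟨0, by omega⟩
    rw [Finset.sum_eq_zero (fun j _ => hall j)]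
    exact Submodule.zero_mem _
  · push Not at hall
    obtain ⟨a, ha⟩ := hall
    apply hmix a
    rw [Finset.sum_eq_single a]
    · exact hc a
    · intro b _ hba
      exact hcon a b (Ne.symm hba) ha
    · intro h0
      exact absurd (Finset.mem_univ a) h0

/-- piece REDUCE2 (`q = 2`, `k ≥ 3`) -/
theorem REDUCE2.exists_pair [Fintype K] (D : Frob K q) (hK : Fintype.card K = q ^ 2)
    {B : Fin t → Submodule K (Fin n → K)} (hB : UD q k B)
    {M : Subgroup (Matrix.GeneralLinearGroup (Fin n) K)} (hM : Over q B M) (hq : q = 2)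
    (hk : 3 ≤ k) {v₀ : Fin n → K} (hv₀ : v₀ ∈ SS D M) (hmix : ∀ j, v₀ ∉ B j) :
    ∃ a b : Fin t, a ≠ b ∧ ∃ x ∈ B a, ∃ y ∈ B b, x ≠ 0 ∧ y ≠ 0 ∧ x + y ∈ SS D M := by
  have h2 := REDUCE2.two_eq_zero hK hq
  obtain ⟨c, hc, hsum⟩ := hB.dec v₀
  subst hsum
  obtain ⟨a, b, hab, hca, hcb⟩ := REDUCE2.two_comp hB.two_le_t hc hmix
  obtain ⟨e, he1, he2⟩ := REDUCE2.exists_omega D hK hq
  have he1' : D.σ e * D.σ (D.σ e) = 1 := by rw [D.invol, mul_comm]; exact he1
  have he2' : D.σ e + D.σ (D.σ e) = 1 := by rw [D.invol, add_comm]; exact he2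
  obtain ⟨A₁, hA₁, hfix₁, hA₁c, hA₁e⟩ := REDUCE2.local_move D hK hB hq hk (hc a) hca he1 he2
  obtain ⟨A₂, hA₂, hfix₂, hA₂c, hA₂e⟩ := REDUCE2.local_move D hK hB hq hk (hc b) hcb he1' he2'
  set v₀ := ∑ i, c i with hv₀def
  set x := A₁ *ᵥ c a - c a with hxdef
  set y := A₂ *ᵥ c b - c b with hydef
  have hxB : x ∈ B a := (B a).sub_mem hA₁c (hc a)
  have hyB : y ∈ B b := (B b).sub_mem hA₂c (hc b)
  -- the element `g = A₁ * A₂` of `H`
  have hg : A₁ * A₂ ∈ MS M := hM.ge (HMEM.mul hA₁ hA₂)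
  have hgv : (A₁ * A₂) *ᵥ v₀ = v₀ + x + y := by
    rw [← mulVec_mulVec, hv₀def, REDUCE2.act hfix₂ hc, mulVec_add, REDUCE2.act hfix₁ hc,
      hfix₁ b (Ne.symm hab) _ hyB]
  have hgS : v₀ + x + y ∈ SS D M := by
    rw [← hgv]
    exact SSB.map D hM hv₀ hg
  -- the form values
  have hvx : h v₀ x = e := by
    rw [hv₀def, (HSUM.h_mem_sum D hB hc hxB).2, hxdef, h_sub_right D]
    exact hA₁e
  have hvy : h v₀ y = D.σ e := by
    rw [hv₀def, (HSUM.h_mem_sum D hB hc hyB).2, hydef, h_sub_right D]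
    exact hA₂e
  have hvv : h v₀ v₀ = 0 := hv₀.1
  have hvg : h v₀ (v₀ + x + y) ≠ 0 := by
    rw [h_add_right D, h_add_right D, hvv, hvx, hvy, zero_add, he2]
    exact one_ne_zero
  have hxy0 : h x y = 0 := hB.orth a b hab x hxB y hyB
  have hyx0 : h y x = 0 := hB.orth b a (Ne.symm hab) y hyB x hxB
  have hxv : h x v₀ = D.σ e := by rw [← h_conj D, hvx]
  have hyv : h y v₀ = e := by rw [← h_conj D, hvy, D.invol]
  have hgg : h (v₀ + x + y) (v₀ + x + y) = 0 := hgS.1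
  have hw0 : h (x + y) (x + y) = 0 := by
    have e1 : h (v₀ + x + y) (v₀ + x + y) = h (x + y) (x + y) + (e + D.σ e) * 2 := by
      simp only [h_add_left, h_add_right D, hvv, hvx, hvy, hxv, hyv]
      ring
    rw [e1, h2, mul_zero, add_zero] at hgg
    exact hgg
  have hcomb : (-1 : K) • v₀ + (1 : K) • (v₀ + x + y) = x + y := by
    rw [one_smul, neg_one_smul]
    abel
  have he0 : e ≠ 0 := by
    intro h0
    rw [h0, zero_mul] at he1
    exact zero_ne_one he1
  refine ⟨a, b, hab, x, hxB, y, hyB, ?_, ?_, ?_⟩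
  · intro hx0
    rw [hx0, h_zero_right D] at hvx
    exact he0 hvx.symm
  · intro hy0
    rw [hy0, h_zero_right D] at hvy
    exact σ_ne_zero D he0 hvy.symm
  · rw [← hcomb]
    apply LINE.mem D hM hv₀ hgS hvg
    rw [hcomb]
    exact hw0

end Cfsg.Agent.S5655P
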