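import Mathlib
import Cfsg.Prelude.Def_GeometricClasses
import Cfsg.Agent.Helper29.S5965Defs
import Cfsg.Agent.Helper2.SubfInvB

set_option autoImplicit false
open scoped MatrixGroups

namespace Cfsg.Agent.S5965P

/-- SLFIX -/
theorem conj_of_isRat {F : Type*} [Field F] [Fintype F] (n : ℕ) (F₀ : Subfield F)
    (X : Matrix.SpecialLinearGroup (Fin n) F) (μ : F) (hμ : μ ≠ 0)
    (hrat : IsRat F₀ (μ⁻¹ • Matrix.toLin' (X : Matrix (Fin n) (Fin n) F)))
    (hcent : ∀ δ : F, δ ≠ 0 → ∃ c : Module.End F (Fin n → F),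
      c * Matrix.toLin' (X : Matrix (Fin n) (Fin n) F) =
        Matrix.toLin' (X : Matrix (Fin n) (Fin n) F) * c ∧ LinearMap.det c = δ) :
    ∃ P : Matrix.SpecialLinearGroup (Fin n) F, P⁻¹ * X * P ∈
      ((Cfsg.Geo.subfieldSubgroup F₀ 1).comap (Matrix.SpecialLinearGroup.toGL :
        Matrix.SpecialLinearGroup (Fin n) F →* GL (Fin n) F)) := by
  classical
  obtain ⟨ι, hι1, hι2, b, M₀, hM⟩ := hrat
  have hcard : Fintype.card ι = n := by
    rw [← Module.finrank_eq_card_basis b, Module.finrank_fin_fun]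
  obtain ⟨e⟩ : Nonempty (ι ≃ Fin n) := ⟨Fintype.equivFinOfCardEq hcard⟩
  obtain ⟨b', hb'⟩ : ∃ b' : Module.Basis (Fin n) F (Fin n → F), b' = b.reindex e := ⟨_, rfl⟩
  obtain ⟨M₀', hM₀'⟩ : ∃ M₀' : Matrix (Fin n) (Fin n) F₀, M₀' = M₀.submatrix e.symm e.symm :=
    ⟨_, rfl⟩
  have hM' : LinearMap.toMatrix b' b' (μ⁻¹ • Matrix.toLin' (X : Matrix (Fin n) (Fin n) F)) =
      M₀'.map F₀.subtype := by
    ext i j
    rw [hb', hM₀', LinearMap.toMatrix_apply, Module.Basis.reindex_apply,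
      Module.Basis.repr_reindex_apply, ← LinearMap.toMatrix_apply b b, hM]
    rfl
  obtain ⟨P0, hP0⟩ : ∃ P0 : Matrix (Fin n) (Fin n) F,
      P0 = (Pi.basisFun F (Fin n)).toMatrix b' := ⟨_, rfl⟩
  have hstd : LinearMap.toMatrix (Pi.basisFun F (Fin n)) (Pi.basisFun F (Fin n))
      (μ⁻¹ • Matrix.toLin' (X : Matrix (Fin n) (Fin n) F)) =
      μ⁻¹ • (X : Matrix (Fin n) (Fin n) F) := by
    rw [LinearMap.toMatrix_eq_toMatrix', map_smul, LinearMap.toMatrix'_toLin']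
  have h1 : (μ⁻¹ • (X : Matrix (Fin n) (Fin n) F)) * P0 = P0 * M₀'.map F₀.subtype := by
    rw [← hstd, hP0, ← hM', linearMap_toMatrix_mul_basis_toMatrix,
      basis_toMatrix_mul_linearMap_toMatrix]
  have h2 : (X : Matrix (Fin n) (Fin n) F) * P0 = P0 * (μ • M₀'.map F₀.subtype) := by
    rw [Matrix.mul_smul, ← h1, Matrix.smul_mul, smul_smul, mul_inv_cancel₀ hμ, one_smul]
  have hdet0 : P0.det ≠ 0 := by
    have h3 : P0 * b'.toMatrix (Pi.basisFun F (Fin n)) = 1 := by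
      rw [hP0]; exact Module.Basis.toMatrix_mul_toMatrix_flip _ _
    intro h0
    have := congrArg Matrix.det h3
    rw [Matrix.det_mul, h0, zero_mul, Matrix.det_one] at this
    exact zero_ne_one this
  obtain ⟨c, hc1, hc2⟩ := hcent (P0.det)⁻¹ (inv_ne_zero hdet0)
  obtain ⟨C, hC⟩ : ∃ C : Matrix (Fin n) (Fin n) F, C = LinearMap.toMatrix' c := ⟨_, rfl⟩
  have hCX : C * (X : Matrix (Fin n) (Fin n) F) = (X : Matrix (Fin n) (Fin n) F) * C := by
    have := congrArg LinearMap.toMatrix' hc1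
    rw [Module.End.mul_eq_comp, Module.End.mul_eq_comp, LinearMap.toMatrix'_comp,
      LinearMap.toMatrix'_comp, LinearMap.toMatrix'_toLin'] at this
    rw [hC]; exact this
  have hCdet : C.det = (P0.det)⁻¹ := by
    rw [hC, LinearMap.det_toMatrix', hc2]
  apply Cfsg.Agent.Helper2.SubfInv.conj_mem_of_mul_eq F₀ X (C * P0) ?_ M₀' μ hμ
  · rw [← Matrix.mul_assoc, ← hCX, Matrix.mul_assoc, h2, Matrix.mul_assoc]
  · rw [Matrix.det_mul, hCdet, inv_mul_cancel₀ hdet0]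

end Cfsg.Agent.S5965P
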