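import Mathlib
import Cfsg.Agent.Helper29.S5965Defs
import Cfsg.Agent.Helper29.S5965SLFIX
import Cfsg.Agent.Helper6.S5965CENTDET

set_option autoImplicit false
open scoped MatrixGroups

/-! S5965 ASMA: rational + scaled order `r` => conjugate into the subfield subgroup. -/

namespace Cfsg.Agent.S5965P
open Polynomial

/-- ASM-A: an element some scalar multiple of which has order dividing `r`, in the case
`ord_r(q) = ord_r(q0)`, is conjugate into the subfield subgroup. -/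
theorem conj_of_scaled_pow_eq_one {F : Type*} [Field F] [Fintype F] {p : ℕ} [Fact p.Prime]
    [CharP F p] (n : ℕ) (hn : 1 ≤ n) (F₀ : Subfield F) (r : ℕ) [Fact r.Prime] (hrp : r ≠ p)
    (X : Matrix.SpecialLinearGroup (Fin n) F) (μ : F) (hμ : μ ≠ 0)
    (hX : (X : Matrix (Fin n) (Fin n) F) ^ r = μ ^ r • (1 : Matrix (Fin n) (Fin n) F))
    (hrat : IsRat F₀ (μ⁻¹ • Matrix.toLin' (X : Matrix (Fin n) (Fin n) F))) :
    ∃ P : Matrix.SpecialLinearGroup (Fin n) F, P⁻¹ * X * P ∈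
      ((Cfsg.Geo.subfieldSubgroup F₀ 1).comap (Matrix.SpecialLinearGroup.toGL :
        Matrix.SpecialLinearGroup (Fin n) F →* GL (Fin n) F)) := by
  have hr : r.Prime := Fact.out
  have hrF : (r : F) ≠ 0 := by
    intro h0
    have hdvd : p ∣ r := (CharP.cast_eq_zero_iff F p r).1 h0
    exact hrp ((Nat.prime_dvd_prime_iff_eq (Fact.out : p.Prime) hr).1 hdvd).symm
  have hx1 : (μ⁻¹ • Matrix.toLin' (X : Matrix (Fin n) (Fin n) F)) ^ r = 1 := by
    rw [_root_.smul_pow, ← Matrix.toLin'_pow, hX, map_smul, Matrix.toLin'_one, smul_smul, inv_pow,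
      inv_mul_cancel₀ (pow_ne_zero r hμ), one_smul]
    rfl
  have hV : 0 < Module.finrank F (Fin n → F) := by
    rw [Module.finrank_fin_fun]; omega
  apply conj_of_isRat n F₀ X μ hμ hrat
  intro δ hδ
  obtain ⟨c, hc1, hc2⟩ := exists_commute_det r hrF _ hx1 hV δ hδ
  refine ⟨c, ?_, hc2⟩
  have h1 : c * (μ⁻¹ • Matrix.toLin' (X : Matrix (Fin n) (Fin n) F)) =
      μ⁻¹ • (c * Matrix.toLin' (X : Matrix (Fin n) (Fin n) F)) := by
    rw [mul_smul_comm]
  have h2 : (μ⁻¹ • Matrix.toLin' (X : Matrix (Fin n) (Fin n) F)) * c =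
      μ⁻¹ • (Matrix.toLin' (X : Matrix (Fin n) (Fin n) F) * c) := by
    rw [smul_mul_assoc]
  rw [h1, h2] at hc1
  have h3 := congrArg (fun t => μ • t) hc1
  simp only [smul_smul, mul_inv_cancel₀ hμ, one_smul] at h3
  exact h3

end Cfsg.Agent.S5965P
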