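import Mathlib
import Cfsg.Agent.Helper29.S5965ASMA
import Cfsg.Agent.Helper19.S5965RAT
import Cfsg.Agent.Helper24.S5965DETKUM
import Cfsg.Agent.Helper20.S5965NT
import Cfsg.Agent.Helper3.S5949NTS

set_option autoImplicit false
open scoped MatrixGroups

namespace Cfsg.Agent.S5965P
open Polynomial

/-- ASM-B: the direction `r = k ⇒` everything is conjugate into the subfield subgroup. -/
theorem left_of_eq {F : Type*} [Field F] [Fintype F] {p : ℕ} [Fact p.Prime] [CharP F p]
    (n : ℕ) (hn : 2 ≤ n) (F₀ : Subfield F) (r : ℕ) [Fact r.Prime] (hr2 : r ≠ 2) (hrp : r ≠ p)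
    (hq : Fintype.card F = Nat.card F₀ ^ r)
    (hgapk : r ∣ Nat.card F₀ - 1 → padicValNat r n ≤ padicValNat r (Fintype.card F - 1))
    (X : Matrix.SpecialLinearGroup (Fin n) F)
    (hX : ∃ z : F, ((X ^ r : Matrix.SpecialLinearGroup (Fin n) F) : Matrix (Fin n) (Fin n) F) =
      z • (1 : Matrix (Fin n) (Fin n) F)) :
    ∃ P : Matrix.SpecialLinearGroup (Fin n) F, P⁻¹ * X * P ∈
      ((Cfsg.Geo.subfieldSubgroup F₀ 1).comap (Matrix.SpecialLinearGroup.toGL :
        Matrix.SpecialLinearGroup (Fin n) F →* GL (Fin n) F)) := by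
  have hr : r.Prime := Fact.out
  obtain ⟨z, hz⟩ := hX
  rw [Matrix.SpecialLinearGroup.coe_pow] at hz
  -- the two cardinalities agree mod r
  have hcast : ((Fintype.card F : ℕ) : ZMod r) = ((Nat.card F₀ : ℕ) : ZMod r) := by
    rw [hq, Nat.cast_pow, ZMod.pow_card]
  have hord : orderOf ((Fintype.card F : ℕ) : ZMod r) = orderOf ((Nat.card F₀ : ℕ) : ZMod r) := by
    rw [hcast]
  -- z is an r-th power
  have hzpow : ∃ μ : F, μ ^ r = z := by
    by_cases hdvd : r ∣ Fintype.card F - 1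
    · by_contra hno
      push Not at hno
      have hdvd0 : r ∣ Nat.card F₀ - 1 := by
        have h1 : ((Fintype.card F : ℕ) : ZMod r) = 1 := by
          have hpos : 1 ≤ Fintype.card F := Fintype.card_pos
          have := (ZMod.natCast_eq_zero_iff (Fintype.card F - 1) r).2 hdvd
          rw [Nat.cast_sub hpos, Nat.cast_one, sub_eq_zero] at this
          exact this
        rw [hcast] at h1
        have hpos : 1 ≤ Nat.card F₀ := Nat.card_pos
        rw [← ZMod.natCast_eq_zero_iff, Nat.cast_sub hpos, Nat.cast_one, h1, sub_self]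
      have hv := hgapk hdvd0
      have hx : (Matrix.toLin' (X : Matrix (Fin n) (Fin n) F)) ^ r =
          z • (1 : Module.End F (Fin n → F)) := by
        rw [← Matrix.toLin'_pow, hz, map_smul, Matrix.toLin'_one]
        rfl
      obtain ⟨s, hs1, hs2⟩ := det_of_pow_eq_nonpower r hr2 _ z hx hno
      rw [Module.finrank_fin_fun] at hs1
      rw [LinearMap.det_toLin', X.2] at hs2
      obtain ⟨μ, hμ⟩ := exists_root_of_pow_eq_one r n s hs1 (by omega) hv z hs2.symm
      exact hno μ hμ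
    · exact (S5949P.nt_coprime r hdvd).1 z
  obtain ⟨μ, hμ⟩ := hzpow
  have hz0 : z ≠ 0 := by
    intro h0
    have hdet := congrArg Matrix.det hz
    have : Nonempty (Fin n) := ⟨⟨0, by omega⟩⟩
    rw [Matrix.det_pow, X.2, one_pow, h0, zero_smul, Matrix.det_zero] at hdet
    exact one_ne_zero hdet
  have hμ0 : μ ≠ 0 := by
    intro h0
    rw [h0, zero_pow hr.ne_zero] at hμ
    exact hz0 hμ.symm
  have hX' : (X : Matrix (Fin n) (Fin n) F) ^ r = μ ^ r • (1 : Matrix (Fin n) (Fin n) F) := by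
    rw [hμ, hz]
  have hx1 : (μ⁻¹ • Matrix.toLin' (X : Matrix (Fin n) (Fin n) F)) ^ r = 1 := by
    rw [_root_.smul_pow, ← Matrix.toLin'_pow, hX', map_smul, Matrix.toLin'_one, smul_smul, inv_pow,
      inv_mul_cancel₀ (pow_ne_zero r hμ0), one_smul]
    rfl
  have hrat := isRat_of_pow_eq_one F₀ r hrp hord _ hx1
  exact conj_of_scaled_pow_eq_one n (by omega) F₀ r hrp X μ hμ0 hX' hrat

end Cfsg.Agent.S5965P
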