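import Mathlib
import Cfsg.Agent.Helper29.S5965Defs
import Cfsg.Agent.Helper26.S5965DIAGDER
import Cfsg.Agent.Helper20.S5965BIGORD
import Cfsg.Agent.Helper16.S5965INDEX
import Cfsg.Agent.Helper20.S5965NT
import Cfsg.Agent.Helper16.S5965E1
import Cfsg.Agent.Helper20.S5965E23
import Cfsg.Agent.Helper3.S5949NTS
import Cfsg.Agent.Helper26.S5958NTGL

set_option autoImplicit false
open scoped MatrixGroups

namespace Cfsg.Agent.S5965P
open Polynomial

namespace ASMD

/-- exponent sums may be computed in `ZMod r` -/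
theorem pow_sum_val {F : Type*} [Field F] (r : ℕ) [Fact r.Prime] (ξ : F) (hξ : orderOf ξ = r)
    {n : ℕ} (e : Fin n → ZMod r) :
    ξ ^ (∑ j, (e j).val) = ξ ^ (∑ j, e j).val := by
  have h : (∑ j, (e j).val) ≡ (∑ j, e j).val [MOD r] := by
    rw [← ZMod.natCast_eq_natCast_iff, Nat.cast_sum]
    simp only [ZMod.natCast_zmod_val]
  rw [← pow_mod_orderOf ξ (∑ j, (e j).val), ← pow_mod_orderOf ξ (∑ j, e j).val, hξ]
  exact congrArg _ h

/-- sums of functions on `Fin n` given by a function on `ℕ` vanishing from `t` on -/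
theorem sum_fin_eq {M : Type*} [AddCommMonoid M] (n t : ℕ) (ht : t ≤ n) (g : ℕ → M)
    (hg : ∀ i, t ≤ i → g i = 0) :
    ∑ j : Fin n, g (j : ℕ) = ∑ i ∈ Finset.range t, g i := by
  rw [Fin.sum_univ_eq_sum_range]
  symm
  apply Finset.sum_subset (Finset.range_mono ht)
  intro i _ hi
  apply hg
  simpa using hi

/-- an element of order `r` in `F` when `r ∣ q - 1` -/
theorem exists_orderOf_eq {F : Type*} [Field F] [Fintype F] (r : ℕ) [Fact r.Prime]
    (h : r ∣ Fintype.card F - 1) : ∃ ξ : F, orderOf ξ = r := by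
  classical
  have h' : r ∣ Fintype.card Fˣ := by rw [Fintype.card_units]; exact h
  obtain ⟨y, hy⟩ := exists_prime_orderOf_dvd_card r h'
  exact ⟨(y : F), by rw [orderOf_units, hy]⟩

/-- an element of order `d` in `F` when `d ∣ q - 1` -/
theorem exists_orderOf_eq' {F : Type*} [Field F] [Fintype F] (d : ℕ)
    (h : d ∣ Fintype.card F - 1) : ∃ ξ : F, orderOf ξ = d := by
  classical
  obtain ⟨g, hg⟩ := IsCyclic.exists_ofOrder_eq_natCard (α := Fˣ)
  rw [Nat.card_eq_fintype_card, Fintype.card_units] at hg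
  obtain ⟨m, hm⟩ := h
  have hm0 : m ≠ 0 := by
    rintro rfl
    have : 0 < Fintype.card F - 1 := by
      have := Fintype.one_lt_card (α := F); omega
    omega
  refine ⟨((g ^ m : Fˣ) : F), ?_⟩
  rw [orderOf_units, orderOf_pow_of_dvd hm0 (by rw [hg, hm]; exact Dvd.intro_left d rfl), hg, hm]
  exact Nat.mul_div_cancel _ (Nat.pos_of_ne_zero hm0)

/-- the conclusion "there is a derangement" -/
def HasDer {F : Type*} [Field F] (n : ℕ) (F₀ : Subfield F) (r : ℕ) : Prop :=
  ∃ x : Matrix.SpecialLinearGroup (Fin n) F,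
      (∃ z : F, ((x ^ r : Matrix.SpecialLinearGroup (Fin n) F) : Matrix (Fin n) (Fin n) F) =
        z • (1 : Matrix (Fin n) (Fin n) F)) ∧
      (∀ z : F, (x : Matrix (Fin n) (Fin n) F) ≠ z • (1 : Matrix (Fin n) (Fin n) F)) ∧
      ¬ ∃ P : Matrix.SpecialLinearGroup (Fin n) F, P⁻¹ * x * P ∈
        ((Cfsg.Geo.subfieldSubgroup F₀ 1).comap (Matrix.SpecialLinearGroup.toGL :
          Matrix.SpecialLinearGroup (Fin n) F →* GL (Fin n) F))

theorem der_E1 {F : Type*} [Field F] [Fintype F] (n : ℕ) (hn : 2 ≤ n) (F₀ : Subfield F)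
    (r : ℕ) [Fact r.Prime] (hr2 : r ≠ 2) (hr0 : ¬ r ∣ Nat.card F₀ - 1)
    (ξ : F) (hξ : orderOf ξ = r)
    (hu0 : ((Nat.card F₀ : ℕ) : ZMod r) ≠ 0) (hu1 : ((Nat.card F₀ : ℕ) : ZMod r) ≠ 1)
    (hu2 : ((Nat.card F₀ : ℕ) : ZMod r) ≠ -1) : HasDer n F₀ r := by
  have hr : r.Prime := Fact.out
  obtain ⟨eN, heN⟩ : ∃ eN : ℕ → ZMod r, eN = fun i => if i = 0 then 1 else if i = 1 then -1 else 0 :=
    ⟨_, rfl⟩
  have h0 : eN 0 = 1 := by rw [heN]; simp
  have h1 : eN 1 = -1 := by rw [heN]; simp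
  have h2 : ∀ i, 2 ≤ i → eN i = 0 := by
    intro i hi
    rw [heN]
    have : i ≠ 0 := by omega
    have : i ≠ 1 := by omega
    simp [*]
  have hsum : ∑ j : Fin n, eN (j : ℕ) = 0 := by
    rw [sum_fin_eq n 2 hn eN h2, Finset.sum_range_succ, Finset.sum_range_one, h0, h1]
    ring
  have hne1 : (1 : ZMod r) ≠ -1 := by
    intro h
    have h2' : (2 : ZMod r) = 0 := by linear_combination h
    have : ((2 : ℕ) : ZMod r) = 0 := by exact_mod_cast h2'
    rw [ZMod.natCast_eq_zero_iff] at this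
    have := Nat.le_of_dvd (by norm_num) this
    have := hr.two_le
    omega
  apply diag_derangement n (by omega) F₀ r hr0 ξ hξ 1 (fun j => eN (j : ℕ))
  · rw [one_pow, one_mul, pow_sum_val r ξ hξ, hsum, ZMod.val_zero, pow_zero]
  · exact ⟨⟨0, by omega⟩, ⟨1, by omega⟩, by
      change eN 0 ≠ eN 1
      rw [h0, h1]; exact hne1⟩
  · exact star_E1 r hr2 n hn _ hu0 hu1 hu2 (fun j => eN (j : ℕ)) h0 h1 (fun j hj => h2 _ hj)

theorem der_E2 {F : Type*} [Field F] [Fintype F] (n : ℕ) (hn : 3 ≤ n) (F₀ : Subfield F)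
    (r : ℕ) [Fact r.Prime] (hr2 : r ≠ 2) (hr0 : ¬ r ∣ Nat.card F₀ - 1)
    (ξ : F) (hξ : orderOf ξ = r) (μ : F) (hμ : μ ^ n * ξ = 1)
    (hu0 : ((Nat.card F₀ : ℕ) : ZMod r) ≠ 0) (hu1 : ((Nat.card F₀ : ℕ) : ZMod r) ≠ 1) :
    HasDer n F₀ r := by
  have hr : r.Prime := Fact.out
  have : Fact (1 < r) := ⟨hr.one_lt⟩
  obtain ⟨eN, heN⟩ : ∃ eN : ℕ → ZMod r, eN = fun i => if i = 0 then 1 else 0 := ⟨_, rfl⟩
  have h0 : eN 0 = 1 := by rw [heN]; simp
  have h1 : ∀ i, 1 ≤ i → eN i = 0 := by
    intro i hi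
    rw [heN]
    have : i ≠ 0 := by omega
    simp [*]
  have hsum : ∑ j : Fin n, eN (j : ℕ) = 1 := by
    rw [sum_fin_eq n 1 (by omega) eN h1, Finset.sum_range_one, h0]
  apply diag_derangement n (by omega) F₀ r hr0 ξ hξ μ (fun j => eN (j : ℕ))
  · rw [pow_sum_val r ξ hξ, hsum, ZMod.val_one, pow_one, hμ]
  · exact ⟨⟨0, by omega⟩, ⟨1, by omega⟩, by
      change eN 0 ≠ eN 1
      rw [h0, h1 1 le_rfl]; exact one_ne_zero⟩
  · exact star_E2 r hr2 n hn _ hu0 hu1 (fun j => eN (j : ℕ)) h0 (fun j hj => h1 _ hj)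

theorem der_E3 {F : Type*} [Field F] [Fintype F] (n : ℕ) (hn : 6 ≤ n) (F₀ : Subfield F)
    (r : ℕ) [Fact r.Prime] (hr2 : r ≠ 2) (hn3 : r = 3 → 7 ≤ n) (hr0 : ¬ r ∣ Nat.card F₀ - 1)
    (ξ : F) (hξ : orderOf ξ = r)
    (hu : ((Nat.card F₀ : ℕ) : ZMod r) = -1) : HasDer n F₀ r := by
  have hr : r.Prime := Fact.out
  have : Fact (1 < r) := ⟨hr.one_lt⟩
  obtain ⟨eN, heN⟩ : ∃ eN : ℕ → ZMod r,
      eN = fun i => if i = 0 then 1 else if i = 1 then 1 else if i = 2 then -2 else 0 := ⟨_, rfl⟩
  have h0 : eN 0 = 1 := by rw [heN]; simp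
  have h1 : eN 1 = 1 := by rw [heN]; simp
  have h2 : eN 2 = -2 := by rw [heN]; simp
  have h3 : ∀ i, 3 ≤ i → eN i = 0 := by
    intro i hi
    rw [heN]
    have : i ≠ 0 := by omega
    have : i ≠ 1 := by omega
    have : i ≠ 2 := by omega
    simp [*]
  have hsum : ∑ j : Fin n, eN (j : ℕ) = 0 := by
    rw [sum_fin_eq n 3 (by omega) eN h3, Finset.sum_range_succ, Finset.sum_range_succ,
      Finset.sum_range_one, h0, h1, h2]
    ring
  apply diag_derangement n (by omega) F₀ r hr0 ξ hξ 1 (fun j => eN (j : ℕ))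
  · rw [one_pow, one_mul, pow_sum_val r ξ hξ, hsum, ZMod.val_zero, pow_zero]
  · exact ⟨⟨0, by omega⟩, ⟨3, by omega⟩, by
      change eN 0 ≠ eN 3
      rw [h0, h3 3 le_rfl]; exact one_ne_zero⟩
  · rw [hu]
    exact star_E3 r hr2 n hn hn3 (fun j => eN (j : ℕ)) h0 h1 h2 (fun j hj => h3 _ hj)

end ASMD

/-- ASM-D: the direction `⇒`. -/
theorem right_of_all {F : Type*} [Field F] [Fintype F] {p : ℕ} [Fact p.Prime] [CharP F p]
    (n : ℕ) (hn : 2 ≤ n) (F₀ : Subfield F) (k : ℕ) (hk : k.Prime)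
    (hq : Fintype.card F = Nat.card F₀ ^ k) (r : ℕ) [Fact r.Prime] (hr2 : r ≠ 2) (hrp : r ≠ p)
    (hgap : ¬ (n = 6 ∧ r = 3))
    (hΩ : r ∣ ((Cfsg.Geo.subfieldSubgroup F₀ 1).comap (Matrix.SpecialLinearGroup.toGL :
      Matrix.SpecialLinearGroup (Fin n) F →* GL (Fin n) F)).index)
    (hall : ¬ ASMD.HasDer (F := F) n F₀ r) :
    r = k ∨ (k = 2 ∧ r = n ∧ (n = 3 ∨ n = 5) ∧ padicValNat r (Nat.card F₀ + 1) = 1) := by
  classical
  have hr : r.Prime := Fact.out
  have hp : p.Prime := Fact.out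
  by_contra hR
  push Not at hR
  obtain ⟨hrk, hR2⟩ := hR
  obtain ⟨q, hqdef⟩ : ∃ q, q = Fintype.card F := ⟨_, rfl⟩
  obtain ⟨q₀, hq₀def⟩ : ∃ q₀, q₀ = Nat.card F₀ := ⟨_, rfl⟩
  rw [← hqdef, ← hq₀def] at hq
  -- r does not divide q, q₀
  have hrq : ¬ r ∣ q := by
    obtain ⟨f, -, hf⟩ := FiniteField.card F p
    rw [hqdef, hf]
    intro h
    exact hrp ((Nat.prime_dvd_prime_iff_eq hr hp).1 (hr.dvd_of_dvd_pow h))
  have hrq₀ : ¬ r ∣ q₀ := by
    intro h
    apply hrq
    rw [hq]
    exact dvd_pow h hk.ne_zero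
  have hq₀2 : 2 ≤ q₀ := by
    rw [hq₀def]
    have : Fintype F₀ := Fintype.ofFinite F₀
    rw [Nat.card_eq_fintype_card]
    exact Fintype.one_lt_card
  have hu0 : ((q₀ : ℕ) : ZMod r) ≠ 0 := by
    rw [Ne, ZMod.natCast_eq_zero_iff]; exact hrq₀
  -- orders
  have hcast : ((q : ℕ) : ZMod r) = ((q₀ : ℕ) : ZMod r) ^ k := by rw [hq, Nat.cast_pow]
  have hi : orderOf ((q : ℕ) : ZMod r) =
      orderOf ((q₀ : ℕ) : ZMod r) / Nat.gcd (orderOf ((q₀ : ℕ) : ZMod r)) k := by
    rw [hcast, orderOf_pow' _ hk.ne_zero]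
  have hipos : 0 < orderOf ((q : ℕ) : ZMod r) := by
    rw [hqdef]; exact S5949P.orderOf_card_pos r hrp
  rcases (Nat.coprime_or_dvd_of_prime hk (orderOf ((q₀ : ℕ) : ZMod r))) with hcop | hdvd
  · -- i = i0 : r does not divide the index
    have hgcd : Nat.gcd (orderOf ((q₀ : ℕ) : ZMod r)) k = 1 := Nat.Coprime.symm hcop
    rw [hgcd, Nat.div_one] at hi
    apply not_dvd_index n (by omega) F₀ r (by rw [← hqdef]; exact hrq) ?_ hΩ
    intro m _ _
    rw [← hqdef, ← hq₀def, hq]
    apply val_eq_of_ord_eq r k q₀ hr2 hk hrk hrq₀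
    rw [← hq]; exact hi
  · -- i0 = k * i
    have hgcd : Nat.gcd (orderOf ((q₀ : ℕ) : ZMod r)) k = k := Nat.gcd_eq_right hdvd
    rw [hgcd] at hi
    have hi0 : orderOf ((q₀ : ℕ) : ZMod r) = k * orderOf ((q : ℕ) : ZMod r) := by
      rw [hi, Nat.mul_div_cancel' hdvd]
    -- i ≤ n
    have hin : orderOf ((q : ℕ) : ZMod r) ≤ n := by
      rw [hqdef]
      apply S5958P.order_le_of_dvd_card_GL r hrp n
      have h1 : r ∣ Nat.card (Matrix.SpecialLinearGroup (Fin n) F) :=
        dvd_trans hΩ (Subgroup.index_dvd_card _)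
      have h2 : Nat.card (Matrix.SpecialLinearGroup (Fin n) F) ∣ Nat.card (GL (Fin n) F) :=
        Subgroup.card_dvd_of_injective _ Matrix.SpecialLinearGroup.toGL_injective
      exact dvd_trans h1 h2
    by_cases hi2 : 2 ≤ orderOf ((q : ℕ) : ZMod r)
    · apply hall
      rw [hqdef] at hi2 hin
      apply derangement_big_ord n F₀ r hrp hi2 hin
      rw [← hqdef, ← hq₀def, hi0]
      have := hk.two_le
      nlinarith
    · have hi1 : orderOf ((q : ℕ) : ZMod r) = 1 := by omega
      rw [hi1, mul_one] at hi0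
      have hrq1 : r ∣ Fintype.card F - 1 := by
        rw [← S5949P.orderOf_card_eq_one_iff, ← hqdef]; exact hi1
      obtain ⟨ξ, hξ⟩ := ASMD.exists_orderOf_eq r hrq1
      have hu1 : ((q₀ : ℕ) : ZMod r) ≠ 1 := by
        intro h
        rw [h, orderOf_one] at hi0
        have := hk.two_le
        omega
      have hr0 : ¬ r ∣ Nat.card F₀ - 1 := by
        intro h
        apply hu1
        have hpos : 1 ≤ q₀ := by omega
        rw [← hq₀def] at h
        have := (ZMod.natCast_eq_zero_iff (q₀ - 1) r).2 h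
        rw [Nat.cast_sub hpos, Nat.cast_one, sub_eq_zero] at this
        exact this
      by_cases hk2 : k = 2
      · -- u = -1
        have hu : ((q₀ : ℕ) : ZMod r) = -1 := by
          have h1 : ((q₀ : ℕ) : ZMod r) ^ 2 = 1 := by
            rw [← hk2, ← hi0]; exact pow_orderOf_eq_one _
          have h2 : (((q₀ : ℕ) : ZMod r) - 1) * (((q₀ : ℕ) : ZMod r) + 1) = 0 := by
            linear_combination h1
          rcases mul_eq_zero.1 h2 with h3 | h3
          · exact absurd (sub_eq_zero.1 h3) hu1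
          · exact eq_neg_of_add_eq_zero_left h3
        have hrq₀1 : r ∣ q₀ + 1 := by
          rw [← ZMod.natCast_eq_zero_iff, Nat.cast_add, Nat.cast_one, hu]; ring
        by_cases hn2 : n = 2
        · -- index contradiction
          apply not_dvd_index n (by omega) F₀ r (by rw [← hqdef]; exact hrq) ?_ hΩ
          intro m hm1 hm2
          have hm : m = 2 := by omega
          rw [← hqdef, ← hq₀def, hq, hk2, hm]
          exact val_eq_two r q₀ hr2 hrq₀1
        · by_cases hrn : r ∣ n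
          · by_cases hbig : 6 ≤ n ∧ (r = 3 → 7 ≤ n)
            · apply hall
              rw [hq₀def] at hu
              exact ASMD.der_E3 n hbig.1 F₀ r hr2 hbig.2 hr0 ξ hξ hu
            · -- n = r ∈ {3, 5}
              have hn5 : n ≤ 5 := by
                by_contra h6
                push Not at h6
                apply hbig
                refine ⟨h6, fun h3 => ?_⟩
                by_contra h7
                exact hgap ⟨by omega, h3⟩
              have hrle : r ≤ n := Nat.le_of_dvd (by omega) hrn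
              have hr3 : 3 ≤ r := by
                have := hr.two_le
                omega
              have hrn' : r = n ∧ (n = 3 ∨ n = 5) := by
                have h4 : r ≠ 4 := by
                  rintro rfl
                  norm_num at hr
                have hn345 : n = 3 ∨ n = 4 ∨ n = 5 := by omega
                rcases hn345 with h3 | h3 | h3
                · have : r = 3 := by omega
                  exact ⟨by omega, Or.inl h3⟩
                · exfalso
                  have : r = 3 ∨ r = 4 := by omega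
                  rcases this with h | h
                  · rw [h, h3] at hrn; norm_num at hrn
                  · exact h4 h
                · have : r = 3 ∨ r = 4 ∨ r = 5 := by omega
                  rcases this with h | h | h
                  · exfalso; rw [h, h3] at hrn; norm_num at hrn
                  · exact absurd h h4
                  · exact ⟨by omega, Or.inr h3⟩
              have hv := hR2 hk2 hrn'.1 hrn'.2
              rw [← hq₀def] at hv
              -- r² ∣ q₀ + 1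
              have hv2 : r ^ 2 ∣ q₀ + 1 := by
                rw [padicValNat_dvd_iff_le (by omega)]
                have h1 : 1 ≤ padicValNat r (q₀ + 1) :=
                  one_le_padicValNat_of_dvd (by omega) hrq₀1
                omega
              have hq1 : r ^ 2 ∣ Fintype.card F - 1 := by
                rw [← hqdef, hq, hk2]
                have : q₀ ^ 2 - 1 = (q₀ - 1) * (q₀ + 1) := by
                  have h1 : 1 ≤ q₀ := by omega
                  zify [h1, Nat.one_le_pow 2 q₀ (by omega)]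
                  ring
                rw [this]
                exact Dvd.dvd.mul_left hv2 _
              obtain ⟨lam, hlam⟩ := ASMD.exists_orderOf_eq' (F := F) (r ^ 2) hq1
              have hlam0 : lam ≠ 0 := by
                rintro rfl
                rw [orderOf_zero] at hlam
                exact absurd hlam.symm (pow_ne_zero 2 hr.ne_zero)
              have hξ' : orderOf (lam ^ r) = r := by
                rw [orderOf_pow_of_dvd hr.ne_zero (by rw [hlam]; exact Dvd.intro_left r (by ring)),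
                  hlam, pow_two, Nat.mul_div_cancel _ hr.pos]
              apply hall
              apply ASMD.der_E2 n (by omega) F₀ r hr2 hr0 (lam ^ r) hξ' lam⁻¹ ?_
                (by rw [← hq₀def]; exact hu0) (by rw [← hq₀def]; exact hu1)
              rw [← hrn'.1, inv_pow, inv_mul_cancel₀ (pow_ne_zero r hlam0)]
          · -- r ∤ n : E2 with μ = ξ ^ c
            have hnu : IsUnit ((n : ℕ) : ZMod r) := by
              rw [ZMod.isUnit_iff_coprime]
              exact ((Nat.Prime.coprime_iff_not_dvd hr).2 hrn).symm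
            obtain ⟨c, hc⟩ : ∃ c : ℕ, ((n * c + 1 : ℕ) : ZMod r) = 0 := by
              obtain ⟨v, hv⟩ := hnu
              refine ⟨(-(v⁻¹ : (ZMod r)ˣ) : ZMod r).val, ?_⟩
              rw [Nat.cast_add, Nat.cast_mul, ZMod.natCast_zmod_val, Nat.cast_one, ← hv]
              rw [mul_neg, Units.mul_inv]
              ring
            rw [ZMod.natCast_eq_zero_iff] at hc
            apply hall
            apply ASMD.der_E2 n (by omega) F₀ r hr2 hr0 ξ hξ (ξ ^ c) ?_
              (by rw [← hq₀def]; exact hu0) (by rw [← hq₀def]; exact hu1)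
            rw [← pow_mul, ← pow_succ, mul_comm c n]
            rw [← hξ] at hc
            exact orderOf_dvd_iff_pow_eq_one.1 hc
      · -- k ≠ 2 : E1
        have hu2 : ((q₀ : ℕ) : ZMod r) ≠ -1 := by
          intro h
          have h1 : ((q₀ : ℕ) : ZMod r) ^ 2 = 1 := by rw [h]; ring
          have h2 : orderOf ((q₀ : ℕ) : ZMod r) ∣ 2 := orderOf_dvd_of_pow_eq_one h1
          rw [hi0] at h2
          have := (Nat.prime_dvd_prime_iff_eq hk Nat.prime_two).1 h2
          exact hk2 this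
        apply hall
        exact ASMD.der_E1 n hn F₀ r hr2 hr0 ξ hξ (by rw [← hq₀def]; exact hu0)
          (by rw [← hq₀def]; exact hu1) (by rw [← hq₀def]; exact hu2)

end Cfsg.Agent.S5965P
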