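import Mathlib
import Cfsg.Prelude.Def_GeometricClasses
import Cfsg.Prelude.Def_ClassicalGeometry
import Cfsg.Agent.Helper29.S5976Defs

set_option autoImplicit false
open scoped MatrixGroups
open Cfsg Polynomial

/-! S5976: auxiliary lemmas for the assembly. -/

namespace Cfsg.Agent.S5976P.ASM

variable {F : Type*} [Field F] {d : ℕ}

local notation "M" => Matrix (Fin d ⊕ Fin d) (Fin d ⊕ Fin d) F

theorem coe_inv_mul (g : GL (Fin d ⊕ Fin d) F) : ((g⁻¹ : GL (Fin d ⊕ Fin d) F) : M) * (g : M) = 1 := by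
  rw [← Units.val_mul, inv_mul_cancel, Units.val_one]

theorem coe_mul_inv (g : GL (Fin d ⊕ Fin d) F) : (g : M) * ((g⁻¹ : GL (Fin d ⊕ Fin d) F) : M) = 1 := by
  rw [← Units.val_mul, mul_inv_cancel, Units.val_one]

/-- conjugation does not change the dimension of the fixed space. -/
theorem finrank_ker_conj (g x : GL (Fin d ⊕ Fin d) F) :
    Module.finrank F (LinearMap.ker (Matrix.toLin' (((g⁻¹ * x * g : GL (Fin d ⊕ Fin d) F) : M) - 1))) =
      Module.finrank F (LinearMap.ker (Matrix.toLin' ((x : M) - 1))) := by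
  let e : (Fin d ⊕ Fin d → F) ≃ₗ[F] (Fin d ⊕ Fin d → F) :=
    Matrix.toLin'OfInv (coe_inv_mul g) (coe_mul_inv g)
  have he : ∀ v, e v = (g : M).mulVec v := fun v => rfl
  have h : LinearMap.ker (Matrix.toLin' (((g⁻¹ * x * g : GL (Fin d ⊕ Fin d) F) : M) - 1)) =
      (LinearMap.ker (Matrix.toLin' ((x : M) - 1))).comap e.toLinearMap := by
    ext v
    rw [Submodule.mem_comap, LinearMap.mem_ker, LinearMap.mem_ker, Matrix.toLin'_apply,
      Matrix.toLin'_apply]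
    show _ ↔ ((x : M) - 1).mulVec ((g : M).mulVec v) = 0
    rw [Matrix.mulVec_mulVec]
    have h1 : (((g⁻¹ * x * g : GL (Fin d ⊕ Fin d) F) : M) - 1) =
        ((g⁻¹ : GL (Fin d ⊕ Fin d) F) : M) * (((x : M) - 1) * (g : M)) := by
      rw [Matrix.sub_mul, Matrix.mul_sub, Matrix.one_mul, coe_inv_mul, Units.val_mul, Units.val_mul,
        Matrix.mul_assoc]
    rw [h1]
    constructor
    · intro hv
      have := congrArg (fun w => (g : M).mulVec w) hv
      simp only [Matrix.mulVec_mulVec, Matrix.mulVec_zero] at this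
      rwa [← Matrix.mul_assoc, coe_mul_inv, Matrix.one_mul] at this
    · intro hv
      rw [← Matrix.mulVec_mulVec, hv, Matrix.mulVec_zero]
  rw [h, Submodule.comap_equiv_eq_map_symm]
  exact LinearEquiv.finrank_map_eq e.symm _

/-- a matrix with an odd-dimensional polynomial kernel is not scalar. -/
theorem not_scalar_of_odd_kernel (x : M) (g₁ : F[X])
    (hodd : Odd (Module.finrank F (LinearMap.ker (aeval (Matrix.toLin' x) g₁)))) (z : F) :
    x ≠ z • (1 : M) := by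
  intro hx
  have h1 : aeval (Matrix.toLin' x) g₁ = (g₁.eval z) • (LinearMap.id : (Fin d ⊕ Fin d → F) →ₗ[F] _) := by
    have h2 : Matrix.toLin' x = algebraMap F (Module.End F (Fin d ⊕ Fin d → F)) z := by
      rw [hx, map_smul, Matrix.toLin'_one, Algebra.algebraMap_eq_smul_one]
      rfl
    rw [h2, aeval_algebraMap_apply_eq_algebraMap_eval, Algebra.algebraMap_eq_smul_one]
    rfl
  rw [h1] at hodd
  by_cases hz : g₁.eval z = 0
  · rw [hz, zero_smul, LinearMap.ker_zero, finrank_top, Module.finrank_fintype_fun_eq_card,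
      Fintype.card_sum, Fintype.card_fin] at hodd
    exact (Nat.not_odd_iff_even.mpr ⟨d, rfl⟩) hodd
  · have hk : LinearMap.ker ((g₁.eval z) • (LinearMap.id : (Fin d ⊕ Fin d → F) →ₗ[F] _)) = ⊥ := by
      rw [LinearMap.ker_eq_bot']
      intro v hv
      rw [LinearMap.smul_apply, LinearMap.id_apply] at hv
      exact (smul_eq_zero.mp hv).resolve_left hz
    rw [hk, finrank_bot] at hodd
    exact (Nat.not_odd_iff_even.mpr ⟨0, rfl⟩) hodd

theorem conj_mem_spGL {g x : GL (Fin d ⊕ Fin d) F} (hg : g ∈ Cfsg.spGL d F) (hx : x ∈ Cfsg.spGL d F) :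
    g⁻¹ * x * g ∈ Cfsg.spGL d F :=
  (Cfsg.spGL d F).mul_mem ((Cfsg.spGL d F).mul_mem ((Cfsg.spGL d F).inv_mem hg) hx) hg

/-- transport of a (twisted) commutation relation along `P ι₀ = ι P`. -/
theorem transport_comm (P y₀ : GL (Fin d ⊕ Fin d) F) (ι ι₀ c c₀ : M)
    (hP : (P : M) * ι₀ = ι * (P : M)) (hc : (P : M) * c₀ = c * (P : M))
    (h : (y₀ : M) * ι₀ = c₀ * (y₀ : M)) :
    ((P * y₀ * P⁻¹ : GL (Fin d ⊕ Fin d) F) : M) * ι =
      c * ((P * y₀ * P⁻¹ : GL (Fin d ⊕ Fin d) F) : M) := by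
  have h1 : ((P⁻¹ : GL (Fin d ⊕ Fin d) F) : M) * ι = ι₀ * ((P⁻¹ : GL (Fin d ⊕ Fin d) F) : M) := by
    calc ((P⁻¹ : GL (Fin d ⊕ Fin d) F) : M) * ι
        = ((P⁻¹ : GL (Fin d ⊕ Fin d) F) : M) * (ι * (P : M)) * ((P⁻¹ : GL (Fin d ⊕ Fin d) F) : M) := by
          rw [Matrix.mul_assoc, Matrix.mul_assoc, coe_mul_inv, Matrix.mul_one]
      _ = ι₀ * ((P⁻¹ : GL (Fin d ⊕ Fin d) F) : M) := by
          rw [← hP, ← Matrix.mul_assoc, coe_inv_mul, Matrix.one_mul]
  rw [Units.val_mul, Units.val_mul]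
  calc (P : M) * (y₀ : M) * ((P⁻¹ : GL (Fin d ⊕ Fin d) F) : M) * ι
      = (P : M) * ((y₀ : M) * ι₀) * ((P⁻¹ : GL (Fin d ⊕ Fin d) F) : M) := by
        rw [Matrix.mul_assoc ((P : M) * (y₀ : M)), h1]
        simp only [Matrix.mul_assoc]
    _ = ((P : M) * c₀) * (y₀ : M) * ((P⁻¹ : GL (Fin d ⊕ Fin d) F) : M) := by
        rw [h]
        simp only [Matrix.mul_assoc]
    _ = c * ((P : M) * (y₀ : M) * ((P⁻¹ : GL (Fin d ⊕ Fin d) F) : M)) := by
        rw [hc]
        simp only [Matrix.mul_assoc]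

theorem transport_sq (P y₀ : GL (Fin d ⊕ Fin d) F) (z : F)
    (h : (y₀ : M) * (y₀ : M) = z • (1 : M)) :
    ((P * y₀ * P⁻¹ : GL (Fin d ⊕ Fin d) F) : M) * ((P * y₀ * P⁻¹ : GL (Fin d ⊕ Fin d) F) : M) =
      z • (1 : M) := by
  rw [Units.val_mul, Units.val_mul]
  calc (P : M) * (y₀ : M) * ((P⁻¹ : GL (Fin d ⊕ Fin d) F) : M) *
        ((P : M) * (y₀ : M) * ((P⁻¹ : GL (Fin d ⊕ Fin d) F) : M))
      = (P : M) * (y₀ : M) * (((P⁻¹ : GL (Fin d ⊕ Fin d) F) : M) * (P : M)) * (y₀ : M) *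
          ((P⁻¹ : GL (Fin d ⊕ Fin d) F) : M) := by simp only [Matrix.mul_assoc]
    _ = (P : M) * ((y₀ : M) * (y₀ : M)) * ((P⁻¹ : GL (Fin d ⊕ Fin d) F) : M) := by
        rw [coe_inv_mul, Matrix.mul_one]
        simp only [Matrix.mul_assoc]
    _ = z • (1 : M) := by
        rw [h, Matrix.mul_smul, Matrix.smul_mul, Matrix.mul_one, coe_mul_inv]

end Cfsg.Agent.S5976P.ASM
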