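import Mathlib
import Cfsg.Prelude.Def_GeometricClasses
import Cfsg.Prelude.Def_ClassicalGeometry
import Cfsg.Agent.Helper29.S5976Defs
import Cfsg.Agent.Helper2.SpDerange

set_option autoImplicit false
open scoped MatrixGroups

/-! S5976 piece FIELD4. -/

namespace Cfsg.Agent.S5976P.FIELD4

open Polynomial Module

variable {F : Type*} [Field F] {d : ℕ}

local notation "M" => Matrix (Fin d ⊕ Fin d) (Fin d ⊕ Fin d) F
local notation "V" => (Fin d ⊕ Fin d → F)

theorem sf_add_left (u u' v : V) :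
    Cfsg.sympForm d F (u + u') v = Cfsg.sympForm d F u v + Cfsg.sympForm d F u' v := by
  rw [sympForm_eq, sympForm_eq, sympForm_eq, add_dotProduct]

theorem sf_smul_left (a : F) (u v : V) :
    Cfsg.sympForm d F (a • u) v = a * Cfsg.sympForm d F u v := by
  rw [sympForm_eq, sympForm_eq, smul_dotProduct, smul_eq_mul]

theorem sf_add_right (u v v' : V) :
    Cfsg.sympForm d F u (v + v') = Cfsg.sympForm d F u v + Cfsg.sympForm d F u v' := by
  rw [sympForm_eq, sympForm_eq, sympForm_eq, Matrix.mulVec_add, dotProduct_add]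

theorem sf_sub_right (u v v' : V) :
    Cfsg.sympForm d F u (v - v') = Cfsg.sympForm d F u v - Cfsg.sympForm d F u v' := by
  rw [sympForm_eq, sympForm_eq, sympForm_eq, Matrix.mulVec_sub, dotProduct_sub]

theorem sf_smul_right (a : F) (u v : V) :
    Cfsg.sympForm d F u (a • v) = a * Cfsg.sympForm d F u v := by
  rw [sympForm_eq, sympForm_eq, Matrix.mulVec_smul, dotProduct_smul, smul_eq_mul]

theorem sf_zero_left (v : V) : Cfsg.sympForm d F 0 v = 0 := by
  rw [sympForm_eq, zero_dotProduct]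

theorem sf_zero_right (u : V) : Cfsg.sympForm d F u 0 = 0 := by
  rw [sympForm_eq, Matrix.mulVec_zero, dotProduct_zero]

/-- nondegeneracy of the standard form. -/
theorem sf_nondeg (x : V) (h : ∀ u : V, Cfsg.sympForm d F u x = 0) : x = 0 := by
  have h1 : (Matrix.J (Fin d) F).mulVec x = 0 := by
    funext s
    have := h (Pi.single s 1)
    rw [sympForm_eq, single_one_dotProduct] at this
    exact this
  have h2 : (Matrix.J (Fin d) F * Matrix.J (Fin d) F).mulVec x = 0 := by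
    rw [← Matrix.mulVec_mulVec, h1, Matrix.mulVec_zero]
  rw [Matrix.J_squared, Matrix.neg_mulVec, Matrix.one_mulVec, neg_eq_zero] at h2
  exact h2

/-- the adjoint of a polynomial in a symplectic matrix. -/
theorem sf_aeval (Y Yi : M) (hY : ∀ u v : V, Cfsg.sympForm d F (Y.mulVec u) v =
      Cfsg.sympForm d F u (Yi.mulVec v)) (h : F[X]) (u v : V) :
    Cfsg.sympForm d F ((aeval Y h).mulVec u) v = Cfsg.sympForm d F u ((aeval Yi h).mulVec v) := by
  induction h using Polynomial.induction_on generalizing u v with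
  | C a =>
    rw [aeval_C, aeval_C, Algebra.algebraMap_eq_smul_one,
      Matrix.smul_mulVec, Matrix.smul_mulVec, Matrix.one_mulVec, Matrix.one_mulVec,
      sf_smul_left, sf_smul_right]
  | add p q hp hq =>
    rw [map_add, map_add, Matrix.add_mulVec, Matrix.add_mulVec, sf_add_left, sf_add_right, hp, hq]
  | monomial n a ih =>
    have h1 : aeval Y (C a * X ^ (n + 1)) = Y * aeval Y (C a * X ^ n) := by
      rw [map_mul, map_mul, map_pow, map_pow, aeval_X, aeval_C, pow_succ',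
        Algebra.algebraMap_eq_smul_one]
      simp only [Matrix.smul_mul, Matrix.mul_smul, Matrix.one_mul, Matrix.mul_one]
    have h2 : aeval Yi (C a * X ^ (n + 1)) = aeval Yi (C a * X ^ n) * Yi := by
      rw [map_mul, map_mul, map_pow, map_pow, aeval_X, aeval_C, pow_succ,
        Algebra.algebraMap_eq_smul_one]
      simp only [Matrix.smul_mul, Matrix.mul_smul, Matrix.one_mul, Matrix.mul_one]
    rw [h1, h2, ← Matrix.mulVec_mulVec, ← Matrix.mulVec_mulVec, hY, ih]


/-- iterated Frobenius on polynomials over a finite field. -/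
theorem expand_card_pow [Fintype F] (h : F[X]) (j : ℕ) :
    expand F (Fintype.card F ^ j) h = h ^ (Fintype.card F ^ j) := by
  induction j with
  | zero => rw [pow_zero, pow_one, expand_one]
  | succ j ih =>
    rw [pow_succ, mul_comm, expand_mul, ih, FiniteField.expand_card, ← pow_mul, mul_comm]

/-- `X² - tX + n` is irreducible. -/
theorem irreducible_quad (t n : F) (hirr : ∀ c : F, c * c - t * c + n ≠ 0) :
    Irreducible (X ^ 2 - C t * X + C n : F[X]) := by
  have hdeg : (X ^ 2 - C t * X + C n : F[X]).natDegree = 2 := by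
    have h1 : (X ^ 2 - C t * X + C n : F[X]) = X ^ 2 + (C (-t) * X + C n) := by
      rw [map_neg]; ring
    rw [h1]
    compute_degree!
  have hmon : (X ^ 2 - C t * X + C n : F[X]).Monic := by
    have h1 : (X ^ 2 - C t * X + C n : F[X]) = X ^ 2 + (C (-t) * X + C n) := by
      rw [map_neg]; ring
    rw [h1]
    monicity!
  rw [Polynomial.Monic.irreducible_iff_roots_eq_zero_of_degree_le_three hmon (by omega) (by omega)]
  rw [Multiset.eq_zero_iff_forall_notMem]
  intro c hc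
  rw [mem_roots (by intro h; rw [h] at hdeg; simp at hdeg)] at hc
  apply hirr c
  have := hc
  rw [IsRoot.def] at this
  simp only [eval_add, eval_sub, eval_pow, eval_X, eval_mul, eval_C] at this
  linear_combination this

/-- polynomials in `Y` commute with `Y - 1`. -/
theorem aeval_comm_sub_one (Y : M) (h : F[X]) : aeval Y h * (Y - 1) = (Y - 1) * aeval Y h := by
  have h1 : (Y - 1 : M) = aeval Y (X - 1 : F[X]) := by
    rw [map_sub, aeval_X, map_one]
  rw [h1, ← map_mul, ← map_mul, mul_comm]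

end Cfsg.Agent.S5976P.FIELD4

namespace Cfsg.Agent.S5976P

open Polynomial Module FIELD4

/-- FIELD4 -/
theorem false_of_commute_min {F : Type*} [Field F] [Fintype F] {p : ℕ} [Fact p.Prime] [CharP F p]
    (h2 : (2 : F) ≠ 0) (d : ℕ)
    (K : Subalgebra F (Matrix (Fin d ⊕ Fin d) (Fin d ⊕ Fin d) F)) (hK : HypK d F K)
    (t n : F) (hirr : ∀ c : F, c * c - t * c + n ≠ 0)
    (ι : Matrix (Fin d ⊕ Fin d) (Fin d ⊕ Fin d) F) (hι : IsGen d F K t n ι)
    (r : ℕ) [Fact r.Prime] (hr2 : r ≠ 2) (hrp : r ≠ p) (j : ℕ) (hj0 : 1 ≤ j)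
    (hi : orderOf ((Fintype.card F : ℕ) : ZMod r) = 2 * j) (hj : Even j)
    (y : GL (Fin d ⊕ Fin d) F) (hy : y ∈ Cfsg.spGL d F)
    (hyr : ((y ^ r : GL (Fin d ⊕ Fin d) F) : Matrix (Fin d ⊕ Fin d) (Fin d ⊕ Fin d) F) = 1)
    (hdim : Module.finrank F (LinearMap.ker (Matrix.toLin'
        ((y : Matrix (Fin d ⊕ Fin d) (Fin d ⊕ Fin d) F) - 1))) + 2 * j = 2 * d)
    (hcomm : (y : Matrix (Fin d ⊕ Fin d) (Fin d ⊕ Fin d) F) * ι =
      ι * (y : Matrix (Fin d ⊕ Fin d) (Fin d ⊕ Fin d) F)) : False := by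
  classical
  have hr : r.Prime := Fact.out
  have hp : p.Prime := Fact.out
  obtain ⟨q, hq⟩ : ∃ q, q = Fintype.card F := ⟨_, rfl⟩
  rw [← hq] at hi
  have hq1 : 1 ≤ q := by rw [hq]; exact Fintype.card_pos
  obtain ⟨Y, hY⟩ : ∃ Y : Matrix (Fin d ⊕ Fin d) (Fin d ⊕ Fin d) F,
      Y = (y : Matrix (Fin d ⊕ Fin d) (Fin d ⊕ Fin d) F) := ⟨_, rfl⟩
  obtain ⟨Yi, hYi⟩ : ∃ Yi : Matrix (Fin d ⊕ Fin d) (Fin d ⊕ Fin d) F,
      Yi = ((y⁻¹ : GL (Fin d ⊕ Fin d) F) : Matrix (Fin d ⊕ Fin d) (Fin d ⊕ Fin d) F) := ⟨_, rfl⟩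
  rw [← hY] at hdim hcomm
  have hYYi : Y * Yi = 1 := by
    rw [hY, hYi, ← Units.val_mul, mul_inv_cancel, Units.val_one]
  have hYr : Y ^ r = 1 := by
    rw [hY, ← Units.val_pow_eq_pow_val]; exact hyr
  have hyr' : y ^ r = 1 := by
    apply Units.ext
    rw [hyr, Units.val_one]
  -- A. `r ∣ q^j + 1`
  have hrq : ¬ r ∣ q := by
    obtain ⟨k, _, hk⟩ := FiniteField.card F p
    rw [← hq] at hk
    intro hdvd
    rw [hk] at hdvd
    exact hrp ((Nat.prime_dvd_prime_iff_eq hr hp).mp (hr.dvd_of_dvd_pow hdvd))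
  have hQ : r ∣ q ^ j + 1 := by
    have h1 : ((q : ℕ) : ZMod r) ^ (2 * j) = 1 := by rw [← hi]; exact pow_orderOf_eq_one _
    have h3 : ((q : ℕ) : ZMod r) ^ j ≠ 1 := by
      intro h
      have := orderOf_dvd_of_pow_eq_one h
      rw [hi] at this
      have := Nat.le_of_dvd (by omega) this
      omega
    have h4 : ((q : ℕ) : ZMod r) ^ j * ((q : ℕ) : ZMod r) ^ j = 1 := by
      rw [← pow_add, ← two_mul]; exact h1
    rcases mul_self_eq_one_iff.mp h4 with h5 | h5
    · exact absurd h5 h3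
    · rw [← ZMod.natCast_eq_zero_iff, Nat.cast_add, Nat.cast_pow, h5, Nat.cast_one]
      ring
  have hYiQ : Yi = Y ^ (q ^ j) := by
    obtain ⟨c, hc⟩ := hQ
    have h1 : y ^ (q ^ j) * y = 1 := by
      rw [← pow_succ, hc, pow_mul, hyr', one_pow]
    have h3 : y⁻¹ = y ^ (q ^ j) := (eq_inv_of_mul_eq_one_left h1).symm
    rw [hYi, hY, h3, Units.val_pow_eq_pow_val]
  -- the form
  have hsp : ∀ u v : Fin d ⊕ Fin d → F, Cfsg.sympForm d F (Y.mulVec u) (Y.mulVec v) =
      Cfsg.sympForm d F u v := by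
    rw [hY]; exact hy
  have hadjY : ∀ u v : Fin d ⊕ Fin d → F, Cfsg.sympForm d F (Y.mulVec u) v =
      Cfsg.sympForm d F u (Yi.mulVec v) := by
    intro u v
    have := hsp u (Yi.mulVec v)
    rw [Matrix.mulVec_mulVec, hYYi, Matrix.one_mulVec] at this
    exact this
  -- B. `W`
  obtain ⟨W, hW⟩ : ∃ W : Submodule F (Fin d ⊕ Fin d → F),
      W = LinearMap.range (Matrix.toLin' (Y - 1)) := ⟨_, rfl⟩
  have hWmem : ∀ w, w ∈ W ↔ ∃ v, (Y - 1).mulVec v = w := by
    intro w
    rw [hW, LinearMap.mem_range]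
    simp only [Matrix.toLin'_apply]
  have hWdim : finrank F W = 2 * j := by
    have := LinearMap.finrank_range_add_finrank_ker (Matrix.toLin' (Y - 1))
    rw [Module.finrank_fintype_fun_eq_card, Fintype.card_sum, Fintype.card_fin, ← hW] at this
    omega
  -- invariance of `W`
  have hWpoly : ∀ (h : F[X]), ∀ w ∈ W, (aeval Y h).mulVec w ∈ W := by
    intro h w hw
    obtain ⟨v, rfl⟩ := (hWmem w).mp hw
    rw [hWmem]
    refine ⟨(aeval Y h).mulVec v, ?_⟩
    rw [Matrix.mulVec_mulVec, Matrix.mulVec_mulVec, aeval_comm_sub_one]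
  have hWY : ∀ w ∈ W, Y.mulVec w ∈ W := by
    intro w hw
    have := hWpoly X w hw
    rwa [aeval_X] at this
  have hWι : ∀ w ∈ W, ι.mulVec w ∈ W := by
    intro w hw
    obtain ⟨v, rfl⟩ := (hWmem w).mp hw
    rw [hWmem]
    refine ⟨ι.mulVec v, ?_⟩
    rw [Matrix.mulVec_mulVec, Matrix.mulVec_mulVec, Matrix.sub_mul, Matrix.mul_sub, hcomm,
      Matrix.one_mul, Matrix.mul_one]
  -- C. no fixed points on `W`
  have hrF : (r : F) ≠ 0 := by
    intro h
    have := (CharP.cast_eq_zero_iff F p r).mp h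
    exact hrp ((Nat.prime_dvd_prime_iff_eq hp hr).mp this).symm
  have hfix : ∀ w ∈ W, Y.mulVec w = w → w = 0 := by
    intro w hw hYw
    obtain ⟨v, rfl⟩ := (hWmem w).mp hw
    have h1 : (∑ k ∈ Finset.range r, Y ^ k) * (Y - 1) = 0 := by
      rw [geom_sum_mul, hYr, sub_self]
    have h3 : ∀ k : ℕ, (Y ^ k).mulVec ((Y - 1).mulVec v) = (Y - 1).mulVec v := by
      intro k
      induction k with
      | zero => rw [pow_zero, Matrix.one_mulVec]
      | succ k ih => rw [pow_succ, ← Matrix.mulVec_mulVec, hYw, ih]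
    have h4 : (∑ k ∈ Finset.range r, Y ^ k).mulVec ((Y - 1).mulVec v) =
        (r : F) • (Y - 1).mulVec v := by
      rw [Matrix.sum_mulVec]
      simp only [h3]
      rw [Finset.sum_const, Finset.card_range, Nat.cast_smul_eq_nsmul]
    rw [Matrix.mulVec_mulVec, h1, Matrix.zero_mulVec] at h4
    exact (smul_eq_zero.mp h4.symm).resolve_left hrF
  -- D. cyclic subspaces
  have hcyc : ∀ w ∈ W, w ≠ 0 → ∀ w' ∈ W, ∃ h : F[X], (aeval Y h).mulVec w = w' := by
    intro w hw hw0
    let Zmap : F[X] →ₗ[F] (Fin d ⊕ Fin d → F) :=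
      { toFun := fun h => (aeval Y h).mulVec w
        map_add' := fun a b => by rw [map_add, Matrix.add_mulVec]
        map_smul' := fun a b => by rw [map_smul, Matrix.smul_mulVec, RingHom.id_apply] }
    have hZle : LinearMap.range Zmap ≤ W := by
      rintro _ ⟨h, rfl⟩
      exact hWpoly h w hw
    have hZinv : ∀ u ∈ LinearMap.range Zmap, Y.mulVec u ∈ LinearMap.range Zmap := by
      rintro _ ⟨h, rfl⟩
      refine ⟨X * h, ?_⟩
      show (aeval Y (X * h)).mulVec w = Y.mulVec ((aeval Y h).mulVec w)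
      rw [map_mul, aeval_X, Matrix.mulVec_mulVec]
    have hZfix : LinearMap.range Zmap ⊓ Cfsg.Agent.Helper2.SpDerange.Fix Y = ⊥ := by
      rw [eq_bot_iff]
      rintro u ⟨hu1, hu2⟩
      rw [Submodule.mem_bot]
      exact hfix u (hZle hu1) (Cfsg.Agent.Helper2.SpDerange.mem_Fix.mp hu2)
    have hdvd := Cfsg.Agent.Helper2.SpDerange.dvd_of_invariant hq.symm Y hrq hYr
      (LinearMap.range Zmap) hZinv
    rw [hZfix, finrank_bot, Nat.sub_zero] at hdvd
    have hpow : ((q : ℕ) : ZMod r) ^ finrank F (LinearMap.range Zmap) = 1 := by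
      have h1 := (ZMod.natCast_eq_zero_iff _ r).mpr hdvd
      rw [Nat.cast_sub (Nat.one_le_pow _ _ hq1), Nat.cast_pow, Nat.cast_one, sub_eq_zero] at h1
      exact h1
    have h2j := orderOf_dvd_of_pow_eq_one hpow
    rw [hi] at h2j
    have hwZ : w ∈ LinearMap.range Zmap := ⟨1, by
      show (aeval Y (1 : F[X])).mulVec w = w
      rw [map_one, Matrix.one_mulVec]⟩
    have hZpos : 0 < finrank F (LinearMap.range Zmap) := by
      rw [Module.finrank_pos_iff_exists_ne_zero]
      exact ⟨⟨w, hwZ⟩, fun h => hw0 (congrArg Subtype.val h)⟩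
    have hge : 2 * j ≤ finrank F (LinearMap.range Zmap) := Nat.le_of_dvd hZpos h2j
    have hZW : LinearMap.range Zmap = W :=
      Submodule.eq_of_le_of_finrank_le hZle (by rw [hWdim]; exact hge)
    intro w' hw'
    rw [← hZW] at hw'
    obtain ⟨h, hh⟩ := hw'
    exact ⟨h, hh⟩
  -- E. a nonzero vector and the polynomial
  obtain ⟨w, hwW, hw0⟩ : ∃ w ∈ W, w ≠ 0 := by
    have hpos : 0 < finrank F W := by rw [hWdim]; omega
    rw [Module.finrank_pos_iff_exists_ne_zero] at hpos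
    obtain ⟨⟨w, hw⟩, hne⟩ := hpos
    exact ⟨w, hw, fun h => hne (Subtype.ext h)⟩
  obtain ⟨h, hh⟩ := hcyc w hwW hw0 (ι.mulVec w) (hWι w hwW)
  have hιcomm : ∀ k : F[X], aeval Y k * ι = ι * aeval Y k := by
    intro k
    induction k using Polynomial.induction_on with
    | C a =>
      rw [aeval_C, Algebra.algebraMap_eq_smul_one, Matrix.smul_mul, Matrix.mul_smul,
        Matrix.one_mul, Matrix.mul_one]
    | add a b ha hb => rw [map_add, Matrix.add_mul, Matrix.mul_add, ha, hb]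
    | monomial m a ih =>
      have h1 : aeval Y (C a * X ^ (m + 1)) = aeval Y (C a * X ^ m) * Y := by
        rw [map_mul, map_mul, map_pow, map_pow, aeval_X, pow_succ, ← Matrix.mul_assoc]
      rw [h1, Matrix.mul_assoc, hcomm, ← Matrix.mul_assoc, ih, Matrix.mul_assoc]
  have hHι : ∀ w' ∈ W, (aeval Y h).mulVec w' = ι.mulVec w' := by
    intro w' hw'
    obtain ⟨k, rfl⟩ := hcyc w hwW hw0 w' hw'
    rw [Matrix.mulVec_mulVec, Matrix.mulVec_mulVec, ← map_mul, mul_comm, map_mul,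
      ← Matrix.mulVec_mulVec, hh, Matrix.mulVec_mulVec, hιcomm]
  -- G. the adjoint of `H` is `H ^ Q`
  have hadjH : aeval Yi h = (aeval Y h) ^ (q ^ j) := by
    rw [hYiQ, ← expand_aeval, hq, expand_card_pow, map_pow]
  -- H. `H ^ m` acts as `ι ^ m` on `W`
  have hpowW : ∀ m : ℕ, ∀ w' ∈ W, ((aeval Y h) ^ m).mulVec w' = (ι ^ m).mulVec w' := by
    intro m
    induction m with
    | zero => intro w' _; rw [pow_zero, pow_zero]
    | succ m ih =>
      intro w' hw'
      rw [pow_succ, pow_succ, ← Matrix.mulVec_mulVec, ← Matrix.mulVec_mulVec, hHι w' hw',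
        ih _ (hWι w' hw')]
  have hιQ : ι ^ (q ^ j) = ι := by
    have hirrp := irreducible_quad t n hirr
    have hnat : (X ^ 2 - C t * X + C n : F[X]).natDegree = 2 := by
      have h1 : (X ^ 2 - C t * X + C n : F[X]) = X ^ 2 + (C (-t) * X + C n) := by
        rw [map_neg]; ring
      rw [h1]
      compute_degree!
    have hdvd : (X ^ 2 - C t * X + C n : F[X]) ∣ X ^ (Nat.card F) ^ j - X := by
      rw [← hirrp.natDegree_dvd_iff_dvd_X_pow_card_pow_sub_X, hnat]
      exact even_iff_two_dvd.mp hj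
    obtain ⟨c, hc⟩ := hdvd
    have h0 : aeval ι (X ^ 2 - C t * X + C n : F[X]) = 0 := by
      rw [map_add, map_sub, map_pow, map_mul, aeval_X, aeval_C, aeval_C, pow_two, hι.sq,
        Algebra.algebraMap_eq_smul_one, Algebra.algebraMap_eq_smul_one, Matrix.smul_mul,
        Matrix.one_mul]
      abel
    have h1 := congrArg (aeval ι) hc
    rw [map_mul, h0, zero_mul, map_sub, map_pow, aeval_X, sub_eq_zero, Nat.card_eq_fintype_card,
      ← hq] at h1
    exact h1
  -- I. `f(u, (t - 2ι) v) = 0` on `W`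
  have hzero : ∀ u ∈ W, ∀ v ∈ W, Cfsg.sympForm d F u
      ((t • (1 : Matrix (Fin d ⊕ Fin d) (Fin d ⊕ Fin d) F) - ι - ι).mulVec v) = 0 := by
    intro u hu v hv
    have h1 := hι.adj u v
    rw [← hHι u hu, sf_aeval Y Yi hadjY h u v, hadjH, hpowW _ v hv, hιQ] at h1
    rw [Matrix.sub_mulVec, sf_sub_right, ← h1, sub_self]
  -- J. `(t - 2ι) w = 0`
  have hkerW : ∀ u, Y.mulVec u = u → ∀ v ∈ W, Cfsg.sympForm d F u v = 0 := by
    intro u hu v hv
    obtain ⟨v', rfl⟩ := (hWmem v).mp hv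
    rw [Matrix.sub_mulVec, Matrix.one_mulVec, sf_sub_right]
    have := hsp u v'
    rw [hu] at this
    rw [this, sub_self]
  have hsup : LinearMap.ker (Matrix.toLin' (Y - 1)) ⊔ W = ⊤ := by
    have hdisj : LinearMap.ker (Matrix.toLin' (Y - 1)) ⊓ W = ⊥ := by
      rw [eq_bot_iff]
      rintro u ⟨hu1, hu2⟩
      rw [Submodule.mem_bot]
      apply hfix u hu2
      have := LinearMap.mem_ker.mp hu1
      rw [Matrix.toLin'_apply, Matrix.sub_mulVec, Matrix.one_mulVec, sub_eq_zero] at this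
      exact this
    apply Submodule.eq_top_of_finrank_eq
    have := Submodule.finrank_sup_add_finrank_inf_eq (LinearMap.ker (Matrix.toLin' (Y - 1))) W
    rw [hdisj, finrank_bot, hWdim] at this
    rw [Module.finrank_fintype_fun_eq_card, Fintype.card_sum, Fintype.card_fin]
    omega
  have hx0 : (t • (1 : Matrix (Fin d ⊕ Fin d) (Fin d ⊕ Fin d) F) - ι - ι).mulVec w = 0 := by
    apply sf_nondeg
    intro u
    have hxW : (t • (1 : Matrix (Fin d ⊕ Fin d) (Fin d ⊕ Fin d) F) - ι - ι).mulVec w ∈ W := by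
      rw [Matrix.sub_mulVec, Matrix.sub_mulVec, Matrix.smul_mulVec, Matrix.one_mulVec]
      exact W.sub_mem (W.sub_mem (W.smul_mem t hwW) (hWι w hwW)) (hWι w hwW)
    have hu : u ∈ LinearMap.ker (Matrix.toLin' (Y - 1)) ⊔ W := by rw [hsup]; trivial
    obtain ⟨u1, hu1, u2, hu2, rfl⟩ := Submodule.mem_sup.mp hu
    rw [sf_add_left, hzero u2 hu2 w hwW, add_zero]
    apply hkerW u1 _ _ hxW
    have := LinearMap.mem_ker.mp hu1
    rw [Matrix.toLin'_apply, Matrix.sub_mulVec, Matrix.one_mulVec, sub_eq_zero] at this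
    exact this
  -- `(t - 2ι)² = t² - 4n`
  have hsq : (t • (1 : Matrix (Fin d ⊕ Fin d) (Fin d ⊕ Fin d) F) - ι - ι) *
      (t • (1 : Matrix (Fin d ⊕ Fin d) (Fin d ⊕ Fin d) F) - ι - ι) =
      (t * t - 4 * n) • (1 : Matrix (Fin d ⊕ Fin d) (Fin d ⊕ Fin d) F) := by
    simp only [Matrix.sub_mul, Matrix.mul_sub, Matrix.smul_mul, Matrix.mul_smul, Matrix.one_mul,
      Matrix.mul_one, hι.sq]
    module
  have h5 : (t * t - 4 * n) • w = 0 := by
    have := congrArg (fun m => Matrix.mulVec m w) hsq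
    rw [← Matrix.mulVec_mulVec, hx0, Matrix.mulVec_zero, Matrix.smul_mulVec,
      Matrix.one_mulVec] at this
    exact this.symm
  have h6 : t * t - 4 * n = 0 := (smul_eq_zero.mp h5).resolve_right hw0
  apply hirr (t / 2)
  field_simp
  linear_combination -h6

end Cfsg.Agent.S5976P
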