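import Cfsg.Agent.Helper13.S5976FRAME
import Cfsg.Agent.Helper13.S5976SPCONJM1
import Cfsg.Agent.Helper15.S5976INV1
import Cfsg.Agent.Helper15.S5976SEMI
import Cfsg.Agent.Helper19.S5976MODEL
import Cfsg.Agent.Helper19.S5976ROOT
import Cfsg.Agent.Helper20.S5976TRANSV
import Cfsg.Agent.Helper24.S5976ELT4
import Cfsg.Agent.Helper24.S5976NOCONJ
import Cfsg.Agent.Helper24.S5976NTCASES
import Cfsg.Agent.Helper24.S5976QUAD
import Cfsg.Agent.Helper24.S5976SELFREC
import Cfsg.Agent.Helper24.S5976ZPM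
import Cfsg.Agent.Helper25.S5976ODDLIN
import Cfsg.Agent.Helper28.S5976ELTODD
import Cfsg.Agent.Helper28.S5976SPCONJ1
import Cfsg.Agent.Helper29.S5976CARDSP
import Cfsg.Agent.Helper29.S5976FIELD4
import Cfsg.Agent.Helper3.S5976CONJK
import Cfsg.Agent.Helper3.S5976EVENDIM
import Cfsg.Agent.Helper3.S5976NTU
import Cfsg.Agent.Helper8.S5976EVEN
import Cfsg.Agent.Helper8.S5976MEMNORM
import Cfsg.Agent.Helper8.S5976NORMCONJ
import Cfsg.Agent.Helper29.S5976ASMA

set_option autoImplicit false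
open scoped MatrixGroups
open Cfsg

namespace Cfsg.Agent.S5976P.ASM

open Cfsg.Agent.S5976P Polynomial

/-- direction (⇒): for odd `r` there is a derangement. -/
theorem forward {F : Type*} [Field F] [Fintype F] {p : ℕ} [Fact p.Prime] [CharP F p] {q : ℕ} (hq : Fintype.card F = q)
    (h2 : (2 : F) ≠ 0) (d : ℕ) (hd1 : 1 ≤ d)
    (K : Subalgebra F (Matrix (Fin d ⊕ Fin d) (Fin d ⊕ Fin d) F)) (hHyp : HypK d F K)
    (t n : F) (hirr : ∀ c : F, c * c - t * c + n ≠ 0)
    (ι : Matrix (Fin d ⊕ Fin d) (Fin d ⊕ Fin d) F) (hι : IsGen d F K t n ι)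
    (e : Fin d → (Fin d ⊕ Fin d → F)) (he : IsFrame d F ι e)
    (r : ℕ) [Fact r.Prime] (hr2 : r ≠ 2)
    (hΩ : r ∣ (Cfsg.Geo.subalgebraNormalizer K).relIndex (Cfsg.spGL d F))
    (hall : ∀ x ∈ Cfsg.spGL d F, (∃ z : F, ((x ^ r : GL (Fin d ⊕ Fin d) F) : Matrix (Fin d ⊕ Fin d) (Fin d ⊕ Fin d) F) = z • (1 : Matrix (Fin d ⊕ Fin d) (Fin d ⊕ Fin d) F)) →
      (∀ z : F, (x : Matrix (Fin d ⊕ Fin d) (Fin d ⊕ Fin d) F) ≠ z • (1 : Matrix (Fin d ⊕ Fin d) (Fin d ⊕ Fin d) F)) →
      ∃ g ∈ Cfsg.spGL d F, g⁻¹ * x * g ∈ Cfsg.Geo.subalgebraNormalizer K) : False := by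
  classical
  have hp : p.Prime := Fact.out
  have hr : r.Prime := Fact.out
  have hK := hHyp.field
  have hrodd : Odd r := hr.odd_of_ne_two hr2
  by_cases hrp : r = p
  · subst hrp
    obtain ⟨x, hx, hxp, hdim⟩ := exists_transvection (F := F) (p := r) d hd1
    have hoddk : Odd (Module.finrank F (LinearMap.ker (aeval (Matrix.toLin'
        (x : Matrix (Fin d ⊕ Fin d) (Fin d ⊕ Fin d) F)) (X - 1 : F[X])))) := by
      have h1 : aeval (Matrix.toLin' (x : Matrix (Fin d ⊕ Fin d) (Fin d ⊕ Fin d) F)) (X - 1 : F[X]) =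
          Matrix.toLin' ((x : Matrix (Fin d ⊕ Fin d) (Fin d ⊕ Fin d) F) - 1) := by
        rw [map_sub, aeval_X, map_one, map_sub, Matrix.toLin'_one]
        rfl
      rw [h1, hdim]
      exact ⟨d - 1, by omega⟩
    obtain ⟨g, hg, hgN⟩ := hall x hx ⟨1, by rw [hxp, one_smul]⟩
      (not_scalar_of_odd_kernel _ _ hoddk)
    exact not_conj_of_odd_kernel d K hK r hrodd x 1 (by rw [hxp, one_smul]) (X - 1) hoddk ⟨g, hgN⟩
  · -- r ≠ p
    have hq2 : 2 ≤ q := by
      rw [← hq]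
      exact Fintype.one_lt_card
    have hrq : ¬ r ∣ q := by
      obtain ⟨k, _, hk⟩ := FiniteField.card F p
      rw [hq] at hk
      intro hdvd
      rw [hk] at hdvd
      exact hrp ((Nat.prime_dvd_prime_iff_eq hr hp).mp (hr.dvd_of_dvd_pow hdvd))
    have hcard := card_spGL (F := F) d
    rw [hq] at hcard
    have hdvd : r ∣ q ^ (d ^ 2) * ∏ m ∈ Finset.range d, (q ^ (2 * (m + 1)) - 1) := by
      rw [← hcard]
      exact dvd_trans hΩ (Subgroup.relIndex_dvd_card _ _)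
    rcases ord_cases_of_dvd q r hr2 hq2 hrq d hdvd with ⟨hiodd, hid⟩ | ⟨j, hj1, hij, hjd⟩
    · -- odd order
      rw [← hq] at hiodd hid
      obtain ⟨x, hx, hxr, g₁, hoddk⟩ := exists_elt_odd (F := F) (p := p) d r hr2 hrp hiodd hid
      obtain ⟨g, hg, hgN⟩ := hall x hx ⟨1, by rw [hxr, one_smul]⟩
        (not_scalar_of_odd_kernel _ _ hoddk)
      exact not_conj_of_odd_kernel d K hK r hrodd x 1 (by rw [hxr, one_smul]) g₁ hoddk ⟨g, hgN⟩
    · rcases Nat.even_or_odd j with hje | hjo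
      · -- j even
        rw [← hq] at hij
        obtain ⟨x, hx, hxr, hxns, hxdim⟩ :=
          exists_elt_min (F := F) (p := p) d r hr2 hrp j hj1 hij hjd
        obtain ⟨g, hg, hgN⟩ := hall x hx ⟨1, by rw [hxr, one_smul]⟩ hxns
        have hyS : g⁻¹ * x * g ∈ Cfsg.spGL d F := conj_mem_spGL hg hx
        have hyr : (((g⁻¹ * x * g) ^ r : GL (Fin d ⊕ Fin d) F) :
            Matrix (Fin d ⊕ Fin d) (Fin d ⊕ Fin d) F) = 1 := by
          have h1 : x ^ r = 1 := by
            apply Units.ext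
            rw [hxr, Units.val_one]
          have h3 : (g⁻¹ * x * g) ^ r = 1 := by
            have h4 := conj_pow (a := g⁻¹) (b := x) (i := r)
            rw [inv_inv] at h4
            rw [h4, h1, mul_one, inv_mul_cancel]
          rw [h3, Units.val_one]
        have hcomm := commute_of_odd_order d K hK (g⁻¹ * x * g) hgN r hrodd 1
          (by rw [hyr, one_smul]) ι hι.mem
        have hydim := finrank_ker_conj g x
        exact false_of_commute_min (p := p) h2 d K hHyp t n hirr ι hι r hr2 hrp j hj1 hij hje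
          (g⁻¹ * x * g) hyS hyr (by rw [hydim]; exact hxdim) hcomm
      · -- j odd: `r` does not divide the index
        obtain ⟨K₀, hK₀, hGU⟩ := exists_model (F := F) h2 d hd1
        obtain ⟨ι₀, hι₀⟩ := exists_gen h2 d K₀ hK₀ t n hirr
        obtain ⟨e₀, he₀⟩ := exists_frame h2 d t n hirr ι₀ hι₀.sq hι₀.adj
        obtain ⟨g, hg, hgι⟩ := exists_conj_of_frames d t n ι ι₀ hι.sq hι₀.sq e e₀ he he₀
        have hrel := relIndex_eq_of_conj d t n K K₀ ι ι₀ hι hι₀ g hg hgι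
        rw [hrel] at hΩ
        rw [hq] at hGU
        have hmul : Nat.card ↥(Cfsg.spGL d F ⊓ Cfsg.Geo.subalgebraNormalizer K₀) *
            (Cfsg.Geo.subalgebraNormalizer K₀).relIndex (Cfsg.spGL d F) =
            q ^ (d ^ 2) * ∏ m ∈ Finset.range d, (q ^ (2 * (m + 1)) - 1) := by
          rw [← hcard, inf_comm, ← Subgroup.inf_relIndex_right, ← Subgroup.relIndex_bot_left,
            ← Subgroup.relIndex_bot_left (H := Cfsg.spGL d F)]
          exact Subgroup.relIndex_mul_relIndex _ _ _ bot_le inf_le_right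
        have hval := val_GU_eq_val_Sp q r hr2 hq2 hrq j hjo hij d
        have hA0 : q ^ (d ^ 2) * ∏ m ∈ Finset.range d, (q ^ (2 * (m + 1)) - 1) ≠ 0 := by
          rw [← hcard]
          exact Nat.card_pos.ne'
        have h1 : r ^ (padicValNat r (q ^ (d * (d - 1) / 2) * ∏ m ∈ Finset.range d,
            (if Even m then q ^ (m + 1) + 1 else q ^ (m + 1) - 1)) + 1) ∣
            q ^ (d ^ 2) * ∏ m ∈ Finset.range d, (q ^ (2 * (m + 1)) - 1) := by
          rw [← hmul, pow_succ]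
          exact mul_dvd_mul (dvd_trans pow_padicValNat_dvd hGU) hΩ
        rw [← hval] at h1
        exact pow_succ_padicValNat_not_dvd hA0 h1

end Cfsg.Agent.S5976P.ASM
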