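import Mathlib
import Cfsg.Prelude.Def_GeometricClasses
import Cfsg.Prelude.Def_ClassicalGeometry
import Cfsg.Agent.Helper29.S5977Defs
import Cfsg.Agent.Helper29.S5977Basic
import Cfsg.Agent.Helper28.OmegaCenter
import Cfsg.Agent.Helper28.NonMax

set_option autoImplicit false
open scoped MatrixGroups

/-! S5977 / S5978 piece ELTP (helper29): the unipotent element `r_w r_{w+e}` (`e` singular,
`w ⊥ e`, `Q w = 1`) of type `J₃ ⊕ J₁^{n-3}`. -/

namespace Cfsg.Agent.S5977P

open Polynomial Module
open Cfsg.Agent.Helper28.Spin Cfsg.Agent.Helper28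

/-- ELTP -/
theorem exists_elt_p {F : Type*} [Field F] [Fintype F] {ι : Type} [Fintype ι] [DecidableEq ι]
    (h2 : (2 : F) ≠ 0) (Q : QuadraticForm F (ι → F))
    (hQ : (QuadraticMap.polarBilin Q).Nondegenerate) {p : ℕ} [Fact p.Prime] [CharP F p]
    (hcard : 6 ≤ Fintype.card ι) :
    ∃ x ∈ Cfsg.Geo.omegaGL ⇑Q, ((x ^ p : GL ι F) : Matrix ι ι F) = 1 ∧
      (∀ z : F, (x : Matrix ι ι F) ≠ z • (1 : Matrix ι ι F)) ∧
      Module.finrank F (LinearMap.ker (aeval (Matrix.toLin' (x : Matrix ι ι F))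
        ((X - 1) ^ 2 : F[X]))) + 1 = Fintype.card ι := by
  classical
  have hp : p.Prime := Fact.out
  -- the vectors
  obtain ⟨e, he0, hQe, -⟩ := NM.exists_singular_orth Q hQ ⊥ (by rw [finrank_bot]; omega)
  obtain ⟨w, hwe, hQw⟩ := OC.exists_mem_orth_eq Q hQ (Submodule.span F {e}) (by
    have := finrank_span_singleton (K := F) he0
    rw [this]; omega) 1
  have hew : QuadraticMap.polar ⇑Q e w = 0 := by
    have := (LinearMap.BilinForm.mem_orthogonal_iff.mp hwe) e (Submodule.mem_span_singleton_self e)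
    rw [QuadraticMap.polarBilin_apply_apply] at this
    exact this
  have hwe' : QuadraticMap.polar ⇑Q w e = 0 := by rw [QuadraticMap.polar_comm]; exact hew
  have hee : QuadraticMap.polar ⇑Q e e = 0 := by
    rw [QuadraticMap.polar_self, hQe]; simp
  have hww : QuadraticMap.polar ⇑Q w w = 2 := by
    rw [QuadraticMap.polar_self, hQw]; simp
  have hQwe : Q (w + e) = 1 := by
    rw [QuadraticMap.map_add (⇑Q) w e, hQw, hQe, hwe']; ring
  have hw1 : Q w ≠ 0 := by rw [hQw]; exact one_ne_zero
  have hwe1 : Q (w + e) ≠ 0 := by rw [hQwe]; exact one_ne_zero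
  -- the element
  obtain ⟨g, hg⟩ : ∃ g : ↥(Cfsg.isometryGroup F ⇑Q), g = reflO Q w hw1 * reflO Q (w + e) hwe1 :=
    ⟨_, rfl⟩
  have hgΩ : g ∈ Cfsg.Omega F ⇑Q := by
    rw [hg]
    have h := (prodO_mem_Omega_iff Q h2 [⟨w, hw1⟩, ⟨w + e, hwe1⟩]).2
      ⟨by simp, ⟨1, by simp [normProd, hQw, hQwe]⟩⟩
    simpa [prodO_cons, prodO_nil] using h
  obtain ⟨Y, hY⟩ : ∃ Y : Matrix ι ι F, Y = ((g : GL ι F) : Matrix ι ι F) := ⟨_, rfl⟩
  have hYv : ∀ v, Y.mulVec v = v + QuadraticMap.polar ⇑Q e v • w -
      (QuadraticMap.polar ⇑Q w v + QuadraticMap.polar ⇑Q e v) • e := by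
    intro v
    rw [hY, hg]
    show (((reflO Q w hw1 : GL ι F) : Matrix ι ι F) * ((reflO Q (w + e) hwe1 : GL ι F) :
      Matrix ι ι F)).mulVec v = _
    rw [reflO_val, reflO_val, ← Matrix.mulVec_mulVec, refl_mulVec, refl_mulVec, hQw, hQwe]
    simp only [inv_one, one_mul, QuadraticMap.polar_add_left, QuadraticMap.polar_sub_right,
      QuadraticMap.polar_smul_right, QuadraticMap.polar_add_right, hww, hwe', smul_eq_mul]
    module
  obtain ⟨N, hN⟩ : ∃ N : Matrix ι ι F, N = Y - 1 := ⟨_, rfl⟩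
  have hNv : ∀ v, N.mulVec v = QuadraticMap.polar ⇑Q e v • w -
      (QuadraticMap.polar ⇑Q w v + QuadraticMap.polar ⇑Q e v) • e := by
    intro v
    rw [hN, Matrix.sub_mulVec, Matrix.one_mulVec, hYv]
    abel
  have hNe : N.mulVec e = 0 := by
    rw [hNv, hee, hwe']; simp
  have hNw : N.mulVec w = (-2 : F) • e := by
    rw [hNv, hew, hww]; module
  have hN2v : ∀ v, (N * N).mulVec v = (-2 * QuadraticMap.polar ⇑Q e v) • e := by
    intro v
    rw [← Matrix.mulVec_mulVec, hNv v, Matrix.mulVec_sub, Matrix.mulVec_smul, Matrix.mulVec_smul,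
      hNe, hNw]
    module
  have hN3 : N * N * N = 0 := by
    apply Cfsg.Agent.Helper28.Spin.matrix_ext_mulVec
    intro v
    rw [← Matrix.mulVec_mulVec, hN2v, Matrix.zero_mulVec, hNv]
    simp only [QuadraticMap.polar_sub_right, QuadraticMap.polar_smul_right, hew, hee, smul_eq_mul]
    simp
  have hYN : Y = 1 + N := by rw [hN]; abel
  -- powers
  have hpow : ∀ k : ℕ, Y ^ k = 1 + (k : F) • N + ((k : F) * ((k : F) - 1) / 2) • (N * N) := by
    intro k
    induction k with
    | zero => simp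
    | succ k ih =>
      rw [pow_succ, ih, hYN]
      simp only [Matrix.add_mul, Matrix.mul_add, Matrix.one_mul, Matrix.mul_one, Matrix.smul_mul,
        hN3, smul_zero, add_zero]
      push_cast
      have h2' : ((k : F) + 1) * ((k : F) + 1 - 1) / 2 = (k : F) * ((k : F) - 1) / 2 + (k : F) := by
        field_simp
        ring
      rw [h2']
      module
  have hYp : Y ^ p = 1 := by
    rw [hpow, CharP.cast_eq_zero F p]
    simp
  -- the kernel of `N²`
  have hker : LinearMap.ker (aeval (Matrix.toLin' Y) ((X - 1) ^ 2 : F[X])) =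
      LinearMap.ker (QuadraticMap.polarBilin Q e) := by
    have h1 : aeval (Matrix.toLin' Y) ((X - 1) ^ 2 : F[X]) = Matrix.toLin' (N * N) := by
      rw [map_pow, map_sub, aeval_X, map_one, pow_two, hN, Matrix.toLin'_mul, map_sub,
        Matrix.toLin'_one]
      rfl
    rw [h1]
    ext v
    rw [LinearMap.mem_ker, LinearMap.mem_ker, Matrix.toLin'_apply, hN2v,
      QuadraticMap.polarBilin_apply_apply, smul_eq_zero]
    constructor
    · rintro (h | h)
      · rcases mul_eq_zero.mp h with h' | h'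
        · exact absurd h' (by simpa using h2)
        · exact h'
      · exact absurd h he0
    · intro h
      left
      rw [h, mul_zero]
  have hfun : finrank F (LinearMap.ker (QuadraticMap.polarBilin Q e)) + 1 = Fintype.card ι := by
    have hne : QuadraticMap.polarBilin Q e ≠ 0 := by
      intro h
      apply he0
      apply hQ.1
      intro y
      rw [h]; rfl
    have hrange : LinearMap.range (QuadraticMap.polarBilin Q e) = ⊤ :=
      LinearMap.range_eq_top.mpr (LinearMap.surjective_of_ne_zero hne)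
    have := LinearMap.finrank_range_add_finrank_ker (QuadraticMap.polarBilin Q e)
    rw [hrange, finrank_top, Module.finrank_self, Module.finrank_fintype_fun_eq_card] at this
    omega
  refine ⟨(g : GL ι F), (NM.mem_omegaGL_iff Q _).mpr ⟨g, hgΩ, rfl⟩, ?_, ?_, ?_⟩
  · rw [Units.val_pow_eq_pow_val, ← hY, hYp]
  · intro z hz
    rw [← hY] at hz
    have hNz : N = (z - 1) • (1 : Matrix ι ι F) := by
      rw [hN, hz, sub_smul, one_smul]
    have h3 : ((z - 1) ^ 3) • w = 0 := by
      have := congrArg (fun M => Matrix.mulVec M w) hN3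
      rw [hNz] at this
      simpa [Matrix.smul_mulVec, Matrix.mulVec_smul, smul_smul, pow_succ, mul_assoc,
        Matrix.mul_smul, Matrix.smul_mul] using this
    have hw0 : w ≠ 0 := OC.ne_zero_of_Q_ne Q hw1
    have hz1 : z - 1 = 0 := by
      rcases smul_eq_zero.mp h3 with h | h
      · exact pow_eq_zero_iff (by norm_num) |>.mp h
      · exact absurd h hw0
    have := hNw
    rw [hNz, hz1, zero_smul, Matrix.zero_mulVec] at this
    have h4 := (smul_eq_zero.mp this.symm)
    rcases h4 with h | h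
    · exact absurd h (by simpa using h2)
    · exact he0 h
  · rw [← hY, hker]
    exact hfun

end Cfsg.Agent.S5977P
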