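import Mathlib
import Cfsg.Prelude.Def_GeometricClasses
import Cfsg.Prelude.Def_ClassicalGeometry
import Cfsg.Agent.Helper29.S5977Defs
import Cfsg.Agent.Helper29.S5977Basic

set_option autoImplicit false
open scoped MatrixGroups

/-! S5977 / S5978 piece FIELD4S (helper29): an isometry `y` of odd prime order `r`, `ord_r(q) = 2j`
with `j` ODD, acting irreducibly on `[V, y]` of dimension `2j`, cannot commute with a self-adjoint
`J` with `J² = ν` non-square. -/

namespace Cfsg.Agent.S5977P.FIELD4S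

open Polynomial Module

variable {F : Type*} [Field F] {ι : Type} [Fintype ι] [DecidableEq ι]

local notation "M" => Matrix ι ι F
local notation "V" => (ι → F)

/-- the adjoint of a polynomial in an isometry. -/
theorem pol_aeval (Q : QuadraticForm F V) (Y Yi : M)
    (hY : ∀ u v : V, QuadraticMap.polar ⇑Q (Y.mulVec u) v = QuadraticMap.polar ⇑Q u (Yi.mulVec v))
    (h : F[X]) (u v : V) :
    QuadraticMap.polar ⇑Q ((aeval Y h).mulVec u) v =
      QuadraticMap.polar ⇑Q u ((aeval Yi h).mulVec v) := by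
  induction h using Polynomial.induction_on generalizing u v with
  | C a =>
    rw [aeval_C, aeval_C, Algebra.algebraMap_eq_smul_one,
      Matrix.smul_mulVec, Matrix.smul_mulVec, Matrix.one_mulVec, Matrix.one_mulVec,
      QuadraticMap.polar_smul_left, QuadraticMap.polar_smul_right]
  | add p q hp hq =>
    rw [map_add, map_add, Matrix.add_mulVec, Matrix.add_mulVec, QuadraticMap.polar_add_left,
      QuadraticMap.polar_add_right, hp, hq]
  | monomial n a ih =>
    have h1 : aeval Y (C a * X ^ (n + 1)) = Y * aeval Y (C a * X ^ n) := by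
      rw [map_mul, map_mul, map_pow, map_pow, aeval_X, aeval_C, pow_succ',
        Algebra.algebraMap_eq_smul_one]
      simp only [Matrix.smul_mul, Matrix.mul_smul, Matrix.one_mul, Matrix.mul_one]
    have h2 : aeval Yi (C a * X ^ (n + 1)) = aeval Yi (C a * X ^ n) * Yi := by
      rw [map_mul, map_mul, map_pow, map_pow, aeval_X, aeval_C, pow_succ,
        Algebra.algebraMap_eq_smul_one]
      simp only [Matrix.smul_mul, Matrix.mul_smul, Matrix.one_mul, Matrix.mul_one]
    rw [h1, h2, ← Matrix.mulVec_mulVec, ← Matrix.mulVec_mulVec, hY, ih]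

/-- iterated Frobenius on polynomials over a finite field. -/
theorem expand_card_pow [Fintype F] (h : F[X]) (j : ℕ) :
    expand F (Fintype.card F ^ j) h = h ^ (Fintype.card F ^ j) := by
  induction j with
  | zero => rw [pow_zero, pow_one, expand_one]
  | succ j ih =>
    rw [pow_succ, mul_comm, expand_mul, ih, FiniteField.expand_card, ← pow_mul, mul_comm]

/-- polynomials in `Y` commute with `Y - 1`. -/
theorem aeval_comm_sub_one (Y : M) (h : F[X]) : aeval Y h * (Y - 1) = (Y - 1) * aeval Y h := by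
  have h1 : (Y - 1 : M) = aeval Y (X - 1 : F[X]) := by
    rw [map_sub, aeval_X, map_one]
  rw [h1, ← map_mul, ← map_mul, mul_comm]

/-- `J ^ (q ^ j) = (-1) ^ j • J` when `J² = ν` is a non-square. -/
theorem J_pow_card_pow [Fintype F] (h2 : (2 : F) ≠ 0) (ν : F) (hν : ¬ IsSquare ν) (J : M)
    (hsq : J * J = ν • (1 : M)) (j : ℕ) :
    J ^ (Fintype.card F ^ j) = ((-1 : F) ^ j) • J := by
  have hchar : ringChar F ≠ 2 := by
    intro h
    apply h2
    have := ringChar.Nat.cast_ringChar (R := F)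
    rw [h] at this
    exact_mod_cast this
  have hν0 : ν ≠ 0 := by
    rintro rfl
    exact hν ⟨0, by ring⟩
  have hodd : Fintype.card F % 2 = 1 := FiniteField.odd_card_of_char_ne_two hchar
  have hνq : ν ^ (Fintype.card F / 2) = -1 := by
    rcases FiniteField.pow_dichotomy hchar hν0 with h | h
    · exact absurd ((FiniteField.isSquare_iff hchar hν0).mpr h) hν
    · exact h
  have hJ2 : ∀ k : ℕ, J ^ (2 * k) = (ν ^ k) • (1 : M) := by
    intro k
    rw [pow_mul, pow_two, hsq, _root_.smul_pow, one_pow]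
  have hJq : J ^ Fintype.card F = (-1 : F) • J := by
    have : Fintype.card F = 2 * (Fintype.card F / 2) + 1 := by omega
    rw [this, pow_succ, hJ2, hνq, Matrix.smul_mul, Matrix.one_mul]
  induction j with
  | zero => rw [pow_zero, pow_one, pow_zero, one_smul]
  | succ j ih =>
    rw [pow_succ, pow_mul, ih, _root_.smul_pow, hJq, smul_smul, pow_succ]
    congr 1
    have hq : Fintype.card F = 2 * (Fintype.card F / 2) + 1 := by omega
    have : ((-1 : F) ^ j) ^ Fintype.card F = (-1) ^ j := by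
      rw [← pow_mul, hq, mul_add, mul_one, pow_add, mul_comm j (2 * _), mul_assoc, pow_mul]
      norm_num
    rw [this]

end Cfsg.Agent.S5977P.FIELD4S

namespace Cfsg.Agent.S5977P

open Polynomial Module FIELD4S BASIC

/-- FIELD4S -/
theorem false_of_commute_minS {F : Type*} [Field F] [Fintype F] {ι : Type} [Fintype ι]
    [DecidableEq ι] {p : ℕ} [Fact p.Prime] [CharP F p]
    (h2 : (2 : F) ≠ 0) (Q : QuadraticForm F (ι → F))
    (hQ : (QuadraticMap.polarBilin Q).Nondegenerate) (ν : F) (hν : ¬ IsSquare ν)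
    (J : Matrix ι ι F) (hsq : J * J = ν • (1 : Matrix ι ι F))
    (hadj : ∀ u v : ι → F, QuadraticMap.polar ⇑Q (J.mulVec u) v =
      QuadraticMap.polar ⇑Q u (J.mulVec v))
    (r : ℕ) [Fact r.Prime] (hr2 : r ≠ 2) (hrp : r ≠ p) (j : ℕ) (hj0 : 1 ≤ j)
    (hi : orderOf ((Fintype.card F : ℕ) : ZMod r) = 2 * j) (hj : Odd j)
    (y : GL ι F) (hy : y ∈ Cfsg.isometryGroup F ⇑Q)
    (hyr : y ^ r = 1)
    (hdim : Module.finrank F (LinearMap.ker (Matrix.toLin'
        ((y : Matrix ι ι F) - 1))) + 2 * j = Fintype.card ι)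
    (hcomm : (y : Matrix ι ι F) * J = J * (y : Matrix ι ι F)) : False := by
  classical
  have hr : r.Prime := Fact.out
  have hp : p.Prime := Fact.out
  obtain ⟨q, hq⟩ : ∃ q, q = Fintype.card F := ⟨_, rfl⟩
  rw [← hq] at hi
  have hq1 : 1 ≤ q := by rw [hq]; exact Fintype.card_pos
  obtain ⟨Y, hY⟩ : ∃ Y : Matrix ι ι F, Y = (y : Matrix ι ι F) := ⟨_, rfl⟩
  obtain ⟨Yi, hYi⟩ : ∃ Yi : Matrix ι ι F, Yi = ((y⁻¹ : GL ι F) : Matrix ι ι F) := ⟨_, rfl⟩
  rw [← hY] at hdim hcomm
  have hYYi : Y * Yi = 1 := by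
    rw [hY, hYi, ← Units.val_mul, mul_inv_cancel, Units.val_one]
  have hYr : Y ^ r = 1 := by
    rw [hY, ← Units.val_pow_eq_pow_val, hyr, Units.val_one]
  -- A. `r ∣ q^j + 1`
  have hrq : ¬ r ∣ q := by
    obtain ⟨k, _, hk⟩ := FiniteField.card F p
    rw [← hq] at hk
    intro hdvd
    rw [hk] at hdvd
    exact hrp ((Nat.prime_dvd_prime_iff_eq hr hp).mp (hr.dvd_of_dvd_pow hdvd))
  have hQd : r ∣ q ^ j + 1 := by
    have h1 : ((q : ℕ) : ZMod r) ^ (2 * j) = 1 := by rw [← hi]; exact pow_orderOf_eq_one _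
    have h3 : ((q : ℕ) : ZMod r) ^ j ≠ 1 := by
      intro h
      have := orderOf_dvd_of_pow_eq_one h
      rw [hi] at this
      have := Nat.le_of_dvd (by omega) this
      omega
    have h4 : ((q : ℕ) : ZMod r) ^ j * ((q : ℕ) : ZMod r) ^ j = 1 := by
      rw [← pow_add, ← two_mul]; exact h1
    rcases mul_self_eq_one_iff.mp h4 with h5 | h5
    · exact absurd h5 h3
    · rw [← ZMod.natCast_eq_zero_iff, Nat.cast_add, Nat.cast_pow, h5, Nat.cast_one]
      ring
  have hYiQ : Yi = Y ^ (q ^ j) := by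
    obtain ⟨c, hc⟩ := hQd
    have h1 : y ^ (q ^ j) * y = 1 := by
      rw [← pow_succ, hc, pow_mul, hyr, one_pow]
    have h3 : y⁻¹ = y ^ (q ^ j) := (eq_inv_of_mul_eq_one_left h1).symm
    rw [hYi, hY, h3, Units.val_pow_eq_pow_val]
  -- the form
  have hsp : ∀ u v : ι → F, QuadraticMap.polar ⇑Q (Y.mulVec u) (Y.mulVec v) =
      QuadraticMap.polar ⇑Q u v := by
    rw [hY]
    exact Cfsg.Agent.Helper28.Spin.polar_isom Q
      ((Cfsg.Agent.Helper28.IsoTransport.mem_isometryGroup_iff _ _).mp hy)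
  have hadjY : ∀ u v : ι → F, QuadraticMap.polar ⇑Q (Y.mulVec u) v =
      QuadraticMap.polar ⇑Q u (Yi.mulVec v) := by
    intro u v
    have := hsp u (Yi.mulVec v)
    rw [Matrix.mulVec_mulVec, hYYi, Matrix.one_mulVec] at this
    exact this
  -- B. `W`
  obtain ⟨W, hW⟩ : ∃ W : Submodule F (ι → F),
      W = LinearMap.range (Matrix.toLin' (Y - 1)) := ⟨_, rfl⟩
  have hWmem : ∀ w, w ∈ W ↔ ∃ v, (Y - 1).mulVec v = w := by
    intro w
    rw [hW, LinearMap.mem_range]
    simp only [Matrix.toLin'_apply]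
  have hWdim : finrank F W = 2 * j := by
    have := LinearMap.finrank_range_add_finrank_ker (Matrix.toLin' (Y - 1))
    rw [Module.finrank_fintype_fun_eq_card, ← hW] at this
    omega
  -- invariance of `W`
  have hWpoly : ∀ (h : F[X]), ∀ w ∈ W, (aeval Y h).mulVec w ∈ W := by
    intro h w hw
    obtain ⟨v, rfl⟩ := (hWmem w).mp hw
    rw [hWmem]
    refine ⟨(aeval Y h).mulVec v, ?_⟩
    rw [Matrix.mulVec_mulVec, Matrix.mulVec_mulVec, aeval_comm_sub_one]
  have hWJ : ∀ w ∈ W, J.mulVec w ∈ W := by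
    intro w hw
    obtain ⟨v, rfl⟩ := (hWmem w).mp hw
    rw [hWmem]
    refine ⟨J.mulVec v, ?_⟩
    rw [Matrix.mulVec_mulVec, Matrix.mulVec_mulVec, Matrix.sub_mul, Matrix.mul_sub, hcomm,
      Matrix.one_mul, Matrix.mul_one]
  -- C. no fixed points on `W`
  have hrF : (r : F) ≠ 0 := by
    intro h
    have := (CharP.cast_eq_zero_iff F p r).mp h
    exact hrp ((Nat.prime_dvd_prime_iff_eq hp hr).mp this).symm
  have hfix : ∀ w ∈ W, Y.mulVec w = w → w = 0 := by
    intro w hw hYw
    obtain ⟨v, rfl⟩ := (hWmem w).mp hw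
    have h1 : (∑ k ∈ Finset.range r, Y ^ k) * (Y - 1) = 0 := by
      rw [geom_sum_mul, hYr, sub_self]
    have h3 : ∀ k : ℕ, (Y ^ k).mulVec ((Y - 1).mulVec v) = (Y - 1).mulVec v := by
      intro k
      induction k with
      | zero => rw [pow_zero, Matrix.one_mulVec]
      | succ k ih => rw [pow_succ, ← Matrix.mulVec_mulVec, hYw, ih]
    have h4 : (∑ k ∈ Finset.range r, Y ^ k).mulVec ((Y - 1).mulVec v) =
        (r : F) • (Y - 1).mulVec v := by
      rw [Matrix.sum_mulVec]
      simp only [h3]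
      rw [Finset.sum_const, Finset.card_range, Nat.cast_smul_eq_nsmul]
    rw [Matrix.mulVec_mulVec, h1, Matrix.zero_mulVec] at h4
    exact (smul_eq_zero.mp h4.symm).resolve_left hrF
  -- D. cyclic subspaces
  have hcyc : ∀ w ∈ W, w ≠ 0 → ∀ w' ∈ W, ∃ h : F[X], (aeval Y h).mulVec w = w' := by
    intro w hw hw0
    let Zmap : F[X] →ₗ[F] (ι → F) :=
      { toFun := fun h => (aeval Y h).mulVec w
        map_add' := fun a b => by rw [map_add, Matrix.add_mulVec]
        map_smul' := fun a b => by rw [map_smul, Matrix.smul_mulVec, RingHom.id_apply] }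
    have hZle : LinearMap.range Zmap ≤ W := by
      rintro _ ⟨h, rfl⟩
      exact hWpoly h w hw
    have hZinv : ∀ u ∈ LinearMap.range Zmap, Y.mulVec u ∈ LinearMap.range Zmap := by
      rintro _ ⟨h, rfl⟩
      refine ⟨X * h, ?_⟩
      show (aeval Y (X * h)).mulVec w = Y.mulVec ((aeval Y h).mulVec w)
      rw [map_mul, aeval_X, Matrix.mulVec_mulVec]
    have hZfix : LinearMap.range Zmap ⊓ Fix Y = ⊥ := by
      rw [eq_bot_iff]
      rintro u ⟨hu1, hu2⟩
      rw [Submodule.mem_bot]
      exact hfix u (hZle hu1) (mem_Fix.mp hu2)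
    have hdvd := dvd_of_invariant hq.symm Y hrq hYr (LinearMap.range Zmap) hZinv
    rw [hZfix, finrank_bot, Nat.sub_zero] at hdvd
    have hpow : ((q : ℕ) : ZMod r) ^ finrank F (LinearMap.range Zmap) = 1 := by
      have h1 := (ZMod.natCast_eq_zero_iff _ r).mpr hdvd
      rw [Nat.cast_sub (Nat.one_le_pow _ _ hq1), Nat.cast_pow, Nat.cast_one, sub_eq_zero] at h1
      exact h1
    have h2j := orderOf_dvd_of_pow_eq_one hpow
    rw [hi] at h2j
    have hwZ : w ∈ LinearMap.range Zmap := ⟨1, by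
      show (aeval Y (1 : F[X])).mulVec w = w
      rw [map_one, Matrix.one_mulVec]⟩
    have hZpos : 0 < finrank F (LinearMap.range Zmap) := by
      rw [Module.finrank_pos_iff_exists_ne_zero]
      exact ⟨⟨w, hwZ⟩, fun h => hw0 (congrArg Subtype.val h)⟩
    have hge : 2 * j ≤ finrank F (LinearMap.range Zmap) := Nat.le_of_dvd hZpos h2j
    have hZW : LinearMap.range Zmap = W :=
      Submodule.eq_of_le_of_finrank_le hZle (by rw [hWdim]; exact hge)
    intro w' hw'
    rw [← hZW] at hw'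
    obtain ⟨h, hh⟩ := hw'
    exact ⟨h, hh⟩
  -- E. a nonzero vector and the polynomial
  obtain ⟨w, hwW, hw0⟩ : ∃ w ∈ W, w ≠ 0 := by
    have hpos : 0 < finrank F W := by rw [hWdim]; omega
    rw [Module.finrank_pos_iff_exists_ne_zero] at hpos
    obtain ⟨⟨w, hw⟩, hne⟩ := hpos
    exact ⟨w, hw, fun h => hne (Subtype.ext h)⟩
  obtain ⟨h, hh⟩ := hcyc w hwW hw0 (J.mulVec w) (hWJ w hwW)
  have hJcomm : ∀ k : F[X], aeval Y k * J = J * aeval Y k := by
    intro k
    induction k using Polynomial.induction_on with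
    | C a =>
      rw [aeval_C, Algebra.algebraMap_eq_smul_one, Matrix.smul_mul, Matrix.mul_smul,
        Matrix.one_mul, Matrix.mul_one]
    | add a b ha hb => rw [map_add, Matrix.add_mul, Matrix.mul_add, ha, hb]
    | monomial m a ih =>
      have h1 : aeval Y (C a * X ^ (m + 1)) = aeval Y (C a * X ^ m) * Y := by
        rw [map_mul, map_mul, map_pow, map_pow, aeval_X, pow_succ, ← Matrix.mul_assoc]
      rw [h1, Matrix.mul_assoc, hcomm, ← Matrix.mul_assoc, ih, Matrix.mul_assoc]
  have hHJ : ∀ w' ∈ W, (aeval Y h).mulVec w' = J.mulVec w' := by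
    intro w' hw'
    obtain ⟨k, rfl⟩ := hcyc w hwW hw0 w' hw'
    rw [Matrix.mulVec_mulVec, Matrix.mulVec_mulVec, ← map_mul, mul_comm, map_mul,
      ← Matrix.mulVec_mulVec, hh, Matrix.mulVec_mulVec, hJcomm]
  -- G. the adjoint of `H` is `H ^ Q`
  have hadjH : aeval Yi h = (aeval Y h) ^ (q ^ j) := by
    rw [hYiQ, ← expand_aeval, hq, expand_card_pow, map_pow]
  -- H. `H ^ m` acts as `J ^ m` on `W`
  have hpowW : ∀ m : ℕ, ∀ w' ∈ W, ((aeval Y h) ^ m).mulVec w' = (J ^ m).mulVec w' := by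
    intro m
    induction m with
    | zero => intro w' _; rw [pow_zero, pow_zero]
    | succ m ih =>
      intro w' hw'
      rw [pow_succ, pow_succ, ← Matrix.mulVec_mulVec, ← Matrix.mulVec_mulVec, hHJ w' hw',
        ih _ (hWJ w' hw')]
  have hJQ : J ^ (q ^ j) = (-1 : F) • J := by
    rw [hq, J_pow_card_pow h2 ν hν J hsq j, hj.neg_one_pow]
  -- I. `B(u, J v) = 0` on `W`
  have hzero : ∀ u ∈ W, ∀ v ∈ W, QuadraticMap.polar ⇑Q u (J.mulVec v) = 0 := by
    intro u hu v hv
    have h1 := hadj u v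
    rw [← hHJ u hu, pol_aeval Q Y Yi hadjY h u v, hadjH, hpowW _ v hv, hJQ,
      Matrix.smul_mulVec, QuadraticMap.polar_smul_right, smul_eq_mul] at h1
    have h3 : (2 : F) * QuadraticMap.polar ⇑Q u (J.mulVec v) = 0 := by linear_combination -h1
    exact (mul_eq_zero.mp h3).resolve_left h2
  -- J. `J w = 0`
  have hkerW : ∀ u, Y.mulVec u = u → ∀ v ∈ W, QuadraticMap.polar ⇑Q u v = 0 := by
    intro u hu v hv
    obtain ⟨v', rfl⟩ := (hWmem v).mp hv
    rw [Matrix.sub_mulVec, Matrix.one_mulVec, QuadraticMap.polar_sub_right]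
    have := hsp u v'
    rw [hu] at this
    rw [this, sub_self]
  have hsup : LinearMap.ker (Matrix.toLin' (Y - 1)) ⊔ W = ⊤ := by
    have hdisj : LinearMap.ker (Matrix.toLin' (Y - 1)) ⊓ W = ⊥ := by
      rw [eq_bot_iff]
      rintro u ⟨hu1, hu2⟩
      rw [Submodule.mem_bot]
      apply hfix u hu2
      have := LinearMap.mem_ker.mp hu1
      rw [Matrix.toLin'_apply, Matrix.sub_mulVec, Matrix.one_mulVec, sub_eq_zero] at this
      exact this
    apply Submodule.eq_top_of_finrank_eq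
    have := Submodule.finrank_sup_add_finrank_inf_eq (LinearMap.ker (Matrix.toLin' (Y - 1))) W
    rw [hdisj, finrank_bot, hWdim] at this
    rw [Module.finrank_fintype_fun_eq_card]
    omega
  have hx0 : J.mulVec w = 0 := by
    have hnd : ∀ x : ι → F, (∀ u, QuadraticMap.polar ⇑Q u x = 0) → x = 0 := by
      intro x hx
      apply hQ.1
      intro u
      rw [QuadraticMap.polarBilin_apply_apply, QuadraticMap.polar_comm]
      exact hx u
    apply hnd
    intro u
    have hu : u ∈ LinearMap.ker (Matrix.toLin' (Y - 1)) ⊔ W := by rw [hsup]; trivial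
    obtain ⟨u1, hu1, u2, hu2, rfl⟩ := Submodule.mem_sup.mp hu
    rw [QuadraticMap.polar_add_left, hzero u2 hu2 w hwW, add_zero]
    apply hkerW u1 _ _ (hWJ w hwW)
    have := LinearMap.mem_ker.mp hu1
    rw [Matrix.toLin'_apply, Matrix.sub_mulVec, Matrix.one_mulVec, sub_eq_zero] at this
    exact this
  have h5 : ν • w = 0 := by
    have := congrArg (fun m => Matrix.mulVec m w) hsq
    rw [← Matrix.mulVec_mulVec, hx0, Matrix.mulVec_zero, Matrix.smul_mulVec,
      Matrix.one_mulVec] at this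
    exact this.symm
  have hν0 : ν ≠ 0 := by
    rintro rfl
    exact hν ⟨0, by ring⟩
  exact hw0 ((smul_eq_zero.mp h5).resolve_left hν0)

end Cfsg.Agent.S5977P
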