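import Mathlib
import Cfsg.Prelude.Def_GeometricClasses
import Cfsg.Prelude.Def_ClassicalGeometry
import Cfsg.Agent.Helper29.S5977Defs
import Cfsg.Agent.Helper29.S5977Basic
import Cfsg.Agent.Helper29.S5977NOCONJS
import Cfsg.Agent.Helper29.S5977FIELD4S
import Cfsg.Agent.Helper29.S5977ELTP
import Cfsg.Agent.Helper29.S5977EMBEDS
import Cfsg.Agent.Helper21.S5977ROOTS
import Cfsg.Agent.Helper14.S5977ELTODDCORE
import Cfsg.Agent.Helper24.S5977ELTMINCORE
import Cfsg.Agent.Helper24.S5977ELTMINTOP
import Cfsg.Agent.Helper24.S5977NTCASESS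
import Cfsg.Agent.Helper13.Discr

set_option autoImplicit false
open scoped MatrixGroups

/-! S5977 / S5978: assembly of the half FWD (helper29). -/

namespace Cfsg.Agent.S5977P

open Polynomial Module BASIC
open Cfsg.Agent.Helper7.OrthUni (gram qf)
open Cfsg.Agent.Helper28.Spin (QfPlus)

namespace FWD

variable {F : Type*} [Field F] [Fintype F] {ι : Type} [Fintype ι] [DecidableEq ι]

/-- the Gram determinant of the standard plus form. -/
theorem det_gram_QfPlus (m : ℕ) : (gram (QfPlus m F)).det = (-1 : F) ^ m := by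
  have h : gram (QfPlus m F) = Matrix.fromBlocks (0 : Matrix (Fin m) (Fin m) F) 1 1 0 := by
    ext s t
    rw [Cfsg.Agent.Helper7.OrthUni.gram_apply, Cfsg.Agent.Helper28.Spin.polar_QfPlus]
    rcases t with t | t
    · rw [Cfsg.Agent.Helper28.QPlus.pB_single_inl]
      rcases s with s | s
      · simp
      · simp [Matrix.one_apply, Pi.single_apply, eq_comm]
    · rw [Cfsg.Agent.Helper28.QPlus.pB_single_inr]
      rcases s with s | s
      · simp [Matrix.one_apply, Pi.single_apply, eq_comm]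
      · simp
  rw [h, Cfsg.Agent.Helper13.det_fromBlocks_zero_one_one_zero, Fintype.card_fin]

theorem exists_nonsquare (h2 : (2 : F) ≠ 0) : ∃ ν : F, ¬ IsSquare ν := by
  apply FiniteField.exists_nonsquare
  intro h
  apply h2
  have := ringChar.Nat.cast_ringChar (R := F)
  rw [h] at this
  exact_mod_cast this

theorem exists_v_ne (Q : QuadraticForm F (ι → F)) (h2 : (2 : F) ≠ 0)
    (hQ : (QuadraticMap.polarBilin Q).Nondegenerate) (hcard : 0 < Fintype.card ι) :
    ∃ v, Q v ≠ 0 := by
  by_contra hall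
  push Not at hall
  haveI : Nonempty ι := Fintype.card_pos_iff.mp hcard
  obtain ⟨i⟩ := ‹Nonempty ι›
  have h1 : (Pi.single i (1 : F) : ι → F) = 0 := by
    apply hQ.1
    intro y
    rw [QuadraticMap.polarBilin_apply_apply, QuadraticMap.polar, hall, hall, hall]
    ring
  have := congrFun h1 i
  simp at this

end FWD

open FWD

/-- the half FWD: for an odd prime `r` dividing the index there is a derangement of order `r`. -/
theorem fwd {F : Type*} [Field F] [Fintype F] {ι : Type} [Fintype ι] [DecidableEq ι]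
    {p : ℕ} [Fact p.Prime] [CharP F p] (h2 : (2 : F) ≠ 0) (Q : QuadraticForm F (ι → F))
    (d : ℕ) (hd : 3 ≤ d) (plus : Bool) (hT : IsTypeS Q d plus)
    (K : Subalgebra F (Matrix ι ι F)) (hK : HypS ⇑Q K) (r : ℕ) [Fact r.Prime] (hr2 : r ≠ 2)
    (hindex : ∀ j : ℕ, 1 ≤ j → Even j → orderOf ((Fintype.card F : ℕ) : ZMod r) = 2 * j → r ≠ p →
      ¬ r ∣ (Cfsg.Geo.subalgebraNormalizer K).relIndex (Cfsg.Geo.omegaGL ⇑Q))
    (hΩ : r ∣ (Cfsg.Geo.subalgebraNormalizer K).relIndex (Cfsg.Geo.omegaGL ⇑Q)) :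
    ∃ x ∈ Cfsg.Geo.omegaGL ⇑Q, (∃ z : F, ((x ^ r : GL ι F) : Matrix ι ι F) =
        z • (1 : Matrix ι ι F)) ∧
      (∀ z : F, (x : Matrix ι ι F) ≠ z • (1 : Matrix ι ι F)) ∧
      ∀ g ∈ Cfsg.Geo.omegaGL ⇑Q, g⁻¹ * x * g ∉ Cfsg.Geo.subalgebraNormalizer K := by
  classical
  have hr : r.Prime := Fact.out
  have hp : p.Prime := Fact.out
  have hrodd : Odd r := hr.odd_of_ne_two hr2
  have hQ := hT.nondeg
  have hcard := hT.card
  have heven : Even (Fintype.card ι) := ⟨d, by rw [hcard]; ring⟩
  obtain ⟨q, hq⟩ : ∃ q, q = Fintype.card F := ⟨_, rfl⟩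
  have hq2 : 2 ≤ q := by rw [hq]; exact Fintype.one_lt_card
  -- `r` divides the order of `O(Q)`
  have hrO : r ∣ cardO q d plus := by
    rw [hq, ← hT.cardO]
    exact (hΩ.trans (Subgroup.relIndex_dvd_card _ _)).trans
      (Subgroup.card_dvd_of_le (omegaGL_le Q))
  by_cases hrp : r = p
  · -- the unipotent element
    obtain ⟨x, hxΩ, hxp, hxns, hxk⟩ := exists_elt_p h2 Q hQ (p := p) (by rw [hcard]; omega)
    have hoddk : Odd (finrank F (LinearMap.ker (aeval (Matrix.toLin' (x : Matrix ι ι F))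
        ((X - 1) ^ 2 : F[X])))) := by
      obtain ⟨m, hm⟩ : ∃ m, m = finrank F (LinearMap.ker (aeval (Matrix.toLin'
        (x : Matrix ι ι F)) ((X - 1) ^ 2 : F[X]))) := ⟨_, rfl⟩
      rw [← hm] at hxk ⊢
      exact ⟨d - 1, by omega⟩
    refine ⟨x, hxΩ, ⟨1, by rw [hrp, hxp, one_smul]⟩, hxns, ?_⟩
    intro g _ hg
    exact not_conj_of_odd_kernelS K hK.field r hrodd x 1 (by rw [hrp, hxp, one_smul])
      _ hoddk ⟨g, hg⟩
  · -- semisimple elements
    have hrq : ¬ r ∣ q := by
      obtain ⟨k, _, hk⟩ := FiniteField.card F p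
      rw [← hq] at hk
      intro hdvd
      rw [hk] at hdvd
      exact hrp ((Nat.prime_dvd_prime_iff_eq hr hp).mp (hr.dvd_of_dvd_pow hdvd))
    have hne : ∃ v, Q v ≠ 0 := exists_v_ne Q h2 hQ (by rw [hcard]; omega)
    rcases ord_cases_of_dvdS q r d hr2 hq2 hrq (by omega) plus hrO with ⟨hiodd, hcase⟩ | ⟨j, hj1, hij, hcase⟩
    · -- `i` odd
      obtain ⟨i, hi⟩ : ∃ i, i = orderOf ((q : ℕ) : ZMod r) := ⟨_, rfl⟩
      rw [← hi] at hiodd hcase
      obtain ⟨x₁, g₁, hx₁O, hx₁r, hg1, hker⟩ := exists_elt_odd_core (F := F) (p := p) r hr2 hrp i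
        (by rw [hi, hq]) hiodd
      have hc : Fintype.card (Fin i ⊕ Fin i) < Fintype.card ι ∨
          (Fintype.card (Fin i ⊕ Fin i) = Fintype.card ι ∧
            IsSquare ((gram (QfPlus i F)).det * (gram Q).det)) := by
        rw [Fintype.card_sum, Fintype.card_fin, hcard]
        rcases hcase with h | ⟨hpl, h⟩
        · left; omega
        · right
          refine ⟨by omega, ?_⟩
          rw [det_gram_QfPlus, h]
          exact hT.disc.mpr hpl
      obtain ⟨x, hxO, hxpow, hxker⟩ := exists_embedded_elt h2 Q hQ (QfPlus i F)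
        (Cfsg.Agent.Helper28.Spin.QfPlus_nondeg i) hc x₁ hx₁O
      have hxr : x ^ r = 1 := hxpow r hx₁r
      have hoddk : Odd (finrank F (LinearMap.ker (aeval (Matrix.toLin' (x : Matrix ι ι F)) g₁))) := by
        rw [(hxker g₁).1 hg1, hker]; exact hiodd
      refine ⟨x, mem_omegaGL_of_odd_order Q h2 hQ x hxO r hrodd hxr,
        ⟨1, by rw [hxr, Units.val_one, one_smul]⟩,
        not_scalar_of_odd_kernel heven _ g₁ hoddk, ?_⟩
      intro g _ hg
      exact not_conj_of_odd_kernelS K hK.field r hrodd x 1 (by rw [hxr, Units.val_one, one_smul])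
        _ hoddk ⟨g, hg⟩
    · -- `i = 2j`
      rcases Nat.even_or_odd j with hjev | hjodd
      · exact absurd hΩ (hindex j hj1 hjev (by rw [← hq]; exact hij) hrp)
      · obtain ⟨Q₁, x₁, hQ₁, hx₁O, hx₁r, hker⟩ := exists_elt_min_core (F := F) h2 (p := p) r hr2 hrp j
          hj1 (by rw [← hq]; exact hij)
        have hx₁ne : x₁ ≠ 1 := by
          rintro rfl
          have h1 : aeval (Matrix.toLin' (((1 : GL (Fin j ⊕ Fin j) F)) :
              Matrix (Fin j ⊕ Fin j) (Fin j ⊕ Fin j) F)) (X - 1 : F[X]) = 0 := by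
            rw [Units.val_one, Matrix.toLin'_one, map_sub, aeval_X, map_one]
            exact sub_self _
          rw [h1, LinearMap.ker_zero, finrank_top, Module.finrank_fintype_fun_eq_card,
            Fintype.card_sum, Fintype.card_fin] at hker
          omega
        have hc : Fintype.card (Fin j ⊕ Fin j) < Fintype.card ι ∨
            (Fintype.card (Fin j ⊕ Fin j) = Fintype.card ι ∧
              IsSquare ((gram Q₁).det * (gram Q).det)) := by
          rw [Fintype.card_sum, Fintype.card_fin, hcard]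
          rcases hcase with h | ⟨hpl, h⟩
          · left; omega
          · right
            refine ⟨by omega, ?_⟩
            have h1 := not_isSquare_disc_of_elt h2 Q₁ hQ₁ j hj1
              (by rw [Fintype.card_sum, Fintype.card_fin]; ring) (p := p) r hrp
              (by rw [← hq]; exact hij) x₁ hx₁O hx₁r hx₁ne
            have h3 : ¬ IsSquare ((-1 : F) ^ d * (gram Q).det) := by
              rw [hT.disc, hpl]; simp
            have h1' : ¬ IsSquare ((-1 : F) ^ d * (gram Q₁).det) := by rw [← h]; exact h1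
            have hd1 : (gram Q₁).det ≠ 0 :=
              (Cfsg.Agent.Helper7.OrthUni.nondeg_iff_det Q₁).mp hQ₁
            have hd0 : (gram Q).det ≠ 0 :=
              (Cfsg.Agent.Helper7.OrthUni.nondeg_iff_det Q).mp hQ
            have hm1 : ((-1 : F) ^ d) ≠ 0 := pow_ne_zero _ (neg_ne_zero.mpr one_ne_zero)
            have h4 := (Cfsg.Agent.Helper28.Spin.isSquare_mul_iff h2 (mul_ne_zero hm1 hd1)
              (mul_ne_zero hm1 hd0)).mpr ⟨fun h => absurd h h1', fun h => absurd h h3⟩
            obtain ⟨s, hs⟩ := h4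
            refine ⟨s, ?_⟩
            rw [← hs]
            have : ((-1 : F) ^ d) * ((-1 : F) ^ d) = 1 := by
              rw [← pow_add, ← two_mul, pow_mul]; norm_num
            linear_combination (-(gram Q₁).det * (gram Q).det) * this
        obtain ⟨x, hxO, hxpow, hxker⟩ := exists_embedded_elt h2 Q hQ Q₁ hQ₁ hc x₁ hx₁O
        have hxr : x ^ r = 1 := hxpow r hx₁r
        have hkerx : finrank F (LinearMap.ker (aeval (Matrix.toLin' (x : Matrix ι ι F))
            (X - 1 : F[X]))) + 2 * j = Fintype.card ι := by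
          rw [(hxker (X - 1)).2 (by simp), hker, Fintype.card_sum, Fintype.card_fin, hcard]
          have : j ≤ d := by
            rcases hcase with h | ⟨_, h⟩ <;> omega
          omega
        have haev : ∀ y : GL ι F, aeval (Matrix.toLin' (y : Matrix ι ι F)) (X - 1 : F[X]) =
            Matrix.toLin' ((y : Matrix ι ι F) - 1) := by
          intro y
          rw [map_sub, aeval_X, map_one, map_sub, Matrix.toLin'_one]
          rfl
        have hx1 : x ≠ 1 := by
          rintro rfl
          rw [haev, Units.val_one, sub_self, map_zero, LinearMap.ker_zero, finrank_top,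
            Module.finrank_fintype_fun_eq_card] at hkerx
          omega
        refine ⟨x, mem_omegaGL_of_odd_order Q h2 hQ x hxO r hrodd hxr,
          ⟨1, by rw [hxr, Units.val_one, one_smul]⟩,
          not_scalar_of_odd_order Q hne h2 x hxO r hrodd hxr hx1, ?_⟩
        intro g hgΩ hg
        obtain ⟨ν, hν⟩ := exists_nonsquare h2
        obtain ⟨J, hJ⟩ := exists_genS h2 (⇑Q) K hK ν hν
        have hgO := omegaGL_le Q hgΩ
        have hyO : g⁻¹ * x * g ∈ Cfsg.isometryGroup F ⇑Q :=
          Subgroup.mul_mem _ (Subgroup.mul_mem _ (Subgroup.inv_mem _ hgO) hxO) hgO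
        have hyr : (g⁻¹ * x * g) ^ r = 1 := by
          have h0 : g⁻¹ * x * g = g⁻¹ * x * g⁻¹⁻¹ := by rw [inv_inv]
          rw [h0, conj_pow, hxr, mul_one, inv_inv, inv_mul_cancel]
        have hcomm := Cfsg.Agent.S5976P.ODDLIN.commute_generic K hK.field (g⁻¹ * x * g) hg r hrodd 1
          (by rw [hyr, Units.val_one, one_smul]) J hJ.mem
        have hdim : finrank F (LinearMap.ker (Matrix.toLin'
            (((g⁻¹ * x * g : GL ι F) : Matrix ι ι F) - 1))) + 2 * j = Fintype.card ι := by
          rw [← haev, finrank_ker_aeval_conj]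
          exact hkerx
        exact false_of_commute_minS (p := p) h2 Q hQ ν hν J hJ.sq hJ.adj r hr2 hrp j hj1
          (by rw [← hq]; exact hij) hjodd (g⁻¹ * x * g) hyO hyr hdim hcomm

end Cfsg.Agent.S5977P
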