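import Mathlib
import Cfsg.Prelude.Def_GeometricClasses
import Cfsg.Prelude.Def_ClassicalGeometry
import Cfsg.Agent.Helper29.S5977Defs
import Cfsg.Agent.Helper29.S5977Basic
import Cfsg.Agent.Helper21.S5977ROOTS
import Cfsg.Agent.Helper21.S5977FRAMES
import Cfsg.Agent.Helper14.S5977DISCS
import Cfsg.Agent.Helper24.S5977NTS
import Cfsg.Agent.Helper24.S5977SYLS
import Cfsg.Agent.Helper21.S5977MODELS

set_option autoImplicit false
open scoped MatrixGroups

/-! S5977 / S5978: MEMNORMS and the index assembly INDEXS (helper29). -/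

namespace Cfsg.Agent.S5977P

open Polynomial Module BASIC
open Cfsg.Agent.Helper7.OrthUni (gram qf)

/-- MEMNORMS: an invertible matrix commuting or anticommuting with the generator `J` normalises `K`. -/
theorem mem_normalizer_of_genS {F : Type*} [Field F] {ι : Type} [Fintype ι] [DecidableEq ι]
    (Q : (ι → F) → F) (K : Subalgebra F (Matrix ι ι F)) (ν : F) (J : Matrix ι ι F)
    (hJ : IsGenS Q K ν J) (y : GL ι F)
    (hy : (y : Matrix ι ι F) * J = J * (y : Matrix ι ι F) ∨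
      (y : Matrix ι ι F) * J = -(J * (y : Matrix ι ι F))) :
    y ∈ Cfsg.Geo.subalgebraNormalizer K := by
  -- `y J y⁻¹ = ε J`
  obtain ⟨ε, hε, hyJ⟩ : ∃ ε : F, (ε = 1 ∨ ε = -1) ∧
      (y : Matrix ι ι F) * J = ε • (J * (y : Matrix ι ι F)) := by
    rcases hy with h | h
    · exact ⟨1, Or.inl rfl, by rw [h, one_smul]⟩
    · exact ⟨-1, Or.inr rfl, by rw [h, neg_smul, one_smul]⟩
  have hεε : ε * ε = 1 := by rcases hε with rfl | rfl <;> ring
  have h1 : (y : Matrix ι ι F) * J * ((y⁻¹ : GL ι F) : Matrix ι ι F) = ε • J := by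
    rw [hyJ, Matrix.smul_mul, Matrix.mul_assoc, coe_mul_inv, Matrix.mul_one]
  have h2 : ((y⁻¹ : GL ι F) : Matrix ι ι F) * J * (y : Matrix ι ι F) = ε • J := by
    have : J * (y : Matrix ι ι F) = ε • ((y : Matrix ι ι F) * J) := by
      rw [hyJ, smul_smul, hεε, one_smul]
    rw [Matrix.mul_assoc, this, Matrix.mul_smul, ← Matrix.mul_assoc, coe_inv_mul, Matrix.one_mul]
  have hmemK : ∀ α β : F, α • (1 : Matrix ι ι F) + β • J ∈ K := fun α β =>
    K.add_mem (K.smul_mem K.one_mem α) (K.smul_mem hJ.mem β)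
  intro k
  constructor
  · intro hk
    obtain ⟨α, β, rfl⟩ := hJ.span k hk
    have : (y : Matrix ι ι F) * (α • (1 : Matrix ι ι F) + β • J) * ((y⁻¹ : GL ι F) : Matrix ι ι F) =
        α • (1 : Matrix ι ι F) + (β * ε) • J := by
      rw [Matrix.mul_add, Matrix.add_mul, Matrix.mul_smul, Matrix.smul_mul, Matrix.mul_one,
        coe_mul_inv, Matrix.mul_smul, Matrix.smul_mul, h1, smul_smul]
    rw [this]
    exact hmemK _ _
  · intro hk
    obtain ⟨α, β, hαβ⟩ := hJ.span _ hk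
    have : k = α • (1 : Matrix ι ι F) + (β * ε) • J := by
      have h3 : k = ((y⁻¹ : GL ι F) : Matrix ι ι F) *
          ((y : Matrix ι ι F) * k * ((y⁻¹ : GL ι F) : Matrix ι ι F)) * (y : Matrix ι ι F) := by
        simp only [Matrix.mul_assoc]
        rw [coe_inv_mul, Matrix.mul_one, ← Matrix.mul_assoc, coe_inv_mul, Matrix.one_mul]
      rw [h3, hαβ, Matrix.mul_add, Matrix.add_mul, Matrix.mul_smul, Matrix.smul_mul, Matrix.mul_one,
        coe_inv_mul, Matrix.mul_smul, Matrix.smul_mul, h2, smul_smul]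
    rw [this]
    exact hmemK _ _

/-- INDEXS: for `ord_r(q) = 2j` with `j` even, `r` does not divide the index. -/
theorem not_dvd_relIndexS {F : Type*} [Field F] [Fintype F] {ι : Type} [Fintype ι]
    [DecidableEq ι] (h2 : (2 : F) ≠ 0) (Q : QuadraticForm F (ι → F))
    (d : ℕ) (hd : 1 ≤ d) (plus : Bool) (hT : IsTypeS Q d plus)
    (K : Subalgebra F (Matrix ι ι F)) (hK : HypS ⇑Q K) (r : ℕ) [Fact r.Prime] (hr2 : r ≠ 2)
    (hrq : ¬ r ∣ Fintype.card F) (j : ℕ) (hj1 : 1 ≤ j) (hjev : Even j)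
    (hord : orderOf ((Fintype.card F : ℕ) : ZMod r) = 2 * j) :
    ¬ r ∣ (Cfsg.Geo.subalgebraNormalizer K).relIndex (Cfsg.Geo.omegaGL ⇑Q) := by
  classical
  intro hdvd
  have hr : r.Prime := Fact.out
  have hrodd : Odd r := hr.odd_of_ne_two hr2
  have hQ := hT.nondeg
  have hcard := hT.card
  obtain ⟨ν, hν⟩ : ∃ ν : F, ¬ IsSquare ν := by
    apply FiniteField.exists_nonsquare
    intro h
    apply h2
    have := ringChar.Nat.cast_ringChar (R := F)
    rw [h] at this
    exact_mod_cast this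
  have hν0 : ν ≠ 0 := by
    rintro rfl
    exact hν ⟨0, by ring⟩
  obtain ⟨J, hJ⟩ := exists_genS h2 (⇑Q) K hK ν hν
  obtain ⟨e, δ0, δ1, he⟩ := exists_frameS h2 Q hQ ν hν J hJ.sq hJ.adj d hd hcard
  obtain ⟨c0, hc0⟩ : ∃ c0 : Fin d → F, c0 = fun a => if a.val + 1 = d then δ0 else 1 := ⟨_, rfl⟩
  obtain ⟨c1, hc1⟩ : ∃ c1 : Fin d → F, c1 = fun a => if a.val + 1 = d then δ1 else 0 := ⟨_, rfl⟩
  have he' : IsFrameS ⇑Q ν J d e c0 c1 := by rw [hc0, hc1]; exact he
  obtain ⟨t, ht0, ht⟩ := disc_of_frame h2 Q ν J hJ.sq hJ.adj d e c0 c1 he'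
  obtain ⟨plusK, hplusK⟩ : ∃ plusK : Bool,
      (IsSquare (∏ a, (c0 a ^ 2 - ν * c1 a ^ 2)) ↔ plusK = true) := by
    by_cases h : IsSquare (∏ a, (c0 a ^ 2 - ν * c1 a ^ 2))
    · exact ⟨true, by simp [h]⟩
    · exact ⟨false, by simp [h]⟩
  have hcardK : cardOK (Fintype.card F) d plusK = cardOK (Fintype.card F) d plus := by
    unfold cardOK
    by_cases hev : Even d
    · rw [if_pos hev, if_pos hev]
      congr 1
      -- the types agree
      have hdet0 : (gram Q).det ≠ 0 := (Cfsg.Agent.Helper7.OrthUni.nondeg_iff_det Q).mp hQ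
      have h1 : IsSquare ((-1 : F) ^ d * (gram Q).det) ↔
          IsSquare (∏ a, (c0 a ^ 2 - ν * c1 a ^ 2)) := by
        rw [hev.neg_one_pow, one_mul]
        obtain ⟨m, hm⟩ := hev
        have hprod : ∏ a : Fin d, (16 * ν * (c0 a ^ 2 - ν * c1 a ^ 2)) =
            ((16 * ν) ^ m) ^ 2 * ∏ a : Fin d, (c0 a ^ 2 - ν * c1 a ^ 2) := by
          rw [Finset.prod_mul_distrib, Finset.prod_const, Finset.card_univ, Fintype.card_fin,
            ← pow_mul]
          congr 2
          omega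
        rw [hprod] at ht
        have hu : (16 * ν : F) ^ m ≠ 0 := by
          apply pow_ne_zero
          have : (16 : F) = 2 ^ 4 := by norm_num
          rw [this]
          exact mul_ne_zero (pow_ne_zero _ h2) hν0
        obtain ⟨P, hP⟩ : ∃ P : F, P = ∏ a : Fin d, (c0 a ^ 2 - ν * c1 a ^ 2) := ⟨_, rfl⟩
        obtain ⟨u, hu'⟩ : ∃ u : F, u = (16 * ν) ^ m := ⟨_, rfl⟩
        rw [← hP, ← hu'] at ht
        rw [← hu'] at hu
        rw [← hP]
        constructor
        · rintro ⟨s, hs⟩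
          refine ⟨s * t / u, ?_⟩
          have : P = (gram Q).det * t ^ 2 / u ^ 2 := by
            rw [ht]; field_simp
          rw [this, hs]
          field_simp
        · rintro ⟨s, hs⟩
          refine ⟨s * u / t, ?_⟩
          have : (gram Q).det = u ^ 2 * P / t ^ 2 := by
            rw [← ht]; field_simp
          rw [this, hs]
          field_simp
      have h3 : plusK = true ↔ plus = true := by rw [← hplusK, ← h1, hT.disc]
      cases plusK <;> cases plus <;> simp_all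
    · rw [if_neg hev, if_neg hev]
  obtain ⟨G, hGO, hGJ, hGcard⟩ := card_dvd_of_frameS h2 Q hQ ν hν J hJ.sq hJ.adj d hd e c0 c1 he'
    plusK hplusK
  have hGN : G ≤ Cfsg.Geo.subalgebraNormalizer K := fun g hg =>
    mem_normalizer_of_genS (⇑Q) K ν J hJ g (Or.inl (hGJ g hg))
  haveI : Finite (GL ι F) := inferInstance
  have hval := val_lt_of_dvd_relIndex (Cfsg.isometryGroup F ⇑Q) (Cfsg.Geo.omegaGL ⇑Q)
    (Cfsg.Geo.subalgebraNormalizer K) G r (omegaGL_le Q) (le_inf hGO hGN)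
    (fun g hg ⟨k, hk⟩ => mem_omegaGL_of_odd_order Q h2 hQ g hg (r ^ k) (hrodd.pow) hk) hdvd
  rw [hGcard, hcardK, hT.cardO, val_cardOK_eq (Fintype.card F) r d hr2 Fintype.one_lt_card hrq hd
    plus j hj1 hjev hord] at hval
  omega

end Cfsg.Agent.S5977P
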