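import Mathlib
import Cfsg.Prelude.Def_GeometricClasses
import Cfsg.Prelude.Def_ClassicalGeometry
import Cfsg.Agent.Helper29.S5977Defs
import Cfsg.Agent.Helper29.S5977Basic
import Cfsg.Agent.Helper29.S5977FWD
import Cfsg.Agent.Helper29.S5977INDEXS
import Cfsg.Agent.Helper21.S5977BACK
import Cfsg.Agent.Helper2.QuadPlus
import Cfsg.Agent.Helper2.QuadMinus
import Cfsg.Agent.Helper28.GraphInvMinus
import Cfsg.Agent.S2171
import Cfsg.Agent.S2621

set_option autoImplicit false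
open scoped MatrixGroups

/-! S5977 / S5978: the generic theorem and the two type data (helper29). -/

namespace Cfsg.Agent.S5977P

open Polynomial Module BASIC FWD
open Cfsg.Agent.Helper7.OrthUni (gram qf)
open Cfsg.Agent.Helper28.Spin (QfPlus QfMinus)

/-- the generic theorem. -/
theorem main {F : Type*} [Field F] [Fintype F] {ι : Type} [Fintype ι] [DecidableEq ι]
    {p : ℕ} [Fact p.Prime] [CharP F p] (h2 : (2 : F) ≠ 0) (Q : QuadraticForm F (ι → F))
    (d : ℕ) (hd : 3 ≤ d) (plus : Bool) (hT : IsTypeS Q d plus)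
    (K : Subalgebra F (Matrix ι ι F)) (hK : Cfsg.Geo.IsFieldSubalgebra 2 K)
    (hsa : Cfsg.Geo.IsSelfAdjointFor (QuadraticMap.polar ⇑Q) K) (r : ℕ) [Fact r.Prime]
    (hΩ : r ∣ (Cfsg.Geo.subalgebraNormalizer K).relIndex (Cfsg.Geo.omegaGL ⇑Q)) :
    (∀ x ∈ Cfsg.Geo.omegaGL ⇑Q, (∃ z : F, ((x ^ r : GL ι F) : Matrix ι ι F) =
        z • (1 : Matrix ι ι F)) →
      (∀ z : F, (x : Matrix ι ι F) ≠ z • (1 : Matrix ι ι F)) →
      ∃ g ∈ Cfsg.Geo.omegaGL ⇑Q, g⁻¹ * x * g ∈ Cfsg.Geo.subalgebraNormalizer K) ↔ r = 2 := by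
  have hr : r.Prime := Fact.out
  have hp : p.Prime := Fact.out
  constructor
  · intro hall
    by_contra hr2
    have hindex : ∀ j : ℕ, 1 ≤ j → Even j → orderOf ((Fintype.card F : ℕ) : ZMod r) = 2 * j →
        r ≠ p → ¬ r ∣ (Cfsg.Geo.subalgebraNormalizer K).relIndex (Cfsg.Geo.omegaGL ⇑Q) := by
      intro j hj1 hjev hord hrp
      have hrq : ¬ r ∣ Fintype.card F := by
        obtain ⟨k, _, hk⟩ := FiniteField.card F p
        intro hdvd
        rw [hk] at hdvd
        exact hrp ((Nat.prime_dvd_prime_iff_eq hr hp).mp (hr.dvd_of_dvd_pow hdvd))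
      exact not_dvd_relIndexS h2 Q d (by omega) plus hT K ⟨hK, hsa⟩ r hr2 hrq j hj1 hjev hord
    obtain ⟨x, hxΩ, hxr, hxns, hxder⟩ := fwd (p := p) h2 Q d hd plus hT K ⟨hK, hsa⟩ r hr2 hindex hΩ
    obtain ⟨g, hg, hgN⟩ := hall x hxΩ hxr hxns
    exact hxder g hg hgN
  · rintro rfl x hxΩ ⟨z, hz⟩ _
    exact Cfsg.Agent.S5977B.back h2 Q hT.nondeg d (by omega) hT.card K hK hsa x hxΩ z hz

/-- the type data of the standard plus form. -/
theorem isTypeS_plus {F : Type*} [Field F] [Fintype F] (d : ℕ) (hd : 1 ≤ d) :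
    IsTypeS (QfPlus d F) d true where
  card := by rw [Fintype.card_sum, Fintype.card_fin]; ring
  nondeg := Cfsg.Agent.Helper28.Spin.QfPlus_nondeg d
  cardO := by
    have := Cfsg.Agent.Helper2.Quad.card_GO_plus (F := F) rfl d hd
    rw [Cfsg.Agent.Helper28.Spin.QfPlus_coe, this]
    simp [cardO]
  disc := by
    rw [det_gram_QfPlus]
    simp only [iff_true]
    exact ⟨(-1) ^ d, rfl⟩

/-- the type data of the standard minus form. -/
theorem isTypeS_minus {F : Type*} [Field F] [Fintype F] (h2 : (2 : F) ≠ 0) (d : ℕ) (hd : 1 ≤ d)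
    (a b : F) (hab : ∀ x y : F, x ^ 2 + a * x * y + b * y ^ 2 = 0 → x = 0 ∧ y = 0) :
    IsTypeS (QfMinus (d - 1) F a b) d false where
  card := by
    rw [Fintype.card_sum, Fintype.card_sum, Fintype.card_fin, Fintype.card_fin]; omega
  nondeg := Cfsg.Agent.S2171.QfMinus_nondeg_of (d - 1) a b (by
    intro h
    apply Cfsg.Agent.S2621.not_isSquare_disc h2 a b hab
    exact ⟨0, by linear_combination -h⟩)
  cardO := by
    have := Cfsg.Agent.Helper2.Quad.card_GO_minus (F := F) rfl d hd a b hab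
    rw [Cfsg.Agent.Helper28.Spin.QfMinus_coe, this]
    simp [cardO]
  disc := by
    classical
    have h1 : (gram (QfMinus (d - 1) F a b)).det = (-1) ^ (d - 1) * (4 * b - a ^ 2) :=
      Cfsg.Agent.Helper28.GInv.gram_minus_det a b
    rw [h1]
    have h3 : (-1 : F) ^ d * ((-1) ^ (d - 1) * (4 * b - a ^ 2)) = a ^ 2 - 4 * b := by
      obtain ⟨k, rfl⟩ : ∃ k, d = k + 1 := ⟨d - 1, by omega⟩
      rw [Nat.add_sub_cancel, pow_succ]
      have : ((-1 : F) ^ k) * ((-1 : F) ^ k) = 1 := by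
        rw [← pow_add, ← two_mul, pow_mul]; norm_num
      linear_combination (-(4 * b - a ^ 2)) * this
    rw [h3]
    simp only [Bool.false_eq_true, iff_false]
    exact Cfsg.Agent.S2621.not_isSquare_disc h2 a b hab

end Cfsg.Agent.S5977P
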