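import Mathlib
import Cfsg.Agent.Helper29.SchurBound
import Cfsg.Prelude.Def_Blocks

set_option autoImplicit false

namespace Cfsg.Agent.Helper29.SchurB

open Cfsg Cfsg.Agent.Helper24 Cfsg.Agent.Helper23 Cfsg.Agent.Helper8 Module

theorem schur_bound {G : Type*} [Group G] [Finite G] (p : ℕ) (hp : p.Prime) (χ : G → ℂ)
    (hχ : IsCharacter G χ) (hfaith : ∀ g : G, χ g = χ 1 → g = 1)
    (hrat : (∃ r : ℕ, 0 < r ∧ ¬ p ∣ r ∧ ∀ g : G, χ g ∈ IntermediateField.adjoin ℚ
      ({Complex.exp (2 * Real.pi * Complex.I / r)} : Set ℂ)))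
    (n : ℕ) (hn : charDegree χ = n) :
    (Nat.card G).factorization p ≤ ∑ i ∈ Finset.range (n + 1), n / ((p - 1) * p ^ i) := by
  classical
  haveI : Fact p.Prime := ⟨hp⟩
  obtain ⟨r, hr, hpr, hrat⟩ := hrat
  set a := (Nat.card G).factorization p with ha
  rcases Nat.eq_zero_or_pos a with ha0 | hapos
  · rw [ha0]; exact Nat.zero_le _
  obtain ⟨k, hk⟩ : ∃ k, a = k + 1 := Nat.exists_eq_succ_of_ne_zero hapos.ne'
  have hp0 : 0 < p := hp.pos
  have hp1 : 1 < p := hp.one_lt
  obtain ⟨P⟩ : Nonempty (Sylow p G) := inferInstance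
  have hPcard : Nat.card P = p ^ a := Sylow.card_eq_multiplicity P
  haveI : Fintype (P : Subgroup G) := Fintype.ofFinite _
  -- the representation
  have hχ' := hχ
  obtain ⟨nn, ρ, hρ⟩ := hχ
  have hχ1 : χ 1 = (nn : ℂ) := by
    rw [← hρ]
    simp
  have hnn : nn = n := by
    rw [← hn]
    unfold charDegree
    rw [hχ1]
    simp
  subst hnn
  have hfin : finrank ℂ (Fin nn → ℂ) = nn := by simp
  -- Galois stability on P
  have hxpow : ∀ x : G, x ∈ (P : Subgroup G) → x ^ (p ^ (k + 1)) = 1 := by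
    intro x hx
    have h1 : (⟨x, hx⟩ : (P : Subgroup G)) ^ Nat.card (P : Subgroup G) = 1 := pow_card_eq_one'
    rw [hPcard, hk] at h1
    have := congrArg Subtype.val h1
    simpa using this
  have hinv : ∀ x : G, x ∈ (P : Subgroup G) → ∀ j : ℕ, j.Coprime p →
      ρ.character (x ^ j) = ρ.character x := by
    intro x hx j hj
    obtain ⟨k', hk'1, hk'2, hk'3⟩ := exists_k p hp (Nat.card G) r Nat.card_pos hr hpr j hj
    have h1 := galois_fix hχ' r hr hrat k' hk'1 hk'2 x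
    rw [hρ]
    rw [← h1]
    congr 1
    rw [pow_eq_pow_iff_modEq]
    have hord : orderOf x ∣ p ^ a := by
      rw [hk]
      exact orderOf_dvd_of_pow_eq_one (hxpow x hx)
    exact (Nat.ModEq.of_dvd hord hk'3).symm
  -- per-element data
  have hdata : ∀ x : G, x ∈ (P : Subgroup G) → x ≠ 1 →
      ∃ t : ℕ, t < nn / (p - 1) ∧ χ x = ((nn : ℤ) - (p : ℤ) * ((t : ℤ) + 1) : ℤ) := by
    intro x hx hx1
    obtain ⟨c, hc, hcong⟩ := elt_int p ρ x k (hxpow x hx) (hinv x hx)
    have hlow := elt_lower p ρ x k (hxpow x hx) (hinv x hx) c hc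
    rw [hfin] at hcong hlow
    have hle : c ≤ (nn : ℤ) := by
      have h1 := norm_char_le ρ x
      rw [hc, hfin] at h1
      have h2 : ‖((c : ℤ) : ℂ)‖ = |(c : ℝ)| := by
        rw [← Complex.ofReal_intCast, Complex.norm_real, Real.norm_eq_abs]
      rw [h2] at h1
      have h3 : (c : ℝ) ≤ (nn : ℝ) := le_trans (le_abs_self _) h1
      exact_mod_cast h3
    have hne : c ≠ (nn : ℤ) := by
      intro h
      apply hx1
      apply hfaith
      rw [hχ1, ← hρ, hc, h]
      simp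
    have hlt : c < (nn : ℤ) := lt_of_le_of_ne hle hne
    obtain ⟨t, ht⟩ : (p : ℤ) ∣ (nn : ℤ) - c := Int.ModEq.dvd hcong
    have hpZ : (0 : ℤ) < (p : ℤ) := by exact_mod_cast hp0
    have htpos : 0 < t := by
      have : 0 < (p : ℤ) * t := by rw [← ht]; linarith
      exact (mul_pos_iff_of_pos_left hpZ).mp this
    -- bound
    have hbound : ((p : ℤ) - 1) * t ≤ (nn : ℤ) := by
      have hc' : c = (nn : ℤ) - (p : ℤ) * t := by linarith
      rw [hc'] at hlow
      have : (p : ℤ) * (((p : ℤ) - 1) * t) ≤ (p : ℤ) * (nn : ℤ) := by nlinarith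
      exact le_of_mul_le_mul_left this hpZ
    obtain ⟨t', rfl⟩ : ∃ t' : ℕ, t = (t' : ℤ) + 1 := by
      refine ⟨(t - 1).toNat, ?_⟩
      rw [Int.toNat_of_nonneg (by omega)]
      ring
    refine ⟨t', ?_, ?_⟩
    · rw [Nat.lt_iff_add_one_le, Nat.le_div_iff_mul_le (by omega)]
      have h1 : (((t' + 1) * (p - 1) : ℕ) : ℤ) ≤ (nn : ℤ) := by
        push_cast
        rw [Nat.cast_sub hp1.le]
        push_cast
        linarith
      exact_mod_cast h1
    · rw [← hρ, hc]
      congr 1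
      linarith
  -- the divisibility
  set T := nn / (p - 1) with hT
  let s : ℕ → ℤ := fun t' => (nn : ℤ) - (p : ℤ) * ((t' : ℤ) + 1)
  have hψ : IsCharacter (P : Subgroup G) (fun x : (P : Subgroup G) => χ x) :=
    isCharacter_restrict (P : Subgroup G) hχ'
  obtain ⟨z, hz⟩ := sum_prod_dvd hψ s T 0
  simp only [pow_zero, one_mul] at hz
  have hsum : ∑ x : (P : Subgroup G), ∏ t ∈ Finset.range T, (χ x - (s t : ℂ)) =
      ∏ t ∈ Finset.range T, (χ ((1 : (P : Subgroup G)) : G) - (s t : ℂ)) := by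
    apply Finset.sum_eq_single (1 : (P : Subgroup G))
    · intro x _ hx1
      obtain ⟨t, ht, hxt⟩ := hdata x.1 x.2 (by
        intro h; apply hx1; exact Subtype.ext h)
      apply Finset.prod_eq_zero (Finset.mem_range.mpr ht)
      rw [hxt]
      simp [s]
    · intro h; exact absurd (Finset.mem_univ _) h
  have hprod : ∏ t ∈ Finset.range T, (χ ((1 : (P : Subgroup G)) : G) - (s t : ℂ)) =
      (((p ^ T * T.factorial : ℕ) : ℤ) : ℂ) := by
    have h1 : ∀ t ∈ Finset.range T, (χ ((1 : (P : Subgroup G)) : G) - (s t : ℂ)) =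
        (p : ℂ) * ((t + 1 : ℕ) : ℂ) := by
      intro t _
      rw [Subgroup.coe_one, hχ1]
      simp [s]
    rw [Finset.prod_congr rfl h1, Finset.prod_mul_distrib, Finset.prod_const, Finset.card_range,
      ← Nat.cast_prod, Finset.prod_range_add_one_eq_factorial]
    push_cast
    rfl
  rw [hsum, hprod, hPcard] at hz
  have hdvd : (p ^ a : ℕ) ∣ p ^ T * T.factorial := by
    have h2 : ((p ^ T * T.factorial : ℕ) : ℤ) = ((p ^ a : ℕ) : ℤ) * z := by
      have : (((p ^ T * T.factorial : ℕ) : ℤ) : ℂ) = ((((p ^ a : ℕ) : ℤ) * z : ℤ) : ℂ) := by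
        rw [hz]; push_cast; rfl
      exact_mod_cast this
    have h3 : ((p ^ a : ℕ) : ℤ) ∣ ((p ^ T * T.factorial : ℕ) : ℤ) := ⟨z, h2⟩
    exact_mod_cast h3
  have hTf : T.factorial ≠ 0 := Nat.factorial_ne_zero T
  have hpT : p ^ T ≠ 0 := pow_ne_zero _ hp0.ne'
  have hle : a ≤ padicValNat p (p ^ T * T.factorial) :=
    (padicValNat_dvd_iff_le (mul_ne_zero hpT hTf)).mp hdvd
  rw [padicValNat.mul hpT hTf, padicValNat.prime_pow] at hle
  have hlog : Nat.log p T < nn + 1 := by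
    have h1 : Nat.log p T ≤ T := Nat.log_le_self p T
    have h2 : T ≤ nn := Nat.div_le_self _ _
    omega
  rw [padicValNat_factorial hlog] at hle
  have hsumeq : ∑ i ∈ Finset.range (nn + 1), nn / ((p - 1) * p ^ i) =
      T + ∑ i ∈ Finset.Ico 1 (nn + 1), T / p ^ i := by
    rw [Finset.range_eq_Ico, Finset.sum_eq_sum_Ico_succ_bot (Nat.succ_pos nn)]
    congr 1
    · simp [hT]
    · apply Finset.sum_congr rfl
      intro i _
      rw [hT, Nat.div_div_eq_div_mul]
  rw [hsumeq]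
  exact hle

end Cfsg.Agent.Helper29.SchurB
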