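import Mathlib
import Cfsg.Prelude.Def_CaseTheorems
import Cfsg.Prelude.Def_OddOrderLocal
import Cfsg.Agent.Helper16.SecRankTwo
import Cfsg.Agent.Helper19.Huppert

set_option autoImplicit false

/-! # 2-groups of sectional rank at most two are metacyclic: preliminaries -/

namespace Cfsg.Agent.Helper29.SecRankMeta

open Subgroup
open scoped commutatorElement

/-- Subgroup form of "every elementary abelian section has order at most four". -/
def R2 (S : Type*) [Group S] : Prop :=
  ∀ H N : Subgroup S, N ≤ H → (∀ h ∈ H, ∀ n ∈ N, h * n * h⁻¹ ∈ N) → (∀ x ∈ H, x ^ 2 ∈ N) →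
    Nat.card H ≤ 4 * Nat.card N

theorem R2.of_sectional {S : Type*} [Group S] (hr : Cfsg.SectionalPRankLE 2 2 S) : R2 S := by
  intro H N hNH hnorm hsq
  have := Cfsg.Agent.Helper3.SecRank.card_le_of_sq hr H N hNH hnorm hsq
  simpa using this

theorem R2.quotient {S : Type*} [Group S] [Finite S] (h : R2 S) (Z : Subgroup S) [Z.Normal] :
    R2 (S ⧸ Z) := by
  intro H N hNH hnorm hsq
  have h1 := h (H.comap (QuotientGroup.mk' Z)) (N.comap (QuotientGroup.mk' Z))
    (Subgroup.comap_mono hNH) ?_ ?_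
  · rw [Cfsg.Agent.Helper9.card_comap_mk', Cfsg.Agent.Helper9.card_comap_mk'] at h1
    have hpos : 0 < Nat.card Z := Nat.card_pos
    have : Nat.card H * Nat.card Z ≤ (4 * Nat.card N) * Nat.card Z := by
      calc Nat.card H * Nat.card Z ≤ 4 * (Nat.card N * Nat.card Z) := h1
        _ = _ := by ring
    exact Nat.le_of_mul_le_mul_right this hpos
  · intro x hx n hn
    rw [mem_comap] at hx hn ⊢
    rw [map_mul, map_mul, map_inv]
    exact hnorm _ hx _ hn
  · intro x hx
    rw [mem_comap] at hx ⊢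
    rw [map_pow]
    exact hsq _ hx

section ClassTwo

variable {S : Type*} [Group S]

/-- All commutators lie in `⟨z⟩` with `z` a central element of order at most two. -/
structure C2 (z : S) : Prop where
  central : z ∈ center S
  sq : z ^ 2 = 1
  comm : ∀ g h : S, ⁅g, h⁆ ∈ zpowers z

variable {z : S}

theorem C2.zp_le_center (h : C2 z) : zpowers z ≤ center S := by
  rw [Subgroup.zpowers_le]; exact h.central

theorem C2.comm_central (h : C2 z) (g k : S) : ⁅g, k⁆ ∈ center S := h.zp_le_center (h.comm g k)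

theorem C2.mem_sq (h : C2 z) {c : S} (hc : c ∈ zpowers z) : c ^ 2 = 1 := by
  rcases (Cfsg.Agent.Helper16.SecRankTwo.mem_zpowers_iff_of_sq h.sq).mp hc with rfl | rfl
  · exact one_pow 2
  · exact h.sq

theorem C2.commute_comm (h : C2 z) (g k x : S) : Commute ⁅g, k⁆ x :=
  (mem_center_iff.mp (h.comm_central g k) x).symm

theorem C2.sq_central (h : C2 z) (g : S) : g ^ 2 ∈ center S := by
  rw [mem_center_iff]
  intro k
  have h1 : k * g * k⁻¹ = ⁅k, g⁆ * g := by rw [commutatorElement_def]; group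
  have h2 : k * g ^ 2 * k⁻¹ = g ^ 2 := by
    rw [← conj_pow, h1, (h.commute_comm k g g).mul_pow, h.mem_sq (h.comm k g), one_mul]
  calc k * g ^ 2 = (k * g ^ 2 * k⁻¹) * k := by group
    _ = g ^ 2 * k := by rw [h2]

theorem C2.mul_pow (h : C2 z) (u v : S) (n : ℕ) :
    ∃ c ∈ zpowers z, (u * v) ^ n = u ^ n * v ^ n * c :=
  ⟨⁅v, u⁆ ^ (n.choose 2), pow_mem (h.comm v u) _,
    Cfsg.Agent.Helper19.mul_pow_of_commute_comm u v (h.commute_comm v u u) (h.commute_comm v u v) n⟩

theorem C2.normal_of_mem (h : C2 z) (A : Subgroup S) (hz : z ∈ A) : A.Normal := by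
  constructor
  intro a ha g
  have h1 : g * a * g⁻¹ = ⁅g, a⁆ * a := by rw [commutatorElement_def]; group
  rw [h1]
  exact mul_mem ((Subgroup.zpowers_le.mpr hz) (h.comm g a)) ha

theorem C2.of_commutator_le (hc : z ∈ center S) (hsq : z ^ 2 = 1)
    (hle : commutator S ≤ zpowers z) : C2 z :=
  ⟨hc, hsq, fun g k => hle (commutator_mem_commutator (mem_top g) (mem_top k))⟩

end ClassTwo

end Cfsg.Agent.Helper29.SecRankMeta
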