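import Mathlib
import Cfsg.Agent.Helper29.SecRankMetaA

set_option autoImplicit false

namespace Cfsg.Agent.Helper29.SecRankMeta

open Subgroup
open scoped commutatorElement

section Case

variable {S : Type*} [Group S] {z : S}

/-- No generating pair `(a, b)` has `z ∈ ⟨a⟩`. -/
def NoGood (z : S) : Prop := ∀ a b : S, closure ({a, b} : Set S) = ⊤ → z ∉ zpowers a

theorem closure_pair_eq_top_of_mem {a b a' b' : S} (hab : closure ({a, b} : Set S) = ⊤)
    (ha : a ∈ closure ({a', b'} : Set S)) (hb : b ∈ closure ({a', b'} : Set S)) :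
    closure ({a', b'} : Set S) = ⊤ := by
  rw [eq_top_iff, ← hab, closure_le]
  rintro x (rfl | rfl)
  · exact ha
  · exact hb

theorem comm_eq_of_gen [Finite S] (h : C2 z) (hzS : z ∈ commutator S) (a b : S)
    (hab : closure ({a, b} : Set S) = ⊤) : ⁅a, b⁆ = z := by
  have hgen : closure ({a, b, 1} : Set S) = ⊤ := by
    rw [eq_top_iff, ← hab]
    apply Subgroup.closure_mono
    rintro x (rfl | rfl) <;> simp
  have h1 := Cfsg.Agent.Helper19.Huppert.commutator_le_zpowers a b 1 (one_mem _) hgen
    (h.commute_comm a b a).symm (by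
      rw [← (h.commute_comm a b b).eq, mul_inv_cancel_right]; exact mem_zpowers _)
  have h2 := h1 hzS
  rcases (Cfsg.Agent.Helper16.SecRankTwo.mem_zpowers_iff_of_sq h.sq).mp (h.comm a b) with h3 | h3
  · rw [h3, zpowers_one_eq_bot, mem_bot] at h2
    rw [h3, h2]
  · exact h3

theorem descent [Finite S] (h : C2 z) (hng : NoGood z) (a b : S)
    (hab : closure ({a, b} : Set S) = ⊤) (α β : ℕ) (hβ : orderOf b = 2 ^ (β + 1)) (hle : β ≤ α)
    (ht : b ^ (2 ^ β) = a ^ (2 ^ α) ∨ b ^ (2 ^ β) = a ^ (2 ^ α) * z) :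
    ∃ w, closure ({a, w} : Set S) = ⊤ ∧ orderOf w < orderOf b := by
  set u := a ^ (2 ^ (α - β)) with hu
  set w := u * b⁻¹ with hw
  have hgen : closure ({a, w} : Set S) = ⊤ := by
    apply closure_pair_eq_top_of_mem hab (subset_closure (by simp))
    have hb : b = w⁻¹ * u := by rw [hw]; group
    rw [hb]
    exact mul_mem (inv_mem (subset_closure (by simp))) (pow_mem (subset_closure (by simp)) _)
  have hgen' : closure ({w, a} : Set S) = ⊤ := by rw [Set.pair_comm]; exact hgen
  refine ⟨w, hgen, ?_⟩
  obtain ⟨c, hc, hwc⟩ := h.mul_pow u b⁻¹ (2 ^ β)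
  have hupow : u ^ (2 ^ β) = a ^ (2 ^ α) := by
    rw [hu, ← pow_mul, ← pow_add, Nat.sub_add_cancel hle]
  have hmem : w ^ (2 ^ β) ∈ zpowers z := by
    rw [hwc, hupow, inv_pow]
    rcases ht with ht | ht
    · rw [ht, mul_inv_cancel, one_mul]; exact hc
    · have : a ^ (2 ^ α) * (a ^ (2 ^ α) * z)⁻¹ = z⁻¹ := by
        rw [mul_inv_rev, (mem_center_iff.mp (inv_mem h.central) _).symm]
        group
      rw [ht, this]
      exact mul_mem (inv_mem (mem_zpowers z)) hc
  rcases (Cfsg.Agent.Helper16.SecRankTwo.mem_zpowers_iff_of_sq h.sq).mp hmem with h1 | h1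
  · have hdvd : orderOf w ∣ 2 ^ β := orderOf_dvd_of_pow_eq_one h1
    have hle' := Nat.le_of_dvd (by positivity) hdvd
    rw [hβ, pow_succ]
    have : 0 < 2 ^ β := by positivity
    omega
  · exfalso
    apply hng w a hgen'
    rw [← h1]
    exact pow_mem (mem_zpowers w) _


theorem exists_orderOf_eq [Finite S] (h2 : IsPGroup 2 S) {a : S} (ha1 : a ≠ 1) :
    ∃ α, orderOf a = 2 ^ (α + 1) := by
  obtain ⟨k, hk⟩ := (IsPGroup.iff_orderOf.mp h2) a
  rcases k with _ | k
  · rw [pow_zero, orderOf_eq_one_iff] at hk; exact absurd hk ha1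
  · exact ⟨k, hk⟩

theorem step [Finite S] (h2 : IsPGroup 2 S) (hR : R2 S) (h : C2 z) (hzS : z ∈ commutator S)
    (hng : NoGood z) (a b : S) (hab : closure ({a, b} : Set S) = ⊤) :
    ∃ a' b', closure ({a', b'} : Set S) = ⊤ ∧
      orderOf a' * orderOf b' < orderOf a * orderOf b := by
  have hba : closure ({b, a} : Set S) = ⊤ := by rw [Set.pair_comm]; exact hab
  have hcz : ⁅a, b⁆ = z := comm_eq_of_gen h hzS a b hab
  have hz1 : z ≠ 1 := by
    intro hz; apply hng a b hab; rw [hz]; exact one_mem _
  have ha1 : a ≠ 1 := by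
    rintro rfl
    apply hz1; rw [← hcz]; simp
  have hb1 : b ≠ 1 := by
    rintro rfl
    apply hz1; rw [← hcz]; simp
  obtain ⟨α, hα⟩ := exists_orderOf_eq h2 ha1
  obtain ⟨β, hβ⟩ := exists_orderOf_eq h2 hb1
  set ta := a ^ (2 ^ α) with hta
  set tb := b ^ (2 ^ β) with htb
  have hta2 : ta ^ 2 = 1 := by
    rw [hta, ← pow_mul, ← pow_succ, ← hα]; exact pow_orderOf_eq_one a
  have htb2 : tb ^ 2 = 1 := by
    rw [htb, ← pow_mul, ← pow_succ, ← hβ]; exact pow_orderOf_eq_one b
  have hta1 : ta ≠ 1 := by
    apply pow_ne_one_of_lt_orderOf (by positivity)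
    rw [hα, pow_succ]
    have : 0 < 2 ^ α := by positivity
    omega
  have htb1 : tb ≠ 1 := by
    apply pow_ne_one_of_lt_orderOf (by positivity)
    rw [hβ, pow_succ]
    have : 0 < 2 ^ β := by positivity
    omega
  have htaz : ta ≠ z := fun hh => hng a b hab (hh ▸ pow_mem (mem_zpowers a) _)
  have htbz : tb ≠ z := fun hh => hng b a hba (hh ▸ pow_mem (mem_zpowers b) _)
  by_cases h00 : α = 0 ∧ β = 0
  · exfalso
    obtain ⟨rfl, rfl⟩ := h00
    have ha2 : a ^ 2 = 1 := by simpa [hta] using hta2
    have hb2 : b ^ 2 = 1 := by simpa [htb] using htb2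
    have hai : a⁻¹ = a := by rw [inv_eq_iff_mul_eq_one, ← pow_two]; exact ha2
    have hbi : b⁻¹ = b := by rw [inv_eq_iff_mul_eq_one, ← pow_two]; exact hb2
    have hsq : (a * b) ^ 2 = z := by
      rw [← hcz, commutatorElement_def, hai, hbi, pow_two]; group
    have hgen : closure ({a * b, b} : Set S) = ⊤ := by
      apply closure_pair_eq_top_of_mem hab _ (subset_closure (by simp))
      have : a = (a * b) * b⁻¹ := by group
      rw [this]
      exact mul_mem (subset_closure (by simp)) (inv_mem (subset_closure (by simp)))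
    apply hng (a * b) b hgen
    rw [← hsq]; exact pow_mem (mem_zpowers _) 2
  · have hcomm : Commute ta tb := by
      by_cases hα0 : α = 0
      · have hβ0 : β ≠ 0 := fun hh => h00 ⟨hα0, hh⟩
        obtain ⟨β', rfl⟩ := Nat.exists_eq_succ_of_ne_zero hβ0
        have : tb ∈ center S := by
          rw [htb, pow_succ, pow_mul]; exact h.sq_central _
        exact mem_center_iff.mp this ta
      · obtain ⟨α', rfl⟩ := Nat.exists_eq_succ_of_ne_zero hα0
        have : ta ∈ center S := by
          rw [hta, pow_succ, pow_mul]; exact h.sq_central _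
        exact (mem_center_iff.mp this tb).symm
    have hzc : ∀ x : S, Commute x z := fun x => mem_center_iff.mp h.central x
    set X : Set S := {ta, tb, z} with hX
    have hbotn : ∀ y ∈ closure X, ∀ n ∈ (⊥ : Subgroup S), y * n * y⁻¹ ∈ (⊥ : Subgroup S) := by
      intro y _ n hn
      rw [mem_bot] at hn ⊢
      rw [hn]; group
    have hsqE : ∀ x ∈ closure X, x ^ 2 ∈ (⊥ : Subgroup S) := by
      apply Cfsg.Agent.Helper16.SecRankTwo.sq_mem_of_closure ⊥ X hbotn
      · rintro x (rfl | rfl | rfl) <;> rw [mem_bot]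
        · exact hta2
        · exact htb2
        · exact h.sq
      · rintro x hx y hy
        rw [mem_bot]
        have hxy : Commute x y := by
          rcases hx with rfl | rfl | rfl <;> rcases hy with rfl | rfl | rfl
          · exact Commute.refl _
          · exact hcomm
          · exact hzc _
          · exact hcomm.symm
          · exact Commute.refl _
          · exact hzc _
          · exact (hzc _).symm
          · exact (hzc _).symm
          · exact Commute.refl _
        rw [hxy.eq]; group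
    have hE4 : Nat.card (closure X) ≤ 4 := by
      have := hR (closure X) ⊥ bot_le hbotn hsqE
      simpa using this
    haveI hzn : (zpowers z).Normal := h.normal_of_mem _ (mem_zpowers z)
    set A := zpowers ta ⊔ zpowers z with hA
    have hAE : A ≤ closure X :=
      sup_le (zpowers_le.mpr (subset_closure (by simp [hX])))
        (zpowers_le.mpr (subset_closure (by simp [hX])))
    have hzA : zpowers z ≤ A := le_sup_right
    have hcardA : 4 ≤ Nat.card A := by
      have h1 := Cfsg.Agent.Helper16.SecRankTwo.two_mul_card_le hzA (c := ta)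
        ((le_sup_left : zpowers ta ≤ A) (mem_zpowers ta)) (by
          rw [Cfsg.Agent.Helper16.SecRankTwo.mem_zpowers_iff_of_sq h.sq]
          push Not
          exact ⟨hta1, htaz⟩)
      rw [Cfsg.Agent.Helper16.SecRankTwo.card_zpowers_of_sq h.sq hz1] at h1
      exact h1
    have htbA : tb ∈ A := by
      by_contra hcon
      have h1 := Cfsg.Agent.Helper16.SecRankTwo.two_mul_card_le hAE (c := tb)
        (subset_closure (by simp [hX])) hcon
      omega
    have ht : tb = ta ∨ tb = ta * z := by
      obtain ⟨y, hy, c, hc, hyc⟩ := mem_sup_of_normal_right.mp htbA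
      rcases (Cfsg.Agent.Helper16.SecRankTwo.mem_zpowers_iff_of_sq hta2).mp hy with rfl | rfl <;>
        rcases (Cfsg.Agent.Helper16.SecRankTwo.mem_zpowers_iff_of_sq h.sq).mp hc with rfl | rfl
      · rw [one_mul] at hyc; exact absurd hyc.symm htb1
      · rw [one_mul] at hyc; exact absurd hyc.symm htbz
      · left; rw [mul_one] at hyc; exact hyc.symm
      · right; exact hyc.symm
    rcases le_total β α with hle | hle
    · obtain ⟨w, hw, hlt⟩ := descent h hng a b hab α β hβ hle ht
      exact ⟨a, w, hw, Nat.mul_lt_mul_of_pos_left hlt (orderOf_pos a)⟩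
    · have ht' : ta = tb ∨ ta = tb * z := by
        rcases ht with ht | ht
        · left; exact ht.symm
        · right; rw [ht, mul_assoc, ← pow_two, h.sq, mul_one]
      obtain ⟨w, hw, hlt⟩ := descent h hng b a hba β α hα hle ht'
      refine ⟨b, w, hw, ?_⟩
      rw [mul_comm (orderOf a)]
      exact Nat.mul_lt_mul_of_pos_left hlt (orderOf_pos b)


theorem class_two_case [Finite S] (h2 : IsPGroup 2 S) (hR : R2 S) (h : C2 z)
    (hzS : z ∈ commutator S) : Cfsg.IsMetacyclic S := by
  haveI : Fact (Nat.Prime 2) := ⟨Nat.prime_two⟩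
  obtain ⟨a, b, hab⟩ : ∃ a b : S, closure ({a, b} : Set S) = ⊤ := by
    have hfr : Nat.card S ≤ 2 ^ 2 * Nat.card (frattini S) := by
      have hn : (frattini S).Normal := inferInstance
      have := hR ⊤ (frattini S) le_top (fun g _ n hn' => hn.conj_mem n hn' g)
        (fun x _ => Cfsg.Agent.Helper1.IsPGroup.pow_mem_frattini h2 x)
      rw [card_top] at this
      simpa using this
    by_cases hex : ∃ g, g ∉ frattini S
    · obtain ⟨g, hg⟩ := hex
      obtain ⟨y, hy⟩ := Cfsg.Agent.Helper19.Huppert.exists_closure_pair_eq_top h2 (frattini S)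
        le_rfl hfr hg
      exact ⟨g, y, hy⟩
    · push Not at hex
      refine ⟨1, 1, ?_⟩
      apply frattini_nongenerating
      rw [eq_top_iff]
      intro x _
      exact (le_sup_right : frattini S ≤ _) (hex x)
  by_contra hnm
  have hng : NoGood z := by
    intro a' b' hab' hz
    apply hnm
    exact Cfsg.Agent.Helper19.Huppert.isMetacyclic_of_gens a' b' hab'
      (h.normal_of_mem (zpowers a') hz)
  have key : ∀ n : ℕ, ∀ a b : S, closure ({a, b} : Set S) = ⊤ →
      orderOf a * orderOf b = n → False := by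
    intro n
    induction n using Nat.strong_induction_on with
    | _ n ih =>
      intro a b hab hn
      obtain ⟨a', b', hab', hlt⟩ := step h2 hR h hzS hng a b hab
      exact ih _ (hn ▸ hlt) a' b' hab' rfl
  exact key _ a b hab rfl

end Case

end Cfsg.Agent.Helper29.SecRankMeta
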