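import Mathlib
import Cfsg.Agent.Helper29.SecRankMetaB

set_option autoImplicit false

namespace Cfsg.Agent.Helper29.SecRankMeta

open Subgroup Cfsg.Agent.Helper19.Huppert
open scoped commutatorElement

universe u

/-- A finite 2-group in which every elementary abelian section has order at most four is
metacyclic. -/
theorem metacyclic_of_R2 :
    ∀ (n : ℕ) (G : Type u) [Group G] [Finite G], Nat.card G = n → IsPGroup 2 G → R2 G →
      Cfsg.IsMetacyclic G := by
  haveI : Fact (Nat.Prime 2) := ⟨Nat.prime_two⟩
  have hpp : (2 : ℕ).Prime := Nat.prime_two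
  intro n
  induction n using Nat.strong_induction_on with
  | _ n ih =>
  intro G _ _ hn hG hS
  by_cases hab : commutator G = ⊥
  · refine class_two_case hG hS (z := 1) ⟨one_mem _, one_pow _, fun g k => ?_⟩ (one_mem _)
    have : ⁅g, k⁆ ∈ commutator G := commutator_mem_commutator (mem_top g) (mem_top k)
    rw [hab, mem_bot] at this
    rw [this]; exact one_mem _
  · obtain ⟨z, hzN, hzc, hzo⟩ : ∃ z ∈ commutator G, z ∈ center G ∧ orderOf z = 2 := by
      obtain ⟨b, hb1, hb2, hb3⟩ :=
        Cfsg.Agent.Helper23.exists_mem_inf_center_ne_one hG (commutator G) hab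
      obtain ⟨k, hk⟩ := (IsPGroup.iff_orderOf.mp hG) b
      have hk0 : k ≠ 0 := by
        rintro rfl
        rw [pow_zero, orderOf_eq_one_iff] at hk
        exact hb3 hk
      refine ⟨b ^ (2 ^ (k - 1)), pow_mem hb1 _, pow_mem hb2 _, ?_⟩
      rw [orderOf_pow' b (pow_ne_zero _ hpp.ne_zero), hk,
        Nat.gcd_eq_right (pow_dvd_pow 2 (Nat.sub_le k 1))]
      have : 2 ^ k = 2 ^ (k - 1) * 2 := by
        rw [← pow_succ]; congr 1; omega
      rw [this, Nat.mul_div_cancel_left _ (pow_pos hpp.pos _)]
    set N : Subgroup G := zpowers z with hN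
    have hNc : N ≤ center G := by rw [hN, zpowers_le]; exact hzc
    haveI hNn : N.Normal := ⟨fun n hn g => by
      have := mem_center_iff.mp (hNc hn) g
      rw [this, mul_inv_cancel_right]; exact hn⟩
    have hNcard : Nat.card N = 2 := by rw [hN, Nat.card_zpowers, hzo]
    have hQS : R2 (G ⧸ N) := hS.quotient N
    have hQcard : Nat.card (G ⧸ N) < n := by
      rw [← hn, Subgroup.card_eq_card_quotient_mul_card_subgroup N, hNcard]
      exact lt_mul_of_one_lt_right Nat.card_pos hpp.one_lt
    have hQm := ih _ hQcard (G ⧸ N) rfl (hG.to_quotient N) hQS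
    obtain ⟨L, hLn, x, y, hNL, hxL, hL, hy⟩ := exists_lift N hQm
    have hzp : z ^ 2 = 1 := by rw [← hzo]; exact pow_orderOf_eq_one z
    have hL' : ∀ l ∈ L, ∃ i j : ℤ, l = x ^ i * z ^ j := by
      intro l hl
      obtain ⟨k, hk⟩ := hL l hl
      obtain ⟨j, hj⟩ := hk
      simp only at hj
      exact ⟨k, j, by rw [hj]; group⟩
    by_cases hzx : z ∈ zpowers x
    · refine ⟨L, hLn, ⟨⟨⟨x, hxL⟩, fun l => ?_⟩⟩, ⟨⟨QuotientGroup.mk y, fun q => ?_⟩⟩⟩
      · obtain ⟨i, j, hij⟩ := hL' l.1 l.2
        obtain ⟨m, hm⟩ := hzx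
        simp only at hm
        refine ⟨i + m * j, ?_⟩
        apply Subtype.ext
        simp only [SubgroupClass.coe_zpow]
        rw [hij, ← hm, zpow_add, zpow_mul]
      · induction q using QuotientGroup.induction_on with
        | H g =>
        obtain ⟨k, hk⟩ := hy g
        refine ⟨k, ?_⟩
        simp only
        rw [← QuotientGroup.mk_zpow, QuotientGroup.eq]
        exact hk
    · have hgen : closure ({x, y, z} : Set G) = ⊤ := by
        rw [eq_top_iff]
        intro g _
        obtain ⟨k, hk⟩ := hy g
        obtain ⟨i, j, hij⟩ := hL' _ hk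
        have : g = y ^ k * (x ^ i * z ^ j) := by rw [← hij]; group
        rw [this]
        exact mul_mem (zpow_mem (subset_closure (by simp)) _)
          (mul_mem (zpow_mem (subset_closure (by simp)) _)
            (zpow_mem (subset_closure (by simp)) _))
      set c := ⁅x, y⁆ with hc
      have hcL : c ∈ L := by
        rw [hc, commutatorElement_def]
        have : x * y * x⁻¹ * y⁻¹ = x * (y * x⁻¹ * y⁻¹) := by group
        rw [this]
        exact mul_mem hxL (hLn.conj_mem _ (inv_mem hxL) y)
      obtain ⟨i, j, hcij⟩ := hL' c hcL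
      have hzcomm : ∀ g : G, Commute g z := fun g => mem_center_iff.mp hzc g
      have hxc : Commute x c := by
        rw [hcij]
        exact ((Commute.refl x).zpow_right i).mul_right ((hzcomm x).zpow_right j)
      have hyx : y * x * y⁻¹ = c⁻¹ * x := by rw [hc, commutatorElement_def]; group
      have hyc : y * c * y⁻¹ ∈ zpowers c := by
        refine ⟨1 - i, ?_⟩
        simp only
        have hzj : ∀ g : G, g * z ^ j = z ^ j * g := fun g => ((hzcomm g).zpow_right j).eq
        have h1 : y * c * y⁻¹ = (y * x * y⁻¹) ^ i * z ^ j := by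
          rw [conj_zpow]
          calc y * c * y⁻¹ = y * (x ^ i * z ^ j) * y⁻¹ := by rw [← hcij]
            _ = y * x ^ i * (z ^ j * y⁻¹) := by group
            _ = y * x ^ i * (y⁻¹ * z ^ j) := by rw [← hzj y⁻¹]
            _ = y * x ^ i * y⁻¹ * z ^ j := by group
        have h2 : (1 - i) = -i + 1 := by ring
        rw [h1, hyx, (hxc.symm.inv_left).mul_zpow, inv_zpow', mul_assoc, ← hcij, h2, zpow_add_one]
      have hcomm := commutator_le_zpowers x y z hzc hgen hxc hyc
      obtain ⟨k, hk⟩ := hcomm hzN
      simp only at hk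
      have hcp : c ^ 2 = x ^ (i * 2) := by
        have h1 : (z ^ j) ^ 2 = 1 := by
          rw [← zpow_natCast, ← zpow_mul, mul_comm, zpow_mul, zpow_natCast, hzp, one_zpow]
        have h2 : (x ^ i) ^ 2 = x ^ (i * 2) := by rw [← zpow_natCast, ← zpow_mul]; rfl
        rw [hcij, ((hzcomm x).zpow_zpow i j).mul_pow, h1, h2, mul_one]
      have hcp1 : c ^ 2 = 1 := by
        by_contra hne
        have hdk : (2 : ℤ) ∣ k := by
          obtain ⟨m, hm⟩ := (IsPGroup.iff_orderOf.mp hG) c
          have hm2 : 2 ≤ m := by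
            by_contra hlt
            push Not at hlt
            apply hne
            have : orderOf c ∣ 2 := by
              rw [hm]
              exact (pow_dvd_pow 2 (by omega : m ≤ 1)).trans (by rw [pow_one])
            exact orderOf_dvd_iff_pow_eq_one.mp this
          have h1 : c ^ (k * 2) = 1 := by rw [zpow_mul, hk, zpow_ofNat, hzp]
          have h2 : (orderOf c : ℤ) ∣ k * 2 := orderOf_dvd_iff_zpow_eq_one.mpr h1
          rw [hm] at h2
          have h3 : ((2 : ℤ) ^ 2) ∣ k * 2 := by
            refine dvd_trans ?_ h2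
            push_cast
            exact pow_dvd_pow _ hm2
          rw [pow_two] at h3
          exact Int.dvd_of_mul_dvd_mul_right (by norm_num) h3
        obtain ⟨k', rfl⟩ := hdk
        apply hzx
        rw [← hk, zpow_mul, zpow_ofNat, hcp]
        exact zpow_mem (zpow_mem (mem_zpowers x) _) _
      have hCN : zpowers c = N := by
        symm
        apply Subgroup.eq_of_le_of_card_ge
        · rw [hN, zpowers_le]; exact ⟨k, hk⟩
        · rw [Nat.card_zpowers, hNcard]
          exact Nat.le_of_dvd hpp.pos (orderOf_dvd_of_pow_eq_one hcp1)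
      have hcomm' : commutator G ≤ zpowers z := by
        rw [← hN, ← hCN]; exact hcomm
      exact class_two_case hG hS (C2.of_commutator_le hzc hzp hcomm') hzN

theorem isMetacyclic_of_sectional {S : Type u} [Group S] [Finite S] (h2 : IsPGroup 2 S)
    (hr : Cfsg.SectionalPRankLE 2 2 S) : Cfsg.IsMetacyclic S :=
  metacyclic_of_R2 _ S rfl h2 (R2.of_sectional hr)

end Cfsg.Agent.Helper29.SecRankMeta
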