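import Mathlib

set_option autoImplicit false
set_option linter.unusedSectionVars false

namespace Cfsg.Agent.Helper29.SelfDualSplit

open Module

section Asym

variable {F : Type*} [Field F] {X : Type*} [AddCommGroup X] [Module F X] [FiniteDimensional F X]
variable (B : LinearMap.BilinForm F X) (b : B.Nondegenerate)

/-- The (left) asymmetry: `B (β x) y = B y x`. -/
noncomputable def asymL : Module.End F X :=
  LinearMap.BilinForm.symmCompOfNondegenerate B.flip B b

/-- The (right) asymmetry: `B y (γ x) = B x y`. -/
noncomputable def asymR : Module.End F X :=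
  LinearMap.BilinForm.symmCompOfNondegenerate B B.flip b.flip

theorem asymL_spec (x y : X) : B (asymL B b x) y = B y x := by
  unfold asymL
  rw [LinearMap.BilinForm.symmCompOfNondegenerate_left_apply]
  rfl

theorem asymR_spec (x y : X) : B y (asymR B b x) = B x y := by
  have := LinearMap.BilinForm.symmCompOfNondegenerate_left_apply B (B₂ := B.flip) b.flip y x
  exact this

include b in
theorem eq_of_forall_left {u v : X} (h : ∀ y, B u y = B v y) : u = v := by
  have : u - v = 0 := b.1 _ (fun y => by rw [map_sub, LinearMap.sub_apply, h y, sub_self])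
  exact sub_eq_zero.mp this

include b in
theorem eq_of_forall_right {u v : X} (h : ∀ y, B y u = B y v) : u = v := by
  have : u - v = 0 := b.2 _ (fun y => by rw [map_sub, h y, sub_self])
  exact sub_eq_zero.mp this

theorem asymL_asymR (x : X) : asymL B b (asymR B b x) = x := by
  apply eq_of_forall_left B b
  intro y
  rw [asymL_spec, asymR_spec]

theorem asymR_asymL (x : X) : asymR B b (asymL B b x) = x := by
  apply eq_of_forall_right B b
  intro y
  rw [asymR_spec, asymL_spec]

/-- `β` is an isometry. -/
theorem asymL_isometry (x y : X) : B (asymL B b x) (asymL B b y) = B x y := by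
  rw [asymL_spec, asymL_spec]

theorem asymR_isometry (x y : X) : B (asymR B b x) (asymR B b y) = B x y := by
  rw [asymR_spec, asymR_spec]

section Inv

variable {G : Type*} [Group G] (ρ : Representation F G X)
  (hinv : ∀ g : G, ∀ x y : X, B (ρ g x) (ρ g y) = B x y)
include hinv

theorem inv_left (g : G) (x y : X) : B (ρ g x) y = B x (ρ g⁻¹ y) := by
  have := hinv g x (ρ g⁻¹ y)
  rw [← this, ← Module.End.mul_apply, ← map_mul, mul_inv_cancel, map_one, Module.End.one_apply]

theorem inv_right (g : G) (x y : X) : B x (ρ g y) = B (ρ g⁻¹ x) y := by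
  have := hinv g (ρ g⁻¹ x) y
  rw [← this, ← Module.End.mul_apply, ← map_mul, mul_inv_cancel, map_one, Module.End.one_apply]

theorem asymL_comm (g : G) (x : X) : asymL B b (ρ g x) = ρ g (asymL B b x) := by
  apply eq_of_forall_left B b
  intro y
  rw [asymL_spec, inv_left B ρ hinv, asymL_spec, inv_right B ρ hinv]

theorem asymR_comm (g : G) (x : X) : asymR B b (ρ g x) = ρ g (asymR B b x) := by
  apply eq_of_forall_right B b
  intro y
  rw [asymR_spec, inv_right B ρ hinv, asymR_spec, inv_left B ρ hinv]

end Inv

end Asym

end Cfsg.Agent.Helper29.SelfDualSplit
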