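import Mathlib
import Cfsg.Agent.Helper29.SelfDualSplitA

set_option autoImplicit false
set_option linter.unusedSectionVars false

namespace Cfsg.Agent.Helper29.SelfDualSplit

open Module

section Odd

variable {F : Type*} [Field F] {X : Type*} [AddCommGroup X] [Module F X] [FiniteDimensional F X]
variable (B : LinearMap.BilinForm F X) (b : B.Nondegenerate)

theorem asymR_mul_asymL : asymR B b * asymL B b = 1 := by
  ext x
  exact asymR_asymL B b x

theorem asymL_mul_asymR : asymL B b * asymR B b = 1 := by
  ext x
  exact asymL_asymR B b x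

/-- `B (β x) y = B x (γ y)`. -/
theorem asymL_adj (x y : X) : B (asymL B b x) y = B x (asymR B b y) := by
  rw [asymL_spec, asymR_spec]

/-- `B x (β y) = B (γ x) y`. -/
theorem asymL_adj' (x y : X) : B x (asymL B b y) = B (asymR B b x) y := by
  have := asymL_isometry B b (asymR B b x) y
  rw [asymL_asymR] at this
  exact this

theorem one_add_adj (x y : X) :
    B ((1 + asymL B b) x) y = B x ((1 + asymR B b) y) := by
  simp only [LinearMap.add_apply, Module.End.one_apply, map_add, asymL_adj]

theorem one_add_adj' (x y : X) :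
    B x ((1 + asymL B b) y) = B ((1 + asymR B b) x) y := by
  simp only [LinearMap.add_apply, Module.End.one_apply, map_add, asymL_adj']

theorem one_add_adj_pow (n : ℕ) (x y : X) :
    B (((1 + asymL B b) ^ n) x) y = B x (((1 + asymR B b) ^ n) y) := by
  induction n generalizing x y with
  | zero => simp
  | succ n ih =>
    rw [pow_succ, Module.End.mul_apply, ih, one_add_adj, ← Module.End.mul_apply, ← pow_succ']

theorem one_add_adj_pow' (n : ℕ) (x y : X) :
    B x (((1 + asymL B b) ^ n) y) = B (((1 + asymR B b) ^ n) x) y := by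
  induction n generalizing x y with
  | zero => simp
  | succ n ih =>
    rw [pow_succ, Module.End.mul_apply, ih, one_add_adj', ← Module.End.mul_apply, ← pow_succ']

theorem one_add_asymR_eq : 1 + asymR B b = asymR B b * (1 + asymL B b) := by
  rw [mul_add, mul_one, asymR_mul_asymL, add_comm]

theorem commute_asymR_one_add : Commute (asymR B b) (1 + asymL B b) := by
  unfold Commute SemiconjBy
  rw [mul_add, add_mul, mul_one, one_mul, asymR_mul_asymL, asymL_mul_asymR]

theorem one_add_asymR_pow (n : ℕ) :
    (1 + asymR B b) ^ n = asymR B b ^ n * (1 + asymL B b) ^ n := by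
  rw [one_add_asymR_eq, (commute_asymR_one_add B b).mul_pow]

/-- The generalized kernel and image of `1 + β` are orthogonal. -/
theorem ker_range_ortho (n : ℕ) {k r : X} (hk : k ∈ LinearMap.ker ((1 + asymL B b) ^ n))
    (hr : r ∈ LinearMap.range ((1 + asymL B b) ^ n)) : B r k = 0 ∧ B k r = 0 := by
  obtain ⟨z, rfl⟩ := hr
  rw [LinearMap.mem_ker] at hk
  constructor
  · rw [one_add_adj_pow, one_add_asymR_pow, Module.End.mul_apply, hk, map_zero, map_zero]
  · rw [one_add_adj_pow', one_add_asymR_pow, Module.End.mul_apply, hk, map_zero, map_zero,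
      LinearMap.zero_apply]


variable {G : Type*} [Group G] (ρ : Representation F G X)
  (hinv : ∀ g : G, ∀ x y : X, B (ρ g x) (ρ g y) = B x y)
include hinv

theorem one_add_comm (g : G) (x : X) :
    (1 + asymL B b) (ρ g x) = ρ g ((1 + asymL B b) x) := by
  simp only [LinearMap.add_apply, Module.End.one_apply, map_add, asymL_comm B b ρ hinv]

theorem one_add_pow_comm (n : ℕ) (g : G) (x : X) :
    ((1 + asymL B b) ^ n) (ρ g x) = ρ g (((1 + asymL B b) ^ n) x) := by
  induction n generalizing x with
  | zero => simp
  | succ n ih =>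
    rw [pow_succ, Module.End.mul_apply, Module.End.mul_apply, one_add_comm B b ρ hinv, ih]

include b in
/-- **The splitting in odd characteristic.** -/
theorem split_odd (h2 : (2 : F) ≠ 0) :
    ∃ U W : Submodule F X, IsCompl U W ∧ (∀ g : G, ∀ u ∈ U, ρ g u ∈ U) ∧
      (∀ g : G, ∀ w ∈ W, ρ g w ∈ W) ∧
      (∃ A : LinearMap.BilinForm F X, (∀ x : X, A x x = 0) ∧
        (∀ g : G, ∀ x ∈ U, ∀ y ∈ U, A (ρ g x) (ρ g y) = A x y) ∧
        (∀ x ∈ U, (∀ y ∈ U, A x y = 0) → x = 0)) ∧
      (∃ S : LinearMap.BilinForm F X, (∀ x y : X, S x y = S y x) ∧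
        (∀ g : G, ∀ x ∈ W, ∀ y ∈ W, S (ρ g x) (ρ g y) = S x y) ∧
        (∀ x ∈ W, (∀ y ∈ W, S x y = 0) → x = 0)) := by
  set f : Module.End F X := 1 + asymL B b with hf
  obtain ⟨n, hn, hn1⟩ := ((LinearMap.eventually_isCompl_ker_pow_range_pow f).and
    (Filter.eventually_ge_atTop 1)).exists
  refine ⟨LinearMap.ker (f ^ n), LinearMap.range (f ^ n), hn, ?_, ?_, ?_, ?_⟩
  · intro g u hu
    rw [LinearMap.mem_ker] at hu ⊢
    rw [hf, one_add_pow_comm B b ρ hinv, ← hf, hu, map_zero]
  · rintro g _ ⟨z, rfl⟩
    exact ⟨ρ g z, by rw [hf, one_add_pow_comm B b ρ hinv]⟩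
  · -- the alternating form `B - Bᵀ` on the generalized kernel
    refine ⟨B - B.flip, ?_, ?_, ?_⟩
    · intro x
      simp
    · intro g x _ y _
      simp only [LinearMap.sub_apply, LinearMap.BilinForm.flip_apply, hinv]
    · intro k hk hzero
      -- `(B - Bᵀ) k y = B ((2 - f) k) y`
      have hform : ∀ y, (B - B.flip) k y = B ((2 : F) • k - f k) y := by
        intro y
        simp only [LinearMap.sub_apply, LinearMap.BilinForm.flip_apply, hf, LinearMap.add_apply,
          Module.End.one_apply, map_sub, map_add, map_smul, LinearMap.smul_apply, smul_eq_mul,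
          asymL_spec]
        ring
      have hmem : (2 : F) • k - f k ∈ LinearMap.ker (f ^ n) := by
        apply Submodule.sub_mem _ (Submodule.smul_mem _ _ hk)
        rw [LinearMap.mem_ker] at hk ⊢
        rw [← Module.End.mul_apply, ← pow_succ, pow_succ', Module.End.mul_apply, hk, map_zero]
      have h0 : (2 : F) • k - f k = 0 := by
        apply b.1
        intro y
        obtain ⟨k', hk', r, hr, rfl⟩ : ∃ k' ∈ LinearMap.ker (f ^ n), ∃ r ∈ LinearMap.range (f ^ n),
            k' + r = y := by
          have := Submodule.mem_sup.mp (hn.sup_eq_top ▸ (Submodule.mem_top : y ∈ ⊤))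
          exact this
        rw [map_add, ← hform k', hzero k' hk', zero_add]
        exact (ker_range_ortho B b n hmem hr).2
      -- so `f k = 2 k`, hence `f ^ n k = 2 ^ n k`
      have hfk : f k = (2 : F) • k := (sub_eq_zero.mp h0).symm
      have hpow : ∀ m : ℕ, (f ^ m) k = (2 : F) ^ m • k := by
        intro m
        induction m with
        | zero => simp
        | succ m ih =>
          rw [pow_succ', Module.End.mul_apply, ih, map_smul, hfk, smul_smul, pow_succ]
      rw [LinearMap.mem_ker, hpow n] at hk
      exact (smul_eq_zero.mp hk).resolve_left (pow_ne_zero n h2)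
  · -- the symmetric form `B + Bᵀ` on the generalized image
    refine ⟨B + B.flip, ?_, ?_, ?_⟩
    · intro x y
      simp only [LinearMap.add_apply, LinearMap.BilinForm.flip_apply]
      ring
    · intro g x _ y _
      simp only [LinearMap.add_apply, LinearMap.BilinForm.flip_apply, hinv]
    · intro r hr hzero
      have hform : ∀ y, (B + B.flip) r y = B (f r) y := by
        intro y
        simp only [LinearMap.add_apply, LinearMap.BilinForm.flip_apply, hf,
          Module.End.one_apply, map_add, asymL_spec]
      have hmem : f r ∈ LinearMap.range (f ^ n) := by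
        obtain ⟨z, rfl⟩ := hr
        exact ⟨f z, by rw [← Module.End.mul_apply, ← pow_succ, pow_succ', Module.End.mul_apply]⟩
      have h0 : f r = 0 := by
        apply b.1
        intro y
        obtain ⟨k', hk', r', hr', rfl⟩ : ∃ k' ∈ LinearMap.ker (f ^ n),
            ∃ r' ∈ LinearMap.range (f ^ n), k' + r' = y := by
          have := Submodule.mem_sup.mp (hn.sup_eq_top ▸ (Submodule.mem_top : y ∈ ⊤))
          exact this
        rw [map_add, ← hform r', hzero r' hr', add_zero]
        exact (ker_range_ortho B b n hk' hmem).1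
      have hker : r ∈ LinearMap.ker (f ^ n) := by
        rw [LinearMap.mem_ker]
        obtain ⟨m, rfl⟩ : ∃ m, n = m + 1 := ⟨n - 1, by omega⟩
        rw [pow_succ, Module.End.mul_apply, h0, map_zero]
      have : r ∈ LinearMap.ker (f ^ n) ⊓ LinearMap.range (f ^ n) := ⟨hker, hr⟩
      rw [hn.inf_eq_bot] at this
      exact (Submodule.mem_bot F).mp this

end Odd

end Cfsg.Agent.Helper29.SelfDualSplit
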