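import Mathlib
import Cfsg.Agent.Helper29.SelfDualSplitB

set_option autoImplicit false
set_option linter.unusedSectionVars false

namespace Cfsg.Agent.Helper29.SelfDualSplit

open Module

section Tools

variable {F : Type*} [Field F] {G : Type*} [Group G]
variable {X : Type*} [AddCommGroup X] [Module F X]
variable (ρ : Representation F G X)

/-- Maschke: an invariant subspace has an invariant complement. -/
theorem exists_inv_compl [Finite G] [NeZero (Nat.card G : F)] (N : Submodule F X)
    (hN : ∀ g : G, ∀ x ∈ N, ρ g x ∈ N) :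
    ∃ T : Submodule F X, IsCompl N T ∧ ∀ g : G, ∀ x ∈ T, ρ g x ∈ T := by
  let W : Subrepresentation ρ := ⟨N, fun g v hv => hN g v hv⟩
  obtain ⟨W', hc⟩ := exists_isCompl W
  refine ⟨W'.toSubmodule, ⟨?_, ?_⟩, fun g x hx => W'.apply_mem_toSubmodule g hx⟩
  · rw [disjoint_iff]
    exact congrArg Subrepresentation.toSubmodule hc.inf_eq_bot
  · rw [codisjoint_iff]
    exact congrArg Subrepresentation.toSubmodule hc.sup_eq_top

theorem projection_comm {N M : Submodule F X} (hc : IsCompl N M)
    (hN : ∀ g : G, ∀ x ∈ N, ρ g x ∈ N) (hM : ∀ g : G, ∀ x ∈ M, ρ g x ∈ M) (g : G) (x : X) :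
    N.projection M hc (ρ g x) = ρ g (N.projection M hc x) := by
  conv_lhs => rw [← Submodule.projection_add_projection_eq_self hc x]
  rw [map_add, map_add,
    Submodule.projection_apply_of_mem_left hc (hN g _ (Submodule.projection_apply_mem hc x)),
    Submodule.projection_apply_of_mem_right hc (hM g _ (Submodule.projection_apply_mem hc.symm x)),
    add_zero]

/-- Glue two forms along an invariant decomposition. -/
theorem combine {N M : Submodule F X} (hc : IsCompl N M)
    (hN : ∀ g : G, ∀ x ∈ N, ρ g x ∈ N) (hM : ∀ g : G, ∀ x ∈ M, ρ g x ∈ M)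
    (A₁ A₂ : LinearMap.BilinForm F X)
    (alt₁ : ∀ x ∈ N, A₁ x x = 0)
    (inv₁ : ∀ g : G, ∀ x ∈ N, ∀ y ∈ N, A₁ (ρ g x) (ρ g y) = A₁ x y)
    (nd₁ : ∀ x ∈ N, (∀ y ∈ N, A₁ x y = 0) → x = 0)
    (alt₂ : ∀ x ∈ M, A₂ x x = 0)
    (inv₂ : ∀ g : G, ∀ x ∈ M, ∀ y ∈ M, A₂ (ρ g x) (ρ g y) = A₂ x y)
    (nd₂ : ∀ x ∈ M, (∀ y ∈ M, A₂ x y = 0) → x = 0) :
    ∃ A : LinearMap.BilinForm F X, (∀ x, A x x = 0) ∧
      (∀ g : G, ∀ x y, A (ρ g x) (ρ g y) = A x y) ∧ (∀ x, (∀ y, A x y = 0) → x = 0) := by
  set P := N.projection M hc with hP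
  set Q := M.projection N hc.symm with hQ
  have hPm : ∀ x, P x ∈ N := fun x => Submodule.projection_apply_mem hc x
  have hQm : ∀ x, Q x ∈ M := fun x => Submodule.projection_apply_mem hc.symm x
  refine ⟨A₁.compl₁₂ P P + A₂.compl₁₂ Q Q, ?_, ?_, ?_⟩
  · intro x
    simp only [LinearMap.add_apply, LinearMap.compl₁₂_apply]
    rw [alt₁ _ (hPm x), alt₂ _ (hQm x), add_zero]
  · intro g x y
    simp only [LinearMap.add_apply, LinearMap.compl₁₂_apply]
    rw [hP, hQ, projection_comm ρ hc hN hM, projection_comm ρ hc hN hM,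
      projection_comm ρ hc.symm hM hN, projection_comm ρ hc.symm hM hN, ← hP, ← hQ,
      inv₁ g _ (hPm x) _ (hPm y), inv₂ g _ (hQm x) _ (hQm y)]
  · intro x hx
    have h1 : P x = 0 := by
      apply nd₁ _ (hPm x)
      intro y hy
      have := hx y
      simp only [LinearMap.add_apply, LinearMap.compl₁₂_apply] at this
      rw [hP, Submodule.projection_apply_of_mem_left hc hy, hQ,
        Submodule.projection_apply_of_mem_right hc.symm hy, map_zero, add_zero] at this
      exact this
    have h2 : Q x = 0 := by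
      apply nd₂ _ (hQm x)
      intro y hy
      have := hx y
      simp only [LinearMap.add_apply, LinearMap.compl₁₂_apply] at this
      rw [hQ, Submodule.projection_apply_of_mem_left hc.symm hy, hP,
        Submodule.projection_apply_of_mem_right hc hy, map_zero, zero_add] at this
      exact this
    rw [← Submodule.projection_add_projection_eq_self hc x, ← hP, ← hQ, h1, h2, add_zero]

end Tools

section Tools2

variable {F : Type*} [Field F] {G : Type*} [Group G]
variable {X : Type*} [AddCommGroup X] [Module F X]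
variable (ρ : Representation F G X)

/-- Extend a form on an invariant subspace to the whole space. -/
theorem extend_form (M : Submodule F X) (hM : ∀ g : G, ∀ x ∈ M, ρ g x ∈ M)
    (A' : LinearMap.BilinForm F M) (alt : ∀ x, A' x x = 0)
    (inv : ∀ g : G, ∀ x y : M, A' ⟨ρ g x, hM g x x.2⟩ ⟨ρ g y, hM g y y.2⟩ = A' x y)
    (nd : ∀ x, (∀ y, A' x y = 0) → x = 0) :
    ∃ A : LinearMap.BilinForm F X, (∀ x, A x x = 0) ∧
      (∀ g : G, ∀ x ∈ M, ∀ y ∈ M, A (ρ g x) (ρ g y) = A x y) ∧
      (∀ x ∈ M, (∀ y ∈ M, A x y = 0) → x = 0) := by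
  obtain ⟨T, hc⟩ := Submodule.exists_isCompl M
  set π := M.projectionOnto T hc with hπ
  have hπm : ∀ x (hx : x ∈ M), π x = ⟨x, hx⟩ := fun x hx =>
    Submodule.projectionOnto_apply_of_mem_left hc hx
  refine ⟨A'.compl₁₂ π π, ?_, ?_, ?_⟩
  · intro x
    simp only [LinearMap.compl₁₂_apply]
    exact alt _
  · intro g x hx y hy
    simp only [LinearMap.compl₁₂_apply]
    rw [hπm _ (hM g x hx), hπm _ (hM g y hy), hπm x hx, hπm y hy]
    exact inv g ⟨x, hx⟩ ⟨y, hy⟩
  · intro x hx h
    have : (⟨x, hx⟩ : M) = 0 := by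
      apply nd
      intro y
      have := h y y.2
      simp only [LinearMap.compl₁₂_apply] at this
      rw [hπm x hx, hπm y y.2] at this
      exact this
    exact congrArg Subtype.val this

variable [Fintype G]

theorem sum_rho_fixed (x : X) (h : G) : ρ h (∑ g : G, ρ g x) = ∑ g : G, ρ g x := by
  rw [map_sum]
  simp only [← Module.End.mul_apply, ← map_mul]
  exact Fintype.sum_bijective (fun g => h * g) (Group.mulLeft_bijective h) _ _ (fun g => rfl)

theorem card_smul_eq_sum (x : X) (hx : ∑ g : G, ρ g x = 0) :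
    (Fintype.card G : F) • x = ∑ g : G, (x - ρ g x) := by
  rw [Finset.sum_sub_distrib, hx, sub_zero, Finset.sum_const, Finset.card_univ, Nat.cast_smul_eq_nsmul]

end Tools2

section Char2

variable {F : Type*} [Field F] {G : Type*} [Group G] [Fintype G]
variable {X : Type*} [AddCommGroup X] [Module F X]
variable (ρ : Representation F G X) (B : LinearMap.BilinForm F X)
variable (hchar : (2 : F) = 0) (hcard : (Fintype.card G : F) ≠ 0)
  (hinv : ∀ g : G, ∀ x y : X, B (ρ g x) (ρ g y) = B x y)

include hchar in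
theorem add_self_eq_zero' (c : F) : c + c = 0 := by
  rw [← two_mul, hchar, zero_mul]

include hchar in
theorem neg_eq_self (x : X) : -x = x := by
  have : x + x = 0 := by rw [← two_smul F x, hchar, zero_smul]
  exact neg_eq_of_add_eq_zero_left this

include hchar hcard hinv in
/-- The `q`-argument: a symmetric invariant form on a fixed-point-free module in characteristic 2
is alternating. -/
theorem alt_of_symm (Y : Submodule F X) (hY : ∀ g : G, ∀ x ∈ Y, ρ g x ∈ Y)
    (hfix : ∀ x ∈ Y, (∀ g : G, ρ g x = x) → x = 0)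
    (hsymm : ∀ x ∈ Y, ∀ y ∈ Y, B x y = B y x) (y : X) (hy : y ∈ Y) : B y y = 0 := by
  have hsum : ∑ g : G, ρ g y = 0 :=
    hfix _ (Submodule.sum_mem _ (fun g _ => hY g y hy)) (sum_rho_fixed ρ y)
  have key : (∑ g : G, (y - ρ g y)) ∈ Y ∧
      B (∑ g : G, (y - ρ g y)) (∑ g : G, (y - ρ g y)) = 0 := by
    apply Finset.sum_induction (fun g => y - ρ g y) (fun u => u ∈ Y ∧ B u u = 0)
    · rintro a c ⟨ha, ha0⟩ ⟨hc, hc0⟩
      refine ⟨Y.add_mem ha hc, ?_⟩
      simp only [map_add, LinearMap.add_apply, ha0, hc0, hsymm a ha c hc, zero_add, add_zero]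
      exact add_self_eq_zero' hchar _
    · exact ⟨Y.zero_mem, by simp⟩
    · intro g _
      refine ⟨Y.sub_mem hy (hY g y hy), ?_⟩
      simp only [map_sub, LinearMap.sub_apply, hinv, hsymm _ (hY g y hy) y hy]
      have := add_self_eq_zero' hchar (B y y - B y (ρ g y))
      linear_combination this
  rw [← card_smul_eq_sum ρ y hsum] at key
  have := key.2
  simp only [map_smul, LinearMap.smul_apply, smul_eq_mul] at this
  rcases mul_eq_zero.mp this with h | h
  · exact absurd h hcard
  rcases mul_eq_zero.mp h with h | h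
  · exact absurd h hcard
  exact h

end Char2

end Cfsg.Agent.Helper29.SelfDualSplit
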