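import Mathlib
import Cfsg.Agent.Helper29.SelfDualSplitC

set_option autoImplicit false
set_option linter.unusedSectionVars false

namespace Cfsg.Agent.Helper29.SelfDualSplit

open Module

section Stable

variable {F : Type*} [Field F] {G : Type*} [Group G]
variable {X : Type*} [AddCommGroup X] [Module F X] [FiniteDimensional F X]
variable (ρ : Representation F G X) (B : LinearMap.BilinForm F X) (b : B.Nondegenerate)
variable (hinv : ∀ g : G, ∀ x y : X, B (ρ g x) (ρ g y) = B x y)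

/-- Subspaces stable under `G` and both asymmetries. -/
def Stable (Y : Submodule F X) : Prop :=
  (∀ g : G, ∀ x ∈ Y, ρ g x ∈ Y) ∧ (∀ x ∈ Y, asymL B b x ∈ Y) ∧ (∀ x ∈ Y, asymR B b x ∈ Y)

theorem stable_top : Stable ρ B b ⊤ :=
  ⟨fun _ _ _ => Submodule.mem_top, fun _ _ => Submodule.mem_top, fun _ _ => Submodule.mem_top⟩

theorem stable_inf {Y Z : Submodule F X} (hY : Stable ρ B b Y) (hZ : Stable ρ B b Z) :
    Stable ρ B b (Y ⊓ Z) :=
  ⟨fun g x hx => ⟨hY.1 g x hx.1, hZ.1 g x hx.2⟩, fun x hx => ⟨hY.2.1 x hx.1, hZ.2.1 x hx.2⟩,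
    fun x hx => ⟨hY.2.2 x hx.1, hZ.2.2 x hx.2⟩⟩

include hinv in
theorem orthogonal_inv {Y : Submodule F X} (hY : ∀ g : G, ∀ x ∈ Y, ρ g x ∈ Y) (g : G) (x : X)
    (hx : x ∈ B.orthogonal Y) : ρ g x ∈ B.orthogonal Y := by
  intro y hy
  change B y (ρ g x) = 0
  rw [inv_right B ρ hinv]
  exact hx _ (hY g⁻¹ y hy)

include hinv in
theorem stable_orthogonal {Y : Submodule F X} (hY : Stable ρ B b Y) :
    Stable ρ B b (B.orthogonal Y) := by
  refine ⟨orthogonal_inv ρ B hinv hY.1, ?_, ?_⟩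
  · intro x hx y hy
    change B y (asymL B b x) = 0
    rw [asymL_adj']
    exact hx _ (hY.2.2 y hy)
  · intro x hx y hy
    change B y (asymR B b x) = 0
    rw [← asymL_adj]
    exact hx _ (hY.2.1 y hy)

include hinv in
theorem stable_ker : Stable ρ B b (LinearMap.ker (1 + asymL B b)) := by
  refine ⟨?_, ?_, ?_⟩
  · intro g x hx
    rw [LinearMap.mem_ker] at hx ⊢
    rw [one_add_comm B b ρ hinv, hx, map_zero]
  · intro x hx
    rw [LinearMap.mem_ker] at hx ⊢
    have : (1 + asymL B b) (asymL B b x) = asymL B b ((1 + asymL B b) x) := by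
      simp only [LinearMap.add_apply, Module.End.one_apply, map_add]
    rw [this, hx, map_zero]
  · intro x hx
    rw [LinearMap.mem_ker] at hx ⊢
    have := (commute_asymR_one_add B b).eq
    have h2 : (1 + asymL B b) (asymR B b x) = asymR B b ((1 + asymL B b) x) := by
      rw [← Module.End.mul_apply, ← Module.End.mul_apply, this]
    rw [h2, hx, map_zero]

/-- For a `β`-stable `Y`, the right orthogonal is also left orthogonal. -/
theorem orth_left {Y : Submodule F X} (hY : ∀ x ∈ Y, asymL B b x ∈ Y) {x y : X}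
    (hx : x ∈ B.orthogonal Y) (hy : y ∈ Y) : B x y = 0 := by
  rw [← asymL_spec B b y x]
  exact hx _ (hY y hy)

/-- A minimal nonzero stable subspace. -/
theorem exists_min_stable [Nontrivial X] :
    ∃ Y : Submodule F X, Y ≠ ⊥ ∧ Stable ρ B b Y ∧
      ∀ Z : Submodule F X, Stable ρ B b Z → Z ≤ Y → Z = ⊥ ∨ Z = Y := by
  have hne : {Y : Submodule F X | Y ≠ ⊥ ∧ Stable ρ B b Y}.Nonempty :=
    ⟨⊤, top_ne_bot, stable_top ρ B b⟩
  obtain ⟨Y, ⟨hY0, hYs⟩, hmin⟩ := wellFounded_lt.has_min _ hne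
  refine ⟨Y, hY0, hYs, fun Z hZ hZY => ?_⟩
  by_cases hZ0 : Z = ⊥
  · exact Or.inl hZ0
  · right
    by_contra hne
    exact hmin Z ⟨hZ0, hZ⟩ (lt_of_le_of_ne hZY hne)

end Stable

end Cfsg.Agent.Helper29.SelfDualSplit
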