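import Mathlib
import Cfsg.Agent.Helper29.SelfDualSplitC
import Cfsg.Agent.Helper29.SelfDualSplitD

set_option autoImplicit false
set_option linter.unusedSectionVars false

namespace Cfsg.Agent.Helper29.SelfDualSplit

open Module

section Cases

variable {F : Type*} [Field F] {G : Type*} [Group G] [Finite G]
variable {X : Type*} [AddCommGroup X] [Module F X] [FiniteDimensional F X]
variable (ρ : Representation F G X) (B : LinearMap.BilinForm F X) (b : B.Nondegenerate)
variable (hinv : ∀ g : G, ∀ x y : X, B (ρ g x) (ρ g y) = B x y)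
variable (hchar : (2 : F) = 0) (hcard : (Nat.card G : F) ≠ 0)
variable (hfix : ∀ x : X, (∀ g : G, ρ g x = x) → x = 0)

/-- The shape of the conclusion of the three cases. -/
def Good (N : Submodule F X) : Prop :=
  N ⊓ B.orthogonal N = ⊥ ∧
    ∃ A₁ : LinearMap.BilinForm F X, (∀ x ∈ N, A₁ x x = 0) ∧
      (∀ g : G, ∀ x ∈ N, ∀ y ∈ N, A₁ (ρ g x) (ρ g y) = A₁ x y) ∧
      (∀ x ∈ N, (∀ y ∈ N, A₁ x y = 0) → x = 0)

include hinv hchar hcard hfix in
theorem case1a {Y : Submodule F X} (hYs : Stable ρ B b Y) (h : Y ⊓ B.orthogonal Y = ⊥)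
    (h' : Y ≤ LinearMap.ker (1 + asymL B b)) : Good ρ B Y := by
  classical
  let _ : Fintype G := Fintype.ofFinite G
  have hcard' : (Fintype.card G : F) ≠ 0 := by rwa [← Nat.card_eq_fintype_card]
  have hsymm : ∀ x ∈ Y, ∀ y : X, B x y = B y x := by
    intro x hx y
    have hk := h' hx
    rw [LinearMap.mem_ker, LinearMap.add_apply, Module.End.one_apply] at hk
    have hβ : asymL B b x = x :=
      (neg_eq_of_add_eq_zero_right hk).symm.trans (neg_eq_self hchar x)
    rw [← asymL_spec B b x y, hβ]
  refine ⟨h, B, ?_, ?_, ?_⟩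
  · intro y hy
    exact alt_of_symm ρ B hchar hcard' hinv Y hYs.1 (fun x _ hx => hfix x hx)
      (fun x hx y _ => hsymm x hx y) y hy
  · intro g x _ y _
    exact hinv g x y
  · intro x hx hzero
    have : x ∈ Y ⊓ B.orthogonal Y := by
      refine ⟨hx, fun y hy => ?_⟩
      change B y x = 0
      rw [← hsymm x hx y]
      exact hzero y hy
    rw [h] at this
    exact (Submodule.mem_bot F).mp this

include hinv hchar in
theorem case1b {Y : Submodule F X} (hYs : Stable ρ B b Y) (h : Y ⊓ B.orthogonal Y = ⊥)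
    (h' : LinearMap.ker (1 + asymL B b) ⊓ Y = ⊥) : Good ρ B Y := by
  refine ⟨h, B + B.flip, ?_, ?_, ?_⟩
  · intro x _
    simp only [LinearMap.add_apply, LinearMap.BilinForm.flip_apply]
    exact add_self_eq_zero' hchar _
  · intro g x _ y _
    simp only [LinearMap.add_apply, LinearMap.BilinForm.flip_apply, hinv]
  · intro x hx hzero
    set w := (1 + asymL B b) x with hw
    have hwY : w ∈ Y := by
      rw [hw, LinearMap.add_apply, Module.End.one_apply]
      exact Y.add_mem hx (hYs.2.1 x hx)
    have hwz : ∀ y ∈ Y, B w y = 0 := by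
      intro y hy
      have := hzero y hy
      simp only [LinearMap.add_apply, LinearMap.BilinForm.flip_apply] at this
      rw [hw, LinearMap.add_apply, Module.End.one_apply, map_add, LinearMap.add_apply, asymL_spec]
      exact this
    have hγ : asymR B b w ∈ Y ⊓ B.orthogonal Y := by
      refine ⟨hYs.2.2 w hwY, fun y hy => ?_⟩
      change B y (asymR B b w) = 0
      rw [asymR_spec]
      exact hwz y hy
    rw [h, Submodule.mem_bot] at hγ
    have hw0 : w = 0 := by
      rw [← asymL_asymR B b w, hγ, map_zero]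
    have : x ∈ LinearMap.ker (1 + asymL B b) ⊓ Y := ⟨LinearMap.mem_ker.mpr (by rw [← hw, hw0]), hx⟩
    rw [h'] at this
    exact (Submodule.mem_bot F).mp this

end Cases

section Case2

variable {F : Type*} [Field F] {G : Type*} [Group G] [Finite G]
variable {X : Type*} [AddCommGroup X] [Module F X] [FiniteDimensional F X]
variable (ρ : Representation F G X) (B : LinearMap.BilinForm F X) (b : B.Nondegenerate)
variable (hinv : ∀ g : G, ∀ x y : X, B (ρ g x) (ρ g y) = B x y)
variable (hchar : (2 : F) = 0) (hcard : (Nat.card G : F) ≠ 0)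

include hinv hchar hcard in
theorem case2 {Y : Submodule F X} (hYs : Stable ρ B b Y) (h : Y ≤ B.orthogonal Y) :
    ∃ N : Submodule F X, Y ≤ N ∧ (∀ g : G, ∀ x ∈ N, ρ g x ∈ N) ∧ Good ρ B N := by
  have : NeZero (Nat.card G : F) := ⟨hcard⟩
  have hOinv := orthogonal_inv ρ B hinv hYs.1
  obtain ⟨T, hc, hT⟩ := exists_inv_compl ρ (B.orthogonal Y) hOinv
  set q' := (B.orthogonal Y).projection T hc with hq'
  set q := T.projection (B.orthogonal Y) hc.symm with hq
  have hq'Y : ∀ y ∈ Y, q' y = y := fun y hy => Submodule.projection_apply_of_mem_left hc (h hy)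
  have hqY : ∀ y ∈ Y, q y = 0 := fun y hy => Submodule.projection_apply_of_mem_right hc.symm (h hy)
  have hqT : ∀ t ∈ T, q t = t := fun t ht => Submodule.projection_apply_of_mem_left hc.symm ht
  have hq'T : ∀ t ∈ T, q' t = 0 := fun t ht => Submodule.projection_apply_of_mem_right hc ht
  have hq'm : ∀ z, q' z ∈ B.orthogonal Y := fun z => Submodule.projection_apply_mem hc z
  have hqm : ∀ z, q z ∈ T := fun z => Submodule.projection_apply_mem hc.symm z
  have hsum : ∀ z, q' z + q z = z := fun z => Submodule.projection_add_projection_eq_self hc z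
  have hT0 : ∀ t ∈ T, (∀ y' ∈ Y, B y' t = 0) → t = 0 := by
    intro t ht ht'
    have : t ∈ B.orthogonal Y ⊓ T := ⟨ht', ht⟩
    rw [hc.inf_eq_bot] at this
    exact (Submodule.mem_bot F).mp this
  have hYY : ∀ y ∈ Y, ∀ y' ∈ Y, B y' y = 0 := fun y hy y' hy' => h hy y' hy'
  refine ⟨Y ⊔ T, le_sup_left, ?_, ?_, B.compl₁₂ q' q + (B.compl₁₂ q' q).flip, ?_, ?_, ?_⟩
  · intro g x hx
    obtain ⟨y, hy, t, ht, rfl⟩ := Submodule.mem_sup.mp hx
    rw [map_add]
    exact Submodule.add_mem_sup (hYs.1 g y hy) (hT g t ht)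
  · rw [eq_bot_iff]
    rintro x ⟨hxN, hxO⟩
    obtain ⟨y, hy, t, ht, rfl⟩ := Submodule.mem_sup.mp hxN
    have ht0 : t = 0 := by
      apply hT0 t ht
      intro y' hy'
      have : B y' (y + t) = 0 := hxO y' (Submodule.mem_sup_left hy')
      rw [map_add, hYY y hy y' hy', zero_add] at this
      exact this
    subst ht0
    rw [add_zero] at hxO ⊢
    rw [Submodule.mem_bot]
    apply b.2
    intro z
    rw [← hsum z, map_add, LinearMap.add_apply, orth_left B b hYs.2.1 (hq'm z) hy, zero_add]
    exact hxO (q z) (Submodule.mem_sup_right (hqm z))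
  · intro x _
    simp only [LinearMap.add_apply, LinearMap.flip_apply, LinearMap.compl₁₂_apply]
    exact add_self_eq_zero' hchar _
  · intro g x _ y _
    simp only [LinearMap.add_apply, LinearMap.flip_apply, LinearMap.compl₁₂_apply]
    rw [hq', hq, projection_comm ρ hc hOinv hT, projection_comm ρ hc hOinv hT,
      projection_comm ρ hc.symm hT hOinv, projection_comm ρ hc.symm hT hOinv, hinv, hinv]
  · intro x hxN hzero
    obtain ⟨y, hy, t, ht, rfl⟩ := Submodule.mem_sup.mp hxN
    have ht0 : t = 0 := by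
      apply hT0 t ht
      intro y' hy'
      have := hzero y' (Submodule.mem_sup_left hy')
      simp only [LinearMap.add_apply, LinearMap.flip_apply, LinearMap.compl₁₂_apply,
        map_add] at this
      rw [hqY y' hy', hq'Y y' hy', hqY y hy, hqT t ht] at this
      simp only [map_zero, zero_add] at this
      exact this
    subst ht0
    rw [add_zero] at hzero ⊢
    apply b.1
    intro z
    rw [← hsum z, map_add, (hq'm z) y hy, zero_add]
    have := hzero (q z) (Submodule.mem_sup_right (hqm z))
    simp only [LinearMap.add_apply, LinearMap.flip_apply, LinearMap.compl₁₂_apply]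
      at this
    rw [hq'Y y hy, hqT _ (hqm z), hq'T _ (hqm z), hqY y hy, map_zero, add_zero] at this
    exact this

end Case2

end Cfsg.Agent.Helper29.SelfDualSplit
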