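import Mathlib
import Cfsg.Agent.Helper29.SelfDualSplitE

set_option autoImplicit false
set_option linter.unusedSectionVars false

namespace Cfsg.Agent.Helper29.SelfDualSplit

open Module

universe u uF uG

section Induction

variable {F : Type uF} [Field F] {G : Type uG} [Group G] [Finite G]

/-- The statement proved by induction on the dimension. -/
def AltAll (F : Type uF) [Field F] (G : Type uG) [Group G] (n : ℕ) : Prop :=
  ∀ (X : Type u) [AddCommGroup X] [Module F X] [FiniteDimensional F X]
    (ρ : Representation F G X) (B : LinearMap.BilinForm F X), finrank F X = n →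
    B.Nondegenerate → (∀ g : G, ∀ x y : X, B (ρ g x) (ρ g y) = B x y) →
    (∀ x : X, (∀ g : G, ρ g x = x) → x = 0) →
    ∃ A : LinearMap.BilinForm F X, (∀ x, A x x = 0) ∧
      (∀ g : G, ∀ x y, A (ρ g x) (ρ g y) = A x y) ∧ (∀ x, (∀ y, A x y = 0) → x = 0)

variable {X : Type u} [AddCommGroup X] [Module F X] [FiniteDimensional F X]
variable (ρ : Representation F G X) (B : LinearMap.BilinForm F X)
variable (hinv : ∀ g : G, ∀ x y : X, B (ρ g x) (ρ g y) = B x y)

include hinv in
/-- Apply the inductive statement to an invariant subspace on which `B` is nondegenerate. -/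
theorem alt_on_sub (M : Submodule F X) (H : AltAll.{u} F G (finrank F M))
    (hM : ∀ g : G, ∀ x ∈ M, ρ g x ∈ M)
    (hsep : ∀ x ∈ M, (∀ m ∈ M, B m x = 0) → x = 0)
    (hfix : ∀ x ∈ M, (∀ g : G, ρ g x = x) → x = 0) :
    ∃ A : LinearMap.BilinForm F X, (∀ x, A x x = 0) ∧
      (∀ g : G, ∀ x ∈ M, ∀ y ∈ M, A (ρ g x) (ρ g y) = A x y) ∧
      (∀ x ∈ M, (∀ y ∈ M, A x y = 0) → x = 0) := by
  let W : Subrepresentation ρ := ⟨M, fun g v hv => hM g v hv⟩
  have hnd : (B.restrict M).Nondegenerate := by
    apply LinearMap.BilinForm.Nondegenerate.ofSeparatingRight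
    intro y hy
    have : (y : X) = 0 := hsep y y.2 (fun m hm => hy ⟨m, hm⟩)
    exact Subtype.ext this
  obtain ⟨A', alt, inv, nd⟩ := H M W.toRepresentation (B.restrict M) rfl hnd
    (fun g x y => hinv g x y)
    (fun x hx => Subtype.ext (hfix x x.2 (fun g => congrArg Subtype.val (hx g))))
  exact extend_form ρ M hM A' alt (fun g x y => inv g x y) nd

end Induction

end Cfsg.Agent.Helper29.SelfDualSplit
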