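import Mathlib
import Cfsg.Agent.Helper29.SelfDualSplitF

set_option autoImplicit false
set_option linter.unusedSectionVars false

namespace Cfsg.Agent.Helper29.SelfDualSplit

open Module

universe u uF uG

section Main

variable {F : Type uF} [Field F] {G : Type uG} [Group G] [Finite G]
variable (hchar : (2 : F) = 0) (hcard : (Nat.card G : F) ≠ 0)

section
variable {X : Type u} [AddCommGroup X] [Module F X] [FiniteDimensional F X]
variable (ρ : Representation F G X) (B : LinearMap.BilinForm F X) (b : B.Nondegenerate)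
variable (hinv : ∀ g : G, ∀ x y : X, B (ρ g x) (ρ g y) = B x y)
variable (hfix : ∀ x : X, (∀ g : G, ρ g x = x) → x = 0)

include hchar hcard b hinv hfix in
theorem exists_good_sub [Nontrivial X] :
    ∃ N : Submodule F X, N ≠ ⊥ ∧ (∀ g : G, ∀ x ∈ N, ρ g x ∈ N) ∧ Good ρ B N := by
  obtain ⟨Y, hY0, hYs, hmin⟩ := exists_min_stable ρ B b
  rcases hmin (Y ⊓ B.orthogonal Y) (stable_inf ρ B b hYs (stable_orthogonal ρ B b hinv hYs))
    inf_le_left with h | h
  · rcases hmin (LinearMap.ker (1 + asymL B b) ⊓ Y)
      (stable_inf ρ B b (stable_ker ρ B b hinv) hYs) inf_le_right with h' | h'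
    · exact ⟨Y, hY0, hYs.1, case1b ρ B b hinv hchar hYs h h'⟩
    · exact ⟨Y, hY0, hYs.1, case1a ρ B b hinv hchar hcard hfix hYs h (inf_eq_right.mp h')⟩
  · obtain ⟨N, hYN, hN, hgood⟩ := case2 ρ B b hinv hchar hcard hYs (inf_eq_left.mp h)
    refine ⟨N, ?_, hN, hgood⟩
    intro h0
    apply hY0
    rw [eq_bot_iff, ← h0]
    exact hYN

end

include hchar hcard in
theorem altAll : ∀ n : ℕ, AltAll.{u} F G n := by
  intro n
  induction n using Nat.strong_induction_on with
  | _ n ih =>
    intro X _ _ _ ρ B hn b hinv hfix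
    by_cases h0 : n = 0
    · subst h0
      have : Subsingleton X := Module.finrank_zero_iff.mp hn
      exact ⟨0, fun x => by simp, fun g x y => by simp, fun x _ => Subsingleton.elim _ _⟩
    have hpos : 0 < finrank F X := by omega
    have : Nontrivial X := Module.nontrivial_of_finrank_pos hpos
    obtain ⟨N, hN0, hN, hdisj, A₁, alt₁, inv₁, nd₁⟩ :=
      exists_good_sub hchar hcard ρ B b hinv hfix
    have hdim : finrank F (B.orthogonal N) = finrank F X - finrank F N :=
      LinearMap.BilinForm.finrank_orthogonal b N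
    have hle : finrank F N ≤ finrank F X := Submodule.finrank_le N
    have hc : IsCompl N (B.orthogonal N) := by
      rw [Submodule.isCompl_iff_disjoint _ _ (by omega), disjoint_iff]
      exact hdisj
    have hNpos : 0 < finrank F N := by
      rw [Module.finrank_pos_iff]
      exact Submodule.nontrivial_iff_ne_bot.mpr hN0
    have hM := orthogonal_inv ρ B hinv hN
    have hsep : ∀ x ∈ B.orthogonal N, (∀ m ∈ B.orthogonal N, B m x = 0) → x = 0 := by
      intro x hx hzero
      apply b.2
      intro z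
      obtain ⟨a, ha, c, hc', rfl⟩ : ∃ a ∈ N, ∃ c ∈ B.orthogonal N, a + c = z :=
        Submodule.mem_sup.mp (hc.sup_eq_top ▸ (Submodule.mem_top : z ∈ ⊤))
      rw [map_add, LinearMap.add_apply, hx a ha, hzero c hc', add_zero]
    obtain ⟨A₂, alt₂, inv₂, nd₂⟩ := alt_on_sub ρ B hinv (B.orthogonal N)
      (ih _ (by omega)) hM hsep (fun x _ hx => hfix x hx)
    exact combine ρ hc hN hM A₁ A₂ alt₁ inv₁ nd₁ (fun x _ => alt₂ x) inv₂ nd₂

end Main

end Cfsg.Agent.Helper29.SelfDualSplit
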