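import Mathlib
import Cfsg.Agent.Helper29.SelfDualSplitG

set_option autoImplicit false
set_option linter.unusedSectionVars false

namespace Cfsg.Agent.Helper29.SelfDualSplit

open Module

section Two

variable {F : Type*} [Field F] {G : Type*} [Group G] [Finite G]
variable {X : Type*} [AddCommGroup X] [Module F X] [FiniteDimensional F X]

/-- A symmetric form on the whole space which is nondegenerate on a given subspace. -/
theorem exists_symm_form (W : Submodule F X) :
    ∃ S : LinearMap.BilinForm F X, (∀ x y, S x y = S y x) ∧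
      (∀ x ∈ W, (∀ y ∈ W, S x y = 0) → x = 0) := by
  classical
  obtain ⟨T, hc⟩ := Submodule.exists_isCompl W
  set π := W.projectionOnto T hc with hπ
  have hπm : ∀ x (hx : x ∈ W), π x = ⟨x, hx⟩ := fun x hx =>
    Submodule.projectionOnto_apply_of_mem_left hc hx
  let bs := Module.finBasis F W
  let φ : Fin (finrank F W) → X →ₗ[F] F := fun i => (bs.coord i).comp π
  refine ⟨∑ i, LinearMap.BilinForm.linMulLin (φ i) (φ i), ?_, ?_⟩
  · intro x y
    simp only [LinearMap.sum_apply, LinearMap.BilinForm.linMulLin_apply]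
    exact Finset.sum_congr rfl (fun i _ => mul_comm _ _)
  · intro x hx hzero
    have : (⟨x, hx⟩ : W) = 0 := by
      apply bs.ext_elem
      intro i
      have := hzero (bs i) (bs i).2
      simp only [LinearMap.sum_apply, LinearMap.BilinForm.linMulLin_apply, φ,
        LinearMap.comp_apply, hπm x hx, hπm _ (bs i).2, Subtype.coe_eta,
        Module.Basis.coord_apply, Module.Basis.repr_self] at this
      rw [Finset.sum_eq_single i] at this
      · simpa using this
      · intro j _ hji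
        simp [hji.symm]
      · intro h
        exact absurd (Finset.mem_univ i) h
    exact congrArg Subtype.val this

variable (ρ : Representation F G X) (B : LinearMap.BilinForm F X) (b : B.Nondegenerate)
variable (hinv : ∀ g : G, ∀ x y : X, B (ρ g x) (ρ g y) = B x y)
variable (hchar : (2 : F) = 0) (hcard : (Nat.card G : F) ≠ 0)

include b hinv hchar hcard in
/-- **The splitting in characteristic 2.** -/
theorem split_two :
    ∃ U W : Submodule F X, IsCompl U W ∧ (∀ g : G, ∀ u ∈ U, ρ g u ∈ U) ∧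
      (∀ g : G, ∀ w ∈ W, ρ g w ∈ W) ∧
      (∃ A : LinearMap.BilinForm F X, (∀ x : X, A x x = 0) ∧
        (∀ g : G, ∀ x ∈ U, ∀ y ∈ U, A (ρ g x) (ρ g y) = A x y) ∧
        (∀ x ∈ U, (∀ y ∈ U, A x y = 0) → x = 0)) ∧
      (∃ S : LinearMap.BilinForm F X, (∀ x y : X, S x y = S y x) ∧
        (∀ g : G, ∀ x ∈ W, ∀ y ∈ W, S (ρ g x) (ρ g y) = S x y) ∧
        (∀ x ∈ W, (∀ y ∈ W, S x y = 0) → x = 0)) ∧
      (∀ g : G, ∀ w ∈ W, ρ g w = w) := by
  classical
  let _ : Fintype G := Fintype.ofFinite G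
  have hcard' : (Fintype.card G : F) ≠ 0 := by rwa [← Nat.card_eq_fintype_card]
  have : NeZero (Nat.card G : F) := ⟨hcard⟩
  set W := ρ.invariants with hW
  have hWfix : ∀ g : G, ∀ w ∈ W, ρ g w = w := fun g w hw => hw g
  have hWinv : ∀ g : G, ∀ w ∈ W, ρ g w ∈ W := fun g w hw => by rw [hWfix g w hw]; exact hw
  obtain ⟨U, hc, hU⟩ := exists_inv_compl ρ W hWinv
  have hfix : ∀ x ∈ U, (∀ g : G, ρ g x = x) → x = 0 := by
    intro x hx hg
    have : x ∈ W ⊓ U := ⟨hg, hx⟩
    rw [hc.inf_eq_bot] at this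
    exact (Submodule.mem_bot F).mp this
  have horth : ∀ w ∈ W, ∀ u ∈ U, B w u = 0 := by
    intro w hw u hu
    have hsum : ∑ g : G, ρ g u = 0 :=
      hfix _ (Submodule.sum_mem _ (fun g _ => hU g u hu)) (sum_rho_fixed ρ u)
    have h1 : B w ((Fintype.card G : F) • u) = 0 := by
      rw [card_smul_eq_sum ρ u hsum, map_sum]
      apply Finset.sum_eq_zero
      intro g _
      rw [map_sub, inv_right B ρ hinv, hWfix g⁻¹ w hw, sub_self]
    rw [map_smul, smul_eq_mul] at h1
    exact (mul_eq_zero.mp h1).resolve_left hcard'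
  have hsep : ∀ x ∈ U, (∀ m ∈ U, B m x = 0) → x = 0 := by
    intro x hx hzero
    apply b.2
    intro z
    obtain ⟨w, hw, u, hu, rfl⟩ : ∃ w ∈ W, ∃ u ∈ U, w + u = z :=
      Submodule.mem_sup.mp (hc.sup_eq_top ▸ (Submodule.mem_top : z ∈ ⊤))
    rw [map_add, LinearMap.add_apply, horth w hw x hx, hzero u hu, add_zero]
  obtain ⟨A, alt, inv, nd⟩ := alt_on_sub ρ B hinv U (altAll hchar hcard _) hU hsep hfix
  obtain ⟨S, hS, hSnd⟩ := exists_symm_form W
  refine ⟨U, W, hc.symm, hU, hWinv, ⟨A, alt, inv, nd⟩, ⟨S, hS, ?_, hSnd⟩, hWfix⟩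
  intro g x hx y hy
  rw [hWfix g x hx, hWfix g y hy]

end Two

end Cfsg.Agent.Helper29.SelfDualSplit
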