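import Mathlib
import Cfsg.Agent.Helper29.SylMaxDefs

set_option autoImplicit false

/-!
# S2245 piece BACK
-/

namespace Cfsg.Agent.Helper29.SylMax

open MulAction Equiv
open scoped Pointwise

universe u v

variable {𝔾 : Type u} [Group 𝔾] {α : Type v} [Fintype α] [DecidableEq α] [MulAction 𝔾 α]

theorem backward (hA : Amb 𝔾 α) (hα : 5 ≤ Nat.card α) (R : Subgroup 𝔾)
    (hF : FixTrans (α := α) R) (hP : PrimTop (α := α) R) :
    ∃! M : Subgroup 𝔾, IsCoatom M ∧ R ≤ M := by
  obtain ⟨x₀, hfix, htr⟩ := hF
  -- the point stabilizer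
  have hne : ({x₀} : Set α).Nonempty := Set.singleton_nonempty x₀
  have hcne : ({x₀}ᶜ : Set α).Nonempty := by
    by_contra h
    rw [Set.not_nonempty_iff_eq_empty, Set.compl_empty_iff] at h
    have h1 : Nat.card α = ({x₀} : Set α).ncard := by
      rw [h, Set.ncard_univ]
    rw [Set.ncard_singleton] at h1
    omega
  have hcard : Nat.card α ≠ 2 * ({x₀} : Set α).ncard := by
    rw [Set.ncard_singleton]; omega
  have hco : IsCoatom (stabilizer 𝔾 ({x₀} : Set α)) := hA.coatom_stab _ hne hcne hcard
  have hRS : R ≤ stabilizer 𝔾 ({x₀} : Set α) := by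
    intro r hr
    rw [mem_stabilizer_iff, Set.smul_set_singleton, hfix r hr]
  refine ⟨stabilizer 𝔾 ({x₀} : Set α), ⟨hco, hRS⟩, ?_⟩
  rintro M ⟨hM, hRM⟩
  by_cases hx : x₀ ∈ fixedPoints M α
  · -- M fixes x₀
    have hle : M ≤ stabilizer 𝔾 ({x₀} : Set α) := by
      intro m hm
      rw [mem_stabilizer_iff, Set.smul_set_singleton]
      have := hx ⟨m, hm⟩
      simpa using congrArg (fun z => ({z} : Set α)) this
    rcases eq_or_lt_of_le hle with h | h
    · exact h
    · exact absurd (hM.2 _ h) hco.1
  · -- M is primitive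
    exfalso
    have hprim : IsPreprimitive M α := by
      apply IsPreprimitive.of_isTrivialBlock_of_notMem_fixedPoints hx
      intro B hxB hB
      by_cases hex : ∃ y ∈ B, y ≠ x₀
      · right
        obtain ⟨y, hyB, hy⟩ := hex
        apply Set.eq_univ_of_forall
        intro z
        by_cases hz : z = x₀
        · rw [hz]; exact hxB
        · obtain ⟨r, hr, hrz⟩ := htr y z hy hz
          -- r • B = B since x₀ ∈ both
          have hrB : (⟨r, hRM hr⟩ : M) • B = B := by
            apply isBlock_iff_smul_eq_of_nonempty.mp hB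
            refine ⟨x₀, ?_, hxB⟩
            have : x₀ = (⟨r, hRM hr⟩ : M) • x₀ := by
              show x₀ = r • x₀
              rw [hfix r hr]
            rw [this]
            exact Set.smul_mem_smul_set hxB
          rw [← hrB, ← hrz]
          exact Set.smul_mem_smul_set (a := (⟨r, hRM hr⟩ : M)) hyB
      · left
        push Not at hex
        intro a ha b hb
        rw [hex a ha, hex b hb]
    exact hM.1 (hP M hRM hprim)

end Cfsg.Agent.Helper29.SylMax
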