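import Mathlib
import Cfsg.Agent.Helper29.SylMaxDefs
import Cfsg.Agent.Helper7.SylMaxFIXS

set_option autoImplicit false

/-!
# S2245 piece FIXA (backup version, relative to FIXS)
-/

namespace Cfsg.Agent.Helper29.SylMax

open MulAction Equiv
open scoped Pointwise

universe u v

variable {α : Type v} [Fintype α] [DecidableEq α]

theorem exists_swap_mem_sylow (hα : 2 ≤ Nat.card α) (P : Sylow 2 (Perm α)) :
    ∃ a b : α, a ≠ b ∧ swap a b ∈ (P : Subgroup (Perm α)) := by
  have hnt : Nontrivial α := by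
    rw [← Finite.one_lt_card_iff_nontrivial]
    omega
  obtain ⟨a, b, hab⟩ := exists_pair_ne α
  have hP : IsPGroup 2 (Subgroup.zpowers (swap a b)) := by
    rw [IsPGroup.iff_card]
    refine ⟨1, ?_⟩
    rw [Nat.card_zpowers, Equiv.Perm.IsSwap.orderOf ⟨a, b, hab, rfl⟩]
    rfl
  obtain ⟨Q, hQ⟩ := hP.exists_le_sylow
  obtain ⟨g, hg⟩ := MulAction.exists_smul_eq (Perm α) Q P
  have hmem : g * swap a b * g⁻¹ ∈ (P : Subgroup (Perm α)) := by
    rw [← hg, Sylow.coe_subgroup_smul]
    rw [Subgroup.mem_pointwise_smul_iff_inv_smul_mem]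
    have : (MulAut.conj g)⁻¹ • (g * swap a b * g⁻¹) = swap a b := by
      simp [MulAut.smul_def, mul_assoc]
    rw [this]
    exact hQ (Subgroup.mem_zpowers _)
  refine ⟨g a, g b, fun h => hab (g.injective h), ?_⟩
  rw [Equiv.swap_apply_apply]
  exact hmem

theorem fixTrans_alt_of_perm (hα : 5 ≤ Nat.card α)
    (hS : ∀ P : Sylow 2 (Perm α), FixTrans (α := α) (P : Subgroup (Perm α)))
    (R : Sylow 2 (alternatingGroup α)) :
    FixTrans (α := α) (R : Subgroup (alternatingGroup α)) := by
  have hR' : IsPGroup 2 ((R : Subgroup (alternatingGroup α)).map (alternatingGroup α).subtype) :=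
    R.isPGroup'.map _
  obtain ⟨P, hP⟩ := hR'.exists_le_sylow
  -- even elements of `P` lie in `R`
  have hQ : IsPGroup 2 ((P : Subgroup (Perm α)).subgroupOf (alternatingGroup α)) :=
    P.isPGroup'.comap_subtype
  have hRQ : (R : Subgroup (alternatingGroup α)) ≤
      (P : Subgroup (Perm α)).subgroupOf (alternatingGroup α) := by
    intro r hr
    rw [Subgroup.mem_subgroupOf]
    exact hP (Subgroup.mem_map_of_mem _ hr)
  have hQR := R.is_maximal' hQ hRQ
  have heven : ∀ p : Perm α, p ∈ (P : Subgroup (Perm α)) → ∀ hp : p ∈ alternatingGroup α,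
      (⟨p, hp⟩ : alternatingGroup α) ∈ (R : Subgroup (alternatingGroup α)) := by
    intro p hpP hp
    rw [← hQR, Subgroup.mem_subgroupOf]
    exact hpP
  obtain ⟨x₀, hfix, htr⟩ := hS P
  obtain ⟨a, b, hab, hsw⟩ := exists_swap_mem_sylow (by omega) P
  have hax : a ≠ x₀ := by
    intro h
    have := hfix _ hsw
    rw [← h, Equiv.Perm.smul_def, Equiv.swap_apply_left] at this
    exact hab this.symm
  have hbx : b ≠ x₀ := by
    intro h
    have := hfix _ hsw
    rw [← h, Equiv.Perm.smul_def, Equiv.swap_apply_right] at this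
    exact hab this
  -- a point outside `{x₀, a, b}`
  obtain ⟨c, hcx, hca, hcb⟩ : ∃ c : α, c ≠ x₀ ∧ c ≠ a ∧ c ≠ b := by
    by_contra hcon
    push Not at hcon
    have hsub : (Finset.univ : Finset α) ⊆ {x₀, a, b} := by
      intro z _
      by_cases h1 : z = x₀
      · simp [h1]
      · by_cases h2 : z = a
        · simp [h2]
        · simp [hcon z h1 h2]
    have h1 := Finset.card_le_card hsub
    have h2 : ({x₀, a, b} : Finset α).card ≤ 3 := Finset.card_le_three
    rw [Finset.card_univ, ← Nat.card_eq_fintype_card] at h1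
    omega
  refine ⟨x₀, ?_, ?_⟩
  · intro r hr
    exact hfix (r : Perm α) (hP (Subgroup.mem_map_of_mem _ hr))
  · intro y z hy hz
    obtain ⟨p, hpP, hpy⟩ := htr y z hy hz
    by_cases hp : p ∈ alternatingGroup α
    · exact ⟨⟨p, hp⟩, heven p hpP hp, hpy⟩
    · obtain ⟨q, hqP, hqc⟩ := htr c y hcx hy
      have ht'P : q * swap a b * q⁻¹ ∈ (P : Subgroup (Perm α)) :=
        Subgroup.mul_mem _ (Subgroup.mul_mem _ hqP hsw) (Subgroup.inv_mem _ hqP)
      have ht'y : (q * swap a b * q⁻¹) y = y := by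
        have hqc' : q c = y := hqc
        have : q⁻¹ y = c := by rw [← hqc']; simp
        simp only [Equiv.Perm.mul_apply]
        rw [this, Equiv.swap_apply_of_ne_of_ne hca hcb, hqc']
      have hsp : Equiv.Perm.sign p = -1 := by
        rcases Int.units_eq_one_or (Equiv.Perm.sign p) with h | h
        · exact absurd (Equiv.Perm.mem_alternatingGroup.mpr h) hp
        · exact h
      have hmem : p * (q * swap a b * q⁻¹) ∈ alternatingGroup α := by
        rw [Equiv.Perm.mem_alternatingGroup]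
        simp only [Equiv.Perm.sign_mul, Equiv.Perm.sign_inv, Equiv.Perm.sign_swap hab, hsp]
        rcases Int.units_eq_one_or (Equiv.Perm.sign q) with h | h <;> rw [h] <;> decide
      refine ⟨⟨p * (q * swap a b * q⁻¹), hmem⟩,
        heven _ (Subgroup.mul_mem _ hpP ht'P) hmem, ?_⟩
      change (p * (q * swap a b * q⁻¹)) y = z
      rw [Equiv.Perm.mul_apply, ht'y]
      exact hpy

theorem fixTrans_alt' (k : ℕ) (hk : 2 ≤ k) (hα : Nat.card α = 2 ^ k + 1)
    (R : Sylow 2 (alternatingGroup α)) :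
    FixTrans (α := α) (R : Subgroup (alternatingGroup α)) := by
  have h5 : 5 ≤ Nat.card α := by
    have : 2 ^ 2 ≤ 2 ^ k := Nat.pow_le_pow_right (by norm_num) hk
    omega
  exact fixTrans_alt_of_perm h5 (fun P => Cfsg.Agent.Helper7.SylMax.fixTrans_perm k hk hα P) R

end Cfsg.Agent.Helper29.SylMax
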