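import Mathlib
import Cfsg.Agent.Helper29.SylMaxDefs

set_option autoImplicit false

/-!
# S2245 piece LAB: the labelling attached to a block
-/

namespace Cfsg.Agent.Helper29.SylMax

open MulAction Equiv
open scoped Pointwise

universe u v

variable {α : Type v}

theorem mem_lab_self {R : Type*} [Group R] [MulAction R α] (B : Set α) (y : α) :
    y ∈ lab R B y := fun _ => Iff.rfl

theorem lab_eq_iff {R : Type*} [Group R] [MulAction R α] (B : Set α) (y z : α) :
    lab R B y = lab R B z ↔ ∀ r : R, y ∈ r • B ↔ z ∈ r • B := by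
  constructor
  · intro h r
    have : y ∈ lab R B z := h ▸ mem_lab_self B y
    exact (this r).symm
  · intro h
    ext w
    constructor
    · intro hw r
      exact (h r).symm.trans (hw r)
    · intro hw r
      exact (h r).trans (hw r)

theorem lab_smul {R : Type*} [Group R] [MulAction R α] (B : Set α) (r : R) (y z : α)
    (h : lab R B y = lab R B z) : lab R B (r • y) = lab R B (r • z) := by
  rw [lab_eq_iff] at h ⊢
  intro s
  have h1 : ∀ w : α, r • w ∈ s • B ↔ w ∈ (r⁻¹ * s) • B := by
    intro w
    rw [mul_smul, Set.mem_inv_smul_set_iff]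
  rw [h1, h1]
  exact h _

theorem lab_eq_of_mem {R : Type*} [Group R] [MulAction R α] {B : Set α} (hB : IsBlock R B)
    (r : R) {y : α} (hy : y ∈ r • B) : {z | lab R B z = lab R B y} = r • B := by
  ext z
  simp only [Set.mem_setOf_eq]
  rw [lab_eq_iff]
  constructor
  · intro h
    exact (h r).mpr hy
  · intro hz s
    rcases isBlock_iff_smul_eq_smul_or_disjoint.mp hB s r with h | h
    · rw [h]; exact ⟨fun _ => hy, fun _ => hz⟩
    · constructor
      · intro hzs; exact absurd hz (Set.disjoint_left.mp h hzs)
      · intro hys; exact absurd hy (Set.disjoint_left.mp h hys)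

theorem lab_eq_of_not_mem {R : Type*} [Group R] [MulAction R α] {B : Set α} {x : α}
    (hx : x ∈ B) (hBx : B ⊆ orbit R x) {y : α} (hy : y ∉ orbit R x) :
    {z | lab R B z = lab R B y} = (orbit R x)ᶜ := by
  have hsub : ∀ s : R, s • B ⊆ orbit R x := by
    rintro s _ ⟨b, hb, rfl⟩
    obtain ⟨t, rfl⟩ := hBx hb
    exact ⟨s * t, by simp [mul_smul]⟩
  ext z
  simp only [Set.mem_setOf_eq, Set.mem_compl_iff]
  rw [lab_eq_iff]
  constructor
  · intro h hz
    obtain ⟨t, rfl⟩ := hz
    have h1 : t • x ∈ t • B := Set.smul_mem_smul_set hx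
    exact hy (hsub t ((h t).mp h1))
  · intro hz s
    constructor
    · intro h; exact absurd (hsub s h) hz
    · intro h; exact absurd (hsub s h) hy

end Cfsg.Agent.Helper29.SylMax
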