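import Mathlib
import Cfsg.Agent.Helper29.SylMaxDefs

set_option autoImplicit false

/-!
# S2245 piece O1: two halves
-/

namespace Cfsg.Agent.Helper29.SylMax

open MulAction Equiv
open scoped Pointwise

universe u v

variable {𝔾 : Type u} [Group 𝔾] {α : Type v} [Fintype α] [DecidableEq α] [MulAction 𝔾 α]

omit [Fintype α] [DecidableEq α] in
/-- an element mapping `s` to `s` or to `sᶜ` preserves the labelling by membership in `s` -/
theorem pres_mem_of_smul (s : Set α) (r : 𝔾) (h : r • s = s ∨ r • s = sᶜ) (a b : α)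
    (hab : (a ∈ s) = (b ∈ s)) : (r • a ∈ s) = (r • b ∈ s) := by
  have hab' : a ∈ s ↔ b ∈ s := by rw [hab]
  apply propext
  rcases h with h | h
  · have h1 : ∀ c : α, r • c ∈ s ↔ c ∈ s := by
      intro c
      conv_lhs => rw [← h]
      exact Set.smul_mem_smul_set_iff
    rw [h1, h1, hab']
  · have h1 : ∀ c : α, r • c ∈ s ↔ ¬ c ∈ s := by
      intro c
      have : r • c ∈ sᶜ ↔ c ∈ s := by
        rw [← h]
        exact Set.smul_mem_smul_set_iff
      rw [← this]
      simp
    rw [h1, h1, hab']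

/-- the key primitivity step: a subgroup containing `stabilizer 𝔾 s` (with `2 |s| = |α| ≥ 8`) and an
element `g` such that `g • s` meets both `s` and `sᶜ`, and `g • sᶜ` meets both, is `⊤`. -/
theorem eq_top_of_stabilizer_le_of_mixing (hA : Amb 𝔾 α) (hα : 8 ≤ Nat.card α)
    (s : Set α) (hhalf : 2 * s.ncard = Nat.card α) (X : Subgroup 𝔾)
    (hX : stabilizer 𝔾 s ≤ X) (g : 𝔾) (hg : g ∈ X)
    (u x : α) (hu : u ∈ s) (hgu : g • u ∈ s) (hx : x ∈ s) (hgx : g • x ∉ s)
    (u' y : α) (hu' : u' ∉ s) (hgu' : g • u' ∉ s) (hy : y ∉ s) (hgy : g • y ∈ s) :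
    X = ⊤ := by
  have := hA.finite
  have hX' : stabilizer 𝔾 sᶜ ≤ X := by rw [stabilizer_compl]; exact hX
  have hsc : sᶜ.ncard = s.ncard := by
    have := Set.ncard_add_ncard_compl s
    omega
  have hs4 : 4 ≤ s.ncard := by omega
  have hlt : stabilizer 𝔾 s < X := by
    refine lt_of_le_of_ne hX ?_
    intro h
    rw [← h] at hg
    rw [mem_stabilizer_iff] at hg
    apply hgx
    rw [← hg]
    exact Set.smul_mem_smul_set hx
  have hpt : IsPretransitive X α :=
    X.isPretransitive_of_stabilizer_lt hlt (fun {t} a ha b hb => hA.moves t a ha b hb)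
  -- `s` and `sᶜ` are not blocks
  have not_block_s : ¬ IsBlock X s := by
    intro hB
    have h1 := (isBlock_iff_smul_eq_or_disjoint.mp hB) ⟨g, hg⟩
    rcases h1 with h1 | h1
    · apply hgx
      rw [← h1]
      exact Set.smul_mem_smul_set (a := (⟨g, hg⟩ : X)) hx
    · exact Set.disjoint_left.mp h1 (Set.smul_mem_smul_set (a := (⟨g, hg⟩ : X)) hu) hgu
  have not_block_sc : ¬ IsBlock X sᶜ := by
    intro hB
    have h1 := (isBlock_iff_smul_eq_or_disjoint.mp hB) ⟨g, hg⟩
    rcases h1 with h1 | h1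
    · have : g • y ∈ sᶜ := by
        rw [← h1]
        exact Set.smul_mem_smul_set (a := (⟨g, hg⟩ : X)) hy
      exact this hgy
    · exact Set.disjoint_left.mp h1 (Set.smul_mem_smul_set (a := (⟨g, hg⟩ : X)) hu') hgu'
  -- surjectivity onto `Perm t` for the stabilizers in `X`
  have surjX : ∀ t : Set α, tᶜ.Nontrivial → stabilizer 𝔾 t ≤ X →
      Function.Surjective (MulAction.toPerm : stabilizer X t → Perm t) := by
    intro t ht htX σ
    obtain ⟨⟨k, hk⟩, rfl⟩ := hA.stab_surj t ht σ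
    let h : X := ⟨k, htX hk⟩
    have hmem : h ∈ stabilizer X t := by
      rw [mem_stabilizer_iff] at hk ⊢
      exact hk
    exact ⟨⟨h, hmem⟩, rfl⟩
  have hs_nt : s.Nontrivial := by
    rw [← Set.one_lt_ncard_iff_nontrivial]
    omega
  have hsc_nt : sᶜ.Nontrivial := by
    rw [← Set.one_lt_ncard_iff_nontrivial]
    omega
  have sub_s : ∀ B : Set α, IsBlock X B → B ⊆ s → B.Subsingleton := by
    intro B hB hBs
    have hne : B ≠ s := fun h => not_block_s (h ▸ hB)
    exact hB.subsingleton_of_ssubset_of_stabilizer_le (hBs.ssubset_of_ne hne)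
      (surjX s hsc_nt hX)
  have sub_sc : ∀ B : Set α, IsBlock X B → B ⊆ sᶜ → B.Subsingleton := by
    intro B hB hBs
    have hne : B ≠ sᶜ := fun h => not_block_sc (h ▸ hB)
    exact hB.subsingleton_of_ssubset_of_stabilizer_le (hBs.ssubset_of_ne hne)
      (surjX sᶜ (by rw [compl_compl]; exact hs_nt) hX')
  have htr := hA.trans
  have t1 : IsMultiplyPretransitive 𝔾 α (s.ncard + 1) :=
    isMultiplyPretransitive_of_le (n := Nat.card α - 2) (by omega) (by omega)
  have t2 : IsMultiplyPretransitive 𝔾 α (sᶜ.ncard + 1) := by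
    rw [hsc]; exact t1
  have hprim : IsPreprimitive X α := by
    apply IsPreprimitive.mk
    intro B hB
    unfold IsTrivialBlock
    rw [or_iff_not_imp_left]
    intro hB'
    have h1 : ¬ B ⊆ s := fun h => hB' (sub_s B hB h)
    have h2 : ¬ B ⊆ sᶜ := fun h => hB' (sub_sc B hB h)
    have h3 : sᶜ ⊆ B :=
      MulAction.IsBlock.compl_subset_of_stabilizer_le_of_not_subset_of_not_subset_compl
        hX h1 h2 hB
    have h4 : sᶜᶜ ⊆ B :=
      MulAction.IsBlock.compl_subset_of_stabilizer_le_of_not_subset_of_not_subset_compl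
        hX' h2 (by rw [compl_compl]; exact h1) hB
    rw [compl_compl] at h4
    rw [Set.eq_univ_iff_forall]
    intro z
    by_cases hz : z ∈ s
    · exact h4 hz
    · exact h3 hz
  exact hA.eq_top_of_prim X s hprim hX

omit [Fintype α] [DecidableEq α] in
/-- a fibre of cardinality two -/
theorem exists_partner {ι : Type*} (f : α → ι)
    (hpair : ∀ x : α, {y : α | f y = f x}.ncard = 2) (x : α) :
    ∃ x' : α, x' ≠ x ∧ f x' = f x ∧ ∀ z : α, f z = f x → z = x ∨ z = x' := by
  obtain ⟨a, b, hab, hfib⟩ := Set.ncard_eq_two.mp (hpair x)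
  have hx : x ∈ ({a, b} : Set α) := by rw [← hfib]; rfl
  have ha : f a = f x := by
    have : a ∈ {y : α | f y = f x} := by rw [hfib]; simp
    exact this
  have hb : f b = f x := by
    have : b ∈ {y : α | f y = f x} := by rw [hfib]; simp
    exact this
  have hall : ∀ z : α, f z = f x → z = a ∨ z = b := by
    intro z hz
    have : z ∈ {y : α | f y = f x} := hz
    rw [hfib] at this
    simpa using this
  rcases hx with rfl | hx
  · exact ⟨b, hab.symm, hb, hall⟩
  · have hx' : x = b := hx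
    subst hx'
    exact ⟨a, hab, ha, fun z hz => (hall z hz).symm⟩

theorem twoMax_of_halves {ι : Type*} (hA : Amb 𝔾 α) (hα : 8 ≤ Nat.card α) (R : Subgroup 𝔾)
    (B₂ : Set α) (hhalf : 2 * B₂.ncard = Nat.card α)
    (hB₂ : ∀ r ∈ R, r • B₂ = B₂ ∨ r • B₂ = B₂ᶜ)
    (f : α → ι) (hf : Pres R f)
    (href : ∀ x y : α, f x = f y → (x ∈ B₂ ↔ y ∈ B₂))
    (hpair : ∀ x : α, {y : α | f y = f x}.ncard = 2) : TwoMax R := by
  classical
  have hfin := hA.finite
  have hsc : B₂ᶜ.ncard = B₂.ncard := by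
    have := Set.ncard_add_ncard_compl B₂
    omega
  have hs4 : 4 ≤ B₂.ncard := by omega
  -- the points
  obtain ⟨x, hx⟩ : B₂.Nonempty := by
    rw [← Set.ncard_pos]; omega
  obtain ⟨y, hy⟩ : B₂ᶜ.Nonempty := by
    rw [← Set.ncard_pos]; omega
  obtain ⟨x', hx'x, hfx', hxall⟩ := exists_partner f hpair x
  obtain ⟨y', hy'y, hfy', hyall⟩ := exists_partner f hpair y
  have hx'B : x' ∈ B₂ := (href x' x hfx').mpr hx
  have hy'B : y' ∉ B₂ := fun h => hy ((href y' y hfy').mp h)
  have hfxy : f x ≠ f y := fun h => hy ((href x y h).mp hx)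
  -- a third point of `B₂`, a third point of `B₂ᶜ`
  obtain ⟨u, huB, hux, hux'⟩ : ∃ u ∈ B₂, u ≠ x ∧ u ≠ x' := by
    by_contra hcon
    push Not at hcon
    have hsub : B₂ ⊆ {x, x'} := by
      intro z hz
      by_cases h1 : z = x
      · simp [h1]
      · simp [hcon z hz h1]
    have := Set.ncard_le_ncard hsub (Set.toFinite _)
    have h2 : ({x, x'} : Set α).ncard ≤ 2 := by
      have := Set.ncard_insert_le x ({x'} : Set α)
      rw [Set.ncard_singleton] at this
      exact this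
    omega
  obtain ⟨u', hu'B, hu'y, hu'y'⟩ : ∃ u ∈ B₂ᶜ, u ≠ y ∧ u ≠ y' := by
    by_contra hcon
    push Not at hcon
    have hsub : B₂ᶜ ⊆ {y, y'} := by
      intro z hz
      by_cases h1 : z = y
      · simp [h1]
      · simp [hcon z hz h1]
    have := Set.ncard_le_ncard hsub (Set.toFinite _)
    have h2 : ({y, y'} : Set α).ncard ≤ 2 := by
      have := Set.ncard_insert_le y ({y'} : Set α)
      rw [Set.ncard_singleton] at this
      exact this
    omega
  -- distinctness
  have hxy : x ≠ y := fun h => hy (h ▸ hx)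
  have hxy' : x ≠ y' := fun h => hy'B (h ▸ hx)
  have hx'y : x' ≠ y := fun h => hy (h ▸ hx'B)
  have hx'y' : x' ≠ y' := fun h => hy'B (h ▸ hx'B)
  -- the even permutation
  let τ : Perm α := swap x y * swap x' y'
  have hτalt : τ ∈ alternatingGroup α := by
    rw [Equiv.Perm.mem_alternatingGroup, Equiv.Perm.sign_mul, Equiv.Perm.sign_swap hxy,
      Equiv.Perm.sign_swap hx'y']
    rfl
  have τx : τ x = y := by
    simp only [τ, Equiv.Perm.mul_apply]
    rw [Equiv.swap_apply_of_ne_of_ne hx'x.symm hxy', Equiv.swap_apply_left]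
  have τx' : τ x' = y' := by
    simp only [τ, Equiv.Perm.mul_apply]
    rw [Equiv.swap_apply_left, Equiv.swap_apply_of_ne_of_ne hxy'.symm hy'y]
  have τy : τ y = x := by
    simp only [τ, Equiv.Perm.mul_apply]
    rw [Equiv.swap_apply_of_ne_of_ne hx'y.symm hy'y.symm, Equiv.swap_apply_right]
  have τy' : τ y' = x' := by
    simp only [τ, Equiv.Perm.mul_apply]
    rw [Equiv.swap_apply_right, Equiv.swap_apply_of_ne_of_ne hx'x hx'y]
  have τz : ∀ z : α, z ≠ x → z ≠ x' → z ≠ y → z ≠ y' → τ z = z := by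
    intro z h1 h2 h3 h4
    simp only [τ, Equiv.Perm.mul_apply]
    rw [Equiv.swap_apply_of_ne_of_ne h2 h4, Equiv.swap_apply_of_ne_of_ne h1 h3]
  have hfτ : ∀ a : α, f (τ a) = if f a = f x then f y else if f a = f y then f x else f a := by
    intro a
    by_cases h1 : f a = f x
    · rw [if_pos h1]
      rcases hxall a h1 with rfl | rfl
      · rw [τx]
      · rw [τx', hfy']
    · rw [if_neg h1]
      by_cases h2 : f a = f y
      · rw [if_pos h2]
        rcases hyall a h2 with rfl | rfl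
        · rw [τy]
        · rw [τy', hfx']
      · rw [if_neg h2]
        rw [τz a (fun h => h1 (h ▸ rfl)) (fun h => h1 (h ▸ hfx')) (fun h => h2 (h ▸ rfl))
          (fun h => h2 (h ▸ hfy'))]
  obtain ⟨g, hg⟩ := hA.even_mem τ hτalt
  have hgf : ∀ a b : α, f a = f b → f (g • a) = f (g • b) := by
    intro a b hab
    rw [hg, hg, hfτ, hfτ, hab]
  -- first maximal subgroup
  have hne1 : Subgroup.closure ((R : Set 𝔾) ∪ {g}) ≠ ⊤ := by
    apply ne_top_of_pres hA _ f
    · rintro k (hk | hk)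
      · exact hf k hk
      · rw [Set.mem_singleton_iff] at hk
        subst hk
        exact hgf
    · exact ⟨x', x, hx'x, hfx'⟩
    · exact ⟨x, y, hfxy⟩
  obtain ⟨M₁, hM₁, hle1⟩ := exists_coatom_ge hA _ hne1
  have hRM₁ : R ≤ M₁ := fun r hr => hle1 (Subgroup.subset_closure (Or.inl hr))
  have hgM₁ : g ∈ M₁ := hle1 (Subgroup.subset_closure (Or.inr rfl))
  -- second maximal subgroup
  have hne2 : Subgroup.closure ((R : Set 𝔾) ∪ (stabilizer 𝔾 B₂ : Set 𝔾)) ≠ ⊤ := by
    apply ne_top_of_pres hA _ (fun z => (z ∈ B₂ : Prop))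
    · rintro k (hk | hk)
      · exact pres_mem_of_smul B₂ k (hB₂ k hk)
      · exact pres_mem_of_smul B₂ k (Or.inl hk)
    · exact ⟨x', x, hx'x, by simp [hx, hx'B]⟩
    · refine ⟨x, y, ?_⟩
      have hy2 : y ∉ B₂ := hy
      simp [hx, hy2]
  obtain ⟨M₂, hM₂, hle2⟩ := exists_coatom_ge hA _ hne2
  have hRM₂ : R ≤ M₂ := fun r hr => hle2 (Subgroup.subset_closure (Or.inl hr))
  have hSM₂ : stabilizer 𝔾 B₂ ≤ M₂ := fun r hr => hle2 (Subgroup.subset_closure (Or.inr hr))
  by_cases hM : M₁ = M₂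
  · exfalso
    subst hM
    apply hM₁.1
    apply eq_top_of_stabilizer_le_of_mixing hA hα B₂ hhalf M₁ hSM₂ g hgM₁ u x huB ?_ hx ?_
      u' y hu'B ?_ hy ?_
    · rw [hg, τz u hux hux' (fun h => hy (h ▸ huB)) (fun h => hy'B (h ▸ huB))]
      exact huB
    · rw [hg, τx]; exact hy
    · rw [hg, τz u' (fun h => hu'B (h ▸ hx)) (fun h => hu'B (h ▸ hx'B)) hu'y hu'y']
      exact hu'B
    · rw [hg, τy]; exact hx
  · exact ⟨M₁, M₂, hM, hM₁, hM₂, hRM₁, hRM₂⟩

end Cfsg.Agent.Helper29.SylMax
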