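import Mathlib
import Cfsg.Agent.Helper29.SylMaxDefs

set_option autoImplicit false

/-!
# S2245 piece O3: three orbits
-/

namespace Cfsg.Agent.Helper29.SylMax

open MulAction Equiv
open scoped Pointwise

universe u v

variable {𝔾 : Type u} [Group 𝔾] {α : Type v} [Fintype α] [DecidableEq α] [MulAction 𝔾 α]

omit [Fintype α] [DecidableEq α] in
theorem le_stabilizer_orbit (R : Subgroup 𝔾) (a : α) : R ≤ stabilizer 𝔾 (orbit R a) := by
  intro r hr
  rw [mem_stabilizer_iff]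
  have := MulAction.smul_orbit (⟨r, hr⟩ : R) a
  exact this

theorem twoMax_of_three_sets (hA : Amb 𝔾 α) (R : Subgroup 𝔾) (P Q T : Set α)
    (hP : P.Nonempty) (hQ : Q.Nonempty) (hT : T.Nonempty)
    (hPQ : Disjoint P Q) (hPT : Disjoint P T) (hQT : Disjoint Q T)
    (hRP : R ≤ stabilizer 𝔾 P) (hRQ : R ≤ stabilizer 𝔾 Q)
    (hcP : Nat.card α ≠ 2 * P.ncard) (hcQ : Nat.card α ≠ 2 * Q.ncard) : TwoMax R := by
  refine ⟨stabilizer 𝔾 P, stabilizer 𝔾 Q, ?_, hA.coatom_stab P hP ?_ hcP,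
    hA.coatom_stab Q hQ ?_ hcQ, hRP, hRQ⟩
  · obtain ⟨a, ha⟩ := hQ
    obtain ⟨b, hb⟩ := hT
    have haP : a ∈ Pᶜ := fun h => Set.disjoint_left.mp hPQ h ha
    have hbP : b ∈ Pᶜ := fun h => Set.disjoint_left.mp hPT h hb
    obtain ⟨g, hg, hgab⟩ := hA.moves Pᶜ a haP b hbP
    rw [stabilizer_compl] at hg
    intro heq
    rw [heq] at hg
    have h1 : g • a ∈ Q := by
      rw [mem_stabilizer_iff] at hg
      rw [← hg]
      exact Set.smul_mem_smul_set ha
    rw [hgab] at h1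
    exact Set.disjoint_left.mp hQT h1 hb
  · obtain ⟨a, ha⟩ := hQ
    exact ⟨a, fun h => Set.disjoint_left.mp hPQ h ha⟩
  · obtain ⟨a, ha⟩ := hP
    exact ⟨a, fun h => Set.disjoint_left.mp hPQ ha h⟩

omit [DecidableEq α] in
theorem not_two_halves (P Q T : Set α) (hT : T.Nonempty)
    (hPQ : Disjoint P Q) (hPT : Disjoint P T) (hQT : Disjoint Q T)
    (hcP : Nat.card α = 2 * P.ncard) (hcQ : Nat.card α = 2 * Q.ncard) : False := by
  have h1 : (P ∪ Q).ncard = P.ncard + Q.ncard := Set.ncard_union_eq hPQ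
  have h2 : ((P ∪ Q) ∪ T).ncard = (P ∪ Q).ncard + T.ncard :=
    Set.ncard_union_eq (Set.disjoint_union_left.mpr ⟨hPT, hQT⟩)
  have h3 : ((P ∪ Q) ∪ T).ncard ≤ Nat.card α := by
    rw [← Set.ncard_univ]
    exact Set.ncard_le_ncard (Set.subset_univ _)
  have h4 : 0 < T.ncard := (Set.ncard_pos).mpr hT
  omega

theorem twoMax_of_three_orbits (hA : Amb 𝔾 α) (hα : 5 ≤ Nat.card α) (R : Subgroup 𝔾)
    (x y z : α) (hxy : orbit R x ≠ orbit R y) (hxz : orbit R x ≠ orbit R z)
    (hyz : orbit R y ≠ orbit R z) : TwoMax R := by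
  have dxy : Disjoint (orbit R x) (orbit R y) := (orbit.eq_or_disjoint x y).resolve_left hxy
  have dxz : Disjoint (orbit R x) (orbit R z) := (orbit.eq_or_disjoint x z).resolve_left hxz
  have dyz : Disjoint (orbit R y) (orbit R z) := (orbit.eq_or_disjoint y z).resolve_left hyz
  have nx : (orbit R x).Nonempty := ⟨x, mem_orbit_self x⟩
  have ny : (orbit R y).Nonempty := ⟨y, mem_orbit_self y⟩
  have nz : (orbit R z).Nonempty := ⟨z, mem_orbit_self z⟩
  have sx := le_stabilizer_orbit R x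
  have sy := le_stabilizer_orbit R y
  have sz := le_stabilizer_orbit R z
  by_cases cx : Nat.card α = 2 * (orbit R x).ncard
  · have cy : Nat.card α ≠ 2 * (orbit R y).ncard := fun cy =>
      not_two_halves _ _ _ nz dxy dxz dyz cx cy
    have cz : Nat.card α ≠ 2 * (orbit R z).ncard := fun cz =>
      not_two_halves _ _ _ ny dxz dxy dyz.symm cx cz
    exact twoMax_of_three_sets hA R _ _ _ ny nz nx dyz dxy.symm dxz.symm sy sz cy cz
  · by_cases cy : Nat.card α = 2 * (orbit R y).ncard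
    · have cz : Nat.card α ≠ 2 * (orbit R z).ncard := fun cz =>
        not_two_halves _ _ _ nx dyz dxy.symm dxz.symm cy cz
      exact twoMax_of_three_sets hA R _ _ _ nx nz ny dxz dxy dyz.symm sx sz cx cz
    · exact twoMax_of_three_sets hA R _ _ _ nx ny nz dxy dxz dyz sx sy cx cy

end Cfsg.Agent.Helper29.SylMax
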