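import Mathlib
import Cfsg.Agent.Helper29.SylMaxDefs
import Cfsg.Agent.Helper29.SylMaxLAB
import Cfsg.Agent.Helper29.SylMaxO1
import Cfsg.Agent.Helper29.SylMaxO3
import Cfsg.Agent.Helper13.SylMaxO2
import Cfsg.Agent.Helper14.SylMaxBLK

set_option autoImplicit false

/-!
# S2245 piece ORB: case analysis on the orbits of the 2-group `R`
-/

namespace Cfsg.Agent.Helper29.SylMax

open MulAction Equiv
open Cfsg.Agent.Helper13.SylMax Cfsg.Agent.Helper14.SylMax
open scoped Pointwise

universe u v

variable {𝔾 : Type u} [Group 𝔾] {α : Type v} [Fintype α] [DecidableEq α] [MulAction 𝔾 α]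

/-- data of a block of `R` through `x` -/
structure BlockAt (R : Subgroup 𝔾) (x : α) (B : Set α) : Prop where
  block : IsBlock R B
  mem : x ∈ B
  sub : B ⊆ orbit R x

theorem BlockAt.pres {R : Subgroup 𝔾} {x : α} {B : Set α} (_h : BlockAt R x B) :
    Pres R (lab R B) := by
  intro r hr y z hyz
  exact lab_smul B (⟨r, hr⟩ : R) y z hyz

theorem BlockAt.fiber_mem {R : Subgroup 𝔾} {x : α} {B : Set α} (h : BlockAt R x B) {u : α}
    (hu : u ∈ orbit R x) :
    ∃ r : R, u ∈ r • B ∧ {z | lab R B z = lab R B u} = r • B := by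
  obtain ⟨r, rfl⟩ := hu
  have h1 : r • x ∈ r • B := Set.smul_mem_smul_set h.mem
  exact ⟨r, h1, lab_eq_of_mem h.block r h1⟩

theorem BlockAt.fiber_not_mem {R : Subgroup 𝔾} {x : α} {B : Set α} (h : BlockAt R x B) {u : α}
    (hu : u ∉ orbit R x) :
    {z | lab R B z = lab R B u} = (orbit R x)ᶜ :=
  lab_eq_of_not_mem h.mem h.sub hu

theorem BlockAt.smul_sub {R : Subgroup 𝔾} {x : α} {B : Set α} (h : BlockAt R x B) (r : R) :
    r • B ⊆ orbit R x := by
  rintro _ ⟨b, hb, rfl⟩
  obtain ⟨s, rfl⟩ := h.sub hb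
  exact ⟨r * s, by simp [mul_smul]⟩

theorem ncard_orbit_pow (R : Subgroup 𝔾) [Finite R] (hR : IsPGroup 2 R) (x : α) :
    ∃ a : ℕ, (orbit R x).ncard = 2 ^ a := by
  obtain ⟨a, ha⟩ := hR.card_orbit x
  exact ⟨a, by rw [← ha]; rfl⟩

/-- the transitive case -/
theorem case_transitive (hA : Amb 𝔾 α) (hα : 5 ≤ Nat.card α) (R : Subgroup 𝔾) (hR : IsPGroup 2 R)
    (x₀ : α) (h1 : orbit R x₀ = Set.univ) : TwoMax R := by
  haveI := hA.finite
  obtain ⟨a, ha⟩ := ncard_orbit_pow R hR x₀
  have hn : Nat.card α = 2 ^ a := by rw [← ha, h1, Set.ncard_univ]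
  have ha3 : 3 ≤ a := by
    by_contra h
    push Not at h
    have : 2 ^ a ≤ 2 ^ 2 := Nat.pow_le_pow_right (by norm_num) (by omega)
    omega
  obtain ⟨B, hblock, hmem, hsucc, hsub, hcard⟩ := exists_block_chain (R := R) hR x₀
  have hmono : Monotone B := monotone_nat_of_le_succ hsucc
  have hB1 : (B 1).ncard = 2 := by
    have := hcard 1 (by rw [ha]; exact Nat.pow_le_pow_right (by norm_num) (by omega))
    simpa using this
  have hB2 : (B (a - 1)).ncard = 2 ^ (a - 1) :=
    hcard (a - 1) (by rw [ha]; exact Nat.pow_le_pow_right (by norm_num) (by omega))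
  have hb1 : BlockAt R x₀ (B 1) := ⟨hblock 1, hmem 1, hsub 1⟩
  have h12 : B 1 ⊆ B (a - 1) := hmono (by omega)
  have hpow : 2 * 2 ^ (a - 1) = 2 ^ a := by
    rw [← pow_succ']; congr 1; omega
  have hn8 : 8 ≤ Nat.card α := by
    rw [hn]
    calc 8 = 2 ^ 3 := by norm_num
      _ ≤ 2 ^ a := Nat.pow_le_pow_right (by norm_num) ha3
  -- translates of B₂
  have htrans : ∀ r : R, r • B (a - 1) = B (a - 1) ∨ r • B (a - 1) = (B (a - 1))ᶜ := by
    intro r
    rcases isBlock_iff_smul_eq_or_disjoint.mp (hblock (a - 1)) r with h | h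
    · left; exact h
    · right
      apply Set.eq_of_subset_of_ncard_le
      · exact Disjoint.subset_compl_right h
      · rw [Set.ncard_smul_set]
        have := Set.ncard_add_ncard_compl (B (a - 1))
        rw [hB2] at this ⊢
        rw [hn] at this
        omega
      · exact Set.toFinite _
  apply twoMax_of_halves hA hn8 R (B (a - 1)) (by rw [hB2, hpow, hn]) ?_ (lab R (B 1)) hb1.pres
  · -- refinement
    intro x y hxy
    have hx : x ∈ orbit R x₀ := by rw [h1]; trivial
    obtain ⟨r, hxr, hfib⟩ := hb1.fiber_mem hx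
    have hy : y ∈ r • B 1 := by
      rw [← hfib]; exact hxy.symm
    have hsubr : r • B 1 ⊆ r • B (a - 1) := Set.smul_set_mono h12
    rcases htrans r with h | h
    · rw [h] at hsubr
      exact ⟨fun _ => hsubr hy, fun _ => hsubr hxr⟩
    · rw [h] at hsubr
      exact ⟨fun hx' => absurd hx' (hsubr hxr), fun hy' => absurd hy' (hsubr hy)⟩
  · -- pairs
    intro x
    have hx : x ∈ orbit R x₀ := by rw [h1]; trivial
    obtain ⟨r, _, hfib⟩ := hb1.fiber_mem hx
    rw [hfib, Set.ncard_smul_set, hB1]
  · intro r hr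
    exact htrans ⟨r, hr⟩

/-- two orbits, `x` in the bigger one -/
theorem case_two (hA : Amb 𝔾 α) (hα : 5 ≤ Nat.card α) (R : Subgroup 𝔾) (hR : IsPGroup 2 R)
    (x y : α) (hun : orbit R x ∪ orbit R y = Set.univ) (hy : y ∉ orbit R x)
    (hle : (orbit R y).ncard ≤ (orbit R x).ncard) :
    (∃ k : ℕ, 2 ≤ k ∧ Nat.card α = 2 ^ k + 1) ∨ TwoMax R := by
  haveI := hA.finite
  obtain ⟨a, ha⟩ := ncard_orbit_pow R hR x
  obtain ⟨b, hb⟩ := ncard_orbit_pow R hR y
  -- the orbits are complementary
  have hdisj : Disjoint (orbit R x) (orbit R y) := by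
    rcases orbit.eq_or_disjoint (G := R) x y with h | h
    · exact absurd (h ▸ mem_orbit_self y) hy
    · exact h
  have hcompl : (orbit R x)ᶜ = orbit R y := by
    ext z
    constructor
    · intro hz
      have : z ∈ orbit R x ∪ orbit R y := by rw [hun]; trivial
      rcases this with h | h
      · exact absurd h hz
      · exact h
    · intro hz hz'
      exact Set.disjoint_left.mp hdisj hz' hz
  have hn : Nat.card α = 2 ^ a + 2 ^ b := by
    have := Set.ncard_add_ncard_compl (orbit R x)
    rw [hcompl, ha, hb] at this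
    exact this.symm
  have hab : b ≤ a := by
    rw [ha, hb] at hle
    exact (Nat.pow_le_pow_iff_right (by norm_num)).mp hle
  have hOinv : ∀ r ∈ R, r • orbit R x = orbit R x := by
    intro r hr
    exact smul_orbit (⟨r, hr⟩ : R) x
  rcases Nat.eq_zero_or_pos b with hb0 | hbpos
  · -- conclusion
    left
    subst hb0
    refine ⟨a, ?_, by rw [hn]; norm_num⟩
    by_contra h
    push Not at h
    have : 2 ^ a ≤ 2 ^ 1 := Nat.pow_le_pow_right (by norm_num) (by omega)
    rw [hn] at hα
    omega
  right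
  obtain ⟨B, hblock, hmem, hsucc, hsub, hcard⟩ := exists_block_chain (R := R) hR x
  rcases Nat.lt_or_ge b a with hlt | hge
  · -- unequal orbits
    have hBb : (B b).ncard = 2 ^ b :=
      hcard b (by rw [ha]; exact Nat.pow_le_pow_right (by norm_num) hab)
    have hbb : BlockAt R x (B b) := ⟨hblock b, hmem b, hsub b⟩
    apply twoMax_of_two_orbits hA hα R (orbit R x) hOinv ?_ (lab R (B b)) hbb.pres ?_ (B b)
      (hsub b) ⟨x, hmem b, ?_⟩ (by rw [hcompl, hBb, hb]) ?_
    · rw [hn, ha]
      have : 2 ^ b < 2 ^ a := Nat.pow_lt_pow_right (by norm_num) hlt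
      omega
    · intro u w hu
      have hfib := hbb.fiber_not_mem hu
      constructor
      · intro h
        have : w ∈ {z | lab R (B b) z = lab R (B b) u} := h.symm
        rw [hfib] at this
        exact this
      · intro hw
        have : w ∈ {z | lab R (B b) z = lab R (B b) u} := by rw [hfib]; exact hw
        exact this.symm
    · intro w
      have h1 := lab_eq_of_mem (hblock b) (1 : R) (y := x) (by rw [one_smul]; exact hmem b)
      rw [one_smul] at h1
      constructor
      · intro h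
        have : w ∈ {z | lab R (B b) z = lab R (B b) x} := h
        rw [h1] at this
        exact this
      · intro hw
        have : w ∈ {z | lab R (B b) z = lab R (B b) x} := by rw [h1]; exact hw
        exact this
    · rw [hcompl, hb]
      calc 2 = 2 ^ 1 := by norm_num
        _ ≤ 2 ^ b := Nat.pow_le_pow_right (by norm_num) hbpos
  · -- equal orbits
    have heq : a = b := le_antisymm hge hab
    subst heq
    have ha2 : 2 ≤ a := by
      by_contra h
      push Not at h
      have : 2 ^ a ≤ 2 ^ 1 := Nat.pow_le_pow_right (by norm_num) (by omega)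
      rw [hn] at hα
      omega
    have hn8 : 8 ≤ Nat.card α := by
      rw [hn]
      have : 2 ^ 2 ≤ 2 ^ a := Nat.pow_le_pow_right (by norm_num) ha2
      omega
    obtain ⟨B', hblock', hmem', hsucc', hsub', hcard'⟩ := exists_block_chain (R := R) hR y
    have hB1 : (B 1).ncard = 2 := by
      have := hcard 1 (by rw [ha]; exact Nat.pow_le_pow_right (by norm_num) (by omega))
      simpa using this
    have hB1' : (B' 1).ncard = 2 := by
      have := hcard' 1 (by rw [hb]; exact Nat.pow_le_pow_right (by norm_num) (by omega))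
      simpa using this
    have hb1 : BlockAt R x (B 1) := ⟨hblock 1, hmem 1, hsub 1⟩
    have hb1' : BlockAt R y (B' 1) := ⟨hblock' 1, hmem' 1, hsub' 1⟩
    have hx' : x ∉ orbit R y := by
      intro h
      exact Set.disjoint_left.mp hdisj (mem_orbit_self x) h
    have hcompl' : (orbit R y)ᶜ = orbit R x := by rw [← hcompl, compl_compl]
    apply twoMax_of_halves hA hn8 R (orbit R x) (by rw [ha, hn]; ring) ?_
      (fun z => (lab R (B 1) z, lab R (B' 1) z)) ?_ ?_ ?_
    · intro r hr
      left; exact hOinv r hr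
    · intro r hr u w huw
      rw [Prod.mk.injEq] at huw ⊢
      exact ⟨hb1.pres r hr u w huw.1, hb1'.pres r hr u w huw.2⟩
    · intro u w huw
      rw [Prod.mk.injEq] at huw
      by_cases hu : u ∈ orbit R x
      · obtain ⟨r, _, hfib⟩ := hb1.fiber_mem hu
        have hw : w ∈ r • B 1 := by rw [← hfib]; exact huw.1.symm
        exact ⟨fun _ => hb1.smul_sub r hw, fun _ => hu⟩
      · have hfib := hb1.fiber_not_mem hu
        have hw : w ∈ (orbit R x)ᶜ := by rw [← hfib]; exact huw.1.symm
        exact ⟨fun h => absurd h hu, fun h => absurd h hw⟩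
    · intro u
      have hset : {z : α | (lab R (B 1) z, lab R (B' 1) z) = (lab R (B 1) u, lab R (B' 1) u)} =
          {z | lab R (B 1) z = lab R (B 1) u} ∩ {z | lab R (B' 1) z = lab R (B' 1) u} := by
        ext z
        simp only [Set.mem_setOf_eq, Prod.mk.injEq, Set.mem_inter_iff]
      rw [hset]
      by_cases hu : u ∈ orbit R x
      · obtain ⟨r, _, hfib⟩ := hb1.fiber_mem hu
        have hu' : u ∉ orbit R y := fun h => Set.disjoint_left.mp hdisj hu h
        rw [hfib, hb1'.fiber_not_mem hu', hcompl',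
          Set.inter_eq_left.mpr (hb1.smul_sub r), Set.ncard_smul_set, hB1]
      · have hu' : u ∈ orbit R y := by rw [← hcompl]; exact hu
        obtain ⟨r, _, hfib⟩ := hb1'.fiber_mem hu'
        rw [hfib, hb1.fiber_not_mem hu, hcompl,
          Set.inter_eq_right.mpr (hb1'.smul_sub r), Set.ncard_smul_set, hB1']

/-- **ORB.** -/
theorem orbit_cases (hA : Amb 𝔾 α) (hα : 5 ≤ Nat.card α) (R : Subgroup 𝔾) (hR : IsPGroup 2 R) :
    (∃ k : ℕ, 2 ≤ k ∧ Nat.card α = 2 ^ k + 1) ∨ TwoMax R := by
  haveI := hA.finite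
  have hne : Nonempty α := by
    by_contra h
    rw [not_nonempty_iff] at h
    have : Nat.card α = 0 := Nat.card_of_isEmpty
    omega
  obtain ⟨x₀⟩ := hne
  by_cases h1 : orbit R x₀ = Set.univ
  · right; exact case_transitive hA hα R hR x₀ h1
  · obtain ⟨y₀, hy₀⟩ := (Set.ne_univ_iff_exists_notMem _).mp h1
    by_cases h2 : orbit R x₀ ∪ orbit R y₀ = Set.univ
    · rcases le_total (orbit R y₀).ncard (orbit R x₀).ncard with h | h
      · exact case_two hA hα R hR x₀ y₀ h2 hy₀ h
      · have hx₀ : x₀ ∉ orbit R y₀ := by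
          intro hx
          apply hy₀
          rw [orbit_eq_iff.mpr hx]
          exact mem_orbit_self y₀
        exact case_two hA hα R hR y₀ x₀ (by rw [Set.union_comm]; exact h2) hx₀ h
    · right
      obtain ⟨z₀, hz₀⟩ := (Set.ne_univ_iff_exists_notMem _).mp h2
      rw [Set.mem_union, not_or] at hz₀
      apply twoMax_of_three_orbits hA hα R x₀ y₀ z₀
      · intro h; apply hy₀; rw [h]; exact mem_orbit_self y₀
      · intro h; apply hz₀.1; rw [h]; exact mem_orbit_self z₀
      · intro h; apply hz₀.2; rw [h]; exact mem_orbit_self z₀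

end Cfsg.Agent.Helper29.SylMax
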