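import Mathlib
import Cfsg.Agent.Helper29.SylMaxDefs

set_option autoImplicit false

/-!
# S2245 piece PRIMS
-/

namespace Cfsg.Agent.Helper29.SylMax

open MulAction Equiv
open scoped Pointwise

universe u v

variable {α : Type v} [Fintype α] [DecidableEq α]

theorem primTop_perm (hα : 5 ≤ Nat.card α) (R : Sylow 2 (Perm α)) :
    PrimTop (α := α) (R : Subgroup (Perm α)) := by
  intro M hRM hM
  have hnt : Nontrivial α := by
    rw [← Finite.one_lt_card_iff_nontrivial]
    omega
  obtain ⟨a, b, hab⟩ := exists_pair_ne α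
  have hP : IsPGroup 2 (Subgroup.zpowers (swap a b)) := by
    rw [IsPGroup.iff_card]
    refine ⟨1, ?_⟩
    rw [Nat.card_zpowers, Equiv.Perm.IsSwap.orderOf ⟨a, b, hab, rfl⟩]
    rfl
  obtain ⟨Q, hQ⟩ := hP.exists_le_sylow
  obtain ⟨g, hg⟩ := MulAction.exists_smul_eq (Perm α) Q R
  have hmem : g * swap a b * g⁻¹ ∈ (R : Subgroup (Perm α)) := by
    rw [← hg, Sylow.coe_subgroup_smul]
    rw [Subgroup.mem_pointwise_smul_iff_inv_smul_mem]
    have : (MulAut.conj g)⁻¹ • (g * swap a b * g⁻¹) = swap a b := by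
      simp [MulAut.smul_def, mul_assoc]
    rw [this]
    exact hQ (Subgroup.mem_zpowers _)
  refine Equiv.Perm.subgroup_eq_top_of_isPreprimitive_of_isSwap_mem hM (g * swap a b * g⁻¹) ?_
    (hRM hmem)
  refine ⟨g a, g b, fun h => hab (g.injective h), ?_⟩
  rw [Equiv.swap_apply_apply]

end Cfsg.Agent.Helper29.SylMax
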