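import Cfsg.Agent.Helper29.SymIndex

set_option autoImplicit false
set_option linter.unusedSectionVars false

namespace Cfsg.Agent.Helper29.Sym6

open Equiv Equiv.Perm Nat
open Cfsg.Agent.Helper29.SymIndex

section
variable {α β : Type*} [Fintype α] [DecidableEq α] [Fintype β] [DecidableEq β]

/-- Lemma B: an isomorphism of symmetric groups of the same degree maps a transposition to a
transposition, or (in degree 6) to a product of three disjoint transpositions. -/
theorem cycleType_map_swap (hcard : Fintype.card α = Fintype.card β)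
    (Φ : Perm α ≃* Perm β) {t : Perm α} (ht : t.IsSwap) :
    (Φ t).IsSwap ∨ (Fintype.card α = 6 ∧ (Φ t).cycleType = Multiset.replicate 3 2) := by
  have ho : orderOf (Φ t) = 2 := by rw [MulEquiv.orderOf_eq, ht.orderOf]
  obtain ⟨m, hm⟩ := cycleType_prime_order (σ := Φ t) (by rw [ho]; exact Nat.prime_two)
  rw [ho] at hm
  set k := m + 1 with hk
  have htc : t.cycleType = {2} := isSwap_iff_cycleType.mp ht
  have hcardeq : (Finset.univ.filter (fun g : Perm α => g.cycleType = {2})).card =
      (Finset.univ.filter (fun g : Perm β => g.cycleType = Multiset.replicate k 2)).card := by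
    apply Finset.card_equiv Φ.toEquiv
    intro g
    simp only [Finset.mem_filter, Finset.mem_univ, true_and]
    rw [← htc, ← hm, ← isConj_iff_cycleType_eq, ← isConj_iff_cycleType_eq]
    exact (isConj_map_iff Φ g t).symm
  have h2k : 2 * k ≤ Fintype.card β := by
    have := sum_cycleType_le (Φ t)
    rw [hm, Multiset.sum_replicate, smul_eq_mul] at this
    omega
  have hn2 : 2 ≤ Fintype.card α := by omega
  have e1 := card_of_cycleType_mul_eq α ({2} : Multiset ℕ)
  have e2 := card_of_cycleType_mul_eq β (Multiset.replicate k 2)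
  rw [if_pos (by simpa using hn2)] at e1
  rw [if_pos ⟨by rw [Multiset.sum_replicate, smul_eq_mul]; omega, by
    intro a ha; rw [Multiset.eq_of_mem_replicate ha]⟩] at e2
  have hts : (Multiset.replicate k 2).toFinset = {2} := by
    rw [Multiset.toFinset_replicate, if_neg (by omega)]
  rw [Multiset.sum_replicate, Multiset.prod_replicate, hts, Finset.prod_singleton,
    Multiset.count_replicate_self, smul_eq_mul, ← hcardeq, ← hcard] at e2
  simp only [Multiset.sum_singleton, Multiset.prod_singleton, Multiset.toFinset_singleton,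
    Finset.prod_singleton, Multiset.count_singleton_self, Nat.factorial_one, mul_one] at e1
  have hpos : 0 < (Finset.univ.filter (fun g : Perm α => g.cycleType = {2})).card := by
    rw [Finset.card_pos]
    exact ⟨t, by simp [htc]⟩
  have key : (Fintype.card α - 2 * k)! * 2 ^ k * k ! = (Fintype.card α - 2)! * 2 := by
    apply Nat.eq_of_mul_eq_mul_left hpos
    rw [e1, ← e2, mul_comm k 2]
  rcases factorial_eq_aux _ k (by omega) (by omega) key with h1 | ⟨h1, h2⟩
  · left; rw [isSwap_iff_cycleType, hm, h1]; rfl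
  · right; exact ⟨h1, by rw [hm, h2]⟩

/-- Lemma A: if an isomorphism maps one transposition to a transposition, then it and its
inverse map all transpositions to transpositions. -/
theorem swap_preserving_of_one (Φ : Perm α ≃* Perm β) {t₀ : Perm α} (ht₀ : t₀.IsSwap)
    (h : (Φ t₀).IsSwap) :
    (∀ t : Perm α, t.IsSwap → (Φ t).IsSwap) ∧ (∀ s : Perm β, s.IsSwap → (Φ.symm s).IsSwap) := by
  constructor
  · intro t ht
    have h1 : IsConj t t₀ := by
      rw [isConj_iff_cycleType_eq, isSwap_iff_cycleType.mp ht, isSwap_iff_cycleType.mp ht₀]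
    have h2 : IsConj (Φ t) (Φ t₀) := (isConj_map_iff Φ t t₀).mpr h1
    rw [isSwap_iff_cycleType, (isConj_iff_cycleType_eq).mp h2]
    exact isSwap_iff_cycleType.mp h
  · intro s hs
    have h1 : IsConj s (Φ t₀) := by
      rw [isConj_iff_cycleType_eq, isSwap_iff_cycleType.mp hs, isSwap_iff_cycleType.mp h]
    have h2 : IsConj (Φ (Φ.symm s)) (Φ t₀) := by rwa [MulEquiv.apply_symm_apply]
    have h3 : IsConj (Φ.symm s) t₀ := (isConj_map_iff Φ _ _).mp h2
    rw [isSwap_iff_cycleType, (isConj_iff_cycleType_eq).mp h3]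
    exact isSwap_iff_cycleType.mp ht₀

/-- A transposition-preserving isomorphism of symmetric groups of degree at least 5 maps point
stabilizers into point stabilizers. -/
theorem exists_fixed_of_swap_preserving (hcard : Fintype.card α = Fintype.card β)
    (h5 : 5 ≤ Fintype.card α) (Ψ : Perm α ≃* Perm β)
    (hΨ : ∀ t : Perm α, t.IsSwap → (Ψ t).IsSwap)
    (hΨ' : ∀ s : Perm β, s.IsSwap → (Ψ.symm s).IsSwap) (x₀ : β) :
    ∃ x : α, ∀ σ : Perm α, σ x = x → Ψ σ x₀ = x₀ := by
  have hcardV : 4 ≤ Fintype.card {v : β // v ≠ x₀} := by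
    have : Fintype.card {v : β // v ≠ x₀} = Fintype.card β - 1 := by
      rw [Fintype.card_subtype_compl, Fintype.card_subtype_eq]
    omega
  set τ : {v : β // v ≠ x₀} → Perm α := fun v => Ψ.symm (swap x₀ v.1) with hτ
  have hτswap : ∀ v, (τ v).IsSwap := fun v => hΨ' _ ⟨x₀, v.1, v.2.symm, rfl⟩
  have hτinj : Function.Injective τ := by
    intro v v' hvv
    have h1 : swap x₀ v.1 = swap x₀ v'.1 := Ψ.symm.injective hvv
    have h2 := congrArg (fun s : Perm β => s x₀) h1
    simp only [swap_apply_left] at h2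
    exact Subtype.ext h2
  have hτnc : ∀ v v', v ≠ v' → τ v * τ v' ≠ τ v' * τ v := by
    intro v v' hvv hcomm
    have h1 : swap x₀ v.1 * swap x₀ v'.1 = swap x₀ v'.1 * swap x₀ v.1 := by
      apply Ψ.symm.injective
      rw [map_mul, map_mul]
      exact hcomm
    have h2 := congrArg (fun s : Perm β => s v.1) h1
    simp only [Perm.mul_apply, swap_apply_right] at h2
    have hne : v.1 ≠ v'.1 := fun h => hvv (Subtype.ext h)
    rw [swap_apply_of_ne_of_ne v.2 hne, swap_apply_right, swap_apply_left] at h2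
    exact v'.2 h2.symm
  obtain ⟨x, hx⟩ := star_lemma hcardV τ hτinj hτswap hτnc
  refine ⟨x, ?_⟩
  have hle : MulAction.stabilizer (Perm α) x ≤
      (MulAction.stabilizer (Perm β) x₀).comap Ψ.toMonoidHom := by
    apply stabilizer_le_of_swaps
    intro b c hbx hcx hbc
    rw [Subgroup.mem_comap, MulAction.mem_stabilizer_iff]
    show Ψ (swap b c) x₀ = x₀
    by_contra hmove
    have hsw : (Ψ (swap b c)).IsSwap := hΨ _ ⟨b, c, hbc, rfl⟩
    obtain ⟨u, w, huw, e⟩ := hsw
    have hmove' : (swap u w) x₀ ≠ x₀ := by rw [← e]; exact hmove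
    rw [swap_apply_ne_self_iff] at hmove'
    have hex : ∃ v : {v : β // v ≠ x₀}, Ψ (swap b c) = swap x₀ v.1 := by
      rcases hmove'.2 with h1 | h1
      · exact ⟨⟨w, by rw [h1]; exact huw.symm⟩, by
          rw [e]; exact congrArg (fun z => swap z w) h1.symm⟩
      · exact ⟨⟨u, by rw [h1]; exact huw⟩, by
          rw [e, swap_comm]; exact congrArg (fun z => swap z u) h1.symm⟩
    obtain ⟨v, hv⟩ := hex
    have hτv : τ v = swap b c := by
      rw [hτ]
      simp only
      rw [← hv, MulEquiv.symm_apply_apply]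
    have := hx v
    rw [hτv, swap_apply_of_ne_of_ne hbx.symm hcx.symm] at this
    exact this rfl
  intro σ hσ
  have := hle (MulAction.mem_stabilizer_iff.mpr hσ)
  rw [Subgroup.mem_comap, MulAction.mem_stabilizer_iff] at this
  exact this

end

section Coset

variable {Ω : Type*} [Fintype Ω] [DecidableEq Ω]

/-- The action on the cosets of a subgroup of index `n` of the symmetric group of degree
`n ≥ 5` is an isomorphism onto the symmetric group of the coset space. -/
theorem exists_coset_iso (h5 : 5 ≤ Fintype.card Ω)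
    (H : Subgroup (Perm Ω)) (hH : H.index = Fintype.card Ω) :
    ∃ Φ : Perm Ω ≃* Perm (Perm Ω ⧸ H),
      ∀ g q : Perm Ω, Φ g (q : Perm Ω ⧸ H) = ((g * q : Perm Ω) : Perm Ω ⧸ H) := by
  classical
  have hfinX : Finite (Perm Ω ⧸ H) := inferInstance
  letI hftX : Fintype (Perm Ω ⧸ H) := Fintype.ofFinite _
  have hcardX : Fintype.card (Perm Ω ⧸ H) = Fintype.card Ω := by
    rw [← hH, Subgroup.index_eq_card, Nat.card_eq_fintype_card]
  set phi : Perm Ω →* Perm (Perm Ω ⧸ H) := MulAction.toPermHom (Perm Ω) (Perm Ω ⧸ H) with hphi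
  have hker : phi.ker = ⊥ := by
    rw [hphi, ← Subgroup.normalCore_eq_ker]
    by_contra hne
    have hnt : Nontrivial H.normalCore := (Subgroup.nontrivial_iff_ne_bot _).mpr hne
    have hle : alternatingGroup Ω ≤ H :=
      le_trans (alternatingGroup_le_of_normal (by rw [Nat.card_eq_fintype_card]; exact h5) hnt)
        (Subgroup.normalCore_le H)
    have hntΩ : Nontrivial Ω := by
      rw [← Fintype.one_lt_card_iff_nontrivial]; omega
    have := Subgroup.index_dvd_of_le hle
    rw [alternatingGroup.index_eq_two, hH] at this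
    have := Nat.le_of_dvd (by norm_num) this
    omega
  have hinj : Function.Injective phi := (MonoidHom.ker_eq_bot_iff phi).mp hker
  have hbij : Function.Bijective phi := by
    rw [Fintype.bijective_iff_injective_and_card]
    exact ⟨hinj, by rw [Fintype.card_perm, Fintype.card_perm, hcardX]⟩
  exact ⟨MulEquiv.ofBijective phi hbij, fun g q => rfl⟩

/-- If the coset action of an index-`n` subgroup maps a transposition to a transposition, then
the subgroup is a point stabilizer. -/
theorem eq_stabilizer_of_swap (h5 : 5 ≤ Fintype.card Ω)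
    (H : Subgroup (Perm Ω)) (hH : H.index = Fintype.card Ω)
    [Fintype (Perm Ω ⧸ H)] [DecidableEq (Perm Ω ⧸ H)]
    (Φ : Perm Ω ≃* Perm (Perm Ω ⧸ H))
    (hΦ : ∀ g q : Perm Ω, Φ g (q : Perm Ω ⧸ H) = ((g * q : Perm Ω) : Perm Ω ⧸ H))
    {t₀ : Perm Ω} (ht₀ : t₀.IsSwap) (hsw : (Φ t₀).IsSwap) :
    ∃ x : Ω, H = MulAction.stabilizer (Perm Ω) x := by
  have hcardX : Fintype.card (Perm Ω ⧸ H) = Fintype.card Ω := by
    rw [← hH, Subgroup.index_eq_card, Nat.card_eq_fintype_card]
  obtain ⟨h1, h2⟩ := swap_preserving_of_one Φ ht₀ hsw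
  obtain ⟨x, hx⟩ := exists_fixed_of_swap_preserving hcardX.symm h5 Φ h1 h2
    ((1 : Perm Ω) : Perm Ω ⧸ H)
  refine ⟨x, (eq_of_le_of_index_eq ?_ ((index_stabilizer_perm x).trans hH.symm)
    Subgroup.index_ne_zero_of_finite).symm⟩
  intro σ hσ
  have := hx σ (MulAction.mem_stabilizer_iff.mp hσ)
  rw [hΦ, mul_one, QuotientGroup.eq, mul_one] at this
  exact (inv_mem_iff (H := H)).mp this

/-- Two subgroups of index 6 of the symmetric group of degree 6 which are not point stabilizers
are conjugate. -/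
theorem exists_conj_of_not_stabilizer (h6 : Fintype.card Ω = 6)
    (H K : Subgroup (Perm Ω)) (hH : H.index = 6) (hK : K.index = 6)
    (hHs : ∀ x : Ω, H ≠ MulAction.stabilizer (Perm Ω) x)
    (hKs : ∀ x : Ω, K ≠ MulAction.stabilizer (Perm Ω) x) :
    ∃ g : Perm Ω, Subgroup.map (MulAut.conj g).toMonoidHom H = K := by
  classical
  letI : Fintype (Perm Ω ⧸ H) := Fintype.ofFinite _
  letI : Fintype (Perm Ω ⧸ K) := Fintype.ofFinite _
  have h5 : 5 ≤ Fintype.card Ω := by omega
  have hcardH : Fintype.card (Perm Ω ⧸ H) = Fintype.card Ω := by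
    rw [h6, ← hH, Subgroup.index_eq_card, Nat.card_eq_fintype_card]
  have hcardK : Fintype.card (Perm Ω ⧸ K) = Fintype.card Ω := by
    rw [h6, ← hK, Subgroup.index_eq_card, Nat.card_eq_fintype_card]
  obtain ⟨ΦH, hΦH⟩ := exists_coset_iso h5 H (hH.trans h6.symm)
  obtain ⟨ΦK, hΦK⟩ := exists_coset_iso h5 K (hK.trans h6.symm)
  -- neither maps a transposition to a transposition
  have hHno : ∀ t : Perm Ω, t.IsSwap → ¬ (ΦH t).IsSwap := by
    intro t ht hsw
    obtain ⟨x, hx⟩ := eq_stabilizer_of_swap h5 H (hH.trans h6.symm) ΦH hΦH ht hsw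
    exact hHs x hx
  have hKno : ∀ t : Perm Ω, t.IsSwap → ¬ (ΦK t).IsSwap := by
    intro t ht hsw
    obtain ⟨x, hx⟩ := eq_stabilizer_of_swap h5 K (hK.trans h6.symm) ΦK hΦK ht hsw
    exact hKs x hx
  -- preimages of transpositions have type 2,2,2
  have hHsymm : ∀ s : Perm (Perm Ω ⧸ H), s.IsSwap →
      (ΦH.symm s).cycleType = Multiset.replicate 3 2 := by
    intro s hs
    rcases cycleType_map_swap hcardH ΦH.symm hs with h | ⟨-, h⟩
    · exfalso
      apply hHno _ h
      rw [MulEquiv.apply_symm_apply]; exact hs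
    · exact h
  have hKsymm : ∀ s : Perm (Perm Ω ⧸ K), s.IsSwap →
      (ΦK.symm s).cycleType = Multiset.replicate 3 2 := by
    intro s hs
    rcases cycleType_map_swap hcardK ΦK.symm hs with h | ⟨-, h⟩
    · exfalso
      apply hKno _ h
      rw [MulEquiv.apply_symm_apply]; exact hs
    · exact h
  -- the composite preserves transpositions
  set Ψ : Perm (Perm Ω ⧸ H) ≃* Perm (Perm Ω ⧸ K) := ΦH.symm.trans ΦK with hΨ
  have hntH : ∃ y : Perm Ω ⧸ H, y ≠ ((1 : Perm Ω) : Perm Ω ⧸ H) := by
    have : Nontrivial (Perm Ω ⧸ H) := by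
      rw [← Fintype.one_lt_card_iff_nontrivial, hcardH]; omega
    exact exists_ne _
  have hntK : ∃ y : Perm Ω ⧸ K, y ≠ ((1 : Perm Ω) : Perm Ω ⧸ K) := by
    have : Nontrivial (Perm Ω ⧸ K) := by
      rw [← Fintype.one_lt_card_iff_nontrivial, hcardK]; omega
    exact exists_ne _
  obtain ⟨yH, hyH⟩ := hntH
  obtain ⟨yK, hyK⟩ := hntK
  have hs0 : (swap ((1 : Perm Ω) : Perm Ω ⧸ H) yH).IsSwap := ⟨_, _, hyH.symm, rfl⟩
  have hs1 : (swap ((1 : Perm Ω) : Perm Ω ⧸ K) yK).IsSwap := ⟨_, _, hyK.symm, rfl⟩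
  have hΨ0 : (Ψ (swap ((1 : Perm Ω) : Perm Ω ⧸ H) yH)).IsSwap := by
    have h1 : IsConj (ΦH.symm (swap ((1 : Perm Ω) : Perm Ω ⧸ H) yH))
        (ΦK.symm (swap ((1 : Perm Ω) : Perm Ω ⧸ K) yK)) := by
      rw [isConj_iff_cycleType_eq, hHsymm _ hs0, hKsymm _ hs1]
    have h2 := (isConj_map_iff ΦK _ _).mpr h1
    rw [MulEquiv.apply_symm_apply] at h2
    rw [isSwap_iff_cycleType]
    show (ΦK (ΦH.symm _)).cycleType = {2}
    rw [(isConj_iff_cycleType_eq).mp h2]
    exact isSwap_iff_cycleType.mp hs1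
  obtain ⟨hΨ1, hΨ2⟩ := swap_preserving_of_one Ψ hs0 hΨ0
  obtain ⟨x, hx⟩ := exists_fixed_of_swap_preserving (hcardH.trans hcardK.symm)
    (by rw [hcardH]; exact h5) Ψ hΨ1 hΨ2 ((1 : Perm Ω) : Perm Ω ⧸ K)
  obtain ⟨g, rfl⟩ := QuotientGroup.mk_surjective x
  refine ⟨g, eq_of_le_of_index_eq ?_ ?_ (by rw [hK]; norm_num)⟩
  · rintro _ ⟨h', hh', rfl⟩
    have hfix : ΦH (g * h' * g⁻¹) ((g : Perm Ω) : Perm Ω ⧸ H) = ((g : Perm Ω) : Perm Ω ⧸ H) := by
      rw [hΦH, QuotientGroup.eq]
      have : g⁻¹ * (g * h' * g⁻¹ * g) = h' := by group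
      rw [← inv_mem_iff (H := H)]
      simpa [mul_assoc] using hh'
    have := hx _ hfix
    have e : Ψ (ΦH (g * h' * g⁻¹)) = ΦK (g * h' * g⁻¹) := by
      rw [hΨ]; simp
    rw [e, hΦK, mul_one, QuotientGroup.eq, mul_one] at this
    exact (inv_mem_iff (H := K)).mp this
  · rw [hK, ← hH]
    exact Subgroup.index_map_equiv H (MulAut.conj g)

end Coset

end Cfsg.Agent.Helper29.Sym6
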