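import Cfsg.Agent.Helper29.Sym6
import Cfsg.Agent.Helper11.NoSimple

set_option autoImplicit false
set_option linter.unusedSectionVars false

namespace Cfsg.Agent.Helper29.Sym6

open Equiv Equiv.Perm

/-- The symmetric group of degree 5 has six Sylow 5-subgroups. -/
theorem card_sylow_five : Nat.card (Sylow 5 (Perm (Fin 5))) = 6 := by
  haveI : Fact (Nat.Prime 5) := ⟨by norm_num⟩
  have hG : Nat.card (Perm (Fin 5)) = 24 * 5 ^ 1 := by
    rw [Nat.card_perm, Nat.card_eq_fintype_card, Fintype.card_fin]; rfl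
  have hm : ¬ 5 ∣ 24 := by norm_num
  have hn := Cfsg.Agent.Helper11.card_sylow_mem_filter 24 1 hG hm
  have hfilter : (Nat.divisors 24).filter (fun d => d % 5 = 1) = {1, 6} := by decide
  rw [hfilter] at hn
  simp only [Finset.mem_insert, Finset.mem_singleton] at hn
  rcases hn with h1 | h6
  · exfalso
    obtain ⟨P⟩ : Nonempty (Sylow 5 (Perm (Fin 5))) := inferInstance
    haveI : Subsingleton (Sylow 5 (Perm (Fin 5))) := (Nat.card_eq_one_iff_unique.mp h1).1
    haveI hPn : (P : Subgroup (Perm (Fin 5))).Normal := Sylow.normal_of_subsingleton P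
    have hcardP := (Cfsg.Agent.Helper11.sylow_card_of_card_eq_pow 24 1 hG hm P).1
    have hnt : Nontrivial (P : Subgroup (Perm (Fin 5))) := by
      rw [← Finite.one_lt_card_iff_nontrivial, hcardP]; norm_num
    have hle : alternatingGroup (Fin 5) ≤ (P : Subgroup (Perm (Fin 5))) :=
      alternatingGroup_le_of_normal (by simp) hnt
    have h60 : Nat.card (alternatingGroup (Fin 5)) = 60 := by
      rw [nat_card_alternatingGroup, Nat.card_eq_fintype_card, Fintype.card_fin]; rfl
    have := Subgroup.card_le_of_le hle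
    rw [h60, hcardP] at this
    norm_num at this
  · exact h6

/-- A faithful transitive action of the symmetric group of degree 5 on six points. -/
theorem exists_exotic {Ω : Type*} [Fintype Ω] [DecidableEq Ω] (h6 : Fintype.card Ω = 6) :
    ∃ ρ : Perm (Fin 5) →* Perm Ω, Function.Injective ρ ∧ ∀ x y : Ω, ∃ g, ρ g x = y := by
  classical
  haveI : Fact (Nat.Prime 5) := ⟨by norm_num⟩
  have hn6 := card_sylow_five
  set ρ₀ : Perm (Fin 5) →* Perm (Sylow 5 (Perm (Fin 5))) :=
    MulAction.toPermHom (Perm (Fin 5)) (Sylow 5 (Perm (Fin 5))) with hρ₀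
  have hker : ρ₀.ker = ⊥ := by
    by_contra hne
    have hnt : Nontrivial ρ₀.ker := (Subgroup.nontrivial_iff_ne_bot _).mpr hne
    have hle : alternatingGroup (Fin 5) ≤ ρ₀.ker := alternatingGroup_le_of_normal (by simp) hnt
    obtain ⟨P⟩ : Nonempty (Sylow 5 (Perm (Fin 5))) := inferInstance
    have h1 : ρ₀.ker ≤ MulAction.stabilizer (Perm (Fin 5)) P := by
      intro g hg
      rw [MulAction.mem_stabilizer_iff]
      have := MonoidHom.mem_ker.mp hg
      have h2 := congrArg (fun σ : Perm (Sylow 5 (Perm (Fin 5))) => σ P) this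
      exact h2
    have h2 : (MulAction.stabilizer (Perm (Fin 5)) P).index = 6 := by
      rw [MulAction.index_stabilizer_of_transitive, hn6]
    have := Subgroup.index_dvd_of_le (hle.trans h1)
    rw [alternatingGroup.index_eq_two, h2] at this
    norm_num at this
  have hinj : Function.Injective ρ₀ := (MonoidHom.ker_eq_bot_iff ρ₀).mp hker
  have hcard : Nat.card (Sylow 5 (Perm (Fin 5))) = Nat.card Ω := by
    rw [hn6, Nat.card_eq_fintype_card, h6]
  obtain ⟨e⟩ := Finite.card_eq.mp hcard
  refine ⟨e.permCongrHom.toMonoidHom.comp ρ₀, ?_, ?_⟩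
  · exact e.permCongrHom.injective.comp hinj
  · intro x y
    obtain ⟨g, hg⟩ := MulAction.exists_smul_eq (Perm (Fin 5)) (e.symm x) (e.symm y)
    refine ⟨g, ?_⟩
    show e (g • e.symm x) = y
    rw [hg, Equiv.apply_symm_apply]

/-- A transitive subgroup of index 6 isomorphic to the symmetric group of degree 5. -/
theorem exists_transitive_index_six {Ω : Type*} [Fintype Ω] [DecidableEq Ω]
    (h6 : Fintype.card Ω = 6) :
    ∃ H : Subgroup (Perm Ω), H.index = 6 ∧ (∀ x y : Ω, ∃ h ∈ H, h x = y) ∧
      Nonempty (H ≃* Perm (Fin 5)) := by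
  obtain ⟨ρ, hinj, htr⟩ := exists_exotic h6
  refine ⟨ρ.range, ?_, ?_, ⟨(MonoidHom.ofInjective hinj).symm⟩⟩
  · have h1 : Nat.card ρ.range = 120 := by
      rw [Nat.card_congr (MonoidHom.ofInjective hinj).symm.toEquiv, Nat.card_perm,
        Nat.card_eq_fintype_card, Fintype.card_fin]; rfl
    have h2 := Subgroup.card_mul_index ρ.range
    rw [h1, Nat.card_perm, Nat.card_eq_fintype_card, h6] at h2
    have : (6 : ℕ).factorial = 120 * 6 := by decide
    rw [this] at h2
    exact Nat.eq_of_mul_eq_mul_left (by norm_num) h2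
  · intro x y
    obtain ⟨g, hg⟩ := htr x y
    exact ⟨ρ g, ⟨g, rfl⟩, hg⟩

end Cfsg.Agent.Helper29.Sym6
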