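import Cfsg.Agent.Helper29.Sym6Exotic

set_option autoImplicit false
set_option linter.unusedSectionVars false

namespace Cfsg.Agent.Helper29.Sym6

open Equiv Equiv.Perm
open Cfsg.Agent.Helper29.SymIndex

section
variable {Ω : Type*} [Fintype Ω] [DecidableEq Ω]

/-- A point stabilizer in the symmetric group of degree `n + 1` is a symmetric group of degree
`n`. -/
theorem stabilizer_equiv (x : Ω) (n : ℕ) (hn : Fintype.card Ω = n + 1) :
    Nonempty (MulAction.stabilizer (Perm Ω) x ≃* Perm (Fin n)) := by
  have hrange : (ofSubtype : Perm {y : Ω // y ≠ x} →* Perm Ω).range =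
      MulAction.stabilizer (Perm Ω) x := by
    ext σ
    constructor
    · rintro ⟨τ, rfl⟩
      rw [MulAction.mem_stabilizer_iff]
      exact ofSubtype_apply_of_not_mem τ (by simp)
    · intro hσ
      have hσx : σ x = x := MulAction.mem_stabilizer_iff.mp hσ
      have h₁ : ∀ y, (σ y ≠ x) ↔ (y ≠ x) := by
        intro y
        rw [not_iff_not]
        constructor
        · intro h; apply σ.injective; rw [h, hσx]
        · intro h; rw [h, hσx]
      refine ⟨subtypePerm σ h₁, ofSubtype_subtypePerm h₁ (fun y hy => ?_)⟩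
      rintro rfl
      exact hy hσx
  have hc : Fintype.card {y : Ω // y ≠ x} = n := by
    rw [Fintype.card_subtype_compl, Fintype.card_subtype_eq, hn]; omega
  exact ⟨((MonoidHom.ofInjective ofSubtype_injective).trans
    (MulEquiv.subgroupCongr hrange)).symm.trans (Fintype.equivFinOfCardEq hc).permCongrHom⟩

/-- Point stabilizers of distinct points are distinct (degree at least 3). -/
theorem stabilizer_injective (h3 : 3 ≤ Fintype.card Ω) (a a' : Ω)
    (h : MulAction.stabilizer (Perm Ω) a = MulAction.stabilizer (Perm Ω) a') : a = a' := by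
  by_contra hne
  have hlt : ({a, a'} : Finset Ω).card < (Finset.univ : Finset Ω).card := by
    rw [Finset.card_univ]
    exact lt_of_le_of_lt Finset.card_le_two (by omega)
  obtain ⟨c, -, hc⟩ := Finset.exists_mem_notMem_of_card_lt_card hlt
  simp only [Finset.mem_insert, Finset.mem_singleton, not_or] at hc
  have h1 : swap a' c ∈ MulAction.stabilizer (Perm Ω) a := by
    rw [MulAction.mem_stabilizer_iff]
    exact swap_apply_of_ne_of_ne hne (Ne.symm hc.1)
  rw [h, MulAction.mem_stabilizer_iff] at h1
  have h2 : swap a' c a' = c := swap_apply_left a' c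
  exact hc.2 ((h2.symm.trans h1))

/-- The classification of subgroups of index 6 in the symmetric group of degree 6: there is a
transitive subgroup `H₂` of index 6 such that every subgroup of index 6 is a point stabilizer or
conjugate to `H₂`. -/
theorem classification (h6 : Fintype.card Ω = 6) :
    ∃ H₂ : Subgroup (Perm Ω), H₂.index = 6 ∧ (∀ x y : Ω, ∃ h ∈ H₂, h x = y) ∧
      Nonempty (H₂ ≃* Perm (Fin 5)) ∧
      ∀ H : Subgroup (Perm Ω), H.index = 6 →
        (∃ x : Ω, H = MulAction.stabilizer (Perm Ω) x) ∨
        ∃ g : Perm Ω, Subgroup.map (MulAut.conj g).toMonoidHom H₂ = H := by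
  obtain ⟨H₂, hidx, htr, hiso⟩ := exists_transitive_index_six h6
  refine ⟨H₂, hidx, htr, hiso, fun H hH => ?_⟩
  by_cases hs : ∃ x : Ω, H = MulAction.stabilizer (Perm Ω) x
  · exact Or.inl hs
  · right
    push Not at hs
    have hnt : Nontrivial Ω := by
      rw [← Fintype.one_lt_card_iff_nontrivial]; omega
    have hs₂ : ∀ x : Ω, H₂ ≠ MulAction.stabilizer (Perm Ω) x := by
      intro x hx
      obtain ⟨y, hy⟩ := exists_ne x
      obtain ⟨h, hh, hhx⟩ := htr x y
      rw [hx, MulAction.mem_stabilizer_iff] at hh
      exact hy (hhx.symm.trans hh)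
    exact exists_conj_of_not_stabilizer h6 H₂ H hidx hH hs₂ hs

end

end Cfsg.Agent.Helper29.Sym6
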