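import Mathlib

set_option autoImplicit false
set_option linter.unusedSectionVars false

namespace Cfsg.Agent.Helper29.SymIndex

open Equiv Equiv.Perm Nat

theorem pow_factorial_lt (k : ℕ) (hk : 4 ≤ k) : 2 ^ k * k ! < 2 * (2 * k - 2)! := by
  induction k, hk using Nat.le_induction with
  | base => decide
  | succ k hk ih =>
    obtain ⟨j, hj⟩ : ∃ j, 2 * k - 2 = j := ⟨_, rfl⟩
    have e1 : 2 * (k + 1) - 2 = j + 2 := by omega
    have e2 : (j + 2)! = (j + 2) * (j + 1) * j ! := by
      rw [Nat.factorial_succ, Nat.factorial_succ]; ring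
    rw [hj] at ih
    rw [e1, e2, pow_succ, Nat.factorial_succ k]
    have h1 : 2 * (k + 1) ≤ (j + 2) * (j + 1) := by
      have : 6 ≤ j := by omega
      have : 2 * (k + 1) = j + 4 := by omega
      nlinarith
    calc 2 ^ k * 2 * ((k + 1) * k !) = (2 * (k + 1)) * (2 ^ k * k !) := by ring
      _ < (2 * (k + 1)) * (2 * j !) := by
        apply Nat.mul_lt_mul_of_pos_left ih (by omega)
      _ ≤ ((j + 2) * (j + 1)) * (2 * j !) :=
        Nat.mul_le_mul_right _ h1
      _ = 2 * ((j + 2) * (j + 1) * j !) := by ring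

theorem factorial_eq_aux (n k : ℕ) (hk : 1 ≤ k) (hkn : 2 * k ≤ n)
    (h : (n - 2 * k)! * 2 ^ k * k ! = (n - 2)! * 2) : k = 1 ∨ (n = 6 ∧ k = 3) := by
  obtain ⟨m, rfl⟩ : ∃ m, n = m + 2 * k := ⟨n - 2 * k, by omega⟩
  rw [Nat.add_sub_cancel] at h
  have hm : 0 < m ! := Nat.factorial_pos m
  rcases Nat.lt_or_ge k 4 with hk4 | hk4
  · interval_cases k
    · left; rfl
    · exfalso
      have e : m + 2 * 2 - 2 = m + 2 := by omega
      have e2 : (m + 2)! = (m + 2) * (m + 1) * m ! := by
        rw [Nat.factorial_succ, Nat.factorial_succ]; ring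
      have e3 : (2 : ℕ)! = 2 := by decide
      rw [e, e2, e3] at h
      have h2 : (m + 2) * (m + 1) = 4 := by
        have : m ! * ((m + 2) * (m + 1) * 2) = m ! * 8 := by
          calc m ! * ((m + 2) * (m + 1) * 2) = (m + 2) * (m + 1) * m ! * 2 := by ring
            _ = m ! * 2 ^ 2 * 2 := h.symm
            _ = m ! * 8 := by ring
        have := Nat.eq_of_mul_eq_mul_left hm this
        omega
      rcases m with _ | m
      · omega
      · nlinarith
    · right
      have e : m + 2 * 3 - 2 = m + 4 := by omega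
      have e2 : (m + 4)! = (m + 4) * (m + 3) * (m + 2) * (m + 1) * m ! := by
        rw [Nat.factorial_succ, Nat.factorial_succ, Nat.factorial_succ, Nat.factorial_succ]; ring
      have e3 : (3 : ℕ)! = 6 := by decide
      rw [e, e2, e3] at h
      have h2 : (m + 4) * (m + 3) * (m + 2) * (m + 1) = 24 := by
        have : m ! * ((m + 4) * (m + 3) * (m + 2) * (m + 1) * 2) = m ! * 48 := by
          calc m ! * ((m + 4) * (m + 3) * (m + 2) * (m + 1) * 2)
              = (m + 4) * (m + 3) * (m + 2) * (m + 1) * m ! * 2 := by ring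
            _ = m ! * 2 ^ 3 * 6 := h.symm
            _ = m ! * 48 := by ring
        have := Nat.eq_of_mul_eq_mul_left hm this
        omega
      rcases m with _ | m
      · exact ⟨rfl, rfl⟩
      · exfalso
        have h1 : 5 ≤ m + 1 + 4 := by omega
        have h2' : 4 ≤ m + 1 + 3 := by omega
        have h3 : 3 ≤ m + 1 + 2 := by omega
        have h4 : 2 ≤ m + 1 + 1 := by omega
        have : 5 * 4 * 3 * 2 ≤ (m + 1 + 4) * (m + 1 + 3) * (m + 1 + 2) * (m + 1 + 1) :=
          Nat.mul_le_mul (Nat.mul_le_mul (Nat.mul_le_mul h1 h2') h3) h4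
        omega
  · exfalso
    have e : m + 2 * k - 2 = m + (2 * k - 2) := by omega
    rw [e] at h
    have h1 : m ! * (2 * k - 2)! ≤ (m + (2 * k - 2))! :=
      Nat.le_of_dvd (Nat.factorial_pos _) (Nat.factorial_mul_factorial_dvd_factorial_add _ _)
    have h2 := pow_factorial_lt k hk4
    have h3 : m ! * (2 ^ k * k !) < m ! * (2 * (2 * k - 2)!) := Nat.mul_lt_mul_of_pos_left h2 hm
    nlinarith

section
variable {α β : Type*} [Fintype α] [DecidableEq α] [Fintype β] [DecidableEq β]

theorem isConj_map_iff (Φ : Perm α ≃* Perm β) (g t : Perm α) :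
    IsConj (Φ g) (Φ t) ↔ IsConj g t := by
  constructor
  · intro h
    have := Φ.symm.toMonoidHom.map_isConj h
    simpa using this
  · intro h
    exact Φ.toMonoidHom.map_isConj h

/-- an isomorphism between symmetric groups of degree `≠ 6` maps transpositions to
transpositions -/
theorem isSwap_map (hcard : Fintype.card α = Fintype.card β) (h6 : Fintype.card α ≠ 6)
    (Φ : Perm α ≃* Perm β) {t : Perm α} (ht : t.IsSwap) : (Φ t).IsSwap := by
  have ho : orderOf (Φ t) = 2 := by rw [MulEquiv.orderOf_eq, ht.orderOf]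
  obtain ⟨m, hm⟩ := cycleType_prime_order (σ := Φ t) (by rw [ho]; exact Nat.prime_two)
  rw [ho] at hm
  set k := m + 1 with hk
  have htc : t.cycleType = {2} := isSwap_iff_cycleType.mp ht
  have hcardeq : (Finset.univ.filter (fun g : Perm α => g.cycleType = {2})).card =
      (Finset.univ.filter (fun g : Perm β => g.cycleType = Multiset.replicate k 2)).card := by
    apply Finset.card_equiv Φ.toEquiv
    intro g
    simp only [Finset.mem_filter, Finset.mem_univ, true_and]
    rw [← htc, ← hm, ← isConj_iff_cycleType_eq, ← isConj_iff_cycleType_eq]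
    exact (isConj_map_iff Φ g t).symm
  have h2k : 2 * k ≤ Fintype.card β := by
    have := sum_cycleType_le (Φ t)
    rw [hm, Multiset.sum_replicate, smul_eq_mul] at this
    omega
  have hn2 : 2 ≤ Fintype.card α := by omega
  have e1 := card_of_cycleType_mul_eq α ({2} : Multiset ℕ)
  have e2 := card_of_cycleType_mul_eq β (Multiset.replicate k 2)
  rw [if_pos (by simpa using hn2)] at e1
  rw [if_pos ⟨by rw [Multiset.sum_replicate, smul_eq_mul]; omega, by
    intro a ha; rw [Multiset.eq_of_mem_replicate ha]⟩] at e2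
  have hts : (Multiset.replicate k 2).toFinset = {2} := by
    rw [Multiset.toFinset_replicate, if_neg (by omega)]
  rw [Multiset.sum_replicate, Multiset.prod_replicate, hts, Finset.prod_singleton,
    Multiset.count_replicate_self, smul_eq_mul, ← hcardeq, ← hcard] at e2
  simp only [Multiset.sum_singleton, Multiset.prod_singleton, Multiset.toFinset_singleton,
    Finset.prod_singleton, Multiset.count_singleton_self, Nat.factorial_one, mul_one] at e1
  have hpos : 0 < (Finset.univ.filter (fun g : Perm α => g.cycleType = {2})).card := by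
    rw [Finset.card_pos]
    exact ⟨t, by simp [htc]⟩
  have key : (Fintype.card α - 2 * k)! * 2 ^ k * k ! = (Fintype.card α - 2)! * 2 := by
    apply Nat.eq_of_mul_eq_mul_left hpos
    rw [e1, ← e2, mul_comm k 2]
  rcases factorial_eq_aux _ k (by omega) (by omega) key with h1 | ⟨h1, -⟩
  · rw [isSwap_iff_cycleType, hm, h1]; rfl
  · exact absurd h1 h6

end

section Star

variable {Ω : Type*} [Fintype Ω] [DecidableEq Ω]

/-- non-commuting permutations move a common point -/
theorem exists_common_moved {s s' : Perm Ω} (h : s * s' ≠ s' * s) :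
    ∃ z, s z ≠ z ∧ s' z ≠ z := by
  by_contra hcon
  push Not at hcon
  apply h
  have hd : Perm.Disjoint s s' := by
    intro z
    by_cases hz : s z = z
    · exact Or.inl hz
    · exact Or.inr (hcon z hz)
  exact hd.commute.eq

/-- a transposition moving two distinct points is the transposition of these points -/
theorem eq_swap_of_moves {s : Perm Ω} (hs : s.IsSwap) {a b : Ω} (hab : a ≠ b) (ha : s a ≠ a)
    (hb : s b ≠ b) : s = swap a b := by
  obtain ⟨c, d, hcd, rfl⟩ := hs
  rw [swap_apply_ne_self_iff] at ha hb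
  rcases ha.2 with rfl | rfl
  · rcases hb.2 with rfl | rfl
    · exact absurd rfl hab
    · rfl
  · rcases hb.2 with rfl | rfl
    · exact swap_comm _ _
    · exact absurd rfl hab

theorem star_lemma {V : Type*} [Fintype V] [DecidableEq V] (hV : 4 ≤ Fintype.card V)
    (τ : V → Perm Ω) (hinj : Function.Injective τ) (hswap : ∀ v, (τ v).IsSwap)
    (hnc : ∀ v v', v ≠ v' → τ v * τ v' ≠ τ v' * τ v) : ∃ x, ∀ v, τ v x ≠ x := by
  by_contra hcon
  push Not at hcon
  have hne : Nonempty V := by
    rw [← Fintype.card_pos_iff]; omega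
  obtain ⟨v₁⟩ := hne
  obtain ⟨x, y, hxy, h1⟩ := hswap v₁
  obtain ⟨v₃, hv₃⟩ := hcon x
  obtain ⟨v₂, hv₂⟩ := hcon y
  have h1x : τ v₁ x ≠ x := by rw [h1, swap_apply_left]; exact hxy.symm
  have h1y : τ v₁ y ≠ y := by rw [h1, swap_apply_right]; exact hxy
  have hv₂₁ : v₂ ≠ v₁ := by rintro rfl; exact h1y hv₂
  have hv₃₁ : v₃ ≠ v₁ := by rintro rfl; exact h1x hv₃
  -- τ v₂ moves x
  have h2x : τ v₂ x ≠ x := by
    obtain ⟨z, hz2, hz1⟩ := exists_common_moved (hnc v₂ v₁ hv₂₁)
    rw [h1, swap_apply_ne_self_iff] at hz1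
    rcases hz1.2 with rfl | rfl
    · exact hz2
    · exact absurd hv₂ hz2
  have h3y : τ v₃ y ≠ y := by
    obtain ⟨z, hz3, hz1⟩ := exists_common_moved (hnc v₃ v₁ hv₃₁)
    rw [h1, swap_apply_ne_self_iff] at hz1
    rcases hz1.2 with rfl | rfl
    · exact absurd hv₃ hz3
    · exact hz3
  have hv₂₃ : v₂ ≠ v₃ := by rintro rfl; exact h2x hv₃
  obtain ⟨z, hz2, hz3⟩ := exists_common_moved (hnc v₂ v₃ hv₂₃)
  have hzx : z ≠ x := by rintro rfl; exact hz3 hv₃
  have hzy : z ≠ y := by rintro rfl; exact hz2 hv₂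
  have e2 : τ v₂ = swap x z := eq_swap_of_moves (hswap v₂) hzx.symm h2x hz2
  have e3 : τ v₃ = swap y z := eq_swap_of_moves (hswap v₃) hzy.symm h3y hz3
  -- a fourth element
  have hcard3 : ({v₁, v₂, v₃} : Finset V).card < (Finset.univ : Finset V).card := by
    rw [Finset.card_univ]
    exact lt_of_le_of_lt Finset.card_le_three (by omega)
  obtain ⟨v₄, -, hv₄⟩ := Finset.exists_mem_notMem_of_card_lt_card hcard3
  simp only [Finset.mem_insert, Finset.mem_singleton, not_or] at hv₄
  obtain ⟨h41, h42, h43⟩ := hv₄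
  obtain ⟨w₁, hw₁4, hw₁1⟩ := exists_common_moved (hnc v₄ v₁ h41)
  obtain ⟨w₂, hw₂4, hw₂2⟩ := exists_common_moved (hnc v₄ v₂ h42)
  obtain ⟨w₃, hw₃4, hw₃3⟩ := exists_common_moved (hnc v₄ v₃ h43)
  rw [h1, swap_apply_ne_self_iff] at hw₁1
  rw [e2, swap_apply_ne_self_iff] at hw₂2
  rw [e3, swap_apply_ne_self_iff] at hw₃3
  have hA : τ v₄ x ≠ x ∨ τ v₄ y ≠ y := by
    rcases hw₁1.2 with rfl | rfl
    · exact Or.inl hw₁4
    · exact Or.inr hw₁4
  have hB : τ v₄ x ≠ x ∨ τ v₄ z ≠ z := by
    rcases hw₂2.2 with rfl | rfl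
    · exact Or.inl hw₂4
    · exact Or.inr hw₂4
  have hC : τ v₄ y ≠ y ∨ τ v₄ z ≠ z := by
    rcases hw₃3.2 with rfl | rfl
    · exact Or.inl hw₃4
    · exact Or.inr hw₃4
  have hD : (τ v₄ x ≠ x ∧ τ v₄ y ≠ y) ∨ (τ v₄ x ≠ x ∧ τ v₄ z ≠ z) ∨
      (τ v₄ y ≠ y ∧ τ v₄ z ≠ z) := by
    rcases hA with ha | ha
    · rcases hC with hc | hc
      · exact Or.inl ⟨ha, hc⟩
      · exact Or.inr (Or.inl ⟨ha, hc⟩)
    · rcases hB with hb | hb
      · exact Or.inl ⟨hb, ha⟩
      · exact Or.inr (Or.inr ⟨ha, hb⟩)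
  rcases hD with ⟨ha, hb⟩ | ⟨ha, hb⟩ | ⟨ha, hb⟩
  · have := eq_swap_of_moves (hswap v₄) hxy ha hb
    exact h41 (hinj (this.trans h1.symm))
  · have := eq_swap_of_moves (hswap v₄) hzx.symm ha hb
    exact h42 (hinj (this.trans e2.symm))
  · have := eq_swap_of_moves (hswap v₄) hzy.symm ha hb
    exact h43 (hinj (this.trans e3.symm))

/-- a subgroup containing all transpositions avoiding `x` contains the stabilizer of `x` -/
theorem stabilizer_le_of_swaps (x : Ω) (H : Subgroup (Perm Ω))
    (h : ∀ b c : Ω, b ≠ x → c ≠ x → b ≠ c → swap b c ∈ H) :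
    MulAction.stabilizer (Perm Ω) x ≤ H := by
  have key : ∀ n : ℕ, ∀ g : Perm Ω, g.support.card = n → g x = x → g ∈ H := by
    intro n
    induction n using Nat.strong_induction_on with
    | _ n ih =>
      intro g hgn hgx
      by_cases hg1 : g = 1
      · rw [hg1]; exact H.one_mem
      · obtain ⟨b, hb⟩ : ∃ b, g b ≠ b := by
          by_contra hcon
          push Not at hcon
          exact hg1 (Perm.ext hcon)
        have hbx : b ≠ x := by rintro rfl; exact hb hgx
        have hcx : g b ≠ x := by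
          intro hc
          apply hbx
          apply g.injective
          rw [hc, hgx]
        have hsw : swap b (g b) ∈ H := h b (g b) hbx hcx (Ne.symm hb)
        have hlt := card_support_swap_mul hb
        have hfix : (swap b (g b) * g) x = x := by
          rw [Perm.mul_apply, hgx, swap_apply_of_ne_of_ne hbx.symm hcx.symm]
        have := ih _ (hgn ▸ hlt) (swap b (g b) * g) rfl hfix
        have e : g = swap b (g b) * (swap b (g b) * g) := by
          rw [← mul_assoc, swap_mul_self, one_mul]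
        rw [e]
        exact H.mul_mem hsw this
  intro g hg
  exact key _ g rfl (MulAction.mem_stabilizer_iff.mp hg)

theorem index_stabilizer_perm (x : Ω) :
    (MulAction.stabilizer (Perm Ω) x).index = Fintype.card Ω := by
  rw [MulAction.index_stabilizer]
  have : MulAction.orbit (Perm Ω) x = Set.univ := by
    ext y
    simp only [Set.mem_univ, iff_true]
    exact ⟨swap x y, by simp⟩
  rw [this, Set.ncard_univ, Nat.card_eq_fintype_card]

/-- subgroups with the same finite nonzero index, one containing the other, are equal -/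
theorem eq_of_le_of_index_eq {G : Type*} [Group G] {K H : Subgroup G} (hKH : K ≤ H)
    (hidx : K.index = H.index) (h0 : H.index ≠ 0) : K = H := by
  have h1 := Subgroup.relIndex_mul_index hKH
  rw [hidx] at h1
  have h2 : K.relIndex H = 1 := by
    have : K.relIndex H * H.index = 1 * H.index := by rw [h1, one_mul]
    exact Nat.eq_of_mul_eq_mul_right (Nat.pos_of_ne_zero h0) this
  exact le_antisymm hKH (Subgroup.relIndex_eq_one.mp h2)

/-- the general case `n ≥ 5`, `n ≠ 6` -/
theorem exists_stabilizer_le (h5 : 5 ≤ Fintype.card Ω) (h6 : Fintype.card Ω ≠ 6)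
    (H : Subgroup (Perm Ω)) (hH : H.index = Fintype.card Ω) :
    ∃ x : Ω, MulAction.stabilizer (Perm Ω) x ≤ H := by
  classical
  have hfinX : Finite (Perm Ω ⧸ H) := inferInstance
  have hftX : Fintype (Perm Ω ⧸ H) := Fintype.ofFinite _
  have hcardX : Fintype.card (Perm Ω ⧸ H) = Fintype.card Ω := by
    rw [← hH, Subgroup.index_eq_card, Nat.card_eq_fintype_card]
  set phi : Perm Ω →* Perm (Perm Ω ⧸ H) := MulAction.toPermHom (Perm Ω) (Perm Ω ⧸ H) with hphi
  have hker : phi.ker = ⊥ := by
    rw [hphi, ← Subgroup.normalCore_eq_ker]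
    by_contra hne
    have hnt : Nontrivial H.normalCore := (Subgroup.nontrivial_iff_ne_bot _).mpr hne
    have hle : alternatingGroup Ω ≤ H :=
      le_trans (alternatingGroup_le_of_normal (by rw [Nat.card_eq_fintype_card]; exact h5) hnt)
        (Subgroup.normalCore_le H)
    have hntΩ : Nontrivial Ω := by
      rw [← Fintype.one_lt_card_iff_nontrivial]; omega
    have := Subgroup.index_dvd_of_le hle
    rw [alternatingGroup.index_eq_two, hH] at this
    have := Nat.le_of_dvd (by norm_num) this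
    omega
  have hinj : Function.Injective phi := (MonoidHom.ker_eq_bot_iff phi).mp hker
  have hbij : Function.Bijective phi := by
    rw [Fintype.bijective_iff_injective_and_card]
    exact ⟨hinj, by rw [Fintype.card_perm, Fintype.card_perm, hcardX]⟩
  set Φ : Perm Ω ≃* Perm (Perm Ω ⧸ H) := MulEquiv.ofBijective phi hbij with hΦ
  set x₀ : Perm Ω ⧸ H := ((1 : Perm Ω) : Perm Ω ⧸ H) with hx₀
  have hmemH : ∀ g : Perm Ω, g ∈ H ↔ Φ g x₀ = x₀ := by
    intro g
    have e : Φ g x₀ = ((g * 1 : Perm Ω) : Perm Ω ⧸ H) := rfl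
    rw [e, hx₀, mul_one, QuotientGroup.eq, mul_one]
    exact (inv_mem_iff (H := H)).symm
  -- the transpositions through `x₀` pulled back
  have hcardV : 4 ≤ Fintype.card {v : Perm Ω ⧸ H // v ≠ x₀} := by
    have : Fintype.card {v : Perm Ω ⧸ H // v ≠ x₀} = Fintype.card (Perm Ω ⧸ H) - 1 := by
      rw [Fintype.card_subtype_compl, Fintype.card_subtype_eq]
    omega
  set τ : {v : Perm Ω ⧸ H // v ≠ x₀} → Perm Ω := fun v => Φ.symm (swap x₀ v.1) with hτ
  have hτswap : ∀ v, (τ v).IsSwap := fun v =>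
    isSwap_map hcardX (by rw [hcardX]; exact h6) Φ.symm ⟨x₀, v.1, v.2.symm, rfl⟩
  have hτinj : Function.Injective τ := by
    intro v v' hvv
    have h1 : swap x₀ v.1 = swap x₀ v'.1 := Φ.symm.injective hvv
    have h2 := congrArg (fun s : Perm (Perm Ω ⧸ H) => s x₀) h1
    simp only [swap_apply_left] at h2
    exact Subtype.ext h2
  have hτnc : ∀ v v', v ≠ v' → τ v * τ v' ≠ τ v' * τ v := by
    intro v v' hvv hcomm
    have h1 : swap x₀ v.1 * swap x₀ v'.1 = swap x₀ v'.1 * swap x₀ v.1 := by
      apply Φ.symm.injective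
      rw [map_mul, map_mul]
      exact hcomm
    have h2 := congrArg (fun s : Perm (Perm Ω ⧸ H) => s v.1) h1
    simp only [Perm.mul_apply, swap_apply_right] at h2
    have hne : v.1 ≠ v'.1 := fun h => hvv (Subtype.ext h)
    rw [swap_apply_of_ne_of_ne v.2 hne, swap_apply_right, swap_apply_left] at h2
    exact v'.2 h2.symm
  obtain ⟨x, hx⟩ := star_lemma hcardV τ hτinj hτswap hτnc
  refine ⟨x, ?_⟩
  apply stabilizer_le_of_swaps
  intro b c hbx hcx hbc
  rw [hmemH]
  by_contra hmove
  have hsw : (Φ (swap b c)).IsSwap := isSwap_map hcardX.symm h6 Φ ⟨b, c, hbc, rfl⟩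
  obtain ⟨u, w, huw, e⟩ := hsw
  have hmove' : (swap u w) x₀ ≠ x₀ := by rw [← e]; exact hmove
  rw [swap_apply_ne_self_iff] at hmove'
  have hex : ∃ v : {v : Perm Ω ⧸ H // v ≠ x₀}, Φ (swap b c) = swap x₀ v.1 := by
    rcases hmove'.2 with h1 | h1
    · exact ⟨⟨w, by rw [h1]; exact huw.symm⟩, by rw [e]; exact congrArg (fun z => swap z w) h1.symm⟩
    · exact ⟨⟨u, by rw [h1]; exact huw⟩, by
        rw [e, swap_comm]; exact congrArg (fun z => swap z u) h1.symm⟩
  obtain ⟨v, hv⟩ := hex
  have hτv : τ v = swap b c := by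
    rw [hτ]
    simp only
    rw [← hv, MulEquiv.symm_apply_apply]
  have := hx v
  rw [hτv, swap_apply_of_ne_of_ne hbx.symm hcx.symm] at this
  exact this rfl

/-- degree `p + 1` with a normal subgroup of order `p` -/
theorem exists_le_stabilizer_of_prime (p : ℕ) [hp : Fact p.Prime]
    (hn : Fintype.card Ω = p + 1) (H : Subgroup (Perm Ω)) (c : H) (hc : orderOf c = p)
    (hnormal : (Subgroup.zpowers c).Normal) :
    ∃ x : Ω, H ≤ MulAction.stabilizer (Perm Ω) x := by
  have hc' : orderOf (c : Perm Ω) = p := by rw [Subgroup.orderOf_coe, hc]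
  obtain ⟨m, hm⟩ := cycleType_prime_order (σ := (c : Perm Ω)) (by rw [hc']; exact hp.out)
  rw [hc'] at hm
  have hsum := sum_cycleType_le (c : Perm Ω)
  rw [hm, Multiset.sum_replicate, smul_eq_mul, hn] at hsum
  have hp2 : 2 ≤ p := hp.out.two_le
  have hm0 : m = 0 := by
    by_contra hm0
    have : 2 ≤ m + 1 := by omega
    nlinarith
  have hsupp : (c : Perm Ω).support.card = p := by
    rw [← sum_cycleType, hm, hm0, Multiset.sum_replicate, smul_eq_mul]; ring
  have hcompl : ((c : Perm Ω).support)ᶜ.card = 1 := by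
    rw [Finset.card_compl, hsupp, hn]; omega
  obtain ⟨x, hx⟩ := Finset.card_eq_one.mp hcompl
  refine ⟨x, ?_⟩
  intro h hh
  rw [MulAction.mem_stabilizer_iff]
  have hconj : (⟨h, hh⟩ : H) * c * (⟨h, hh⟩ : H)⁻¹ ∈ Subgroup.zpowers c :=
    hnormal.conj_mem c (Subgroup.mem_zpowers c) ⟨h, hh⟩
  obtain ⟨j, hj⟩ := Subgroup.mem_zpowers_iff.mp hconj
  have hj' : (c : Perm Ω) ^ j = h * (c : Perm Ω) * h⁻¹ := by
    have := congrArg Subtype.val hj
    simpa using this
  have hsub : ((c : Perm Ω) ^ j).support ⊆ (c : Perm Ω).support := support_zpow_le _ j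
  have hcardj : ((c : Perm Ω) ^ j).support.card = (c : Perm Ω).support.card := by
    rw [hj', card_support_conj]
  have hsuppj : ((c : Perm Ω) ^ j).support = (c : Perm Ω).support :=
    Finset.eq_of_subset_of_card_le hsub hcardj.ge
  have hnot : h x ∉ (c : Perm Ω).support := by
    rw [← hsuppj, hj', support_conj, Finset.mem_map]
    rintro ⟨y, hy, hyx⟩
    have : y = x := h.injective hyx
    rw [this] at hy
    have hxc : x ∈ ((c : Perm Ω).support)ᶜ := by rw [hx]; exact Finset.mem_singleton_self x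
    exact (Finset.mem_compl.mp hxc) hy
  have : h x ∈ ((c : Perm Ω).support)ᶜ := Finset.mem_compl.mpr hnot
  rw [hx, Finset.mem_singleton] at this
  exact this

/-- the small cases -/
theorem exists_le_stabilizer_small (h4 : Fintype.card Ω ≤ 4)
    (H : Subgroup (Perm Ω)) (hH : H.index = Fintype.card Ω) :
    ∃ x : Ω, H ≤ MulAction.stabilizer (Perm Ω) x := by
  have hcard : Nat.card H * H.index = (Fintype.card Ω)! := by
    rw [Subgroup.card_mul_index, Nat.card_eq_fintype_card, Fintype.card_perm]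
  rw [hH] at hcard
  have hn0 : Fintype.card Ω ≠ 0 := by
    intro h0
    rw [h0] at hH
    exact Subgroup.index_ne_zero_of_finite hH
  have hne : Nonempty Ω := by
    rw [← Fintype.card_pos_iff]; omega
  obtain ⟨n, hn⟩ : ∃ n, Fintype.card Ω = n := ⟨_, rfl⟩
  rw [hn] at hcard
  have hn4 : n ≤ 4 := hn ▸ h4
  have hn0' : n ≠ 0 := hn ▸ hn0
  interval_cases n
  · exact absurd rfl hn0'
  · -- n = 1
    obtain ⟨x⟩ := hne
    refine ⟨x, fun g _ => ?_⟩
    rw [MulAction.mem_stabilizer_iff]
    have : Subsingleton Ω := by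
      rw [← Fintype.card_le_one_iff_subsingleton, hn]
    exact Subsingleton.elim _ _
  · -- n = 2
    obtain ⟨x⟩ := hne
    refine ⟨x, ?_⟩
    have h1 : Nat.card H = 1 := by
      have : (2 : ℕ)! = 2 := by decide
      rw [this] at hcard
      omega
    rw [Subgroup.card_eq_one.mp h1]
    exact bot_le
  · -- n = 3
    have h2 : Nat.card H = 2 := by
      have : (3 : ℕ)! = 6 := by decide
      rw [this] at hcard
      omega
    have : Fact (Nat.Prime 2) := ⟨Nat.prime_two⟩
    obtain ⟨c, hc⟩ := exists_prime_orderOf_dvd_card' (G := H) 2 (by rw [h2])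
    apply exists_le_stabilizer_of_prime 2 hn H c hc
    have : Subgroup.zpowers c = ⊤ := by
      apply Subgroup.eq_top_of_card_eq
      rw [Nat.card_zpowers, hc, h2]
    rw [this]
    infer_instance
  · -- n = 4
    have h6 : Nat.card H = 6 := by
      have : (4 : ℕ)! = 24 := by decide
      rw [this] at hcard
      omega
    have : Fact (Nat.Prime 3) := ⟨Nat.prime_three⟩
    obtain ⟨c, hc⟩ := exists_prime_orderOf_dvd_card' (G := H) 3 (by rw [h6]; norm_num)
    apply exists_le_stabilizer_of_prime 3 hn H c hc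
    apply Subgroup.normal_of_index_eq_two
    have := Subgroup.card_mul_index (Subgroup.zpowers c)
    rw [Nat.card_zpowers, hc, h6] at this
    omega

/-- subgroups of index `n` in the symmetric group of degree `n ≠ 6` are point stabilizers -/
theorem eq_stabilizer_of_index (h6 : Fintype.card Ω ≠ 6)
    (H : Subgroup (Perm Ω)) (hH : H.index = Fintype.card Ω) :
    ∃ x : Ω, H = MulAction.stabilizer (Perm Ω) x := by
  have h0 : H.index ≠ 0 := Subgroup.index_ne_zero_of_finite
  rcases Nat.lt_or_ge (Fintype.card Ω) 5 with h5 | h5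
  · obtain ⟨x, hx⟩ := exists_le_stabilizer_small (by omega) H hH
    refine ⟨x, eq_of_le_of_index_eq hx (hH.trans (index_stabilizer_perm x).symm) ?_⟩
    rw [index_stabilizer_perm, ← hH]; exact h0
  · obtain ⟨x, hx⟩ := exists_stabilizer_le h5 h6 H hH
    exact ⟨x, (eq_of_le_of_index_eq hx ((index_stabilizer_perm x).trans hH.symm) h0).symm⟩

end Star

end Cfsg.Agent.Helper29.SymIndex
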