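import Mathlib
import Cfsg.Agent.Helper29.SylMaxDefs
set_option autoImplicit false
set_option linter.unusedSectionVars false

/-! S2930 piece BLKP: a chain of blocks of sizes `1, p, p², …` through a point for a finite
`p`-group (generalization of helper14's `SylMaxBLK` from `2` to `p`). -/

namespace Cfsg.Agent.Helper29.ThreeMin
open MulAction Equiv Cfsg.Agent.Helper29.SylMax
open scoped Pointwise
universe u v
variable {𝔾 : Type u} [Group 𝔾] {α : Type v} [Fintype α] [DecidableEq α] [MulAction 𝔾 α]

section chain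
variable {R : Type*} [Group R] (p : ℕ)

open Classical in
/-- the next subgroup of a chain: an overgroup of `p`-fold order if there is one, `⊤` otherwise -/
noncomputable def nextSub (H : Subgroup R) : Subgroup R :=
  if h : ∃ H' : Subgroup R, H ≤ H' ∧ Nat.card H' = p * Nat.card H then h.choose else ⊤

theorem le_nextSub (H : Subgroup R) : H ≤ nextSub p H := by
  unfold nextSub
  split_ifs with h
  · exact h.choose_spec.1
  · exact le_top

theorem card_nextSub (H : Subgroup R)
    (h : ∃ H' : Subgroup R, H ≤ H' ∧ Nat.card H' = p * Nat.card H) :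
    Nat.card (nextSub p H) = p * Nat.card H := by
  unfold nextSub
  rw [dif_pos h]
  exact h.choose_spec.2

/-- the chain of subgroups -/
noncomputable def chainSub (K₀ : Subgroup R) : ℕ → Subgroup R
  | 0 => K₀
  | i + 1 => nextSub p (chainSub K₀ i)

theorem chainSub_le_succ (K₀ : Subgroup R) (i : ℕ) : chainSub p K₀ i ≤ chainSub p K₀ (i + 1) :=
  le_nextSub p _

theorem le_chainSub (K₀ : Subgroup R) (i : ℕ) : K₀ ≤ chainSub p K₀ i := by
  induction i with
  | zero => exact le_refl _
  | succ i ih => exact ih.trans (chainSub_le_succ p K₀ i)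

theorem card_chainSub [Finite R] [hp : Fact p.Prime] (K₀ : Subgroup R) {a m : ℕ}
    (hR : Nat.card R = p ^ m)
    (hK : Nat.card K₀ = p ^ a) (i : ℕ) (hi : a + i ≤ m) :
    Nat.card (chainSub p K₀ i) = p ^ (a + i) := by
  induction i with
  | zero => exact hK
  | succ i ih =>
    have ih' := ih (by omega)
    have hdvd : p ^ (a + i + 1) ∣ Nat.card R := by
      rw [hR]; exact pow_dvd_pow p (by omega)
    obtain ⟨H', hH', hle⟩ := Sylow.exists_subgroup_card_pow_succ hdvd ih'
    have hex : ∃ H' : Subgroup R, chainSub p K₀ i ≤ H' ∧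
        Nat.card H' = p * Nat.card (chainSub p K₀ i) :=
      ⟨H', hle, by rw [hH', ih', pow_succ]; ring⟩
    show Nat.card (nextSub p (chainSub p K₀ i)) = _
    rw [card_nextSub p _ hex, ih', ← add_assoc, pow_succ]
    ring

end chain

theorem stabilizer_subgroup_eq {R : Type*} [Group R] [MulAction R α] (H : Subgroup R) (x : α) :
    stabilizer H x = (stabilizer R x).subgroupOf H := by
  ext k
  rw [mem_stabilizer_iff, Subgroup.mem_subgroupOf, mem_stabilizer_iff]
  rfl

theorem exists_block_chain_p {R : Type*} [Group R] [Finite R] [MulAction R α] (p : ℕ)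
    [hp : Fact p.Prime] (hR : IsPGroup p R) (x : α) :
    ∃ B : ℕ → Set α, (∀ i, IsBlock R (B i)) ∧ (∀ i, x ∈ B i) ∧ (∀ i, B i ⊆ B (i + 1)) ∧
      (∀ i, B i ⊆ orbit R x) ∧ (∀ i, p ^ i ≤ (orbit R x).ncard → (B i).ncard = p ^ i) := by
  classical
  have hp1 : 1 < p := hp.out.one_lt
  have hp0 : 0 < p := hp.out.pos
  obtain ⟨m, hm⟩ := IsPGroup.iff_card.mp hR
  set K₀ : Subgroup R := stabilizer R x with hK₀
  obtain ⟨a, ham, ha⟩ := (Nat.dvd_prime_pow hp.out).mp
    (hm ▸ Subgroup.card_subgroup_dvd_card K₀)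
  have horb : (orbit R x).ncard * p ^ a = p ^ m := by
    rw [← index_stabilizer, ← ha, ← hm]
    exact Subgroup.index_mul_card _
  refine ⟨fun i => orbit (chainSub p K₀ i) x, ?_, ?_, ?_, ?_, ?_⟩
  · intro i
    exact IsBlock.of_orbit (le_chainSub p K₀ i)
  · intro i
    exact mem_orbit_self x
  · intro i y hy
    obtain ⟨k, rfl⟩ := hy
    exact ⟨⟨(k : R), chainSub_le_succ p K₀ i k.2⟩, rfl⟩
  · intro i y hy
    obtain ⟨k, rfl⟩ := hy
    exact ⟨(k : R), rfl⟩
  · intro i hi
    have hi' : a + i ≤ m := by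
      by_contra hcon
      have h1 : p ^ m < p ^ (a + i) := Nat.pow_lt_pow_right hp1 (by omega)
      have h2 : p ^ i * p ^ a ≤ (orbit R x).ncard * p ^ a := Nat.mul_le_mul_right _ hi
      rw [horb, ← pow_add, add_comm] at h2
      omega
    have hcard := card_chainSub p K₀ hm ha i hi'
    have h1 : (orbit (chainSub p K₀ i) x).ncard * p ^ a = p ^ (a + i) := by
      rw [← index_stabilizer, ← hcard, stabilizer_subgroup_eq]
      have h2 : Nat.card ((stabilizer R x).subgroupOf (chainSub p K₀ i)) = p ^ a := by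
        rw [← ha]
        exact Nat.card_congr (Subgroup.subgroupOfEquivOfLe (le_chainSub p K₀ i)).toEquiv
      rw [← h2]
      exact Subgroup.index_mul_card _
    rw [pow_add, mul_comm (p ^ a)] at h1
    exact Nat.eq_of_mul_eq_mul_right (by positivity) h1

end Cfsg.Agent.Helper29.ThreeMin
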