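import Mathlib
import Cfsg.Agent.Helper29.SylMaxDefs
import Cfsg.Agent.Helper29.SylMaxO1
import Cfsg.Agent.Helper13.SylMaxO2

set_option autoImplicit false

/-!
# S2930 piece TRIE: two halves and a finer partition with fibres of constant size `t ≥ 2`
(generalization of `SylMax.twoMax_of_halves`, where `t = 2`).
-/

namespace Cfsg.Agent.Helper29.ThreeMin

open MulAction Equiv Cfsg.Agent.Helper29.SylMax Cfsg.Agent.Helper13.SylMax
open scoped Pointwise

universe u v

variable {𝔾 : Type u} [Group 𝔾] {α : Type v} [Fintype α] [DecidableEq α] [MulAction 𝔾 α]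

omit [Fintype α] [DecidableEq α] in
/-- a point of `s` outside a smaller set -/
theorem exists_mem_not_mem_of_ncard_lt [Finite α] (s C : Set α) (h : C.ncard < s.ncard) :
    ∃ u ∈ s, u ∉ C := by
  by_contra hcon
  push Not at hcon
  have hsub : s ⊆ C := fun z hz => hcon z hz
  have := Set.ncard_le_ncard hsub (Set.toFinite _)
  omega

theorem twoMax_of_halves_fib {ι : Type*} (hA : Amb 𝔾 α) (hα : 8 ≤ Nat.card α) (R : Subgroup 𝔾)
    (B₂ : Set α) (hhalf : 2 * B₂.ncard = Nat.card α)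
    (hB₂ : ∀ r ∈ R, r • B₂ = B₂ ∨ r • B₂ = B₂ᶜ)
    (f : α → ι) (hf : Pres R f)
    (href : ∀ x y : α, f x = f y → (x ∈ B₂ ↔ y ∈ B₂))
    (t : ℕ) (ht : 2 ≤ t) (htlt : t < B₂.ncard)
    (hfib : ∀ x : α, {y : α | f y = f x}.ncard = t) : TwoMax R := by
  classical
  have hfin := hA.finite
  have hsc : B₂ᶜ.ncard = B₂.ncard := by
    have := Set.ncard_add_ncard_compl B₂
    omega
  -- the points
  obtain ⟨x, hx⟩ : B₂.Nonempty := by
    rw [← Set.ncard_pos]; omega
  obtain ⟨y, hy⟩ : B₂ᶜ.Nonempty := by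
    rw [← Set.ncard_pos]; omega
  have hfxy : f x ≠ f y := fun h => hy ((href x y h).mp hx)
  set C : Set α := {z | f z = f x} with hC
  set B : Set α := {z | f z = f y} with hB
  have hCs : C ⊆ B₂ := fun z hz => (href z x hz).mpr hx
  have hBs : B ⊆ B₂ᶜ := fun z hz hz' => hy ((href z y hz).mp hz')
  have hdisj : ∀ z ∈ B, z ∉ C := fun z hz hz' => hfxy (hz'.symm.trans hz)
  have hcard : B.ncard = C.ncard := by rw [hfib y, hfib x]
  obtain ⟨σ, hσeven, hσ1, hσ2, hσ3⟩ := exists_even_exchange C B hdisj hcard (by rw [hfib x]; exact ht)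
  obtain ⟨g, hg⟩ := hA.even_mem σ hσeven
  have hfσ : ∀ a : α, f (σ a) = if f a = f x then f y else if f a = f y then f x else f a := by
    intro a
    by_cases h1 : f a = f x
    · rw [if_pos h1]
      exact hσ1 a h1
    · rw [if_neg h1]
      by_cases h2 : f a = f y
      · rw [if_pos h2]
        exact hσ2 a h2
      · rw [if_neg h2, hσ3 a h1 h2]
  have hgf : ∀ a b : α, f a = f b → f (g • a) = f (g • b) := by
    intro a b hab
    rw [hg, hg, hfσ, hfσ, hab]
  -- a second point in the fibre of x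
  obtain ⟨x', hx'C, hx'x⟩ : ∃ x' ∈ C, x' ≠ x := by
    have h1 : 1 < C.ncard := by rw [hfib x]; omega
    rw [Set.one_lt_ncard_iff] at h1
    obtain ⟨a, b, ha, hb, hab⟩ := h1
    by_cases hax : a = x
    · exact ⟨b, hb, fun h => hab (hax.trans h.symm)⟩
    · exact ⟨a, ha, hax⟩
  have hx'B : x' ∈ B₂ := hCs hx'C
  -- first maximal subgroup
  have hne1 : Subgroup.closure ((R : Set 𝔾) ∪ {g}) ≠ ⊤ := by
    apply ne_top_of_pres hA _ f
    · rintro k (hk | hk)
      · exact hf k hk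
      · rw [Set.mem_singleton_iff] at hk
        subst hk
        exact hgf
    · exact ⟨x', x, hx'x, hx'C⟩
    · exact ⟨x, y, hfxy⟩
  obtain ⟨M₁, hM₁, hle1⟩ := exists_coatom_ge hA _ hne1
  have hRM₁ : R ≤ M₁ := fun r hr => hle1 (Subgroup.subset_closure (Or.inl hr))
  have hgM₁ : g ∈ M₁ := hle1 (Subgroup.subset_closure (Or.inr rfl))
  -- second maximal subgroup
  have hne2 : Subgroup.closure ((R : Set 𝔾) ∪ (stabilizer 𝔾 B₂ : Set 𝔾)) ≠ ⊤ := by
    apply ne_top_of_pres hA _ (fun z => (z ∈ B₂ : Prop))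
    · rintro k (hk | hk)
      · exact pres_mem_of_smul B₂ k (hB₂ k hk)
      · exact pres_mem_of_smul B₂ k (Or.inl hk)
    · exact ⟨x', x, hx'x, by simp [hx, hx'B]⟩
    · refine ⟨x, y, ?_⟩
      have hy2 : y ∉ B₂ := hy
      simp [hx, hy2]
  obtain ⟨M₂, hM₂, hle2⟩ := exists_coatom_ge hA _ hne2
  have hRM₂ : R ≤ M₂ := fun r hr => hle2 (Subgroup.subset_closure (Or.inl hr))
  have hSM₂ : stabilizer 𝔾 B₂ ≤ M₂ := fun r hr => hle2 (Subgroup.subset_closure (Or.inr hr))
  by_cases hM : M₁ = M₂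
  · exfalso
    subst hM
    obtain ⟨u, huB, huC⟩ := exists_mem_not_mem_of_ncard_lt B₂ C (by rw [hfib x]; exact htlt)
    obtain ⟨u', hu'B, hu'C⟩ := exists_mem_not_mem_of_ncard_lt B₂ᶜ B (by rw [hfib y, hsc]; exact htlt)
    have huB' : u ∉ B := fun h => hBs h huB
    have hu'C' : u' ∉ C := fun h => hu'B (hCs h)
    apply hM₁.1
    apply eq_top_of_stabilizer_le_of_mixing hA hα B₂ hhalf M₁ hSM₂ g hgM₁ u x huB ?_ hx ?_
      u' y hu'B ?_ hy ?_
    · rw [hg, hσ3 u huC huB']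
      exact huB
    · rw [hg]
      exact hBs (hσ1 x rfl)
    · rw [hg, hσ3 u' hu'C' hu'C]
      exact hu'B
    · rw [hg]
      exact hCs (hσ2 y rfl)
  · exact ⟨M₁, M₂, hM, hM₁, hM₂, hRM₁, hRM₂⟩

end Cfsg.Agent.Helper29.ThreeMin
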