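import Mathlib
import Cfsg.Agent.Helper29.SylMaxDefs
import Cfsg.Agent.Helper29.SylMaxLAB
import Cfsg.Agent.Helper29.SylMaxO3
import Cfsg.Agent.Helper29.SylMaxORB
import Cfsg.Agent.Helper13.SylMaxO2
import Cfsg.Agent.Helper13.SylMaxAMB
import Cfsg.Agent.Helper29.ThreeMinBLKP
import Cfsg.Agent.Helper29.ThreeMinTRIE
import Cfsg.Agent.Helper18.ThreeMinTRIT

set_option autoImplicit false

/-!
# S2930 piece ORB3: case analysis on the orbits of a 3-subgroup `R` of the alternating group
-/

namespace Cfsg.Agent.Helper29.ThreeMin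

open MulAction Equiv Cfsg.Agent.Helper29.SylMax
open Cfsg.Agent.Helper13.SylMax
open Cfsg.Agent.Helper18.ThreeMin (twoMax_of_thirds)
open scoped Pointwise

universe u v

variable {𝔾 : Type u} [Group 𝔾] {α : Type v} [Fintype α] [DecidableEq α] [MulAction 𝔾 α]

/-- the degrees allowed by S2930 -/
def Target (n : ℕ) : Prop := n = 6 ∨ n = 9 ∨ ∃ a : ℕ, 2 ≤ a ∧ n = 3 ^ a + 1

theorem ncard_orbit_pow3 (R : Subgroup 𝔾) [Finite R] (hR : IsPGroup 3 R) (x : α) :
    ∃ a : ℕ, (orbit R x).ncard = 3 ^ a := by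
  have : Fact (Nat.Prime 3) := ⟨Nat.prime_three⟩
  obtain ⟨a, ha⟩ := hR.card_orbit x
  exact ⟨a, by rw [← ha]; rfl⟩

theorem three_pow_ge {a k : ℕ} (h : k ≤ a) : 3 ^ k ≤ 3 ^ a :=
  Nat.pow_le_pow_right (by norm_num) h

/-- two orbits, `x` in the bigger one -/
theorem case_two3 (hA : Amb 𝔾 α) (hα : 5 ≤ Nat.card α) (R : Subgroup 𝔾) (hR : IsPGroup 3 R)
    (x y : α) (hun : orbit R x ∪ orbit R y = Set.univ) (hy : y ∉ orbit R x)
    (hle : (orbit R y).ncard ≤ (orbit R x).ncard) :
    Target (Nat.card α) ∨ TwoMax R := by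
  haveI := hA.finite
  have : Fact (Nat.Prime 3) := ⟨Nat.prime_three⟩
  obtain ⟨a, ha⟩ := ncard_orbit_pow3 R hR x
  obtain ⟨b, hb⟩ := ncard_orbit_pow3 R hR y
  have hdisj : Disjoint (orbit R x) (orbit R y) := by
    rcases orbit.eq_or_disjoint (G := R) x y with h | h
    · exact absurd (h ▸ mem_orbit_self y) hy
    · exact h
  have hcompl : (orbit R x)ᶜ = orbit R y := by
    ext z
    constructor
    · intro hz
      have : z ∈ orbit R x ∪ orbit R y := by rw [hun]; trivial
      rcases this with h | h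
      · exact absurd h hz
      · exact h
    · intro hz hz'
      exact Set.disjoint_left.mp hdisj hz' hz
  have hn : Nat.card α = 3 ^ a + 3 ^ b := by
    have := Set.ncard_add_ncard_compl (orbit R x)
    rw [hcompl, ha, hb] at this
    exact this.symm
  have hab : b ≤ a := by
    rw [ha, hb] at hle
    exact (Nat.pow_le_pow_iff_right (by norm_num)).mp hle
  have hOinv : ∀ r ∈ R, r • orbit R x = orbit R x := by
    intro r hr
    exact smul_orbit (⟨r, hr⟩ : R) x
  rcases Nat.eq_zero_or_pos b with hb0 | hbpos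
  · -- conclusion
    left
    subst hb0
    right; right
    refine ⟨a, ?_, by rw [hn]; norm_num⟩
    by_contra h
    push Not at h
    have : 3 ^ a ≤ 3 ^ 1 := three_pow_ge (by omega)
    rw [hn] at hα
    omega
  obtain ⟨B, hblock, hmem, hsucc, hsub, hcard⟩ := exists_block_chain_p (R := R) 3 hR x
  rcases Nat.lt_or_ge b a with hlt | hge
  · -- unequal orbits
    right
    have hBb : (B b).ncard = 3 ^ b := hcard b (by rw [ha]; exact three_pow_ge hab)
    have hbb : BlockAt R x (B b) := ⟨hblock b, hmem b, hsub b⟩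
    apply twoMax_of_two_orbits hA hα R (orbit R x) hOinv ?_ (lab R (B b)) hbb.pres ?_ (B b)
      (hsub b) ⟨x, hmem b, ?_⟩ (by rw [hcompl, hBb, hb]) ?_
    · rw [hn, ha]
      have : 3 ^ b < 3 ^ a := Nat.pow_lt_pow_right (by norm_num) hlt
      omega
    · intro u w hu
      have hfib := hbb.fiber_not_mem hu
      constructor
      · intro h
        have : w ∈ {z | lab R (B b) z = lab R (B b) u} := h.symm
        rw [hfib] at this
        exact this
      · intro hw
        have : w ∈ {z | lab R (B b) z = lab R (B b) u} := by rw [hfib]; exact hw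
        exact this.symm
    · intro w
      have h1 := lab_eq_of_mem (hblock b) (1 : R) (y := x) (by rw [one_smul]; exact hmem b)
      rw [one_smul] at h1
      constructor
      · intro h
        have : w ∈ {z | lab R (B b) z = lab R (B b) x} := h
        rw [h1] at this
        exact this
      · intro hw
        have : w ∈ {z | lab R (B b) z = lab R (B b) x} := by rw [h1]; exact hw
        exact this
    · rw [hcompl, hb]
      calc 2 ≤ 3 ^ 1 := by norm_num
        _ ≤ 3 ^ b := three_pow_ge hbpos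
  · -- equal orbits
    have heq : a = b := le_antisymm hge hab
    subst heq
    rcases Nat.lt_or_ge a 2 with ha1 | ha2
    · left
      have : a = 1 := by omega
      subst this
      left
      show Nat.card α = 6
      rw [hn]; norm_num
    right
    have h9 : 9 ≤ 3 ^ a := by
      calc 9 = 3 ^ 2 := by norm_num
        _ ≤ 3 ^ a := three_pow_ge ha2
    have hn8 : 8 ≤ Nat.card α := by
      rw [hn]; omega
    obtain ⟨B', hblock', hmem', hsucc', hsub', hcard'⟩ := exists_block_chain_p (R := R) 3 hR y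
    have hB1 : (B 1).ncard = 3 := by
      have := hcard 1 (by rw [ha]; exact three_pow_ge (by omega))
      simpa using this
    have hB1' : (B' 1).ncard = 3 := by
      have := hcard' 1 (by rw [hb]; exact three_pow_ge (by omega))
      simpa using this
    have hb1 : BlockAt R x (B 1) := ⟨hblock 1, hmem 1, hsub 1⟩
    have hb1' : BlockAt R y (B' 1) := ⟨hblock' 1, hmem' 1, hsub' 1⟩
    have hx' : x ∉ orbit R y := by
      intro h
      exact Set.disjoint_left.mp hdisj (mem_orbit_self x) h
    have hcompl' : (orbit R y)ᶜ = orbit R x := by rw [← hcompl, compl_compl]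
    apply twoMax_of_halves_fib hA hn8 R (orbit R x) (by rw [ha, hn]; ring) ?_
      (fun z => (lab R (B 1) z, lab R (B' 1) z)) ?_ ?_ 3 (by norm_num) (by rw [ha]; omega) ?_
    · intro r hr
      left; exact hOinv r hr
    · intro r hr u w huw
      rw [Prod.mk.injEq] at huw ⊢
      exact ⟨hb1.pres r hr u w huw.1, hb1'.pres r hr u w huw.2⟩
    · intro u w huw
      rw [Prod.mk.injEq] at huw
      by_cases hu : u ∈ orbit R x
      · obtain ⟨r, _, hfib⟩ := hb1.fiber_mem hu
        have hw : w ∈ r • B 1 := by rw [← hfib]; exact huw.1.symm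
        exact ⟨fun _ => hb1.smul_sub r hw, fun _ => hu⟩
      · have hfib := hb1.fiber_not_mem hu
        have hw : w ∈ (orbit R x)ᶜ := by rw [← hfib]; exact huw.1.symm
        exact ⟨fun h => absurd h hu, fun h => absurd h hw⟩
    · intro u
      have hset : {z : α | (lab R (B 1) z, lab R (B' 1) z) = (lab R (B 1) u, lab R (B' 1) u)} =
          {z | lab R (B 1) z = lab R (B 1) u} ∩ {z | lab R (B' 1) z = lab R (B' 1) u} := by
        ext z
        simp only [Set.mem_setOf_eq, Prod.mk.injEq, Set.mem_inter_iff]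
      rw [hset]
      by_cases hu : u ∈ orbit R x
      · obtain ⟨r, _, hfib⟩ := hb1.fiber_mem hu
        have hu' : u ∉ orbit R y := fun h => Set.disjoint_left.mp hdisj hu h
        rw [hfib, hb1'.fiber_not_mem hu', hcompl',
          Set.inter_eq_left.mpr (hb1.smul_sub r), Set.ncard_smul_set, hB1]
      · have hu' : u ∈ orbit R y := by rw [← hcompl]; exact hu
        obtain ⟨r, _, hfib⟩ := hb1'.fiber_mem hu'
        rw [hfib, hb1.fiber_not_mem hu, hcompl,
          Set.inter_eq_right.mpr (hb1'.smul_sub r), Set.ncard_smul_set, hB1']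

/-- the transitive case -/
theorem case_transitive3 (hα : 5 ≤ Nat.card α) (R : Subgroup (alternatingGroup α))
    (hR : IsPGroup 3 R) (x₀ : α) (h1 : orbit R x₀ = Set.univ) :
    Target (Nat.card α) ∨ TwoMax R := by
  have : Fact (Nat.Prime 3) := ⟨Nat.prime_three⟩
  obtain ⟨a, ha⟩ := ncard_orbit_pow3 R hR x₀
  have hn : Nat.card α = 3 ^ a := by rw [← ha, h1, Set.ncard_univ]
  have ha2 : 2 ≤ a := by
    by_contra h
    push Not at h
    have : 3 ^ a ≤ 3 ^ 1 := three_pow_ge (by omega)
    omega
  rcases Nat.lt_or_ge a 3 with hlt | ha3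
  · left
    have : a = 2 := by omega
    subst this
    right; left
    rw [hn]; norm_num
  right
  obtain ⟨B, hblock, hmem, hsucc, hsub, hcard⟩ := exists_block_chain_p (R := R) 3 hR x₀
  have hmono : Monotone B := monotone_nat_of_le_succ hsucc
  have hB1 : (B 1).ncard = 3 := by
    have := hcard 1 (by rw [ha]; exact three_pow_ge (by omega))
    simpa using this
  have hB2 : (B (a - 1)).ncard = 3 ^ (a - 1) :=
    hcard (a - 1) (by rw [ha]; exact three_pow_ge (by omega))
  have hb1 : BlockAt R x₀ (B 1) := ⟨hblock 1, hmem 1, hsub 1⟩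
  have hb2 : BlockAt R x₀ (B (a - 1)) := ⟨hblock (a - 1), hmem (a - 1), hsub (a - 1)⟩
  have h12 : B 1 ⊆ B (a - 1) := hmono (by omega)
  have hpow : 3 * 3 ^ (a - 1) = 3 ^ a := by
    rw [← pow_succ']; congr 1; omega
  have h9 : 9 ≤ 3 ^ (a - 1) := by
    calc 9 = 3 ^ 2 := by norm_num
      _ ≤ 3 ^ (a - 1) := three_pow_ge (by omega)
  have hall : ∀ z : α, z ∈ orbit R x₀ := fun z => by rw [h1]; trivial
  apply twoMax_of_thirds a hn R ?_ (lab R (B (a - 1))) hb2.pres (lab R (B 1)) hb1.pres ?_
    (3 ^ (a - 1)) (by rw [hpow, hn]) ?_ 3 (by norm_num) (by omega) ?_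
  · -- transitivity
    intro x y
    obtain ⟨r₁, hr₁⟩ := hall x
    obtain ⟨r₂, hr₂⟩ := hall y
    refine ⟨(r₂ * r₁⁻¹ : R), (r₂ * r₁⁻¹ : R).2, ?_⟩
    show (r₂ * r₁⁻¹ : R) • x = y
    rw [← hr₁, ← hr₂, smul_smul, inv_mul_cancel_right]
  · -- refinement
    intro x y hxy
    obtain ⟨r, hxr, hfib⟩ := hb1.fiber_mem (hall x)
    have hy : y ∈ r • B 1 := by
      rw [← hfib]; exact hxy.symm
    have hsubr : r • B 1 ⊆ r • B (a - 1) := Set.smul_set_mono h12
    have hfib2 := lab_eq_of_mem (hblock (a - 1)) r (hsubr hy)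
    have : x ∈ {z | lab R (B (a - 1)) z = lab R (B (a - 1)) y} := by
      rw [hfib2]; exact hsubr hxr
    exact this
  · -- thirds
    intro x
    obtain ⟨r, _, hfib⟩ := hb2.fiber_mem (hall x)
    rw [hfib, Set.ncard_smul_set, hB2]
  · -- triples
    intro x
    obtain ⟨r, _, hfib⟩ := hb1.fiber_mem (hall x)
    rw [hfib, Set.ncard_smul_set, hB1]

/-- **ORB3.** -/
theorem orbit_cases3 (hα : 5 ≤ Nat.card α) (R : Subgroup (alternatingGroup α))
    (hR : IsPGroup 3 R) : Target (Nat.card α) ∨ TwoMax R := by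
  have hA : Amb (alternatingGroup α) α := amb_alt hα
  have hne : Nonempty α := by
    by_contra h
    rw [not_nonempty_iff] at h
    have : Nat.card α = 0 := Nat.card_of_isEmpty
    omega
  obtain ⟨x₀⟩ := hne
  by_cases h1 : orbit R x₀ = Set.univ
  · exact case_transitive3 hα R hR x₀ h1
  · obtain ⟨y₀, hy₀⟩ := (Set.ne_univ_iff_exists_notMem _).mp h1
    by_cases h2 : orbit R x₀ ∪ orbit R y₀ = Set.univ
    · rcases le_total (orbit R y₀).ncard (orbit R x₀).ncard with h | h
      · exact case_two3 hA hα R hR x₀ y₀ h2 hy₀ h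
      · have hx₀ : x₀ ∉ orbit R y₀ := by
          intro hx
          apply hy₀
          rw [orbit_eq_iff.mpr hx]
          exact mem_orbit_self y₀
        exact case_two3 hA hα R hR y₀ x₀ (by rw [Set.union_comm]; exact h2) hx₀ h
    · right
      obtain ⟨z₀, hz₀⟩ := (Set.ne_univ_iff_exists_notMem _).mp h2
      rw [Set.mem_union, not_or] at hz₀
      apply twoMax_of_three_orbits hA hα R x₀ y₀ z₀
      · intro h; apply hy₀; rw [h]; exact mem_orbit_self y₀
      · intro h; apply hz₀.1; rw [h]; exact mem_orbit_self z₀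
      · intro h; apply hz₀.2; rw [h]; exact mem_orbit_self z₀

end Cfsg.Agent.Helper29.ThreeMin
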