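import Mathlib
import Cfsg.Prelude.Def_RootSubgroups
import Cfsg.Agent.Helper25.RankOne
import Cfsg.Agent.Helper25.RootBasic
import Cfsg.Agent.Helper29.RootOrder

set_option autoImplicit false

/-! The triangle lemma for abstract root subgroups (helper29).

`A`, `C` different commuting members of a set `S` of abstract root subgroups, `B` a rank one partner
of both.  Conjugation conventions of the Prelude: `conjBy X g = g X g⁻¹`, so `conjBy X g⁻¹ = X^g`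
in right-action notation `X^g = g⁻¹ X g`.  With `a ~ β` (`A^β = B^a`), `c = ψ(a)` (`C^β = B^c`),
`δ = a c⁻¹`, `m = β (β^δ)⁻¹`: `B^δ ⊥ B`, `A^m = C`, conjugation by `m` is `ψ` on `A`, and
`β⁻¹ a β = a⁻¹ β⁻¹ a` (the pair is special). -/

namespace Cfsg.Agent.Helper29.Triangle

open Cfsg Cfsg.Agent.Helper25 Cfsg.Agent.Helper29.RootOrder

variable {G : Type*} [Group G]

/-- `a ∈ A#` and `b ∈ B#` are partners: `A^b = B^a`. -/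
def Partner (A B : Subgroup G) (a b : G) : Prop :=
  a ∈ A ∧ a ≠ 1 ∧ b ∈ B ∧ b ≠ 1 ∧ conjBy A b⁻¹ = conjBy B a⁻¹

/-- A triangle `(A ⊥ C; B)`. -/
structure IsTriangle (S : Set (Subgroup G)) (A C B : Subgroup G) : Prop where
  memA : A ∈ S
  memC : C ∈ S
  memB : B ∈ S
  ne : A ≠ C
  comm : ∀ x ∈ A, ∀ y ∈ C, x * y = y * x
  left : IsRankOnePair A B
  right : IsRankOnePair C B

/-- `c = ψ(a)`: there is `β ∈ B#` with `A^β = B^a` and `C^β = B^c`. -/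
def Psi (A C B : Subgroup G) (a c : G) : Prop := ∃ β : G, Partner A B a β ∧ Partner C B c β

variable {S : Set (Subgroup G)} {A C B : Subgroup G}

/-! ### generalities -/

theorem comm_swap {X Y : Subgroup G} (h : ∀ x ∈ X, ∀ y ∈ Y, x * y = y * x) :
    ∀ y ∈ Y, ∀ x ∈ X, y * x = x * y := fun y hy x hx => (h x hx y hy).symm

theorem comm_conjBy' {X Y X' Y' : Subgroup G} (h : ∀ x ∈ X, ∀ y ∈ Y, x * y = y * x) (g : G)
    (hX : conjBy X g = X') (hY : conjBy Y g = Y') : ∀ x ∈ X', ∀ y ∈ Y', x * y = y * x := by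
  subst hX hY; exact comm_conjBy h g

theorem conjBy_mul_right_of_eq {X : Subgroup G} {n : G} (hn : conjBy X n = X) (g : G) :
    conjBy X (g * n) = conjBy X g := by
  rw [← conjBy_conjBy, hn]

theorem conj_inv_mem_conjBy {X : Subgroup G} {g x : G} (hx : x ∈ X) :
    g⁻¹ * x * g ∈ conjBy X g⁻¹ := by
  have := conj_mem_conjBy (g := g⁻¹) hx
  simpa using this

theorem Partner.symm {a b : G} (h : Partner A B a b) : Partner B A b a :=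
  ⟨h.2.2.1, h.2.2.2.1, h.1, h.2.1, h.2.2.2.2.symm⟩

theorem IsTriangle.symm (T : IsTriangle S A C B) : IsTriangle S C A B :=
  ⟨T.memC, T.memA, T.memB, T.ne.symm, comm_swap T.comm, T.right, T.left⟩

theorem partner_exists (h : IsRankOnePair A B) {a : G} (ha : a ∈ A) (ha1 : a ≠ 1) :
    ∃ b, Partner A B a b := by
  obtain ⟨b, hb, hb1, hab⟩ := h.cond_left a ha ha1
  exact ⟨b, ha, ha1, hb, hb1, hab⟩

theorem partner_exists' (h : IsRankOnePair A B) {b : G} (hb : b ∈ B) (hb1 : b ≠ 1) :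
    ∃ a, Partner A B a b := by
  obtain ⟨a, ha, ha1, hab⟩ := h.cond_right b hb hb1
  exact ⟨a, ha, ha1, hb, hb1, hab.symm⟩

theorem partner_unique_right (h : IsRankOnePair A B) {a b b' : G} (h1 : Partner A B a b)
    (h2 : Partner A B a b') : b = b' := by
  have e : conjBy A b⁻¹ = conjBy A b'⁻¹ := by rw [h1.2.2.2.2, h2.2.2.2.2]
  have := rankOne_conjBy_left_injOn h (B.inv_mem h1.2.2.1) (B.inv_mem h2.2.2.1) e
  exact inv_injective this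

theorem partner_unique_left (h : IsRankOnePair A B) {a a' b : G} (h1 : Partner A B a b)
    (h2 : Partner A B a' b) : a = a' := by
  have e : conjBy B a⁻¹ = conjBy B a'⁻¹ := by rw [← h1.2.2.2.2, ← h2.2.2.2.2]
  have := rankOne_conjBy_right_injOn h (A.inv_mem h1.1) (A.inv_mem h2.1) e
  exact inv_injective this

theorem psi_exists (T : IsTriangle S A C B) {a : G} (ha : a ∈ A) (ha1 : a ≠ 1) :
    ∃ c, Psi A C B a c := by
  obtain ⟨β, hβ⟩ := partner_exists T.left ha ha1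
  obtain ⟨c, hc⟩ := partner_exists' T.right hβ.2.2.1 hβ.2.2.2.1
  exact ⟨c, β, hβ, hc⟩

theorem psi_unique (T : IsTriangle S A C B) {a c c' : G} (h1 : Psi A C B a c) (h2 : Psi A C B a c') :
    c = c' := by
  obtain ⟨β, hβ, hc⟩ := h1
  obtain ⟨β', hβ', hc'⟩ := h2
  have : β = β' := partner_unique_right T.left hβ hβ'
  subst this
  exact partner_unique_left T.right hc hc'

/-- (P1) -/
theorem P1 (T : IsTriangle S A C B) {β β' : G} (hβ : β ∈ B) (hβ' : β' ∈ B)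
    (h : ∀ u ∈ conjBy A β⁻¹, ∀ v ∈ conjBy C β'⁻¹, u * v = v * u) : β = β' := by
  by_contra hne
  have hγ : β * β'⁻¹ ∈ B := B.mul_mem hβ (B.inv_mem hβ')
  have hγ1 : β * β'⁻¹ ≠ 1 := fun e => hne (mul_inv_eq_one.mp e)
  obtain ⟨a', ha', ha'1, hab'⟩ := T.left.cond_right _ hγ hγ1
  -- hab' : conjBy B a'⁻¹ = conjBy A (β * β'⁻¹)⁻¹
  have h1 : ∀ u ∈ conjBy A (β * β'⁻¹)⁻¹, ∀ v ∈ C, u * v = v * u := by
    refine comm_conjBy' h β' ?_ ?_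
    · rw [conjBy_conjBy]; congr 1; group
    · rw [conjBy_conjBy]; simp [conjBy_one]
  rw [← hab'] at h1
  have h2 : ∀ u ∈ B, ∀ v ∈ C, u * v = v * u := by
    refine comm_conjBy' h1 a' ?_ ?_
    · rw [conjBy_conjBy]; simp [conjBy_one]
    · exact conjBy_eq_self_of_commute (fun x hx => T.comm a' ha' x hx)
  exact rankOne_not_commute T.right (comm_swap h2)

/-- (P2): for `a ∈ A#`, `c ∈ C`, `ψ(a) = c'`: `[B^a, B^c] = 1 ↔ c = c'`. -/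
theorem P2 (_hS : IsRootSubgroupSet S) (T : IsTriangle S A C B) {a c c' : G} (h : Psi A C B a c')
    (hc : c ∈ C) :
    (∀ u ∈ conjBy B a⁻¹, ∀ v ∈ conjBy B c⁻¹, u * v = v * u) ↔ c = c' := by
  obtain ⟨β, hβ, hc'⟩ := h
  constructor
  · intro hcm
    by_cases hc1 : c = 1
    · exfalso
      subst hc1
      rw [inv_one, conjBy_one, ← hβ.2.2.2.2] at hcm
      have h2 : ∀ u ∈ A, ∀ v ∈ B, u * v = v * u := by
        refine comm_conjBy' hcm β ?_ ?_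
        · rw [conjBy_conjBy]; simp [conjBy_one]
        · exact conjBy_eq_self_of_mem hβ.2.2.1
      exact rankOne_not_commute T.left h2
    · obtain ⟨β', hβ'⟩ := partner_exists T.right hc hc1
      rw [← hβ.2.2.2.2, ← hβ'.2.2.2.2] at hcm
      have : β = β' := P1 T hβ.2.2.1 hβ'.2.2.1 hcm
      subst this
      exact partner_unique_left T.right hβ' hc'
  · rintro rfl
    rw [← hβ.2.2.2.2, ← hc'.2.2.2.2]
    exact comm_conjBy T.comm β⁻¹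

theorem special_core {a β d m : G} (hD : m = β * d⁻¹ * β⁻¹ * d) (h1 : d * a = a * d)
    (h2 : m * β = β * m) (h3 : a⁻¹ * m * a = m * d) :
    ((β⁻¹ * a * β) * (a⁻¹ * β⁻¹ * a)⁻¹) * d = d * ((β⁻¹ * a * β) * (a⁻¹ * β⁻¹ * a)⁻¹) := by
  have r4 : β * d * β⁻¹ = d * m⁻¹ := by rw [hD]; group
  have r1 : a⁻¹ * d * a = d := by rw [mul_assoc, h1]; group
  have r1' : a * d * a⁻¹ = d := by rw [← h1]; group
  have r3 : a⁻¹ * m⁻¹ * a = (m * d)⁻¹ := by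
    have : a⁻¹ * m⁻¹ * a = (a⁻¹ * m * a)⁻¹ := by group
    rw [this, h3]
  have r2 : β⁻¹ * m⁻¹ * β = m⁻¹ := by
    have e : β⁻¹ * m⁻¹ * β = (β⁻¹ * (m * β))⁻¹ := by group
    rw [e, h2]; group
  have k0 : a⁻¹ * (d * m⁻¹) * a = m⁻¹ := by
    have : a⁻¹ * (d * m⁻¹) * a = (a⁻¹ * d * a) * (a⁻¹ * m⁻¹ * a) := by group
    rw [this, r1, r3]; group
  have k1 : (β⁻¹ * a * β)⁻¹ * d * (β⁻¹ * a * β) = m⁻¹ := by
    have : (β⁻¹ * a * β)⁻¹ * d * (β⁻¹ * a * β) = β⁻¹ * (a⁻¹ * (β * d * β⁻¹) * a) * β := by group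
    rw [this, r4, k0, r2]
  have k2 : (a⁻¹ * β⁻¹ * a)⁻¹ * d * (a⁻¹ * β⁻¹ * a) = m⁻¹ := by
    have : (a⁻¹ * β⁻¹ * a)⁻¹ * d * (a⁻¹ * β⁻¹ * a) = a⁻¹ * (β * (a * d * a⁻¹) * β⁻¹) * a := by
      group
    rw [this, r1', r4, k0]
  have k3 : (β⁻¹ * a * β)⁻¹ * d * (β⁻¹ * a * β) = (a⁻¹ * β⁻¹ * a)⁻¹ * d * (a⁻¹ * β⁻¹ * a) := by
    rw [k1, k2]
  calc ((β⁻¹ * a * β) * (a⁻¹ * β⁻¹ * a)⁻¹) * d
      = (β⁻¹ * a * β) * ((a⁻¹ * β⁻¹ * a)⁻¹ * d * (a⁻¹ * β⁻¹ * a)) * (a⁻¹ * β⁻¹ * a)⁻¹ := by group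
    _ = (β⁻¹ * a * β) * ((β⁻¹ * a * β)⁻¹ * d * (β⁻¹ * a * β)) * (a⁻¹ * β⁻¹ * a)⁻¹ := by rw [k3]
    _ = d * ((β⁻¹ * a * β) * (a⁻¹ * β⁻¹ * a)⁻¹) := by group

section main

variable (hS : IsRootSubgroupSet S) (T : IsTriangle S A C B) {a β c : G}
  (hab : Partner A B a β) (hcb : Partner C B c β)

include T hab hcb in
theorem delta_comm_a : (a * c⁻¹) * a = a * (a * c⁻¹) := by
  have h := T.comm a hab.1 c⁻¹ (C.inv_mem hcb.1)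
  calc a * c⁻¹ * a = a * (c⁻¹ * a) := by group
    _ = a * (a * c⁻¹) := by rw [h]

include T hab hcb in
theorem conjBy_A_delta : conjBy A (a * c⁻¹) = A := by
  rw [← conjBy_conjBy]
  rw [conjBy_eq_self_of_commute (fun x hx => (T.comm x hx c⁻¹ (C.inv_mem hcb.1)).symm)]
  exact conjBy_eq_self_of_mem hab.1

include T hab hcb in
theorem conjBy_A_delta_inv : conjBy A (a * c⁻¹)⁻¹ = A := by
  have := conjBy_A_delta T hab hcb
  rw [conjBy_eq_iff] at this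
  exact this.symm

include T hab hcb in
theorem conjBy_C_delta_inv : conjBy C (a * c⁻¹)⁻¹ = C := by
  have e : (a * c⁻¹)⁻¹ = c * a⁻¹ := by group
  rw [e, ← conjBy_conjBy]
  rw [conjBy_eq_self_of_commute (fun x hx => T.comm a⁻¹ (A.inv_mem hab.1) x hx)]
  exact conjBy_eq_self_of_mem hcb.1

include T hab hcb in
/-- (TL2) `B^δ ⊥ B` for `δ = a ψ(a)⁻¹`. -/
theorem TL2_comm_aux : ∀ u ∈ conjBy B (a * c⁻¹)⁻¹, ∀ v ∈ B, u * v = v * u := by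
  have h0 : ∀ u ∈ conjBy B a⁻¹, ∀ v ∈ conjBy B c⁻¹, u * v = v * u := by
    rw [← hab.2.2.2.2, ← hcb.2.2.2.2]
    exact comm_conjBy T.comm β⁻¹
  refine comm_conjBy' h0 c ?_ ?_
  · rw [conjBy_conjBy]; congr 1; group
  · rw [conjBy_conjBy]; simp [conjBy_one]

include T hab hcb in
theorem TL2_ne_aux : conjBy B (a * c⁻¹)⁻¹ ≠ B := by
  intro h
  have e : (a * c⁻¹)⁻¹ = c * a⁻¹ := by group
  rw [e, ← conjBy_conjBy, conjBy_eq_iff] at h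
  rw [← hab.2.2.2.2, ← hcb.2.2.2.2] at h
  exact T.ne (conjBy_injective β⁻¹ h)

include hS T hab hcb in
/-- (TL2) `B^δ ⊥ B` for `δ = a ψ(a)⁻¹`. -/
theorem TL2_comm : ∀ u ∈ conjBy B (a * c⁻¹)⁻¹, ∀ v ∈ B, u * v = v * u :=
  have _ := hS
  TL2_comm_aux T hab hcb

include hS T hab hcb in
theorem TL2_ne : conjBy B (a * c⁻¹)⁻¹ ≠ B :=
  have _ := hS
  TL2_ne_aux T hab hcb

include hS T hab hcb in
/-- (TL2) `(B ⊥ B^δ; A)` is again a triangle. -/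
theorem TL2_triangle : IsTriangle S B (conjBy B (a * c⁻¹)⁻¹) A := by
  refine ⟨T.memB, hS.conj_mem B T.memB _, T.memA, (TL2_ne_aux T hab hcb).symm,
    comm_swap (TL2_comm_aux T hab hcb), RankOnePair_symm T.left, ?_⟩
  have := rankOnePair_conjBy (RankOnePair_symm T.left) (a * c⁻¹)⁻¹
  rwa [conjBy_A_delta_inv T hab hcb] at this

include hS T hab hcb in
/-- `m` centralizes `B`. -/
theorem TL3_centralizes {v : G} (hv : v ∈ B) :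
    (β * ((a * c⁻¹)⁻¹ * β * (a * c⁻¹))⁻¹) * v = v * (β * ((a * c⁻¹)⁻¹ * β * (a * c⁻¹))⁻¹) := by
  have h1 : Commute β v := root_comm_of_mem hS T.memB hab.2.2.1 hv
  have h2 : Commute ((a * c⁻¹)⁻¹ * β * (a * c⁻¹)) v :=
    TL2_comm_aux T hab hcb _ (conj_inv_mem_conjBy (g := a * c⁻¹) hab.2.2.1) v hv
  exact (h1.mul_left h2.inv_left).eq

include hS T hab hcb in
/-- `A` commutes with `A^m`. -/
theorem A_comm_Am : ∀ u ∈ A, ∀ v ∈ conjBy A (β * ((a * c⁻¹)⁻¹ * β * (a * c⁻¹))⁻¹)⁻¹,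
    u * v = v * u := by
  have h0 := TL2_comm_aux T hab hcb
  have hda : a⁻¹ * (a * c⁻¹)⁻¹ = (a * c⁻¹)⁻¹ * a⁻¹ := by
    have := delta_comm_a T hab hcb
    have e1 : a⁻¹ * (a * c⁻¹)⁻¹ = (a * c⁻¹ * a)⁻¹ := by group
    have e2 : (a * c⁻¹)⁻¹ * a⁻¹ = (a * (a * c⁻¹))⁻¹ := by group
    rw [e1, e2, this]
  have h1 : ∀ u ∈ conjBy A ((a * c⁻¹)⁻¹ * β * (a * c⁻¹))⁻¹, ∀ v ∈ conjBy A β⁻¹, u * v = v * u := by
    refine comm_conjBy' h0 a⁻¹ ?_ hab.2.2.2.2.symm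
    rw [conjBy_conjBy, hda, ← conjBy_conjBy, ← hab.2.2.2.2, conjBy_conjBy]
    have e : ((a * c⁻¹)⁻¹ * β * (a * c⁻¹))⁻¹ = ((a * c⁻¹)⁻¹ * β⁻¹) * (a * c⁻¹) := by group
    rw [e, conjBy_mul_right_of_eq (conjBy_A_delta T hab hcb)]
  refine comm_conjBy' h1 ((a * c⁻¹)⁻¹ * β * (a * c⁻¹)) ?_ ?_
  · rw [conjBy_conjBy, mul_inv_cancel, conjBy_one]
  · rw [conjBy_conjBy]; congr 1; group

include hS T hab hcb in
theorem Abeta_comm {β' : G} (hβ' : β' ∈ B) : ∀ u ∈ conjBy A β'⁻¹,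
    ∀ v ∈ conjBy (conjBy A β'⁻¹) (β * ((a * c⁻¹)⁻¹ * β * (a * c⁻¹))⁻¹)⁻¹, u * v = v * u := by
  refine comm_conjBy' (A_comm_Am hS T hab hcb) β'⁻¹ rfl ?_
  rw [conjBy_conjBy, conjBy_conjBy]
  have hc : Commute (β * ((a * c⁻¹)⁻¹ * β * (a * c⁻¹))⁻¹) β' := TL3_centralizes hS T hab hcb hβ'
  rw [hc.inv_inv.eq]

include hS T hab hcb in
/-- `A^m = C`. -/
theorem conjBy_A_m : conjBy A (β * ((a * c⁻¹)⁻¹ * β * (a * c⁻¹))⁻¹)⁻¹ = C := by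
  have e1 : (β * ((a * c⁻¹)⁻¹ * β * (a * c⁻¹))⁻¹)⁻¹ = ((a * c⁻¹)⁻¹ * β * (a * c⁻¹)) * β⁻¹ := by
    group
  have hac : a * c⁻¹ * a⁻¹ = c⁻¹ := by
    have h := T.comm a hab.1 c⁻¹ (C.inv_mem hcb.1)
    rw [h]; group
  rw [e1, ← conjBy_conjBy, hab.2.2.2.2, conjBy_conjBy]
  have e2 : (a * c⁻¹)⁻¹ * β * (a * c⁻¹) * a⁻¹ = ((a * c⁻¹)⁻¹ * β) * c⁻¹ := by
    rw [mul_assoc ((a * c⁻¹)⁻¹ * β), hac]
  rw [e2, ← conjBy_conjBy, ← hcb.2.2.2.2, conjBy_conjBy]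
  have e3 : (a * c⁻¹)⁻¹ * β * β⁻¹ = (a * c⁻¹)⁻¹ := by group
  rw [e3]
  exact conjBy_C_delta_inv T hab hcb

include hS T hab hcb in
/-- (TL3) `m = β (β^δ)⁻¹` induces `ψ` on all of `A`. -/
theorem TL3_mem {x : G} (hx : x ∈ A) :
    (β * ((a * c⁻¹)⁻¹ * β * (a * c⁻¹))⁻¹)⁻¹ * x * (β * ((a * c⁻¹)⁻¹ * β * (a * c⁻¹))⁻¹) ∈ C := by
  rw [← conjBy_A_m hS T hab hcb]
  exact conj_inv_mem_conjBy hx

include hS T hab hcb in
theorem TL3_psi {x : G} (hx : x ∈ A) (hx1 : x ≠ 1) :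
    Psi A C B x ((β * ((a * c⁻¹)⁻¹ * β * (a * c⁻¹))⁻¹)⁻¹ * x * (β * ((a * c⁻¹)⁻¹ * β * (a * c⁻¹))⁻¹)) := by
  obtain ⟨c', hc'⟩ := psi_exists T hx hx1
  have hy := TL3_mem hS T hab hcb hx
  have key : (β * ((a * c⁻¹)⁻¹ * β * (a * c⁻¹))⁻¹)⁻¹ * x * (β * ((a * c⁻¹)⁻¹ * β * (a * c⁻¹))⁻¹) = c' := by
    refine (P2 hS T hc' hy).mp ?_
    obtain ⟨β'', hβ'', -⟩ := hc'
    have hBm : conjBy B (β * ((a * c⁻¹)⁻¹ * β * (a * c⁻¹))⁻¹) = B :=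
      conjBy_eq_self_of_commute (fun v hv => TL3_centralizes hS T hab hcb hv)
    have e : ((β * ((a * c⁻¹)⁻¹ * β * (a * c⁻¹))⁻¹)⁻¹ * x * (β * ((a * c⁻¹)⁻¹ * β * (a * c⁻¹))⁻¹))⁻¹
        = ((β * ((a * c⁻¹)⁻¹ * β * (a * c⁻¹))⁻¹)⁻¹ * x⁻¹) * (β * ((a * c⁻¹)⁻¹ * β * (a * c⁻¹))⁻¹) := by
      group
    rw [e, conjBy_mul_right_of_eq hBm, ← conjBy_conjBy, ← hβ''.2.2.2.2]
    exact Abeta_comm hS T hab hcb hβ''.2.2.1
  rw [key]; exact hc'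

include hS T hab hcb in
/-- (TL0) the special relation. -/
theorem TL0_rel : β⁻¹ * a * β = a⁻¹ * β⁻¹ * a := by
  have hD : (β * ((a * c⁻¹)⁻¹ * β * (a * c⁻¹))⁻¹) = β * (a * c⁻¹)⁻¹ * β⁻¹ * (a * c⁻¹) := by group
  have h1 := delta_comm_a T hab hcb
  have h2 := TL3_centralizes hS T hab hcb hab.2.2.1
  have hψ : (β * ((a * c⁻¹)⁻¹ * β * (a * c⁻¹))⁻¹)⁻¹ * a * (β * ((a * c⁻¹)⁻¹ * β * (a * c⁻¹))⁻¹) = c :=
    psi_unique T (TL3_psi hS T hab hcb hab.1 hab.2.1) ⟨β, hab, hcb⟩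
  have hca : c⁻¹ * a = a * c⁻¹ := (T.comm a hab.1 c⁻¹ (C.inv_mem hcb.1)).symm
  have h3 : a⁻¹ * (β * ((a * c⁻¹)⁻¹ * β * (a * c⁻¹))⁻¹) * a
      = (β * ((a * c⁻¹)⁻¹ * β * (a * c⁻¹))⁻¹) * (a * c⁻¹) := by
    have e : a⁻¹ * (β * ((a * c⁻¹)⁻¹ * β * (a * c⁻¹))⁻¹) * a
        = (β * ((a * c⁻¹)⁻¹ * β * (a * c⁻¹))⁻¹) *
          (((β * ((a * c⁻¹)⁻¹ * β * (a * c⁻¹))⁻¹)⁻¹ * a * (β * ((a * c⁻¹)⁻¹ * β * (a * c⁻¹))⁻¹))⁻¹ * a) := by
      group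
    rw [e, hψ, hca]
  have hcore := special_core hD h1 h2 h3
  -- membership of h in E ⊓ E^δ
  set E := conjBy A β⁻¹ with hE
  have hg1 : β⁻¹ * a * β ∈ E := conj_inv_mem_conjBy hab.1
  have hg2 : a⁻¹ * β⁻¹ * a ∈ E := by
    rw [hE, hab.2.2.2.2]; exact conj_inv_mem_conjBy (B.inv_mem hab.2.2.1)
  have hh : (β⁻¹ * a * β) * (a⁻¹ * β⁻¹ * a)⁻¹ ∈ E := E.mul_mem hg1 (E.inv_mem hg2)
  have hh' : (β⁻¹ * a * β) * (a⁻¹ * β⁻¹ * a)⁻¹ ∈ conjBy E (a * c⁻¹)⁻¹ := by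
    rw [mem_conjBy_iff, inv_inv]
    have : (a * c⁻¹) * ((β⁻¹ * a * β) * (a⁻¹ * β⁻¹ * a)⁻¹) * (a * c⁻¹)⁻¹
        = (β⁻¹ * a * β) * (a⁻¹ * β⁻¹ * a)⁻¹ := by rw [← hcore]; group
    rw [this]; exact hh
  have hEp : IsRankOnePair E B := by
    have := rankOnePair_conjBy T.left β⁻¹
    rwa [conjBy_eq_self_of_mem (B.inv_mem hab.2.2.1)] at this
  have hES : conjBy E (a * c⁻¹)⁻¹ ∈ S := hS.conj_mem _ (hS.conj_mem A T.memA _) _
  have hne : E ≠ conjBy E (a * c⁻¹)⁻¹ := by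
    intro he
    have hda : (a * c⁻¹)⁻¹ * a⁻¹ = a⁻¹ * (a * c⁻¹)⁻¹ := by
      have e1 : a⁻¹ * (a * c⁻¹)⁻¹ = (a * c⁻¹ * a)⁻¹ := by group
      have e2 : (a * c⁻¹)⁻¹ * a⁻¹ = (a * (a * c⁻¹))⁻¹ := by group
      rw [e1, e2, h1]
    rw [hE, hab.2.2.2.2, conjBy_conjBy, hda, ← conjBy_conjBy] at he
    exact TL2_ne_aux T hab hcb (conjBy_injective a⁻¹ he).symm
  rcases root_inf_eq_bot_or_eq hS T.memB hEp hES with hbot | heq
  · have : (β⁻¹ * a * β) * (a⁻¹ * β⁻¹ * a)⁻¹ ∈ E ⊓ conjBy E (a * c⁻¹)⁻¹ := ⟨hh, hh'⟩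
    rw [hbot, Subgroup.mem_bot] at this
    exact mul_inv_eq_one.mp this
  · exact absurd heq hne

end main

/-- two choices of data give the same conjugation on `A`. -/
theorem TL3_indep (hS : IsRootSubgroupSet S) (T : IsTriangle S A C B) {a β c a' β' c' : G}
    (hab : Partner A B a β) (hcb : Partner C B c β) (hab' : Partner A B a' β')
    (hcb' : Partner C B c' β') {x : G} (hx : x ∈ A) :
    (β * ((a * c⁻¹)⁻¹ * β * (a * c⁻¹))⁻¹)⁻¹ * x * (β * ((a * c⁻¹)⁻¹ * β * (a * c⁻¹))⁻¹) =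
    (β' * ((a' * c'⁻¹)⁻¹ * β' * (a' * c'⁻¹))⁻¹)⁻¹ * x * (β' * ((a' * c'⁻¹)⁻¹ * β' * (a' * c'⁻¹))⁻¹) := by
  by_cases hx1 : x = 1
  · subst hx1; simp only [mul_one, inv_mul_cancel]
  · exact psi_unique T (TL3_psi hS T hab hcb hx hx1) (TL3_psi hS T hab' hcb' hx hx1)

/-- (TL0) both rank one pairs of a triangle are special. -/
theorem special_left (hS : IsRootSubgroupSet S) (T : IsTriangle S A C B) :
    IsSpecialRankOnePair A B := by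
  refine ⟨T.left, ?_⟩
  intro a ha ha1 b hb hb1 hab
  have hP : Partner A B a b := ⟨ha, ha1, hb, hb1, hab⟩
  obtain ⟨c, hc⟩ := partner_exists' T.right hb hb1
  exact TL0_rel hS T hP hc

theorem special_right (hS : IsRootSubgroupSet S) (T : IsTriangle S A C B) :
    IsSpecialRankOnePair C B := special_left hS T.symm

theorem special_symm (h : IsSpecialRankOnePair A B) : IsSpecialRankOnePair B A := by
  refine ⟨RankOnePair_symm h.1, ?_⟩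
  intro b hb hb1 a ha ha1 hba
  have := h.2 a ha ha1 b hb hb1 hba.symm
  have e : (b⁻¹ * a * b)⁻¹ = (a⁻¹ * b⁻¹ * a)⁻¹ := congrArg (fun t => t⁻¹) this
  have e1 : (b⁻¹ * a * b)⁻¹ = b⁻¹ * a⁻¹ * b := by group
  have e2 : (a⁻¹ * b⁻¹ * a)⁻¹ = a⁻¹ * b * a := by group
  rw [e1, e2] at e
  exact e.symm

end Cfsg.Agent.Helper29.Triangle
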