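import Cfsg.Agent.Helper29.TwoDegD
import Cfsg.Agent.Helper26.FusionAbelian

set_option autoImplicit false

namespace Cfsg.Agent.Helper29.TwoDeg

open Cfsg Cfsg.Agent.Helper24

universe u

section DualAction

variable {G : Type u} [Group G] (H : Subgroup G) [hH : H.Normal]

/-- Conjugation action of `G` on the linear characters of a normal subgroup. -/
def cjHom (g : G) (μ : H →* ℂˣ) : H →* ℂˣ :=
  μ.comp (MulAut.conjNormal g⁻¹ : H ≃* H).toMonoidHom

theorem cjHom_apply (g : G) (μ : H →* ℂˣ) (h : H) :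
    cjHom H g μ h = μ ⟨g⁻¹ * h * g, by
      have := hH.conj_mem h h.2 g⁻¹
      simpa using this⟩ := by
  unfold cjHom
  rw [MonoidHom.comp_apply]
  congr 1
  apply Subtype.ext
  simp

theorem cjHom_one (μ : H →* ℂˣ) : cjHom H 1 μ = μ := by
  ext h
  rw [cjHom_apply]
  congr 2
  apply Subtype.ext
  simp

theorem cjHom_mul (g g' : G) (μ : H →* ℂˣ) :
    cjHom H (g * g') μ = cjHom H g (cjHom H g' μ) := by
  ext h
  rw [cjHom_apply, cjHom_apply, cjHom_apply]
  congr 2
  apply Subtype.ext
  simp only [mul_inv_rev]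
  group

theorem cjHom_mul_hom (g : G) (μ ν : H →* ℂˣ) :
    cjHom H g (μ * ν) = cjHom H g μ * cjHom H g ν := by
  ext h
  rw [MonoidHom.mul_apply, cjHom_apply, cjHom_apply, cjHom_apply, MonoidHom.mul_apply]

/-- A type synonym for the dual group `H →* ℂˣ`, carrying only its `CommGroup` structure. -/
def Dual : Type u := H →* ℂˣ

instance : CommGroup (Dual H) := inferInstanceAs (CommGroup (H →* ℂˣ))

/-- View an element of the dual as a homomorphism. -/
def Dual.toHom {H : Subgroup G} (μ : Dual H) : H →* ℂˣ := μ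

/-- View a homomorphism as an element of the dual. -/
def Dual.ofHom {H : Subgroup G} (μ : H →* ℂˣ) : Dual H := μ

omit hH in
theorem Dual.toHom_mul (μ ν : Dual H) : (μ * ν).toHom = μ.toHom * ν.toHom := rfl

omit hH in
theorem Dual.toHom_ofHom (μ : H →* ℂˣ) : (Dual.ofHom μ).toHom = μ := rfl

omit hH in
theorem Dual.ofHom_toHom (μ : Dual H) : Dual.ofHom μ.toHom = μ := rfl

omit hH in
theorem Dual.ofHom_mul (μ ν : H →* ℂˣ) : Dual.ofHom (μ * ν) = Dual.ofHom μ * Dual.ofHom ν := rfl

/-- The action as a homomorphism into the automorphism group of the dual. -/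
def dualAct : G →* MulAut (Dual H) where
  toFun g :=
    { toFun := fun μ => Dual.ofHom (cjHom H g μ.toHom)
      invFun := fun μ => Dual.ofHom (cjHom H g⁻¹ μ.toHom)
      left_inv := fun μ => by
        show Dual.ofHom (cjHom H g⁻¹ (cjHom H g μ.toHom)) = μ
        rw [← cjHom_mul, inv_mul_cancel, cjHom_one]; rfl
      right_inv := fun μ => by
        show Dual.ofHom (cjHom H g (cjHom H g⁻¹ μ.toHom)) = μ
        rw [← cjHom_mul, mul_inv_cancel, cjHom_one]; rfl
      map_mul' := fun μ ν => by
        show Dual.ofHom (cjHom H g (μ.toHom * ν.toHom)) = _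
        rw [cjHom_mul_hom]; rfl }
  map_one' := by
    ext μ : 1
    show Dual.ofHom (cjHom H 1 μ.toHom) = μ
    rw [cjHom_one]; rfl
  map_mul' g g' := by
    ext μ : 1
    show Dual.ofHom (cjHom H (g * g') μ.toHom) = Dual.ofHom (cjHom H g (cjHom H g' μ.toHom))
    rw [cjHom_mul]

theorem dualAct_apply (g : G) (μ : Dual H) : dualAct H g μ = Dual.ofHom (cjHom H g μ.toHom) := rfl

theorem cjHom_eq_iff (g : G) (μ : H →* ℂˣ) : cjHom H g μ = μ ↔ g ∈ stabHom H μ := by
  rw [← (stabHom H μ).inv_mem_iff, mem_stabHom]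
  constructor
  · intro h x
    have := DFunLike.congr_fun h x
    rw [cjHom_apply] at this
    rw [← this]
    congr 2
    simp
  · intro h
    ext x
    rw [cjHom_apply]
    have := h x
    rw [← this]
    congr 2
    simp

theorem dualAct_eq_iff (g : G) (μ : Dual H) : dualAct H g μ = μ ↔ g ∈ stabHom H μ.toHom := by
  rw [dualAct_apply, ← cjHom_eq_iff]
  rfl

end DualAction

end Cfsg.Agent.Helper29.TwoDeg
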