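import Cfsg.Agent.Helper29.TwoDegE0
import Cfsg.Agent.Helper24.SylowInduced
import Cfsg.Agent.Helper24.GlaubCyc

set_option autoImplicit false

namespace Cfsg.Agent.Helper29.TwoDeg

open Cfsg Cfsg.Agent.Helper24
open scoped commutatorElement

universe u v


section AbstractClaim2

variable {G : Type u} [Group G] [Finite G] {T : Type v} [CommGroup T] [Finite T]

/-- Abstract form of Claim 2: `G` acts on the finite abelian group `T` through an abelian group of
order prime to `|T|`, and all proper point stabilizers have the same index.  Then a proper point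
stabilizer fixes every point. -/
theorem abstract_stab_le (Φ : G →* MulAut T) (st : T → Subgroup G)
    (hst : ∀ (g : G) (ν : T), Φ g ν = ν ↔ g ∈ st ν)
    (hcop : (Nat.card T).Coprime Φ.ker.index)
    (hΦcomm' : commutator G ≤ Φ.ker) {m : ℕ}
    (hstab : ∀ ν : T, st ν ≠ ⊤ → (st ν).index = m)
    (L : T) (hL : st L ≠ ⊤) (μ : T) : st L ≤ st μ := by
  classical
  obtain ⟨S, hS⟩ : ∃ S : Subgroup G, S = st L := ⟨_, rfl⟩
  rw [← hS]
  have hstabL : S.index = m := by rw [hS]; exact hstab L hL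
  -- elements of Φ(G) commute
  have hΦcomm : ∀ g g' : G, Φ g * Φ g' = Φ g' * Φ g := by
    intro g g'
    have h1 : g * g' * g⁻¹ * g'⁻¹ ∈ Φ.ker := by
      apply hΦcomm'
      have : g * g' * g⁻¹ * g'⁻¹ = ⁅g, g'⁆ := by rw [commutatorElement_def]
      rw [this]
      exact Subgroup.commutator_mem_commutator (Subgroup.mem_top _) (Subgroup.mem_top _)
    rw [MonoidHom.mem_ker] at h1
    have h2 : Φ (g * g') = Φ (g * g' * g⁻¹ * g'⁻¹) * Φ (g' * g) := by
      rw [← map_mul]; congr 1; group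
    rw [← map_mul, ← map_mul, h2, h1, one_mul]
  obtain ⟨A, hA⟩ : ∃ A : Subgroup (MulAut T), A = S.map Φ := ⟨_, rfl⟩
  have hcardA : Nat.card A ∣ Φ.ker.index := by
    have h1 : Nat.card A ∣ Nat.card Φ.range :=
      Subgroup.card_dvd_of_le (by rw [hA, MonoidHom.range_eq_map]; exact Subgroup.map_mono le_top)
    have h2 : Nat.card Φ.range = Φ.ker.index := (Subgroup.index_ker Φ).symm
    rw [h2] at h1
    exact h1
  have hcopA : (Nat.card A).Coprime (Nat.card T) :=
    (Nat.Coprime.coprime_dvd_right hcardA hcop).symm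
  obtain ⟨C₀, hC₀⟩ : ∃ C₀ : Subgroup T, ∀ ν, ν ∈ C₀ ↔ ∀ α ∈ A, α ν = ν :=
    ⟨{ carrier := {ν | ∀ α ∈ A, α ν = ν}
       one_mem' := fun α _ => map_one α
       mul_mem' := fun {a b} ha hb α hα => by rw [map_mul, ha α hα, hb α hα]
       inv_mem' := fun {a} ha α hα => by rw [map_inv, ha α hα] }, fun ν => Iff.rfl⟩
  obtain ⟨W₀, hW₀⟩ : ∃ W₀ : Subgroup T,
      W₀ = Subgroup.closure {y | ∃ x : T, ∃ α ∈ A, y = x⁻¹ * α x} := ⟨_, rfl⟩
  obtain ⟨hinf, hsup⟩ := Helper26.fixed_comm_decomp (T := T) (fun a b => mul_comm a b) A hcopA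
    C₀ W₀ hC₀ hW₀
  have hC₀mem : ∀ ν, ν ∈ C₀ ↔ ∀ s ∈ S, Φ s ν = ν := by
    intro ν
    rw [hC₀]
    constructor
    · intro h s hs
      exact h (Φ s) (by rw [hA]; exact Subgroup.mem_map_of_mem Φ hs)
    · intro h α hα
      rw [hA] at hα
      obtain ⟨s, hs, rfl⟩ := hα
      exact h s hs
  -- G-invariance
  have hC₀inv : ∀ g : G, ∀ ν ∈ C₀, Φ g ν ∈ C₀ := by
    intro g ν hν
    rw [hC₀mem] at hν ⊢
    intro s hs
    have := hΦcomm s g
    calc Φ s (Φ g ν) = (Φ s * Φ g) ν := rfl
      _ = (Φ g * Φ s) ν := by rw [this]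
      _ = Φ g (Φ s ν) := rfl
      _ = Φ g ν := by rw [hν s hs]
  have hW₀inv : ∀ g : G, ∀ ν ∈ W₀, Φ g ν ∈ W₀ := by
    intro g ν hν
    have hle : W₀ ≤ W₀.comap (Φ g : T ≃* T).toMonoidHom := by
      rw [hW₀, Subgroup.closure_le]
      rintro y ⟨x, α, hα, rfl⟩
      rw [SetLike.mem_coe, Subgroup.mem_comap]
      apply Subgroup.subset_closure
      refine ⟨Φ g x, α, hα, ?_⟩
      have hα' := hα
      rw [hA] at hα'
      obtain ⟨s, hs, rfl⟩ := hα'
      have := hΦcomm g s
      show Φ g (x⁻¹ * Φ s x) = (Φ g x)⁻¹ * Φ s (Φ g x)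
      rw [map_mul, map_inv]
      congr 1
      calc Φ g (Φ s x) = (Φ g * Φ s) x := rfl
        _ = (Φ s * Φ g) x := by rw [this]
        _ = Φ s (Φ g x) := rfl
    exact hle hν
  have hLC : L ∈ C₀ := by
    rw [hC₀mem]
    intro s hs
    rw [hS] at hs
    exact (hst s L).mpr hs
  -- main argument
  intro s hs
  by_contra hsμ
  obtain ⟨c, hc, w, hw, hcw⟩ : ∃ c ∈ C₀, ∃ w ∈ W₀, c * w = μ := by
    have : μ ∈ C₀ ⊔ W₀ := by rw [hsup]; exact Subgroup.mem_top μ
    exact Subgroup.mem_sup.mp this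
  have hsw : s ∉ st w := by
    intro h1
    apply hsμ
    rw [← hst] at h1 ⊢
    rw [← hcw, map_mul, h1, (hC₀mem c).mp hc s hs]
  have hsLw : s ∉ st (L * w) := by
    intro h1
    apply hsw
    rw [← hst] at h1 ⊢
    rw [map_mul, (hC₀mem L).mp hLC s hs] at h1
    exact mul_left_cancel h1
  have hLwtop : st (L * w) ≠ ⊤ := fun h1 => hsLw (by rw [h1]; exact Subgroup.mem_top s)
  have hle : st (L * w) ≤ S ⊓ st w := by
    intro g hg
    rw [← hst] at hg
    rw [map_mul] at hg
    have h1 : L⁻¹ * Φ g L = w * (Φ g w)⁻¹ := by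
      have h2 : Φ g L = L * w * (Φ g w)⁻¹ := by rw [← hg, mul_inv_cancel_right]
      rw [h2, mul_assoc, inv_mul_cancel_left]
    have h3 : L⁻¹ * Φ g L ∈ C₀ ⊓ W₀ := by
      refine ⟨C₀.mul_mem (C₀.inv_mem hLC) (hC₀inv g L hLC), ?_⟩
      show L⁻¹ * Φ g L ∈ W₀
      rw [h1]
      exact W₀.mul_mem hw (W₀.inv_mem (hW₀inv g w hw))
    rw [hinf, Subgroup.mem_bot] at h3
    have h4 : Φ g L = L := by
      have := inv_mul_eq_one.mp h3
      exact this.symm
    have h5 : Φ g w = w := by
      rw [h3] at h1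
      have := (mul_inv_eq_one.mp h1.symm)
      exact this.symm
    exact ⟨by rw [hS]; exact (hst g L).mp h4, (hst g w).mp h5⟩
  have hidx : (st (L * w)).index = S.index := by
    rw [hstab _ hLwtop, hstabL]
  have hleS : st (L * w) ≤ S := hle.trans inf_le_left
  have hrel := Subgroup.relIndex_mul_index hleS
  rw [hidx] at hrel
  have hSidx : S.index ≠ 0 := Subgroup.index_ne_zero_of_finite
  have hrel1 : (st (L * w)).relIndex S = 1 := by
    have : (st (L * w)).relIndex S * S.index = 1 * S.index := by rw [hrel, one_mul]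
    exact Nat.eq_of_mul_eq_mul_right (Nat.pos_of_ne_zero hSidx) this
  have hSle : S ≤ st (L * w) := Subgroup.relIndex_eq_one.mp hrel1
  exact hsw ((hle (hSle hs)).2)

end AbstractClaim2


section GroupLemmas

variable {G : Type u} [Group G]

/-- Powers of a commutator that commutes with `x`. -/
theorem comm_pow_aux (x y : G) (hc : (x * y * x⁻¹ * y⁻¹) * x = x * (x * y * x⁻¹ * y⁻¹)) (n : ℕ) :
    x ^ n * y * (x ^ n)⁻¹ * y⁻¹ = (x * y * x⁻¹ * y⁻¹) ^ n := by
  induction n with
  | zero => simp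
  | succ n ih =>
    set c := x * y * x⁻¹ * y⁻¹ with hcdef
    have hcn : c ^ n * x = x * c ^ n := by
      have : Commute c x := hc
      exact (this.pow_left n)
    calc x ^ (n + 1) * y * (x ^ (n + 1))⁻¹ * y⁻¹
        = x * (x ^ n * y * (x ^ n)⁻¹ * y⁻¹) * (y * x⁻¹ * y⁻¹) := by
          rw [pow_succ']; group
      _ = x * c ^ n * (y * x⁻¹ * y⁻¹) := by rw [ih]
      _ = c ^ n * x * (y * x⁻¹ * y⁻¹) := by rw [hcn]
      _ = c ^ n * c := by rw [hcdef]; group
      _ = c ^ (n + 1) := (pow_succ c n).symm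

theorem pow_index_mem [Finite G] (H : Subgroup G) [H.Normal] (g : G) : g ^ H.index ∈ H := by
  rw [← QuotientGroup.eq_one_iff, QuotientGroup.mk_pow, Subgroup.index_eq_card]
  exact pow_card_eq_one'

/-- The centralizer of a normal Hall subgroup `H` is abelian if it is abelian modulo `H`. -/
theorem centralizer_comm [Finite G] (H : Subgroup G) [H.Normal]
    (hcop : (Nat.card H).Coprime H.index)
    (hCH : ∀ x ∈ Subgroup.centralizer (H : Set G), ∀ y ∈ Subgroup.centralizer (H : Set G),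
      x * y * x⁻¹ * y⁻¹ ∈ H) :
    ∀ x ∈ Subgroup.centralizer (H : Set G), ∀ y ∈ Subgroup.centralizer (H : Set G),
      x * y = y * x := by
  intro x hx y hy
  set c := x * y * x⁻¹ * y⁻¹ with hcdef
  have hcH : c ∈ H := hCH x hx y hy
  have hcx : c * x = x * c := (Subgroup.mem_centralizer_iff.mp hx) c hcH
  have hpow := comm_pow_aux x y hcx H.index
  have hxn : x ^ H.index ∈ H := pow_index_mem H x
  have hyxn : x ^ H.index * y = y * x ^ H.index := (Subgroup.mem_centralizer_iff.mp hy) _ hxn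
  have h1 : c ^ H.index = 1 := by
    rw [← hpow, hyxn]; group
  have hord1 : orderOf c ∣ H.index := orderOf_dvd_of_pow_eq_one h1
  have hord2 : orderOf c ∣ Nat.card H := Subgroup.orderOf_dvd_natCard H hcH
  have : orderOf c ∣ Nat.gcd (Nat.card H) H.index := Nat.dvd_gcd hord2 hord1
  rw [hcop] at this
  have hc1 : c = 1 := orderOf_eq_one_iff.mp (Nat.dvd_one.mp this)
  have : x * y * x⁻¹ * y⁻¹ = 1 := hc1
  calc x * y = (x * y * x⁻¹ * y⁻¹) * (y * x) := by group
    _ = y * x := by rw [this, one_mul]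

/-- A central normal Hall subgroup of `p`-power index has a normal `p`-complement... i.e. `G` is
the direct product of it with a normal `p`-subgroup. -/
theorem exists_normal_complement_of_central [Finite G] (H : Subgroup G) [hH : H.Normal]
    (hcen : H ≤ Subgroup.center G) (hcop : (Nat.card H).Coprime H.index) (p k : ℕ)
    (hidx : H.index = p ^ k) :
    ∃ P : Subgroup G, P.Normal ∧ IsPGroup p P ∧ P ⊓ H = ⊥ ∧ P ⊔ H = ⊤ := by
  obtain ⟨P, hP⟩ := Subgroup.exists_left_complement'_of_coprime hcop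
  have hsup : P ⊔ H = ⊤ := hP.sup_eq_top
  have hinf : P ⊓ H = ⊥ := hP.disjoint.eq_bot
  have hcard : Nat.card P = p ^ k := by
    rw [← hidx]; exact hP.index_eq_card.symm
  refine ⟨P, ?_, IsPGroup.of_card hcard, hinf, hsup⟩
  have hnorm : Subgroup.normalizer (P : Set G) = ⊤ := by
    rw [eq_top_iff, ← hsup]
    refine sup_le Subgroup.le_normalizer ?_
    exact hcen.trans ((Subgroup.center_le_centralizer _).trans (Subgroup.centralizer_le_normalizer _))
  exact Subgroup.normalizer_eq_top_iff.mp hnorm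

end GroupLemmas


section CenterLe

variable {Y : Type u} [Group Y] [Fintype Y]

/-- An abelian subgroup whose index is the degree of an irreducible character contains the
centre. -/
theorem center_le_of_abelian_of_index_eq_deg (B : Subgroup Y)
    (hB : ∀ a ∈ B, ∀ b ∈ B, a * b = b * a) (χ : IrrCharacter Y) (hdeg : irrDeg χ = B.index) :
    Subgroup.center Y ≤ B := by
  classical
  have : Fintype (IrrCharacter Y) := Fintype.ofFinite _
  have : Fintype B := Fintype.ofFinite _
  have : Fintype (IrrCharacter B) := Fintype.ofFinite _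
  have hres : IsCharacter B (fun b => (χ : Y → ℂ) b) :=
    Helper8.isCharacter_restrict _ (IsIrrCharacter.isCharacter χ.2)
  have hres0 : (fun b : B => (χ : Y → ℂ) b) ≠ 0 := by
    intro h0
    have := congrFun h0 1
    simp only [OneMemClass.coe_one, Pi.zero_apply] at this
    exact irr_one_ne_zero χ this
  obtain ⟨μ, hμ⟩ := IsCharacter.exists_irr_constituent hres hres0
  have hμ1 : (μ : B → ℂ) 1 = 1 := by
    have hcomm : ∀ a b : B, a * b = b * a := fun a b => Subtype.ext (hB a a.2 b b.2)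
    exact (comm_iff_forall_irr_one (G := B)).mp hcomm μ
  have hind : IsCharacter Y (indFun B (μ : B → ℂ)) :=
    isCharacter_indFun B (IsIrrCharacter.isCharacter μ.2)
  have hne : classInner (indFun B (μ : B → ℂ)) (χ : Y → ℂ) ≠ 0 := by
    rw [Helper8.frobenius_reciprocity B _ _ (isClassFunction_irr χ)]
    intro h0
    apply hμ
    rw [← classInner_conj_symm, h0, map_zero]
  have h1 : indFun B (μ : B → ℂ) 1 = (χ : Y → ℂ) 1 := by
    rw [Helper5.indFun_apply_one, hμ1, mul_one, irrDeg_spec, hdeg]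
  have heq : indFun B (μ : B → ℂ) = (χ : Y → ℂ) :=
    IsCharacter.eq_irr_of_constituent_of_deg hind χ hne h1
  intro z hz
  by_contra hzB
  have hzero : indFun B (μ : B → ℂ) z = 0 := by
    unfold indFun
    have : ∀ x : Y, extendByZero B (μ : B → ℂ) (x⁻¹ * z * x) = 0 := by
      intro x
      have hx : x⁻¹ * z * x = z := by
        have := Subgroup.mem_center_iff.mp hz x
        rw [mul_assoc, ← this, ← mul_assoc, inv_mul_cancel, one_mul]
      rw [hx]
      exact Helper8.ebz_not_mem B _ hzB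
    simp [this]
  rw [heq] at hzero
  obtain ⟨ω, hω1, hω⟩ := exists_central_scalar χ z
    (fun d => Subgroup.mem_center_iff.mp hz d)
  have h2 := hω 1 1
  rw [one_mul, pow_one, pow_one, hzero] at h2
  have hω0 : ω ≠ 0 := by
    intro h0
    rw [h0, zero_pow (orderOf_pos z).ne'] at hω1
    exact zero_ne_one hω1
  exact mul_ne_zero hω0 (irr_one_ne_zero χ) h2.symm

end CenterLe

end Cfsg.Agent.Helper29.TwoDeg
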