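import Cfsg.Agent.Helper29.TwoDegE1

set_option autoImplicit false

namespace Cfsg.Agent.Helper29.TwoDeg

open Cfsg Cfsg.Agent.Helper24
open scoped commutatorElement

universe u v

section CaseI

variable {G : Type u} [Group G] [Fintype G]

omit [Fintype G] in
theorem centralizer_le_stabHom (H : Subgroup G) [hH : H.Normal] (L : H →* ℂˣ) :
    Subgroup.centralizer (H : Set G) ≤ stabHom H L := by
  intro g hg
  rw [mem_stabHom]
  intro h
  congr 1
  apply Subtype.ext
  have := (Subgroup.mem_centralizer_iff.mp hg) h h.2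
  show g * h * g⁻¹ = h
  rw [← this, mul_inv_cancel_right]

/-- An element fixing all linear characters of the abelian normal subgroup `H` centralizes `H`. -/
theorem mem_centralizer_of_forall_stab (H : Subgroup G) [hH : H.Normal]
    (hHab : ∀ a ∈ H, ∀ b ∈ H, a * b = b * a) (g : G)
    (hg : ∀ L : H →* ℂˣ, g ∈ stabHom H L) : g ∈ Subgroup.centralizer (H : Set G) := by
  classical
  rw [Subgroup.mem_centralizer_iff]
  intro h hh
  by_contra hne
  let _ : CommGroup H := { (inferInstance : Group H) with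
    mul_comm := fun a b => Subtype.ext (hHab a a.2 b b.2) }
  have : HasEnoughRootsOfUnity ℂ (Monoid.exponent H) := by
    have : NeZero ((Monoid.exponent H : ℕ) : ℂ) :=
      ⟨Nat.cast_ne_zero.mpr Monoid.exponent_ne_zero_of_finite⟩
    infer_instance
  set x : H := ⟨g * h * g⁻¹, hH.conj_mem h hh g⟩ * (⟨h, hh⟩ : H)⁻¹ with hx
  have hx1 : x ≠ 1 := by
    intro h1
    apply hne
    have h2 : (⟨g * h * g⁻¹, hH.conj_mem h hh g⟩ : H) = ⟨h, hh⟩ := mul_inv_eq_one.mp h1
    have h3 : g * h * g⁻¹ = h := congrArg Subtype.val h2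
    calc h * g = (g * h * g⁻¹) * g := by rw [h3]
      _ = g * h := by group
  obtain ⟨L, hL⟩ := CommGroup.exists_apply_ne_one_of_hasEnoughRootsOfUnity H ℂ hx1
  apply hL
  have := (mem_stabHom H L g).mp (hg L) ⟨h, hh⟩
  rw [hx, map_mul, map_inv, this, mul_inv_cancel]

/-- Claim 1: `G / C_G(H)` is abelian. -/
theorem commutator_le_centralizer {m : ℕ} (h : TwoDegrees G m) (H : Subgroup G) [hH : H.Normal]
    (hHab : ∀ a ∈ H, ∀ b ∈ H, a * b = b * a) (p k : ℕ) (hp : p.Prime) (hidx : H.index = p ^ k)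
    (hstab : ∀ L : H →* ℂˣ, stabHom H L ≠ ⊤ → (stabHom H L).index = m ∧
      ∀ a ∈ stabHom H L, ∀ b ∈ stabHom H L, a * b * a⁻¹ * b⁻¹ ∈ H) :
    commutator G ≤ Subgroup.centralizer (H : Set G) := by
  classical
  by_contra hcon
  set C := Subgroup.centralizer (H : Set G) with hC
  have hCn : C.Normal := inferInstance
  have hHC : H ≤ C := by
    intro x hx
    rw [hC, Subgroup.mem_centralizer_iff]
    intro y hy
    exact hHab y hy x hx
  have : Fintype (G ⧸ C) := Fintype.ofFinite _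
  have hnaY := quot_nonabelian C hcon
  obtain ⟨⟨χ, hχ⟩, -⟩ := (h.quot C).exists_deg hnaY
  -- Y is a p-group
  have hYcard : ∃ j, Nat.card (G ⧸ C) = p ^ j := by
    have h1 : C.index ∣ H.index := Subgroup.index_dvd_of_le hHC
    rw [hidx, Subgroup.index_eq_card] at h1
    obtain ⟨j, -, hj⟩ := (Nat.dvd_prime_pow hp).mp h1
    exact ⟨j, hj⟩
  obtain ⟨j, hj⟩ := hYcard
  have hpg : IsPGroup p (G ⧸ C) := IsPGroup.of_card hj
  have : Fact p.Prime := ⟨hp⟩
  have hnt : Nontrivial (G ⧸ C) := by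
    by_contra hnt
    rw [not_nontrivial_iff_subsingleton] at hnt
    apply hnaY
    intro x _
    rw [Subgroup.mem_bot]
    exact Subsingleton.elim _ _
  have hZnt := hpg.center_nontrivial
  obtain ⟨⟨zb, hzb⟩, hzb1⟩ := exists_ne (1 : Subgroup.center (G ⧸ C))
  obtain ⟨z, rfl⟩ := QuotientGroup.mk_surjective zb
  have hzC : z ∉ C := by
    intro hz
    apply hzb1
    apply Subtype.ext
    exact (QuotientGroup.eq_one_iff z).mpr hz
  apply hzC
  apply mem_centralizer_of_forall_stab H hHab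
  intro L
  by_cases hL : stabHom H L = ⊤
  · rw [hL]; exact Subgroup.mem_top z
  obtain ⟨hLidx, hLcomm⟩ := hstab L hL
  have hCS : C ≤ stabHom H L := centralizer_le_stabHom H L
  set B := (stabHom H L).map (QuotientGroup.mk' C) with hB
  have hBab : ∀ a ∈ B, ∀ b ∈ B, a * b = b * a := by
    rintro _ ⟨a, ha, rfl⟩ _ ⟨b, hb, rfl⟩
    have h1 : a * b * a⁻¹ * b⁻¹ ∈ C := hHC (hLcomm a ha b hb)
    have h2 : (QuotientGroup.mk' C) (a * b * a⁻¹ * b⁻¹) = 1 :=
      (QuotientGroup.eq_one_iff _).mpr h1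
    simp only [map_mul, map_inv] at h2
    calc (QuotientGroup.mk' C) a * (QuotientGroup.mk' C) b
        = ((QuotientGroup.mk' C) a * (QuotientGroup.mk' C) b * ((QuotientGroup.mk' C) a)⁻¹ *
            ((QuotientGroup.mk' C) b)⁻¹) * ((QuotientGroup.mk' C) b * (QuotientGroup.mk' C) a) := by
          group
      _ = (QuotientGroup.mk' C) b * (QuotientGroup.mk' C) a := by rw [h2, one_mul]
  have hBidx : B.index = m := by
    rw [hB, Subgroup.index_map_eq _ (QuotientGroup.mk'_surjective C)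
      (by rw [QuotientGroup.ker_mk']; exact hCS), hLidx]
  have hcen := center_le_of_abelian_of_index_eq_deg B hBab χ (by rw [hχ, hBidx])
  obtain ⟨t, ht, htz⟩ := hcen hzb
  have h1 : t⁻¹ * z ∈ C := QuotientGroup.eq.mp htz
  have h2 : z = t * (t⁻¹ * z) := by group
  rw [h2]
  exact (stabHom H L).mul_mem ht (hCS h1)

end CaseI

end Cfsg.Agent.Helper29.TwoDeg
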