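import Mathlib
import Cfsg.Agent.Helper29.PPrimeKerB
import Cfsg.Agent.Helper7.PPrimeCore
import Cfsg.Agent.Helper23.PPrimeDeg

/-!
# Principal blocks for two primes: the `p`-solvable case

Lemma 1: in a group `Γ` with `O_{p'}(Γ) = 1`, a normal subgroup `L` contained in the kernel of
every irreducible character of degree prime to `p` lies in `P'` and `O_{p'}(Γ/L) = 1`.
-/

set_option autoImplicit false
set_option linter.style.haveILetI false

namespace Cfsg.Agent.Helper29.TwoPrimes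

open Cfsg Cfsg.Agent.Helper24
open scoped commutatorElement

universe u

section Lemma1

variable {Γ : Type u} [Group Γ] [Finite Γ] {p : ℕ} [hp : Fact p.Prime]

/-- A `p`-element of `U` lies in any normal subgroup of `U` of index prime to `p`. -/
theorem mem_of_pow_of_coprime_relIndex (L U : Subgroup Γ) (hLU : L ≤ U)
    (hn : (L.subgroupOf U).Normal) (hcop : (L.relIndex U).Coprime p)
    (x : Γ) (hxU : x ∈ U) (k : ℕ) (hx : x ^ (p ^ k) = 1) : x ∈ L := by
  haveI := hn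
  set y : U ⧸ L.subgroupOf U := QuotientGroup.mk' (L.subgroupOf U) ⟨x, hxU⟩ with hy
  have h1 : y ^ (p ^ k) = 1 := by
    rw [hy, ← map_pow]
    have : (⟨x, hxU⟩ : U) ^ (p ^ k) = 1 := by
      apply Subtype.ext
      simpa using hx
    rw [this, map_one]
  have h2 : y ^ (L.relIndex U) = 1 := by
    have : Nat.card (U ⧸ L.subgroupOf U) = L.relIndex U := rfl
    rw [← this]
    exact pow_card_eq_one'
  have h3 : orderOf y ∣ (p ^ k).gcd (L.relIndex U) :=
    Nat.dvd_gcd (orderOf_dvd_of_pow_eq_one h1) (orderOf_dvd_of_pow_eq_one h2)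
  have h4 : (p ^ k).gcd (L.relIndex U) = 1 := by
    apply Nat.Coprime.pow_left
    exact hcop.symm
  rw [h4, Nat.dvd_one, orderOf_eq_one_iff] at h3
  have : (⟨x, hxU⟩ : U) ∈ L.subgroupOf U := by
    rw [← QuotientGroup.eq_one_iff]
    exact h3
  exact this

theorem le_commutator_of_le_kernels (h0 : pPrimeCore p Γ = ⊥) (L : Subgroup Γ) [hL : L.Normal]
    (hker : ∀ χ : IrrCharacter Γ, ¬ p ∣ charDegree (χ : Γ → ℂ) →
      ∀ x ∈ L, (χ : Γ → ℂ) x = (χ : Γ → ℂ) 1) (P : Sylow p Γ) :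
    L ≤ ⁅(P : Subgroup Γ), (P : Subgroup Γ)⁆ := by
  classical
  haveI : Fintype Γ := Fintype.ofFinite Γ
  have h1 : L ⊓ (P : Subgroup Γ) ≤ ⁅(P : Subgroup Γ), (P : Subgroup Γ)⁆ := by
    intro x hx
    refine Cfsg.Agent.Helper29.PPK.mem_commutator_of_mem_kernels (p := p) (P : Subgroup Γ)
      P.not_dvd_index x hx.2 ?_
    intro χ hχ
    apply hker χ _ x hx.1
    rwa [Cfsg.Agent.Helper23.charDegree_eq_irrDeg]
  obtain ⟨M, hMn, hML, hMc, hLM⟩ :=
    Cfsg.Agent.Helper29.PPK.exists_normal_pcomplement_image P L h1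
  have hM : M = ⊥ := by
    rw [eq_bot_iff, ← h0]
    exact Cfsg.Agent.Helper7.le_pPrimeCore hMn hMc
  rw [hM, bot_sup_eq] at hLM
  exact hLM.trans h1

theorem le_of_coprime_relIndex (h0 : pPrimeCore p Γ = ⊥) (L : Subgroup Γ) [hL : L.Normal]
    (hker : ∀ χ : IrrCharacter Γ, ¬ p ∣ charDegree (χ : Γ → ℂ) →
      ∀ x ∈ L, (χ : Γ → ℂ) x = (χ : Γ → ℂ) 1)
    (U : Subgroup Γ) [hU : U.Normal] (hLU : L ≤ U) (hcop : (L.relIndex U).Coprime p) :
    U ≤ L := by
  classical
  obtain ⟨P⟩ : Nonempty (Sylow p Γ) := inferInstance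
  have hLP := le_commutator_of_le_kernels h0 L hker P
  have h1 : U ⊓ (P : Subgroup Γ) ≤ L := by
    intro x hx
    obtain ⟨k, hk⟩ := (IsPGroup.iff_orderOf.mp P.2) ⟨x, hx.2⟩
    have hxk : x ^ (p ^ k) = 1 := by
      have := pow_orderOf_eq_one (⟨x, hx.2⟩ : (P : Subgroup Γ))
      rw [hk] at this
      simpa using congrArg Subtype.val this
    exact mem_of_pow_of_coprime_relIndex L U hLU inferInstance hcop x hx.1 k hxk
  obtain ⟨M, hMn, hMU, hMc, hUM⟩ :=
    Cfsg.Agent.Helper29.PPK.exists_normal_pcomplement_image P U (h1.trans hLP)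
  have hM : M = ⊥ := by
    rw [eq_bot_iff, ← h0]
    exact Cfsg.Agent.Helper7.le_pPrimeCore hMn hMc
  rw [hM, bot_sup_eq] at hUM
  exact hUM.trans h1

/-- If moreover `L = ⊤` then `Γ` is trivial. -/
theorem subsingleton_of_top (h0 : pPrimeCore p Γ = ⊥)
    (hker : ∀ χ : IrrCharacter Γ, ¬ p ∣ charDegree (χ : Γ → ℂ) →
      ∀ x : Γ, (χ : Γ → ℂ) x = (χ : Γ → ℂ) 1) : Subsingleton Γ := by
  classical
  obtain ⟨P⟩ : Nonempty (Sylow p Γ) := inferInstance
  have hLP := le_commutator_of_le_kernels h0 (⊤ : Subgroup Γ) (fun χ hχ x _ => hker χ hχ x) P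
  have hPtop : (P : Subgroup Γ) = ⊤ := by
    rw [eq_top_iff]
    exact hLP.trans (Subgroup.commutator_le_self _)
  have hcomm : commutator Γ = ⊤ := by
    rw [eq_top_iff]
    unfold commutator
    rw [hPtop] at hLP
    exact hLP
  have hpg : IsPGroup p Γ := by
    have := P.2
    rw [hPtop] at this
    exact (IsPGroup.of_equiv this Subgroup.topEquiv)
  haveI : Group.IsNilpotent Γ := hpg.isNilpotent
  by_contra hns
  rw [not_subsingleton_iff_nontrivial] at hns
  exact (IsSolvable.commutator_lt_top_of_nontrivial Γ).ne hcomm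

end Lemma1

end Cfsg.Agent.Helper29.TwoPrimes
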