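import Mathlib
import Cfsg.Agent.Helper29.TwoPrimesA
import Cfsg.Agent.Helper29.RelGlaubA
import Cfsg.Agent.Helper23.PSeries

/-!
# Principal blocks for two primes: transfer to `G / O_{p'}(G)`
-/

set_option autoImplicit false
set_option linter.style.haveILetI false

namespace Cfsg.Agent.Helper29.TwoPrimes

open Cfsg Cfsg.Agent.Helper24

universe u

section Lemma2

variable {G : Type u} [Group G] [Finite G] {p : ℕ} [hp : Fact p.Prime]

/-- Every irreducible character of `p'`-degree with `O_{p'}(G)` in its kernel has `K` in its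
kernel. -/
def KerHyp (p : ℕ) (K : Subgroup G) : Prop :=
  ∀ χ : IrrCharacter G, (∀ n ∈ pPrimeCore p G, (χ : G → ℂ) n = (χ : G → ℂ) 1) →
    ¬ p ∣ charDegree (χ : G → ℂ) → ∀ k ∈ K, (χ : G → ℂ) k = (χ : G → ℂ) 1

theorem kerHyp_quot (K : Subgroup G) (hK : KerHyp p K)
    (χ : IrrCharacter (G ⧸ pPrimeCore p G))
    (hχ : ¬ p ∣ charDegree (χ : G ⧸ pPrimeCore p G → ℂ)) :
    ∀ x ∈ K.map (QuotientGroup.mk' (pPrimeCore p G)),
      (χ : G ⧸ pPrimeCore p G → ℂ) x = (χ : G ⧸ pPrimeCore p G → ℂ) 1 := by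
  intro x hx
  obtain ⟨k, hk, rfl⟩ := hx
  set ψ := Cfsg.Agent.Helper29.RelGlaub.inflIrr (QuotientGroup.mk' (pPrimeCore p G))
    (QuotientGroup.mk'_surjective _) χ with hψ
  have h1 : ∀ g : G, (ψ : G → ℂ) g = (χ : G ⧸ pPrimeCore p G → ℂ)
      (QuotientGroup.mk' (pPrimeCore p G) g) := fun g => rfl
  have h2 : ∀ n ∈ pPrimeCore p G, (ψ : G → ℂ) n = (ψ : G → ℂ) 1 := by
    intro n hn
    rw [h1, h1]
    have : QuotientGroup.mk' (pPrimeCore p G) n = 1 := by
      rw [QuotientGroup.mk'_apply, QuotientGroup.eq_one_iff]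
      exact hn
    rw [this, map_one]
  have h3 : ¬ p ∣ charDegree (ψ : G → ℂ) := by
    have : charDegree (ψ : G → ℂ) = charDegree (χ : G ⧸ pPrimeCore p G → ℂ) := by
      unfold charDegree
      rw [h1, map_one]
    rwa [this]
  have := hK ψ h2 h3 k hk
  rw [h1, h1, map_one] at this
  exact this

theorem le_of_coprime_relIndex' (K : Subgroup G) [hKn : K.Normal] (hNK : pPrimeCore p G ≤ K)
    (hK : KerHyp p K) (U : Subgroup G) [hU : U.Normal] (hKU : K ≤ U)
    (hcop : (K.relIndex U).Coprime p) : U ≤ K := by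
  set N := pPrimeCore p G with hN
  set π := QuotientGroup.mk' N with hπ
  have hπs : Function.Surjective π := QuotientGroup.mk'_surjective _
  have h0 : pPrimeCore p (G ⧸ N) = ⊥ := Cfsg.Agent.Helper7.pPrimeCore_quotient_eq_bot p
  haveI : (K.map π).Normal := Subgroup.Normal.map hKn π hπs
  haveI : (U.map π).Normal := Subgroup.Normal.map hU π hπs
  have hcomap : (K.map π).comap π = K := by
    rw [Subgroup.comap_map_eq, hπ, QuotientGroup.ker_mk']
    exact sup_eq_left.mpr hNK
  have hrel : (K.map π).relIndex (U.map π) = K.relIndex U := by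
    rw [← Subgroup.relIndex_comap, hcomap]
  have h1 := le_of_coprime_relIndex h0 (K.map π) (kerHyp_quot K hK) (U.map π)
    (Subgroup.map_mono hKU) (by rw [hrel]; exact hcop)
  calc U ≤ (U.map π).comap π := Subgroup.le_comap_map _ _
    _ ≤ (K.map π).comap π := Subgroup.comap_mono h1
    _ = K := hcomap

theorem coprime_card_of_top (hK : KerHyp p (⊤ : Subgroup G)) : (Nat.card G).Coprime p := by
  set N := pPrimeCore p G with hN
  have h0 : pPrimeCore p (G ⧸ N) = ⊥ := Cfsg.Agent.Helper7.pPrimeCore_quotient_eq_bot p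
  have hsub : Subsingleton (G ⧸ N) := by
    apply subsingleton_of_top h0
    intro χ hχ x
    apply kerHyp_quot ⊤ hK χ hχ x
    rw [Subgroup.map_top_of_surjective _ (QuotientGroup.mk'_surjective _)]
    trivial
  have hNtop : N = ⊤ := by
    rw [eq_top_iff]
    intro g _
    have : (QuotientGroup.mk' N g) = 1 := Subsingleton.elim _ _
    rwa [QuotientGroup.mk'_apply, QuotientGroup.eq_one_iff] at this
  have hc := Cfsg.Agent.Helper23.pPrimeCore_card_coprime p G
  rw [← hN, hNtop, Subgroup.card_top] at hc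
  exact hc

end Lemma2

end Cfsg.Agent.Helper29.TwoPrimes
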