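import Mathlib
import Cfsg.Agent.Helper29.TwoPrimesB
import Cfsg.Agent.Helper23.PrincipalBlock

/-!
# Principal blocks for two primes: the `p`- and `q`-solvable case
-/

set_option autoImplicit false
set_option linter.style.haveILetI false

namespace Cfsg.Agent.Helper29.TwoPrimes

open Cfsg Cfsg.Agent.Helper24

universe u

section Main

variable {G : Type u} [Group G] [Finite G]

theorem two_primes_aux (p q : ℕ) [hp : Fact p.Prime] [hq : Fact q.Prime] (hpq : p ≠ q)
    (hpd : p ∣ Nat.card G) (hps : IsPSolvable p G)
    (hKp : KerHyp p (pPrimeCore p G ⊔ pPrimeCore q G))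
    (hKq : KerHyp q (pPrimeCore p G ⊔ pPrimeCore q G)) : False := by
  set K := pPrimeCore p G ⊔ pPrimeCore q G with hK
  haveI hNp : (pPrimeCore p G).Normal := inferInstance
  haveI hNq : (pPrimeCore q G).Normal := inferInstance
  haveI hKn : K.Normal := inferInstance
  obtain ⟨n, H, h0, hlast, hmono, hnorm, hfac⟩ := hps
  have key : ∀ i : Fin (n + 1), H i ≤ K := by
    intro i
    induction i using Fin.induction with
    | zero => rw [h0]; exact bot_le
    | succ i ih =>
      haveI := hnorm i.succ
      set U := K ⊔ H i.succ with hU
      haveI : U.Normal := inferInstance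
      have hKU : K ≤ U := le_sup_left
      have hrel : K.relIndex U ∣ (H i.castSucc).relIndex (H i.succ) := by
        rw [hU, Subgroup.relIndex_sup_left]
        exact Subgroup.relIndex_dvd_of_le_left _ ih
      have hUK : U ≤ K := by
        rcases hfac i with ⟨m, hm⟩ | hc
        · -- `p`-power index: coprime to `q`
          apply le_of_coprime_relIndex' (p := q) K le_sup_right hKq U hKU
          rw [hm] at hrel
          apply Nat.Coprime.coprime_dvd_left hrel
          apply Nat.Coprime.pow_left
          exact (Nat.coprime_primes hp.out hq.out).mpr hpq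
        · apply le_of_coprime_relIndex' (p := p) K le_sup_left hKp U hKU
          exact Nat.Coprime.coprime_dvd_left hrel hc
      exact le_sup_right.trans hUK
  have hKtop : K = ⊤ := by
    rw [eq_top_iff, ← hlast]
    exact key _
  rw [hKtop] at hKp
  have := coprime_card_of_top hKp
  rw [Nat.coprime_comm, Nat.Prime.coprime_iff_not_dvd hp.out] at this
  exact this hpd

end Main

end Cfsg.Agent.Helper29.TwoPrimes
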