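import Mathlib
import Cfsg.Agent.Helper29.WinterDefs
import Cfsg.Agent.Helper19.WinterNAB
import Cfsg.Agent.Helper8.WinterRAM
import Cfsg.Agent.Helper25.WinterZC
import Cfsg.Agent.Helper25.WinterCNT

/-!
S4467 (Winter): the case where every abelian normal subgroup is central.
-/

set_option autoImplicit false

namespace Cfsg.Agent.S4467P

open Cfsg Cfsg.Agent.Helper24
open scoped commutatorElement

universe u

namespace Case2

/-- ARITH: `r^(2m) ≡ r^(2c) (mod p)`, `c < m`, `p ∤ r` gives `r^j ≡ ±1` with `1 ≤ j ≤ m`. -/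
theorem arith {p r m c : ℕ} (hp : p.Prime) (hr : r.Prime) (hpr : p ≠ r) (hcm : c < m)
    (h : r ^ (2 * m) ≡ r ^ (2 * c) [MOD p]) :
    ∃ j : ℕ, 1 ≤ j ∧ j ≤ m ∧ (((r ^ j : ℕ) : ℤ) ≡ -1 [ZMOD p] ∨ ((r ^ j : ℕ) : ℤ) ≡ 1 [ZMOD p]) := by
  haveI := Fact.mk hp
  refine ⟨m - c, by omega, by omega, ?_⟩
  have h1 : ((r ^ (2 * m) : ℕ) : ZMod p) = ((r ^ (2 * c) : ℕ) : ZMod p) :=
    (ZMod.natCast_eq_natCast_iff _ _ _).mpr h
  have hr0 : (r : ZMod p) ≠ 0 := by
    intro h0
    rw [ZMod.natCast_eq_zero_iff] at h0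
    exact hpr ((Nat.prime_dvd_prime_iff_eq hp hr).mp h0)
  have h2 : (r : ZMod p) ^ (2 * c) * ((r : ZMod p) ^ (m - c)) ^ 2 = (r : ZMod p) ^ (2 * c) * 1 := by
    rw [mul_one, ← pow_mul, ← pow_add]
    have : 2 * c + (m - c) * 2 = 2 * m := by omega
    rw [this]
    push_cast at h1
    exact h1
  have h3 : ((r : ZMod p) ^ (m - c)) ^ 2 = 1 := mul_left_cancel₀ (pow_ne_zero _ hr0) h2
  have key : ∀ (a : ℤ), (((r ^ (m - c) : ℕ) : ℤ) : ZMod p) = ((a : ℤ) : ZMod p) →
      ((r ^ (m - c) : ℕ) : ℤ) ≡ a [ZMOD p] := fun a h =>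
    (ZMod.intCast_eq_intCast_iff _ _ _).mp h
  rcases sq_eq_one_iff.mp h3 with h4 | h4
  · right
    apply key
    push_cast
    exact h4
  · left
    apply key
    push_cast
    exact h4

variable {G : Type u} [Group G]

/-- `e ↦ ⁅e, x⁆` is multiplicative when the commutators are central. -/
theorem comm_mul_left (e f x : G) (hf : ⁅f, x⁆ ∈ Subgroup.center G) :
    ⁅e * f, x⁆ = ⁅e, x⁆ * ⁅f, x⁆ := by
  have h := Subgroup.mem_center_iff.mp hf
  have h1 : ⁅e * f, x⁆ = e * ⁅f, x⁆ * x * e⁻¹ * x⁻¹ := by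
    simp only [commutatorElement_def]; group
  rw [h1, h e, h ⁅e, x⁆]
  simp only [commutatorElement_def]; group

theorem comm_mul_right (e x y : G) (hy : ⁅e, y⁆ ∈ Subgroup.center G) :
    ⁅e, x * y⁆ = ⁅e, x⁆ * ⁅e, y⁆ := by
  have h := Subgroup.mem_center_iff.mp hy
  have h1 : ⁅e, x * y⁆ = e * x * e⁻¹ * ⁅e, y⁆ * x⁻¹ := by
    simp only [commutatorElement_def]; group
  rw [h1, mul_assoc (e * x * e⁻¹), ← h x⁻¹]
  simp only [commutatorElement_def]; group

theorem comm_pow_left (e x : G) (he : ⁅e, x⁆ ∈ Subgroup.center G) (n : ℕ) :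
    ⁅e ^ n, x⁆ = ⁅e, x⁆ ^ n := by
  induction n with
  | zero => simp
  | succ n ih => rw [pow_succ, comm_mul_left _ _ _ he, ih, pow_succ]

theorem comm_pow_right (e x : G) (he : ⁅e, x⁆ ∈ Subgroup.center G) (n : ℕ) :
    ⁅e, x ^ n⁆ = ⁅e, x⁆ ^ n := by
  induction n with
  | zero => simp
  | succ n ih => rw [pow_succ, comm_mul_right _ _ _ he, ih, pow_succ]

theorem comm_eq_one_iff (e x : G) : ⁅e, x⁆ = 1 ↔ x * e = e * x := by
  rw [commutatorElement_def]
  constructor
  · intro h
    have : e * x = x * e := by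
      have := congrArg (fun t => t * (x * e)) h
      simp only [one_mul] at this
      rw [← this]; group
    exact this.symm
  · intro h
    have : e * x * e⁻¹ * x⁻¹ = (e * x) * e⁻¹ * x⁻¹ := rfl
    rw [this, ← h]; group

/-- Lemma A: an element acting trivially on `E/Z` with coprime order data centralizes `E`. -/
theorem centralizes_of_comm_mem_center (E : Subgroup G) (x : G) (p r : ℕ) (hpr : Nat.Coprime p r)
    (hcomm : ∀ e ∈ E, ⁅e, x⁆ ∈ Subgroup.center G)
    (hrE : ∀ e ∈ E, ∃ k : ℕ, e ^ r ^ k ∈ Subgroup.center G)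
    (hxp : ∀ e ∈ E, x ^ p * e = e * x ^ p) : ∀ e ∈ E, x * e = e * x := by
  intro e he
  rw [← comm_eq_one_iff]
  have h1 : ⁅e, x⁆ ^ p = 1 := by
    rw [← comm_pow_right _ _ (hcomm e he), comm_eq_one_iff]
    exact hxp e he
  obtain ⟨k, hk⟩ := hrE e he
  have h2 : ⁅e, x⁆ ^ r ^ k = 1 := by
    rw [← comm_pow_left _ _ (hcomm e he), comm_eq_one_iff]
    exact Subgroup.mem_center_iff.mp hk x
  have h3 : orderOf ⁅e, x⁆ ∣ Nat.gcd p (r ^ k) :=
    Nat.dvd_gcd (orderOf_dvd_of_pow_eq_one h1) (orderOf_dvd_of_pow_eq_one h2)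
  rw [Nat.Coprime.gcd_eq_one (Nat.Coprime.pow_right k hpr), Nat.dvd_one] at h3
  exact orderOf_eq_one_iff.mp h3

/-- Lemma B: `|E : Z| = n` gives `e ^ n ∈ Z`. -/
theorem pow_relIndex_mem_center (E : Subgroup G) (e : G) (he : e ∈ E) :
    e ^ (Subgroup.center G).relIndex E ∈ Subgroup.center G := by
  have := Subgroup.pow_index_mem ((Subgroup.center G).subgroupOf E) (⟨e, he⟩ : E)
  rw [Subgroup.mem_subgroupOf] at this
  exact this

theorem relIndex_mul_card' {H K : Subgroup G} (h : H ≤ K) :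
    H.relIndex K * Nat.card H = Nat.card K := by
  have := Subgroup.relIndex_mul_relIndex ⊥ H K bot_le h
  rw [Subgroup.relIndex_bot_left, Subgroup.relIndex_bot_left] at this
  rw [mul_comm]; exact this

/-- A subgroup of the centre is normal. -/
theorem normal_of_le_center (P : Subgroup G) (h : P ≤ Subgroup.center G) : P.Normal := by
  refine ⟨fun x hx g => ?_⟩
  have := Subgroup.mem_center_iff.mp (h hx) g
  rw [this, mul_assoc, mul_inv_cancel, mul_one]
  exact hx

/-- Step 2: a class-two section `E` over the centre not centralized by `P`. -/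
theorem exists_E [Finite G] (hsolv : Group.IsSolvable G)
    (hab : ∀ A : Subgroup G, A.Normal → (∀ a ∈ A, ∀ b ∈ A, a * b = b * a) →
      A ≤ Subgroup.center G)
    (P : Subgroup G) (hP : ¬ P.Normal) :
    ∃ (r : ℕ) (E : Subgroup G), r.Prime ∧ E.Normal ∧ Subgroup.center G < E ∧
      ⁅E, E⁆ ≤ Subgroup.center G ∧ (∃ k : ℕ, (Subgroup.center G).relIndex E = r ^ k) ∧
      ¬ P ≤ Subgroup.centralizer (E : Set G) := by
  by_contra hcon
  push Not at hcon
  let S : Set (Subgroup G) := {E | E.Normal ∧ Subgroup.center G < E ∧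
    ⁅E, E⁆ ≤ Subgroup.center G ∧
    ∃ (r k : ℕ), r.Prime ∧ (Subgroup.center G).relIndex E = r ^ k}
  let C₀ : Subgroup G := ⨅ E : S, Subgroup.centralizer ((E : Subgroup G) : Set G)
  have hC₀n : C₀.Normal := by
    apply Subgroup.normal_iInf_normal
    intro E
    haveI := E.2.1
    infer_instance
  have hZC₀ : Subgroup.center G ≤ C₀ := le_iInf (fun E => Subgroup.center_le_centralizer _)
  have hPC₀ : P ≤ C₀ := le_iInf (fun E => by
    obtain ⟨hn, hlt, hc, r, k, hr, hk⟩ := E.2
    exact hcon r E hr hn hlt hc ⟨k, hk⟩)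
  have hC₀Z : C₀ = Subgroup.center G := by
    by_contra hne
    have hlt : Subgroup.center G < C₀ := lt_of_le_of_ne hZC₀ (Ne.symm hne)
    obtain ⟨r, E, hr, hEn, hZE, hEC, hEE, k, hk⟩ := exists_over_center hsolv C₀ hlt
    have hES : E ∈ S := ⟨hEn, hZE, hEE, r, k, hr, hk⟩
    have hEcent : E ≤ Subgroup.centralizer (E : Set G) :=
      hEC.trans (iInf_le (fun E : S => Subgroup.centralizer ((E : Subgroup G) : Set G)) ⟨E, hES⟩)
    have : E ≤ Subgroup.center G := hab E hEn (fun a ha b hb => by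
      have := Subgroup.mem_centralizer_iff.mp (hEcent hb) a ha
      exact this)
    exact absurd this (not_le_of_gt hZE)
  apply hP
  apply normal_of_le_center
  rw [← hC₀Z]
  exact hPC₀

end Case2

open Case2 in
/-- CASE 2 of Winter's theorem: every abelian normal subgroup is central. -/
theorem case2 {G : Type u} [Group G] [Finite G] (hsolv : Group.IsSolvable G) (χ : IrrCharacter G)
    (hfaith : ∀ g : G, (χ : G → ℂ) g = (χ : G → ℂ) 1 → g = 1)
    (hab : ∀ A : Subgroup G, A.Normal → (∀ a ∈ A, ∀ b ∈ A, a * b = b * a) →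
      A ≤ Subgroup.center G)
    (p : ℕ) (hp : p.Prime) (P : Sylow p G) (hP : ¬ (P : Subgroup G).Normal) :
    Good p (irrDeg χ) := by
  classical
  have hpF : Fact p.Prime := ⟨hp⟩
  obtain ⟨r, E, hr, hEn, hZE, hEE, ⟨k, hk⟩, hPE⟩ := exists_E hsolv hab (P : Subgroup G) hP
  -- Z(E) = Z(G)
  have hcenE : ∀ e ∈ E, (∀ f ∈ E, f * e = e * f) → e ∈ Subgroup.center G := by
    intro e he hef
    have hAn : (E ⊓ Subgroup.centralizer (E : Set G)).Normal := inferInstance
    have hA := hab (E ⊓ Subgroup.centralizer (E : Set G)) hAn (fun a ha b hb => by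
      have := Subgroup.mem_centralizer_iff.mp (Subgroup.mem_inf.mp hb).2 a (Subgroup.mem_inf.mp ha).1
      exact this)
    apply hA
    rw [Subgroup.mem_inf]
    refine ⟨he, ?_⟩
    rw [Subgroup.mem_centralizer_iff]
    intro f hf
    exact hef f hf
  -- RAM on E
  obtain ⟨s, hs, hsdvd⟩ := card_eq_sq_mul_center χ hfaith E hZE.le hEE hcenE
  have hsdvd' : s ∣ irrDeg χ := hsdvd hEn
  have hcardE : (Subgroup.center G).relIndex E * Nat.card (Subgroup.center G) = Nat.card E :=
    relIndex_mul_card' hZE.le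
  have hZpos : 0 < Nat.card (Subgroup.center G) := Nat.card_pos
  have hsk : s ^ 2 = r ^ k := by
    have : s ^ 2 * Nat.card (Subgroup.center G) = r ^ k * Nat.card (Subgroup.center G) := by
      rw [← hs, ← hk, hcardE]
    exact Nat.eq_of_mul_eq_mul_right hZpos this
  have hkpos : 0 < k := by
    rcases Nat.eq_zero_or_pos k with h0 | h0
    · exfalso
      rw [h0, pow_zero] at hk
      have : E ≤ Subgroup.center G := Subgroup.relIndex_eq_one.mp hk
      exact absurd this (not_le_of_gt hZE)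
    · exact h0
  obtain ⟨m, hmk, hsm⟩ := (Nat.dvd_prime_pow hr).mp
    (hsk ▸ Dvd.intro_left (s ^ 1) (by ring) : s ∣ r ^ k)
  have hk2m : k = 2 * m := by
    rw [hsm, ← pow_mul] at hsk
    have := Nat.pow_right_injective hr.two_le hsk
    omega
  have hmpos : 0 < m := by omega
  by_cases hpr : p = r
  · -- q = r
    refine Good.of_dvd ?_ hsdvd'
    refine Good.of_modEq (q := r) hr.isPrimePow ?_ ?_
    · rw [hsm]; exact dvd_pow_self r hmpos.ne'
    · left
      rw [← hpr]
      exact Nat.modEq_zero_iff_dvd.mpr dvd_rfl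
  · -- p ≠ r: choose x ∈ P not centralizing E, of minimal order
    have hex : ∃ x : G, x ∈ (P : Subgroup G) ∧ x ∉ Subgroup.centralizer (E : Set G) := by
      by_contra h
      push Not at h
      exact hPE (fun x hx => h x hx)
    let S : Set ℕ := {n | ∃ x : G, x ∈ (P : Subgroup G) ∧
      x ∉ Subgroup.centralizer (E : Set G) ∧ orderOf x = n}
    have hS : S.Nonempty := by
      obtain ⟨x, hx1, hx2⟩ := hex
      exact ⟨orderOf x, x, hx1, hx2, rfl⟩
    obtain ⟨n, ⟨x, hxP, hxC, hxn⟩, hmin⟩ := wellFounded_lt.has_min S hS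
    have hx1 : x ≠ 1 := by
      rintro rfl
      exact hxC (Subgroup.one_mem _)
    obtain ⟨a, ha⟩ := IsPGroup.iff_orderOf.mp P.2 ⟨x, hxP⟩
    rw [Subgroup.orderOf_mk] at ha
    have hapos : 0 < a := by
      rcases Nat.eq_zero_or_pos a with h0 | h0
      · exfalso
        rw [h0, pow_zero, orderOf_eq_one_iff] at ha
        exact hx1 ha
      · exact h0
    have hxpC : x ^ p ∈ Subgroup.centralizer (E : Set G) := by
      by_contra hnot
      have hmem : orderOf (x ^ p) ∈ S := ⟨x ^ p, Subgroup.pow_mem _ hxP p, hnot, rfl⟩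
      apply hmin _ hmem
      rw [← hxn, orderOf_pow, ha]
      have : Nat.gcd (p ^ a) p = p := by
        apply Nat.gcd_eq_right
        exact dvd_pow_self p hapos.ne'
      rw [this]
      apply Nat.div_lt_self (pow_pos hp.pos a) hp.one_lt
    have hxE' : ∀ e ∈ E, x * e * x⁻¹ ∈ E := fun e he => hEn.conj_mem e he x
    have hxp : ∀ e ∈ E, x ^ p * e = e * x ^ p := fun e he =>
      (Subgroup.mem_centralizer_iff.mp hxpC e he).symm
    have hrE : ∀ e ∈ E, ∃ k : ℕ, e ^ r ^ k ∈ Subgroup.center G := fun e he =>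
      ⟨k, hk ▸ pow_relIndex_mem_center E e he⟩
    have hcop : Nat.Coprime p r := (Nat.coprime_primes hp hr).mpr hpr
    have hCE : fixSub E x ≤ E := fixSub_le E x
    have hZC : Subgroup.center G ≤ fixSub E x := center_le_fixSub E x hZE.le
    have hCC : ⁅fixSub E x, fixSub E x⁆ ≤ Subgroup.center G :=
      (Subgroup.commutator_mono hCE hCE).trans hEE
    have hcenC := center_fixSub E hZE.le hEE hcenE r hrE p hcop x hxE' hxp
    obtain ⟨s', hs', -⟩ := card_eq_sq_mul_center χ hfaith (fixSub E x) hZC hCC hcenC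
    have hCne : ¬ E ≤ fixSub E x := by
      intro hle
      apply hxC
      rw [Subgroup.mem_centralizer_iff]
      intro e he
      have := centralizes_of_comm_mem_center E x p r hcop
        (fun e he => ((mem_fixSub E x e).mp (hle he)).2) hrE hxp e he
      exact this.symm
    -- cardinalities
    have hcardC : (Subgroup.center G).relIndex (fixSub E x) * Nat.card (Subgroup.center G) =
        Nat.card (fixSub E x) := relIndex_mul_card' hZC
    have hrelC : (Subgroup.center G).relIndex (fixSub E x) = s' ^ 2 := by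
      have : (Subgroup.center G).relIndex (fixSub E x) * Nat.card (Subgroup.center G) =
          s' ^ 2 * Nat.card (Subgroup.center G) := by rw [hcardC, hs']
      exact Nat.eq_of_mul_eq_mul_right hZpos this
    have hmul : (Subgroup.center G).relIndex (fixSub E x) * (fixSub E x).relIndex E =
        (Subgroup.center G).relIndex E := Subgroup.relIndex_mul_relIndex _ _ _ hZC hCE
    have ht1 : (fixSub E x).relIndex E ≠ 1 := fun h => hCne (Subgroup.relIndex_eq_one.mp h)
    rw [hrelC, hk] at hmul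
    have hs'dvd : s' ∣ r ^ k := Dvd.intro _ (by rw [← hmul]; ring : s' * (s' * (fixSub E x).relIndex E) = r ^ k)
    obtain ⟨c, hck, hs'c⟩ := (Nat.dvd_prime_pow hr).mp hs'dvd
    have hcm : c < m := by
      by_contra hge
      push Not at hge
      rw [hs'c, ← pow_mul, hk2m] at hmul
      have h1 : r ^ (2 * m) ≤ r ^ (c * 2) := Nat.pow_le_pow_right hr.pos (by omega)
      have h2 : 0 < r ^ (c * 2) := pow_pos hr.pos _
      have h3 : (fixSub E x).relIndex E ≤ 1 := by
        by_contra h4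
        push Not at h4
        have : r ^ (c * 2) * 2 ≤ r ^ (c * 2) * (fixSub E x).relIndex E :=
          Nat.mul_le_mul_left _ h4
        omega
      have h5 : (fixSub E x).relIndex E ≠ 0 := by
        intro h0
        rw [h0, mul_zero] at hmul
        exact absurd hmul.symm (pow_pos hr.pos _).ne'
      omega
    have hcnt := relIndex_fixSub_modEq E hZE.le p hp x hxE' hxp
    rw [hk, hrelC, hk2m, hs'c, ← pow_mul, mul_comm c 2] at hcnt
    obtain ⟨j, hj1, hjm, hj⟩ := arith hp hr hpr hcm hcnt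
    refine Good.of_dvd ⟨r ^ j, hr.isPrimePow.pow (by omega), ?_, ?_⟩ hsdvd'
    · rw [hsm]; exact pow_dvd_pow r hjm
    · rcases hj with hj | hj
      · left; exact hj
      · right; right; exact hj

end Cfsg.Agent.S4467P
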