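import Mathlib
import Cfsg.Agent.Helper29.WinterDefs
import Cfsg.Agent.Helper29.WinterCase2
import Cfsg.Agent.Helper24.WinterPERM
import Cfsg.Agent.Helper24.WinterC1A
import Cfsg.Agent.Helper8.WinterC1B
import Cfsg.Agent.Helper12.PSL2Char
import Cfsg.Agent.Helper5.IndFun

/-!
S4467 (Winter): the main induction.
-/

set_option autoImplicit false

namespace Cfsg.Agent.S4467P

open Cfsg Cfsg.Agent.Helper24
open scoped commutatorElement

universe u

namespace Main

/-- Degrees agree when the values at `1` agree. -/
theorem irrDeg_eq_of_apply_one {G H : Type u} [Group G] [Group H] (χ : IrrCharacter G)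
    (ψ : IrrCharacter H) (h : (χ : G → ℂ) 1 = (ψ : H → ℂ) 1) : irrDeg χ = irrDeg ψ := by
  rw [irrDeg_spec, irrDeg_spec] at h
  exact_mod_cast h

end Main

open Main in
/-- The generalized claim, by strong induction on the group order. -/
theorem main_claim : ∀ (N : ℕ) (G : Type u) [Group G] [Finite G], Nat.card G = N →
    Group.IsSolvable G → ∀ (χ : IrrCharacter G) (p : ℕ), p.Prime → ∀ P : Sylow p G,
    ¬ ((P : Subgroup G) ⊔ irrKer χ).Normal → Good p (irrDeg χ) := by
  intro N
  induction N using Nat.strong_induction_on with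
  | _ N IH =>
  intro G _ _ hcard hsolv χ p hp P hPK
  classical
  haveI : Fact p.Prime := ⟨hp⟩
  by_cases hK : irrKer χ = ⊥
  · -- faithful case
    have hfaith : ∀ g : G, (χ : G → ℂ) g = (χ : G → ℂ) 1 → g = 1 := by
      intro g hg
      have : g ∈ irrKer χ := (mem_irrKer χ g).mpr hg
      rw [hK] at this
      exact Subgroup.mem_bot.mp this
    have hP : ¬ (P : Subgroup G).Normal := by
      rw [hK, sup_bot_eq] at hPK
      exact hPK
    by_cases hab : ∀ A : Subgroup G, A.Normal → (∀ a ∈ A, ∀ b ∈ A, a * b = b * a) →
        A ≤ Subgroup.center G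
    · exact case2 hsolv χ hfaith hab p hp P hP
    · push Not at hab
      obtain ⟨A, hAn, hAab, hAZ⟩ := hab
      haveI := Fintype.ofFinite G
      obtain ⟨T, ψ, hT, hind⟩ := exists_proper_induced χ hfaith A hAab hAZ
      have hdeg : irrDeg χ = T.index * irrDeg ψ := by
        have h1 := Helper5.indFun_apply_one T (ψ : T → ℂ)
        rw [hind, irrDeg_spec, irrDeg_spec] at h1
        exact_mod_cast h1
      by_cases hPT : (P : Subgroup G) ≤ T.normalCore
      · have hall : ∀ g : G, ∀ x ∈ P, g * x * g⁻¹ ∈ T := by
          intro g x hx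
          apply Subgroup.normalCore_le T
          exact (Subgroup.normalCore_normal T).conj_mem x (hPT hx) g
        by_cases hQ : ∀ Q : Sylow p T, ((Q : Subgroup T) ⊔ irrKer ψ).Normal
        · exact absurd (normal_of_induced χ hfaith T ψ hind p hp P hall hQ) hP
        · push Not at hQ
          obtain ⟨Q, hQ⟩ := hQ
          have hTlt : Nat.card T < N := by
            rw [← hcard]
            rcases lt_or_eq_of_le (Subgroup.card_le_card_group T) with h | h
            · exact h
            · exact absurd (Subgroup.card_eq_iff_eq_top T |>.mp h) hT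
          have hTs : Group.IsSolvable T := inferInstance
          have := IH (Nat.card T) hTlt T rfl hTs ψ p hp Q hQ
          exact this.of_dvd (hdeg ▸ Dvd.intro_left _ rfl)
      · have := good_index_of_not_le_core hsolv T p hp P hPT
        exact this.of_dvd (hdeg ▸ Dvd.intro _ rfl)
  · -- pass to the quotient by the kernel
    have hKcard : Nat.card (G ⧸ irrKer χ) < N := by
      rw [← hcard, ← Subgroup.index_eq_card]
      have h1 := Subgroup.card_mul_index (irrKer χ)
      have h2 : 1 < Nat.card (irrKer χ) := by
        rcases Nat.lt_or_ge 1 (Nat.card (irrKer χ)) with h | h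
        · exact h
        · exfalso
          have : Nat.card (irrKer χ) = 1 := le_antisymm h Nat.card_pos
          exact hK (Subgroup.card_eq_one.mp this)
      have h3 : 0 < (irrKer χ).index := Nat.pos_of_ne_zero Subgroup.index_ne_zero_of_finite
      nlinarith
    obtain ⟨χ', hχ'⟩ := Helper12.exists_irr_quotient' (irrKer χ) χ
      (fun n hn => (mem_irrKer χ n).mp hn)
    have hdeg : irrDeg χ' = irrDeg χ := by
      apply irrDeg_eq_of_apply_one
      have := hχ' 1
      rw [map_one] at this
      exact this
    have hK' : irrKer χ' = ⊥ := by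
      rw [eq_bot_iff]
      intro y hy
      obtain ⟨g, rfl⟩ := QuotientGroup.mk'_surjective (irrKer χ) y
      rw [mem_irrKer, hχ', ← map_one (QuotientGroup.mk' (irrKer χ)), hχ'] at hy
      rw [Subgroup.mem_bot, QuotientGroup.mk'_apply, QuotientGroup.eq_one_iff]
      exact (mem_irrKer χ g).mpr hy
    have hsurj : Function.Surjective (QuotientGroup.mk' (irrKer χ)) :=
      QuotientGroup.mk'_surjective _
    have hP' : ¬ ((P.mapSurjective hsurj : Subgroup (G ⧸ irrKer χ)) ⊔ irrKer χ').Normal := by
      rw [hK', sup_bot_eq, Sylow.coe_mapSurjective]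
      intro hn
      apply hPK
      have h2 := Subgroup.comap_map_eq (QuotientGroup.mk' (irrKer χ)) (P : Subgroup G)
      rw [QuotientGroup.ker_mk'] at h2
      rw [← h2]
      exact hn.comap _
    have hs' : Group.IsSolvable (G ⧸ irrKer χ) := inferInstance
    have := IH _ hKcard (G ⧸ irrKer χ) rfl hs' χ' p hp (P.mapSurjective hsurj) hP'
    rw [hdeg] at this
    exact this

end Cfsg.Agent.S4467P
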