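import Mathlib

/-!
# A perfect group with a solvable maximal subgroup of large derived length

For a group `S`, let `W S = (Fin 5 → S) ⋊ A₅` (permutational wreath product) and let
`K S ≤ W S` be the kernel of the map `(f, π) ↦ ∏ i, [f i] ∈ Sᵃᵇ`.  Then `K S` is perfect and
the preimage of a point stabiliser of `A₅` is a maximal subgroup containing a copy of `S'`.
-/

set_option autoImplicit false

namespace Cfsg.Agent.Helper29.WrPerfect

open SemidirectProduct Equiv
open scoped commutatorElement

/-- the alternating group of degree five. -/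
abbrev Q := alternatingGroup (Fin 5)

theorem commutator_Q : commutator Q = ⊤ := by
  have hs : IsSimpleGroup Q := alternatingGroup.isSimpleGroup (by simp)
  rcases (commutator Q).normal_of_characteristic.eq_bot_or_eq_top with h | h
  · exfalso
    have hcomm : ∀ a b : Q, a * b = b * a := by
      intro a b
      have h1 : ⁅a, b⁆ ∈ commutator Q :=
        Subgroup.commutator_mem_commutator (Subgroup.mem_top a) (Subgroup.mem_top b)
      rw [h, Subgroup.mem_bot, commutatorElement_eq_one_iff_mul_comm] at h1
      exact h1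
    have h2 := hcomm ⟨swap 0 1 * swap 2 3, Perm.mem_alternatingGroup.mpr (by decide)⟩
      ⟨swap 0 1 * swap 1 2, Perm.mem_alternatingGroup.mpr (by decide)⟩
    have h3 := congrArg Subtype.val h2
    revert h3
    decide
  · exact h

variable (S : Type*) [Group S]

/-- the permutational wreath product `S ≀ A₅`. -/
abbrev W := (Fin 5 → S) ⋊[(mulAutArrow : Q →* MulAut (Fin 5 → S))] Q

variable {S}

theorem arrow_apply (π : Q) (f : Fin 5 → S) (i : Fin 5) :
    (mulAutArrow (M := S) π) f i = f (π⁻¹ • i) := rfl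

/-- the product of the coordinates in the abelianization. -/
noncomputable def Φ : W S →* Abelianization S where
  toFun x := ∏ i, Abelianization.of (x.left i)
  map_one' := by simp
  map_mul' x y := by
    simp only [mul_left, Pi.mul_apply, map_mul, Finset.prod_mul_distrib, arrow_apply]
    congr 1
    exact Fintype.prod_equiv (MulAction.toPerm (x.right⁻¹)) _ _ (fun i => rfl)

theorem Φ_inl (f : Fin 5 → S) : Φ (inl f : W S) = ∏ i, Abelianization.of (f i) := rfl

theorem Φ_inr (π : Q) : Φ (inr π : W S) = 1 := by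
  simp [Φ]

/-- the kernel of `Φ`. -/
noncomputable abbrev K (S : Type*) [Group S] : Subgroup (W S) := (Φ (S := S)).ker

theorem inr_mem_K (π : Q) : (inr π : W S) ∈ K S := by
  rw [MonoidHom.mem_ker, Φ_inr]

theorem inl_mem_K_iff (f : Fin 5 → S) :
    (inl f : W S) ∈ K S ↔ ∏ i, Abelianization.of (f i) = 1 := by
  rw [MonoidHom.mem_ker, Φ_inl]

/-- `s` at `i`, `s⁻¹` at `j`. -/
def pair (i j : Fin 5) (s : S) : Fin 5 → S := Pi.mulSingle i s * Pi.mulSingle j s⁻¹

theorem pair_apply (i j : Fin 5) (s : S) (x : Fin 5) :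
    pair i j s x = (if x = i then s else 1) * (if x = j then s⁻¹ else 1) := by
  simp [pair, Pi.mulSingle_apply]

theorem prod_of_mulSingle (i : Fin 5) (s : S) :
    ∏ x, Abelianization.of ((Pi.mulSingle i s : Fin 5 → S) x) = Abelianization.of s := by
  rw [Finset.prod_eq_single i]
  · simp
  · intro b _ hb
    simp [hb]
  · simp

theorem inl_pair_mem_K (i j : Fin 5) (s : S) : (inl (pair i j s) : W S) ∈ K S := by
  rw [inl_mem_K_iff]
  simp only [pair, Pi.mul_apply, map_mul, Finset.prod_mul_distrib, prod_of_mulSingle]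
  simp

theorem inl_mulSingle_mem_K (i : Fin 5) {c : S} (hc : c ∈ commutator S) :
    (inl (Pi.mulSingle i c) : W S) ∈ K S := by
  rw [inl_mem_K_iff, prod_of_mulSingle]
  exact (QuotientGroup.eq_one_iff c).mpr hc

theorem exists_fourth : ∀ i j k : Fin 5, ∃ m : Fin 5, m ≠ i ∧ m ≠ j ∧ m ≠ k := by decide

theorem exists_third : ∀ i j : Fin 5, ∃ m : Fin 5, m ≠ i ∧ m ≠ j := by decide

/-- an even permutation with `π i = j` fixing `k`. -/
theorem exists_move {i j k : Fin 5} (hij : i ≠ j) (hik : i ≠ k) (hjk : j ≠ k) :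
    ∃ π : Q, π • i = j ∧ π • k = k := by
  obtain ⟨m, hmi, hmj, hmk⟩ := exists_fourth i j k
  refine ⟨⟨swap i j * swap j m, Perm.mem_alternatingGroup.mpr ?_⟩, ?_, ?_⟩
  · rw [Perm.sign_mul, Perm.sign_swap hij, Perm.sign_swap hmj.symm]
    rfl
  · change (swap i j * swap j m) i = j
    rw [Perm.mul_apply, swap_apply_of_ne_of_ne hij hmi.symm, swap_apply_left]
  · change (swap i j * swap j m) k = k
    rw [Perm.mul_apply, swap_apply_of_ne_of_ne hjk.symm hmk.symm,
      swap_apply_of_ne_of_ne hik.symm hjk.symm]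

theorem commutator_inl_inr (f : Fin 5 → S) (π : Q) :
    ⁅(inl f : W S), (inr π : W S)⁆ = inl (f * (mulAutArrow (M := S) π f)⁻¹) := by
  rw [map_mul (inl : (Fin 5 → S) →* W S), map_inv (inl : (Fin 5 → S) →* W S), inl_aut,
    commutatorElement_def, map_inv]
  group

/-- the commutator subgroup of `K S`, inside `W S`. -/
noncomputable abbrev C (S : Type*) [Group S] : Subgroup (W S) := ⁅K S, K S⁆

theorem inr_mem_C (π : Q) : (inr π : W S) ∈ C S := by
  have h1 : π ∈ commutator Q := by rw [commutator_Q]; trivial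
  have h2 : (commutator Q).map (inr : Q →* W S) ≤ C S := by
    rw [commutator_def, Subgroup.map_commutator]
    apply Subgroup.commutator_mono <;>
    · rintro _ ⟨π, -, rfl⟩
      exact inr_mem_K π
  exact h2 (Subgroup.mem_map_of_mem _ h1)

theorem inl_pair_mem_C {i j : Fin 5} (hij : i ≠ j) (s : S) : (inl (pair i j s) : W S) ∈ C S := by
  obtain ⟨k, hki, hkj⟩ := exists_third i j
  obtain ⟨π, hπi, hπk⟩ := exists_move hij hki.symm hkj.symm
  have h1 : ⁅(inl (pair i k s) : W S), (inr π : W S)⁆ ∈ C S :=
    Subgroup.commutator_mem_commutator (inl_pair_mem_K i k s) (inr_mem_K π)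
  rw [commutator_inl_inr] at h1
  convert h1 using 2
  funext x
  have hi : π⁻¹ • j = i := by rw [inv_smul_eq_iff, hπi]
  have hk : π⁻¹ • k = k := by rw [inv_smul_eq_iff, hπk]
  simp only [Pi.mul_apply, Pi.inv_apply, arrow_apply, pair_apply]
  by_cases hxi : x = i
  · subst hxi
    have h1 : π⁻¹ • x ≠ x := by
      intro h
      rw [inv_smul_eq_iff, hπi] at h
      exact hij h
    have h2 : π⁻¹ • x ≠ k := by
      intro h
      rw [inv_smul_eq_iff, hπk] at h
      exact hki h.symm
    simp [hij, hki.symm, h1, h2]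
  · by_cases hxj : x = j
    · subst hxj
      simp [hxi, hkj.symm, hi, hki.symm]
    · by_cases hxk : x = k
      · subst hxk
        simp [hxi, hxj, hk]
      · have h1 : π⁻¹ • x ≠ i := by
          intro h
          rw [inv_smul_eq_iff, hπi] at h
          exact hxj h
        have h2 : π⁻¹ • x ≠ k := by
          intro h
          rw [inv_smul_eq_iff, hπk] at h
          exact hxk h
        simp [hxi, hxj, hxk, h1, h2]

theorem inl_mulSingle_mem_C (i : Fin 5) {c : S} (hc : c ∈ commutator S) :
    (inl (Pi.mulSingle i c) : W S) ∈ C S := by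
  obtain ⟨j, hji, -⟩ := exists_third i i
  obtain ⟨k, hki, hkj⟩ := exists_third i j
  let ψ : S →* W S := (inl : (Fin 5 → S) →* W S).comp (MonoidHom.mulSingle (fun _ : Fin 5 => S) i)
  have hψ : ∀ s, ψ s = inl (Pi.mulSingle i s) := fun s => rfl
  have hle : commutator S ≤ (C S).comap ψ := by
    rw [commutator_eq_closure, Subgroup.closure_le]
    rintro _ ⟨s, t, rfl⟩
    rw [SetLike.mem_coe, Subgroup.mem_comap, hψ]
    have h1 : ⁅(inl (pair i j s) : W S), inl (pair i k t)⁆ ∈ C S :=
      Subgroup.commutator_mem_commutator (inl_pair_mem_K i j s) (inl_pair_mem_K i k t)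
    rw [← map_commutatorElement] at h1
    convert h1 using 2
    funext x
    simp only [commutatorElement_def, Pi.mul_apply, Pi.inv_apply, pair_apply, Pi.mulSingle_apply]
    by_cases hxi : x = i
    · subst hxi
      simp [hji.symm, hki.symm]
    · by_cases hxj : x = j
      · subst hxj
        simp [hxi, hkj.symm]
      · by_cases hxk : x = k
        · subst hxk
          simp [hxi, hxj]
        · simp [hxi, hxj, hxk]
  exact hle hc

theorem K_le_C : K S ≤ C S := by
  intro x hx
  rw [← inl_left_mul_inr_right x]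
  refine (C S).mul_mem ?_ (inr_mem_C _)
  have hxl : (inl x.left : W S) ∈ K S := by
    have : (inl x.left : W S) = x * (inr x.right)⁻¹ := by
      rw [eq_mul_inv_iff_mul_eq, inl_left_mul_inr_right]
    rw [this]
    exact (K S).mul_mem hx ((K S).inv_mem (inr_mem_K _))
  rw [inl_mem_K_iff] at hxl
  set f := x.left with hf
  set r : S := f 4 * f 3 * f 2 * f 1 * f 0 with hr
  have hrc : r ∈ commutator S := by
    rw [← QuotientGroup.eq_one_iff]
    change Abelianization.of r = 1
    rw [hr]
    simp only [map_mul]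
    rw [← hxl, Fin.prod_univ_five]
    simp only [mul_comm, mul_left_comm]
  have hdecomp : f = pair 1 0 (f 1) * pair 2 0 (f 2) * pair 3 0 (f 3) * pair 4 0 (f 4) *
      Pi.mulSingle 0 r := by
    funext x
    simp only [Pi.mul_apply, pair_apply, Pi.mulSingle_apply]
    fin_cases x <;> simp [hr, mul_assoc]
  rw [hdecomp]
  simp only [map_mul]
  refine (C S).mul_mem ((C S).mul_mem ((C S).mul_mem ((C S).mul_mem ?_ ?_) ?_) ?_) ?_
  · exact inl_pair_mem_C (by decide) _
  · exact inl_pair_mem_C (by decide) _
  · exact inl_pair_mem_C (by decide) _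
  · exact inl_pair_mem_C (by decide) _
  · exact inl_mulSingle_mem_C 0 hrc

/-- `K S` is perfect. -/
theorem commutator_K : commutator ↥(K S) = ⊤ := by
  rw [eq_top_iff]
  intro x _
  have h1 : (x : W S) ∈ C S := K_le_C x.2
  unfold C at h1
  rw [← Subgroup.map_subtype_commutator] at h1
  obtain ⟨y, hy, hyx⟩ := h1
  have : y = x := Subtype.ext hyx
  rw [← this]
  exact hy

end Cfsg.Agent.Helper29.WrPerfect
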