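import Mathlib
import Cfsg.Agent.Helper29.WrPerfect
import Cfsg.Agent.S0144

/-!
# The maximal subgroup of `K S` over a point stabiliser, and a family of solvable groups of
unbounded derived length.
-/

set_option autoImplicit false

namespace Cfsg.Agent.Helper29.WrPerfect

open SemidirectProduct Equiv
open scoped commutatorElement

/-! ### derived series of a subgroup, inside the ambient group -/

section dS
variable {G G' : Type*} [Group G] [Group G']

/-- the derived series of a subgroup, as subgroups of the ambient group. -/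
def dS (X : Subgroup G) : ℕ → Subgroup G
  | 0 => X
  | n + 1 => ⁅dS X n, dS X n⁆

theorem dS_mono {X Y : Subgroup G} (h : X ≤ Y) (n : ℕ) : dS X n ≤ dS Y n := by
  induction n with
  | zero => exact h
  | succ n ih => exact Subgroup.commutator_mono ih ih

theorem dS_map (f : G →* G') (X : Subgroup G) (n : ℕ) : (dS X n).map f = dS (X.map f) n := by
  induction n with
  | zero => rfl
  | succ n ih =>
    change (⁅dS X n, dS X n⁆).map f = ⁅dS (X.map f) n, dS (X.map f) n⁆
    rw [Subgroup.map_commutator, ih]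

theorem dS_top (n : ℕ) : dS (⊤ : Subgroup G) n = derivedSeries G n := by
  induction n with
  | zero => rfl
  | succ n ih =>
    change ⁅dS ⊤ n, dS ⊤ n⁆ = _
    rw [ih, derivedSeries_succ]

theorem dS_subtype (X : Subgroup G) (n : ℕ) : (derivedSeries ↥X n).map X.subtype = dS X n := by
  rw [← dS_top, dS_map]
  congr 1
  rw [← MonoidHom.range_eq_map, Subgroup.range_subtype]

theorem dS_succ' (X : Subgroup G) (n : ℕ) : dS X (n + 1) = dS ⁅X, X⁆ n := by
  induction n with
  | zero => rfl
  | succ n ih =>
    change ⁅dS X (n + 1), dS X (n + 1)⁆ = ⁅dS ⁅X, X⁆ n, dS ⁅X, X⁆ n⁆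
    rw [ih]

theorem derivedSeries_ne_bot_of_dS {X : Subgroup G} {n : ℕ} (h : dS X n ≠ ⊥) :
    derivedSeries ↥X n ≠ ⊥ := by
  intro h0
  apply h
  rw [← dS_subtype, h0, Subgroup.map_bot]

theorem map_ne_bot_of_injective {f : G →* G'} (hf : Function.Injective f) {X : Subgroup G}
    (h : X ≠ ⊥) : X.map f ≠ ⊥ := by
  intro h0
  apply h
  rw [Subgroup.map_eq_bot_iff_of_injective _ hf] at h0
  exact h0

end dS

/-! ### solvability of finite powers -/

theorem isSolvable_pi {ι : Type*} (S : Type*) [Group S] [Group.IsSolvable S] :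
    Group.IsSolvable (ι → S) := by
  obtain ⟨n, hn⟩ := (Group.isSolvable_def S).mp inferInstance
  have key : ∀ m : ℕ, derivedSeries (ι → S) m ≤
      Subgroup.pi Set.univ (fun _ : ι => derivedSeries S m) := by
    intro m
    induction m with
    | zero =>
      intro x _ i _
      trivial
    | succ m ih =>
      rw [derivedSeries_succ]
      refine (Subgroup.commutator_mono ih ih).trans ?_
      refine (Subgroup.commutator_pi_pi_le _ _).trans ?_
      intro x hx i hi
      have := hx i hi
      rwa [derivedSeries_succ]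
  refine (Group.isSolvable_def _).mpr ⟨n, ?_⟩
  rw [eq_bot_iff]
  refine (key n).trans ?_
  rw [hn, Subgroup.pi_bot]

/-! ### the point stabiliser in `A₅` -/

/-- the stabiliser of `0` in `A₅`. -/
abbrev Q₀ : Subgroup Q := MulAction.stabilizer Q (0 : Fin 5)

theorem isCoatom_Q₀ : IsCoatom Q₀ := by
  have : MulAction.IsPreprimitive Q (Fin 5) :=
    alternatingGroup.isPreprimitive_of_three_le_card (Fin 5) (by simp)
  exact MulAction.IsPreprimitive.isCoatom_stabilizer_of_isPreprimitive Q (0 : Fin 5)

theorem card_Q : Nat.card Q = 60 := by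
  rw [Nat.card_eq_fintype_card, card_alternatingGroup]
  rfl

theorem card_Q₀ : Nat.card Q₀ = 12 := by
  have : MulAction.IsPretransitive Q (Fin 5) :=
    alternatingGroup.isPretransitive_of_three_le_card (Fin 5) (by simp)
  have h1 : Q₀.index = 5 := by
    rw [MulAction.index_stabilizer_of_transitive]
    simp
  have h2 := Subgroup.card_mul_index Q₀
  rw [h1, card_Q] at h2
  omega

instance isSolvable_Q₀ : Group.IsSolvable ↥Q₀ :=
  Cfsg.Agent.S0144.result 2 3 2 1 Nat.prime_two Nat.prime_three (by rw [card_Q₀]; norm_num)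

variable {S : Type*} [Group S]

/-- the preimage of the point stabiliser in the wreath product. -/
abbrev T (S : Type*) [Group S] : Subgroup (W S) := Q₀.comap (rightHom : W S →* Q)

theorem inl_mem_T (f : Fin 5 → S) : (inl f : W S) ∈ T S := by
  rw [Subgroup.mem_comap, rightHom_inl]
  exact Q₀.one_mem

theorem inr_mem_T {π : Q} (hπ : π ∈ Q₀) : (inr π : W S) ∈ T S := by
  rw [Subgroup.mem_comap, rightHom_inr]
  exact hπ

instance finite_W [Finite S] : Finite (W S) := Finite.of_equiv _ equivProd.symm

instance isSolvable_T [Group.IsSolvable S] : Group.IsSolvable ↥(T S) := by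
  have : Group.IsSolvable (Fin 5 → S) := isSolvable_pi S
  let f : (Fin 5 → S) →* ↥(T S) := (inl : (Fin 5 → S) →* W S).codRestrict (T S) inl_mem_T
  let g : ↥(T S) →* ↥Q₀ := ((rightHom : W S →* Q).comp (T S).subtype).codRestrict Q₀
    (fun x => x.2)
  refine Group.isSolvable_of_ker_le_range f g ?_
  intro x hx
  rw [MonoidHom.mem_ker] at hx
  have h1 : rightHom (x : W S) = 1 := by
    have := congrArg Subtype.val hx
    exact this
  have h2 : (x : W S) ∈ (inl : (Fin 5 → S) →* W S).range := by
    rw [range_inl_eq_ker_rightHom, MonoidHom.mem_ker]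
    exact h1
  obtain ⟨y, hy⟩ := h2
  exact ⟨y, Subtype.ext hy⟩

/-- the basic commutator computation. -/
theorem commutator_pair {i j k : Fin 5} (hij : i ≠ j) (hki : k ≠ i) (hkj : k ≠ j) {π : Q}
    (hπi : π • i = j) (hπk : π • k = k) (s : S) :
    ⁅(inl (pair i k s) : W S), (inr π : W S)⁆ = inl (pair i j s) := by
  rw [commutator_inl_inr]
  congr 1
  funext x
  have hi : π⁻¹ • j = i := by rw [inv_smul_eq_iff, hπi]
  have hk : π⁻¹ • k = k := by rw [inv_smul_eq_iff, hπk]
  simp only [Pi.mul_apply, Pi.inv_apply, arrow_apply, pair_apply]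
  by_cases hxi : x = i
  · subst hxi
    have h1 : π⁻¹ • x ≠ x := by
      intro h
      rw [inv_smul_eq_iff, hπi] at h
      exact hij h
    have h2 : π⁻¹ • x ≠ k := by
      intro h
      rw [inv_smul_eq_iff, hπk] at h
      exact hki h.symm
    simp [hij, hki.symm, h1, h2]
  · by_cases hxj : x = j
    · subst hxj
      simp [hxi, hkj.symm, hi, hki.symm]
    · by_cases hxk : x = k
      · subst hxk
        simp [hxi, hxj, hk]
      · have h1 : π⁻¹ • x ≠ i := by
          intro h
          rw [inv_smul_eq_iff, hπi] at h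
          exact hxj h
        have h2 : π⁻¹ • x ≠ k := by
          intro h
          rw [inv_smul_eq_iff, hπk] at h
          exact hxk h
        simp [hxi, hxj, hxk, h1, h2]

/-- `(1 2 4)` as an element of the point stabiliser. -/
def π₀ : Q := ⟨swap 1 2 * swap 2 4, Perm.mem_alternatingGroup.mpr (by decide)⟩

theorem π₀_mem : π₀ ∈ Q₀ := by
  rw [MulAction.mem_stabilizer_iff]
  change (swap (1 : Fin 5) 2 * swap 2 4 : Perm (Fin 5)) 0 = 0
  decide

theorem π₀_one : π₀ • (1 : Fin 5) = 2 := by
  change (swap (1 : Fin 5) 2 * swap 2 4 : Perm (Fin 5)) 1 = 2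
  decide

theorem π₀_three : π₀ • (3 : Fin 5) = 3 := by
  change (swap (1 : Fin 5) 2 * swap 2 4 : Perm (Fin 5)) 3 = 3
  decide

theorem inl_pair_mem_commutator_T (s : S) : (inl (pair 1 2 s) : W S) ∈ ⁅T S, T S⁆ := by
  rw [← commutator_pair (i := 1) (j := 2) (k := 3) (by decide) (by decide) (by decide)
    π₀_one π₀_three s]
  exact Subgroup.commutator_mem_commutator (inl_mem_T _) (inr_mem_T π₀_mem)

theorem inl_injective : Function.Injective (inl : (Fin 5 → S) →* W S) :=
  SemidirectProduct.inl_injective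

/-- passing to `T S` raises the derived length. -/
theorem dS_T_ne_bot {d : ℕ} (hd : derivedSeries S d ≠ ⊥) : dS (T S) (d + 1) ≠ ⊥ := by
  rw [dS_succ']
  set A₁ : Subgroup (Fin 5 → S) := (⁅T S, T S⁆).comap (inl : (Fin 5 → S) →* W S) with hA₁
  have h1 : A₁.map (inl : (Fin 5 → S) →* W S) ≤ ⁅T S, T S⁆ := Subgroup.map_comap_le _ _
  have h2 : A₁.map (Pi.evalMonoidHom (fun _ : Fin 5 => S) 1) = ⊤ := by
    rw [eq_top_iff]
    intro s _
    refine ⟨pair 1 2 s, ?_, ?_⟩
    · rw [SetLike.mem_coe, hA₁, Subgroup.mem_comap]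
      exact inl_pair_mem_commutator_T s
    · simp [pair_apply]
  have h3 : dS A₁ d ≠ ⊥ := by
    intro h0
    apply hd
    rw [← dS_top, ← h2, ← dS_map, h0, Subgroup.map_bot]
  have h4 : (dS A₁ d).map (inl : (Fin 5 → S) →* W S) ≠ ⊥ := map_ne_bot_of_injective inl_injective h3
  rw [dS_map] at h4
  intro h0
  apply h4
  rw [eq_bot_iff, ← h0]
  exact dS_mono h1 d

/-- solvable groups of arbitrarily large derived length. -/
theorem exists_solvable (d : ℕ) :
    ∃ (S : Type) (_ : Group S) (_ : Finite S), Group.IsSolvable S ∧ derivedSeries S d ≠ ⊥ := by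
  induction d with
  | zero =>
    refine ⟨Multiplicative (ZMod 2), inferInstance, inferInstance, inferInstance, ?_⟩
    rw [derivedSeries_zero]
    exact top_ne_bot
  | succ d ih =>
    obtain ⟨S, _, _, hS, hd⟩ := ih
    exact ⟨↥(T S), inferInstance, inferInstance, inferInstance,
      derivedSeries_ne_bot_of_dS (dS_T_ne_bot hd)⟩

/-! ### the maximal subgroup of `K S` -/

/-- the projection of `K S` onto `A₅`. -/
noncomputable def ρ (S : Type*) [Group S] : ↥(K S) →* Q := (rightHom : W S →* Q).comp (K S).subtype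

theorem ρ_surjective : Function.Surjective (ρ S) := by
  intro π
  refine ⟨⟨(inr π : W S), inr_mem_K π⟩, ?_⟩
  change rightHom (inr π : W S) = π
  exact rightHom_inr π

/-- the maximal subgroup. -/
noncomputable abbrev M (S : Type*) [Group S] : Subgroup ↥(K S) := Q₀.comap (ρ S)

theorem isCoatom_M : IsCoatom (M S) :=
  Subgroup.isCoatom_comap_of_surjective ρ_surjective isCoatom_Q₀

theorem isSolvable_M [Group.IsSolvable S] : Group.IsSolvable ↥(M S) := by
  let f : ↥(M S) →* ↥(T S) := ((K S).subtype.comp (M S).subtype).codRestrict (T S)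
    (fun x => x.2)
  have hf : Function.Injective f := by
    intro x y hxy
    have := congrArg Subtype.val hxy
    exact Subtype.ext (Subtype.ext this)
  exact Group.isSolvable_of_isSolvable_injective hf

theorem derivedSeries_M_ne_bot {d : ℕ} (hd : derivedSeries S (d + 1) ≠ ⊥) :
    derivedSeries ↥(M S) d ≠ ⊥ := by
  apply derivedSeries_ne_bot_of_dS
  -- work in `W S`
  intro h0
  have h1 : (dS (M S) d).map (K S).subtype = ⊥ := by rw [h0, Subgroup.map_bot]
  rw [dS_map] at h1
  let ψ₀ : S →* W S :=
    (inl : (Fin 5 → S) →* W S).comp (MonoidHom.mulSingle (fun _ : Fin 5 => S) 0)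
  have hψ₀ : Function.Injective ψ₀ := by
    intro a b hab
    have := inl_injective hab
    exact Pi.mulSingle_injective 0 this
  have h2 : (commutator S).map ψ₀ ≤ (M S).map (K S).subtype := by
    rintro _ ⟨c, hc, rfl⟩
    refine ⟨⟨inl (Pi.mulSingle 0 c), inl_mulSingle_mem_K 0 hc⟩, ?_, rfl⟩
    rw [SetLike.mem_coe, Subgroup.mem_comap]
    change rightHom (inl (Pi.mulSingle 0 c) : W S) ∈ Q₀
    rw [rightHom_inl]
    exact Q₀.one_mem
  have h3 := dS_mono h2 d
  rw [h1, le_bot_iff, ← dS_map] at h3
  have h4 : dS (commutator S) d = derivedSeries S (d + 1) := by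
    rw [← dS_top, dS_succ', commutator_def]
  rw [h4] at h3
  exact map_ne_bot_of_injective hψ₀ hd h3

end Cfsg.Agent.Helper29.WrPerfect
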