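import Cfsg.Agent.Helper29.Wreath

set_option autoImplicit false

namespace Cfsg.Agent.Helper29

open Equiv
open scoped Pointwise

variable {Ω : Type*} [Fintype Ω] [DecidableEq Ω] {b : ℕ}

/-- A product of two transpositions inside fibres is an even element of `partStab f`. -/
theorem two_swaps_mem (f : Ω → Fin b) {p p' q q' : Ω} (hp : f p = f p') (hq : f q = f q')
    (hpp : p ≠ p') (hqq : q ≠ q') :
    swap p p' * swap q q' ∈ partStab f ⊓ alternatingGroup Ω := by
  refine ⟨(partStab f).mul_mem (swap_mem_partStab f _ _ hp) (swap_mem_partStab f _ _ hq),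
    Equiv.Perm.mem_alternatingGroup.mpr ?_⟩
  rw [map_mul, Equiv.Perm.sign_swap hpp, Equiv.Perm.sign_swap hqq]
  rfl

/-- Parity adjustment: multiply by a fibre transposition if necessary. -/
theorem exists_even_adjust (f : Ω → Fin b) {g : Perm Ω} (hg : g ∈ partStab f) {p p' : Ω}
    (hpp : p ≠ p') (hfp : f p = f p') :
    ∃ g' ∈ partStab f ⊓ alternatingGroup Ω, (∀ z, z ≠ p → z ≠ p' → g' z = g z) ∧
      ((g' p = g p ∧ g' p' = g p') ∨ (g' p = g p' ∧ g' p' = g p)) := by
  rcases Int.units_eq_one_or (Equiv.Perm.sign g) with h1 | h1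
  · exact ⟨g, ⟨hg, Equiv.Perm.mem_alternatingGroup.mpr h1⟩, fun _ _ _ => rfl, Or.inl ⟨rfl, rfl⟩⟩
  · refine ⟨g * swap p p', ⟨(partStab f).mul_mem hg (swap_mem_partStab f _ _ hfp),
      Equiv.Perm.mem_alternatingGroup.mpr ?_⟩, ?_, ?_⟩
    · rw [map_mul, Equiv.Perm.sign_swap hpp, h1]
      rfl
    · intro z hz1 hz2
      rw [Perm.mul_apply, swap_apply_of_ne_of_ne hz1 hz2]
    · right
      rw [Perm.mul_apply, Perm.mul_apply, swap_apply_left, swap_apply_right]
      exact ⟨rfl, rfl⟩

/-- Every fibre is nonempty. -/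
theorem exists_mem_fibre (f : Ω → Fin b) {a : ℕ} (ha : 2 ≤ a)
    (hf : ∀ i : Fin b, Nat.card {x : Ω // f x = i} = a) (i : Fin b) : ∃ x, f x = i := by
  have h1 : 0 < Nat.card {z : Ω // f z = i} := by rw [hf]; omega
  obtain ⟨⟨x, hx⟩⟩ := (Finite.card_pos_iff).mp h1
  exact ⟨x, hx⟩

/-- Two distinct points in a common fibre different from a given one. -/
theorem exists_pair_other_fibre (f : Ω → Fin b) {a : ℕ} (ha : 2 ≤ a) (hb : 2 ≤ b)
    (hf : ∀ i : Fin b, Nat.card {x : Ω // f x = i} = a) (i : Fin b) :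
    ∃ p p', p ≠ p' ∧ f p = f p' ∧ f p ≠ i := by
  have : ∃ j : Fin b, j ≠ i := by
    by_cases h0 : i = ⟨0, by omega⟩
    · refine ⟨⟨1, by omega⟩, ?_⟩
      rw [h0]; intro h; simpa using congrArg Fin.val h
    · exact ⟨_, fun h => h0 h.symm⟩
  obtain ⟨j, hj⟩ := this
  obtain ⟨p, hp⟩ := exists_mem_fibre f ha hf j
  obtain ⟨p', hp'ne, hp'⟩ := exists_other f ha hf p
  exact ⟨p, p', hp'ne.symm, hp'.symm, by rw [hp]; exact hj⟩

/-- The even part of `partStab f` is transitive. -/
theorem exists_move_even (f : Ω → Fin b) {a : ℕ} (ha : 2 ≤ a) (hb : 2 ≤ b)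
    (hf : ∀ i : Fin b, Nat.card {x : Ω // f x = i} = a) (x y : Ω) :
    ∃ g ∈ partStab f ⊓ alternatingGroup Ω, g x = y := by
  obtain ⟨g, hg, hgx, -⟩ := exists_move f hf x y
  obtain ⟨p, p', hpp, hfp, hpx⟩ := exists_pair_other_fibre f ha hb hf (f x)
  obtain ⟨g', hg', hg'z, -⟩ := exists_even_adjust f hg hpp hfp
  refine ⟨g', hg', ?_⟩
  rw [hg'z x, hgx]
  · rintro rfl; exact hpx rfl
  · rintro rfl; exact hpx hfp

/-- Two further points in the fibre of `p` when fibres have at least three points. -/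
theorem exists_two_others (f : Ω → Fin b) {a : ℕ} (ha3 : 3 ≤ a)
    (hf : ∀ i : Fin b, Nat.card {x : Ω // f x = i} = a) (p : Ω) :
    ∃ v v', v ≠ v' ∧ f v = f p ∧ f v' = f p ∧ v ≠ p ∧ v' ≠ p := by
  have h1 : 2 < Fintype.card {z : Ω // f z = f p} := by
    rw [← Nat.card_eq_fintype_card, hf]; omega
  obtain ⟨⟨c1, h1⟩, ⟨c2, h2⟩, ⟨c3, h3⟩, h12, h13, h23⟩ := Fintype.two_lt_card_iff.mp h1
  have h12' : c1 ≠ c2 := fun h => h12 (Subtype.ext h)
  have h13' : c1 ≠ c3 := fun h => h13 (Subtype.ext h)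
  have h23' : c2 ≠ c3 := fun h => h23 (Subtype.ext h)
  by_cases e1 : c1 = p
  · refine ⟨c2, c3, h23', h2, h3, ?_, ?_⟩
    · rw [← e1]; exact h12'.symm
    · rw [← e1]; exact h13'.symm
  · by_cases e2 : c2 = p
    · refine ⟨c1, c3, h13', h1, h3, e1, ?_⟩
      rw [← e2]; exact h23'.symm
    · exact ⟨c1, c2, h12', h1, h2, e1, e2⟩

/-- The number of points is `a * b`. -/
theorem card_eq_mul (f : Ω → Fin b) {a : ℕ}
    (hf : ∀ i : Fin b, Nat.card {x : Ω // f x = i} = a) : Fintype.card Ω = a * b := by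
  rw [← Fintype.card_congr (Equiv.sigmaFiberEquiv f), Fintype.card_sigma]
  have : ∀ i : Fin b, Fintype.card {x : Ω // f x = i} = a := by
    intro i; rw [← Nat.card_eq_fintype_card]; exact hf i
  simp only [this, Finset.sum_const, Finset.card_univ, Fintype.card_fin, smul_eq_mul]
  ring

/-- A pair of distinct points in a common fibre, avoiding `p` and the fibre of `q`. -/
theorem exists_pair_avoiding (f : Ω → Fin b) {a : ℕ} (ha : 2 ≤ a)
    (hf : ∀ i : Fin b, Nat.card {x : Ω // f x = i} = a) (h3 : 3 ≤ a ∨ 3 ≤ b)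
    (p q : Ω) (hpq : f p ≠ f q) :
    ∃ v v', v ≠ v' ∧ f v = f v' ∧ v ≠ p ∧ v' ≠ p ∧ f v ≠ f q := by
  rcases h3 with h3 | h3
  · obtain ⟨v, v', hvv, hv, hv', hvp, hv'p⟩ := exists_two_others f h3 hf p
    exact ⟨v, v', hvv, hv.trans hv'.symm, hvp, hv'p, by rw [hv]; exact hpq⟩
  · -- a third fibre
    have : ∃ j : Fin b, j ≠ f p ∧ j ≠ f q := by
      by_contra hcon
      push Not at hcon
      have h0 := hcon ⟨0, by omega⟩
      have h1 := hcon ⟨1, by omega⟩
      have h2 := hcon ⟨2, by omega⟩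
      have e : ∀ (i j : Fin b), (i : ℕ) ≠ j → i ≠ j := fun i j h h' => h (congrArg Fin.val h')
      by_cases c0 : (⟨0, by omega⟩ : Fin b) = f p
      · by_cases c1 : (⟨1, by omega⟩ : Fin b) = f p
        · exact e _ _ (by simp) (c0.trans c1.symm)
        · by_cases c2 : (⟨2, by omega⟩ : Fin b) = f p
          · exact e _ _ (by simp) (c0.trans c2.symm)
          · exact e _ _ (by simp) ((h1 c1).trans (h2 c2).symm)
      · by_cases c1 : (⟨1, by omega⟩ : Fin b) = f p
        · by_cases c2 : (⟨2, by omega⟩ : Fin b) = f p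
          · exact e _ _ (by simp) (c1.trans c2.symm)
          · exact e _ _ (by simp) ((h0 c0).trans (h2 c2).symm)
        · exact e _ _ (by simp) ((h0 c0).trans (h1 c1).symm)
    obtain ⟨j, hjp, hjq⟩ := this
    obtain ⟨v, hv⟩ := exists_mem_fibre f ha hf j
    obtain ⟨v', hv'ne, hv'⟩ := exists_other f ha hf v
    refine ⟨v, v', hv'ne.symm, hv'.symm, ?_, ?_, by rw [hv]; exact hjq⟩
    · rintro rfl; exact hjp hv.symm
    · rintro rfl; exact hjp (hv'.trans hv).symm

/-- A nontrivial block of a group containing the even part of `partStab f` is a fibre. -/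
theorem block_eq_fibre (f : Ω → Fin b) {a : ℕ} (ha : 2 ≤ a) (hb : 2 ≤ b)
    (hf : ∀ i : Fin b, Nat.card {x : Ω // f x = i} = a) (h3 : 3 ≤ a ∨ 3 ≤ b)
    (X : Subgroup (Perm Ω)) (hEX : partStab f ⊓ alternatingGroup Ω ≤ X) (B : Set Ω)
    (key : ∀ g ∈ X, ∀ u ∈ B, g u ∈ B → ∀ z ∈ B, g z ∈ B)
    (x y : Ω) (hx : x ∈ B) (hy : y ∈ B) (hxy : x ≠ y) (hB : B ≠ Set.univ) :
    ∀ z, z ∈ B ↔ f z = f x := by
  -- Step A: two points of a fibre in B force the whole fibre into B
  have stepA : ∀ p ∈ B, ∀ q ∈ B, p ≠ q → f p = f q → ∀ z, f z = f p → z ∈ B := by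
    intro p hp q hq hpq hfpq z hz
    by_cases hzp : z = p
    · rw [hzp]; exact hp
    by_cases hzq : z = q
    · rw [hzq]; exact hq
    obtain ⟨v, v', hvv, hfv, hvp⟩ := exists_pair_other_fibre f ha hb hf (f p)
    have hmem : swap q z * swap v v' ∈ X :=
      hEX (two_swaps_mem f (hfpq.symm.trans hz.symm) hfv (Ne.symm hzq) hvv)
    have hpv : p ≠ v := by rintro rfl; exact hvp rfl
    have hpv' : p ≠ v' := by rintro rfl; exact hvp hfv
    have hqv : q ≠ v := by rintro rfl; exact hvp hfpq.symm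
    have hqv' : q ≠ v' := by rintro rfl; exact hvp (hfv.trans hfpq.symm)
    have e1 : (swap q z * swap v v') p = p := by
      rw [Perm.mul_apply, swap_apply_of_ne_of_ne hpv hpv', swap_apply_of_ne_of_ne hpq (Ne.symm hzp)]
    have e2 : (swap q z * swap v v') q = z := by
      rw [Perm.mul_apply, swap_apply_of_ne_of_ne hqv hqv', swap_apply_left]
    have := key _ hmem p hp (by rw [e1]; exact hp) q hq
    rwa [e2] at this
  -- Step B: a fibre in B plus an extra point gives everything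
  have stepB : ∀ p p', p ≠ p' → f p = f p' → (∀ z, f z = f p → z ∈ B) → ∀ r ∈ B, f r ≠ f p →
      False := by
    intro p p' hpp hfpp hfib r hr hrp
    apply hB
    rw [Set.eq_univ_iff_forall]
    intro w
    by_cases hwp : f w = f p
    · exact hfib w hwp
    obtain ⟨g, hg, hgr, hgfix⟩ := exists_move f hf r w
    obtain ⟨g', hg', hg'z, hg'p⟩ := exists_even_adjust f hg hpp hfpp
    have hgp : g p = p := hgfix p (Ne.symm hrp) (Ne.symm hwp)
    have hgp' : g p' = p' := hgfix p' (by rw [← hfpp]; exact Ne.symm hrp)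
      (by rw [← hfpp]; exact Ne.symm hwp)
    have hpB : p ∈ B := hfib p rfl
    have hp'B : p' ∈ B := hfib p' hfpp.symm
    have hg'pB : g' p ∈ B := by
      rcases hg'p with ⟨h1, -⟩ | ⟨h1, -⟩
      · rw [h1, hgp]; exact hpB
      · rw [h1, hgp']; exact hp'B
    have hrne : r ≠ p := by rintro rfl; exact hrp rfl
    have hrne' : r ≠ p' := by rintro rfl; exact hrp hfpp.symm
    have := key g' (hEX hg') p hpB hg'pB r hr
    rwa [hg'z r hrne hrne', hgr] at this
  -- Step C: points of B in different fibres give a same-fibre pair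
  have stepC : ∀ p ∈ B, ∀ q ∈ B, f p ≠ f q → False := by
    intro p hp q hq hfpq
    obtain ⟨q', hq'ne, hq'⟩ := exists_other f ha hf q
    obtain ⟨v, v', hvv, hfv, hvp, hv'p, hvq⟩ := exists_pair_avoiding f ha hf h3 p q hfpq
    have hmem : swap q q' * swap v v' ∈ X :=
      hEX (two_swaps_mem f hq'.symm hfv hq'ne.symm hvv)
    have hpq : p ≠ q := by rintro rfl; exact hfpq rfl
    have hpq' : p ≠ q' := by rintro rfl; exact hfpq hq'
    have hqv : q ≠ v := by rintro rfl; exact hvq rfl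
    have hqv' : q ≠ v' := by rintro rfl; exact hvq hfv
    have e1 : (swap q q' * swap v v') p = p := by
      rw [Perm.mul_apply, swap_apply_of_ne_of_ne hvp.symm hv'p.symm,
        swap_apply_of_ne_of_ne hpq hpq']
    have e2 : (swap q q' * swap v v') q = q' := by
      rw [Perm.mul_apply, swap_apply_of_ne_of_ne hqv hqv', swap_apply_left]
    have hq'B := key _ hmem p hp (by rw [e1]; exact hp) q hq
    rw [e2] at hq'B
    exact stepB q q' hq'ne.symm hq'.symm (stepA q hq q' hq'B hq'ne.symm hq'.symm) p hp hfpq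
  have hfxy : f x = f y := by
    by_contra h
    exact stepC x hx y hy h
  intro z
  refine ⟨fun hz => ?_, stepA x hx y hy hxy hfxy z⟩
  by_contra h
  exact stepB x y hxy hfxy (stepA x hx y hy hxy hfxy) z hz h

/-- If a fibre is a block for `X ≥ E`, then `X` preserves the partition. -/
theorem le_partStab_of_block (f : Ω → Fin b) {a : ℕ} (ha : 2 ≤ a) (hb : 2 ≤ b)
    (hf : ∀ i : Fin b, Nat.card {x : Ω // f x = i} = a)
    (X : Subgroup (Perm Ω)) (hEX : partStab f ⊓ alternatingGroup Ω ≤ X) (B : Set Ω)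
    (key : ∀ g ∈ X, ∀ u ∈ B, g u ∈ B → ∀ z ∈ B, g z ∈ B)
    (x : Ω) (hBfib : ∀ z, z ∈ B ↔ f z = f x) : X ≤ partStab f := by
  have hxB : x ∈ B := (hBfib x).mpr rfl
  have htr : ∀ h ∈ X, ∀ u v, f u = f v → f (h u) = f (h v) := by
    intro h hh u v huv
    obtain ⟨g, hg, hgx⟩ := exists_move_even f ha hb hf x u
    have hgB : ∀ z, f z = f u → g⁻¹ z ∈ B := by
      intro z hz
      rw [hBfib]
      have := (((partStab f).inv_mem hg.1) z u).mp hz
      rw [this]
      rw [← hgx]; simp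
    obtain ⟨g', hg', hg'x⟩ := exists_move_even f ha hb hf x (h u)
    have hk : g'⁻¹ * h * g ∈ X := X.mul_mem (X.mul_mem (X.inv_mem (hEX hg')) hh) (hEX hg)
    have hkx : (g'⁻¹ * h * g) x = x := by
      simp only [Perm.mul_apply, hgx]
      rw [← hg'x]; simp
    have hkv := key _ hk x hxB (by rw [hkx]; exact hxB) (g⁻¹ v) (hgB v huv.symm)
    rw [hBfib] at hkv
    simp only [Perm.mul_apply] at hkv
    have e1 : g (g⁻¹ v) = v := by simp
    rw [e1] at hkv
    have h7 := ((hg'.1 (g'⁻¹ (h v)) x)).mp hkv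
    have e2 : g' (g'⁻¹ (h v)) = h v := by simp
    rw [e2] at h7
    rw [h7, hg'x]
  intro h hh u v
  refine ⟨htr h hh u v, fun huv => ?_⟩
  have := htr h⁻¹ (X.inv_mem hh) (h u) (h v) huv
  simpa using this

/-- A group containing the even part of `partStab f` either preserves the partition or is
primitive. -/
theorem le_partStab_or_isPreprimitive (f : Ω → Fin b) {a : ℕ} (ha : 2 ≤ a) (hb : 2 ≤ b)
    (hf : ∀ i : Fin b, Nat.card {x : Ω // f x = i} = a) (h3 : 3 ≤ a ∨ 3 ≤ b)
    (X : Subgroup (Perm Ω)) (hEX : partStab f ⊓ alternatingGroup Ω ≤ X) :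
    X ≤ partStab f ∨ MulAction.IsPreprimitive X Ω := by
  by_cases hX : X ≤ partStab f
  · exact Or.inl hX
  right
  have htrans : MulAction.IsPretransitive X Ω := by
    refine ⟨fun x y => ?_⟩
    obtain ⟨g, hg, hgx⟩ := exists_move_even f ha hb hf x y
    exact ⟨⟨g, hEX hg⟩, hgx⟩
  refine ⟨fun {B} hB => ?_⟩
  have key : ∀ g ∈ X, ∀ u ∈ B, g u ∈ B → ∀ z ∈ B, g z ∈ B := by
    intro g hg u hu hgu z hz
    have h1 : (⟨g, hg⟩ : X) • B = B := hB.smul_eq_of_mem (g := ⟨g, hg⟩) hu hgu
    have h2 : (⟨g, hg⟩ : X) • z ∈ (⟨g, hg⟩ : X) • B := Set.smul_mem_smul_set hz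
    rw [h1] at h2
    exact h2
  unfold MulAction.IsTrivialBlock
  by_contra hcon
  push Not at hcon
  obtain ⟨hnss, hnuniv⟩ := hcon
  obtain ⟨x, hxB, y, hyB, hxy⟩ := hnss
  exact hX (le_partStab_of_block f ha hb hf X hEX B key x
    (block_eq_fibre f ha hb hf h3 X hEX B key x y hxB hyB hxy hnuniv))

/-- When fibres have at least three points, the even part contains a 3-cycle. -/
theorem exists_threeCycle_of_three_le (f : Ω → Fin b) {a : ℕ} (ha3 : 3 ≤ a) (hb : 2 ≤ b)
    (hf : ∀ i : Fin b, Nat.card {x : Ω // f x = i} = a) :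
    ∃ c ∈ partStab f ⊓ alternatingGroup Ω, c.IsThreeCycle := by
  obtain ⟨p, -⟩ := exists_mem_fibre f (by omega : 2 ≤ a) hf ⟨0, by omega⟩
  obtain ⟨v, v', hvv, hv, hv', hvp, hv'p⟩ := exists_two_others f ha3 hf p
  exact ⟨swap p v * swap p v', two_swaps_mem f hv.symm hv'.symm hvp.symm hv'p.symm,
    Equiv.Perm.isThreeCycle_swap_mul_swap_same hvp.symm hv'p.symm hvv⟩

/-- The partner of a point when fibres have two points. -/
theorem exists_partner (f : Ω → Fin b) (hf : ∀ i : Fin b, Nat.card {x : Ω // f x = i} = 2)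
    (x : Ω) : ∃ y, y ≠ x ∧ f y = f x ∧ ∀ z, f z = f x → z = x ∨ z = y := by
  obtain ⟨⟨y, hy⟩, hne, huniq⟩ :=
    (Nat.card_eq_two_iff' (⟨x, rfl⟩ : {z : Ω // f z = f x})).mp (hf _)
  refine ⟨y, fun h => hne (Subtype.ext h), hy, fun z hz => ?_⟩
  by_cases hzx : z = x
  · exact Or.inl hzx
  · right
    have := huniq ⟨z, hz⟩ (fun h => hzx (congrArg Subtype.val h))
    exact congrArg Subtype.val this

/-- Conjugating a product of two transpositions. -/
theorem conj_two_swaps (g : Perm Ω) (p q r s : Ω) :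
    g * (swap p q * swap r s) * g⁻¹ = swap (g p) (g q) * swap (g r) (g s) := by
  rw [swap_apply_apply, swap_apply_apply]
  group

/-- The exchange of two fibres of size two is in the even part. -/
theorem exchange_mem (f : Ω → Fin b) (bar : Ω → Ω) (hbne : ∀ x, bar x ≠ x)
    (hbf : ∀ x, f (bar x) = f x) (hbu : ∀ x z, f z = f x → z = x ∨ z = bar x)
    (x y : Ω) (hxy : f x ≠ f y) :
    swap x y * swap (bar x) (bar y) ∈ partStab f ⊓ alternatingGroup Ω := by
  have hx_y : x ≠ y := by rintro rfl; exact hxy rfl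
  have hbx_by : bar x ≠ bar y := by
    intro h; apply hxy; rw [← hbf x, h, hbf y]
  have hx_by : x ≠ bar y := by
    intro h; apply hxy; rw [h, hbf y]
  have hbx_y : bar x ≠ y := by
    intro h; apply hxy; rw [← hbf x, h]
  refine ⟨?_, Equiv.Perm.mem_alternatingGroup.mpr ?_⟩
  · have hτ : ∀ z, f ((swap x y * swap (bar x) (bar y)) z) = swap (f x) (f y) (f z) := by
      intro z
      rw [Perm.mul_apply]
      by_cases h1 : z = x
      · subst h1
        rw [swap_apply_of_ne_of_ne (hbne z).symm hx_by, swap_apply_left, swap_apply_left]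
      by_cases h2 : z = bar x
      · subst h2
        rw [swap_apply_left, swap_apply_of_ne_of_ne hx_by.symm (hbne y), hbf y, hbf x,
          swap_apply_left]
      by_cases h3 : z = y
      · subst h3
        rw [swap_apply_of_ne_of_ne hbx_y.symm (hbne z).symm, swap_apply_right, swap_apply_right]
      by_cases h4 : z = bar y
      · subst h4
        rw [swap_apply_right, swap_apply_of_ne_of_ne (hbne x) hbx_y, hbf y, hbf x,
          swap_apply_right]
      have h5 : f z ≠ f x := fun h => (hbu x z h).elim h1 h2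
      have h6 : f z ≠ f y := fun h => (hbu y z h).elim h3 h4
      rw [swap_apply_of_ne_of_ne h2 h4, swap_apply_of_ne_of_ne h1 h3,
        swap_apply_of_ne_of_ne h5 h6]
    intro u v
    rw [hτ u, hτ v]
    exact ((swap (f x) (f y)).injective.eq_iff).symm
  · rw [map_mul, Equiv.Perm.sign_swap hx_y, Equiv.Perm.sign_swap hbx_by]
    rfl

theorem exists_fin_notMem {b : ℕ} (s : Finset (Fin b)) (h : s.card < b) : ∃ j, j ∉ s := by
  by_contra hcon
  push Not at hcon
  have : s = Finset.univ := Finset.eq_univ_iff_forall.mpr hcon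
  rw [this, Finset.card_univ, Fintype.card_fin] at h
  exact lt_irrefl _ h

theorem swap_calc1 (A T C : Perm Ω) (hT : T * T = 1) (hcomm : T * C = C * T) :
    A * T * (C * T) = A * C := by
  rw [mul_assoc A T, ← mul_assoc T C T, hcomm, mul_assoc C T T, hT, mul_one]

theorem swap_calc2 (A B C : Perm Ω) (hA : A * A = 1) (hcomm : A * B = B * A) :
    A * B * (A * C) = B * C := by
  rw [hcomm, mul_assoc B A, ← mul_assoc A A C, hA, one_mul]

theorem swap_comm_of_nodup {x y z t : Ω} (hxy : x ≠ y) (hxz : x ≠ z) (hxt : x ≠ t)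
    (hyz : y ≠ z) (hyt : y ≠ t) (hzt : z ≠ t) :
    swap x y * swap z t = swap z t * swap x y := by
  apply (Equiv.Perm.disjoint_swap_swap ?_).commute.eq
  simp [hxy, hxz, hxt, hyz, hyt, hzt]

/-- When fibres have two points, a group containing the even part but not preserving the
partition contains a 3-cycle (the number of fibres being at least 3 and not 4). -/
theorem exists_threeCycle_of_two (f : Ω → Fin b) (hb3 : 3 ≤ b) (hb4 : b ≠ 4)
    (hf : ∀ i : Fin b, Nat.card {x : Ω // f x = i} = 2)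
    (X : Subgroup (Perm Ω)) (hEX : partStab f ⊓ alternatingGroup Ω ≤ X)
    (hX : ¬ X ≤ partStab f) : ∃ c ∈ X, c.IsThreeCycle := by
  choose bar hbne hbf hbu using exists_partner f hf
  have hbb : ∀ x, bar (bar x) = x := by
    intro x
    rcases hbu (bar x) x (hbf x).symm with h | h
    · exact absurd h.symm (hbne x)
    · exact h.symm
  have hbinj : ∀ x y, bar x = bar y → x = y := by
    intro x y h
    rw [← hbb x, h, hbb y]
  -- Step 0: a fibre torn apart by an element of X
  have step0 : ∃ g ∈ X, ∃ x, f (g x) ≠ f (g (bar x)) := by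
    obtain ⟨g, hgX, hgP⟩ := SetLike.not_le_iff_exists.mp hX
    rw [mem_partStab] at hgP
    push Not at hgP
    obtain ⟨x, y, hxy⟩ := hgP
    rcases hxy with ⟨h1, h2⟩ | ⟨h1, h2⟩
    · refine ⟨g, hgX, x, ?_⟩
      rcases hbu x y h1.symm with h | h
      · exact absurd (by rw [h]) h2
      · rw [← h]; exact h2
    · refine ⟨g⁻¹, X.inv_mem hgX, g x, ?_⟩
      have hne : g y ≠ g x := by
        intro h; apply h1; rw [g.injective h]
      rcases hbu (g x) (g y) h2.symm with h | h
      · exact absurd h hne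
      · rw [← h]; simpa using h1
  obtain ⟨g, hgX, x, hne⟩ := step0
  have hu_u' : g x ≠ g (bar x) := by
    intro h; apply hne; rw [h]
  have hu'_bu : g (bar x) ≠ bar (g x) := by
    intro h; apply hne; rw [h, hbf]
  -- y₀
  obtain ⟨y₀, hy₀⟩ : ∃ y₀, g y₀ = bar (g x) := ⟨g⁻¹ (bar (g x)), by simp⟩
  have hy₀x : y₀ ≠ x := by
    rintro rfl; exact hbne _ hy₀.symm
  have hy₀bx : y₀ ≠ bar x := by
    rintro rfl; exact hu'_bu hy₀
  have hfy₀ : f y₀ ≠ f x := fun h => (hbu x y₀ h).elim hy₀x hy₀bx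
  -- fibre j
  obtain ⟨j, hj⟩ := exists_fin_notMem ({f x, f y₀} : Finset (Fin b))
    (lt_of_le_of_lt Finset.card_le_two (by omega))
  have hj1 : j ≠ f x := by
    intro h; apply hj; simp [h]
  have hj2 : j ≠ f y₀ := by
    intro h; apply hj; simp [h]
  obtain ⟨z, hz⟩ := exists_mem_fibre f (le_refl 2) hf j
  -- points of fibre j are sent away from u, u', bar u, w
  have hjq : ∀ q, f q = j → g q ≠ g x ∧ g q ≠ g (bar x) ∧ g q ≠ bar (g x) ∧ g q ≠ g (bar y₀) := by
    intro q hq
    refine ⟨?_, ?_, ?_, ?_⟩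
    · intro h; apply hj1; rw [← hq, g.injective h]
    · intro h; apply hj1; rw [← hq, g.injective h, hbf]
    · rw [← hy₀]; intro h; apply hj2; rw [← hq, g.injective h]
    · intro h; apply hj2; rw [← hq, g.injective h, hbf]
  obtain ⟨hv1, hv2, hv3, hv4⟩ := hjq z hz
  obtain ⟨hv'1, hv'2, hv'3, hv'4⟩ := hjq (bar z) ((hbf z).trans hz)
  have hvv' : g z ≠ g (bar z) := by
    intro h; exact hbne z (g.injective h).symm
  -- s
  have hsX : swap (g x) (g (bar x)) * swap (g z) (g (bar z)) ∈ X := by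
    rw [← conj_two_swaps]
    refine X.mul_mem (X.mul_mem hgX (hEX ?_)) (X.inv_mem hgX)
    exact two_swaps_mem f (hbf x).symm (hbf z).symm (hbne x).symm (hbne z).symm
  -- Sub 2a
  have sub2a : f (g z) = f (g (bar z)) → ∃ c ∈ X, c.IsThreeCycle := by
    intro hfv
    have hc : swap (g x) (bar (g x)) * swap (g z) (g (bar z)) ∈ X :=
      hEX (two_swaps_mem f (hbf _).symm hfv (hbne _).symm hvv')
    refine ⟨_, X.mul_mem hsX hc, ?_⟩
    rw [swap_calc1 _ _ _ (swap_mul_self _ _)
      (swap_comm_of_nodup hvv' hv1 hv3 hv'1 hv'3 (hbne _).symm)]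
    exact Equiv.Perm.isThreeCycle_swap_mul_swap_same hu_u' (hbne _).symm hu'_bu
  have hb35 : b = 3 ∨ 5 ≤ b := by omega
  rcases hb35 with hb | hb5
  · -- three fibres
    subst hb
    by_cases hw : g (bar y₀) = bar (g (bar x))
    · apply sub2a
      have pig : ∀ i₁ i₂ i₃ i₄ : Fin 3, i₁ ≠ i₂ → i₃ ≠ i₁ → i₃ ≠ i₂ → i₄ ≠ i₁ → i₄ ≠ i₂ →
          i₃ = i₄ := by decide
      have hq : ∀ q, f q = j → f (g q) ≠ f (g x) ∧ f (g q) ≠ f (g (bar x)) := by
        intro q hq
        obtain ⟨h1, h2, h3, h4⟩ := hjq q hq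
        refine ⟨fun h => (hbu _ _ h).elim h1 h3, fun h => (hbu _ _ h).elim h2 ?_⟩
        rw [← hw]; exact h4
      exact pig _ _ _ _ hne (hq z hz).1 (hq z hz).2 (hq (bar z) ((hbf z).trans hz)).1
        (hq (bar z) ((hbf z).trans hz)).2
    · -- Case 1
      have hπX : swap (g x) (bar (g x)) * swap (g (bar x)) (g (bar y₀)) ∈ X := by
        rw [← hy₀, ← conj_two_swaps]
        refine X.mul_mem (X.mul_mem hgX (hEX ?_)) (X.inv_mem hgX)
        exact exchange_mem f bar hbne hbf hbu x y₀ (Ne.symm hfy₀)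
      have hc : swap (g x) (bar (g x)) * swap (g (bar x)) (bar (g (bar x))) ∈ X :=
        hEX (two_swaps_mem f (hbf _).symm (hbf _).symm (hbne _).symm (hbne _).symm)
      have hu_w : g x ≠ g (bar y₀) := by
        intro h
        apply hy₀bx
        rw [g.injective h, hbb]
      have hbu_w : bar (g x) ≠ g (bar y₀) := by
        rw [← hy₀]; intro h; exact hbne y₀ (g.injective h).symm
      have hu'_w : g (bar x) ≠ g (bar y₀) := by
        intro h; exact hy₀x (hbinj _ _ (g.injective h)).symm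
      refine ⟨_, X.mul_mem hπX hc, ?_⟩
      rw [swap_calc2 _ _ _ (swap_mul_self _ _)
        (swap_comm_of_nodup (hbne _).symm hu_u' hu_w hu'_bu.symm hbu_w hu'_w)]
      exact Equiv.Perm.isThreeCycle_swap_mul_swap_same hu'_w (hbne _).symm hw
  · -- at least five fibres
    obtain ⟨m, hm⟩ := exists_fin_notMem
      ({f (g x), f (g (bar x)), f (g z), f (g (bar z))} : Finset (Fin b))
      (lt_of_le_of_lt Finset.card_le_four (by omega))
    have hm1 : m ≠ f (g x) := by
      intro h; apply hm; simp [h]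
    have hm2 : m ≠ f (g (bar x)) := by
      intro h; apply hm; simp [h]
    have hm3 : m ≠ f (g z) := by
      intro h; apply hm; simp [h]
    have hm4 : m ≠ f (g (bar z)) := by
      intro h; apply hm; simp [h]
    obtain ⟨t, ht⟩ := exists_mem_fibre f (le_refl 2) hf m
    have hmq : ∀ q, f q = m → q ≠ g x ∧ q ≠ g (bar x) ∧ q ≠ g z ∧ q ≠ g (bar z) ∧
        q ≠ bar (g x) := by
      intro q hq
      refine ⟨?_, ?_, ?_, ?_, ?_⟩
      · rintro rfl; exact hm1 hq.symm
      · rintro rfl; exact hm2 hq.symm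
      · rintro rfl; exact hm3 hq.symm
      · rintro rfl; exact hm4 hq.symm
      · rintro rfl; exact hm1 (hq.symm.trans (hbf _))
    obtain ⟨ht1, ht2, ht3, ht4, ht5⟩ := hmq t ht
    obtain ⟨hbt1, hbt2, hbt3, hbt4, hbt5⟩ := hmq (bar t) ((hbf t).trans ht)
    set s := swap (g x) (g (bar x)) * swap (g z) (g (bar z)) with hs
    have hc : swap (g x) (bar (g x)) * swap t (bar t) ∈ X :=
      hEX (two_swaps_mem f (hbf _).symm (hbf _).symm (hbne _).symm (hbne _).symm)
    have hsu : s (g x) = g (bar x) := by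
      rw [hs, Perm.mul_apply, swap_apply_of_ne_of_ne hv1.symm hv'1.symm, swap_apply_left]
    have hsbu : s (bar (g x)) = bar (g x) := by
      rw [hs, Perm.mul_apply, swap_apply_of_ne_of_ne hv3.symm hv'3.symm,
        swap_apply_of_ne_of_ne (hbne _) hu'_bu.symm]
    have hst : s t = t := by
      rw [hs, Perm.mul_apply, swap_apply_of_ne_of_ne ht3 ht4, swap_apply_of_ne_of_ne ht1 ht2]
    have hsbt : s (bar t) = bar t := by
      rw [hs, Perm.mul_apply, swap_apply_of_ne_of_ne hbt3 hbt4,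
        swap_apply_of_ne_of_ne hbt1 hbt2]
    have hconj : s * (swap (g x) (bar (g x)) * swap t (bar t)) * s⁻¹ ∈ X :=
      X.mul_mem (X.mul_mem hsX hc) (X.inv_mem hsX)
    rw [conj_two_swaps, hsu, hsbu, hst, hsbt] at hconj
    refine ⟨_, X.mul_mem hc hconj, ?_⟩
    rw [swap_calc1 _ _ _ (swap_mul_self _ _)
      (swap_comm_of_nodup (hbne _).symm ht2 ht5 hbt2 hbt5 hu'_bu)]
    rw [swap_comm (g x), swap_comm (g (bar x))]
    exact Equiv.Perm.isThreeCycle_swap_mul_swap_same (hbne _) hu'_bu.symm hu_u'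

theorem arith_four : ∀ e < 13, ∀ x < 13, 4 ∣ e → e ∣ x → x ∣ 12 → e < x → x = 12 := by
  intro e he x hx h1 h2 h3 h4
  interval_cases e <;> first | omega | (interval_cases x <;> omega)

/-- Maximality of the even part of `partStab f` among subgroups of the alternating group. -/
theorem eq_alternatingGroup_of_lt (h8 : Fintype.card Ω ≠ 8) (a : ℕ) (ha : 2 ≤ a) (hb : 2 ≤ b)
    (f : Ω → Fin b) (hf : ∀ i : Fin b, Nat.card {x : Ω // f x = i} = a)
    (X : Subgroup (Perm Ω)) (hEX : partStab f ⊓ alternatingGroup Ω ≤ X)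
    (hXA : X ≤ alternatingGroup Ω) (hne : X ≠ partStab f ⊓ alternatingGroup Ω) :
    X = alternatingGroup Ω := by
  have hcard := card_eq_mul f hf
  have hXP : ¬ X ≤ partStab f := fun h => hne (le_antisymm (le_inf h hXA) hEX)
  by_cases h3 : 3 ≤ a ∨ 3 ≤ b
  · rcases le_partStab_or_isPreprimitive f ha hb hf h3 X hEX with h | hprim
    · exact absurd h hXP
    have h3c : ∃ c ∈ X, c.IsThreeCycle := by
      by_cases ha3 : 3 ≤ a
      · obtain ⟨c, hc, hc3⟩ := exists_threeCycle_of_three_le f ha3 hb hf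
        exact ⟨c, hEX hc, hc3⟩
      · have ha2 : a = 2 := by omega
        subst ha2
        have hb3 : 3 ≤ b := by
          rcases h3 with h | h
          · exact absurd h ha3
          · exact h
        have hb4 : b ≠ 4 := by
          rintro rfl
          exact h8 hcard
        exact exists_threeCycle_of_two f hb3 hb4 hf X hEX hXP
    obtain ⟨c, hc, hc3⟩ := h3c
    exact le_antisymm hXA
      (Equiv.Perm.alternatingGroup_le_of_isPreprimitive_of_isThreeCycle_mem hprim hc3 hc)
  · -- four points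
    have ha2 : a = 2 := by omega
    have hb2 : b = 2 := by omega
    subst ha2
    subst hb2
    have hcard4 : Nat.card Ω = 4 := by rw [Nat.card_eq_fintype_card, hcard]
    have : Nontrivial Ω := by
      rw [← Fintype.one_lt_card_iff_nontrivial, hcard]; norm_num
    have hA : Nat.card (alternatingGroup Ω) = 12 := by
      rw [nat_card_alternatingGroup, hcard4]; decide
    -- transitivity of the even part
    have htrans : MulAction.IsPretransitive (↥(partStab f ⊓ alternatingGroup Ω)) Ω := by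
      refine ⟨fun x y => ?_⟩
      obtain ⟨g, hg, hgx⟩ := exists_move_even f ha hb hf x y
      exact ⟨⟨g, hg⟩, hgx⟩
    obtain ⟨x0, -⟩ := exists_mem_fibre f ha hf ⟨0, by omega⟩
    have h4E : 4 ∣ Nat.card (↥(partStab f ⊓ alternatingGroup Ω)) := by
      rw [← hcard4, ← MulAction.index_stabilizer_of_transitive
        (↥(partStab f ⊓ alternatingGroup Ω)) x0]
      exact Subgroup.index_dvd_card _
    have hEdvd : Nat.card (↥(partStab f ⊓ alternatingGroup Ω)) ∣ Nat.card X :=
      Subgroup.card_dvd_of_le hEX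
    have hXdvd : Nat.card X ∣ 12 := by
      rw [← hA]; exact Subgroup.card_dvd_of_le hXA
    have hlt : Nat.card (↥(partStab f ⊓ alternatingGroup Ω)) < Nat.card X := by
      by_contra hcon
      push Not at hcon
      exact hne (Subgroup.eq_of_le_of_card_ge hEX hcon).symm
    have hXle : Nat.card X < 13 := Nat.lt_succ_of_le (Nat.le_of_dvd (by norm_num) hXdvd)
    have hX12 : Nat.card X = 12 :=
      arith_four _ (lt_trans hlt hXle) _ hXle h4E hEdvd hXdvd hlt
    exact Subgroup.eq_of_le_of_card_ge hXA (by rw [hA, hX12])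

/-- The even part of `partStab f` is a proper subgroup of the alternating group. -/
theorem exists_even_notMem (f : Ω → Fin b) {a : ℕ} (ha : 2 ≤ a) (hb : 2 ≤ b)
    (hf : ∀ i : Fin b, Nat.card {x : Ω // f x = i} = a) :
    ∃ c ∈ alternatingGroup Ω, c ∉ partStab f := by
  obtain ⟨x, -⟩ := exists_mem_fibre f ha hf ⟨0, by omega⟩
  obtain ⟨x', hx'ne, hx'⟩ := exists_other f ha hf x
  obtain ⟨y, y', -, -, hyx⟩ := exists_pair_other_fibre f ha hb hf (f x)
  have hxy : x ≠ y := by rintro rfl; exact hyx rfl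
  have hx'y : x' ≠ y := by rintro rfl; exact hyx hx'
  refine ⟨swap x y * swap x x', Equiv.Perm.mem_alternatingGroup.mpr ?_, fun hmem => ?_⟩
  · rw [map_mul, Equiv.Perm.sign_swap hxy, Equiv.Perm.sign_swap hx'ne.symm]
    rfl
  · have := (hmem x x').mp hx'.symm
    rw [Perm.mul_apply, Perm.mul_apply, swap_apply_left, swap_apply_right,
      swap_apply_of_ne_of_ne hx'ne hx'y, swap_apply_left] at this
    exact hyx (this.symm.trans hx')

end Cfsg.Agent.Helper29
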